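import Mathlib
import Cfsg.Prelude.Def_ClassicalGeometry

set_option autoImplicit false

namespace Cfsg.Agent.Lib.Helper6

open Matrix

section

variable {ι : Type} [Fintype ι] [DecidableEq ι] {F : Type*} [Field F]

/-- the polar vector represents the polar form -/
theorem polarVec_dot (Q : QuadraticForm F (ι → F)) (v x : ι → F) :
    Cfsg.polarVec ⇑Q v ⬝ᵥ x = QuadraticMap.polar ⇑Q v x := by
  have h := LinearMap.pi_apply_eq_sum_univ (QuadraticMap.polarBilin Q v) x
  simp only [QuadraticMap.polarBilin_apply_apply, smul_eq_mul] at h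
  rw [h]
  simp only [dotProduct, Cfsg.polarVec]
  apply Finset.sum_congr rfl
  intro j _
  rw [mul_comm]
  congr 2
  ext k
  simp [Pi.single_apply, eq_comm]

theorem reflectionMatrix_mulVec (Q : QuadraticForm F (ι → F)) (v x : ι → F) :
    (Cfsg.reflectionMatrix ⇑Q v) *ᵥ x = x - ((Q v)⁻¹ * QuadraticMap.polar ⇑Q v x) • v := by
  unfold Cfsg.reflectionMatrix
  rw [sub_mulVec, one_mulVec, smul_mulVec, vecMulVec_mulVec, polarVec_dot]
  congr 1
  ext i
  simp only [Pi.smul_apply, MulOpposite.smul_eq_mul_unop, MulOpposite.unop_op, smul_eq_mul]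
  ring

theorem siegelMatrix_mulVec (Q : QuadraticForm F (ι → F)) (u v : ι → F) (c : F) (x : ι → F) :
    (Cfsg.siegelMatrix ⇑Q u v c) *ᵥ x =
      x + (c * QuadraticMap.polar ⇑Q u x) • v - (c * QuadraticMap.polar ⇑Q v x) • u := by
  unfold Cfsg.siegelMatrix
  rw [add_mulVec, one_mulVec, smul_mulVec, sub_mulVec, vecMulVec_mulVec, vecMulVec_mulVec, polarVec_dot,
    polarVec_dot]
  ext i
  simp only [Pi.add_apply, Pi.sub_apply, Pi.smul_apply, MulOpposite.smul_eq_mul_unop, MulOpposite.unop_op,
    smul_eq_mul]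
  ring

/-- determinant of a rank-one perturbation of the identity -/
theorem det_one_add_smul_vecMulVec (c : F) (u w : ι → F) :
    (1 + c • vecMulVec u w).det = 1 + c * (w ⬝ᵥ u) := by
  have : c • vecMulVec u w = replicateCol Unit (c • u) * replicateRow Unit w := by
    rw [← Matrix.vecMulVec_eq Unit, Matrix.smul_vecMulVec]
  rw [this, det_one_add_replicateCol_mul_replicateRow, dotProduct_smul, smul_eq_mul]

theorem Q_add (Q : QuadraticForm F (ι → F)) (x y : ι → F) :
    Q (x + y) = Q x + Q y + QuadraticMap.polar ⇑Q x y := by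
  unfold QuadraticMap.polar; ring

theorem Q_smul (Q : QuadraticForm F (ι → F)) (a : F) (x : ι → F) : Q (a • x) = a * a * Q x := by
  rw [QuadraticMap.map_smul, smul_eq_mul]

theorem Q_sub (Q : QuadraticForm F (ι → F)) (x y : ι → F) :
    Q (x - y) = Q x + Q y - QuadraticMap.polar ⇑Q x y := by
  rw [sub_eq_add_neg, Q_add, QuadraticMap.map_neg, QuadraticMap.polar_neg_right]
  ring

end

end Cfsg.Agent.Lib.Helper6
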