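import Mathlib
import Cfsg.Agent.S0792
import Cfsg.Agent.Lib.Helper14.OrthoTransfer

/-!
# The spinor norm over finite fields of odd order, via the sign of the action on a level set

For a quadratic form `Q` on `F^n` (`F` finite of odd order, `n ≥ 2`, nondegenerate polar form) the
commutator subgroup `Ω` of the isometry group has index `4`; it is the intersection of the kernels of
the determinant and of a homomorphism `θ` to `ℤˣ` taking the reflection in `v` to the quadratic
character of `Q v`.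
-/

set_option autoImplicit false
open Cfsg

namespace Cfsg.Agent.Lib.Helper6

open Matrix Cfsg.Agent.Lib.Helper14

/-- sign of an involution -/
theorem sign_of_sq_eq_one {X : Type*} [Fintype X] [DecidableEq X] (π : Equiv.Perm X)
    (hπ : π ^ 2 = 1) : Equiv.Perm.sign π = (-1) ^ (π.support.card / 2) := by
  have h1 : π.cycleType = Multiset.replicate (Multiset.card π.cycleType) 2 :=
    Equiv.Perm.cycleType_of_pow_prime_eq_one hπ
  have h2 : π.cycleType.sum = π.support.card := Equiv.Perm.sum_cycleType π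
  have h3 : π.support.card = Multiset.card π.cycleType * 2 := by
    rw [← h2]
    nth_rewrite 1 [h1]
    rw [Multiset.sum_replicate, smul_eq_mul]
  rw [Equiv.Perm.sign_of_cycleType, h2, h3, Nat.mul_div_cancel _ (by norm_num : 0 < 2), pow_add,
    pow_mul]
  simp

theorem card_support_add_card_fixed {X : Type*} [Fintype X] [DecidableEq X] (π : Equiv.Perm X) :
    π.support.card + Nat.card {x : X // π x = x} = Nat.card X := by
  rw [Nat.card_eq_fintype_card, Nat.card_eq_fintype_card, Fintype.card_subtype]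
  have : π.support = Finset.univ.filter (fun x => ¬ π x = x) := by
    ext x
    simp only [Equiv.Perm.mem_support, Finset.mem_filter, Finset.mem_univ, true_and]
  rw [this, add_comm]
  exact Finset.card_filter_add_card_filter_not (fun x => π x = x)

/-- parity of a finite set with an involution -/
theorem card_mod_two_of_involution {X : Type*} [Fintype X] [DecidableEq X] (f : X → X)
    (hf : ∀ x, f (f x) = x) :
    Fintype.card X % 2 = Fintype.card {x : X // f x = x} % 2 := by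
  let π : Equiv.Perm X := ⟨f, f, hf, hf⟩
  have hπ : π ^ 2 = 1 := by
    ext x
    simp only [sq, Equiv.Perm.mul_apply, Equiv.Perm.one_apply]
    exact hf x
  have h1 := Equiv.Perm.two_dvd_card_support hπ
  have h2 : π.support.card + Fintype.card {x : X // f x = x} = Fintype.card X := by
    rw [Fintype.card_subtype]
    have : π.support = Finset.univ.filter (fun x => ¬ f x = x) := by
      ext x
      simp only [Equiv.Perm.mem_support, Finset.mem_filter, Finset.mem_univ, true_and]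
      rfl
    rw [this, add_comm]
    exact Finset.card_filter_add_card_filter_not (fun x => f x = x)
  omega

section refl
variable {F : Type*} [Field F] {n : ℕ} (Q : QuadraticForm F (Fin n → F))

/-- the reflection as an element of the isometry group -/
def mkRefl (a : Fin n → F) (ha : Q a ≠ 0) : ↥(Cfsg.isometryGroup F ⇑Q) :=
  ⟨⟨Cfsg.reflectionMatrix ⇑Q a, Cfsg.reflectionMatrix ⇑Q a, Cfsg.Agent.S0792.refl_refl Q a ha,
    Cfsg.Agent.S0792.refl_refl Q a ha⟩, by
    rw [Cfsg.Agent.S0785.mem_isometryGroup_iff]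
    exact (Cfsg.Agent.S0784.result Q a ha).1⟩

theorem mkRefl_val (a : Fin n → F) (ha : Q a ≠ 0) :
    (((mkRefl Q a ha : ↥(Cfsg.isometryGroup F ⇑Q)) : Matrix.GeneralLinearGroup (Fin n) F) :
      Matrix (Fin n) (Fin n) F) = Cfsg.reflectionMatrix ⇑Q a := rfl

theorem mkRefl_mul_self (a : Fin n → F) (ha : Q a ≠ 0) : mkRefl Q a ha * mkRefl Q a ha = 1 := by
  apply Subtype.ext
  apply Units.ext
  exact Cfsg.Agent.S0792.refl_refl Q a ha

theorem eq_mkRefl (a : Fin n → F) (ha : Q a ≠ 0) (r : ↥(Cfsg.isometryGroup F ⇑Q))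
    (hr : ((r : Matrix.GeneralLinearGroup (Fin n) F) : Matrix (Fin n) (Fin n) F) =
      Cfsg.reflectionMatrix ⇑Q a) : r = mkRefl Q a ha := by
  apply Subtype.ext
  apply Units.ext
  exact hr

/-- the matrix of an isometry -/
abbrev imat (g : ↥(Cfsg.isometryGroup F ⇑Q)) : Matrix (Fin n) (Fin n) F :=
  ((g : Matrix.GeneralLinearGroup (Fin n) F) : Matrix (Fin n) (Fin n) F)

theorem imat_mul (g h : ↥(Cfsg.isometryGroup F ⇑Q)) : imat Q (g * h) = imat Q g * imat Q h := rfl

theorem imat_inv_mul (g : ↥(Cfsg.isometryGroup F ⇑Q)) : imat Q g⁻¹ * imat Q g = 1 := by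
  rw [← imat_mul, inv_mul_cancel]
  rfl

theorem imat_mul_inv (g : ↥(Cfsg.isometryGroup F ⇑Q)) : imat Q g * imat Q g⁻¹ = 1 := by
  rw [← imat_mul, mul_inv_cancel]
  rfl

theorem refl_smul (a : Fin n → F) (t : F) (ht : t ≠ 0) :
    Cfsg.reflectionMatrix ⇑Q (t • a) = Cfsg.reflectionMatrix ⇑Q a := by
  apply matrix_ext_mulVec
  intro x
  rw [reflectionMatrix_mulVec, reflectionMatrix_mulVec, Q_smul, QuadraticMap.polar_smul_left,
    smul_smul, smul_eq_mul]
  congr 2
  by_cases ha : Q a = 0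
  · simp [ha]
  · field_simp

/-- conjugating a reflection by an isometry -/
theorem conj_refl (g : ↥(Cfsg.isometryGroup F ⇑Q)) (a : Fin n → F) (ha : Q a ≠ 0)
    (ha' : Q (imat Q g *ᵥ a) ≠ 0) :
    g * mkRefl Q a ha * g⁻¹ = mkRefl Q (imat Q g *ᵥ a) ha' := by
  apply eq_mkRefl
  change imat Q g * Cfsg.reflectionMatrix ⇑Q a * imat Q g⁻¹ = _
  apply matrix_ext_mulVec
  intro x
  rw [← Matrix.mulVec_mulVec, ← Matrix.mulVec_mulVec, reflectionMatrix_mulVec,
    reflectionMatrix_mulVec, Matrix.mulVec_sub, Matrix.mulVec_smul, Matrix.mulVec_mulVec,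
    imat_mul_inv, Matrix.one_mulVec, Cfsg.Agent.S0792.pres Q g a]
  congr 3
  have h1 := Cfsg.Agent.S0792.pres_polar Q g a (imat Q g⁻¹ *ᵥ x)
  rw [Matrix.mulVec_mulVec, imat_mul_inv, Matrix.one_mulVec] at h1
  exact h1.symm

/-- reflections in vectors whose norms differ by a square are conjugate -/
theorem refl_isConj (h2 : (2 : F) ≠ 0) (a b : Fin n → F) (ha : Q a ≠ 0) (hb : Q b ≠ 0) (t : F)
    (hab : Q b = t * t * Q a) : IsConj (mkRefl Q a ha) (mkRefl Q b hb) := by
  have ht : t ≠ 0 := by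
    rintro rfl
    apply hb
    rw [hab]; ring
  have hta : Q (t • a) ≠ 0 := by
    rw [Q_smul, ← hab]; exact hb
  have hQ : Q (t • a) = Q b := by rw [Q_smul, hab]
  have e0 : mkRefl Q a ha = mkRefl Q (t • a) hta := by
    apply eq_mkRefl
    rw [refl_smul Q a t ht]
    rfl
  rw [e0]
  -- move `t • a` to `± b`
  have hsum : Q (t • a - b) + Q (t • a + b) = 4 * Q b := by
    rw [Q_sub, Q_add, hQ]; ring
  have h4 : (4 : F) ≠ 0 := by
    have : (4 : F) = 2 * 2 := by norm_num
    rw [this]; exact mul_ne_zero h2 h2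
  by_cases h1 : Q (t • a - b) ≠ 0
  · rw [isConj_iff]
    refine ⟨mkRefl Q (t • a - b) h1, ?_⟩
    have hmv : imat Q (mkRefl Q (t • a - b) h1) *ᵥ (t • a) = b :=
      Cfsg.Agent.S0792.refl_move1 Q (t • a) b hQ h1
    have := conj_refl Q (mkRefl Q (t • a - b) h1) (t • a) hta (by rw [hmv]; exact hb)
    rw [this]
    apply eq_mkRefl
    rw [mkRefl_val, hmv]
  · push Not at h1
    have h3 : Q (t • a + b) ≠ 0 := by
      intro h
      rw [h1, h, add_zero] at hsum
      exact mul_ne_zero h4 hb hsum.symm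
    rw [isConj_iff]
    refine ⟨mkRefl Q (t • a + b) h3, ?_⟩
    have hmv : imat Q (mkRefl Q (t • a + b) h3) *ᵥ (t • a) = -b :=
      Cfsg.Agent.S0792.refl_move2 Q (t • a) b hQ h3
    have hnb : Q (-b) ≠ 0 := by
      have : Q (-b) = Q b := by
        have := Q_smul Q (-1) b
        rw [neg_one_smul] at this
        rw [this]; ring
      rw [this]; exact hb
    have := conj_refl Q (mkRefl Q (t • a + b) h3) (t • a) hta (by rw [hmv]; exact hnb)
    rw [this]
    apply eq_mkRefl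
    rw [mkRefl_val, hmv]
    have := refl_smul Q b (-1) (by norm_num)
    rw [neg_one_smul] at this
    exact this

theorem refl_fixed_iff (a x : Fin n → F) (ha : Q a ≠ 0) :
    Cfsg.reflectionMatrix ⇑Q a *ᵥ x = x ↔ QuadraticMap.polar ⇑Q a x = 0 := by
  rw [reflectionMatrix_mulVec]
  have ha0 : a ≠ 0 := by
    rintro rfl
    exact ha (map_zero Q)
  constructor
  · intro h
    have h1 : ((Q a)⁻¹ * QuadraticMap.polar ⇑Q a x) • a = 0 := by
      have := sub_eq_self.mp h
      exact this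
    rcases smul_eq_zero.mp h1 with h | h
    · rcases mul_eq_zero.mp h with h | h
      · exact absurd h (inv_ne_zero ha)
      · exact h
    · exact absurd h ha0
  · intro h
    rw [h, mul_zero, zero_smul, sub_zero]

end refl

section level
variable {F : Type*} [Field F] [Fintype F] [DecidableEq F] {n : ℕ}
  (Q : QuadraticForm F (Fin n → F))

/-- the size of a level set -/
noncomputable def lvlCount (c : F) : ℕ := Nat.card {x : Fin n → F // Q x = c}

/-- the number of points of a level set orthogonal to `v` -/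
noncomputable def fixCount (c : F) (v : Fin n → F) : ℕ :=
  Nat.card {x : Fin n → F // Q x = c ∧ QuadraticMap.polar ⇑Q v x = 0}

theorem card_support_refl (c : F) (a : Fin n → F) (ha : Q a ≠ 0) :
    (levelPerm ⇑Q c (mkRefl Q a ha)).support.card + fixCount Q c a = lvlCount Q c := by
  unfold lvlCount
  rw [← card_support_add_card_fixed (levelPerm ⇑Q c (mkRefl Q a ha))]
  congr 1
  unfold fixCount
  apply Nat.card_congr
  refine
    { toFun := fun x => ⟨⟨x.1, x.2.1⟩, ?_⟩
      invFun := fun x => ⟨x.1.1, x.1.2, ?_⟩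
      left_inv := fun x => rfl
      right_inv := fun x => rfl }
  · apply Subtype.ext
    rw [levelPerm_apply]
    exact (refl_fixed_iff Q a x.1 ha).mpr x.2.2
  · have := congrArg Subtype.val x.2
    rw [levelPerm_apply] at this
    exact (refl_fixed_iff Q a x.1.1 ha).mp this

theorem levelPerm_refl_sq (c : F) (a : Fin n → F) (ha : Q a ≠ 0) :
    (levelPerm ⇑Q c (mkRefl Q a ha)) ^ 2 = 1 := by
  rw [← map_pow, sq, mkRefl_mul_self, map_one]

theorem sign_refl (c : F) (a : Fin n → F) (ha : Q a ≠ 0) :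
    Equiv.Perm.sign (levelPerm ⇑Q c (mkRefl Q a ha)) =
      (-1) ^ ((lvlCount Q c - fixCount Q c a) / 2) := by
  rw [sign_of_sq_eq_one _ (levelPerm_refl_sq Q c a ha)]
  have := card_support_refl Q c a ha
  congr 2
  omega

/-- the vectors orthogonal to `v` and `u` -/
abbrev Wset (v u : Fin n → F) : Type _ :=
  {w : Fin n → F // QuadraticMap.polar ⇑Q v w = 0 ∧ QuadraticMap.polar ⇑Q u w = 0}

/-- decomposition of the hyperplane section along an orthogonal non-singular vector -/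
theorem fixCount_eq (h2 : (2 : F) ≠ 0) (c : F) (v u : Fin n → F)
    (hvu : QuadraticMap.polar ⇑Q v u = 0) (hu : Q u ≠ 0) :
    fixCount Q c v = Nat.card {p : F × Wset Q v u // Q u * p.1 ^ 2 + Q p.2.1 = c} := by
  unfold fixCount
  apply Nat.card_congr
  have h2u : 2 * Q u ≠ 0 := mul_ne_zero h2 hu
  have hself : QuadraticMap.polar ⇑Q u u = 2 * Q u := by
    rw [QuadraticMap.polar_self, nsmul_eq_mul]
    norm_num
  refine
    { toFun := fun x => ⟨((2 * Q u)⁻¹ * QuadraticMap.polar ⇑Q u x.1,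
        ⟨x.1 - ((2 * Q u)⁻¹ * QuadraticMap.polar ⇑Q u x.1) • u, ?_, ?_⟩), ?_⟩
      invFun := fun p => ⟨p.1.1 • u + p.1.2.1, ?_, ?_⟩
      left_inv := fun x => ?_
      right_inv := fun p => ?_ }
  · rw [QuadraticMap.polar_sub_right, QuadraticMap.polar_smul_right, x.2.2, hvu, smul_zero,
      sub_zero]
  · rw [QuadraticMap.polar_sub_right, QuadraticMap.polar_smul_right, hself, smul_eq_mul]
    field_simp
    ring
  · simp only
    rw [Q_sub, Q_smul, QuadraticMap.polar_smul_right, x.2.1, smul_eq_mul,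
      QuadraticMap.polar_comm ⇑Q x.1 u]
    field_simp
    ring
  · rw [Q_add, Q_smul, QuadraticMap.polar_smul_left, p.1.2.2.2, smul_zero, add_zero]
    have := p.2
    linear_combination this
  · rw [QuadraticMap.polar_add_right, QuadraticMap.polar_smul_right, hvu, p.1.2.2.1, smul_zero,
      add_zero]
  · apply Subtype.ext
    simp only
    abel
  · have e1 : (2 * Q u)⁻¹ * QuadraticMap.polar ⇑Q u (p.1.1 • u + p.1.2.1) = p.1.1 := by
      rw [QuadraticMap.polar_add_right, QuadraticMap.polar_smul_right, hself, p.1.2.2.2, add_zero,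
        smul_eq_mul]
      field_simp
    apply Subtype.ext
    apply Prod.ext
    · exact e1
    · apply Subtype.ext
      simp only [e1]
      abel

theorem card_pairs (b c : F) {W : Type*} [Fintype W] (f : W → F) :
    Nat.card {p : F × W // b * p.1 ^ 2 + f p.2 = c} =
      ∑ w : W, Nat.card {t : F // b * t ^ 2 = c - f w} := by
  rw [← Nat.card_sigma]
  apply Nat.card_congr
  exact
    { toFun := fun p => ⟨p.1.2, ⟨p.1.1, by have := p.2; linear_combination this⟩⟩
      invFun := fun s => ⟨(s.2.1, s.1), by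
        have := s.2.2
        simp only
        rw [this]; ring⟩
      left_inv := fun p => rfl
      right_inv := fun s => rfl }

theorem ringChar_ne_two (h2 : (2 : F) ≠ 0) : ringChar F ≠ 2 := by
  intro h
  apply h2
  have := CharP.cast_eq_zero F (ringChar F)
  rw [h] at this
  exact_mod_cast this

theorem card_sq_eq (h2 : (2 : F) ≠ 0) (b d : F) (hb : b ≠ 0) :
    (Nat.card {t : F // b * t ^ 2 = d} : ℤ) = quadraticChar F (d / b) + 1 := by
  rw [← quadraticChar_card_sqrts (ringChar_ne_two h2)]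
  have : Nat.card {t : F // b * t ^ 2 = d} = Nat.card {t : F // t ^ 2 = d / b} := by
    apply Nat.card_congr
    apply Equiv.subtypeEquivRight
    intro t
    rw [eq_div_iff hb, mul_comm]
  rw [this, Nat.card_eq_fintype_card, Set.toFinset_card]
  rfl

/-- two quadrics `b₁ t² = d`, `b₂ t² = d` with `b₁ b₂` a non-square have two points in all -/
theorem card_sq_add (h2 : (2 : F) ≠ 0) (b₁ b₂ d : F) (hb₁ : b₁ ≠ 0) (hb₂ : b₂ ≠ 0)
    (hns : ¬ IsSquare (b₁ * b₂)) :
    Nat.card {t : F // b₁ * t ^ 2 = d} + Nat.card {t : F // b₂ * t ^ 2 = d} = 2 := by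
  have h1 := card_sq_eq h2 b₁ d hb₁
  have h3 := card_sq_eq h2 b₂ d hb₂
  have hsum : quadraticChar F (d / b₁) + quadraticChar F (d / b₂) = 0 := by
    by_cases hd : d = 0
    · subst hd
      simp
    · have hprod : quadraticChar F (d / b₁) * quadraticChar F (d / b₂) = -1 := by
        rw [← map_mul, quadraticChar_neg_one_iff_not_isSquare]
        rintro ⟨r, hr⟩
        apply hns
        refine ⟨d / r, ?_⟩
        have hr0 : r ≠ 0 := by
          rintro rfl
          rw [mul_zero] at hr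
          have : d / b₁ * (d / b₂) ≠ 0 :=
            mul_ne_zero (div_ne_zero hd hb₁) (div_ne_zero hd hb₂)
          exact this hr
        field_simp
        field_simp at hr
        linear_combination -hr
      rcases quadraticChar_dichotomy (F := F) (div_ne_zero hd hb₁) with h | h <;>
        rcases quadraticChar_dichotomy (F := F) (div_ne_zero hd hb₂) with h' | h' <;>
        rw [h, h'] at hprod ⊢ <;> simp at hprod ⊢
  have : ((Nat.card {t : F // b₁ * t ^ 2 = d} + Nat.card {t : F // b₂ * t ^ 2 = d} : ℕ) : ℤ) = 2 := by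
    push_cast
    rw [h1, h3]
    linear_combination hsum
  exact_mod_cast this

theorem fixCount_add (h2 : (2 : F) ≠ 0) (c : F) (v₁ u₁ v₂ u₂ : Fin n → F)
    (h₁ : QuadraticMap.polar ⇑Q v₁ u₁ = 0) (h₂ : QuadraticMap.polar ⇑Q v₂ u₂ = 0)
    (hu₁ : Q u₁ ≠ 0) (hu₂ : Q u₂ ≠ 0)
    (hW : ∀ w, (QuadraticMap.polar ⇑Q v₁ w = 0 ∧ QuadraticMap.polar ⇑Q u₁ w = 0) ↔
      (QuadraticMap.polar ⇑Q v₂ w = 0 ∧ QuadraticMap.polar ⇑Q u₂ w = 0))
    (hns : ¬ IsSquare (Q u₁ * Q u₂)) :
    fixCount Q c v₁ + fixCount Q c v₂ = 2 * Nat.card (Wset Q v₁ u₁) := by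
  classical
  rw [fixCount_eq Q h2 c v₁ u₁ h₁ hu₁, fixCount_eq Q h2 c v₂ u₂ h₂ hu₂]
  have e : Nat.card {p : F × Wset Q v₂ u₂ // Q u₂ * p.1 ^ 2 + Q p.2.1 = c} =
      Nat.card {p : F × Wset Q v₁ u₁ // Q u₂ * p.1 ^ 2 + Q p.2.1 = c} := by
    apply Nat.card_congr
    exact
      { toFun := fun p => ⟨(p.1.1, ⟨p.1.2.1, (hW _).mpr p.1.2.2⟩), p.2⟩
        invFun := fun p => ⟨(p.1.1, ⟨p.1.2.1, (hW _).mp p.1.2.2⟩), p.2⟩
        left_inv := fun p => rfl
        right_inv := fun p => rfl }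
  rw [e]
  haveI : Fintype (Wset Q v₁ u₁) := Fintype.ofFinite _
  rw [card_pairs (Q u₁) c (fun w : Wset Q v₁ u₁ => Q w.1),
    card_pairs (Q u₂) c (fun w : Wset Q v₁ u₁ => Q w.1), ← Finset.sum_add_distrib]
  simp only [card_sq_add h2 (Q u₁) (Q u₂) _ hu₁ hu₂ hns]
  rw [Finset.sum_const, Finset.card_univ, smul_eq_mul, mul_comm, Nat.card_eq_fintype_card]

theorem odd_card_Wset (h2 : (2 : F) ≠ 0) (v u : Fin n → F) : Nat.card (Wset Q v u) % 2 = 1 := by
  classical
  haveI : Fintype (Wset Q v u) := Fintype.ofFinite _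
  let f : Wset Q v u → Wset Q v u := fun w => ⟨-w.1, by
    rw [QuadraticMap.polar_neg_right, w.2.1, neg_zero], by
    rw [QuadraticMap.polar_neg_right, w.2.2, neg_zero]⟩
  have h := card_mod_two_of_involution f (fun w => Subtype.ext (neg_neg w.1))
  rw [Nat.card_eq_fintype_card, h]
  have : Fintype.card {x : Wset Q v u // f x = x} = 1 := by
    rw [Fintype.card_eq_one_iff]
    refine ⟨⟨⟨0, by simp, by simp⟩, Subtype.ext (by simp [f])⟩, ?_⟩
    intro y
    apply Subtype.ext
    apply Subtype.ext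
    have h1 : -y.1.1 = y.1.1 := congrArg Subtype.val y.2
    funext i
    have h3 := congrFun h1 i
    simp only [Pi.neg_apply] at h3
    have h4 : (2 : F) * y.1.1 i = 0 := by linear_combination -h3
    exact (mul_eq_zero.mp h4).resolve_left h2
  rw [this]

theorem even_lvlCount (h2 : (2 : F) ≠ 0) (c : F) (hc : c ≠ 0) : lvlCount Q c % 2 = 0 := by
  classical
  unfold lvlCount
  haveI : Fintype {x : Fin n → F // Q x = c} := Fintype.ofFinite _
  let f : {x : Fin n → F // Q x = c} → {x : Fin n → F // Q x = c} := fun w => ⟨-w.1, by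
    rw [QuadraticMap.map_neg]; exact w.2⟩
  have h := card_mod_two_of_involution f (fun w => Subtype.ext (neg_neg w.1))
  rw [Nat.card_eq_fintype_card, h]
  have : IsEmpty {x : {x : Fin n → F // Q x = c} // f x = x} := by
    constructor
    intro y
    have h1 : -y.1.1 = y.1.1 := congrArg Subtype.val y.2
    have h0 : y.1.1 = 0 := by
      funext i
      have h3 := congrFun h1 i
      simp only [Pi.neg_apply] at h3
      have h4 : (2 : F) * y.1.1 i = 0 := by linear_combination -h3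
      exact (mul_eq_zero.mp h4).resolve_left h2
    apply hc
    rw [← y.1.2, h0, map_zero]
  rw [Fintype.card_eq_zero]

/-- the two classes of reflections have different signs on a non-zero level set -/
theorem sign_refl_ne (h2 : (2 : F) ≠ 0) (c : F) (hc : c ≠ 0) (v₁ u₁ v₂ u₂ : Fin n → F)
    (hv₁ : Q v₁ ≠ 0) (hv₂ : Q v₂ ≠ 0)
    (h₁ : QuadraticMap.polar ⇑Q v₁ u₁ = 0) (h₂ : QuadraticMap.polar ⇑Q v₂ u₂ = 0)
    (hu₁ : Q u₁ ≠ 0) (hu₂ : Q u₂ ≠ 0)
    (hW : ∀ w, (QuadraticMap.polar ⇑Q v₁ w = 0 ∧ QuadraticMap.polar ⇑Q u₁ w = 0) ↔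
      (QuadraticMap.polar ⇑Q v₂ w = 0 ∧ QuadraticMap.polar ⇑Q u₂ w = 0))
    (hns : ¬ IsSquare (Q u₁ * Q u₂)) :
    Equiv.Perm.sign (levelPerm ⇑Q c (mkRefl Q v₁ hv₁)) ≠
      Equiv.Perm.sign (levelPerm ⇑Q c (mkRefl Q v₂ hv₂)) := by
  have e1 := card_support_refl Q c v₁ hv₁
  have e2 := card_support_refl Q c v₂ hv₂
  have d1 := Equiv.Perm.two_dvd_card_support (levelPerm_refl_sq Q c v₁ hv₁)
  have d2 := Equiv.Perm.two_dvd_card_support (levelPerm_refl_sq Q c v₂ hv₂)
  have h3 := fixCount_add Q h2 c v₁ u₁ v₂ u₂ h₁ h₂ hu₁ hu₂ hW hns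
  have h4 := odd_card_Wset Q h2 v₁ u₁
  have h5 := even_lvlCount Q h2 c hc
  rw [sign_of_sq_eq_one _ (levelPerm_refl_sq Q c v₁ hv₁),
    sign_of_sq_eq_one _ (levelPerm_refl_sq Q c v₂ hv₂)]
  obtain ⟨k₁, hk₁⟩ := d1
  obtain ⟨k₂, hk₂⟩ := d2
  rw [hk₁, hk₂, Nat.mul_div_cancel_left _ (by norm_num : 0 < 2),
    Nat.mul_div_cancel_left _ (by norm_num : 0 < 2)]
  have hodd : (k₁ + k₂) % 2 = 1 := by omega
  intro h
  have h6 : ((-1 : ℤˣ)) ^ (k₁ + k₂) = 1 := by
    rw [pow_add, h, ← pow_add, ← two_mul, pow_mul]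
    simp
  have h7 : Odd (k₁ + k₂) := Nat.odd_iff.mpr hodd
  rw [h7.neg_one_pow] at h6
  exact absurd h6 (by decide)

theorem exists_binary_value (h2 : (2 : F) ≠ 0) (a b t : F) (ha : a ≠ 0) (hb : b ≠ 0) :
    ∃ x y : F, a * x ^ 2 + b * y ^ 2 = t := by
  open Polynomial in
  have hf : (C a * X ^ 2 : F[X]).degree = 2 := by
    rw [Polynomial.degree_C_mul_X_pow 2 ha]; rfl
  have hg : (C b * X ^ 2 - C t : F[X]).degree = 2 := by
    rw [Polynomial.degree_sub_eq_left_of_degree_lt, Polynomial.degree_C_mul_X_pow 2 hb]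
    · rfl
    · rw [Polynomial.degree_C_mul_X_pow 2 hb]
      exact lt_of_le_of_lt Polynomial.degree_C_le (by norm_num)
  obtain ⟨x, y, hxy⟩ := FiniteField.exists_root_sum_quadratic hf hg
    (FiniteField.odd_card_of_char_ne_two (ringChar_ne_two h2))
  refine ⟨x, y, ?_⟩
  simp only [Polynomial.eval_mul, Polynomial.eval_C, Polynomial.eval_pow, Polynomial.eval_X,
    Polynomial.eval_sub] at hxy
  linear_combination hxy

theorem exists_config (h2 : (2 : F) ≠ 0) (hQ : (QuadraticMap.polarBilin Q).Nondegenerate)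
    (hn : 2 ≤ n) :
    ∃ v₁ u₁ v₂ u₂ : Fin n → F, Q v₁ ≠ 0 ∧ Q v₂ ≠ 0 ∧
      QuadraticMap.polar ⇑Q v₁ u₁ = 0 ∧ QuadraticMap.polar ⇑Q v₂ u₂ = 0 ∧ Q u₁ ≠ 0 ∧ Q u₂ ≠ 0 ∧
      (∀ w, (QuadraticMap.polar ⇑Q v₁ w = 0 ∧ QuadraticMap.polar ⇑Q u₁ w = 0) ↔
        (QuadraticMap.polar ⇑Q v₂ w = 0 ∧ QuadraticMap.polar ⇑Q u₂ w = 0)) ∧
      ¬ IsSquare (Q u₁ * Q u₂) := by
  obtain ⟨v₁, hv₁, -⟩ := Cfsg.Agent.S0792.exists_aniso Q h2 hQ 0 (by omega) Fin.elim0
    (fun i => i.elim0) (fun i => i.elim0)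
  obtain ⟨u₁, hu₁, horth⟩ := Cfsg.Agent.S0792.exists_aniso Q h2 hQ 1 (by omega) (fun _ => v₁)
    (fun i i' h => absurd (Subsingleton.elim i i') h) (fun _ => hv₁)
  have h₁ : QuadraticMap.polar ⇑Q v₁ u₁ = 0 := horth 0
  have h₁' : QuadraticMap.polar ⇑Q u₁ v₁ = 0 := by rw [QuadraticMap.polar_comm]; exact h₁
  obtain ⟨ν, hν⟩ := FiniteField.exists_nonsquare (F := F) (ringChar_ne_two h2)
  have hν0 : ν ≠ 0 := by
    rintro rfl
    exact hν ⟨0, by simp⟩
  obtain ⟨x₀, y₀, hxy⟩ := exists_binary_value h2 (Q v₁) (Q u₁) (ν * Q v₁) hv₁ hu₁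
  have hs1 : QuadraticMap.polar ⇑Q v₁ v₁ = 2 * Q v₁ := by
    rw [QuadraticMap.polar_self, nsmul_eq_mul]; norm_num
  have hs2 : QuadraticMap.polar ⇑Q u₁ u₁ = 2 * Q u₁ := by
    rw [QuadraticMap.polar_self, nsmul_eq_mul]; norm_num
  have hD : Q v₁ * x₀ ^ 2 + Q u₁ * y₀ ^ 2 ≠ 0 := by
    rw [hxy]; exact mul_ne_zero hν0 hv₁
  refine ⟨v₁, u₁, x₀ • v₁ + y₀ • u₁, (-(Q u₁ * y₀)) • v₁ + (Q v₁ * x₀) • u₁, hv₁, ?_, h₁, ?_, hu₁,
    ?_, ?_, ?_⟩
  · rw [Q_add, Q_smul, Q_smul, QuadraticMap.polar_smul_left, QuadraticMap.polar_smul_right, h₁,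
      smul_zero, smul_zero, add_zero]
    intro h
    apply hD
    linear_combination h
  · simp only [QuadraticMap.polar_add_left, QuadraticMap.polar_add_right,
      QuadraticMap.polar_smul_left, QuadraticMap.polar_smul_right, h₁, h₁', hs1, hs2, smul_eq_mul]
    ring
  · rw [Q_add, Q_smul, Q_smul, QuadraticMap.polar_smul_left, QuadraticMap.polar_smul_right, h₁,
      smul_zero, smul_zero, add_zero]
    intro h
    have : Q v₁ * Q u₁ * (Q v₁ * x₀ ^ 2 + Q u₁ * y₀ ^ 2) = 0 := by linear_combination h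
    rcases mul_eq_zero.mp this with h' | h'
    · exact mul_ne_zero hv₁ hu₁ h'
    · exact hD h'
  · intro w
    simp only [QuadraticMap.polar_add_left, QuadraticMap.polar_smul_left, smul_eq_mul]
    constructor
    · rintro ⟨hp, hr⟩
      rw [hp, hr]
      simp
    · rintro ⟨e1, e2⟩
      constructor
      · have : (Q v₁ * x₀ ^ 2 + Q u₁ * y₀ ^ 2) * QuadraticMap.polar ⇑Q v₁ w = 0 := by
          linear_combination (Q v₁ * x₀) * e1 - y₀ * e2
        exact (mul_eq_zero.mp this).resolve_left hD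
      · have : (Q v₁ * x₀ ^ 2 + Q u₁ * y₀ ^ 2) * QuadraticMap.polar ⇑Q u₁ w = 0 := by
          linear_combination (Q u₁ * y₀) * e1 + x₀ * e2
        exact (mul_eq_zero.mp this).resolve_left hD
  · rw [Q_add, Q_smul, Q_smul, QuadraticMap.polar_smul_left, QuadraticMap.polar_smul_right, h₁,
      smul_zero, smul_zero, add_zero]
    rintro ⟨s, hs⟩
    apply hν
    refine ⟨s / (Q v₁ * Q u₁), ?_⟩
    field_simp
    linear_combination -(Q v₁ * Q u₁ ^ 2) * hxy + hs

theorem exists_refl_sign_ne (h2 : (2 : F) ≠ 0) (hQ : (QuadraticMap.polarBilin Q).Nondegenerate)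
    (hn : 2 ≤ n) (c : F) (hc : c ≠ 0) :
    ∃ (v₁ v₂ : Fin n → F) (hv₁ : Q v₁ ≠ 0) (hv₂ : Q v₂ ≠ 0),
      Equiv.Perm.sign (levelPerm ⇑Q c (mkRefl Q v₁ hv₁)) ≠
        Equiv.Perm.sign (levelPerm ⇑Q c (mkRefl Q v₂ hv₂)) := by
  obtain ⟨v₁, u₁, v₂, u₂, hv₁, hv₂, h₁, h₂, hu₁, hu₂, hW, hns⟩ := exists_config Q h2 hQ hn
  exact ⟨v₁, v₂, hv₁, hv₂, sign_refl_ne Q h2 c hc v₁ u₁ v₂ u₂ hv₁ hv₂ h₁ h₂ hu₁ hu₂ hW hns⟩

end level

section main
variable {F : Type*} [Field F] [Fintype F] [DecidableEq F] {n : ℕ}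
  (Q : QuadraticForm F (Fin n → F))

/-- reflections whose norms have the same quadratic character are conjugate -/
theorem refl_isConj_of_char (h2 : (2 : F) ≠ 0) (a b : Fin n → F) (ha : Q a ≠ 0) (hb : Q b ≠ 0)
    (h : quadraticChar F (Q a) = quadraticChar F (Q b)) :
    IsConj (mkRefl Q a ha) (mkRefl Q b hb) := by
  have h1 : quadraticChar F (Q b * Q a) = 1 := by
    rw [map_mul, h, ← pow_two, quadraticChar_sq_one hb]
  obtain ⟨s, hs⟩ := (quadraticChar_one_iff_isSquare (mul_ne_zero hb ha)).mp h1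
  apply refl_isConj Q h2 a b ha hb (s / Q a)
  field_simp
  linear_combination hs

theorem neg_one_ne_one_of_two (h2 : (2 : F) ≠ 0) : (-1 : F) ≠ 1 := by
  intro h
  apply h2
  linear_combination -h

/-- the determinant, as a sign -/
noncomputable def detSign (h2 : (2 : F) ≠ 0) (hQ : (QuadraticMap.polarBilin Q).Nondegenerate) :
    ↥(Cfsg.isometryGroup F ⇑Q) →* ℤˣ where
  toFun g := if (imat Q g).det = 1 then 1 else -1
  map_one' := by
    have : imat Q (1 : ↥(Cfsg.isometryGroup F ⇑Q)) = 1 := rfl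
    simp [this]
  map_mul' g h := by
    have hg := (Cfsg.Agent.S0785.result Q hQ).1 g
    have hh := (Cfsg.Agent.S0785.result Q hQ).1 h
    have hne := neg_one_ne_one_of_two h2
    change (if (imat Q g * imat Q h).det = 1 then (1 : ℤˣ) else -1) =
      (if (imat Q g).det = 1 then 1 else -1) * (if (imat Q h).det = 1 then 1 else -1)
    rw [Matrix.det_mul]
    change (imat Q g).det = 1 ∨ (imat Q g).det = -1 at hg
    change (imat Q h).det = 1 ∨ (imat Q h).det = -1 at hh
    rcases hg with hg | hg <;> rcases hh with hh | hh <;> rw [hg, hh] <;> simp [hne]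

theorem detSign_eq_one_iff (h2 : (2 : F) ≠ 0) (hQ : (QuadraticMap.polarBilin Q).Nondegenerate)
    (g : ↥(Cfsg.isometryGroup F ⇑Q)) : detSign Q h2 hQ g = 1 ↔ (imat Q g).det = 1 := by
  change (if (imat Q g).det = 1 then (1 : ℤˣ) else -1) = 1 ↔ _
  by_cases h : (imat Q g).det = 1
  · simp [h]
  · simp only [h, if_false, iff_false]
    decide

theorem detSign_refl (h2 : (2 : F) ≠ 0) (hQ : (QuadraticMap.polarBilin Q).Nondegenerate)
    (a : Fin n → F) (ha : Q a ≠ 0) : detSign Q h2 hQ (mkRefl Q a ha) = -1 := by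
  change (if (imat Q (mkRefl Q a ha)).det = 1 then (1 : ℤˣ) else -1) = -1
  have : (imat Q (mkRefl Q a ha)).det = -1 := (Cfsg.Agent.S0784.result Q a ha).2.2.2
  rw [this, if_neg (neg_one_ne_one_of_two h2)]

/-- the abelianisation of the isometry group has at most four elements -/
theorem card_abelianization_le (h2 : (2 : F) ≠ 0)
    (hQ : (QuadraticMap.polarBilin Q).Nondegenerate) (a b : Fin n → F) (ha : Q a ≠ 0)
    (hb : Q b ≠ 0) (hab : quadraticChar F (Q a) ≠ quadraticChar F (Q b)) :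
    Nat.card (Abelianization ↥(Cfsg.isometryGroup F ⇑Q)) ≤ 4 := by
  classical
  set ρ₁ := Abelianization.of (mkRefl Q a ha) with hρ₁
  set ρ₂ := Abelianization.of (mkRefl Q b hb) with hρ₂
  have h1 : ρ₁ * ρ₁ = 1 := by rw [hρ₁, ← map_mul, mkRefl_mul_self, map_one]
  have h3 : ρ₂ * ρ₂ = 1 := by rw [hρ₂, ← map_mul, mkRefl_mul_self, map_one]
  let f : Bool × Bool → Abelianization ↥(Cfsg.isometryGroup F ⇑Q) :=
    fun p => (if p.1 then ρ₁ else 1) * (if p.2 then ρ₂ else 1)
  have hmul : ∀ p q, f p * f q = f (xor p.1 q.1, xor p.2 q.2) := by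
    rintro ⟨i, j⟩ ⟨i', j'⟩
    simp only [f]
    rw [mul_mul_mul_comm]
    congr 1
    · cases i <;> cases i' <;> simp [h1]
    · cases j <;> cases j' <;> simp [h3]
  let T : Subgroup (Abelianization ↥(Cfsg.isometryGroup F ⇑Q)) :=
    { carrier := Set.range f
      mul_mem' := by
        rintro _ _ ⟨p, rfl⟩ ⟨q, rfl⟩
        exact ⟨_, (hmul p q).symm⟩
      one_mem' := ⟨(false, false), by simp [f]⟩
      inv_mem' := by
        rintro _ ⟨p, rfl⟩
        refine ⟨p, ?_⟩
        rw [eq_comm, inv_eq_iff_mul_eq_one, hmul]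
        simp [f] }
  have hrefl : ∀ (w : Fin n → F) (hw : Q w ≠ 0), Abelianization.of (mkRefl Q w hw) ∈ T := by
    intro w hw
    have hconj : ∀ x y : ↥(Cfsg.isometryGroup F ⇑Q), IsConj x y →
        Abelianization.of x = Abelianization.of y := by
      intro x y hxy
      exact isConj_iff_eq.mp (Abelianization.of.map_isConj hxy)
    rcases quadraticChar_dichotomy (F := F) hw with hw1 | hw1 <;>
      rcases quadraticChar_dichotomy (F := F) ha with ha1 | ha1 <;>
      rcases quadraticChar_dichotomy (F := F) hb with hb1 | hb1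
    · exact absurd (ha1.trans hb1.symm) hab
    · exact ⟨(true, false), by
        simp only [f, if_true, Bool.false_eq_true, if_false, mul_one]
        exact hconj _ _ (refl_isConj_of_char Q h2 a w ha hw (ha1.trans hw1.symm))⟩
    · exact ⟨(false, true), by
        simp only [f, if_true, Bool.false_eq_true, if_false, one_mul]
        exact hconj _ _ (refl_isConj_of_char Q h2 b w hb hw (hb1.trans hw1.symm))⟩
    · exact absurd (ha1.trans hb1.symm) hab
    · exact absurd (ha1.trans hb1.symm) hab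
    · exact ⟨(false, true), by
        simp only [f, if_true, Bool.false_eq_true, if_false, one_mul]
        exact hconj _ _ (refl_isConj_of_char Q h2 b w hb hw (hb1.trans hw1.symm))⟩
    · exact ⟨(true, false), by
        simp only [f, if_true, Bool.false_eq_true, if_false, mul_one]
        exact hconj _ _ (refl_isConj_of_char Q h2 a w ha hw (ha1.trans hw1.symm))⟩
    · exact absurd (ha1.trans hb1.symm) hab
  have hall : ∀ g : ↥(Cfsg.isometryGroup F ⇑Q), Abelianization.of g ∈ T := by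
    intro g
    have hg := Cfsg.Agent.S0792.cd_aux Q h2 hQ n 0 Fin.elim0 (by omega) (fun i => i.elim0)
      (fun i => i.elim0) g (fun i => i.elim0)
    have hle : Subgroup.closure (Cfsg.Agent.S0792.Rset Q) ≤ T.comap Abelianization.of := by
      rw [Subgroup.closure_le]
      rintro r ⟨u, hu, hr⟩
      rw [SetLike.mem_coe, Subgroup.mem_comap, eq_mkRefl Q u hu r hr]
      exact hrefl u hu
    exact hle hg
  have hsurj : Function.Surjective f := by
    intro x
    obtain ⟨g, rfl⟩ := QuotientGroup.mk_surjective x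
    exact hall g
  have := Nat.card_le_card_of_surjective f hsurj
  simpa using this

/-- auxiliary: given a hom `θ` with `θ r_a = 1`, `θ r_b = -1`, `Ω = ker det ∩ ker θ` has index 4 -/
theorem spinor_aux (h2 : (2 : F) ≠ 0) (hQ : (QuadraticMap.polarBilin Q).Nondegenerate)
    (a b : Fin n → F) (ha : Q a ≠ 0) (hb : Q b ≠ 0)
    (hab : quadraticChar F (Q a) ≠ quadraticChar F (Q b))
    (θ : ↥(Cfsg.isometryGroup F ⇑Q) →* ℤˣ) (hθa : θ (mkRefl Q a ha) = 1)
    (hθb : θ (mkRefl Q b hb) = -1) :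
    (∀ g, g ∈ Cfsg.Omega F ⇑Q ↔ (imat Q g).det = 1 ∧ θ g = 1) ∧
      (Cfsg.Omega F ⇑Q).index = 4 := by
  classical
  set ψ : ↥(Cfsg.isometryGroup F ⇑Q) →* ℤˣ × ℤˣ := (detSign Q h2 hQ).prod θ with hψ
  have hψa : ψ (mkRefl Q a ha) = (-1, 1) := by
    rw [hψ, MonoidHom.prod_apply, detSign_refl, hθa]
  have hψb : ψ (mkRefl Q b hb) = (-1, -1) := by
    rw [hψ, MonoidHom.prod_apply, detSign_refl, hθb]
  have hsurj : Function.Surjective ψ := by
    rintro ⟨x, y⟩
    rcases Int.units_eq_one_or x with rfl | rfl <;> rcases Int.units_eq_one_or y with rfl | rfl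
    · exact ⟨1, map_one ψ⟩
    · refine ⟨mkRefl Q a ha * mkRefl Q b hb, ?_⟩
      rw [map_mul, hψa, hψb]
      rfl
    · exact ⟨_, hψa⟩
    · exact ⟨_, hψb⟩
  have hker : ψ.ker.index = 4 := by
    rw [Subgroup.index_ker, MonoidHom.range_eq_top.mpr hsurj, Subgroup.card_top, Nat.card_prod]
    simp
  have hle : Cfsg.Omega F ⇑Q ≤ ψ.ker := Abelianization.commutator_subset_ker ψ
  have hidx : (Cfsg.Omega F ⇑Q).index ≤ 4 := by
    rw [Subgroup.index_eq_card]
    exact card_abelianization_le Q h2 hQ a b ha hb hab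
  have hdvd : ψ.ker.index ∣ (Cfsg.Omega F ⇑Q).index := Subgroup.index_dvd_of_le hle
  have hne : (Cfsg.Omega F ⇑Q).index ≠ 0 := Subgroup.index_ne_zero_of_finite
  have h4 : (Cfsg.Omega F ⇑Q).index = 4 := by
    rw [hker] at hdvd
    obtain ⟨k, hk⟩ := hdvd
    have : k = 1 := by
      rcases k with _ | _ | k
      · omega
      · rfl
      · omega
    omega
  have heq : Cfsg.Omega F ⇑Q = ψ.ker := by
    apply le_antisymm hle
    have := Subgroup.relIndex_mul_index hle
    rw [h4, hker] at this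
    have h1 : (Cfsg.Omega F ⇑Q).relIndex ψ.ker = 1 := by omega
    exact Subgroup.relIndex_eq_one.mp h1
  refine ⟨fun g => ?_, h4⟩
  rw [heq, MonoidHom.mem_ker, hψ, MonoidHom.prod_apply, Prod.mk_eq_one, detSign_eq_one_iff]

/-- **The spinor norm.** For `F` finite of odd order, `n ≥ 2`: there is a homomorphism `θ` from the
isometry group to `{±1}` taking the reflection in `a` to the quadratic character of `Q a`, and `Ω` is
the set of isometries of determinant one in the kernel of `θ`; it has index `4`. -/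
theorem spinor_main (h2 : (2 : F) ≠ 0) (hQ : (QuadraticMap.polarBilin Q).Nondegenerate)
    (hn : 2 ≤ n) :
    ∃ θ : ↥(Cfsg.isometryGroup F ⇑Q) →* ℤˣ,
      (∀ (a : Fin n → F) (ha : Q a ≠ 0),
        θ (mkRefl Q a ha) = if IsSquare (Q a) then 1 else -1) ∧
      (∀ g, g ∈ Cfsg.Omega F ⇑Q ↔ (imat Q g).det = 1 ∧ θ g = 1) ∧
      (Cfsg.Omega F ⇑Q).index = 4 := by
  classical
  obtain ⟨v₁, v₂, hv₁, hv₂, hne⟩ := exists_refl_sign_ne Q h2 hQ hn 1 one_ne_zero
  set σ : ↥(Cfsg.isometryGroup F ⇑Q) →* ℤˣ := Equiv.Perm.sign.comp (levelPerm ⇑Q 1) with hσ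
  have hσne : σ (mkRefl Q v₁ hv₁) ≠ σ (mkRefl Q v₂ hv₂) := hne
  have hχ : quadraticChar F (Q v₁) ≠ quadraticChar F (Q v₂) := by
    intro h
    apply hσne
    have := refl_isConj_of_char Q h2 v₁ v₂ hv₁ hv₂ h
    exact isConj_iff_eq.mp (σ.map_isConj this)
  -- choose `a` with square norm, `b` with non-square norm
  obtain ⟨a, b, ha, hb, hχa, hχb, hσab⟩ : ∃ (a b : Fin n → F) (ha : Q a ≠ 0) (hb : Q b ≠ 0),
      quadraticChar F (Q a) = 1 ∧ quadraticChar F (Q b) = -1 ∧
      σ (mkRefl Q a ha) ≠ σ (mkRefl Q b hb) := by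
    rcases quadraticChar_dichotomy (F := F) hv₁ with h1 | h1 <;>
      rcases quadraticChar_dichotomy (F := F) hv₂ with h3 | h3
    · exact absurd (h1.trans h3.symm) hχ
    · exact ⟨v₁, v₂, hv₁, hv₂, h1, h3, hσne⟩
    · exact ⟨v₂, v₁, hv₂, hv₁, h3, h1, hσne.symm⟩
    · exact absurd (h1.trans h3.symm) hχ
  have hab : quadraticChar F (Q a) ≠ quadraticChar F (Q b) := by
    rw [hχa, hχb]; decide
  -- the homomorphism
  obtain ⟨θ, hθa, hθb⟩ : ∃ θ : ↥(Cfsg.isometryGroup F ⇑Q) →* ℤˣ,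
      θ (mkRefl Q a ha) = 1 ∧ θ (mkRefl Q b hb) = -1 := by
    rcases Int.units_eq_one_or (σ (mkRefl Q a ha)) with h1 | h1 <;>
      rcases Int.units_eq_one_or (σ (mkRefl Q b hb)) with h3 | h3
    · exact absurd (h1.trans h3.symm) hσab
    · exact ⟨σ, h1, h3⟩
    · refine ⟨σ * detSign Q h2 hQ, ?_, ?_⟩
      · rw [MonoidHom.mul_apply, h1, detSign_refl]; rfl
      · rw [MonoidHom.mul_apply, h3, detSign_refl]; rfl
    · exact absurd (h1.trans h3.symm) hσab
  refine ⟨θ, ?_, spinor_aux Q h2 hQ a b ha hb hab θ hθa hθb⟩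
  intro w hw
  have hconj : ∀ x y : ↥(Cfsg.isometryGroup F ⇑Q), IsConj x y → θ x = θ y :=
    fun x y hxy => isConj_iff_eq.mp (θ.map_isConj hxy)
  rcases quadraticChar_dichotomy (F := F) hw with h1 | h1
  · rw [if_pos ((quadraticChar_one_iff_isSquare hw).mp h1), ← hθa]
    exact hconj _ _ (refl_isConj_of_char Q h2 w a hw ha (h1.trans hχa.symm))
  · rw [if_neg (quadraticChar_neg_one_iff_not_isSquare.mp h1), ← hθb]
    exact hconj _ _ (refl_isConj_of_char Q h2 w b hw hb (h1.trans hχb.symm))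

end main

end Cfsg.Agent.Lib.Helper6
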