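import Mathlib
import Cfsg.Agent.Lib.Helper6.Spinor

/-!
# The spinor norm criterion for products of reflections (finite fields of odd order)

`mem_Omega_iff_list`: for `Q` on `F^n`; `mem_Omega_iff_list'`: for `Q` on `F^ι`, `ι` any finite type.
-/

set_option autoImplicit false
open Cfsg

namespace Cfsg.Agent.Lib.Helper6

open Matrix Cfsg.Agent.Lib.Helper14

section sgn
variable {F : Type*} [Field F] [Fintype F] [DecidableEq F]

/-- the quadratic character, as a sign -/
noncomputable def sgn (x : F) : ℤˣ := by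
  classical
  exact if IsSquare x then 1 else -1

theorem sgn_eq_one_iff (x : F) : sgn x = 1 ↔ IsSquare x := by
  classical
  unfold sgn
  by_cases h : IsSquare x
  · simp [h]
  · simp only [h, if_false, iff_false]
    decide

theorem sgn_one : sgn (1 : F) = 1 := (sgn_eq_one_iff 1).mpr ⟨1, (mul_one 1).symm⟩

theorem sgn_eq_char (x : F) (hx : x ≠ 0) : ((sgn x : ℤˣ) : ℤ) = quadraticChar F x := by
  classical
  unfold sgn
  rcases quadraticChar_dichotomy (F := F) hx with h | h
  · rw [if_pos ((quadraticChar_one_iff_isSquare hx).mp h), h]; rfl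
  · rw [if_neg (quadraticChar_neg_one_iff_not_isSquare.mp h), h]; rfl

theorem sgn_mul (x y : F) (hx : x ≠ 0) (hy : y ≠ 0) : sgn (x * y) = sgn x * sgn y := by
  apply Units.ext
  rw [Units.val_mul, sgn_eq_char _ (mul_ne_zero hx hy), sgn_eq_char _ hx, sgn_eq_char _ hy, map_mul]

end sgn

section list
variable {F : Type*} [Field F] [Fintype F] [DecidableEq F] {n : ℕ}
  (Q : QuadraticForm F (Fin n → F))

/-- values of `detSign` and of a spinor-norm homomorphism on a product of reflections -/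
theorem spinor_list (h2 : (2 : F) ≠ 0) (hQ : (QuadraticMap.polarBilin Q).Nondegenerate)
    (θ : ↥(Cfsg.isometryGroup F ⇑Q) →* ℤˣ)
    (hθ : ∀ (a : Fin n → F) (ha : Q a ≠ 0), θ (mkRefl Q a ha) = sgn (Q a))
    (vs : List (Fin n → F)) (hvs : ∀ v ∈ vs, Q v ≠ 0) :
    ∀ g : ↥(Cfsg.isometryGroup F ⇑Q),
      imat Q g = (vs.map (fun v => Cfsg.reflectionMatrix ⇑Q v)).prod →
      detSign Q h2 hQ g = (-1) ^ vs.length ∧ θ g = sgn (vs.map (fun v => Q v)).prod ∧
        (vs.map (fun v => Q v)).prod ≠ 0 := by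
  induction vs with
  | nil =>
    intro g hg
    have : g = 1 := by
      apply Subtype.ext
      apply Units.ext
      simpa using hg
    subst this
    simp [sgn_one]
  | cons v vs ih =>
    intro g hg
    have hv : Q v ≠ 0 := hvs v (List.mem_cons_self)
    have hvs' : ∀ w ∈ vs, Q w ≠ 0 := fun w hw => hvs w (List.mem_cons_of_mem _ hw)
    rw [List.map_cons, List.prod_cons] at hg
    obtain ⟨h1, h3, h4⟩ := ih hvs' (mkRefl Q v hv * g) (by
      have hm : imat Q (mkRefl Q v hv) = Cfsg.reflectionMatrix ⇑Q v := rfl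
      rw [imat_mul, hg, ← Matrix.mul_assoc, hm, Cfsg.Agent.S0792.refl_refl Q v hv,
        Matrix.one_mul])
    have hgg : g = mkRefl Q v hv * (mkRefl Q v hv * g) := by
      rw [← mul_assoc, mkRefl_mul_self, one_mul]
    refine ⟨?_, ?_, ?_⟩
    · rw [hgg, map_mul, h1, detSign_refl, List.length_cons, pow_succ, mul_comm]
    · rw [hgg, map_mul, h3, hθ, List.map_cons, List.prod_cons, sgn_mul _ _ hv h4]
    · rw [List.map_cons, List.prod_cons]
      exact mul_ne_zero hv h4

/-- **Spinor norm criterion** on `F^n`. -/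
theorem mem_Omega_iff_list (h2 : (2 : F) ≠ 0) (hQ : (QuadraticMap.polarBilin Q).Nondegenerate)
    (hn : 2 ≤ n) (g : ↥(Cfsg.isometryGroup F ⇑Q)) (vs : List (Fin n → F))
    (hvs : ∀ v ∈ vs, Q v ≠ 0)
    (hg : imat Q g = (vs.map (fun v => Cfsg.reflectionMatrix ⇑Q v)).prod) :
    g ∈ Cfsg.Omega F ⇑Q ↔ (Even vs.length ∧ IsSquare (vs.map (fun v => Q v)).prod) := by
  classical
  obtain ⟨θ, hθ, hmem, -⟩ := spinor_main Q h2 hQ hn
  have hθ' : ∀ (a : Fin n → F) (ha : Q a ≠ 0), θ (mkRefl Q a ha) = sgn (Q a) := by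
    intro a ha
    rw [hθ a ha]
    unfold sgn
    congr
  obtain ⟨h1, h3, -⟩ := spinor_list Q h2 hQ θ hθ' vs hvs g hg
  rw [hmem g, ← detSign_eq_one_iff Q h2 hQ, h1, h3, sgn_eq_one_iff,
    neg_one_pow_eq_one_iff_even (by decide)]

end list

end Cfsg.Agent.Lib.Helper6
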