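import Mathlib
import Cfsg.Agent.Lib.Helper6.Spinor2
import Cfsg.Agent.Lib.Helper6.Quad

/-!
# The spinor norm criterion on `F^ι` for an arbitrary finite index type `ι`

Transfer of `Spinor`/`Spinor2` along a bijection `ι ≃ Fin n`:
* `index_Omega'` : `Ω` has index `4`;
* `mem_Omega_iff_list'` : the spinor norm criterion;
* `exists_of_list'` : a product of reflection matrices is the matrix of an isometry;
* `hyp_involution_mem_iff` : involutions negating `i` hyperbolic pairs.
-/

set_option autoImplicit false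
open Cfsg

namespace Cfsg.Agent.Lib.Helper6

open Matrix Cfsg.Agent.Lib.Helper14

theorem mem_commutator_iff_of_bijective {G H : Type*} [Group G] [Group H] (φ : G →* H)
    (hφ : Function.Bijective φ) (x : G) : x ∈ commutator G ↔ φ x ∈ commutator H := by
  have h1 : Subgroup.map φ (commutator G) = commutator H := by
    rw [commutator_def, commutator_def, Subgroup.map_commutator,
      Subgroup.map_top_of_surjective φ hφ.2]
  rw [← h1, Subgroup.mem_map_iff_mem hφ.1]

section transfer
variable {F : Type*} [Field F] {ι ι' : Type} [Fintype ι] [DecidableEq ι] [Fintype ι']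
  [DecidableEq ι']

theorem matCongr_symm_matCongr (L : (ι → F) ≃ₗ[F] (ι' → F)) (M : Matrix ι' ι' F) :
    matCongr L (matCongr L.symm M) = M := by
  apply matrix_ext_mulVec
  intro w
  have h1 := matCongr_mulVec L (matCongr L.symm M) (L.symm w)
  rw [L.apply_symm_apply] at h1
  rw [h1]
  have h2 := matCongr_mulVec L.symm M w
  rw [h2, L.apply_symm_apply]

theorem isoCongr_bijective (Q : QuadraticForm F (ι → F)) (Q' : QuadraticForm F (ι' → F))
    (L : (ι → F) ≃ₗ[F] (ι' → F)) (hL : ∀ w, Q' (L w) = 1 * Q w) :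
    Function.Bijective (isoCongr ⇑Q ⇑Q' L 1 hL) := by
  refine ⟨isoCongr_injective _ _ L 1 hL, ?_⟩
  intro h
  have hL' : ∀ w, Q (L.symm w) = 1 * Q' w := by
    intro w
    have := hL (L.symm w)
    rw [L.apply_symm_apply, one_mul] at this
    rw [one_mul, this]
  refine ⟨isoCongr ⇑Q' ⇑Q L.symm 1 hL' h, ?_⟩
  apply Subtype.ext
  apply Units.ext
  exact matCongr_symm_matCongr L _

theorem polar_transfer (Q : QuadraticForm F (ι → F)) (Q' : QuadraticForm F (ι' → F))
    (L : (ι → F) ≃ₗ[F] (ι' → F)) (hL : ∀ w, Q' (L w) = Q w) (x y : ι → F) :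
    QuadraticMap.polar ⇑Q' (L x) (L y) = QuadraticMap.polar ⇑Q x y := by
  unfold QuadraticMap.polar
  rw [← map_add, hL, hL, hL]

theorem matCongr_refl (Q : QuadraticForm F (ι → F)) (Q' : QuadraticForm F (ι' → F))
    (L : (ι → F) ≃ₗ[F] (ι' → F)) (hL : ∀ w, Q' (L w) = Q w) (v : ι → F) :
    matCongr L (Cfsg.reflectionMatrix ⇑Q v) = Cfsg.reflectionMatrix ⇑Q' (L v) := by
  apply matrix_ext_mulVec
  intro w
  have h1 := matCongr_mulVec L (Cfsg.reflectionMatrix ⇑Q v) (L.symm w)
  rw [L.apply_symm_apply] at h1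
  rw [h1, reflectionMatrix_mulVec, reflectionMatrix_mulVec, map_sub, map_smul,
    L.apply_symm_apply, hL]
  have h2 := polar_transfer Q Q' L hL v (L.symm w)
  rw [L.apply_symm_apply] at h2
  rw [h2]

theorem nondegenerate_transfer (Q : QuadraticForm F (ι → F)) (Q' : QuadraticForm F (ι' → F))
    (L : (ι → F) ≃ₗ[F] (ι' → F)) (hL : ∀ w, Q' (L w) = Q w)
    (hQ : (QuadraticMap.polarBilin Q).Nondegenerate) :
    (QuadraticMap.polarBilin Q').Nondegenerate := by
  have : QuadraticMap.polarBilin Q' = LinearMap.BilinForm.congr L (QuadraticMap.polarBilin Q) := by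
    apply LinearMap.ext
    intro x
    apply LinearMap.ext
    intro y
    rw [LinearMap.BilinForm.congr_apply]
    change QuadraticMap.polar ⇑Q' x y = QuadraticMap.polar ⇑Q (L.symm x) (L.symm y)
    rw [← polar_transfer Q Q' L hL, L.apply_symm_apply, L.apply_symm_apply]
  rw [this]
  exact LinearMap.BilinForm.Nondegenerate.congr L hQ

end transfer

section general
variable {F : Type*} [Field F] [Fintype F] [DecidableEq F] {ι : Type} [Fintype ι] [DecidableEq ι]
  (Q : QuadraticForm F (ι → F))

/-- reindexing by `Fin (card ι)` -/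
noncomputable def reIdx (F : Type*) [Field F] (ι : Type) [Fintype ι] :
    (ι → F) ≃ₗ[F] (Fin (Fintype.card ι) → F) :=
  LinearEquiv.funCongrLeft F F (Fintype.equivFin ι).symm

/-- the form on `F^(card ι)` -/
noncomputable def QFin : QuadraticForm F (Fin (Fintype.card ι) → F) :=
  Q.comp (reIdx F ι).symm.toLinearMap

omit [Fintype F] [DecidableEq F] in
theorem QFin_apply (w : ι → F) : QFin Q (reIdx F ι w) = Q w := by
  unfold QFin
  rw [QuadraticMap.comp_apply]
  simp

omit [Fintype F] [DecidableEq F] in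
theorem QFin_apply' (w : ι → F) : QFin Q (reIdx F ι w) = 1 * Q w := by
  rw [one_mul, QFin_apply]

/-- the isomorphism of isometry groups -/
noncomputable def isoFin : ↥(Cfsg.isometryGroup F ⇑Q) →* ↥(Cfsg.isometryGroup F ⇑(QFin Q)) :=
  isoCongr ⇑Q ⇑(QFin Q) (reIdx F ι) 1 (QFin_apply' Q)

omit [Fintype F] [DecidableEq F] in
theorem isoFin_bijective : Function.Bijective (isoFin Q) :=
  isoCongr_bijective Q (QFin Q) (reIdx F ι) (QFin_apply' Q)

omit [Fintype F] [DecidableEq F] in
theorem isoFin_val (g : ↥(Cfsg.isometryGroup F ⇑Q)) :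
    imat (QFin Q) (isoFin Q g) = matCongr (reIdx F ι) ((g.1 : GL ι F) : Matrix ι ι F) := rfl

omit [Fintype F] [DecidableEq F] in
theorem matCongr_list (vs : List (ι → F)) :
    matCongr (reIdx F ι) (vs.map (fun v => Cfsg.reflectionMatrix ⇑Q v)).prod =
      ((vs.map (reIdx F ι)).map (fun v => Cfsg.reflectionMatrix ⇑(QFin Q) v)).prod := by
  rw [map_list_prod, List.map_map, List.map_map]
  congr 1
  apply List.map_congr_left
  intro v _
  exact matCongr_refl Q (QFin Q) (reIdx F ι) (QFin_apply Q) v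

/-- `Ω` has index `4` -/
theorem index_Omega' (h2 : (2 : F) ≠ 0) (hQ : (QuadraticMap.polarBilin Q).Nondegenerate)
    (hcard : 2 ≤ Fintype.card ι) : (Cfsg.Omega F ⇑Q).index = 4 := by
  obtain ⟨θ, -, -, h⟩ := spinor_main (QFin Q) h2
    (nondegenerate_transfer Q (QFin Q) (reIdx F ι) (QFin_apply Q) hQ) hcard
  rw [Subgroup.index_eq_card] at h ⊢
  rw [← h]
  exact Nat.card_congr (MulEquiv.ofBijective (isoFin Q) (isoFin_bijective Q)).abelianizationCongr.toEquiv

/-- **Spinor norm criterion** on `F^ι`. -/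
theorem mem_Omega_iff_list' (h2 : (2 : F) ≠ 0) (hQ : (QuadraticMap.polarBilin Q).Nondegenerate)
    (hcard : 2 ≤ Fintype.card ι) (g : ↥(Cfsg.isometryGroup F ⇑Q)) (vs : List (ι → F))
    (hvs : ∀ v ∈ vs, Q v ≠ 0)
    (hg : ((g.1 : GL ι F) : Matrix ι ι F) = (vs.map (fun v => Cfsg.reflectionMatrix ⇑Q v)).prod) :
    g ∈ Cfsg.Omega F ⇑Q ↔ (Even vs.length ∧ IsSquare (vs.map (fun v => Q v)).prod) := by
  rw [mem_commutator_iff_of_bijective (isoFin Q) (isoFin_bijective Q)]
  have h1 := mem_Omega_iff_list (QFin Q) h2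
    (nondegenerate_transfer Q (QFin Q) (reIdx F ι) (QFin_apply Q) hQ) hcard (isoFin Q g)
    (vs.map (reIdx F ι)) (by
      intro v hv
      obtain ⟨w, hw, rfl⟩ := List.mem_map.mp hv
      rw [QFin_apply]
      exact hvs w hw) (by
      rw [isoFin_val, hg, matCongr_list])
  rw [h1, List.length_map, List.map_map]
  have : (vs.map ((fun v => (QFin Q) v) ∘ (reIdx F ι))) = vs.map (fun v => Q v) := by
    apply List.map_congr_left
    intro v _
    exact QFin_apply Q v
  rw [this]

/-- a product of reflection matrices is the matrix of an isometry -/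
theorem exists_of_list' (vs : List (ι → F)) (hvs : ∀ v ∈ vs, Q v ≠ 0) :
    ∃ g : ↥(Cfsg.isometryGroup F ⇑Q),
      ((g.1 : GL ι F) : Matrix ι ι F) = (vs.map (fun v => Cfsg.reflectionMatrix ⇑Q v)).prod := by
  have key : ∀ (n : ℕ) (Q' : QuadraticForm F (Fin n → F)) (ws : List (Fin n → F)),
      (∀ w ∈ ws, Q' w ≠ 0) → ∃ h : ↥(Cfsg.isometryGroup F ⇑Q'),
        imat Q' h = (ws.map (fun v => Cfsg.reflectionMatrix ⇑Q' v)).prod := by
    intro n Q' ws
    induction ws with
    | nil => intro _; exact ⟨1, rfl⟩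
    | cons w ws ih =>
      intro hws
      obtain ⟨h, hh⟩ := ih (fun x hx => hws x (List.mem_cons_of_mem _ hx))
      refine ⟨mkRefl Q' w (hws w List.mem_cons_self) * h, ?_⟩
      rw [imat_mul, hh, List.map_cons, List.prod_cons]
      rfl
  obtain ⟨h, hh⟩ := key _ (QFin Q) (vs.map (reIdx F ι)) (by
    intro v hv
    obtain ⟨w, hw, rfl⟩ := List.mem_map.mp hv
    rw [QFin_apply]
    exact hvs w hw)
  obtain ⟨g, rfl⟩ := (isoFin_bijective Q).2 h
  refine ⟨g, ?_⟩
  apply (matCongr (reIdx F ι)).injective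
  rw [matCongr_list, ← hh, isoFin_val]

end general

section hyp
variable {F : Type*} [Field F] [Fintype F] [DecidableEq F] {ι : Type} [Fintype ι] [DecidableEq ι]
  (Q : QuadraticForm F (ι → F))

omit [Fintype F] [DecidableEq F] in
/-- the product of the reflections in `e + f` and `e - f`, for a hyperbolic pair `e, f` of basis
vectors, negates `e` and `f` and fixes the other basis vectors -/
theorem refl_pair (p p' : ι) (hpp : p ≠ p')
    (hp : ∀ x, QuadraticMap.polar ⇑Q (Pi.single p 1) x = x p')
    (hp' : ∀ x, QuadraticMap.polar ⇑Q (Pi.single p' 1) x = x p)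
    (hQp : Q (Pi.single p 1) = 0) (hQp' : Q (Pi.single p' 1) = 0) :
    Q (Pi.single p 1 + Pi.single p' 1) = 1 ∧ Q (Pi.single p 1 - Pi.single p' 1) = -1 ∧
    Cfsg.reflectionMatrix ⇑Q (Pi.single p 1 + Pi.single p' 1) *
      Cfsg.reflectionMatrix ⇑Q (Pi.single p 1 - Pi.single p' 1) =
      Matrix.diagonal (fun k => if k = p ∨ k = p' then (-1 : F) else 1) := by
  have h1 : Q (Pi.single p 1 + Pi.single p' 1) = 1 := by
    rw [Q_add, hQp, hQp', hp]
    simp
  have h3 : Q (Pi.single p 1 - Pi.single p' 1) = -1 := by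
    rw [Q_sub, hQp, hQp', hp]
    simp
  refine ⟨h1, h3, ?_⟩
  apply matrix_ext_mulVec
  intro x
  rw [← Matrix.mulVec_mulVec, reflectionMatrix_mulVec, reflectionMatrix_mulVec, h1, h3]
  simp only [QuadraticMap.polar_add_left, QuadraticMap.polar_sub_left, hp, hp']
  funext k
  rw [Matrix.mulVec_diagonal]
  simp only [Pi.sub_apply, Pi.add_apply, Pi.smul_apply, Pi.single_apply, smul_eq_mul,
    if_neg hpp, if_neg hpp.symm, if_true]
  by_cases hk : k = p
  · subst hk
    rw [if_pos (Or.inl rfl)]
    simp only [if_true, if_neg hpp]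
    ring
  · by_cases hk' : k = p'
    · subst hk'
      rw [if_pos (Or.inr rfl)]
      simp only [if_true, if_neg hk]
      ring
    · rw [if_neg (not_or.mpr ⟨hk, hk'⟩)]
      simp only [if_neg hk, if_neg hk']
      ring

/-- **Involutions negating `i` hyperbolic pairs** lie in `Ω` iff `(-1)^i` is a square. -/
theorem hyp_involution_mem_iff (h2 : (2 : F) ≠ 0) (hQ : (QuadraticMap.polarBilin Q).Nondegenerate)
    (hcard : 2 ≤ Fintype.card ι) {m : ℕ} (a b : Fin m → ι)
    (hpa : ∀ j x, QuadraticMap.polar ⇑Q (Pi.single (a j) 1) x = x (b j))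
    (hpb : ∀ j x, QuadraticMap.polar ⇑Q (Pi.single (b j) 1) x = x (a j))
    (hQa : ∀ j, Q (Pi.single (a j) 1) = 0) (hQb : ∀ j, Q (Pi.single (b j) 1) = 0)
    (idx : ι → ℕ) (i : ℕ) (him : i ≤ m) (hia : ∀ j, idx (a j) = j) (hib : ∀ j, idx (b j) = j)
    (hother : ∀ k, (∀ j, k ≠ a j ∧ k ≠ b j) → i ≤ idx k) :
    (∃ g : ↥(Cfsg.isometryGroup F ⇑Q), g ∈ Cfsg.Omega F ⇑Q ∧
      ((g.1 : GL ι F) : Matrix ι ι F) =
        Matrix.diagonal (fun k => if idx k < i then (-1 : F) else 1)) ↔
      IsSquare ((-1 : F) ^ i) := by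
  have hab : ∀ j, a j ≠ b j := by
    intro j h
    have h1 := hpa j (Pi.single (a j) 1)
    rw [QuadraticMap.polar_self, hQa j, ← h] at h1
    simp at h1
  -- the list of vectors
  have key : ∀ i' : ℕ, i' ≤ i → ∃ vs : List (ι → F), (∀ v ∈ vs, Q v ≠ 0) ∧ vs.length = 2 * i' ∧
      (vs.map (fun v => Q v)).prod = (-1) ^ i' ∧
      (vs.map (fun v => Cfsg.reflectionMatrix ⇑Q v)).prod =
        Matrix.diagonal (fun k => if idx k < i' then (-1 : F) else 1) := by
    intro i'
    induction i' with
    | zero =>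
      intro _
      refine ⟨[], by simp, rfl, by simp, ?_⟩
      simp
    | succ i' ih =>
      intro hi'
      obtain ⟨vs, hvs, hlen, hprod, hmat⟩ := ih (by omega)
      have hjm : i' < m := by omega
      set j : Fin m := ⟨i', hjm⟩ with hj
      obtain ⟨h1, h3, h4⟩ := refl_pair Q (a j) (b j) (hab j) (hpa j) (hpb j) (hQa j) (hQb j)
      refine ⟨vs ++ [Pi.single (a j) 1 + Pi.single (b j) 1, Pi.single (a j) 1 - Pi.single (b j) 1],
        ?_, ?_, ?_, ?_⟩
      · intro v hv
        rcases List.mem_append.mp hv with hv | hv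
        · exact hvs v hv
        · simp only [List.mem_cons, List.mem_nil_iff, or_false] at hv
          rcases hv with rfl | rfl
          · rw [h1]; exact one_ne_zero
          · rw [h3]; exact neg_ne_zero.mpr one_ne_zero
      · rw [List.length_append, hlen]
        simp
        ring
      · rw [List.map_append, List.prod_append, hprod]
        simp only [List.map_cons, List.map_nil, List.prod_cons, List.prod_nil, h1, h3]
        ring
      · rw [List.map_append, List.prod_append, hmat]
        simp only [List.map_cons, List.map_nil, List.prod_cons, List.prod_nil, Matrix.mul_one]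
        rw [h4, Matrix.diagonal_mul_diagonal]
        congr 1
        funext k
        by_cases hk : k = a j ∨ k = b j
        · have hidx : idx k = i' := by
            rcases hk with rfl | rfl
            · rw [hia]
            · rw [hib]
          rw [if_pos hk, if_neg (by omega), if_pos (by omega)]
          ring
        · rw [if_neg hk]
          have hidx : idx k ≠ i' := by
            intro hidx
            by_cases hex : ∃ j', k = a j' ∨ k = b j'
            · obtain ⟨j', hj'⟩ := hex
              have : idx k = j' := by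
                rcases hj' with rfl | rfl
                · rw [hia]
                · rw [hib]
              have hjj : j' = j := by
                apply Fin.ext
                rw [← this, hidx]
              rw [hjj] at hj'
              exact hk hj'
            · push Not at hex
              have := hother k hex
              omega
          by_cases hlt : idx k < i'
          · rw [if_pos hlt, if_pos (by omega)]
            ring
          · rw [if_neg hlt, if_neg (by omega)]
            ring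
  obtain ⟨vs, hvs, hlen, hprod, hmat⟩ := key i le_rfl
  constructor
  · rintro ⟨g, hgmem, hg⟩
    have := (mem_Omega_iff_list' Q h2 hQ hcard g vs hvs (by rw [hg, hmat])).mp hgmem
    rw [← hprod]
    exact this.2
  · intro hsq
    obtain ⟨g, hg⟩ := exists_of_list' Q vs hvs
    refine ⟨g, ?_, by rw [hg, hmat]⟩
    rw [mem_Omega_iff_list' Q h2 hQ hcard g vs hvs hg, hlen, hprod]
    exact ⟨⟨i, by ring⟩, hsq⟩

omit [DecidableEq F] in
/-- `(-1)^i` is a square in `F_q`, `q` odd, iff `q^i ≡ 1 (mod 4)` -/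
theorem isSquare_neg_one_pow_iff (hq : Odd (Fintype.card F)) (i : ℕ) :
    IsSquare ((-1 : F) ^ i) ↔ Fintype.card F ^ i % 4 = 1 := by
  rcases Nat.even_or_odd i with hi | hi
  · rw [hi.neg_one_pow]
    have h1 : IsSquare (1 : F) := ⟨1, (mul_one 1).symm⟩
    simp only [h1, true_iff]
    obtain ⟨k, rfl⟩ := hi
    rw [← two_mul, pow_mul]
    have : Fintype.card F ^ 2 % 4 = 1 := by
      obtain ⟨t, ht⟩ := hq
      rw [ht]
      have : (2 * t + 1) ^ 2 = 4 * (t * t + t) + 1 := by ring
      rw [this]
      omega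
    rw [Nat.pow_mod, this]
    simp
  · rw [hi.neg_one_pow, FiniteField.isSquare_neg_one_iff]
    obtain ⟨k, rfl⟩ := hi
    have hsq : Fintype.card F ^ 2 % 4 = 1 := by
      obtain ⟨t, ht⟩ := hq
      rw [ht]
      have : (2 * t + 1) ^ 2 = 4 * (t * t + t) + 1 := by ring
      rw [this]
      omega
    have h1 : Fintype.card F ^ (2 * k + 1) % 4 = Fintype.card F % 4 := by
      rw [pow_succ, pow_mul, Nat.mul_mod, Nat.pow_mod, hsq]
      simp
    rw [h1]
    have := Nat.odd_iff.mp hq
    omega

omit [DecidableEq F] in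
theorem two_ne_zero_of_odd_card (hF : Odd (Fintype.card F)) : (2 : F) ≠ 0 := by
  intro h
  have h2 : ((2 : ℕ) : F) = 0 := by exact_mod_cast h
  obtain ⟨p, hp⟩ := CharP.exists F
  have hprime : p.Prime := CharP.char_is_prime F p
  have hdvd : p ∣ 2 := (CharP.cast_eq_zero_iff F p 2).mp h2
  have hp2 : p = 2 := (Nat.prime_dvd_prime_iff_eq hprime Nat.prime_two).mp hdvd
  subst hp2
  have h3 : ((Fintype.card F : ℕ) : F) = 0 := FiniteField.cast_card_eq_zero F
  have h4 : 2 ∣ Fintype.card F := (CharP.cast_eq_zero_iff F 2 _).mp h3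
  exact (Nat.not_even_iff_odd.mpr hF) (even_iff_two_dvd.mpr h4)

end hyp

end Cfsg.Agent.Lib.Helper6
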