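import Mathlib
import Cfsg.Agent.Lib.Helper9.PComp2

/-!
# Central quotients of perfect groups, and the order of `SL_n(q)`

* `quotient_center_equiv_of_surjective`: if `ρ : S →* Ω` is onto with central kernel and `S` is
  perfect then `Ω ⧸ Z(Ω) ≃* S ⧸ Z(S)`.
* `card_SL_mul`: `|SL_n(q)| (q - 1) = ∏ (q^n - q^i)`.
-/

set_option autoImplicit false

namespace Cfsg.Agent.Lib.Helper6

/-- the image of a perfect group lies in the commutator subgroup -/
theorem map_mem_commutator_of_perfect {S G : Type*} [Group S] [Group G] (ρ : S →* G)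
    (hperf : commutator S = ⊤) (g : S) : ρ g ∈ commutator G := by
  have hg : g ∈ commutator S := by rw [hperf]; trivial
  rw [commutator_def] at hg ⊢
  have h1 : ρ g ∈ Subgroup.map ρ ⁅(⊤ : Subgroup S), ⊤⁆ := Subgroup.mem_map_of_mem ρ hg
  rw [Subgroup.map_commutator] at h1
  exact Subgroup.commutator_mono le_top le_top h1

/-- `Ω ⧸ Z(Ω) ≃* S ⧸ Z(S)` for a perfect central extension `S` of `Ω` -/
theorem quotient_center_equiv_of_surjective {S Ω : Type*} [Group S] [Group Ω] (ρ : S →* Ω)
    (hsurj : Function.Surjective ρ) (hker : ρ.ker ≤ Subgroup.center S)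
    (hperf : commutator S = ⊤) :
    Nonempty ((Ω ⧸ Subgroup.center Ω) ≃* (S ⧸ Subgroup.center S)) := by
  let f : S →* Ω ⧸ Subgroup.center Ω := (QuotientGroup.mk' (Subgroup.center Ω)).comp ρ
  have hf : Function.Surjective f := (QuotientGroup.mk'_surjective _).comp hsurj
  have hkf : f.ker = Subgroup.center S := by
    apply le_antisymm
    · have hM : f.ker = (Subgroup.center Ω).comap ρ := by
        ext g
        rw [MonoidHom.mem_ker, Subgroup.mem_comap]
        change ((ρ g : Ω) : Ω ⧸ Subgroup.center Ω) = 1 ↔ _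
        rw [QuotientGroup.eq_one_iff]
      rw [hM]
      apply Cfsg.Agent.Lib.Helper9.le_center_of_commutator_le_center hperf
      refine le_trans ?_ hker
      rw [Subgroup.commutator_le]
      intro m hm h _
      rw [MonoidHom.mem_ker, map_commutatorElement, commutatorElement_eq_one_iff_mul_comm]
      rw [Subgroup.mem_comap, Subgroup.mem_center_iff] at hm
      exact (hm (ρ h)).symm
    · intro g hg
      rw [MonoidHom.mem_ker]
      change ((ρ g : Ω) : Ω ⧸ Subgroup.center Ω) = 1
      rw [QuotientGroup.eq_one_iff, Subgroup.mem_center_iff]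
      intro y
      obtain ⟨h, rfl⟩ := hsurj y
      rw [← map_mul, ← map_mul, Subgroup.mem_center_iff.mp hg h]
  have e1 : (S ⧸ f.ker) ≃* (Ω ⧸ Subgroup.center Ω) :=
    QuotientGroup.quotientKerEquivOfSurjective f hf
  have e2 : (S ⧸ f.ker) ≃* (S ⧸ Subgroup.center S) := QuotientGroup.quotientMulEquivOfEq hkf
  exact ⟨e1.symm.trans e2⟩

section SL
open Matrix
variable {F : Type*} [Field F] (n : ℕ)

/-- the kernel of `det` on `GL_n` has the order of `SL_n` -/
theorem card_ker_det_GL :
    Nat.card (Matrix.GeneralLinearGroup.det : GL (Fin n) F →* Fˣ).ker =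
      Nat.card (SpecialLinearGroup (Fin n) F) := by
  symm
  let φ : SpecialLinearGroup (Fin n) F → (Matrix.GeneralLinearGroup.det : GL (Fin n) F →* Fˣ).ker :=
    fun A => ⟨SpecialLinearGroup.toGL A, by
      rw [MonoidHom.mem_ker]
      apply Units.ext
      simp⟩
  apply Nat.card_eq_of_bijective φ
  constructor
  · intro A B h
    have := congrArg (fun z : (Matrix.GeneralLinearGroup.det : GL (Fin n) F →* Fˣ).ker => (z : GL (Fin n) F)) h
    exact SpecialLinearGroup.toGL_injective this
  · rintro ⟨g, hg⟩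
    rw [MonoidHom.mem_ker] at hg
    have hdet : (g : Matrix (Fin n) (Fin n) F).det = 1 := by
      have := congrArg (fun u : Fˣ => (u : F)) hg
      simpa using this
    refine ⟨⟨(g : Matrix (Fin n) (Fin n) F), hdet⟩, ?_⟩
    apply Subtype.ext
    apply Units.ext
    rfl

/-- `|SL_n(q)| (q - 1) = ∏ (q^n - q^i)` -/
theorem card_SL_mul [Fintype F] [NeZero n] :
    Nat.card (SpecialLinearGroup (Fin n) F) * (Fintype.card F - 1) =
      ∏ i : Fin n, (Fintype.card F ^ n - Fintype.card F ^ (i : ℕ)) := by
  classical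
  have h1 := Subgroup.card_mul_index (Matrix.GeneralLinearGroup.det : GL (Fin n) F →* Fˣ).ker
  rw [Subgroup.index_ker, MonoidHom.range_eq_top.mpr Matrix.GeneralLinearGroup.det_surjective,
    Subgroup.card_top, card_ker_det_GL, Matrix.card_GL_field, Nat.card_eq_fintype_card (α := Fˣ),
    Fintype.card_units] at h1
  exact h1

end SL

end Cfsg.Agent.Lib.Helper6
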