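import Mathlib
import Cfsg.Agent.S0753

set_option autoImplicit false

/-!
# Hermitian forms over finite fields: trace and norm are onto, vectors of norm one.
-/

namespace Cfsg.Agent.Lib.Helper6

open Module

section field
variable {F : Type*} [Field F] (σ : F →+* F)

/-- There is `e` with `e + σ e ≠ 0` as soon as `σ ≠ id`. -/
theorem exists_add_ne_zero (hσ : σ ≠ RingHom.id F) : ∃ e : F, e + σ e ≠ 0 := by
  by_contra h
  push Not at h
  have h1 := h 1
  rw [map_one] at h1
  apply hσ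
  ext c
  have hc := h c
  have : (1 + 1 : F) * c = 0 := by rw [h1, zero_mul]
  simp only [RingHom.id_apply]
  linear_combination hc - this

/-- The trace `t ↦ t + σ t` is onto the fixed field. -/
theorem exists_trace (hσ : σ ≠ RingHom.id F) (hσ2 : ∀ a : F, σ (σ a) = a) (a : F) (ha : σ a = a) :
    ∃ t : F, t + σ t = a := by
  obtain ⟨e, he⟩ := exists_add_ne_zero σ hσ
  have hs : σ (e + σ e) = e + σ e := by rw [map_add, hσ2]; ring
  refine ⟨a * e / (e + σ e), ?_⟩
  rw [map_div₀, map_mul, hs, ha]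
  field_simp

/-- Hilbert 90 for an involution. -/
theorem hilbert90 (hσ : σ ≠ RingHom.id F) (hσ2 : ∀ a : F, σ (σ a) = a) (c : F)
    (hc : c * σ c = 1) : ∃ b : F, b ≠ 0 ∧ b = c * σ b := by
  have he : ∃ e : F, e + c * σ e ≠ 0 := by
    by_contra h
    push Not at h
    have h1 := h 1
    rw [map_one, mul_one] at h1
    have hc1 : c = -1 := by linear_combination h1
    apply hσ
    ext e
    have := h e
    rw [hc1] at this
    simp only [RingHom.id_apply]
    linear_combination -this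
  obtain ⟨e, he⟩ := he
  refine ⟨e + c * σ e, he, ?_⟩
  rw [map_add, map_mul, hσ2, mul_add, ← mul_assoc, hc, one_mul, add_comm]

/-- The norm `c ↦ c * σ c` is onto the non-zero elements of the fixed field (finite fields). -/
theorem exists_norm [Finite F] (hσ : σ ≠ RingHom.id F) (hσ2 : ∀ a : F, σ (σ a) = a) (a : F)
    (ha0 : a ≠ 0) (ha : σ a = a) : ∃ c : F, c * σ c = a := by
  classical
  let σu : Fˣ →* Fˣ := Units.map σ.toMonoidHom
  have hσu : ∀ c : Fˣ, ((σu c : Fˣ) : F) = σ c := fun c => rfl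
  have hσu2 : ∀ c : Fˣ, σu (σu c) = c := fun c => Units.ext (by rw [hσu, hσu, hσ2])
  let Nm : Fˣ →* Fˣ := MonoidHom.id Fˣ * σu
  let M : Fˣ →* Fˣ := MonoidHom.id Fˣ / σu
  have hNm : ∀ c, Nm c = c * σu c := fun c => rfl
  have hM : ∀ c, M c = c / σu c := fun c => rfl
  have h1 : M.range = Nm.ker := by
    apply le_antisymm
    · rintro _ ⟨c, rfl⟩
      rw [MonoidHom.mem_ker, hNm, hM, map_div, hσu2]
      rw [div_mul_div_comm, mul_comm c, div_self']
    · intro c hc
      rw [MonoidHom.mem_ker, hNm] at hc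
      have hc' : (c : F) * σ c = 1 := by
        have := congrArg (fun x : Fˣ => (x : F)) hc
        simpa [hσu] using this
      obtain ⟨b, hb0, hb⟩ := hilbert90 σ hσ hσ2 c hc'
      refine ⟨Units.mk0 b hb0, ?_⟩
      rw [hM, div_eq_iff_eq_mul]
      apply Units.ext
      simp only [Units.val_mk0, Units.val_mul, hσu]
      exact hb
  have h3 : Nm.range ≤ M.ker := by
    rintro _ ⟨c, rfl⟩
    rw [MonoidHom.mem_ker, hM, hNm, map_mul, hσu2, mul_comm c, div_self']
  have hcard1 : Nat.card M.ker * Nat.card M.range = Nat.card Fˣ := by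
    rw [← Subgroup.index_ker, Subgroup.card_mul_index]
  have hcard2 : Nat.card Nm.ker * Nat.card Nm.range = Nat.card Fˣ := by
    rw [← Subgroup.index_ker, Subgroup.card_mul_index]
  have hcard3 : Nat.card M.ker = Nat.card Nm.range := by
    rw [h1, ← hcard2, mul_comm] at hcard1
    exact Nat.eq_of_mul_eq_mul_left Nat.card_pos hcard1
  have h4 : Nm.range = M.ker := Subgroup.eq_of_le_of_card_ge h3 (le_of_eq hcard3)
  have ha' : Units.mk0 a ha0 ∈ M.ker := by
    rw [MonoidHom.mem_ker, hM, div_eq_one]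
    apply Units.ext
    simp only [Units.val_mk0, hσu, ha]
  rw [← h4] at ha'
  obtain ⟨c, hc⟩ := ha'
  refine ⟨c, ?_⟩
  have := congrArg (fun x : Fˣ => (x : F)) hc
  simpa [hNm, hσu] using this

end field

section form
variable {F V : Type*} [Field F] [AddCommGroup V] [Module F V] (σ : F →+* F)

/-- A non-zero Hermitian form has a non-isotropic vector. -/
theorem herm_exists_self_ne_zero (hσ : σ ≠ RingHom.id F) (B : V →ₛₗ[σ] V →ₗ[F] F) (hS : B.IsSymm)
    (hB0 : B ≠ 0) : ∃ v, B v v ≠ 0 := by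
  by_contra h
  push Not at h
  exact hB0 (Cfsg.Agent.S0753.result σ hσ B hS h)

/-- A non-zero Hermitian form over a finite field has a vector of norm one. -/
theorem herm_exists_norm_one [Finite F] (hσ : σ ≠ RingHom.id F) (hσ2 : ∀ a : F, σ (σ a) = a)
    (B : V →ₛₗ[σ] V →ₗ[F] F) (hS : B.IsSymm) (hB0 : B ≠ 0) : ∃ u, B u u = 1 := by
  obtain ⟨v, hv⟩ := herm_exists_self_ne_zero σ hσ B hS hB0
  obtain ⟨c, hc⟩ := exists_norm σ hσ hσ2 (B v v) hv (hS.eq v v)
  have hc0 : c ≠ 0 := by
    rintro rfl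
    rw [zero_mul] at hc
    exact hv hc.symm
  have hσc0 : σ c ≠ 0 := by
    intro h
    rw [h, mul_zero] at hc
    exact hv hc.symm
  refine ⟨c⁻¹ • v, ?_⟩
  have e1 : B (c⁻¹ • v) (c⁻¹ • v) = c⁻¹ * (σ c⁻¹ * B v v) := by
    rw [map_smul, smul_eq_mul, map_smulₛₗ, LinearMap.smul_apply, smul_eq_mul]
  rw [e1, map_inv₀, ← hc]
  field_simp

end form

end Cfsg.Agent.Lib.Helper6
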