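import Mathlib
import Cfsg.Agent.S0755

set_option autoImplicit false

/-!
# Orthonormal bases for Hermitian forms over finite fields
-/

namespace Cfsg.Agent.Lib.Helper6

open Module

universe u

section
variable {F : Type*} {V : Type u} [Field F] [AddCommGroup V] [Module F V] (σ : F →+* F)

/-- orthonormal families are linearly independent -/
theorem orthonormal_li {ι : Type*} [Fintype ι] [DecidableEq ι] (B : V →ₛₗ[σ] V →ₗ[F] F)
    (c : ι → V) (hc : ∀ i j, B (c i) (c j) = if i = j then 1 else 0) : LinearIndependent F c := by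
  rw [Fintype.linearIndependent_iff]
  intro g hg j
  have := congrArg (B (c j)) hg
  simp only [map_sum, map_smul, hc, smul_eq_mul, mul_ite, mul_one, mul_zero, map_zero,
    Finset.sum_ite_eq, Finset.mem_univ, if_true] at this
  exact this

/-- value of the form in an orthonormal basis -/
theorem orthonormal_apply {ι : Type*} [Fintype ι] [DecidableEq ι] (B : V →ₛₗ[σ] V →ₗ[F] F)
    (β : Basis ι F V) (hβ : ∀ i j, B (β i) (β j) = if i = j then 1 else 0) (x y : V) :
    B x y = ∑ i, σ (β.repr x i) * β.repr y i := by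
  conv_lhs => rw [← β.sum_repr x, ← β.sum_repr y]
  simp only [map_sum, map_smulₛₗ, LinearMap.sum_apply, LinearMap.smul_apply, map_smul, hβ,
    smul_eq_mul, mul_ite, mul_one, mul_zero, Finset.sum_ite_eq', Finset.sum_ite_eq,
    Finset.mem_univ, if_true]
  apply Finset.sum_congr rfl
  intro i _
  simp only [RingHom.id_apply]
  ring

/-- A linear equivalence mapping an orthonormal basis to an orthonormal basis is an isometry. -/
theorem isometry_of_orthonormal {ι : Type*} [Fintype ι] [DecidableEq ι] (B : V →ₛₗ[σ] V →ₗ[F] F)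
    (β β' : Basis ι F V) (hβ : ∀ i j, B (β i) (β j) = if i = j then 1 else 0)
    (hβ' : ∀ i j, B (β' i) (β' j) = if i = j then 1 else 0) (x y : V) :
    B (β.equiv β' (Equiv.refl ι) x) (β.equiv β' (Equiv.refl ι) y) = B x y := by
  rw [orthonormal_apply σ B β' hβ', orthonormal_apply σ B β hβ]
  apply Finset.sum_congr rfl
  intro i _
  have h : ∀ z : V, β'.repr (β.equiv β' (Equiv.refl ι) z) i = β.repr z i := by
    intro z
    simp [Basis.equiv]
  rw [h, h]

/-- Hermitian + left separating gives right separating -/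
theorem herm_sepRight (hσ2 : ∀ a : F, σ (σ a) = a) (B : V →ₛₗ[σ] V →ₗ[F] F) (hS : B.IsSymm)
    (h : B.SeparatingLeft) : B.SeparatingRight := by
  intro y hy
  apply h y
  intro x
  rw [← hS.eq, hy x, map_zero]

theorem herm_zero_comm (hσ2 : ∀ a : F, σ (σ a) = a) (B : V →ₛₗ[σ] V →ₗ[F] F) (hS : B.IsSymm)
    {x y : V} (h : B x y = 0) : B y x = 0 := by
  rw [← hS.eq, h, map_zero]

variable [Finite F] [FiniteDimensional F V]

/-- Riesz representation for a non-degenerate Hermitian form over a finite field. -/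
theorem herm_riesz (hσ : σ ≠ RingHom.id F) (hσ2 : ∀ a : F, σ (σ a) = a)
    (B : V →ₛₗ[σ] V →ₗ[F] F) (hS : B.IsSymm) (hB : B.Nondegenerate) (ψ : Module.Dual F V) :
    ∃ y : V, ∀ v, B y v = ψ v := by
  classical
  obtain ⟨β, hβ⟩ := Cfsg.Agent.S0755.result σ hσ hσ2 B hS hB
  refine ⟨∑ i, σ (ψ (β i)) • β i, ?_⟩
  intro v
  have h1 : ∀ j, B (∑ i, σ (ψ (β i)) • β i) (β j) = ψ (β j) := by
    intro j
    simp only [map_sum, map_smulₛₗ, LinearMap.sum_apply, LinearMap.smul_apply, hβ, smul_eq_mul,
      mul_ite, mul_one, mul_zero, Finset.sum_ite_eq', Finset.mem_univ, if_true, hσ2]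
  have h2 : B (∑ i, σ (ψ (β i)) • β i) = ψ := by
    apply β.ext
    intro j
    exact h1 j
  rw [h2]

/-- Extending an orthonormal family to an orthonormal basis. -/
theorem herm_extend (hσ : σ ≠ RingHom.id F) (hσ2 : ∀ a : F, σ (σ a) = a)
    (B : V →ₛₗ[σ] V →ₗ[F] F) (hS : B.IsSymm) (hB : B.Nondegenerate) {k : ℕ} (v : Fin k → V)
    (hv : ∀ i j, B (v i) (v j) = if i = j then 1 else 0) :
    ∃ β : Basis (Fin k ⊕ Fin (finrank F V - k)) F V,
      (∀ i j, B (β i) (β j) = if i = j then 1 else 0) ∧ ∀ i, β (Sum.inl i) = v i := by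
  classical
  set W : Submodule F V := ⨅ i, LinearMap.ker (B (v i)) with hW
  have hWmem : ∀ w : V, w ∈ W ↔ ∀ i, B (v i) w = 0 := by
    intro w
    rw [hW, Submodule.mem_iInf]
    exact forall_congr' fun i => LinearMap.mem_ker
  have hWv : ∀ w ∈ W, ∀ i, B w (v i) = 0 := fun w hw i =>
    herm_zero_comm σ hσ2 B hS ((hWmem w).mp hw i)
  let P : V → V := fun x => ∑ i, (B (v i) x) • v i
  have hdec : ∀ x : V, x - P x ∈ W := by
    intro x
    rw [hWmem]
    intro j
    simp only [P, map_sub, map_sum, map_smul, hv, smul_eq_mul, mul_ite, mul_one, mul_zero,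
      Finset.sum_ite_eq, Finset.mem_univ, if_true, sub_self]
  let BW : W →ₛₗ[σ] W →ₗ[F] F := B.domRestrict₁₂ W W
  have hBWS : BW.IsSymm := ⟨fun x y => hS.eq (x : V) (y : V)⟩
  have hBWl : BW.SeparatingLeft := by
    intro w hw
    apply Subtype.ext
    apply hB.1 (w : V)
    intro x
    have h1 : x = (x - P x) + P x := by abel
    rw [h1, map_add]
    have h2 : B (w : V) (P x) = 0 := by
      simp only [P, map_sum, map_smul, hWv w w.2, smul_zero, Finset.sum_const_zero]
    rw [h2, add_zero]
    exact hw ⟨_, hdec x⟩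
  have hBWnd : BW.Nondegenerate := ⟨hBWl, herm_sepRight σ hσ2 BW hBWS hBWl⟩
  obtain ⟨w, hw⟩ := Cfsg.Agent.S0755.families σ hσ hσ2 (finrank F W) W BW hBWS hBWnd rfl
  have hwli : LinearIndependent F w := orthonormal_li σ BW w hw
  have hwspan : Submodule.span F (Set.range w) = ⊤ :=
    hwli.span_eq_top_of_card_eq_finrank' (by simp)
  let c : Fin k ⊕ Fin (finrank F W) → V := Sum.elim v (fun j => (w j : V))
  have hc : ∀ i j, B (c i) (c j) = if i = j then 1 else 0 := by
    rintro (i | i) (j | j)
    · simp only [c, Sum.elim_inl, hv, Sum.inl.injEq]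
    · simp only [c, Sum.elim_inl, Sum.elim_inr, (hWmem _).mp (w j).2 i, reduceCtorEq, if_false]
    · simp only [c, Sum.elim_inl, Sum.elim_inr, hWv _ (w i).2 j, reduceCtorEq, if_false]
    · simp only [c, Sum.elim_inr, Sum.inr.injEq]
      exact hw i j
  have hcli : LinearIndependent F c := orthonormal_li σ B c hc
  have hcspan : ⊤ ≤ Submodule.span F (Set.range c) := by
    intro x _
    have h1 : x = (x - P x) + P x := by abel
    rw [h1]
    apply Submodule.add_mem
    · have h2 : (⟨x - P x, hdec x⟩ : W) ∈ Submodule.span F (Set.range w) := by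
        rw [hwspan]; trivial
      have h3 : x - P x ∈ (Submodule.span F (Set.range w)).map W.subtype := ⟨_, h2, rfl⟩
      rw [Submodule.map_span] at h3
      refine Submodule.span_mono ?_ h3
      rintro _ ⟨_, ⟨j, rfl⟩, rfl⟩
      exact ⟨Sum.inr j, rfl⟩
    · apply Submodule.sum_mem
      intro i _
      apply Submodule.smul_mem
      exact Submodule.subset_span ⟨Sum.inl i, rfl⟩
  let β₀ : Basis (Fin k ⊕ Fin (finrank F W)) F V := Basis.mk hcli hcspan
  have hcard : k + finrank F W = finrank F V := by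
    have := finrank_eq_card_basis β₀
    simp at this
    omega
  have hWk : finrank F W = finrank F V - k := by omega
  let e : Fin k ⊕ Fin (finrank F W) ≃ Fin k ⊕ Fin (finrank F V - k) :=
    Equiv.sumCongr (Equiv.refl _) (finCongr hWk)
  refine ⟨β₀.reindex e, ?_, ?_⟩
  · intro i j
    simp only [Basis.reindex_apply, β₀, Basis.mk_apply, hc, e.symm.injective.eq_iff]
  · intro i
    simp [Basis.reindex_apply, β₀, Basis.mk_apply, e, c]

end

end Cfsg.Agent.Lib.Helper6
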