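import Mathlib
import Cfsg.Agent.S0779
import Cfsg.Agent.Lib.Helper6.HermBasis

set_option autoImplicit false
open Cfsg

namespace Cfsg.Agent.Lib.Helper6

open Matrix Module Cfsg.Agent.S0779

section
variable {F : Type*} [Field F] [Fintype F] {q : ℕ}

/-- the conjugation `x ↦ x ^ q` of a field with `q ^ 2` elements -/
noncomputable def conjQ (hF : Fintype.card F = q ^ 2) : F →+* F where
  toFun x := x ^ q
  map_one' := one_pow q
  map_mul' x y := mul_pow x y q
  map_zero' := zero_pow (q_pos hF).ne'
  map_add' x y := add_pow_q hF x y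

theorem conjQ_apply (hF : Fintype.card F = q ^ 2) (x : F) : conjQ hF x = x ^ q := rfl

theorem conjQ_conjQ (hF : Fintype.card F = q ^ 2) (x : F) : conjQ hF (conjQ hF x) = x :=
  pow_q_q hF x

theorem two_le_q (hF : Fintype.card F = q ^ 2) : 2 ≤ q := by
  have h1 : 1 < Fintype.card F := Fintype.one_lt_card
  rw [hF] at h1
  by_contra h
  push Not at h
  interval_cases q <;> omega

theorem conjQ_ne_id (hF : Fintype.card F = q ^ 2) : conjQ hF ≠ RingHom.id F := by
  classical
  intro h
  have hall : ∀ x : F, x ^ q = x := fun x => by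
    have := congrArg (fun f : F →+* F => f x) h
    simpa [conjQ_apply] using this
  have hq := two_le_q hF
  obtain ⟨g, hg⟩ := IsCyclic.exists_generator (α := Fˣ)
  have hord : orderOf g = Fintype.card Fˣ := by
    rw [orderOf_eq_card_of_forall_mem_zpowers hg, Nat.card_eq_fintype_card]
  have hcard : Fintype.card Fˣ = q ^ 2 - 1 := by rw [Fintype.card_units, hF]
  have h1 : g ^ (q - 1) = 1 := by
    have h2 : (g : F) ^ q = g := hall g
    apply Units.ext
    rw [Units.val_pow_eq_pow_val, Units.val_one]
    have h3 : (g : F) ^ q = (g : F) ^ (q - 1) * g := by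
      rw [← pow_succ]; congr 1; omega
    rw [h3] at h2
    have hg0 : (g : F) ≠ 0 := g.ne_zero
    field_simp at h2
    exact h2
  have h4 : orderOf g ∣ q - 1 := orderOf_dvd_of_pow_eq_one h1
  rw [hord, hcard] at h4
  have h5 : q ^ 2 - 1 ≤ q - 1 := Nat.le_of_dvd (by omega) h4
  have h6 : q ^ 2 ≥ 2 * q := by nlinarith
  omega

variable {n : ℕ}

/-- the Hermitian form `hermForm`, as a sesquilinear map (semilinear in the first argument):
`hermB hF x y = hermForm y x` -/
noncomputable def hermB (n : ℕ) (hF : Fintype.card F = q ^ 2) :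
    (Fin n → F) →ₛₗ[conjQ hF] (Fin n → F) →ₗ[F] F :=
  LinearMap.mk₂'ₛₗ (conjQ hF) (RingHom.id F) (fun x y => hermForm n F q y x)
    (fun x y z => herm_add_right hF z x y)
    (fun c x y => by rw [herm_smul_right]; rfl)
    (fun x y z => herm_add_left y z x)
    (fun c x y => by rw [herm_smul_left]; rfl)

theorem hermB_apply (hF : Fintype.card F = q ^ 2) (x y : Fin n → F) :
    hermB n hF x y = hermForm n F q y x := rfl

theorem hermB_isSymm (hF : Fintype.card F = q ^ 2) : (hermB n hF).IsSymm :=
  ⟨fun x y => by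
    change (hermForm n F q y x) ^ q = hermForm n F q x y
    exact herm_conj hF y x⟩

theorem herm_single_right (hF : Fintype.card F = q ^ 2) (x : Fin n → F) (i : Fin n) :
    hermForm n F q x (Pi.single i 1) = x i := by
  classical
  simp only [hermForm]
  rw [Finset.sum_eq_single i]
  · simp
  · intro j _ hj
    simp [hj, (q_pos hF).ne']
  · intro h; exact absurd (Finset.mem_univ i) h

theorem herm_nondeg (hF : Fintype.card F = q ^ 2) (x : Fin n → F)
    (h : ∀ y, hermForm n F q x y = 0) : x = 0 := by
  funext i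
  rw [← herm_single_right hF x i, h]
  rfl

theorem herm_swap_zero (hF : Fintype.card F = q ^ 2) {x y : Fin n → F}
    (h : hermForm n F q x y = 0) : hermForm n F q y x = 0 := by
  rw [← herm_conj hF, h, zero_pow (q_pos hF).ne']

theorem herm_zero_left (y : Fin n → F) : hermForm n F q 0 y = 0 := by
  simp [hermForm]

theorem herm_zero_right (hF : Fintype.card F = q ^ 2) (x : Fin n → F) : hermForm n F q x 0 = 0 := by
  simp [hermForm, zero_pow (q_pos hF).ne']

/-- a nondegenerate Hermitian space of dimension `k` is isometric to the standard one -/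
theorem exists_std_herm (hF : Fintype.card F = q ^ 2) {U : Type*} [AddCommGroup U] [Module F U]
    [FiniteDimensional F U] (B : U →ₛₗ[conjQ hF] U →ₗ[F] F) (hS : B.IsSymm)
    (hN : ∀ u, (∀ v, B u v = 0) → u = 0) (k : ℕ) (hk : finrank F U = k) :
    ∃ φ : U ≃ₗ[F] (Fin k → F), ∀ x y, hermForm k F q (φ x) (φ y) = B y x := by
  classical
  have hB : B.Nondegenerate := ⟨hN, herm_sepRight (conjQ hF) (conjQ_conjQ hF) B hS hN⟩
  obtain ⟨b, hb⟩ := Cfsg.Agent.S0755.result (conjQ hF) (conjQ_ne_id hF) (conjQ_conjQ hF) B hS hB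
  subst hk
  refine ⟨b.equivFun, ?_⟩
  intro x y
  rw [orthonormal_apply (conjQ hF) B b hb y x]
  simp only [hermForm, Basis.equivFun_apply, conjQ_apply]
  apply Finset.sum_congr rfl
  intro i _
  ring

end

end Cfsg.Agent.Lib.Helper6
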