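import Mathlib
import Cfsg.Prelude.Def_Classical

/-!
# `quadFormOdd` as a Mathlib quadratic form
-/

set_option autoImplicit false

namespace Cfsg.Agent.Lib.Helper6

open QuadraticMap

section
variable (F : Type*) [Field F]

/-- `quadFormOdd` as a Mathlib quadratic form -/
noncomputable def QOdd (m : ℕ) : QuadraticForm F (Unit ⊕ (Fin m ⊕ Fin m) → F) :=
  QuadraticMap.proj (R := F) (A := F) (Sum.inl ()) (Sum.inl ()) +
    ∑ i : Fin m, QuadraticMap.proj (R := F) (A := F) (Sum.inr (Sum.inl i)) (Sum.inr (Sum.inr i))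

theorem QOdd_apply (m : ℕ) (v : Unit ⊕ (Fin m ⊕ Fin m) → F) :
    QOdd F m v = Cfsg.quadFormOdd m F v := by
  unfold QOdd Cfsg.quadFormOdd
  rw [_root_.add_apply, _root_.sum_apply, _root_.sq]
  rfl

theorem polar_QOdd (m : ℕ) (u v : Unit ⊕ (Fin m ⊕ Fin m) → F) :
    polar (QOdd F m) u v = 2 * u (Sum.inl ()) * v (Sum.inl ()) +
      ∑ i : Fin m, (u (Sum.inr (Sum.inl i)) * v (Sum.inr (Sum.inr i)) +
        u (Sum.inr (Sum.inr i)) * v (Sum.inr (Sum.inl i))) := by
  unfold polar
  rw [QOdd_apply, QOdd_apply, QOdd_apply]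
  unfold Cfsg.quadFormOdd
  have h1 : ∀ (A B C A' B' C' : F), (A + A') - (B + B') - (C + C') = (A - B - C) + (A' - B' - C') := by
    intros; ring
  rw [h1, ← Finset.sum_sub_distrib, ← Finset.sum_sub_distrib]
  congr 1
  · simp only [Pi.add_apply]
    ring
  · refine Finset.sum_congr rfl fun i _ => ?_
    simp only [Pi.add_apply]
    ring

theorem nondegenerate_QOdd (h2 : (2 : F) ≠ 0) (m : ℕ) : (polarBilin (QOdd F m)).Nondegenerate := by
  classical
  have hleft : ∀ u : Unit ⊕ (Fin m ⊕ Fin m) → F, (∀ v, polar (QOdd F m) u v = 0) → u = 0 := by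
    intro u hu
    funext j
    rcases j with j | j | j
    · have := hu (Pi.single (Sum.inl ()) 1)
      rw [polar_QOdd] at this
      simp only [Pi.single_apply, reduceCtorEq, if_false, mul_zero, add_zero,
        Finset.sum_const_zero, if_true, mul_one] at this
      cases j
      exact (mul_eq_zero.mp this).resolve_left h2
    · have := hu (Pi.single (Sum.inr (Sum.inr j)) 1)
      rw [polar_QOdd] at this
      simpa [Pi.single_apply, Finset.sum_ite_eq] using this
    · have := hu (Pi.single (Sum.inr (Sum.inl j)) 1)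
      rw [polar_QOdd] at this
      simpa [Pi.single_apply, Finset.sum_ite_eq] using this
  constructor
  · intro u hu
    exact hleft u hu
  · intro u hu
    apply hleft u
    intro v
    rw [polar_comm]
    exact hu v

end

end Cfsg.Agent.Lib.Helper6
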