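import Mathlib
import Cfsg.Agent.Lib.Helper13.TransvSL
import Cfsg.Agent.Lib.Helper14.SLnTrans
import Cfsg.Agent.Lib.Helper15.SLNormal

/-!
# Transvections of `SL_n`, `n ≥ 3`, as root involutions (characteristic two)

A transvection is written `tv a φ = 1 + a ⊗ φ` with `φ(a) = 0`.  We show that every such matrix
(with `a, φ ≠ 0`) is conjugate in `SL_{n+3}` to the elementary matrix `1 + E₀₁`, compute products of
two transvections, and in characteristic two determine the order of such a product.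
-/

set_option autoImplicit false
set_option linter.unusedSectionVars false
set_option linter.unusedVariables false

namespace Cfsg.Agent.Lib.Helper6.RootInvSL

open Matrix Cfsg.Agent.Lib.Helper13 Cfsg.Agent.Lib.Helper14 Cfsg.Agent.Lib.Helper15

section basics
variable {N : ℕ} {F : Type*} [Field F]

theorem vecMulVec_ne_zero {a φ : Fin N → F} (ha : a ≠ 0) (hφ : φ ≠ 0) :
    vecMulVec a φ ≠ 0 := by
  obtain ⟨i, hi⟩ := Function.ne_iff.mp ha
  obtain ⟨j, hj⟩ := Function.ne_iff.mp hφ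
  intro h
  have := congrFun (congrFun h i) j
  rw [vecMulVec_apply] at this
  exact mul_ne_zero hi hj this

theorem tv_ne_one {a φ : Fin N → F} (ha : a ≠ 0) (hφ : φ ≠ 0) : tv a φ ≠ 1 := by
  intro h
  rw [tv, add_eq_left] at h
  exact vecMulVec_ne_zero ha hφ h

theorem tv_mul_tv (u φ v ψ : Fin N → F) :
    tv u φ * tv v ψ = 1 + vecMulVec u φ + vecMulVec v ψ + (φ ⬝ᵥ v) • vecMulVec u ψ := by
  rw [tv, tv, add_mul, mul_add, mul_add, one_mul, mul_one, one_mul, vecMulVec_mul_vecMulVec,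
    vecMulVec_smul]
  abel

/-- conjugating a transvection by an element of `SL` -/
theorem conj_tv_inv (g : SpecialLinearGroup (Fin N) F) (a φ : Fin N → F) :
    (g⁻¹).1 * tv (g.1 *ᵥ a) φ * g.1 = tv a (φ ᵥ* g.1) := by
  have h1 : (g⁻¹).1 * g.1 = 1 := by
    rw [← Matrix.SpecialLinearGroup.coe_mul, inv_mul_cancel, Matrix.SpecialLinearGroup.coe_one]
  rw [tv, tv, mul_add, add_mul, mul_one, h1, mul_vecMulVec, vecMulVec_mul, mulVec_mulVec, h1,
    one_mulVec]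

theorem conj_tv_SL (g : SpecialLinearGroup (Fin N) F) (a φ : Fin N → F) :
    g.1 * tv a φ * (g⁻¹).1 = tv (g.1 *ᵥ a) (φ ᵥ* (g⁻¹).1) := by
  have h1 : g.1 * (g⁻¹).1 = 1 := by
    rw [← Matrix.SpecialLinearGroup.coe_mul, mul_inv_cancel, Matrix.SpecialLinearGroup.coe_one]
  rw [tv, tv, mul_add, add_mul, mul_one, h1, mul_vecMulVec, vecMulVec_mul]

end basics

section std
variable {n : ℕ} {F : Type*} [Field F]

theorem transvection_eq_tv (c : F) :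
    Matrix.transvection (0 : Fin (n + 3)) 1 c = tv (Pi.single 0 1) (c • Pi.single 1 1) := by
  rw [Matrix.transvection, tv]
  congr 1
  ext i j
  rw [vecMulVec_apply, Matrix.single_apply, Pi.smul_apply, Pi.single_apply, Pi.single_apply]
  by_cases hi : i = 0 <;> by_cases hj : j = 1 <;> simp [hi, hj, eq_comm]

theorem linearIndependent_single_pair :
    LinearIndependent F ![(Pi.single 0 1 : Fin (n + 3) → F), Pi.single 1 1] := by
  rw [LinearIndependent.pair_iff]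
  intro s t h
  have h0 := congrFun h 0
  have h1 := congrFun h 1
  simp at h0 h1
  exact ⟨h0, h1⟩

/-- **Standard form**: a transvection of `SL_{n+3}` is conjugate to `1 + E₀₁`. -/
theorem exists_conj_std (a φ : Fin (n + 3) → F) (ha : a ≠ 0) (hφ : φ ≠ 0) (h : φ ⬝ᵥ a = 0) :
    ∃ g : SpecialLinearGroup (Fin (n + 3)) F,
      (g⁻¹).1 * tv a φ * g.1 = Matrix.transvection 0 1 1 := by
  -- a vector `b` with `φ b = 1`
  obtain ⟨j, hj⟩ := Function.ne_iff.mp hφ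
  have hj' : φ j ≠ 0 := hj
  obtain ⟨b, hb⟩ : ∃ b : Fin (n + 3) → F, φ ⬝ᵥ b = 1 := by
    refine ⟨(φ j)⁻¹ • Pi.single j 1, ?_⟩
    rw [dotProduct_smul, dotProduct_single, mul_one, smul_eq_mul, inv_mul_cancel₀ hj']
  have hD : LinearIndependent F ![a, b] := by
    rw [LinearIndependent.pair_iff]
    intro s t hst
    have h1 := congrArg (fun x => φ ⬝ᵥ x) hst
    simp only [dotProduct_add, dotProduct_smul, h, hb, smul_eq_mul, mul_zero, mul_one, zero_add,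
      dotProduct_zero] at h1
    subst h1
    rw [zero_smul, add_zero] at hst
    rcases smul_eq_zero.mp hst with h2 | h2
    · exact ⟨h2, rfl⟩
    · exact absurd h2 ha
  obtain ⟨g₁, hg₁a, hg₁b⟩ := exists_SL_mulVec_pair (F := F) (n := n + 3) (by omega)
    linearIndependent_single_pair hD
  set φ' : Fin (n + 3) → F := φ ᵥ* g₁.1 with hφ'
  have e1 : (g₁⁻¹).1 * tv a φ * g₁.1 = tv (Pi.single 0 1) φ' := by
    rw [← hg₁a, conj_tv_inv]
  have hφ'0 : φ' ⬝ᵥ Pi.single 0 1 = 0 := by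
    rw [hφ', ← dotProduct_mulVec, hg₁a, h]
  have hφ'1 : φ' ⬝ᵥ Pi.single 1 1 = 1 := by
    rw [hφ', ← dotProduct_mulVec, hg₁b, hb]
  -- the second conjugation
  set r : Fin (n + 3) → F := Pi.single 1 1 - φ' with hr
  have hr1 : r ⬝ᵥ Pi.single 1 1 = 0 := by
    rw [hr, sub_dotProduct, hφ'1, single_dotProduct, one_mul, Pi.single_eq_same, sub_self]
  have hr0 : r ⬝ᵥ Pi.single 0 1 = 0 := by
    rw [hr, sub_dotProduct, hφ'0, single_dotProduct, one_mul, sub_zero]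
    simp
  let k : SpecialLinearGroup (Fin (n + 3)) F := ⟨tv (Pi.single 1 1) r, tv_det _ _ hr1⟩
  have hk0 : k.1 *ᵥ (Pi.single 0 1 : Fin (n + 3) → F) = Pi.single 0 1 := by
    change tv (Pi.single 1 1) r *ᵥ _ = _
    rw [tv_mulVec, hr0, zero_smul, add_zero]
  have hk1 : φ' ᵥ* k.1 = Pi.single 1 1 := by
    change φ' ᵥ* tv (Pi.single 1 1) r = _
    rw [tv, vecMul_add, vecMul_one, vecMul_vecMulVec, hφ'1, one_smul, hr]
    abel
  have e2 : (k⁻¹).1 * tv (Pi.single 0 1) φ' * k.1 = tv (Pi.single 0 1) (Pi.single 1 1) := by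
    have := conj_tv_inv k (Pi.single 0 1) φ'
    rw [hk0, hk1] at this
    exact this
  refine ⟨g₁ * k, ?_⟩
  rw [_root_.mul_inv_rev, Matrix.SpecialLinearGroup.coe_mul, Matrix.SpecialLinearGroup.coe_mul]
  have : (k⁻¹).1 * (g₁⁻¹).1 * tv a φ * (g₁.1 * k.1) =
      (k⁻¹).1 * ((g₁⁻¹).1 * tv a φ * g₁.1) * k.1 := by
    simp only [Matrix.mul_assoc]
  rw [this, e1, e2, transvection_eq_tv, one_smul]

end std

section pairs
variable {N : ℕ} {F : Type*} [Field F]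

/-- the nilpotent part `tv u φ * tv v ψ - 1` of a product of two transvections -/
def XX (u φ v ψ : Fin N → F) : Matrix (Fin N) (Fin N) F :=
  vecMulVec u φ + vecMulVec v ψ + (φ ⬝ᵥ v) • vecMulVec u ψ

theorem tv_mul_tv' (u φ v ψ : Fin N → F) : tv u φ * tv v ψ = 1 + XX u φ v ψ := by
  rw [tv_mul_tv, XX]
  abel

theorem XX_sq (u φ v ψ : Fin N → F) (hu : φ ⬝ᵥ u = 0) (hv : ψ ⬝ᵥ v = 0) :
    XX u φ v ψ * XX u φ v ψ =
      ((φ ⬝ᵥ v) * (ψ ⬝ᵥ u)) • vecMulVec u φ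
        + ((φ ⬝ᵥ v) * (1 + (φ ⬝ᵥ v) * (ψ ⬝ᵥ u))) • vecMulVec u ψ
        + (ψ ⬝ᵥ u) • vecMulVec v φ + ((φ ⬝ᵥ v) * (ψ ⬝ᵥ u)) • vecMulVec v ψ := by
  unfold XX
  simp only [mul_add, add_mul, smul_mul_assoc, mul_smul_comm, vecMulVec_mul_vecMulVec,
    vecMulVec_smul, smul_smul]
  simp only [hu, hv, zero_smul, smul_zero, mul_zero, zero_mul]
  module

theorem XX_cube (u φ v ψ : Fin N → F) (hu : φ ⬝ᵥ u = 0) (hv : ψ ⬝ᵥ v = 0) :
    XX u φ v ψ * XX u φ v ψ * XX u φ v ψ =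
      ((φ ⬝ᵥ v) * (ψ ⬝ᵥ u) * (1 + (φ ⬝ᵥ v) * (ψ ⬝ᵥ u))) • vecMulVec u φ
        + ((φ ⬝ᵥ v) * ((φ ⬝ᵥ v) * (ψ ⬝ᵥ u)) * (2 + (φ ⬝ᵥ v) * (ψ ⬝ᵥ u))) • vecMulVec u ψ
        + ((φ ⬝ᵥ v) * (ψ ⬝ᵥ u) * (ψ ⬝ᵥ u)) • vecMulVec v φ
        + ((φ ⬝ᵥ v) * (ψ ⬝ᵥ u) * (1 + (φ ⬝ᵥ v) * (ψ ⬝ᵥ u))) • vecMulVec v ψ := by
  rw [XX_sq u φ v ψ hu hv]
  unfold XX
  simp only [mul_add, add_mul, smul_mul_assoc, mul_smul_comm, vecMulVec_mul_vecMulVec,
    vecMulVec_smul, smul_smul]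
  simp only [hu, hv, zero_smul, smul_zero, mul_zero, zero_mul]
  module

end pairs

section chartwo
variable {N : ℕ} {F : Type*} [Field F] [CharP F 2]

theorem two_eq_zero' : (2 : F) = 0 := by
  have := CharP.cast_eq_zero F 2
  exact_mod_cast this

theorem add_self_mat (M : Matrix (Fin N) (Fin N) F) : M + M = 0 := by
  rw [← two_smul F M, two_eq_zero', zero_smul]

theorem tv_sq (a φ : Fin N → F) (h : φ ⬝ᵥ a = 0) : tv a φ * tv a φ = 1 := by
  rw [tv_mul_tv, h, zero_smul, add_zero, add_assoc, add_self_mat, add_zero]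

theorem one_add_sq (X : Matrix (Fin N) (Fin N) F) : (1 + X) * (1 + X) = 1 + X * X := by
  have h1 : (1 + X) * (1 + X) = 1 + (X + X) + X * X := by noncomm_ring
  rw [h1, add_self_mat, add_zero]

/-- commuting case -/
theorem tv_comm (u φ v ψ : Fin N → F) (h1 : φ ⬝ᵥ v = 0) (h2 : ψ ⬝ᵥ u = 0) :
    tv u φ * tv v ψ = tv v ψ * tv u φ := by
  rw [tv_mul_tv, tv_mul_tv, h1, h2, zero_smul, zero_smul]
  abel

/-- the square of a product of two transvections -/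
theorem tv_mul_tv_sq (u φ v ψ : Fin N → F) (hu : φ ⬝ᵥ u = 0) (hv : ψ ⬝ᵥ v = 0) :
    (tv u φ * tv v ψ) * (tv u φ * tv v ψ) = 1 + XX u φ v ψ * XX u φ v ψ := by
  rw [tv_mul_tv', one_add_sq]

theorem tv_mul_tv_sq_of_right (u φ v ψ : Fin N → F) (hu : φ ⬝ᵥ u = 0) (hv : ψ ⬝ᵥ v = 0)
    (h2 : ψ ⬝ᵥ u = 0) :
    (tv u φ * tv v ψ) * (tv u φ * tv v ψ) = tv u ((φ ⬝ᵥ v) • ψ) := by
  rw [tv_mul_tv_sq u φ v ψ hu hv, XX_sq u φ v ψ hu hv, h2, tv, vecMulVec_smul]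
  simp

theorem tv_mul_tv_sq_of_left (u φ v ψ : Fin N → F) (hu : φ ⬝ᵥ u = 0) (hv : ψ ⬝ᵥ v = 0)
    (h1 : φ ⬝ᵥ v = 0) :
    (tv u φ * tv v ψ) * (tv u φ * tv v ψ) = tv v ((ψ ⬝ᵥ u) • φ) := by
  rw [tv_mul_tv_sq u φ v ψ hu hv, XX_sq u φ v ψ hu hv, h1, tv, vecMulVec_smul]
  simp

open Polynomial in
/-- the cubic satisfied by a product of two transvections -/
theorem aeval_tv_mul_tv (u φ v ψ : Fin N → F) (hu : φ ⬝ᵥ u = 0) (hv : ψ ⬝ᵥ v = 0) :
    aeval (tv u φ * tv v ψ)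
      ((X + 1) * (X ^ 2 + C ((φ ⬝ᵥ v) * (ψ ⬝ᵥ u)) * X + 1) : F[X]) = 0 := by
  have h2 : (2 : F) = 0 := two_eq_zero'
  obtain ⟨t, ht⟩ : ∃ t : F, t = (φ ⬝ᵥ v) * (ψ ⬝ᵥ u) := ⟨_, rfl⟩
  rw [← ht]
  simp only [map_mul, map_add, map_pow, aeval_X, map_one, aeval_C]
  rw [tv_mul_tv', pow_two, one_add_sq, Algebra.algebraMap_eq_smul_one, ht]
  have e1 : (1 + XX u φ v ψ + 1 : Matrix (Fin N) (Fin N) F) = XX u φ v ψ := by
    rw [add_comm (1 : Matrix (Fin N) (Fin N) F), add_assoc, add_self_mat, add_zero]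
  rw [e1]
  have e2 : (1 + XX u φ v ψ * XX u φ v ψ +
      ((φ ⬝ᵥ v) * (ψ ⬝ᵥ u)) • (1 : Matrix (Fin N) (Fin N) F) * (1 + XX u φ v ψ) + 1) =
      XX u φ v ψ * XX u φ v ψ + ((φ ⬝ᵥ v) * (ψ ⬝ᵥ u)) • XX u φ v ψ +
        ((φ ⬝ᵥ v) * (ψ ⬝ᵥ u)) • (1 : Matrix (Fin N) (Fin N) F) := by
    rw [smul_mul_assoc, one_mul, smul_add]
    have := add_self_mat (1 : Matrix (Fin N) (Fin N) F)
    linear_combination (norm := module) this
  rw [e2, mul_add, mul_add, mul_smul_comm, mul_smul_comm, mul_one, ← mul_assoc,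
    XX_cube u φ v ψ hu hv, XX_sq u φ v ψ hu hv]
  unfold XX
  linear_combination (norm := module) h2 •
    ((((φ ⬝ᵥ v) * (ψ ⬝ᵥ u)) + ((φ ⬝ᵥ v) * (ψ ⬝ᵥ u)) ^ 2) • vecMulVec u φ
      + ((φ ⬝ᵥ v) * ((φ ⬝ᵥ v) * (ψ ⬝ᵥ u)) * (2 + (φ ⬝ᵥ v) * (ψ ⬝ᵥ u))) • vecMulVec u ψ
      + ((φ ⬝ᵥ v) * (ψ ⬝ᵥ u) * (ψ ⬝ᵥ u)) • vecMulVec v φ
      + (((φ ⬝ᵥ v) * (ψ ⬝ᵥ u)) + ((φ ⬝ᵥ v) * (ψ ⬝ᵥ u)) ^ 2) • vecMulVec v ψ)

open Polynomial in
theorem separable_cubic (t : F) (ht : t ≠ 0) :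
    ((X + 1) * (X ^ 2 + C t * X + 1) : F[X]).Separable := by
  have h2 : (2 : F[X]) = 0 := by
    rw [← C_ofNat, two_eq_zero', C_0]
  rw [separable_def']
  refine ⟨C (t ^ 2)⁻¹, C (t ^ 2)⁻¹ * (X + C (t + 1)), ?_⟩
  have hd : derivative ((X + 1) * (X ^ 2 + C t * X + 1) : F[X]) =
      (X ^ 2 + C t * X + 1) + (X + 1) * (2 * X + C t) := by
    rw [derivative_mul, derivative_add, derivative_add, derivative_add, derivative_X, derivative_one,
      derivative_X_sq, derivative_C_mul, derivative_X, add_zero, one_mul, mul_one, add_zero, C_ofNat]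
  rw [hd]
  have ht2 : C (t ^ 2)⁻¹ * C (t ^ 2) = (1 : F[X]) := by
    rw [← C_mul, inv_mul_cancel₀ (pow_ne_zero 2 ht), C_1]
  have key : ((X + 1) * (X ^ 2 + C t * X + 1) : F[X]) +
      (X + C (t + 1)) * ((X ^ 2 + C t * X + 1) + (X + 1) * (2 * X + C t)) = C (t ^ 2) := by
    simp only [C_add, C_1, C_pow]
    linear_combination (2 * X ^ 3 + 3 * (C t + 1) * X ^ 2 + (C t + 1) * (C t + 2) * X + (C t + 1)) * h2
  linear_combination C (t ^ 2)⁻¹ * key + ht2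

open Polynomial in
/-- an element of `SL` killed by the separable cubic has odd order -/
theorem odd_orderOf_of_aeval [Fintype F]
    (g : Matrix.SpecialLinearGroup (Fin N) F) (t : F) (ht : t ≠ 0)
    (h : aeval (g : Matrix (Fin N) (Fin N) F) ((X + 1) * (X ^ 2 + C t * X + 1) : F[X]) = 0) :
    Odd (orderOf g) := by
  classical
  have h2 : (2 : F) = 0 := two_eq_zero'
  by_contra hodd
  rw [Nat.not_odd_iff_even] at hodd
  obtain ⟨M, hM⟩ := hodd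
  have hpos : 0 < orderOf g := orderOf_pos g
  have hMpos : 0 < M := by omega
  set A : Matrix (Fin N) (Fin N) F := (g : Matrix (Fin N) (Fin N) F) with hA
  have hAM : A ^ (M + M) = 1 := by
    rw [hA, ← Matrix.SpecialLinearGroup.coe_pow, ← hM, pow_orderOf_eq_one,
      Matrix.SpecialLinearGroup.coe_one]
  have hq2 : aeval A ((X ^ M + 1 : F[X]) ^ 2) = 0 := by
    simp only [map_pow, map_add, aeval_X, map_one]
    have : (A ^ M + 1) ^ 2 = A ^ (M + M) + (2 : F) • A ^ M + 1 := by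
      rw [pow_add, two_smul]
      noncomm_ring
    rw [this, hAM, h2, zero_smul, add_zero, ← two_smul F (1 : Matrix (Fin N) (Fin N) F), h2, zero_smul]
  have hdvd1 : minpoly F A ∣ (X ^ M + 1 : F[X]) ^ 2 := minpoly.dvd F A hq2
  have hdvd2 : minpoly F A ∣ ((X + 1) * (X ^ 2 + C t * X + 1) : F[X]) := minpoly.dvd F A h
  have hsf : Squarefree (minpoly F A) :=
    Squarefree.squarefree_of_dvd hdvd2 (separable_cubic t ht).squarefree
  have hdvd3 : minpoly F A ∣ (X ^ M + 1 : F[X]) :=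
    (hsf.dvd_pow_iff_dvd (by norm_num)).mp hdvd1
  obtain ⟨r, hr⟩ := hdvd3
  have h3 : aeval A (X ^ M + 1 : F[X]) = 0 := by
    rw [hr, map_mul, minpoly.aeval, zero_mul]
  simp only [map_pow, map_add, aeval_X, map_one] at h3
  have h4 : A ^ M = 1 := by
    have : A ^ M = -1 := eq_neg_of_add_eq_zero_left h3
    rw [this, neg_eq_iff_add_eq_zero, ← two_smul F (1 : Matrix (Fin N) (Fin N) F), h2, zero_smul]
  have h5 : g ^ M = 1 := by
    apply Subtype.ext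
    rw [Matrix.SpecialLinearGroup.coe_pow, Matrix.SpecialLinearGroup.coe_one]
    exact h4
  have := orderOf_dvd_of_pow_eq_one h5
  have := Nat.le_of_dvd hMpos this
  omega

end chartwo

end Cfsg.Agent.Lib.Helper6.RootInvSL
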