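import Mathlib
import Cfsg.Prelude.Def_LieClassical
import Cfsg.Agent.Lib.Helper6.Unitary
import Cfsg.Agent.Lib.Helper6.Symp

set_option autoImplicit false
open Cfsg

namespace Cfsg.Agent.Lib.Helper6

open Matrix Module Cfsg.Agent.S0779

section
variable {F : Type*} [Field F] [Fintype F] {q n : ℕ}

theorem GU_pres (g : ↥(Cfsg.GU n F q)) (x y : Fin n → F) :
    hermForm n F q (((g : Matrix.GeneralLinearGroup (Fin n) F) : Matrix (Fin n) (Fin n) F) *ᵥ x)
      (((g : Matrix.GeneralLinearGroup (Fin n) F) : Matrix (Fin n) (Fin n) F) *ᵥ y) =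
      hermForm n F q x y := g.2 x y

/-- a form-preserving matrix gives an element of `GU` -/
theorem exists_GU_of_pres (hF : Fintype.card F = q ^ 2) (M : Matrix (Fin n) (Fin n) F)
    (hM : ∀ x y, hermForm n F q (M *ᵥ x) (M *ᵥ y) = hermForm n F q x y) :
    ∃ g : ↥(Cfsg.GU n F q),
      ((g : Matrix.GeneralLinearGroup (Fin n) F) : Matrix (Fin n) (Fin n) F) = M := by
  have hunit : IsUnit M := by
    rw [← Matrix.mulVec_injective_iff_isUnit]
    intro x y hxy
    have h0 : M *ᵥ (x - y) = 0 := by rw [Matrix.mulVec_sub, hxy, sub_self]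
    have : x - y = 0 := by
      apply herm_nondeg hF
      intro z
      rw [← hM, h0, herm_zero_left]
    exact sub_eq_zero.mp this
  have hval : ((hunit.unit : Matrix.GeneralLinearGroup (Fin n) F) : Matrix (Fin n) (Fin n) F) = M :=
    IsUnit.unit_spec hunit
  refine ⟨⟨hunit.unit, ?_⟩, hval⟩
  intro x y
  change hermForm n F q
    (((hunit.unit : Matrix.GeneralLinearGroup (Fin n) F) : Matrix (Fin n) (Fin n) F) *ᵥ x)
    (((hunit.unit : Matrix.GeneralLinearGroup (Fin n) F) : Matrix (Fin n) (Fin n) F) *ᵥ y) = _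
  rw [hval]
  exact hM x y

theorem diag_pres (d : Fin n → F) (hd : ∀ i, d i ^ (q + 1) = 1) (x y : Fin n → F) :
    hermForm n F q (Matrix.diagonal d *ᵥ x) (Matrix.diagonal d *ᵥ y) = hermForm n F q x y := by
  simp only [hermForm, Matrix.mulVec_diagonal]
  apply Finset.sum_congr rfl
  intro i _
  have : d i * x i * (d i * y i) ^ q = d i ^ (q + 1) * (x i * y i ^ q) := by ring
  rw [this, hd, one_mul]

theorem swap_pres (i j : Fin n) (x y : Fin n → F) :
    hermForm n F q (Matrix.swap F i j *ᵥ x) (Matrix.swap F i j *ᵥ y) = hermForm n F q x y := by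
  simp only [hermForm, Matrix.swap_mulVec, Function.comp_apply]
  exact Equiv.sum_comp (Equiv.swap i j) (fun k => x k * y k ^ q)

theorem smul_pres (a : F) (ha : a ^ (q + 1) = 1) (x y : Fin n → F) :
    hermForm n F q ((a • (1 : Matrix (Fin n) (Fin n) F)) *ᵥ x)
      ((a • (1 : Matrix (Fin n) (Fin n) F)) *ᵥ y) = hermForm n F q x y := by
  rw [Matrix.smul_mulVec, Matrix.smul_mulVec, Matrix.one_mulVec, Matrix.one_mulVec,
    herm_smul_left, herm_smul_right]
  have : a * (a ^ q * hermForm n F q x y) = a ^ (q + 1) * hermForm n F q x y := by ring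
  rw [this, ha, one_mul]

/-- the determinant of a unitary matrix has norm one -/
theorem det_norm_of_pres (hF : Fintype.card F = q ^ 2) (M : Matrix (Fin n) (Fin n) F)
    (hM : ∀ x y, hermForm n F q (M *ᵥ x) (M *ᵥ y) = hermForm n F q x y) :
    M.det ^ (q + 1) = 1 := by
  classical
  have h1 : Mᵀ * M.map (conjQ hF) = 1 := by
    ext i j
    have := hM (Pi.single i 1) (Pi.single j 1)
    rw [herm_single_right hF] at this
    rw [Matrix.mul_apply, Matrix.one_apply]
    have e : ∀ k, (M *ᵥ Pi.single k 1) = fun l => M l k := by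
      intro k; ext l; simp
    rw [e i, e j] at this
    simp only [hermForm] at this
    simp only [Matrix.transpose_apply, Matrix.map_apply, conjQ_apply]
    rw [this, Pi.single_apply]
    simp [eq_comm]
  have h2 := congrArg Matrix.det h1
  have h3 : (M.map (conjQ hF)).det = conjQ hF M.det := (RingHom.map_det _ _).symm
  rw [Matrix.det_mul, Matrix.det_transpose, Matrix.det_one, h3, conjQ_apply] at h2
  rw [pow_succ', h2]

/-- a primitive `(q+1)`-th root of unity -/
theorem exists_prim_root (hF : Fintype.card F = q ^ 2) : ∃ ζ : Fˣ, IsPrimitiveRoot ζ (q + 1) := by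
  classical
  have hq := two_le_q hF
  obtain ⟨γ, hγ⟩ := IsCyclic.exists_generator (α := Fˣ)
  have hord : orderOf γ = (q - 1) * (q + 1) := by
    rw [orderOf_eq_card_of_forall_mem_zpowers hγ, Nat.card_eq_fintype_card, Fintype.card_units, hF]
    have : q ^ 2 = (q - 1) * (q + 1) + 1 := by
      obtain ⟨r, rfl⟩ : ∃ r, q = r + 1 := ⟨q - 1, by omega⟩
      simp only [Nat.add_sub_cancel]
      ring
    omega
  refine ⟨γ ^ (q - 1), (IsPrimitiveRoot.orderOf γ).pow ?_ hord⟩
  rw [hord]
  exact Nat.mul_pos (by omega) (by omega)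

/-- a matrix commuting with all unitary diagonal matrices and all swap matrices is scalar -/
theorem scalar_of_commute (hF : Fintype.card F = q ^ 2) (hn : 1 ≤ n)
    (z : Matrix (Fin n) (Fin n) F)
    (hd : ∀ d : Fin n → F, (∀ i, d i ^ (q + 1) = 1) → z * Matrix.diagonal d = Matrix.diagonal d * z)
    (hs : ∀ i j, z * Matrix.swap F i j = Matrix.swap F i j * z) :
    ∃ a : F, z = a • (1 : Matrix (Fin n) (Fin n) F) := by
  classical
  obtain ⟨ζ, hζ⟩ := exists_prim_root hF
  have hq := two_le_q hF
  have hζ1 : (ζ : F) ^ (q + 1) = 1 := by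
    rw [← Units.val_pow_eq_pow_val, hζ.pow_eq_one, Units.val_one]
  have hζne : (ζ : F) ≠ 1 := by
    intro h
    have : ζ = 1 := Units.ext h
    have h1 := hζ.pow_ne_one_of_pos_of_lt (l := 1) one_ne_zero (by omega)
    rw [pow_one] at h1
    exact h1 this
  have hoff : ∀ j k, j ≠ k → z j k = 0 := by
    intro j k hjk
    have h1 := hd (Function.update (fun _ => (1 : F)) k (ζ : F)) (by
      intro i
      by_cases hik : i = k
      · subst hik; simp [hζ1]
      · simp [Function.update_of_ne hik])
    have h2 := congrFun (congrFun h1 j) k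
    rw [Matrix.mul_diagonal, Matrix.diagonal_mul, Function.update_self,
      Function.update_of_ne hjk, one_mul] at h2
    have h3 : z j k * ((ζ : F) - 1) = 0 := by linear_combination h2
    rcases mul_eq_zero.mp h3 with h | h
    · exact h
    · exact absurd (sub_eq_zero.mp h) hζne
  have hdiag : ∀ i j, z i i = z j j := by
    intro i j
    have h1 := congrFun (congrFun (hs i j) i) j
    rw [Matrix.mul_swap_apply_right, Matrix.swap_mul_apply_left] at h1
    exact h1
  refine ⟨z ⟨0, hn⟩ ⟨0, hn⟩, ?_⟩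
  ext i j
  rw [Matrix.smul_apply, Matrix.one_apply]
  by_cases hij : i = j
  · subst hij
    rw [if_pos rfl, smul_eq_mul, mul_one]
    exact hdiag _ _
  · rw [if_neg hij, smul_zero]
    exact hoff i j hij

end

end Cfsg.Agent.Lib.Helper6
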