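import Mathlib
import Cfsg.Agent.Lib.Helper6.Unitary2

set_option autoImplicit false
open Cfsg

namespace Cfsg.Agent.Lib.Helper6

open Matrix Module Cfsg.Agent.S0779

section
variable {F : Type*} [Field F] [Fintype F] {q : ℕ}

theorem norm_fixed (hF : Fintype.card F = q ^ 2) (t : F) : (t ^ (q + 1)) ^ q = t ^ (q + 1) := by
  rw [← pow_mul, add_mul, one_mul, pow_add, ← sq, ← hF, FiniteField.pow_card, mul_comm]
  rw [← pow_succ]

/-- the fibres of the norm map over non-zero elements of the fixed field have `q + 1` elements -/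
theorem card_norm_fiber (hF : Fintype.card F = q ^ 2) (c : F) (hc0 : c ≠ 0) (hc : c ^ q = c) :
    Nat.card {t : F // t ^ (q + 1) = c} = q + 1 := by
  classical
  obtain ⟨t₀, ht₀⟩ := exists_norm (conjQ hF) (conjQ_ne_id hF) (conjQ_conjQ hF) c hc0 hc
  rw [conjQ_apply, ← pow_succ'] at ht₀
  have ht₀0 : t₀ ≠ 0 := by
    rintro rfl
    rw [zero_pow (Nat.succ_ne_zero q)] at ht₀
    exact hc0 ht₀.symm
  obtain ⟨ζ, hζ⟩ := exists_prim_root hF
  haveI : NeZero (q + 1) := ⟨Nat.succ_ne_zero q⟩
  refine (Nat.card_congr ?_).trans hζ.card_rootsOfUnity'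
  refine
    { toFun := fun t => ⟨Units.mk0 (t.1 / t₀) (div_ne_zero (by
          intro h
          have := t.2
          rw [h, zero_pow (Nat.succ_ne_zero q)] at this
          exact hc0 this.symm) ht₀0), ?_⟩
      invFun := fun z => ⟨(z.1 : F) * t₀, ?_⟩
      left_inv := fun t => ?_
      right_inv := fun z => ?_ }
  · rw [mem_rootsOfUnity]
    apply Units.ext
    rw [Units.val_pow_eq_pow_val, Units.val_mk0, Units.val_one, div_pow, t.2, ht₀, div_self hc0]
  · have := (mem_rootsOfUnity _ _).mp z.2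
    have h1 : ((z.1 : Fˣ) : F) ^ (q + 1) = 1 := by
      rw [← Units.val_pow_eq_pow_val, this, Units.val_one]
    rw [mul_pow, h1, one_mul, ht₀]
  · apply Subtype.ext
    simp only [Units.val_mk0]
    field_simp
  · apply Subtype.ext
    apply Units.ext
    simp only [Units.val_mk0]
    field_simp

variable {n : ℕ}

/-- number of vectors of given norm in the standard unitary space -/
noncomputable def normCount (n : ℕ) (F : Type*) [Field F] (q : ℕ) (c : F) : ℕ :=
  Nat.card {x : Fin n → F // hermForm n F q x x = c}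

theorem card_eq_sum_fiber {A B : Type*} [Finite A] [Fintype B] (f : A → B) :
    Nat.card A = ∑ b, Nat.card {a // f a = b} := by
  rw [← Nat.card_congr (Equiv.sigmaFiberEquiv f), Nat.card_sigma]

theorem normCount_succ (c : F) :
    normCount (n + 1) F q c = ∑ t : F, normCount n F q (c - t ^ (q + 1)) := by
  classical
  unfold normCount
  rw [card_eq_sum_fiber (fun x : {x : Fin (n + 1) → F // hermForm (n + 1) F q x x = c} => x.1 0)]
  apply Finset.sum_congr rfl
  intro t _
  apply Nat.card_congr
  refine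
    { toFun := fun x => ⟨Fin.tail x.1.1, ?_⟩
      invFun := fun x' => ⟨⟨Fin.cons t x'.1, ?_⟩, ?_⟩
      left_inv := fun x => ?_
      right_inv := fun x' => ?_ }
  · have h1 : hermForm (n + 1) F q x.1.1 x.1.1 = c := x.1.2
    have h2 : x.1.1 0 = t := x.2
    simp only [hermForm, Fin.sum_univ_succ] at h1
    simp only [hermForm, Fin.tail]
    rw [h2] at h1
    linear_combination h1
  · have h1 : hermForm n F q x'.1 x'.1 = c - t ^ (q + 1) := x'.2
    simp only [hermForm] at h1
    simp only [hermForm, Fin.sum_univ_succ, Fin.cons_zero, Fin.cons_succ]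
    linear_combination h1
  · simp
  · apply Subtype.ext
    apply Subtype.ext
    have h2 : x.1.1 0 = t := x.2
    simp only
    have h3 := Fin.cons_self_tail x.1.1
    rw [h2] at h3
    exact h3
  · apply Subtype.ext
    simp

theorem normCount_zero_zero : normCount 0 F q (0 : F) = 1 := by
  unfold normCount
  have h0 : ∀ x : Fin 0 → F, hermForm 0 F q x x = 0 := fun x => by simp [hermForm]
  rw [Nat.card_eq_one_iff_unique]
  exact ⟨⟨fun a b => Subtype.ext (Subsingleton.elim _ _)⟩, ⟨⟨fun i => i.elim0, h0 _⟩⟩⟩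

theorem normCount_zero_ne (c : F) (hc : c ≠ 0) : normCount 0 F q c = 0 := by
  unfold normCount
  have h0 : ∀ x : Fin 0 → F, hermForm 0 F q x x = 0 := fun x => by simp [hermForm]
  rw [Nat.card_eq_zero]
  left
  exact ⟨fun x => hc (by rw [← x.2, h0])⟩

theorem normCount_formula (hF : Fintype.card F = q ^ 2) : ∀ n : ℕ, ∃ z s : ℤ,
    (normCount n F q 0 : ℤ) = z ∧ (∀ c : F, c ≠ 0 → c ^ q = c → (normCount n F q c : ℤ) = s) ∧
    (∀ c : F, c ^ q ≠ c → normCount n F q c = 0) ∧
    (q : ℤ) * z = (q : ℤ) ^ (2 * n) + (-1) ^ n * ((q : ℤ) - 1) * (q : ℤ) ^ n ∧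
    (q : ℤ) * s = (q : ℤ) ^ (2 * n) - (-1) ^ n * (q : ℤ) ^ n := by
  classical
  have hq0 : q ≠ 0 := (q_pos hF).ne'
  intro n
  induction n with
  | zero =>
    refine ⟨1, 0, ?_, ?_, ?_, ?_, ?_⟩
    · rw [normCount_zero_zero]; rfl
    · intro c hc _
      rw [normCount_zero_ne c hc]; rfl
    · intro c hc
      apply normCount_zero_ne
      rintro rfl
      exact hc (zero_pow hq0)
    · simp
    · simp
  | succ n ih =>
    obtain ⟨z, s, hz, hs, h0, hqz, hqs⟩ := ih
    have hsub : ∀ c t : F, (c - t ^ (q + 1)) ^ q = c ^ q - t ^ (q + 1) := by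
      intro c t
      have := map_sub (conjQ hF) c (t ^ (q + 1))
      simp only [conjQ_apply] at this
      rw [this, norm_fixed hF]
    have hN0 : ∀ t : F, t ^ (q + 1) = 0 ↔ t = 0 := by
      intro t
      constructor
      · intro h; exact pow_eq_zero_iff (Nat.succ_ne_zero q) |>.mp h
      · rintro rfl; exact zero_pow (Nat.succ_ne_zero q)
    refine ⟨z + ((q : ℤ) ^ 2 - 1) * s, ((q : ℤ) + 1) * z + ((q : ℤ) ^ 2 - (q + 1)) * s,
      ?_, ?_, ?_, ?_, ?_⟩
    · rw [normCount_succ]
      push_cast
      rw [← Finset.add_sum_erase Finset.univ _ (Finset.mem_univ (0 : F))]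
      have e1 : ((normCount n F q (0 - (0 : F) ^ (q + 1)) : ℕ) : ℤ) = z := by
        rw [zero_pow (Nat.succ_ne_zero q), sub_zero]; exact hz
      rw [e1]
      congr 1
      have e2 : ∀ t ∈ Finset.univ.erase (0 : F),
          ((normCount n F q (0 - t ^ (q + 1)) : ℕ) : ℤ) = s := by
        intro t ht
        have ht0 : t ≠ 0 := Finset.ne_of_mem_erase ht
        apply hs
        · rw [zero_sub, neg_ne_zero]
          exact fun h => ht0 ((hN0 t).mp h)
        · rw [hsub, zero_pow hq0]
      rw [Finset.sum_congr rfl e2, Finset.sum_const, Finset.card_erase_of_mem (Finset.mem_univ _),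
        Finset.card_univ, hF, nsmul_eq_mul]
      have : 1 ≤ q ^ 2 := Nat.one_le_pow _ _ (q_pos hF)
      push_cast [this]
      ring
    · intro c hc0 hc
      rw [normCount_succ]
      push_cast
      have e : ∀ t : F, ((normCount n F q (c - t ^ (q + 1)) : ℕ) : ℤ) =
          if t ^ (q + 1) = c then z else s := by
        intro t
        by_cases ht : t ^ (q + 1) = c
        · rw [if_pos ht, ht, sub_self]; exact hz
        · rw [if_neg ht]
          apply hs
          · exact sub_ne_zero.mpr (Ne.symm ht)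
          · rw [hsub, hc]
      rw [Finset.sum_congr rfl (fun t _ => e t), Finset.sum_ite, Finset.sum_const, Finset.sum_const,
        nsmul_eq_mul, nsmul_eq_mul]
      have hcard1 : (Finset.univ.filter (fun t : F => t ^ (q + 1) = c)).card = q + 1 := by
        have := card_norm_fiber hF c hc0 hc
        rw [Nat.card_eq_fintype_card, Fintype.card_subtype] at this
        exact this
      have hcard2 : (Finset.univ.filter (fun t : F => ¬ t ^ (q + 1) = c)).card = q ^ 2 - (q + 1) := by
        have := Finset.card_filter_add_card_filter_not (s := (Finset.univ : Finset F))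
          (fun t : F => t ^ (q + 1) = c)
        rw [hcard1, Finset.card_univ, hF] at this
        omega
      rw [hcard1, hcard2]
      have : q + 1 ≤ q ^ 2 := by
        have := two_le_q hF
        nlinarith
      push_cast [this]
      ring
    · intro c hc
      rw [normCount_succ]
      apply Finset.sum_eq_zero
      intro t _
      apply h0
      rw [hsub]
      intro h
      apply hc
      linear_combination h
    · have e1 : (q : ℤ) * (z + ((q : ℤ) ^ 2 - 1) * s) = (q : ℤ) * z + ((q : ℤ) ^ 2 - 1) * ((q : ℤ) * s) := by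
        ring
      rw [e1, hqz, hqs]
      ring
    · have e1 : (q : ℤ) * (((q : ℤ) + 1) * z + ((q : ℤ) ^ 2 - (q + 1)) * s) =
          ((q : ℤ) + 1) * ((q : ℤ) * z) + ((q : ℤ) ^ 2 - (q + 1)) * ((q : ℤ) * s) := by ring
      rw [e1, hqz, hqs]
      ring

theorem isoCount_formula (hF : Fintype.card F = q ^ 2) (n : ℕ) :
    (q : ℤ) * (normCount n F q (0 : F) : ℤ) =
      (q : ℤ) ^ (2 * n) + (-1) ^ n * ((q : ℤ) - 1) * (q : ℤ) ^ n := by
  obtain ⟨z, s, hz, -, -, hqz, -⟩ := normCount_formula hF n
  rw [hz, hqz]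

theorem herm_self_fixed (hF : Fintype.card F = q ^ 2) (y : Fin n → F) :
    (hermForm n F q y y) ^ q = hermForm n F q y y := herm_conj hF y y

/-- hyperbolic partner of a non-zero isotropic vector -/
theorem exists_herm_partner (hF : Fintype.card F = q ^ 2) (x : Fin n → F) (hx : x ≠ 0)
    (hxx : hermForm n F q x x = 0) :
    ∃ x', hermForm n F q x' x = 1 ∧ hermForm n F q x x' = 1 ∧ hermForm n F q x' x' = 0 := by
  obtain ⟨y₀, hy₀⟩ : ∃ y₀, hermForm n F q y₀ x ≠ 0 := by
    by_contra hcon
    push Not at hcon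
    apply hx
    apply herm_nondeg hF
    intro y
    exact herm_swap_zero hF (hcon y)
  obtain ⟨y₁, hy₁⟩ : ∃ y₁, hermForm n F q y₁ x = 1 := by
    refine ⟨(hermForm n F q y₀ x)⁻¹ • y₀, ?_⟩
    rw [herm_smul_left, inv_mul_cancel₀ hy₀]
  have hxy₁ : hermForm n F q x y₁ = 1 := by
    rw [← herm_conj hF, hy₁, one_pow]
  obtain ⟨t, ht⟩ := exists_trace (conjQ hF) (conjQ_ne_id hF) (conjQ_conjQ hF)
    (-(hermForm n F q y₁ y₁)) (by rw [map_neg, conjQ_apply, herm_self_fixed hF])
  rw [conjQ_apply] at ht
  refine ⟨y₁ + t • x, ?_, ?_, ?_⟩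
  · rw [herm_add_left, herm_smul_left, hy₁, hxx, mul_zero, add_zero]
  · rw [herm_add_right hF, herm_smul_right, hxy₁, hxx, mul_zero, add_zero]
  · rw [herm_add_left, herm_add_right hF, herm_add_right hF, herm_smul_left, herm_smul_left,
      herm_smul_right, herm_smul_right, hxx, hy₁, hxy₁]
    linear_combination ht

theorem herm_sub_left' (x y z : Fin n → F) :
    hermForm n F q (x - y) z = hermForm n F q x z - hermForm n F q y z := by
  simp only [hermForm, Pi.sub_apply, sub_mul, Finset.sum_sub_distrib]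

/-- the isotropic vectors perpendicular to a non-zero isotropic vector -/
theorem card_perp_iso (hF : Fintype.card F = q ^ 2) (hn : 2 ≤ n) (x : Fin n → F) (hx : x ≠ 0)
    (hxx : hermForm n F q x x = 0) :
    Nat.card {y : Fin n → F // hermForm n F q y x = 0 ∧ hermForm n F q y y = 0} =
      q ^ 2 * normCount (n - 2) F q (0 : F) := by
  classical
  obtain ⟨x', hx'x, hxx', hx'x'⟩ := exists_herm_partner hF x hx hxx
  -- the complement
  let T : (Fin n → F) →ₗ[F] F × F := (hermB n hF x).prod (hermB n hF x')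
  have hT : ∀ y, T y = (hermForm n F q y x, hermForm n F q y x') := fun y => rfl
  obtain ⟨U, hU⟩ : ∃ U : Submodule F (Fin n → F), U = LinearMap.ker T := ⟨_, rfl⟩
  have hmemU : ∀ y, y ∈ U ↔ hermForm n F q y x = 0 ∧ hermForm n F q y x' = 0 := by
    intro y
    rw [hU, LinearMap.mem_ker, hT, Prod.mk_eq_zero]
  have hsurj : LinearMap.range T = ⊤ := by
    rw [LinearMap.range_eq_top]
    rintro ⟨a, b⟩
    refine ⟨a • x' + b • x, ?_⟩
    rw [hT, herm_add_left, herm_add_left, herm_smul_left, herm_smul_left, herm_smul_left,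
      herm_smul_left, hx'x, hxx, hx'x', hxx']
    simp
  have hdim : finrank F U = n - 2 := by
    have h1 := LinearMap.finrank_range_add_finrank_ker T
    rw [hsurj, ← hU, finrank_top, Module.finrank_prod, Module.finrank_self, Module.finrank_pi,
      Fintype.card_fin] at h1
    omega
  -- decomposition of an arbitrary vector
  have hdec : ∀ y : Fin n → F,
      y - hermForm n F q y x' • x - hermForm n F q y x • x' ∈ U := by
    intro y
    rw [hmemU]
    constructor
    · rw [herm_sub_left', herm_sub_left', herm_smul_left, herm_smul_left, hxx, hx'x]; ring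
    · rw [herm_sub_left', herm_sub_left', herm_smul_left, herm_smul_left, hxx', hx'x']; ring
  obtain ⟨φ, hφ⟩ := exists_std_herm hF ((hermB n hF).domRestrict₁₂ U U)
    ⟨fun a b => (hermB_isSymm hF).eq (a : Fin n → F) (b : Fin n → F)⟩
    (by
      intro u hu
      apply Subtype.ext
      apply herm_nondeg hF
      intro y
      have h1 : y = (y - hermForm n F q y x' • x - hermForm n F q y x • x') +
          (hermForm n F q y x' • x + hermForm n F q y x • x') := by abel
      rw [h1, herm_add_right hF, herm_add_right hF, herm_smul_right, herm_smul_right,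
        ((hmemU u).mp u.2).1, ((hmemU u).mp u.2).2, mul_zero, mul_zero, add_zero, add_zero]
      exact herm_swap_zero hF (hu ⟨_, hdec y⟩))
    (n - 2) hdim
  have hφ' : ∀ a b : U, hermForm (n - 2) F q (φ a) (φ b) =
      hermForm n F q (a : Fin n → F) (b : Fin n → F) := hφ
  have hcard : Nat.card (F × {z : Fin (n - 2) → F // hermForm (n - 2) F q z z = 0}) =
      q ^ 2 * normCount (n - 2) F q (0 : F) := by
    rw [Nat.card_prod, Nat.card_eq_fintype_card, hF]
    rfl
  rw [← hcard]
  apply Nat.card_congr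
  have hxu : ∀ u : U, hermForm n F q x (u : Fin n → F) = 0 := fun u =>
    herm_swap_zero hF ((hmemU u).mp u.2).1
  refine
    { toFun := fun y => (hermForm n F q y.1 x',
        ⟨φ ⟨y.1 - hermForm n F q y.1 x' • x, ?_⟩, ?_⟩)
      invFun := fun p => ⟨p.1 • x + ((φ.symm p.2.1 : U) : Fin n → F), ?_, ?_⟩
      left_inv := fun y => ?_
      right_inv := fun p => ?_ }
  · rw [hmemU]
    constructor
    · rw [herm_sub_left', herm_smul_left, hxx, y.2.1]; ring
    · rw [herm_sub_left', herm_smul_left, hxx']; ring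
  · rw [hφ']
    simp only
    rw [herm_sub_left', herm_smul_left]
    have e1 : hermForm n F q y.1 (y.1 - hermForm n F q y.1 x' • x) = 0 := by
      have h1 : y.1 - hermForm n F q y.1 x' • x = y.1 + (-(hermForm n F q y.1 x')) • x := by
        rw [neg_smul]; abel
      rw [h1, herm_add_right hF, herm_smul_right, y.2.1, y.2.2]; ring
    have e2 : hermForm n F q x (y.1 - hermForm n F q y.1 x' • x) = 0 := by
      have h1 : y.1 - hermForm n F q y.1 x' • x = y.1 + (-(hermForm n F q y.1 x')) • x := by
        rw [neg_smul]; abel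
      rw [h1, herm_add_right hF, herm_smul_right, hxx, herm_swap_zero hF y.2.1]; ring
    rw [e1, e2]; ring
  · rw [herm_add_left, herm_smul_left, hxx, ((hmemU _).mp (φ.symm p.2.1).2).1]; ring
  · have h1 := hφ' (φ.symm p.2.1) (φ.symm p.2.1)
    rw [LinearEquiv.apply_symm_apply, p.2.2] at h1
    rw [herm_add_left, herm_add_right hF, herm_add_right hF, herm_smul_left, herm_smul_left,
      herm_smul_right, herm_smul_right, hxx, hxu, ((hmemU _).mp (φ.symm p.2.1).2).1, ← h1]
    ring
  · apply Subtype.ext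
    simp only [LinearEquiv.symm_apply_apply]
    abel
  · have e1 : hermForm n F q (p.1 • x + ((φ.symm p.2.1 : U) : Fin n → F)) x' = p.1 := by
      rw [herm_add_left, herm_smul_left, hxx', ((hmemU _).mp (φ.symm p.2.1).2).2]; ring
    apply Prod.ext
    · exact e1
    · apply Subtype.ext
      simp only [e1, add_sub_cancel_left, Subtype.coe_eta, LinearEquiv.apply_symm_apply]

theorem card_fiber' {A B : Type*} [Finite A] [Finite B] (f : A → B) (k : ℕ)
    (h : ∀ b, Nat.card {a // f a = b} = k) : Nat.card A = k * Nat.card B := by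
  haveI := Fintype.ofFinite B
  rw [← Nat.card_congr (Equiv.sigmaFiberEquiv f), Nat.card_sigma]
  simp [h, Nat.card_eq_fintype_card, mul_comm]

theorem card_sub_diff {V : Type*} [AddCommGroup V] [Module F V] [Finite V]
    (S W : Submodule F V) (h : S ≤ W) :
    Nat.card {w : V // w ∈ W ∧ w ∉ S} = Nat.card W - Nat.card S := by
  have e1 : Nat.card {w : V // w ∈ W ∧ w ∉ S} = ((W : Set V) \ (S : Set V)).ncard := by
    rw [← Nat.card_coe_set_eq]; rfl
  rw [e1, Set.ncard_sdiff h (Set.toFinite _), ← Nat.card_coe_set_eq, ← Nat.card_coe_set_eq]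
  rfl

theorem card_submodule (hF : Fintype.card F = q ^ 2) {V : Type*} [AddCommGroup V] [Module F V]
    [Finite V] (W : Submodule F V) : Nat.card W = (q ^ 2) ^ finrank F W := by
  haveI : Module.Finite F V := Module.Finite.of_finite
  rw [natCard_eq_pow_finrank (K := F) (V := W), Nat.card_eq_fintype_card, hF]

/-- number of non-zero isotropic vectors -/
noncomputable def isoNZ (n : ℕ) (F : Type*) [Field F] (q : ℕ) : ℕ :=
  Nat.card {v : Fin n → F // v ≠ 0 ∧ hermForm n F q v v = 0}

theorem normCount_zero_eq (hF : Fintype.card F = q ^ 2) :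
    normCount n F q (0 : F) = isoNZ n F q + 1 := by
  classical
  unfold normCount isoNZ
  have e : {x : Fin n → F // hermForm n F q x x = 0} ≃
      Option {v : Fin n → F // v ≠ 0 ∧ hermForm n F q v v = 0} :=
    { toFun := fun x => if h : x.1 = 0 then none else some ⟨x.1, h, x.2⟩
      invFun := fun o => match o with
        | none => ⟨0, herm_zero_left 0⟩
        | some v => ⟨v.1, v.2.2⟩
      left_inv := fun x => by
        by_cases h : x.1 = 0
        · simp only [h, dif_pos]
          exact Subtype.ext h.symm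
        · simp only [h, dif_neg, not_false_eq_true]
      right_inv := fun o => by
        rcases o with _ | v
        · simp
        · simp [v.2.1] }
  rw [Nat.card_congr e, Nat.card_eq_fintype_card, Fintype.card_option, ← Nat.card_eq_fintype_card]

theorem herm_span_pair_isotropic (hF : Fintype.card F = q ^ 2) (v w : Fin n → F)
    (hvv : hermForm n F q v v = 0) (hww : hermForm n F q w w = 0) (hwv : hermForm n F q w v = 0) :
    ∀ x ∈ Submodule.span F {v, w}, ∀ y ∈ Submodule.span F {v, w}, hermForm n F q x y = 0 := by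
  intro x hx y hy
  rw [Submodule.mem_span_pair] at hx hy
  obtain ⟨a, b, rfl⟩ := hx
  obtain ⟨c, d, rfl⟩ := hy
  have hvw := herm_swap_zero hF hwv
  simp only [herm_add_left, herm_add_right hF, herm_smul_left, herm_smul_right, hvv, hww, hwv, hvw]
  ring

theorem finrank_span_pair' {V : Type*} [AddCommGroup V] [Module F V] (v w : V) (hv : v ≠ 0)
    (hw : w ∉ Submodule.span F {v}) : finrank F (Submodule.span F {v, w}) = 2 := by
  have hli : LinearIndependent F ![v, w] := by
    rw [LinearIndependent.pair_iff' hv]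
    intro a ha
    apply hw
    rw [← ha]
    exact Submodule.smul_mem _ _ (Submodule.subset_span rfl)
  have h1 := finrank_span_eq_card hli
  have h2 : Set.range ![v, w] = {v, w} := by
    ext x
    simp [eq_comm, or_comm]
  rw [h2] at h1
  rw [h1]
  rfl

/-- totally isotropic lines through an isotropic point -/
theorem herm_lines_through (hF : Fintype.card F = q ^ 2) (hn : 2 ≤ n) (v : Fin n → F) (hv : v ≠ 0)
    (hvv : hermForm n F q v v = 0) :
    ((q ^ 2) ^ 2 - q ^ 2) * Nat.card {W : Submodule F (Fin n → F) // finrank F W = 2 ∧ v ∈ W ∧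
      ∀ u ∈ W, ∀ w ∈ W, hermForm n F q u w = 0} = q ^ 2 * isoNZ (n - 2) F q := by
  classical
  let f : {w : Fin n → F // (hermForm n F q w v = 0 ∧ hermForm n F q w w = 0) ∧
        w ∉ Submodule.span F {v}} →
      {W : Submodule F (Fin n → F) // finrank F W = 2 ∧ v ∈ W ∧
        ∀ u ∈ W, ∀ w ∈ W, hermForm n F q u w = 0} := fun a =>
    ⟨Submodule.span F {v, a.1}, finrank_span_pair' v a.1 hv a.2.2,
      Submodule.subset_span (by simp), herm_span_pair_isotropic hF v a.1 hvv a.2.1.2 a.2.1.1⟩
  have hfib : ∀ W, Nat.card {a // f a = W} = (q ^ 2) ^ 2 - q ^ 2 := by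
    intro W
    have hvW : Submodule.span F {v} ≤ W.1 := by
      rw [Submodule.span_singleton_le_iff_mem]; exact W.2.2.1
    have hc : Nat.card {w : Fin n → F // w ∈ W.1 ∧ w ∉ Submodule.span F {v}} =
        (q ^ 2) ^ 2 - q ^ 2 := by
      rw [card_sub_diff _ _ hvW, card_submodule hF, card_submodule hF, W.2.1,
        finrank_span_singleton hv, pow_one]
    rw [← hc]
    apply Nat.card_congr
    refine
      { toFun := fun a => ⟨a.1.1, ?_, a.1.2.2⟩
        invFun := fun w => ⟨⟨w.1, ⟨?_, ?_⟩, w.2.2⟩, ?_⟩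
        left_inv := fun a => Subtype.ext (Subtype.ext rfl)
        right_inv := fun w => Subtype.ext rfl }
    · have h1 : Submodule.span F {v, a.1.1} = W.1 := congrArg Subtype.val a.2
      rw [← h1]
      exact Submodule.subset_span (by simp)
    · exact W.2.2.2 w.1 w.2.1 v W.2.2.1
    · exact W.2.2.2 w.1 w.2.1 w.1 w.2.1
    · apply Subtype.ext
      change Submodule.span F {v, w.1} = W.1
      apply Submodule.eq_of_le_of_finrank_eq
      · rw [Submodule.span_le]
        intro x hx
        rcases hx with rfl | rfl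
        · exact W.2.2.1
        · exact w.2.1
      · rw [finrank_span_pair' v w.1 hv w.2.2, W.2.1]
  have h1 := card_fiber' f _ hfib
  rw [← h1]
  -- the cardinality of the source
  have e1 : Nat.card {w : Fin n → F // (hermForm n F q w v = 0 ∧ hermForm n F q w w = 0) ∧
        w ∉ Submodule.span F {v}} =
      ({w : Fin n → F | hermForm n F q w v = 0 ∧ hermForm n F q w w = 0} \
        (Submodule.span F {v} : Set (Fin n → F))).ncard := by
    rw [← Nat.card_coe_set_eq]; rfl
  have hsub : (Submodule.span F {v} : Set (Fin n → F)) ⊆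
      {w : Fin n → F | hermForm n F q w v = 0 ∧ hermForm n F q w w = 0} := by
    intro w hw
    rw [SetLike.mem_coe, Submodule.mem_span_singleton] at hw
    obtain ⟨a, rfl⟩ := hw
    constructor
    · rw [herm_smul_left, hvv, mul_zero]
    · rw [herm_smul_left, herm_smul_right, hvv]; ring
  rw [e1, Set.ncard_sdiff hsub (Set.toFinite _), ← Nat.card_coe_set_eq, ← Nat.card_coe_set_eq]
  have e2 : Nat.card ↥{w : Fin n → F | hermForm n F q w v = 0 ∧ hermForm n F q w w = 0} =
      q ^ 2 * (isoNZ (n - 2) F q + 1) := by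
    rw [← normCount_zero_eq hF, ← card_perp_iso hF hn v hv hvv]
    rfl
  have e3 : Nat.card ↥(Submodule.span F {v} : Set (Fin n → F)) = q ^ 2 := by
    have := card_submodule hF (Submodule.span F {v} : Submodule F (Fin n → F))
    rw [finrank_span_singleton hv, pow_one] at this
    exact this
  rw [e2, e3, mul_add, mul_one, Nat.add_sub_cancel]

/-- double count of incident (isotropic point, totally isotropic line) pairs -/
theorem herm_lines_count (hF : Fintype.card F = q ^ 2) (hn : 2 ≤ n) :
    ((q ^ 2) ^ 2 - q ^ 2) * (((q ^ 2) ^ 2 - 1) *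
      Nat.card {W : Submodule F (Fin n → F) // finrank F W = 2 ∧
        ∀ u ∈ W, ∀ w ∈ W, hermForm n F q u w = 0}) =
      q ^ 2 * isoNZ (n - 2) F q * isoNZ n F q := by
  classical
  let g₂ : {p : (Fin n → F) × Submodule F (Fin n → F) //
        (finrank F p.2 = 2 ∧ ∀ u ∈ p.2, ∀ v ∈ p.2, hermForm n F q u v = 0) ∧
          p.1 ∈ p.2 ∧ p.1 ≠ 0} →
      {W : Submodule F (Fin n → F) // finrank F W = 2 ∧
        ∀ u ∈ W, ∀ v ∈ W, hermForm n F q u v = 0} := fun p => ⟨p.1.2, p.2.1⟩
  have hfib₂ : ∀ W, Nat.card {p // g₂ p = W} = (q ^ 2) ^ 2 - 1 := by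
    intro W
    have hc : Nat.card {w : Fin n → F // w ∈ W.1 ∧
        w ∉ (⊥ : Submodule F (Fin n → F))} = (q ^ 2) ^ 2 - 1 := by
      rw [card_sub_diff _ _ bot_le, card_submodule hF, card_submodule hF, W.2.1, finrank_bot,
        pow_zero]
    rw [← hc]
    apply Nat.card_congr
    refine
      { toFun := fun p => ⟨p.1.1.1, ?_, ?_⟩
        invFun := fun w => ⟨⟨(w.1, W.1), W.2, w.2.1, ?_⟩, rfl⟩
        left_inv := fun p => ?_
        right_inv := fun w => Subtype.ext rfl }
    · have h1 : p.1.1.2 = W.1 := congrArg Subtype.val p.2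
      rw [← h1]
      exact p.1.2.2.1
    · rw [Submodule.mem_bot]
      exact p.1.2.2.2
    · intro h0
      exact w.2.2 ((Submodule.mem_bot F).mpr h0)
    · have h1 : p.1.1.2 = W.1 := congrArg Subtype.val p.2
      exact Subtype.ext (Subtype.ext (Prod.ext rfl h1.symm))
  let g₁ : {p : (Fin n → F) × Submodule F (Fin n → F) //
        (finrank F p.2 = 2 ∧ ∀ u ∈ p.2, ∀ v ∈ p.2, hermForm n F q u v = 0) ∧
          p.1 ∈ p.2 ∧ p.1 ≠ 0} → {v : Fin n → F // v ≠ 0 ∧ hermForm n F q v v = 0} :=
    fun p => ⟨p.1.1, p.2.2.2, p.2.1.2 _ p.2.2.1 _ p.2.2.1⟩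
  have hfib₁ : ∀ v, ((q ^ 2) ^ 2 - q ^ 2) * Nat.card {p // g₁ p = v} =
      q ^ 2 * isoNZ (n - 2) F q := by
    intro v
    rw [← herm_lines_through hF hn v.1 v.2.1 v.2.2]
    congr 1
    apply Nat.card_congr
    refine
      { toFun := fun p => ⟨p.1.1.2, p.1.2.1.1, ?_, p.1.2.1.2⟩
        invFun := fun W => ⟨⟨(v.1, W.1), ⟨W.2.1, W.2.2.2⟩, W.2.2.1, v.2.1⟩, rfl⟩
        left_inv := fun p => ?_
        right_inv := fun W => Subtype.ext rfl }
    · have h1 : p.1.1.1 = v.1 := congrArg Subtype.val p.2
      rw [← h1]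
      exact p.1.2.2.1
    · have h1 : p.1.1.1 = v.1 := congrArg Subtype.val p.2
      exact Subtype.ext (Subtype.ext (Prod.ext h1.symm rfl))
  have h2 := card_fiber' g₂ ((q ^ 2) ^ 2 - 1) hfib₂
  have hq := two_le_q hF
  have hpos : 0 < (q ^ 2) ^ 2 - q ^ 2 := by
    have h1 : q ^ 2 < (q ^ 2) ^ 2 := by
      have : 1 < q ^ 2 := by nlinarith
      nlinarith
    omega
  have hk : ∀ v, Nat.card {p // g₁ p = v} =
      (q ^ 2 * isoNZ (n - 2) F q) / ((q ^ 2) ^ 2 - q ^ 2) := by
    intro v
    rw [← hfib₁ v, Nat.mul_div_cancel_left _ hpos]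
  have h1 := card_fiber' g₁ _ hk
  rw [← h2, h1, ← mul_assoc]
  rcases isEmpty_or_nonempty {v : Fin n → F // v ≠ 0 ∧ hermForm n F q v v = 0} with hemp | ⟨⟨v⟩⟩
  · have h0 : isoNZ n F q = 0 := by
      unfold isoNZ
      exact Nat.card_of_isEmpty
    rw [h0, mul_zero]
    have h0' : Nat.card {v : Fin n → F // v ≠ 0 ∧ hermForm n F q v v = 0} = 0 :=
      Nat.card_of_isEmpty
    rw [h0', mul_zero]
  · rw [← hk v, hfib₁ v]
    rfl

end

end Cfsg.Agent.Lib.Helper6
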