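import Mathlib
import Cfsg.Agent.S0781

/-!
# Generation of `SU_n(q)` by unitary transvections, part 1:
the subgroup `TT` generated by transvections, its orbit relation on vectors, and transitivity on
the norm-one vectors of a hyperbolic plane.
-/

set_option autoImplicit false
open Cfsg

namespace Cfsg.Agent.Lib.Helper6.SUG

open Matrix Module Cfsg.Agent.Lib.Helper6 Cfsg.Agent.S0779 Cfsg.Agent.S0781

section
variable {F : Type*} [Field F] [Fintype F] {q n : ℕ}

/-- the generating set of unitary transvections (exactly the set of statement S0780) -/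
def tvSet (n : ℕ) (F : Type*) [Field F] (q : ℕ) : Set ↥(Cfsg.SU n F q) :=
  {A | ∃ (v : Fin n → F) (c : F), Cfsg.hermForm n F q v v = 0 ∧
    ((A : Matrix.SpecialLinearGroup (Fin n) F) : Matrix (Fin n) (Fin n) F) =
      Cfsg.unitaryTransvection n q v c}

/-- the subgroup generated by unitary transvections -/
def TT (n : ℕ) (F : Type*) [Field F] (q : ℕ) : Subgroup ↥(Cfsg.SU n F q) :=
  Subgroup.closure (tvSet n F q)

/-- a unitary transvection as an element of `SU` -/
def tv (hF : Fintype.card F = q ^ 2) (v : Fin n → F) (c : F)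
    (hvv : hermForm n F q v v = 0) (hc : c ^ q = -c) : ↥(Cfsg.SU n F q) :=
  mkSU (Cfsg.unitaryTransvection n q v c) (T_det v c hvv) (T_pres hF v c hvv hc)

theorem tv_mem (hF : Fintype.card F = q ^ 2) (v : Fin n → F) (c : F)
    (hvv : hermForm n F q v v = 0) (hc : c ^ q = -c) : tv hF v c hvv hc ∈ TT n F q :=
  Subgroup.subset_closure ⟨v, c, hvv, rfl⟩

/-- the action on vectors -/
def av (g : ↥(Cfsg.SU n F q)) (x : Fin n → F) : Fin n → F :=
  (g : Matrix.SpecialLinearGroup (Fin n) F).1 *ᵥ x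

theorem av_mul (g h : ↥(Cfsg.SU n F q)) (x : Fin n → F) : av (g * h) x = av g (av h x) := by
  unfold av
  rw [mulVec_mulVec]
  rfl

theorem av_one (x : Fin n → F) : av (1 : ↥(Cfsg.SU n F q)) x = x := by
  unfold av
  change (1 : Matrix (Fin n) (Fin n) F) *ᵥ x = x
  rw [one_mulVec]

theorem av_inv_av (g : ↥(Cfsg.SU n F q)) (x : Fin n → F) : av g⁻¹ (av g x) = x := by
  rw [← av_mul, inv_mul_cancel, av_one]

theorem av_av_inv (g : ↥(Cfsg.SU n F q)) (x : Fin n → F) : av g (av g⁻¹ x) = x := by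
  rw [← av_mul, mul_inv_cancel, av_one]

theorem av_tv (hF : Fintype.card F = q ^ 2) (v : Fin n → F) (c : F)
    (hvv : hermForm n F q v v = 0) (hc : c ^ q = -c) (x : Fin n → F) :
    av (tv hF v c hvv hc) x = x + (c * hermForm n F q x v) • v :=
  transvection_mulVec v c x

theorem herm_av (g : ↥(Cfsg.SU n F q)) (x y : Fin n → F) :
    hermForm n F q (av g x) (av g y) = hermForm n F q x y := g.2 x y

theorem av_add (g : ↥(Cfsg.SU n F q)) (x y : Fin n → F) : av g (x + y) = av g x + av g y := by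
  unfold av
  rw [mulVec_add]

theorem av_smul (g : ↥(Cfsg.SU n F q)) (a : F) (x : Fin n → F) : av g (a • x) = a • av g x := by
  unfold av
  rw [mulVec_smul]

/-- two elements of `SU` with the same action are equal -/
theorem ext_av {g h : ↥(Cfsg.SU n F q)} (hgh : ∀ x, av g x = av h x) : g = h := by
  apply Subtype.ext
  apply Subtype.ext
  exact mat_ext hgh

/-- the orbit relation of `TT` on vectors -/
def Rel (q : ℕ) (x y : Fin n → F) : Prop := ∃ t ∈ TT n F q, av t x = y

theorem Rel.refl (x : Fin n → F) : Rel q x x := ⟨1, Subgroup.one_mem _, av_one x⟩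

theorem Rel.symm {x y : Fin n → F} (h : Rel q x y) : Rel q y x := by
  obtain ⟨t, ht, rfl⟩ := h
  exact ⟨t⁻¹, Subgroup.inv_mem _ ht, av_inv_av t x⟩

theorem Rel.trans {x y z : Fin n → F} (h1 : Rel q x y) (h2 : Rel q y z) : Rel q x z := by
  obtain ⟨t, ht, rfl⟩ := h1
  obtain ⟨s, hs, rfl⟩ := h2
  exact ⟨s * t, Subgroup.mul_mem _ hs ht, av_mul s t x⟩

/-- transvections with centre in a given subspace -/
def tvSetOn (P : Submodule F (Fin n → F)) (q : ℕ) : Set ↥(Cfsg.SU n F q) :=
  {A | ∃ (v : Fin n → F) (c : F), v ∈ P ∧ Cfsg.hermForm n F q v v = 0 ∧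
    ((A : Matrix.SpecialLinearGroup (Fin n) F) : Matrix (Fin n) (Fin n) F) =
      Cfsg.unitaryTransvection n q v c}

/-- the subgroup generated by the transvections with centre in a given subspace -/
def TTon (P : Submodule F (Fin n → F)) (q : ℕ) : Subgroup ↥(Cfsg.SU n F q) :=
  Subgroup.closure (tvSetOn P q)

theorem TTon_le (P : Submodule F (Fin n → F)) : TTon P q ≤ TT n F q := by
  apply Subgroup.closure_mono
  rintro A ⟨v, c, -, h1, h2⟩
  exact ⟨v, c, h1, h2⟩

theorem TTon_mono {P P' : Submodule F (Fin n → F)} (h : P ≤ P') : TTon P q ≤ TTon P' q := by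
  apply Subgroup.closure_mono
  rintro A ⟨v, c, h0, h1, h2⟩
  exact ⟨v, c, h h0, h1, h2⟩

theorem tvOn_mem (hF : Fintype.card F = q ^ 2) (P : Submodule F (Fin n → F)) (v : Fin n → F)
    (hv : v ∈ P) (c : F) (hvv : hermForm n F q v v = 0) (hc : c ^ q = -c) :
    tv hF v c hvv hc ∈ TTon P q :=
  Subgroup.subset_closure ⟨v, c, hv, hvv, rfl⟩

/-- elements of `TTon P` fix the vectors perpendicular to `P` -/
theorem TTon_fix {P : Submodule F (Fin n → F)} {t : ↥(Cfsg.SU n F q)} (ht : t ∈ TTon P q)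
    (z : Fin n → F) (hz : ∀ d ∈ P, hermForm n F q z d = 0) : av t z = z := by
  have key : ∀ t ∈ TTon P q, av t z = z := by
    intro t ht
    induction ht using Subgroup.closure_induction with
    | mem A hA =>
      obtain ⟨v, c, hv, -, hA⟩ := hA
      unfold av
      rw [hA, transvection_mulVec, hz v hv, mul_zero, zero_smul, add_zero]
    | one => exact av_one z
    | mul s t _ _ hs ht => rw [av_mul, ht, hs]
    | inv t _ ht =>
      have := av_inv_av t z
      rw [ht] at this
      exact this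
  exact key t ht

/-- the orbit relation of `TTon P` on vectors -/
def RelOn (P : Submodule F (Fin n → F)) (q : ℕ) (x y : Fin n → F) : Prop :=
  ∃ t ∈ TTon P q, av t x = y

theorem RelOn.refl (P : Submodule F (Fin n → F)) (x : Fin n → F) : RelOn P q x x :=
  ⟨1, Subgroup.one_mem _, av_one x⟩

theorem RelOn.symm {P : Submodule F (Fin n → F)} {x y : Fin n → F} (h : RelOn P q x y) :
    RelOn P q y x := by
  obtain ⟨t, ht, rfl⟩ := h
  exact ⟨t⁻¹, Subgroup.inv_mem _ ht, av_inv_av t x⟩

theorem RelOn.trans {P : Submodule F (Fin n → F)} {x y z : Fin n → F} (h1 : RelOn P q x y)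
    (h2 : RelOn P q y z) : RelOn P q x z := by
  obtain ⟨t, ht, rfl⟩ := h1
  obtain ⟨s, hs, rfl⟩ := h2
  exact ⟨s * t, Subgroup.mul_mem _ hs ht, av_mul s t x⟩

theorem RelOn.rel {P : Submodule F (Fin n → F)} {x y : Fin n → F} (h : RelOn P q x y) :
    Rel q x y := by
  obtain ⟨t, ht, h⟩ := h
  exact ⟨t, TTon_le P ht, h⟩

/-- a non-zero element of trace zero -/
theorem exists_trace_zero (hF : Fintype.card F = q ^ 2) : ∃ k : F, k ≠ 0 ∧ k ^ q = -k := by
  obtain ⟨θ, hθ⟩ : ∃ θ : F, θ ^ q ≠ θ := by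
    by_contra hcon
    push Not at hcon
    exact conjQ_ne_id hF (RingHom.ext fun a => by rw [conjQ_apply, hcon]; rfl)
  refine ⟨θ - θ ^ q, fun h => hθ (sub_eq_zero.mp h).symm, ?_⟩
  rw [sub_pow_q hF, pow_q_q hF]
  ring

/-- moving the `u`-coordinate in a hyperbolic plane -/
theorem rel_step_u (hF : Fintype.card F = q ^ 2) (P : Submodule F (Fin n → F)) (u v : Fin n → F)
    (hu : u ∈ P)
    (huu : hermForm n F q u u = 0) (hvu : hermForm n F q v u = 1) (α α' β : F)
    (h1 : α * β ^ q + α ^ q * β = 1) (h2 : α' * β ^ q + α' ^ q * β = 1) :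
    RelOn P q (α • u + β • v) (α' • u + β • v) := by
  have hβ : β ≠ 0 := by
    rintro rfl
    rw [zero_pow (q_pos hF).ne'] at h1
    simp at h1
  have hβq : β ^ q ≠ 0 := pow_ne_zero _ hβ
  have hc : ((α' - α) / β) ^ q = -((α' - α) / β) := by
    rw [div_pow, sub_pow_q hF]
    field_simp
    linear_combination h2 - h1
  refine ⟨tv hF u ((α' - α) / β) huu hc, tvOn_mem hF P _ hu _ _ _, ?_⟩
  rw [av_tv, herm_add_left, herm_smul_left, herm_smul_left, huu, hvu, mul_zero, zero_add, mul_one,
    div_mul_cancel₀ _ hβ]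
  module

/-- any two norm-one vectors of a hyperbolic plane are in the same `TT`-orbit, generic case -/
theorem rel_hyp_of_ne (hF : Fintype.card F = q ^ 2) (P : Submodule F (Fin n → F))
    (u v : Fin n → F) (hu : u ∈ P) (hv : v ∈ P)
    (huu : hermForm n F q u u = 0) (hvv : hermForm n F q v v = 0)
    (huv : hermForm n F q u v = 1) (α β α' β' : F)
    (h1 : α * β ^ q + α ^ q * β = 1) (h2 : α' * β' ^ q + α' ^ q * β' = 1)
    (hD : β ^ q * β' - β * β' ^ q ≠ 0) :
    RelOn P q (α • u + β • v) (α' • u + β' • v) := by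
  have hvu : hermForm n F q v u = 1 := by rw [← herm_conj hF, huv, one_pow]
  obtain ⟨D, hDdef⟩ : ∃ D, D = β ^ q * β' - β * β' ^ q := ⟨_, rfl⟩
  rw [← hDdef] at hD
  have hDq : D ^ q = -D := by
    rw [hDdef, sub_pow_q hF, mul_pow, mul_pow, pow_q_q hF, pow_q_q hF]
    ring
  obtain ⟨α₁, hα₁⟩ : ∃ α₁, α₁ = (β' - β) / D := ⟨_, rfl⟩
  have hα₁q : α₁ ^ q = (β ^ q - β' ^ q) / D := by
    rw [hα₁, div_pow, sub_pow_q hF, hDq]
    field_simp
    ring
  have e1 : α₁ * β ^ q + α₁ ^ q * β = 1 := by
    rw [hα₁q, hα₁]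
    field_simp
    rw [hDdef]
    ring
  have e2 : α₁ * β' ^ q + α₁ ^ q * β' = 1 := by
    rw [hα₁q, hα₁]
    field_simp
    rw [hDdef]
    ring
  -- step 1 : (α, β) → (α₁, β)
  have s1 := rel_step_u hF P u v hu huu hvu α α₁ β h1 e1
  -- step 2 : (α₁, β) → (α₁, β'), using the pair (v, u)
  have s2 : RelOn P q (α₁ • u + β • v) (α₁ • u + β' • v) := by
    have := rel_step_u hF P v u hv hvv huv β β' α₁ (by linear_combination e1) (by linear_combination e2)
    rw [add_comm (β • v), add_comm (β' • v)] at this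
    exact this
  -- step 3 : (α₁, β') → (α', β')
  have s3 := rel_step_u hF P u v hu huu hvu α₁ α' β' e2 h2
  exact (s1.trans s2).trans s3

/-- any two norm-one vectors of a hyperbolic plane are in the same `TT`-orbit -/
theorem rel_hyp (hF : Fintype.card F = q ^ 2) (P : Submodule F (Fin n → F))
    (u v : Fin n → F) (hu : u ∈ P) (hv : v ∈ P)
    (huu : hermForm n F q u u = 0) (hvv : hermForm n F q v v = 0)
    (huv : hermForm n F q u v = 1) (α β α' β' : F)
    (h1 : α * β ^ q + α ^ q * β = 1) (h2 : α' * β' ^ q + α' ^ q * β' = 1) :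
    RelOn P q (α • u + β • v) (α' • u + β' • v) := by
  by_cases hD : β ^ q * β' - β * β' ^ q = 0
  · -- first change β
    obtain ⟨k, hk0, hkq⟩ := exists_trace_zero hF
    have hβ : β ≠ 0 := by
      rintro rfl
      rw [zero_pow (q_pos hF).ne'] at h1
      simp at h1
    have hβ' : β' ≠ 0 := by
      rintro rfl
      rw [zero_pow (q_pos hF).ne'] at h2
      simp at h2
    have hα : α ≠ 0 := by
      rintro rfl
      rw [zero_pow (q_pos hF).ne'] at h1
      simp at h1
    have hvu : hermForm n F q v u = 1 := by rw [← herm_conj hF, huv, one_pow]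
    have e1 : α * (β + α * k) ^ q + α ^ q * (β + α * k) = 1 := by
      rw [add_pow_q hF, mul_pow, hkq]
      linear_combination h1
    have s1 : RelOn P q (α • u + β • v) (α • u + (β + α * k) • v) := by
      have := rel_step_u hF P v u hv hvv huv β (β + α * k) α (by linear_combination h1)
        (by linear_combination e1)
      rw [add_comm (β • v), add_comm ((β + α * k) • v)] at this
      exact this
    refine s1.trans (rel_hyp_of_ne hF P u v hu hv huu hvv huv α (β + α * k) α' β' e1 h2 ?_)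
    rw [add_pow_q hF, mul_pow, hkq]
    intro h0
    -- slope ≠ 0
    have hslope : (α * β' ^ q + α ^ q * β') * (β * β ^ q) = β' * β ^ q := by
      have hD' : β ^ q * β' = β * β' ^ q := sub_eq_zero.mp hD
      calc (α * β' ^ q + α ^ q * β') * (β * β ^ q)
          = α * β ^ q * (β * β' ^ q) + α ^ q * β * (β ^ q * β') := by ring
        _ = (α * β ^ q + α ^ q * β) * (β ^ q * β') := by rw [← hD']; ring
        _ = β' * β ^ q := by rw [h1]; ring
    have h3 : k * (α * β' ^ q + α ^ q * β') = 0 := by linear_combination hD - h0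
    rcases mul_eq_zero.mp h3 with h | h
    · exact hk0 h
    · rw [h, zero_mul] at hslope
      exact mul_ne_zero hβ' (pow_ne_zero _ hβ) hslope.symm
  · exact rel_hyp_of_ne hF P u v hu hv huu hvv huv α β α' β' h1 h2 hD

end

end Cfsg.Agent.Lib.Helper6.SUG
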