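import Mathlib
import Cfsg.Agent.Lib.Helper6.SUGen1

/-!
# Generation of `SU_n(q)` by unitary transvections, part 2:
transitivity of `TT` on vectors of norm one.
-/

set_option autoImplicit false
open Cfsg

namespace Cfsg.Agent.Lib.Helper6.SUG

open Matrix Module Cfsg.Agent.Lib.Helper6 Cfsg.Agent.S0779 Cfsg.Agent.S0781

section
variable {F : Type*} [Field F] [Fintype F] {q n : ℕ}

theorem herm_sub_right (hF : Fintype.card F = q ^ 2) (x y z : Fin n → F) :
    hermForm n F q x (y - z) = hermForm n F q x y - hermForm n F q x z := by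
  have h1 : y - z = y + (-1 : F) • z := by simp [sub_eq_add_neg]
  rw [h1, herm_add_right hF, herm_smul_right, neg_pow_q hF, one_pow]
  ring

/-- a hyperbolic pair spanning the plane of an orthonormal pair -/
theorem exists_hyp_of_orthonormal (hF : Fintype.card F = q ^ 2) (a b : Fin n → F)
    (haa : hermForm n F q a a = 1) (hbb : hermForm n F q b b = 1)
    (hab : hermForm n F q a b = 0) :
    ∃ u v : Fin n → F, hermForm n F q u u = 0 ∧ hermForm n F q v v = 0 ∧
      hermForm n F q u v = 1 ∧ (∃ α β : F, a = α • u + β • v) ∧ (∃ α β : F, b = α • u + β • v) ∧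
      ∀ P : Submodule F (Fin n → F), a ∈ P → b ∈ P → u ∈ P ∧ v ∈ P := by
  have hba : hermForm n F q b a = 0 := herm_swap_zero hF hab
  obtain ⟨s, hs⟩ := exists_norm (conjQ hF) (conjQ_ne_id hF) (conjQ_conjQ hF) (-1 : F)
    (neg_ne_zero.mpr one_ne_zero) (by rw [map_neg, map_one])
  rw [conjQ_apply] at hs
  obtain ⟨ζ, hζ⟩ := exists_prim_root hF
  have hq := two_le_q hF
  have hζ1 : (ζ : F) ^ (q + 1) = 1 := by
    rw [← Units.val_pow_eq_pow_val, hζ.pow_eq_one, Units.val_one]
  have hζne : (ζ : F) ≠ 1 := by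
    intro h
    have : ζ = 1 := Units.ext h
    have h1 := hζ.pow_ne_one_of_pos_of_lt (l := 1) one_ne_zero (by omega)
    rw [pow_one] at h1
    exact h1 this
  have hζ0 : (ζ : F) ≠ 0 := ζ.ne_zero
  have hζq : (ζ : F) ^ q * ζ = 1 := by rw [← pow_succ]; exact hζ1
  have hs0 : s ≠ 0 := by
    rintro rfl
    rw [zero_mul] at hs
    exact one_ne_zero (neg_eq_zero.mp hs.symm)
  obtain ⟨d, hd⟩ : ∃ d : F, d = 1 - (ζ : F) ^ q := ⟨_, rfl⟩
  have hd0 : d ≠ 0 := by
    rw [hd]
    intro h
    have h1 : (ζ : F) ^ q = 1 := (sub_eq_zero.mp h).symm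
    rw [h1, one_mul] at hζq
    exact hζne hζq
  have hdq0 : d ^ q ≠ 0 := pow_ne_zero _ hd0
  have hss : s - (ζ : F) * s ≠ 0 := by
    have : s - (ζ : F) * s = (1 - ζ) * s := by ring
    rw [this]
    exact mul_ne_zero (sub_ne_zero.mpr (Ne.symm hζne)) hs0
  have huu : hermForm n F q (a + s • b) (a + s • b) = 0 := by
    simp only [herm_add_left, herm_add_right hF, herm_smul_left, herm_smul_right, haa, hbb, hab,
      hba]
    linear_combination hs
  have hu'u' : hermForm n F q (a + ((ζ : F) * s) • b) (a + ((ζ : F) * s) • b) = 0 := by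
    simp only [herm_add_left, herm_add_right hF, herm_smul_left, herm_smul_right, haa, hbb, hab,
      hba, mul_pow]
    linear_combination (ζ : F) * (ζ : F) ^ q * hs + (-1) * hζq
  have huu' : hermForm n F q (a + s • b) (a + ((ζ : F) * s) • b) = d := by
    simp only [herm_add_left, herm_add_right hF, herm_smul_left, herm_smul_right, haa, hbb, hab,
      hba, mul_pow]
    rw [hd]
    linear_combination (ζ : F) ^ q * hs
  refine ⟨a + s • b, (d ^ q)⁻¹ • (a + ((ζ : F) * s) • b), huu, ?_, ?_, ?_, ?_, ?_⟩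
  · rw [herm_smul_left, herm_smul_right, hu'u']
    ring
  · rw [herm_smul_right, huu', inv_pow, pow_q_q hF, inv_mul_cancel₀ hd0]
  · -- b = (s - ζ s)⁻¹ (u - u'), a = u - s b
    refine ⟨1 - s * (s - (ζ : F) * s)⁻¹, s * (s - (ζ : F) * s)⁻¹ * d ^ q, ?_⟩
    rw [smul_smul, mul_assoc, mul_inv_cancel₀ hdq0, mul_one]
    have : (s - (ζ : F) * s)⁻¹ * (s - (ζ : F) * s) = 1 := inv_mul_cancel₀ hss
    ext i
    simp only [Pi.add_apply, Pi.smul_apply, smul_eq_mul]
    linear_combination (s * b i) * this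
  · refine ⟨(s - (ζ : F) * s)⁻¹, -((s - (ζ : F) * s)⁻¹ * d ^ q), ?_⟩
    rw [smul_smul, neg_mul, mul_assoc, mul_inv_cancel₀ hdq0, mul_one]
    have : (s - (ζ : F) * s)⁻¹ * (s - (ζ : F) * s) = 1 := inv_mul_cancel₀ hss
    ext i
    simp only [Pi.add_apply, Pi.smul_apply, smul_eq_mul]
    linear_combination (-(b i)) * this
  · intro P ha hb
    exact ⟨P.add_mem ha (P.smul_mem _ hb), P.smul_mem _ (P.add_mem ha (P.smul_mem _ hb))⟩

/-- any two norm-one vectors in the plane of an orthonormal pair are in the same `TT`-orbit -/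
theorem rel_orthonormal (hF : Fintype.card F = q ^ 2) (P : Submodule F (Fin n → F))
    (a b : Fin n → F) (ha : a ∈ P) (hb : b ∈ P)
    (haa : hermForm n F q a a = 1) (hbb : hermForm n F q b b = 1)
    (hab : hermForm n F q a b = 0) (ξ η ξ' η' : F)
    (h1 : ξ * ξ ^ q + η * η ^ q = 1) (h2 : ξ' * ξ' ^ q + η' * η' ^ q = 1) :
    RelOn P q (ξ • a + η • b) (ξ' • a + η' • b) := by
  have hba : hermForm n F q b a = 0 := herm_swap_zero hF hab
  obtain ⟨u, v, huu, hvv, huv, ⟨αa, βa, hae⟩, ⟨αb, βb, hbe⟩, hP⟩ :=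
    exists_hyp_of_orthonormal hF a b haa hbb hab
  obtain ⟨huP, hvP⟩ := hP P ha hb
  have hvu : hermForm n F q v u = 1 := by rw [← herm_conj hF, huv, one_pow]
  have key : ∀ ξ η : F, ξ * ξ ^ q + η * η ^ q = 1 → ∃ α β : F, ξ • a + η • b = α • u + β • v ∧
      α * β ^ q + α ^ q * β = 1 := by
    intro ξ η h
    refine ⟨ξ * αa + η * αb, ξ * βa + η * βb, ?_, ?_⟩
    · rw [hae, hbe]
      module
    · have e1 : hermForm n F q (ξ • a + η • b) (ξ • a + η • b) = 1 := by
        simp only [herm_add_left, herm_add_right hF, herm_smul_left, herm_smul_right, haa, hbb,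
          hab, hba]
        linear_combination h
      have e2 : ξ • a + η • b = (ξ * αa + η * αb) • u + (ξ * βa + η * βb) • v := by
        rw [hae, hbe]
        module
      rw [e2] at e1
      simp only [herm_add_left, herm_add_right hF, herm_smul_left, herm_smul_right, huu, hvv,
        huv, hvu] at e1
      linear_combination e1
  obtain ⟨α, β, e, hαβ⟩ := key ξ η h1
  obtain ⟨α', β', e', hαβ'⟩ := key ξ' η' h2
  rw [e, e']
  exact rel_hyp hF P u v huP hvP huu hvv huv α β α' β' hαβ hαβ'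

/-- the orthogonal complement of a vector of norm one is a standard unitary space -/
theorem exists_perp_iso_one (hF : Fintype.card F = q ^ 2) (x : Fin n → F)
    (hxx : hermForm n F q x x = 1) :
    ∃ (U : Submodule F (Fin n → F)) (φ : U ≃ₗ[F] (Fin (n - 1) → F)),
      (∀ y, y ∈ U ↔ hermForm n F q y x = 0) ∧
      ∀ a b : U, hermForm (n - 1) F q (φ a) (φ b) =
        hermForm n F q (a : Fin n → F) (b : Fin n → F) := by
  classical
  let T : (Fin n → F) →ₗ[F] F := hermB n hF x
  have hT : ∀ y, T y = hermForm n F q y x := fun y => rfl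
  obtain ⟨U, hU⟩ : ∃ U : Submodule F (Fin n → F), U = LinearMap.ker T := ⟨_, rfl⟩
  have hmemU : ∀ y, y ∈ U ↔ hermForm n F q y x = 0 := by
    intro y
    rw [hU, LinearMap.mem_ker, hT]
  have hsurj : LinearMap.range T = ⊤ := by
    rw [LinearMap.range_eq_top]
    intro a
    refine ⟨a • x, ?_⟩
    rw [hT, herm_smul_left, hxx, mul_one]
  have hdim : finrank F U = n - 1 := by
    have h1 := LinearMap.finrank_range_add_finrank_ker T
    rw [hsurj, ← hU, finrank_top, Module.finrank_self, Module.finrank_pi,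
      Fintype.card_fin] at h1
    omega
  have hdec : ∀ y : Fin n → F, y - hermForm n F q y x • x ∈ U := by
    intro y
    rw [hmemU, herm_sub_left', herm_smul_left, hxx]
    ring
  obtain ⟨φ, hφ⟩ := exists_std_herm hF ((hermB n hF).domRestrict₁₂ U U)
    ⟨fun a b => (hermB_isSymm hF).eq (a : Fin n → F) (b : Fin n → F)⟩
    (by
      intro u hu
      apply Subtype.ext
      apply herm_nondeg hF
      intro y
      have h1 : y = (y - hermForm n F q y x • x) + hermForm n F q y x • x := by abel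
      rw [h1, herm_add_right hF, herm_smul_right, (hmemU u).mp u.2, mul_zero, add_zero]
      exact herm_swap_zero hF (hu ⟨_, hdec y⟩))
    (n - 1) hdim
  exact ⟨U, φ, hmemU, hφ⟩

/-- two norm-one vectors spanning a non-degenerate plane are in the same `TT`-orbit -/
theorem rel_of_nondeg (hF : Fintype.card F = q ^ 2) (x y : Fin n → F)
    (hxx : hermForm n F q x x = 1) (hyy : hermForm n F q y y = 1)
    (hne : hermForm n F q y x * hermForm n F q y x ^ q ≠ 1) : Rel q x y := by
  apply RelOn.rel (P := ⊤)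
  obtain ⟨l, hl⟩ : ∃ l : F, l = hermForm n F q y x := ⟨_, rfl⟩
  rw [← hl] at hne
  have hxy : hermForm n F q x y = l ^ q := by rw [hl, herm_conj hF]
  obtain ⟨m, hm⟩ : ∃ m : F, m = 1 - l * l ^ q := ⟨_, rfl⟩
  have hm0 : m ≠ 0 := by
    rw [hm]
    intro h
    exact hne (sub_eq_zero.mp h).symm
  have hmq : m ^ q = m := by
    rw [hm, sub_pow_q hF, one_pow, mul_pow, pow_q_q hF]
    ring
  have hy'x : hermForm n F q (y - l • x) x = 0 := by
    rw [herm_sub_left', herm_smul_left, hxx, ← hl]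
    ring
  have hxy' : hermForm n F q x (y - l • x) = 0 := herm_swap_zero hF hy'x
  have hy'y' : hermForm n F q (y - l • x) (y - l • x) = m := by
    rw [herm_sub_left', herm_sub_right hF, herm_sub_right hF, herm_smul_left, herm_smul_left,
      herm_smul_right, herm_smul_right, hxx, hyy, ← hl, hxy, hm]
    ring
  obtain ⟨μ, hμ⟩ := exists_norm (conjQ hF) (conjQ_ne_id hF) (conjQ_conjQ hF) m⁻¹
    (inv_ne_zero hm0) (by rw [conjQ_apply, inv_pow, hmq])
  rw [conjQ_apply] at hμ
  have hμ0 : μ ≠ 0 := by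
    rintro rfl
    rw [zero_mul] at hμ
    exact inv_ne_zero hm0 hμ.symm
  have hbb : hermForm n F q (μ • (y - l • x)) (μ • (y - l • x)) = 1 := by
    rw [herm_smul_left, herm_smul_right, hy'y']
    have : μ * μ ^ q * m = 1 := by rw [hμ, inv_mul_cancel₀ hm0]
    linear_combination this
  have hxb : hermForm n F q x (μ • (y - l • x)) = 0 := by
    rw [herm_smul_right, hxy', mul_zero]
  have h2 : l * l ^ q + μ⁻¹ * μ⁻¹ ^ q = 1 := by
    rw [inv_pow, ← mul_inv, hμ, inv_inv, hm]
    ring
  have := rel_orthonormal hF ⊤ x (μ • (y - l • x)) Submodule.mem_top Submodule.mem_top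
    hxx hbb hxb 1 0 l μ⁻¹
    (by rw [one_pow, zero_pow (q_pos hF).ne']; ring) h2
  have e1 : (1 : F) • x + (0 : F) • μ • (y - l • x) = x := by simp
  have e2 : l • x + μ⁻¹ • μ • (y - l • x) = y := by
    rw [smul_smul, inv_mul_cancel₀ hμ0, one_smul]
    abel
  rw [e1, e2] at this
  exact this

end

end Cfsg.Agent.Lib.Helper6.SUG
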