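import Mathlib
import Cfsg.Agent.Lib.Helper6.SUGen2

/-!
# Generation of `SU_n(q)` by unitary transvections, part 3:
`TT` is transitive on the vectors of norm one (`n ≥ 2`, `(n, q) ≠ (3, 2)`).
-/

set_option autoImplicit false
open Cfsg

namespace Cfsg.Agent.Lib.Helper6.SUG

open Matrix Module Cfsg.Agent.Lib.Helper6 Cfsg.Agent.S0779 Cfsg.Agent.S0781

section
variable {F : Type*} [Field F] [Fintype F] {q n : ℕ}

/-- a standard unitary space of positive dimension has a vector of norm one -/
theorem exists_norm_one_std (hF : Fintype.card F = q ^ 2) {k : ℕ} (hk : 1 ≤ k) :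
    ∃ z : Fin k → F, hermForm k F q z z = 1 := by
  classical
  refine ⟨Pi.single ⟨0, by omega⟩ 1, ?_⟩
  rw [herm_single_right hF]
  simp

/-- in a standard space, a non-zero isotropic vector `y` admits a norm-one vector `z` with
`N(h(y, z)) ≠ 1` (unless the space has dimension 2 and `q = 2`) -/
theorem exists_z_std (hF : Fintype.card F = q ^ 2) {k : ℕ} (h32 : ¬ (k = 2 ∧ q = 2))
    (y : Fin k → F) (hy : y ≠ 0) (hyy : hermForm k F q y y = 0) :
    ∃ z : Fin k → F, hermForm k F q z z = 1 ∧
      hermForm k F q y z * hermForm k F q y z ^ q ≠ 1 := by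
  classical
  obtain ⟨r, hry, hyr, hrr⟩ := exists_herm_partner hF y hy hyy
  have hk2 : 2 ≤ k := by
    by_contra hk
    push Not at hk
    -- in dimension ≤ 1 there is no non-zero isotropic vector
    apply hy
    funext i
    have hi : k = 1 := by
      have := i.2
      omega
    subst hi
    have hi0 : i = 0 := Subsingleton.elim _ _
    subst hi0
    have : hermForm 1 F q y y = y 0 * y 0 ^ q := by
      simp [hermForm]
    rw [this] at hyy
    rcases mul_eq_zero.mp hyy with h | h
    · exact h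
    · exact pow_eq_zero_iff (q_pos hF).ne' |>.mp h
  by_cases hk3 : 3 ≤ k
  · obtain ⟨U, φ, hmemU, hφ⟩ := exists_perp_iso hF y r hyy hry hyr hrr
    obtain ⟨z₀, hz₀⟩ := exists_norm_one_std hF (k := k - 2) (by omega)
    refine ⟨((φ.symm z₀ : U) : Fin k → F), ?_, ?_⟩
    · rw [← hφ, LinearEquiv.apply_symm_apply]
      exact hz₀
    · have h0 : hermForm k F q y ((φ.symm z₀ : U) : Fin k → F) = 0 :=
        herm_swap_zero hF ((hmemU _).mp (φ.symm z₀).2).1
      rw [h0, zero_mul]
      exact zero_ne_one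
  · have hk : k = 2 := by omega
    have hq : 3 ≤ q := by
      have := two_le_q hF
      by_contra h
      exact h32 ⟨hk, by omega⟩
    obtain ⟨γ, hγ0, hγ⟩ := exists_norm_ne_one hF hq
    obtain ⟨t, ht⟩ := exists_trace (conjQ hF) (conjQ_ne_id hF) (conjQ_conjQ hF) (1 : F)
      (map_one _)
    rw [conjQ_apply] at ht
    have hγq0 : γ ^ q ≠ 0 := pow_ne_zero _ hγ0
    refine ⟨(t / γ ^ q) • y + γ • r, ?_, ?_⟩
    · simp only [herm_add_left, herm_add_right hF, herm_smul_left, herm_smul_right, hyy, hrr,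
        hry, hyr, div_pow, pow_q_q hF]
      field_simp
      linear_combination (γ * γ ^ q) * ht
    · simp only [herm_add_right hF, herm_smul_right, hyy, hyr]
      rw [mul_zero, zero_add, mul_one, pow_q_q hF, mul_comm]
      exact hγ

/-- the auxiliary vector for the degenerate case of transitivity on norm-one vectors -/
theorem exists_z (hF : Fintype.card F = q ^ 2) (hn : 2 ≤ n) (h32 : ¬ (n = 3 ∧ q = 2))
    (x y : Fin n → F) (hxx : hermForm n F q x x = 1) (hyy : hermForm n F q y y = 1)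
    (hl : hermForm n F q y x * hermForm n F q y x ^ q = 1) :
    ∃ z : Fin n → F, hermForm n F q z z = 1 ∧ hermForm n F q x z = 0 ∧
      hermForm n F q y z * hermForm n F q y z ^ q ≠ 1 := by
  classical
  obtain ⟨U, φ, hmemU, hφ⟩ := exists_perp_iso_one hF x hxx
  obtain ⟨l, hldef⟩ : ∃ l : F, l = hermForm n F q y x := ⟨_, rfl⟩
  rw [← hldef] at hl
  have hxy : hermForm n F q x y = l ^ q := by rw [hldef, herm_conj hF]
  have hy'U : y - l • x ∈ U := by
    rw [hmemU, herm_sub_left', herm_smul_left, hxx, ← hldef]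
    ring
  have hy'y' : hermForm n F q (y - l • x) (y - l • x) = 0 := by
    rw [herm_sub_left', herm_sub_right hF, herm_sub_right hF, herm_smul_left, herm_smul_left,
      herm_smul_right, herm_smul_right, hxx, hyy, ← hldef, hxy]
    linear_combination (-1 : F) * hl
  -- for `z ∈ U`, `h(y, z) = h(y', z)`
  have hyz : ∀ z : U, hermForm n F q y (z : Fin n → F) =
      hermForm (n - 1) F q (φ ⟨y - l • x, hy'U⟩) (φ z) := by
    intro z
    rw [hφ]
    change _ = hermForm n F q (y - l • x) (z : Fin n → F)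
    rw [herm_sub_left', herm_smul_left, herm_swap_zero hF ((hmemU _).mp z.2)]
    ring
  have hfin : ∀ z₀ : Fin (n - 1) → F, hermForm (n - 1) F q z₀ z₀ = 1 →
      hermForm (n - 1) F q (φ ⟨y - l • x, hy'U⟩) z₀ *
        hermForm (n - 1) F q (φ ⟨y - l • x, hy'U⟩) z₀ ^ q ≠ 1 →
      ∃ z : Fin n → F, hermForm n F q z z = 1 ∧ hermForm n F q x z = 0 ∧
        hermForm n F q y z * hermForm n F q y z ^ q ≠ 1 := by
    intro z₀ h1 h2
    refine ⟨((φ.symm z₀ : U) : Fin n → F), ?_, ?_, ?_⟩
    · rw [← hφ, LinearEquiv.apply_symm_apply]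
      exact h1
    · exact herm_swap_zero hF ((hmemU _).mp (φ.symm z₀).2)
    · rw [hyz, LinearEquiv.apply_symm_apply]
      exact h2
  by_cases hy0 : φ ⟨y - l • x, hy'U⟩ = 0
  · obtain ⟨z₀, hz₀⟩ := exists_norm_one_std hF (k := n - 1) (by omega)
    refine hfin z₀ hz₀ ?_
    rw [hy0, herm_zero_left, zero_mul]
    exact zero_ne_one
  · have hiso : hermForm (n - 1) F q (φ ⟨y - l • x, hy'U⟩) (φ ⟨y - l • x, hy'U⟩) = 0 := by
      rw [hφ]
      exact hy'y'
    obtain ⟨z₀, hz₀, hz₀'⟩ := exists_z_std hF (k := n - 1) (by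
      rintro ⟨h1, h2⟩
      exact h32 ⟨by omega, h2⟩) _ hy0 hiso
    exact hfin z₀ hz₀ hz₀'

/-- **`TT` is transitive on the vectors of norm one.** -/
theorem rel_norm_one (hF : Fintype.card F = q ^ 2) (hn : 2 ≤ n) (h32 : ¬ (n = 3 ∧ q = 2))
    (x y : Fin n → F) (hxx : hermForm n F q x x = 1) (hyy : hermForm n F q y y = 1) :
    Rel q x y := by
  by_cases hne : hermForm n F q y x * hermForm n F q y x ^ q = 1
  · obtain ⟨z, hzz, hxz, hyz⟩ := exists_z hF hn h32 x y hxx hyy hne
    have r1 : Rel q x z := by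
      apply RelOn.rel (P := ⊤)
      have := rel_orthonormal hF ⊤ x z Submodule.mem_top Submodule.mem_top hxx hzz hxz 1 0 0 1
        (by rw [one_pow, zero_pow (q_pos hF).ne']; ring)
        (by rw [one_pow, zero_pow (q_pos hF).ne']; ring)
      simpa using this
    exact r1.trans (rel_of_nondeg hF z y hzz hyy hyz)
  · exact rel_of_nondeg hF x y hxx hyy hne

end

end Cfsg.Agent.Lib.Helper6.SUG
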