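import Mathlib
import Cfsg.Agent.Lib.Helper6.SUGen3

/-!
# Generation of `SU_n(q)` by unitary transvections, part 4:
the embedding `SU_n → SU_{n+1}` fixing the first basis vector, and the induction step.
-/

set_option autoImplicit false
open Cfsg

namespace Cfsg.Agent.Lib.Helper6.SUG

open Matrix Module Cfsg.Agent.Lib.Helper6 Cfsg.Agent.S0779 Cfsg.Agent.S0781

section
variable {F : Type*} [Field F] [Fintype F] {q n : ℕ}

/-- the block matrix `diag(1, M)` -/
def emb (M : Matrix (Fin n) (Fin n) F) : Matrix (Fin (n + 1)) (Fin (n + 1)) F :=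
  Matrix.of fun i j =>
    Fin.cases (Fin.cases (1 : F) (fun _ => 0) j) (fun i' => Fin.cases (0 : F) (fun j' => M i' j') j) i

@[simp] theorem emb_zero_zero (M : Matrix (Fin n) (Fin n) F) : emb M 0 0 = 1 := rfl
@[simp] theorem emb_zero_succ (M : Matrix (Fin n) (Fin n) F) (j : Fin n) : emb M 0 j.succ = 0 := rfl
@[simp] theorem emb_succ_zero (M : Matrix (Fin n) (Fin n) F) (i : Fin n) : emb M i.succ 0 = 0 := rfl
@[simp] theorem emb_succ_succ (M : Matrix (Fin n) (Fin n) F) (i j : Fin n) :
    emb M i.succ j.succ = M i j := rfl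

theorem emb_mulVec (M : Matrix (Fin n) (Fin n) F) (x : Fin (n + 1) → F) :
    emb M *ᵥ x = Fin.cons (x 0) (M *ᵥ Fin.tail x) := by
  funext i
  refine Fin.cases ?_ (fun i' => ?_) i
  · simp [mulVec, dotProduct, Fin.sum_univ_succ]
  · simp [mulVec, dotProduct, Fin.sum_univ_succ, Fin.tail]

theorem emb_mul (M N : Matrix (Fin n) (Fin n) F) : emb (M * N) = emb M * emb N := by
  apply mat_ext
  intro x
  rw [← mulVec_mulVec, emb_mulVec, emb_mulVec, emb_mulVec, ← mulVec_mulVec]
  simp [Fin.tail_cons]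

theorem emb_one : emb (1 : Matrix (Fin n) (Fin n) F) = 1 := by
  apply mat_ext
  intro x
  rw [emb_mulVec, one_mulVec, one_mulVec]
  exact Fin.cons_self_tail x

theorem emb_det (M : Matrix (Fin n) (Fin n) F) : (emb M).det = M.det := by
  rw [Matrix.det_succ_row_zero, Fin.sum_univ_succ]
  have h0 : ((emb M).submatrix Fin.succ (Fin.succAbove 0)) = M := by
    ext i j
    simp
  rw [h0]
  simp

theorem herm_succ (x y : Fin (n + 1) → F) :
    hermForm (n + 1) F q x y = x 0 * y 0 ^ q + hermForm n F q (Fin.tail x) (Fin.tail y) := by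
  simp only [hermForm, Fin.sum_univ_succ, Fin.tail]

theorem emb_pres (M : Matrix (Fin n) (Fin n) F)
    (hM : ∀ x y, hermForm n F q (M *ᵥ x) (M *ᵥ y) = hermForm n F q x y)
    (x y : Fin (n + 1) → F) :
    hermForm (n + 1) F q (emb M *ᵥ x) (emb M *ᵥ y) = hermForm (n + 1) F q x y := by
  rw [emb_mulVec, emb_mulVec, herm_succ, herm_succ x y]
  simp [Fin.tail_cons, hM]

/-- the embedding `SU_n → SU_{n+1}` -/
def embSU : ↥(Cfsg.SU n F q) →* ↥(Cfsg.SU (n + 1) F q) where
  toFun g := mkSU (emb (g : Matrix.SpecialLinearGroup (Fin n) F).1)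
    (by rw [emb_det]; exact (g : Matrix.SpecialLinearGroup (Fin n) F).2)
    (emb_pres _ (fun x y => g.2 x y))
  map_one' := by
    apply Subtype.ext
    apply Subtype.ext
    exact emb_one
  map_mul' g h := by
    apply Subtype.ext
    apply Subtype.ext
    exact emb_mul _ _

theorem av_embSU (g : ↥(Cfsg.SU n F q)) (x : Fin (n + 1) → F) :
    av (embSU g) x = Fin.cons (x 0) (av g (Fin.tail x)) :=
  emb_mulVec _ x

theorem emb_transvection (hF : Fintype.card F = q ^ 2) (v : Fin n → F) (c : F) :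
    emb (Cfsg.unitaryTransvection n q v c) =
      Cfsg.unitaryTransvection (n + 1) q (Fin.cons 0 v) c := by
  apply mat_ext
  intro x
  rw [emb_mulVec, transvection_mulVec, transvection_mulVec, herm_succ]
  funext i
  refine Fin.cases ?_ (fun i' => ?_) i
  · simp
  · simp [Fin.tail, zero_pow (q_pos hF).ne']

theorem embSU_mem_TT (hF : Fintype.card F = q ^ 2) (g : ↥(Cfsg.SU n F q)) (hg : g ∈ TT n F q) :
    embSU g ∈ TT (n + 1) F q := by
  have hle : TT n F q ≤ (TT (n + 1) F q).comap embSU := by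
    unfold TT
    rw [Subgroup.closure_le]
    rintro A ⟨v, c, hvv, hA⟩
    apply Subgroup.subset_closure
    refine ⟨Fin.cons 0 v, c, ?_, ?_⟩
    · rw [herm_succ]
      simp [Fin.tail_cons, hvv, zero_pow (q_pos hF).ne']
    · change emb (A : Matrix.SpecialLinearGroup (Fin n) F).1 = _
      rw [hA]
      exact emb_transvection hF v c
  exact hle hg

/-- an element of `SU_{n+1}` fixing the first basis vector comes from `SU_n` -/
theorem exists_embSU_of_fix (hF : Fintype.card F = q ^ 2) (g : ↥(Cfsg.SU (n + 1) F q))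
    (hg : av g (Pi.single 0 1) = Pi.single 0 1) : ∃ g' : ↥(Cfsg.SU n F q), embSU g' = g := by
  classical
  obtain ⟨M, hM⟩ : ∃ M : Matrix (Fin (n + 1)) (Fin (n + 1)) F,
      M = (g : Matrix.SpecialLinearGroup (Fin (n + 1)) F).1 := ⟨_, rfl⟩
  have hcol : ∀ i, M i 0 = (Pi.single 0 1 : Fin (n + 1) → F) i := by
    intro i
    have := congrFun hg i
    unfold av at this
    rw [← hM, mulVec_single_one] at this
    exact this
  have hpres : ∀ x y, hermForm (n + 1) F q (M *ᵥ x) (M *ᵥ y) = hermForm (n + 1) F q x y := by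
    intro x y
    rw [hM]
    exact g.2 x y
  have hrow : ∀ j, M 0 j = (Pi.single 0 1 : Fin (n + 1) → F) j := by
    intro j
    have h1 := hpres (Pi.single j 1) (Pi.single 0 1)
    have h2 : M *ᵥ (Pi.single 0 1) = Pi.single 0 1 := by
      rw [hM]
      exact hg
    rw [h2, herm_single_right hF, herm_single_right hF, mulVec_single_one] at h1
    have h1' : M 0 j = (Pi.single j 1 : Fin (n + 1) → F) 0 := h1
    rw [h1']
    simp [Pi.single_apply, eq_comm]
  have hemb : emb (M.submatrix Fin.succ Fin.succ) = M := by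
    ext i j
    refine Fin.cases ?_ (fun i' => ?_) i
    · refine Fin.cases ?_ (fun j' => ?_) j
      · rw [emb_zero_zero, hcol]
        simp
      · rw [emb_zero_succ, hrow]
        simp [Fin.succ_ne_zero]
    · refine Fin.cases ?_ (fun j' => ?_) j
      · rw [emb_succ_zero, hcol]
        simp [Fin.succ_ne_zero]
      · rw [emb_succ_succ]
        rfl
  have hdet : (M.submatrix Fin.succ Fin.succ).det = 1 := by
    rw [← emb_det, hemb, hM]
    exact (g : Matrix.SpecialLinearGroup (Fin (n + 1)) F).2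
  have hpres' : ∀ x y : Fin n → F,
      hermForm n F q (M.submatrix Fin.succ Fin.succ *ᵥ x) (M.submatrix Fin.succ Fin.succ *ᵥ y) =
        hermForm n F q x y := by
    intro x y
    have h1 := hpres (Fin.cons 0 x) (Fin.cons 0 y)
    rw [← hemb, emb_mulVec, emb_mulVec, herm_succ, herm_succ (Fin.cons 0 x)] at h1
    simpa [Fin.tail_cons] using h1
  refine ⟨mkSU _ hdet hpres', ?_⟩
  apply Subtype.ext
  apply Subtype.ext
  change emb (M.submatrix Fin.succ Fin.succ) = _
  rw [hemb, hM]

/-- the induction step -/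
theorem TT_succ_eq_top (hF : Fintype.card F = q ^ 2) (hn : 1 ≤ n) (ih : TT n F q = ⊤)
    (h32 : ¬ (n + 1 = 3 ∧ q = 2)) : TT (n + 1) F q = ⊤ := by
  classical
  rw [eq_top_iff]
  intro g _
  have he : hermForm (n + 1) F q (Pi.single 0 1) (Pi.single 0 1) = 1 := by
    rw [herm_single_right hF]
    simp
  have hx : hermForm (n + 1) F q (av g (Pi.single 0 1)) (av g (Pi.single 0 1)) = 1 := by
    rw [herm_av, he]
  obtain ⟨t, ht, htx⟩ := rel_norm_one hF (n := n + 1) (by omega) h32 _ _ hx he
  rw [← av_mul] at htx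
  obtain ⟨g', hg'⟩ := exists_embSU_of_fix hF (t * g) htx
  have h1 : embSU g' ∈ TT (n + 1) F q := embSU_mem_TT hF g' (by rw [ih]; trivial)
  rw [hg'] at h1
  have : g = t⁻¹ * (t * g) := by group
  rw [this]
  exact Subgroup.mul_mem _ (Subgroup.inv_mem _ ht) h1

/-- the base case -/
theorem TT_one_eq_top : TT 1 F q = ⊤ := by
  rw [eq_top_iff]
  intro g _
  have : g = 1 := by
    apply Subtype.ext
    apply Subtype.ext
    have h1 := (g : Matrix.SpecialLinearGroup (Fin 1) F).2
    rw [Matrix.det_unique] at h1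
    ext i j
    have hi : i = default := Subsingleton.elim _ _
    have hj : j = default := Subsingleton.elim _ _
    subst hi hj
    rw [h1]
    rfl
  rw [this]
  exact Subgroup.one_mem _

end

end Cfsg.Agent.Lib.Helper6.SUG
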