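import Mathlib
import Cfsg.Agent.Lib.Helper6.SUGen4

/-!
# Generation of `SU_n(q)` by unitary transvections, part 5:
transitivity of `TT` on isotropic vectors, Siegel elements, and the four-dimensional case.
-/

set_option autoImplicit false
open Cfsg

namespace Cfsg.Agent.Lib.Helper6.SUG

open Matrix Module Cfsg.Agent.Lib.Helper6 Cfsg.Agent.S0779 Cfsg.Agent.S0781

section
variable {F : Type*} [Field F] [Fintype F] {q n : ℕ}

/-- one transvection moves an isotropic vector `x` to an isotropic vector `y` when `h(x,y)` is a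
non-zero element of trace zero -/
theorem rel_iso_step (hF : Fintype.card F = q ^ 2) (x y : Fin n → F)
    (hxx : hermForm n F q x x = 0) (hyy : hermForm n F q y y = 0) (k : F)
    (hk : hermForm n F q x y = k) (hk0 : k ≠ 0) (hkq : k ^ q = -k) : Rel q x y := by
  have hyx : hermForm n F q y x = k ^ q := by rw [← hk, herm_conj hF]
  have hvv : hermForm n F q (y - x) (y - x) = 0 := by
    rw [herm_sub_left', herm_sub_right hF, herm_sub_right hF, hxx, hyy, hk, hyx, hkq]
    ring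
  have hc : (k⁻¹) ^ q = -k⁻¹ := by
    rw [inv_pow, hkq, inv_neg]
  refine ⟨tv hF (y - x) k⁻¹ hvv hc, tv_mem hF _ _ _ _, ?_⟩
  rw [av_tv, herm_sub_right hF, hk, hxx, sub_zero, inv_mul_cancel₀ hk0, one_smul]
  abel

theorem exists_norm_any (hF : Fintype.card F = q ^ 2) (m : F) (hm : m ^ q = m) :
    ∃ μ : F, μ * μ ^ q = m := by
  by_cases h0 : m = 0
  · exact ⟨0, by rw [h0, zero_mul]⟩
  · obtain ⟨μ, hμ⟩ := exists_norm (conjQ hF) (conjQ_ne_id hF) (conjQ_conjQ hF) m h0
      (by rw [conjQ_apply, hm])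
    exact ⟨μ, hμ⟩

/-- two non-perpendicular isotropic vectors are in the same `TT`-orbit (`n ≥ 3`) -/
theorem rel_iso_of_ne (hF : Fintype.card F = q ^ 2) (hn : 3 ≤ n) (x x' : Fin n → F)
    (hxx : hermForm n F q x x = 0) (hx'x' : hermForm n F q x' x' = 0) (b : F)
    (hb : hermForm n F q x x' = b) (hb0 : b ≠ 0) : Rel q x x' := by
  classical
  have hx'x : hermForm n F q x' x = b ^ q := by rw [← hb, herm_conj hF]
  have hbq0 : b ^ q ≠ 0 := pow_ne_zero _ hb0
  obtain ⟨k, hk0, hkq⟩ := exists_trace_zero hF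
  -- the hyperbolic partner
  have h1 : hermForm n F q ((b ^ q)⁻¹ • x') x = 1 := by
    rw [herm_smul_left, hx'x, inv_mul_cancel₀ hbq0]
  have h2 : hermForm n F q x ((b ^ q)⁻¹ • x') = 1 := by
    rw [herm_smul_right, hb, inv_pow, pow_q_q hF, inv_mul_cancel₀ hb0]
  have h3 : hermForm n F q ((b ^ q)⁻¹ • x') ((b ^ q)⁻¹ • x') = 0 := by
    rw [herm_smul_left, herm_smul_right, hx'x', mul_zero, mul_zero]
  obtain ⟨U, φ, hmemU, hφ⟩ := exists_perp_iso hF x ((b ^ q)⁻¹ • x') hxx h1 h2 h3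
  obtain ⟨z₀, hz₀⟩ := exists_norm_one_std hF (k := n - 2) (by omega)
  obtain ⟨m, hm⟩ : ∃ m : F, m = -(k * k) * (b⁻¹ + (b ^ q)⁻¹) := ⟨_, rfl⟩
  have hmq : m ^ q = m := by
    rw [hm, mul_pow, neg_pow_q hF, mul_pow, hkq, add_pow_q hF, inv_pow, inv_pow, pow_q_q hF]
    ring
  obtain ⟨μ, hμ⟩ := exists_norm_any hF m hmq
  obtain ⟨w₀, hw₀⟩ : ∃ w₀ : Fin n → F, w₀ = μ • ((φ.symm z₀ : U) : Fin n → F) := ⟨_, rfl⟩
  have hzz : hermForm n F q ((φ.symm z₀ : U) : Fin n → F) ((φ.symm z₀ : U) : Fin n → F) = 1 := by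
    rw [← hφ, LinearEquiv.apply_symm_apply]
    exact hz₀
  have hw₀w₀ : hermForm n F q w₀ w₀ = m := by
    rw [hw₀, herm_smul_left, herm_smul_right, hzz, mul_one, hμ]
  have hw₀x : hermForm n F q w₀ x = 0 := by
    rw [hw₀, herm_smul_left, ((hmemU _).mp (φ.symm z₀).2).1, mul_zero]
  have hw₀x' : hermForm n F q w₀ x' = 0 := by
    have e : x' = (b ^ q) • ((b ^ q)⁻¹ • x') := by
      rw [smul_smul, mul_inv_cancel₀ hbq0, one_smul]
    rw [e, herm_smul_right, hw₀, herm_smul_left, ((hmemU _).mp (φ.symm z₀).2).2]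
    ring
  have hxw₀ := herm_swap_zero hF hw₀x
  have hx'w₀ := herm_swap_zero hF hw₀x'
  obtain ⟨α, hα⟩ : ∃ α : F, α = k / b := ⟨_, rfl⟩
  obtain ⟨β, hβ⟩ : ∃ β : F, β = α ^ q := ⟨_, rfl⟩
  have hβq : β ^ q = α := by rw [hβ, pow_q_q hF]
  have hβ' : β = -k / b ^ q := by rw [hβ, hα, div_pow, hkq]
  obtain ⟨w, hw⟩ : ∃ w : Fin n → F, w = α • x + β • x' + w₀ := ⟨_, rfl⟩
  have hxw : hermForm n F q x w = k := by
    rw [hw]
    simp only [herm_add_right hF, herm_smul_right, hxx, hb, hxw₀, hβq]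
    rw [hα]
    field_simp
    ring
  have hwx' : hermForm n F q w x' = k := by
    rw [hw]
    simp only [herm_add_left, herm_smul_left, hx'x', hb, hw₀x']
    rw [hα]
    field_simp
    ring
  have hww : hermForm n F q w w = 0 := by
    rw [hw]
    simp only [herm_add_left, herm_add_right hF, herm_smul_left, herm_smul_right, hxx, hx'x', hb,
      hx'x, hw₀x, hw₀x', hxw₀, hx'w₀, hw₀w₀, hβq, ← hβ]
    rw [hβ', hα, hm]
    field_simp
    ring
  exact (rel_iso_step hF x w hxx hww k hxw hk0 hkq).trans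
    (rel_iso_step hF w x' hww hx'x' k hwx' hk0 hkq)

/-- an isotropic vector not perpendicular to either of two given non-zero isotropic vectors -/
theorem exists_iso_nonperp (hF : Fintype.card F = q ^ 2) (x x' : Fin n → F)
    (hx : x ≠ 0) (hx' : x' ≠ 0)
    (hxx : hermForm n F q x x = 0) (hx'x' : hermForm n F q x' x' = 0)
    (hxx' : hermForm n F q x x' = 0) :
    ∃ y : Fin n → F, hermForm n F q y y = 0 ∧ hermForm n F q x y ≠ 0 ∧
      hermForm n F q y x' ≠ 0 := by
  classical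
  obtain ⟨v, hvx, hxv, hvv⟩ := exists_herm_partner hF x hx hxx
  by_cases hvx' : hermForm n F q v x' = 0
  · obtain ⟨U, φ, hmemU, hφ⟩ := exists_perp_iso hF x v hxx hvx hxv hvv
    have hx'U : x' ∈ U := by
      rw [hmemU]
      exact ⟨herm_swap_zero hF hxx', herm_swap_zero hF hvx'⟩
    have hy0 : φ ⟨x', hx'U⟩ ≠ 0 := by
      intro h
      have := φ.map_eq_zero_iff.mp h
      exact hx' (congrArg Subtype.val this)
    have hyy : hermForm (n - 2) F q (φ ⟨x', hx'U⟩) (φ ⟨x', hx'U⟩) = 0 := by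
      rw [hφ]
      exact hx'x'
    obtain ⟨r, hry, hyr, hrr⟩ := exists_herm_partner hF _ hy0 hyy
    have hr1 : hermForm n F q ((φ.symm r : U) : Fin n → F) ((φ.symm r : U) : Fin n → F) = 0 := by
      rw [← hφ, LinearEquiv.apply_symm_apply]
      exact hrr
    have hr2 : hermForm n F q ((φ.symm r : U) : Fin n → F) x' = 1 := by
      have := hφ (φ.symm r) ⟨x', hx'U⟩
      rw [LinearEquiv.apply_symm_apply] at this
      rw [← this]
      exact hry
    have hr3 := ((hmemU _).mp (φ.symm r).2).1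
    have hr4 := ((hmemU _).mp (φ.symm r).2).2
    refine ⟨v + ((φ.symm r : U) : Fin n → F), ?_, ?_, ?_⟩
    · rw [herm_add_left, herm_add_right hF, herm_add_right hF, hvv, hr1, hr4,
        herm_swap_zero hF hr4]
      ring
    · rw [herm_add_right hF, hxv, herm_swap_zero hF hr3, add_zero]
      exact one_ne_zero
    · rw [herm_add_left, hvx', hr2, zero_add]
      exact one_ne_zero
  · exact ⟨v, hvv, by rw [hxv]; exact one_ne_zero, hvx'⟩

/-- `TT` is transitive on the non-zero isotropic vectors (`n ≥ 3`) -/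
theorem rel_iso (hF : Fintype.card F = q ^ 2) (hn : 3 ≤ n) (x x' : Fin n → F)
    (hx : x ≠ 0) (hx' : x' ≠ 0)
    (hxx : hermForm n F q x x = 0) (hx'x' : hermForm n F q x' x' = 0) : Rel q x x' := by
  by_cases hb : hermForm n F q x x' = 0
  · obtain ⟨y, hyy, hxy, hyx'⟩ := exists_iso_nonperp hF x x' hx hx' hxx hx'x' hb
    exact (rel_iso_of_ne hF hn x y hxx hyy _ rfl hxy).trans
      (rel_iso_of_ne hF hn y x' hyy hx'x' _ rfl hyx')
  · exact rel_iso_of_ne hF hn x x' hxx hx'x' _ rfl hb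

/-- the unitary Siegel element `x ↦ x + h(x,u) a - h(x,a) u` for perpendicular isotropic `u, a` -/
def sieg (hF : Fintype.card F = q ^ 2) (u a : Fin n → F) (huu : hermForm n F q u u = 0)
    (haa : hermForm n F q a a = 0) (hau : hermForm n F q a u = 0) : ↥(Cfsg.SU n F q) :=
  mkSU (Em q 1 a u) (Em_det 1 a u hau (herm_swap_zero hF hau))
    (Em_pres hF 1 a u haa huu hau (herm_swap_zero hF hau))

theorem av_sieg (hF : Fintype.card F = q ^ 2) (u a : Fin n → F) (huu : hermForm n F q u u = 0)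
    (haa : hermForm n F q a a = 0) (hau : hermForm n F q a u = 0) (x : Fin n → F) :
    av (sieg hF u a huu haa hau) x =
      x + hermForm n F q x u • a - hermForm n F q x a • u := by
  have := Em_mulVec (q := q) 1 a u x huu
  unfold av sieg mkSU
  simp only
  rw [this, one_pow, one_mul, neg_one_mul, neg_smul]
  abel

theorem sieg_mem_TT (hF : Fintype.card F = q ^ 2) (u a : Fin n → F)
    (huu : hermForm n F q u u = 0)
    (haa : hermForm n F q a a = 0) (hau : hermForm n F q a u = 0) :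
    sieg hF u a huu haa hau ∈ TT n F q := by
  obtain ⟨c, hc0, hcq⟩ := exists_trace_zero hF
  have hua := herm_swap_zero hF hau
  have hcinv : (c⁻¹) ^ q = -c⁻¹ := by rw [inv_pow, hcq, inv_neg]
  have hneg : (-c) ^ q = -(-c) := by rw [neg_pow_q hF, hcq]
  have h1 : hermForm n F q (u + c⁻¹ • a) (u + c⁻¹ • a) = 0 := by
    simp only [herm_add_left, herm_add_right hF, herm_smul_left, herm_smul_right, huu, haa, hau,
      hua]
    ring
  have key : sieg hF u a huu haa hau =
      tv hF (u + c⁻¹ • a) c h1 hcq * (tv hF u (-c) huu hneg * tv hF a c⁻¹ haa hcinv) := by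
    apply ext_av
    intro x
    rw [av_sieg, av_mul, av_mul, av_tv, av_tv, av_tv]
    simp only [herm_add_left, herm_add_right hF, herm_smul_left, herm_smul_right, huu, haa, hau,
      hua, hcinv]
    ext i
    simp only [Pi.add_apply, Pi.sub_apply, Pi.smul_apply, smul_eq_mul]
    field_simp
    ring
  rw [key]
  exact Subgroup.mul_mem _ (tv_mem hF _ _ _ _)
    (Subgroup.mul_mem _ (tv_mem hF _ _ _ _) (tv_mem hF _ _ _ _))

end

end Cfsg.Agent.Lib.Helper6.SUG
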