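import Mathlib

set_option autoImplicit false

/-!
# A counting form of Witt's lemma for quadratic forms over finite fields

For `f : E → V` linear, the number of `x : V` with prescribed `polar Q x (f ·)` and prescribed
`Q x` only depends on the pulled back form `Q ∘ f`.  Proved with additive characters.
-/

namespace Cfsg.Agent.Lib.Helper6

open Module QuadraticMap Finset

section
variable {F V E K : Type*} [Field F] [Fintype F] [AddCommGroup V] [Module F V] [Fintype V]
  [AddCommGroup E] [Module F E] [Fintype E] [Field K]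

/-- the character sum attached to `g`, `t`, `a` -/
noncomputable def wittS (ψ : AddChar F K) (Q : QuadraticForm F V) (g : E →ₗ[F] V) (t : F) (a : E) : K :=
  ∑ x : V, ψ (t * Q x + polar Q x (g a))

theorem sum_char_functional_ne (ψ : AddChar F K) (hψ : ψ ≠ 1) {W : Type*} [AddCommGroup W]
    [Module F W] [Fintype W] (μ : W →ₗ[F] F) (h : μ ≠ 0) : ∑ a : W, ψ (μ a) = 0 := by
  have hne : ψ.compAddMonoidHom μ.toAddMonoidHom ≠ 1 := by
    rw [AddChar.ne_one_iff]
    obtain ⟨u, hu⟩ := AddChar.ne_one_iff.mp hψ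
    obtain ⟨a, ha⟩ : ∃ a, μ a ≠ 0 := by
      by_contra hcon
      push Not at hcon
      exact h (LinearMap.ext hcon)
    refine ⟨(u / μ a) • a, ?_⟩
    simp only [AddChar.compAddMonoidHom_apply, LinearMap.toAddMonoidHom_coe, map_smul,
      smul_eq_mul, div_mul_cancel₀ _ ha]
    exact hu
  have := AddChar.sum_eq_zero_of_ne_one hne
  simpa using this

theorem sum_char_functional_zero (ψ : AddChar F K) {W : Type*} [AddCommGroup W]
    [Module F W] [Fintype W] (μ : W →ₗ[F] F) (h : μ = 0) :
    ∑ a : W, ψ (μ a) = (Fintype.card W : K) := by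
  simp [h]

theorem sum_char_mul_ne (ψ : AddChar F K) (hψ : ψ ≠ 1) (b : F) (hb : b ≠ 0) :
    ∑ t : F, ψ (t * b) = 0 := by
  have := sum_char_functional_ne ψ hψ (W := F) (LinearMap.mulRight F b) (by
    intro h
    have := congrArg (fun l => l 1) h
    simp at this
    exact hb this)
  simpa using this

theorem wittS_zero_zero (ψ : AddChar F K) (Q : QuadraticForm F V) (g : E →ₗ[F] V) :
    wittS ψ Q g 0 0 = (Fintype.card V : K) := by
  unfold wittS
  simp

theorem wittS_zero_ne (ψ : AddChar F K) (hψ : ψ ≠ 1) (Q : QuadraticForm F V)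
    (hQ : (polarBilin Q).Nondegenerate) (g : E →ₗ[F] V) (hg : Function.Injective g) (a : E)
    (ha : a ≠ 0) : wittS ψ Q g 0 a = 0 := by
  unfold wittS
  have hμ : (polarBilin Q).flip (g a) ≠ 0 := by
    intro h
    apply ha
    apply hg
    rw [map_zero]
    apply hQ.2 (g a)
    intro x
    have := congrArg (fun l => l x) h
    simpa using this
  have := sum_char_functional_ne ψ hψ ((polarBilin Q).flip (g a)) hμ
  simpa using this

theorem wittS_ne (ψ : AddChar F K) (Q : QuadraticForm F V) (g : E →ₗ[F] V) (t : F) (ht : t ≠ 0)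
    (a : E) : wittS ψ Q g t a = ∑ x : V, ψ (t * Q x - t⁻¹ * Q (g a)) := by
  unfold wittS
  rw [← Equiv.sum_comp (Equiv.subRight (t⁻¹ • g a))]
  apply Finset.sum_congr rfl
  intro x _
  congr 1
  simp only [Equiv.subRight_apply]
  have e1 : Q (x - t⁻¹ • g a) = Q x + t⁻¹ * t⁻¹ * Q (g a) - t⁻¹ * polar Q x (g a) := by
    rw [sub_eq_add_neg, ← neg_smul, QuadraticMap.map_add Q, QuadraticMap.map_smul,
      polar_smul_right]
    simp only [smul_eq_mul]
    ring
  have e2 : polar Q (x - t⁻¹ • g a) (g a) = polar Q x (g a) - t⁻¹ * (2 * Q (g a)) := by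
    rw [polar_sub_left, polar_smul_left, polar_self, smul_eq_mul, two_smul, two_mul]
  rw [e1, e2]
  field_simp
  ring

/-- the character sums only depend on `Q ∘ g` -/
theorem wittS_eq (ψ : AddChar F K) (hψ : ψ ≠ 1) (Q : QuadraticForm F V)
    (hQ : (polarBilin Q).Nondegenerate) (f f' : E →ₗ[F] V) (hf : Function.Injective f)
    (hf' : Function.Injective f') (hiso : ∀ a, Q (f a) = Q (f' a)) (t : F) (a : E) :
    wittS ψ Q f t a = wittS ψ Q f' t a := by
  by_cases ht : t = 0
  · subst ht
    by_cases ha : a = 0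
    · subst ha
      rw [wittS_zero_zero, wittS_zero_zero]
    · rw [wittS_zero_ne ψ hψ Q hQ f hf a ha, wittS_zero_ne ψ hψ Q hQ f' hf' a ha]
  · rw [wittS_ne ψ Q f t ht, wittS_ne ψ Q f' t ht, hiso]

/-- Fourier inversion -/
theorem wittS_inversion (ψ : AddChar F K) (hψ : ψ ≠ 1) (Q : QuadraticForm F V)
    (g : E →ₗ[F] V) (lam : E →ₗ[F] F) (c : F) :
    ∑ a : E, ∑ t : F, ψ (-(lam a) - t * c) * wittS ψ Q g t a =
      (Fintype.card E : K) * (Fintype.card F : K) *
        (Nat.card {x : V // (∀ a, polar Q x (g a) = lam a) ∧ Q x = c} : K) := by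
  classical
  have hpt : ∀ (x : V) (a : E) (t : F), ψ (-(lam a) - t * c) * ψ (t * Q x + polar Q x (g a)) =
      ψ (polar Q x (g a) - lam a) * ψ (t * (Q x - c)) := by
    intro x a t
    rw [← AddChar.map_add_eq_mul, ← AddChar.map_add_eq_mul]
    congr 1
    ring
  have h1 : ∑ a : E, ∑ t : F, ψ (-(lam a) - t * c) * wittS ψ Q g t a =
      ∑ x : V, ∑ a : E, ∑ t : F, ψ (polar Q x (g a) - lam a) * ψ (t * (Q x - c)) := by
    unfold wittS
    simp_rw [Finset.mul_sum, hpt]
    have : ∀ a : E, ∑ t : F, ∑ x : V, ψ (polar Q x (g a) - lam a) * ψ (t * (Q x - c)) =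
        ∑ x : V, ∑ t : F, ψ (polar Q x (g a) - lam a) * ψ (t * (Q x - c)) :=
      fun a => Finset.sum_comm
    simp_rw [this]
    rw [Finset.sum_comm]
  have h1' : ∀ x : V, ∑ a : E, ∑ t : F, ψ (polar Q x (g a) - lam a) * ψ (t * (Q x - c)) =
      (∑ a : E, ψ (polar Q x (g a) - lam a)) * (∑ t : F, ψ (t * (Q x - c))) :=
    fun x => (Finset.sum_mul_sum _ _ _ _).symm
  have hA : ∀ x : V, ∑ a : E, ψ (polar Q x (g a) - lam a) =
      if (∀ a, polar Q x (g a) = lam a) then (Fintype.card E : K) else 0 := by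
    intro x
    have hμ : ∀ a, polar Q x (g a) - lam a = ((polarBilin Q x).comp g - lam) a := fun a => rfl
    simp_rw [hμ]
    split_ifs with h
    · apply sum_char_functional_zero
      ext a
      simp only [LinearMap.sub_apply, LinearMap.comp_apply, polarBilin_apply_apply,
        LinearMap.zero_apply, h a, sub_self]
    · apply sum_char_functional_ne ψ hψ
      intro h0
      apply h
      intro a
      have := congrArg (fun l => l a) h0
      simp only [LinearMap.sub_apply, LinearMap.comp_apply, polarBilin_apply_apply,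
        LinearMap.zero_apply] at this
      exact sub_eq_zero.mp this
  have hB : ∀ x : V, ∑ t : F, ψ (t * (Q x - c)) = if Q x = c then (Fintype.card F : K) else 0 := by
    intro x
    split_ifs with h
    · simp [h]
    · exact sum_char_mul_ne ψ hψ _ (sub_ne_zero.mpr h)
  rw [h1]
  simp_rw [h1', hA, hB]
  have h2 : ∀ x : V, (if (∀ a, polar Q x (g a) = lam a) then (Fintype.card E : K) else 0) *
      (if Q x = c then (Fintype.card F : K) else 0) =
      (Fintype.card E : K) * (Fintype.card F : K) *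
        (if ((∀ a, polar Q x (g a) = lam a) ∧ Q x = c) then 1 else 0) := by
    intro x
    by_cases h1 : ∀ a, polar Q x (g a) = lam a <;> by_cases h2 : Q x = c <;> simp [h1, h2]
  simp_rw [h2]
  rw [← Finset.mul_sum, Finset.sum_boole, Nat.card_eq_fintype_card, Fintype.card_subtype]

/-- **Counting form of Witt's lemma.** -/
theorem witt_count [CharZero K] (ψ : AddChar F K) (hψ : ψ ≠ 1) (Q : QuadraticForm F V)
    (hQ : (polarBilin Q).Nondegenerate) (f f' : E →ₗ[F] V) (hf : Function.Injective f)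
    (hf' : Function.Injective f') (hiso : ∀ a, Q (f a) = Q (f' a)) (lam : E →ₗ[F] F) (c : F) :
    Nat.card {x : V // (∀ a, polar Q x (f a) = lam a) ∧ Q x = c} =
      Nat.card {x : V // (∀ a, polar Q x (f' a) = lam a) ∧ Q x = c} := by
  have h1 := wittS_inversion ψ hψ Q f lam c
  have h2 := wittS_inversion ψ hψ Q f' lam c
  simp_rw [wittS_eq ψ hψ Q hQ f f' hf hf' hiso] at h1
  rw [h1] at h2
  have hE : (Fintype.card E : K) ≠ 0 := Nat.cast_ne_zero.mpr Fintype.card_ne_zero
  have hF : (Fintype.card F : K) ≠ 0 := Nat.cast_ne_zero.mpr Fintype.card_ne_zero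
  have h3 := mul_left_cancel₀ (mul_ne_zero hE hF) h2
  exact_mod_cast h3

end

end Cfsg.Agent.Lib.Helper6
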