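import Mathlib
import Cfsg.Agent.S0792

/-!
# Cartan–Dieudonné in characteristic two (finite fields)

The isometry group of a quadratic form with non-degenerate polar form over a finite field of
characteristic two is generated by the orthogonal transvections ("reflections"), except for
the four-dimensional spaces over the field of two elements.
-/

set_option autoImplicit false
open Cfsg

namespace Cfsg.Agent.Lib.Helper6

open Matrix Cfsg.Agent.S0792

section fam
variable {F : Type*} [Field F] {n : ℕ} (Q : QuadraticForm F (Fin n → F))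

/-- a family of `j` mutually orthogonal hyperbolic-type pairs for the polar form -/
structure SympFam (j : ℕ) where
  /-- first vectors -/
  u : Fin j → (Fin n → F)
  /-- second vectors -/
  w : Fin j → (Fin n → F)
  huu : ∀ i k, QuadraticMap.polar ⇑Q (u i) (u k) = 0
  hww : ∀ i k, QuadraticMap.polar ⇑Q (w i) (w k) = 0
  huw : ∀ i k, QuadraticMap.polar ⇑Q (u i) (w k) = if i = k then 1 else 0

variable {Q}

/-- orthogonal to the family -/
def SympFam.Perp {j : ℕ} (S : SympFam Q j) (x : Fin n → F) : Prop :=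
  ∀ i, QuadraticMap.polar ⇑Q (S.u i) x = 0 ∧ QuadraticMap.polar ⇑Q (S.w i) x = 0

/-- projection to the orthogonal complement of the family -/
def SympFam.proj {j : ℕ} (S : SympFam Q j) (x : Fin n → F) : Fin n → F :=
  x - ∑ i, (QuadraticMap.polar ⇑Q (S.w i) x • S.u i + QuadraticMap.polar ⇑Q (S.u i) x • S.w i)

theorem SympFam.hwu {j : ℕ} (S : SympFam Q j) (i k : Fin j) :
    QuadraticMap.polar ⇑Q (S.w i) (S.u k) = if i = k then 1 else 0 := by
  rw [QuadraticMap.polar_comm, S.huw]
  by_cases h : i = k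
  · rw [if_pos h, if_pos h.symm]
  · rw [if_neg h, if_neg (fun e => h e.symm)]

theorem SympFam.perp_proj {j : ℕ} (S : SympFam Q j) (x : Fin n → F) : S.Perp (S.proj x) := by
  classical
  intro k
  unfold SympFam.proj
  constructor
  · rw [QuadraticMap.polar_sub_right]
    have : QuadraticMap.polar ⇑Q (S.u k) (∑ i, (QuadraticMap.polar ⇑Q (S.w i) x • S.u i +
        QuadraticMap.polar ⇑Q (S.u i) x • S.w i)) = QuadraticMap.polar ⇑Q (S.u k) x := by
      have hlin : ∀ y, QuadraticMap.polar ⇑Q (S.u k) y = QuadraticMap.polarBilin Q (S.u k) y :=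
        fun y => rfl
      rw [hlin, map_sum]
      simp only [← hlin]
      rw [Finset.sum_eq_single k]
      · rw [QuadraticMap.polar_add_right, QuadraticMap.polar_smul_right,
          QuadraticMap.polar_smul_right, S.huu, S.huw, if_pos rfl]
        simp
      · intro i _ hik
        rw [QuadraticMap.polar_add_right, QuadraticMap.polar_smul_right,
          QuadraticMap.polar_smul_right, S.huu, S.huw, if_neg (Ne.symm hik)]
        simp
      · intro h; exact absurd (Finset.mem_univ k) h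
    rw [this, sub_self]
  · rw [QuadraticMap.polar_sub_right]
    have : QuadraticMap.polar ⇑Q (S.w k) (∑ i, (QuadraticMap.polar ⇑Q (S.w i) x • S.u i +
        QuadraticMap.polar ⇑Q (S.u i) x • S.w i)) = QuadraticMap.polar ⇑Q (S.w k) x := by
      have hlin : ∀ y, QuadraticMap.polar ⇑Q (S.w k) y = QuadraticMap.polarBilin Q (S.w k) y :=
        fun y => rfl
      rw [hlin, map_sum]
      simp only [← hlin]
      rw [Finset.sum_eq_single k]
      · rw [QuadraticMap.polar_add_right, QuadraticMap.polar_smul_right,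
          QuadraticMap.polar_smul_right, S.hww, S.hwu, if_pos rfl]
        simp
      · intro i _ hik
        rw [QuadraticMap.polar_add_right, QuadraticMap.polar_smul_right,
          QuadraticMap.polar_smul_right, S.hww, S.hwu, if_neg (Ne.symm hik)]
        simp
      · intro h; exact absurd (Finset.mem_univ k) h
    rw [this, sub_self]

theorem SympFam.polar_proj {j : ℕ} (S : SympFam Q j) (x y : Fin n → F) (hx : S.Perp x) :
    QuadraticMap.polar ⇑Q x (S.proj y) = QuadraticMap.polar ⇑Q x y := by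
  unfold SympFam.proj
  rw [QuadraticMap.polar_sub_right]
  have hlin : ∀ z, QuadraticMap.polar ⇑Q x z = QuadraticMap.polarBilin Q x z := fun z => rfl
  have : QuadraticMap.polar ⇑Q x (∑ i, (QuadraticMap.polar ⇑Q (S.w i) y • S.u i +
      QuadraticMap.polar ⇑Q (S.u i) y • S.w i)) = 0 := by
    rw [hlin, map_sum]
    apply Finset.sum_eq_zero
    intro i _
    rw [map_add, map_smul, map_smul, ← hlin, ← hlin, QuadraticMap.polar_comm ⇑Q x (S.u i),
      QuadraticMap.polar_comm ⇑Q x (S.w i), (hx i).1, (hx i).2]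
    simp
  rw [this, sub_zero]

theorem SympFam.perp_add {j : ℕ} (S : SympFam Q j) {x y : Fin n → F} (hx : S.Perp x)
    (hy : S.Perp y) : S.Perp (x + y) := by
  intro i
  rw [QuadraticMap.polar_add_right, QuadraticMap.polar_add_right, (hx i).1, (hx i).2, (hy i).1,
    (hy i).2]
  simp

theorem SympFam.perp_sub {j : ℕ} (S : SympFam Q j) {x y : Fin n → F} (hx : S.Perp x)
    (hy : S.Perp y) : S.Perp (x - y) := by
  intro i
  rw [QuadraticMap.polar_sub_right, QuadraticMap.polar_sub_right, (hx i).1, (hx i).2, (hy i).1,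
    (hy i).2]
  simp

theorem SympFam.perp_smul {j : ℕ} (S : SympFam Q j) {x : Fin n → F} (hx : S.Perp x) (t : F) :
    S.Perp (t • x) := by
  intro i
  rw [QuadraticMap.polar_smul_right, QuadraticMap.polar_smul_right, (hx i).1, (hx i).2]
  simp

theorem SympFam.perp_zero {j : ℕ} (S : SympFam Q j) : S.Perp 0 := by
  intro i
  simp

/-- extension of a family by a pair in its orthogonal complement -/
def SympFam.snoc {j : ℕ} (S : SympFam Q j) (a a' : Fin n → F) (ha : S.Perp a) (ha' : S.Perp a')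
    (haa : QuadraticMap.polar ⇑Q a a = 0) (ha'a' : QuadraticMap.polar ⇑Q a' a' = 0)
    (haa' : QuadraticMap.polar ⇑Q a a' = 1) : SympFam Q (j + 1) where
  u := Fin.snoc S.u a
  w := Fin.snoc S.w a'
  huu := by
    intro i k
    induction i using Fin.lastCases with
    | last =>
      induction k using Fin.lastCases with
      | last => rw [Fin.snoc_last]; exact haa
      | cast k => rw [Fin.snoc_last, Fin.snoc_castSucc, QuadraticMap.polar_comm]; exact (ha k).1
    | cast i =>
      induction k using Fin.lastCases with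
      | last => rw [Fin.snoc_last, Fin.snoc_castSucc]; exact (ha i).1
      | cast k => rw [Fin.snoc_castSucc, Fin.snoc_castSucc]; exact S.huu i k
  hww := by
    intro i k
    induction i using Fin.lastCases with
    | last =>
      induction k using Fin.lastCases with
      | last => rw [Fin.snoc_last]; exact ha'a'
      | cast k => rw [Fin.snoc_last, Fin.snoc_castSucc, QuadraticMap.polar_comm]; exact (ha' k).2
    | cast i =>
      induction k using Fin.lastCases with
      | last => rw [Fin.snoc_last, Fin.snoc_castSucc]; exact (ha' i).2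
      | cast k => rw [Fin.snoc_castSucc, Fin.snoc_castSucc]; exact S.hww i k
  huw := by
    intro i k
    induction i using Fin.lastCases with
    | last =>
      induction k using Fin.lastCases with
      | last => rw [Fin.snoc_last, Fin.snoc_last, if_pos rfl]; exact haa'
      | cast k =>
        rw [Fin.snoc_last, Fin.snoc_castSucc, QuadraticMap.polar_comm, (ha k).2,
          if_neg (Fin.castSucc_lt_last k).ne']
    | cast i =>
      induction k using Fin.lastCases with
      | last =>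
        rw [Fin.snoc_last, Fin.snoc_castSucc, (ha' i).1, if_neg (Fin.castSucc_lt_last i).ne]
      | cast k =>
        rw [Fin.snoc_castSucc, Fin.snoc_castSucc, S.huw i k]
        by_cases h : i = k
        · rw [if_pos h, if_pos (by rw [h])]
        · rw [if_neg h, if_neg (fun e => h (Fin.castSucc_injective _ e))]

theorem SympFam.snoc_perp {j : ℕ} (S : SympFam Q j) (a a' : Fin n → F) (ha : S.Perp a)
    (ha' : S.Perp a') (haa : QuadraticMap.polar ⇑Q a a = 0)
    (ha'a' : QuadraticMap.polar ⇑Q a' a' = 0)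
    (haa' : QuadraticMap.polar ⇑Q a a' = 1) (x : Fin n → F) :
    (S.snoc a a' ha ha' haa ha'a' haa').Perp x ↔
      S.Perp x ∧ QuadraticMap.polar ⇑Q a x = 0 ∧ QuadraticMap.polar ⇑Q a' x = 0 := by
  constructor
  · intro h
    refine ⟨fun i => ?_, ?_, ?_⟩
    · have := h (Fin.castSucc i)
      change QuadraticMap.polar ⇑Q ((Fin.snoc S.u a : Fin (j + 1) → _) (Fin.castSucc i)) x = 0 ∧
        QuadraticMap.polar ⇑Q ((Fin.snoc S.w a' : Fin (j + 1) → _) (Fin.castSucc i)) x = 0 at this
      rw [Fin.snoc_castSucc, Fin.snoc_castSucc] at this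
      exact this
    · have := (h (Fin.last j)).1
      change QuadraticMap.polar ⇑Q ((Fin.snoc S.u a : Fin (j + 1) → _) (Fin.last j)) x = 0 at this
      rw [Fin.snoc_last] at this
      exact this
    · have := (h (Fin.last j)).2
      change QuadraticMap.polar ⇑Q ((Fin.snoc S.w a' : Fin (j + 1) → _) (Fin.last j)) x = 0 at this
      rw [Fin.snoc_last] at this
      exact this
  · rintro ⟨h1, h2, h3⟩ i
    change QuadraticMap.polar ⇑Q ((Fin.snoc S.u a : Fin (j + 1) → _) i) x = 0 ∧
      QuadraticMap.polar ⇑Q ((Fin.snoc S.w a' : Fin (j + 1) → _) i) x = 0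
    induction i using Fin.lastCases with
    | last => rw [Fin.snoc_last, Fin.snoc_last]; exact ⟨h2, h3⟩
    | cast i => rw [Fin.snoc_castSucc, Fin.snoc_castSucc]; exact h1 i

end fam

section fam2
variable {F : Type*} [Field F] {n : ℕ} {Q : QuadraticForm F (Fin n → F)}

theorem polar_self_of_two (h2 : (2 : F) = 0) (x : Fin n → F) :
    QuadraticMap.polar ⇑Q x x = 0 := by
  rw [QuadraticMap.polar_self, nsmul_eq_mul]
  push_cast
  rw [h2, zero_mul]

theorem neg_eq_of_two (h2 : (2 : F) = 0) (t : F) : -t = t := by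
  linear_combination (-t) * h2

theorem Q_add_two (x y : Fin n → F) : Q (x + y) = Q x + Q y + QuadraticMap.polar ⇑Q x y := by
  unfold QuadraticMap.polar; ring

theorem Q_sub_two (h2 : (2 : F) = 0) (x y : Fin n → F) :
    Q (x - y) = Q x + Q y + QuadraticMap.polar ⇑Q x y := by
  rw [sub_eq_add_neg, Q_add_two, QuadraticMap.map_neg, QuadraticMap.polar_neg_right,
    neg_eq_of_two h2]

theorem polar_sum_smul {κ : Type*} [Fintype κ] (x : Fin n → F) (c : κ → F)
    (v : κ → (Fin n → F)) :
    QuadraticMap.polar ⇑Q x (∑ i, c i • v i) = ∑ i, c i * QuadraticMap.polar ⇑Q x (v i) := by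
  have hlin : ∀ y, QuadraticMap.polar ⇑Q x y = QuadraticMap.polarBilin Q x y := fun y => rfl
  rw [hlin, map_sum]
  apply Finset.sum_congr rfl
  intro i _
  rw [map_smul, smul_eq_mul, ← hlin]

/-- the vectors of a family are linearly independent -/
theorem SympFam.card_le {j : ℕ} (S : SympFam Q j) : 2 * j ≤ n := by
  classical
  have hli : LinearIndependent F (Sum.elim S.u S.w) := by
    rw [Fintype.linearIndependent_iff]
    intro c hc
    rw [Fintype.sum_sum_type] at hc
    simp only [Sum.elim_inl, Sum.elim_inr] at hc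
    intro i
    rcases i with k | k
    · have h1 := congrArg (fun y => QuadraticMap.polar ⇑Q (S.w k) y) hc
      simp only [QuadraticMap.polar_add_right, polar_sum_smul, S.hww, S.hwu, mul_zero,
        Finset.sum_const_zero, add_zero, mul_ite, mul_one, QuadraticMap.polar_zero_right] at h1
      rw [Finset.sum_ite_eq Finset.univ k] at h1
      simpa using h1
    · have h1 := congrArg (fun y => QuadraticMap.polar ⇑Q (S.u k) y) hc
      simp only [QuadraticMap.polar_add_right, polar_sum_smul, S.huu, S.huw, mul_zero,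
        Finset.sum_const_zero, zero_add, mul_ite, mul_one, QuadraticMap.polar_zero_right] at h1
      rw [Finset.sum_ite_eq Finset.univ k] at h1
      simpa using h1
  have := hli.fintype_card_le_finrank
  rw [Fintype.card_sum, Fintype.card_fin, Module.finrank_fin_fun] at this
  omega

/-- partner of a non-zero vector of the orthogonal complement -/
theorem SympFam.exists_partner {j : ℕ} (S : SympFam Q j)
    (hQ : (QuadraticMap.polarBilin Q).Nondegenerate) (x : Fin n → F) (hx : S.Perp x)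
    (hx0 : x ≠ 0) : ∃ x', S.Perp x' ∧ QuadraticMap.polar ⇑Q x x' = 1 := by
  have : ∃ y, QuadraticMap.polar ⇑Q x y ≠ 0 := by
    by_contra hcon
    push Not at hcon
    exact hx0 (hQ.1 x hcon)
  obtain ⟨y, hy⟩ := this
  refine ⟨(QuadraticMap.polar ⇑Q x y)⁻¹ • S.proj y, S.perp_smul (S.perp_proj y) _, ?_⟩
  rw [QuadraticMap.polar_smul_right, S.polar_proj x y hx, smul_eq_mul, inv_mul_cancel₀ hy]

/-- the orthogonal complement of a non-maximal family is non-zero -/
theorem SympFam.exists_perp_ne_zero {j : ℕ} (S : SympFam Q j) (hj : 2 * j < n) :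
    ∃ x, S.Perp x ∧ x ≠ 0 := by
  classical
  set B : LinearMap.BilinForm F (Fin n → F) := QuadraticMap.polarBilin Q with hB
  let T : (Fin n → F) →ₗ[F] (Fin j ⊕ Fin j → F) :=
    LinearMap.pi (fun i => Sum.elim (fun k => B (S.u k)) (fun k => B (S.w k)) i)
  have hker : LinearMap.ker T ≠ ⊥ := by
    apply LinearMap.ker_ne_bot_of_finrank_lt
    rw [Module.finrank_pi, Module.finrank_pi, Fintype.card_fin, Fintype.card_sum, Fintype.card_fin]
    omega
  obtain ⟨x, hxk, hx0⟩ := Submodule.exists_mem_ne_zero_of_ne_bot hker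
  refine ⟨x, fun i => ⟨?_, ?_⟩, hx0⟩
  · exact congrFun (LinearMap.mem_ker.mp hxk) (Sum.inl i)
  · exact congrFun (LinearMap.mem_ker.mp hxk) (Sum.inr i)

/-- a non-singular vector in the orthogonal complement of a non-maximal family -/
theorem SympFam.exists_nonsingular {j : ℕ} (S : SympFam Q j) (h2 : (2 : F) = 0)
    (hQ : (QuadraticMap.polarBilin Q).Nondegenerate) (hj : 2 * j < n) :
    ∃ a, S.Perp a ∧ Q a ≠ 0 := by
  obtain ⟨x, hx, hx0⟩ := S.exists_perp_ne_zero hj
  by_cases hQx : Q x = 0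
  · obtain ⟨x', hx', hxx'⟩ := S.exists_partner hQ x hx hx0
    by_cases hQx' : Q x' = 0
    · refine ⟨x + x', S.perp_add hx hx', ?_⟩
      rw [Q_add_two, hQx, hQx', hxx']
      simp
    · exact ⟨x', hx', hQx'⟩
  · exact ⟨x, hx, hQx⟩

/-- the orthogonal complement of a maximal family is zero -/
theorem SympFam.eq_zero_of_perp {j : ℕ} (S : SympFam Q j) (h2 : (2 : F) = 0)
    (hQ : (QuadraticMap.polarBilin Q).Nondegenerate) (hj : n ≤ 2 * j + 1) (x : Fin n → F)
    (hx : S.Perp x) : x = 0 := by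
  by_contra hx0
  obtain ⟨x', hx', hxx'⟩ := S.exists_partner hQ x hx hx0
  have := (S.snoc x x' hx hx' (polar_self_of_two h2 x) (polar_self_of_two h2 x') hxx').card_le
  omega

theorem SympFam.proj_eq_self {j : ℕ} (S : SympFam Q j) (x : Fin n → F) (hx : S.Perp x) :
    S.proj x = x := by
  unfold SympFam.proj
  have : ∑ i, (QuadraticMap.polar ⇑Q (S.w i) x • S.u i + QuadraticMap.polar ⇑Q (S.u i) x • S.w i)
      = 0 := by
    apply Finset.sum_eq_zero
    intro i _
    rw [(hx i).1, (hx i).2]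
    simp
  rw [this, sub_zero]

end fam2

section moves
variable {F : Type*} [Field F] {n : ℕ} {Q : QuadraticForm F (Fin n → F)}

/-- the family is fixed by a matrix -/
def SympFam.FixedBy {j : ℕ} (S : SympFam Q j) (M : Matrix (Fin n) (Fin n) F) : Prop :=
  ∀ i, M *ᵥ S.u i = S.u i ∧ M *ᵥ S.w i = S.w i

/-- the matrix of an isometry -/
abbrev imat' (g : ↥(Cfsg.isometryGroup F ⇑Q)) : Matrix (Fin n) (Fin n) F :=
  ((g : Matrix.GeneralLinearGroup (Fin n) F) : Matrix (Fin n) (Fin n) F)

theorem SympFam.fixedBy_one {j : ℕ} (S : SympFam Q j) :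
    S.FixedBy (imat' (1 : ↥(Cfsg.isometryGroup F ⇑Q))) := by
  intro i
  change (1 : Matrix (Fin n) (Fin n) F) *ᵥ S.u i = S.u i ∧
    (1 : Matrix (Fin n) (Fin n) F) *ᵥ S.w i = S.w i
  rw [Matrix.one_mulVec, Matrix.one_mulVec]
  exact ⟨rfl, rfl⟩

theorem SympFam.fixedBy_mul {j : ℕ} (S : SympFam Q j) (g h : ↥(Cfsg.isometryGroup F ⇑Q))
    (hg : S.FixedBy (imat' g)) (hh : S.FixedBy (imat' h)) : S.FixedBy (imat' (g * h)) := by
  intro i
  change (imat' g * imat' h) *ᵥ S.u i = S.u i ∧ (imat' g * imat' h) *ᵥ S.w i = S.w i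
  rw [← Matrix.mulVec_mulVec, ← Matrix.mulVec_mulVec, (hh i).1, (hh i).2, (hg i).1, (hg i).2]
  exact ⟨rfl, rfl⟩

theorem SympFam.perp_of_fixed {j : ℕ} (S : SympFam Q j) (g : ↥(Cfsg.isometryGroup F ⇑Q))
    (hg : S.FixedBy (imat' g)) (x : Fin n → F) (hx : S.Perp x) : S.Perp (imat' g *ᵥ x) := by
  intro i
  constructor
  · have := pres_polar Q g (S.u i) x
    rw [(hg i).1] at this
    rw [this]; exact (hx i).1
  · have := pres_polar Q g (S.w i) x
    rw [(hg i).2] at this
    rw [this]; exact (hx i).2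

/-- a reflection moving `x` to `y` -/
theorem SympFam.exists_move {j : ℕ} (S : SympFam Q j) (h2 : (2 : F) = 0) (x y : Fin n → F)
    (hx : S.Perp x) (hy : S.Perp y) (hxy : Q x = Q y)
    (hB : QuadraticMap.polar ⇑Q x y ≠ 0) :
    ∃ r : ↥(Cfsg.isometryGroup F ⇑Q), r ∈ Subgroup.closure (Rset Q) ∧ S.FixedBy (imat' r) ∧
      imat' r *ᵥ x = y ∧
      ∀ z, QuadraticMap.polar ⇑Q x z = QuadraticMap.polar ⇑Q y z → imat' r *ᵥ z = z := by
  have hQ : Q (x - y) ≠ 0 := by
    rw [Q_sub_two h2, ← hxy]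
    have : Q x + Q x = 0 := by linear_combination Q x * h2
    rw [this, zero_add]
    exact hB
  obtain ⟨r, hr, -⟩ := exists_refl Q (x - y) hQ
  refine ⟨r, refl_mem_closure Q _ hQ r hr, ?_, ?_, ?_⟩
  · intro i
    change imat' r *ᵥ S.u i = S.u i ∧ imat' r *ᵥ S.w i = S.w i
    have e : imat' r = Cfsg.reflectionMatrix ⇑Q (x - y) := hr
    rw [e]
    constructor
    · apply refl_fix
      rw [QuadraticMap.polar_sub_left, QuadraticMap.polar_comm ⇑Q x, QuadraticMap.polar_comm ⇑Q y,
        (hx i).1, (hy i).1, sub_zero]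
    · apply refl_fix
      rw [QuadraticMap.polar_sub_left, QuadraticMap.polar_comm ⇑Q x, QuadraticMap.polar_comm ⇑Q y,
        (hx i).2, (hy i).2, sub_zero]
  · have e : imat' r = Cfsg.reflectionMatrix ⇑Q (x - y) := hr
    rw [e]
    exact refl_move1 Q x y hxy hQ
  · intro z hz
    have e : imat' r = Cfsg.reflectionMatrix ⇑Q (x - y) := hr
    rw [e]
    apply refl_fix
    rw [QuadraticMap.polar_sub_left, hz, sub_self]

/-- **Lemma A.** Moving `g a` back to `a` by reflections in the orthogonal complement. -/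
theorem SympFam.lemmaA {j : ℕ} (S : SympFam Q j) (h2 : (2 : F) = 0)
    (g : ↥(Cfsg.isometryGroup F ⇑Q)) (hg : S.FixedBy (imat' g)) (a : Fin n → F) (ha : S.Perp a)
    (star : ∀ b, S.Perp b → a ≠ b → Q a = Q b → QuadraticMap.polar ⇑Q a b = 0 →
      ∃ c, S.Perp c ∧ Q c = Q a ∧ QuadraticMap.polar ⇑Q a c ≠ 0 ∧
        QuadraticMap.polar ⇑Q b c ≠ 0) :
    ∃ h : ↥(Cfsg.isometryGroup F ⇑Q), h ∈ Subgroup.closure (Rset Q) ∧ S.FixedBy (imat' h) ∧
      imat' h *ᵥ (imat' g *ᵥ a) = a := by
  set b := imat' g *ᵥ a with hb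
  have hbW : S.Perp b := S.perp_of_fixed g hg a ha
  have hQb : Q b = Q a := pres Q g a
  by_cases hab : b = a
  · refine ⟨1, Subgroup.one_mem _, S.fixedBy_one, ?_⟩
    change (1 : Matrix (Fin n) (Fin n) F) *ᵥ b = a
    rw [Matrix.one_mulVec, hab]
  by_cases hB : QuadraticMap.polar ⇑Q b a ≠ 0
  · obtain ⟨r, hr, hrS, hrb, -⟩ := S.exists_move h2 b a hbW ha hQb hB
    exact ⟨r, hr, hrS, hrb⟩
  · push Not at hB
    obtain ⟨c, hcW, hQc, hac, hbc⟩ := star b hbW (fun e => hab e.symm) hQb.symm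
      (by rw [QuadraticMap.polar_comm]; exact hB)
    obtain ⟨r₁, hr₁, hr₁S, hr₁b, -⟩ := S.exists_move h2 b c hbW hcW (hQb.trans hQc.symm) hbc
    obtain ⟨r₂, hr₂, hr₂S, hr₂c, -⟩ := S.exists_move h2 c a hcW ha hQc
      (by rw [QuadraticMap.polar_comm]; exact hac)
    refine ⟨r₂ * r₁, Subgroup.mul_mem _ hr₂ hr₁, S.fixedBy_mul _ _ hr₂S hr₁S, ?_⟩
    change (imat' r₂ * imat' r₁) *ᵥ b = a
    rw [← Matrix.mulVec_mulVec, hr₁b, hr₂c]

/-- **Lemma B.** If `g` fixes `a`, move `g a'` back to `a'` by reflections fixing `a`. -/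
theorem SympFam.lemmaB {j : ℕ} (S : SympFam Q j) (h2 : (2 : F) = 0)
    (g : ↥(Cfsg.isometryGroup F ⇑Q)) (hg : S.FixedBy (imat' g)) (a a' : Fin n → F)
    (ha : S.Perp a) (ha' : S.Perp a') (hQa : Q a ≠ 0)
    (haa' : QuadraticMap.polar ⇑Q a a' = 1) (hga : imat' g *ᵥ a = a) :
    ∃ h : ↥(Cfsg.isometryGroup F ⇑Q), h ∈ Subgroup.closure (Rset Q) ∧ S.FixedBy (imat' h) ∧
      imat' h *ᵥ a = a ∧ imat' h *ᵥ (imat' g *ᵥ a') = a' := by
  set b' := imat' g *ᵥ a' with hb'
  have hb'W : S.Perp b' := S.perp_of_fixed g hg a' ha'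
  have hQb' : Q b' = Q a' := pres Q g a'
  have hab' : QuadraticMap.polar ⇑Q a b' = 1 := by
    have := pres_polar Q g a a'
    rw [hga] at this
    rw [this, haa']
  by_cases hbb : b' = a'
  · refine ⟨1, Subgroup.one_mem _, S.fixedBy_one, ?_, ?_⟩
    · change (1 : Matrix (Fin n) (Fin n) F) *ᵥ a = a
      rw [Matrix.one_mulVec]
    · change (1 : Matrix (Fin n) (Fin n) F) *ᵥ b' = a'
      rw [Matrix.one_mulVec, hbb]
  by_cases hB : QuadraticMap.polar ⇑Q b' a' ≠ 0
  · obtain ⟨r, hr, hrS, hrb, hrfix⟩ := S.exists_move h2 b' a' hb'W ha' hQb' hB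
    refine ⟨r, hr, hrS, hrfix a ?_, hrb⟩
    rw [QuadraticMap.polar_comm ⇑Q b', QuadraticMap.polar_comm ⇑Q a', hab', haa']
  · push Not at hB
    -- the image of `a'` under the reflection in `a`
    set c := a' - (Q a)⁻¹ • a with hc
    have hcW : S.Perp c := S.perp_sub ha' (S.perp_smul ha _)
    have hQc : Q c = Q a' := by
      rw [hc, Q_sub_two h2, QuadraticMap.map_smul, QuadraticMap.polar_smul_right,
        QuadraticMap.polar_comm ⇑Q a' a, haa', smul_eq_mul, smul_eq_mul]
      have : (Q a)⁻¹ * (Q a)⁻¹ * Q a + (Q a)⁻¹ * 1 = 2 * (Q a)⁻¹ := by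
        field_simp
        ring
      rw [add_assoc, this, h2, zero_mul, add_zero]
    have hac : QuadraticMap.polar ⇑Q a c = 1 := by
      rw [hc, QuadraticMap.polar_sub_right, QuadraticMap.polar_smul_right, polar_self_of_two h2,
        haa']
      simp
    have ha'c : QuadraticMap.polar ⇑Q a' c ≠ 0 := by
      rw [hc, QuadraticMap.polar_sub_right, QuadraticMap.polar_smul_right, polar_self_of_two h2,
        QuadraticMap.polar_comm ⇑Q a' a, haa', zero_sub, smul_eq_mul, mul_one]
      exact neg_ne_zero.mpr (inv_ne_zero hQa)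
    have hb'c : QuadraticMap.polar ⇑Q b' c ≠ 0 := by
      rw [hc, QuadraticMap.polar_sub_right, QuadraticMap.polar_smul_right, hB,
        QuadraticMap.polar_comm ⇑Q b' a, hab', zero_sub, smul_eq_mul, mul_one]
      exact neg_ne_zero.mpr (inv_ne_zero hQa)
    obtain ⟨r₁, hr₁, hr₁S, hr₁b, hr₁fix⟩ := S.exists_move h2 b' c hb'W hcW (hQb'.trans hQc.symm) hb'c
    obtain ⟨r₂, hr₂, hr₂S, hr₂c, hr₂fix⟩ := S.exists_move h2 c a' hcW ha' hQc
      (by rw [QuadraticMap.polar_comm]; exact ha'c)
    refine ⟨r₂ * r₁, Subgroup.mul_mem _ hr₂ hr₁, S.fixedBy_mul _ _ hr₂S hr₁S, ?_, ?_⟩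
    · change (imat' r₂ * imat' r₁) *ᵥ a = a
      rw [← Matrix.mulVec_mulVec, hr₁fix a (by
        rw [QuadraticMap.polar_comm ⇑Q b', QuadraticMap.polar_comm ⇑Q c, hab', hac]),
        hr₂fix a (by
        rw [QuadraticMap.polar_comm ⇑Q c, QuadraticMap.polar_comm ⇑Q a', hac, haa'])]
    · change (imat' r₂ * imat' r₁) *ᵥ b' = a'
      rw [← Matrix.mulVec_mulVec, hr₁b, hr₂c]

end moves

section star
variable {F : Type*} [Field F] {n : ℕ} {Q : QuadraticForm F (Fin n → F)}

theorem eq_zero_or_one_of_card_two [Fintype F] (hF : Fintype.card F = 2) (t : F) :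
    t = 0 ∨ t = 1 := by
  classical
  have h : ({0, 1} : Finset F) = Finset.univ := by
    apply Finset.eq_univ_of_card
    rw [Finset.card_pair zero_ne_one, hF]
  have := Finset.mem_univ t
  rw [← h] at this
  simpa using this

theorem exists_ne_zero_one [Fintype F] (hF : 2 < Fintype.card F) : ∃ l : F, l ≠ 0 ∧ l ≠ 1 := by
  classical
  by_contra hcon
  push Not at hcon
  have h : ({0, 1} : Finset F) = Finset.univ := by
    apply Finset.eq_univ_iff_forall.mpr
    intro t
    by_cases ht : t = 0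
    · simp [ht]
    · simp [hcon t ht]
  have h1 := congrArg Finset.card h
  rw [Finset.card_pair zero_ne_one, Finset.card_univ] at h1
  omega

/-- test vectors for two independent vectors of the orthogonal complement -/
theorem SympFam.exists_x12 {j : ℕ} (S : SympFam Q j) (h2 : (2 : F) = 0)
    (hQ : (QuadraticMap.polarBilin Q).Nondegenerate) (a b : Fin n → F) (ha : S.Perp a)
    (hb : S.Perp b) (hab : a ≠ b) (hQab : Q a = Q b) (hQa : Q a ≠ 0) :
    ∃ x₁ x₂, S.Perp x₁ ∧ S.Perp x₂ ∧ QuadraticMap.polar ⇑Q a x₁ = 1 ∧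
      QuadraticMap.polar ⇑Q a x₂ = 0 ∧ QuadraticMap.polar ⇑Q b x₂ = 1 := by
  have ha0 : a ≠ 0 := by
    rintro rfl
    apply hQa
    simp
  obtain ⟨x₁, hx₁, hax₁⟩ := S.exists_partner hQ a ha ha0
  by_cases hex : ∃ x₂, S.Perp x₂ ∧ QuadraticMap.polar ⇑Q a x₂ = 0 ∧ QuadraticMap.polar ⇑Q b x₂ ≠ 0
  · obtain ⟨x₂, hx₂, hax₂, hbx₂⟩ := hex
    refine ⟨x₁, (QuadraticMap.polar ⇑Q b x₂)⁻¹ • x₂, hx₁, S.perp_smul hx₂ _, hax₁, ?_, ?_⟩
    · rw [QuadraticMap.polar_smul_right, hax₂, smul_zero]
    · rw [QuadraticMap.polar_smul_right, smul_eq_mul, inv_mul_cancel₀ hbx₂]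
  · exfalso
    push Not at hex
    set μ := QuadraticMap.polar ⇑Q b x₁ with hμ
    have hkey : ∀ x, S.Perp x → QuadraticMap.polar ⇑Q b x = μ * QuadraticMap.polar ⇑Q a x := by
      intro x hx
      have h1 := hex (x - QuadraticMap.polar ⇑Q a x • x₁) (S.perp_sub hx (S.perp_smul hx₁ _))
        (by rw [QuadraticMap.polar_sub_right, QuadraticMap.polar_smul_right, hax₁]; simp)
      rw [QuadraticMap.polar_sub_right, QuadraticMap.polar_smul_right, ← hμ, smul_eq_mul] at h1
      linear_combination h1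
    have hzero : b - μ • a = 0 := by
      apply hQ.1
      intro y
      change QuadraticMap.polar ⇑Q (b - μ • a) y = 0
      rw [← S.polar_proj (b - μ • a) y (S.perp_sub hb (S.perp_smul ha _)),
        QuadraticMap.polar_sub_left, QuadraticMap.polar_smul_left, hkey _ (S.perp_proj y)]
      simp
    have hbμ : b = μ • a := sub_eq_zero.mp hzero
    have hμ2 : μ * μ = 1 := by
      have := hQab
      rw [hbμ, QuadraticMap.map_smul, smul_eq_mul] at this
      have h3 : (μ * μ - 1) * Q a = 0 := by linear_combination -this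
      rcases mul_eq_zero.mp h3 with h | h
      · linear_combination h
      · exact absurd h hQa
    have hμ1 : μ = 1 := by
      have h3 : (μ - 1) * (μ - 1) = 0 := by linear_combination hμ2 + (1 - μ) * h2
      have := mul_self_eq_zero.mp h3
      linear_combination this
    apply hab
    rw [hbμ, hμ1, one_smul]

/-- the star property over fields with more than two elements -/
theorem SympFam.star_big {j : ℕ} (S : SympFam Q j) (h2 : (2 : F) = 0) [Fintype F]
    (hF : 2 < Fintype.card F)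
    (hQ : (QuadraticMap.polarBilin Q).Nondegenerate) (a b : Fin n → F) (ha : S.Perp a)
    (hb : S.Perp b) (hab : a ≠ b) (hQab : Q a = Q b) (hQa : Q a ≠ 0)
    (hBab : QuadraticMap.polar ⇑Q a b = 0) :
    ∃ c, S.Perp c ∧ Q c = Q a ∧ QuadraticMap.polar ⇑Q a c ≠ 0 ∧
      QuadraticMap.polar ⇑Q b c ≠ 0 := by
  obtain ⟨x₁, x₂, hx₁, hx₂, hax₁, hax₂, hbx₂⟩ := S.exists_x12 h2 hQ a b ha hb hab hQab hQa
  obtain ⟨l, hl0, hl1⟩ := exists_ne_zero_one hF
  set x := x₁ + (l - QuadraticMap.polar ⇑Q b x₁) • x₂ with hx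
  have hxW : S.Perp x := S.perp_add hx₁ (S.perp_smul hx₂ _)
  have hax : QuadraticMap.polar ⇑Q a x = 1 := by
    rw [hx, QuadraticMap.polar_add_right, QuadraticMap.polar_smul_right, hax₁, hax₂]
    simp
  have hbx : QuadraticMap.polar ⇑Q b x = l := by
    rw [hx, QuadraticMap.polar_add_right, QuadraticMap.polar_smul_right, hbx₂]
    simp
  have hl : (1 : F) + l ≠ 0 := by
    intro h
    apply hl1
    linear_combination h - h2
  obtain ⟨t, ht⟩ : ∃ t : F, t * (1 + l) = Q a - Q x := ⟨(Q a - Q x) / (1 + l), by field_simp⟩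
  clear_value x
  refine ⟨x + t • (a + b), S.perp_add hxW (S.perp_smul (S.perp_add ha hb) _), ?_, ?_, ?_⟩
  · rw [Q_add_two, QuadraticMap.map_smul, QuadraticMap.polar_smul_right, Q_add_two a b, ← hQab, hBab,
      QuadraticMap.polar_add_right, QuadraticMap.polar_comm ⇑Q x a, QuadraticMap.polar_comm ⇑Q x b,
      hax, hbx, smul_eq_mul, smul_eq_mul]
    linear_combination ht + t * t * Q a * h2
  · rw [QuadraticMap.polar_add_right, QuadraticMap.polar_smul_right,
      QuadraticMap.polar_add_right Q a a b, polar_self_of_two h2, hBab, hax]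
    simp
  · rw [QuadraticMap.polar_add_right, QuadraticMap.polar_smul_right,
      QuadraticMap.polar_add_right Q b a b, polar_self_of_two h2, QuadraticMap.polar_comm ⇑Q b a,
      hBab, hbx]
    simpa using hl0

/-- the star property is vacuous in dimension two -/
theorem SympFam.star_dim2 {j : ℕ} (S : SympFam Q j) (h2 : (2 : F) = 0)
    (hQ : (QuadraticMap.polarBilin Q).Nondegenerate) (hn : n ≤ 2 * j + 3) (a b : Fin n → F)
    (ha : S.Perp a) (hb : S.Perp b) (hab : a ≠ b) (hQab : Q a = Q b) (hQa : Q a ≠ 0)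
    (hBab : QuadraticMap.polar ⇑Q a b = 0) : False := by
  have ha0 : a ≠ 0 := by
    rintro rfl
    apply hQa
    simp
  obtain ⟨a', ha', haa'⟩ := S.exists_partner hQ a ha ha0
  set S' := S.snoc a a' ha ha' (polar_self_of_two h2 a) (polar_self_of_two h2 a') haa' with hS'
  set μ := QuadraticMap.polar ⇑Q a' b with hμ
  have hz : b - μ • a = 0 := by
    apply S'.eq_zero_of_perp h2 hQ (by omega)
    rw [hS', S.snoc_perp]
    refine ⟨S.perp_sub hb (S.perp_smul ha _), ?_, ?_⟩
    · rw [QuadraticMap.polar_sub_right, QuadraticMap.polar_smul_right, polar_self_of_two h2, hBab]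
      simp
    · rw [QuadraticMap.polar_sub_right, QuadraticMap.polar_smul_right,
        QuadraticMap.polar_comm ⇑Q a' a, haa', ← hμ]
      simp
  have hbμ : b = μ • a := sub_eq_zero.mp hz
  have hμ2 : μ * μ = 1 := by
    have := hQab
    rw [hbμ, QuadraticMap.map_smul, smul_eq_mul] at this
    have h3 : (μ * μ - 1) * Q a = 0 := by linear_combination -this
    rcases mul_eq_zero.mp h3 with h | h
    · linear_combination h
    · exact absurd h hQa
  have hμ1 : μ = 1 := by
    have h3 : (μ - 1) * (μ - 1) = 0 := by linear_combination hμ2 + (1 - μ) * h2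
    have := mul_self_eq_zero.mp h3
    linear_combination this
  apply hab
  rw [hbμ, hμ1, one_smul]

end star

section ftwo
variable {F : Type*} [Field F] [Fintype F] {n : ℕ} {Q : QuadraticForm F (Fin n → F)}

/-- no two distinct non-zero orthogonal singular vectors in the orthogonal complement -/
def SympFam.Good {j : ℕ} (S : SympFam Q j) : Prop :=
  ∀ δ x, S.Perp δ → S.Perp x → δ ≠ 0 → x ≠ 0 → x ≠ δ → Q δ = 0 → Q x = 0 →
    QuadraticMap.polar ⇑Q δ x ≠ 0

/-- a vector having polar form `1` with both `a` and `b` -/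
theorem SympFam.exists_x11 {j : ℕ} (S : SympFam Q j) (h2 : (2 : F) = 0)
    (hQ : (QuadraticMap.polarBilin Q).Nondegenerate) (a b : Fin n → F) (ha : S.Perp a)
    (hb : S.Perp b) (hab : a ≠ b) (hQab : Q a = Q b) (hQa : Q a ≠ 0) :
    ∃ x₁ x₂ x, S.Perp x₁ ∧ S.Perp x₂ ∧ QuadraticMap.polar ⇑Q a x₁ = 1 ∧
      QuadraticMap.polar ⇑Q a x₂ = 0 ∧ QuadraticMap.polar ⇑Q b x₂ = 1 ∧
      x = x₁ + (1 - QuadraticMap.polar ⇑Q b x₁) • x₂ ∧ S.Perp x ∧
      QuadraticMap.polar ⇑Q a x = 1 ∧ QuadraticMap.polar ⇑Q b x = 1 := by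
  obtain ⟨x₁, x₂, hx₁, hx₂, hax₁, hax₂, hbx₂⟩ := S.exists_x12 h2 hQ a b ha hb hab hQab hQa
  refine ⟨x₁, x₂, _, hx₁, hx₂, hax₁, hax₂, hbx₂, rfl, S.perp_add hx₁ (S.perp_smul hx₂ _), ?_, ?_⟩
  · rw [QuadraticMap.polar_add_right, QuadraticMap.polar_smul_right, hax₁, hax₂]
    simp
  · rw [QuadraticMap.polar_add_right, QuadraticMap.polar_smul_right, hbx₂]
    simp

/-- the star property from goodness, over the field of two elements -/
theorem SympFam.star_good {j : ℕ} (S : SympFam Q j) (h2 : (2 : F) = 0)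
    (hF : Fintype.card F = 2) (hgood : S.Good)
    (hQ : (QuadraticMap.polarBilin Q).Nondegenerate) (a b : Fin n → F) (ha : S.Perp a)
    (hb : S.Perp b) (hab : a ≠ b) (hQab : Q a = Q b) (hQa : Q a ≠ 0)
    (hBab : QuadraticMap.polar ⇑Q a b = 0) :
    ∃ c, S.Perp c ∧ Q c = Q a ∧ QuadraticMap.polar ⇑Q a c ≠ 0 ∧
      QuadraticMap.polar ⇑Q b c ≠ 0 := by
  obtain ⟨x₁, x₂, x, -, -, -, -, -, -, hxW, hax, hbx⟩ := S.exists_x11 h2 hQ a b ha hb hab hQab hQa
  by_cases hQx : Q x = Q a
  · exact ⟨x, hxW, hQx, by rw [hax]; exact one_ne_zero, by rw [hbx]; exact one_ne_zero⟩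
  · exfalso
    have hQa1 : Q a = 1 := (eq_zero_or_one_of_card_two hF (Q a)).resolve_left hQa
    have hQx0 : Q x = 0 := by
      rcases eq_zero_or_one_of_card_two hF (Q x) with h | h
      · exact h
      · exact absurd (h.trans hQa1.symm) hQx
    have hx0 : x ≠ 0 := by
      rintro rfl
      rw [QuadraticMap.polar_zero_right] at hax
      exact zero_ne_one hax
    refine hgood (a - b) x (S.perp_sub ha hb) hxW (sub_ne_zero.mpr hab) hx0 ?_ ?_ hQx0 ?_
    · intro h
      rw [h, QuadraticMap.polar_sub_right, polar_self_of_two h2, hBab, sub_zero] at hax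
      exact zero_ne_one hax
    · rw [Q_sub_two h2, ← hQab, hBab, add_zero]
      linear_combination Q a * h2
    · rw [QuadraticMap.polar_sub_left, hax, hbx, sub_self]

/-- the star property in dimension at least six, over the field of two elements -/
theorem SympFam.star_dim6 {j : ℕ} (S : SympFam Q j) (h2 : (2 : F) = 0)
    (hF : Fintype.card F = 2) (hn : 2 * j + 5 ≤ n)
    (hQ : (QuadraticMap.polarBilin Q).Nondegenerate) (a b : Fin n → F) (ha : S.Perp a)
    (hb : S.Perp b) (hab : a ≠ b) (hQab : Q a = Q b) (hQa : Q a ≠ 0)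
    (hBab : QuadraticMap.polar ⇑Q a b = 0) :
    ∃ c, S.Perp c ∧ Q c = Q a ∧ QuadraticMap.polar ⇑Q a c ≠ 0 ∧
      QuadraticMap.polar ⇑Q b c ≠ 0 := by
  obtain ⟨x₁, x₂, x, hx₁, hx₂, hax₁, hax₂, hbx₂, hxdef, hxW, hax, hbx⟩ :=
    S.exists_x11 h2 hQ a b ha hb hab hQab hQa
  by_cases hQx : Q x = Q a
  · exact ⟨x, hxW, hQx, by rw [hax]; exact one_ne_zero, by rw [hbx]; exact one_ne_zero⟩
  · have hQa1 : Q a = 1 := (eq_zero_or_one_of_card_two hF (Q a)).resolve_left hQa
    have hQx0 : Q x = 0 := by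
      rcases eq_zero_or_one_of_card_two hF (Q x) with h | h
      · exact h
      · exact absurd (h.trans hQa1.symm) hQx
    -- two more pairs
    set S₁ := S.snoc a x₁ ha hx₁ (polar_self_of_two h2 a) (polar_self_of_two h2 x₁) hax₁ with hS₁
    set b' := b - QuadraticMap.polar ⇑Q x₁ b • a with hb'
    set x₂' := x₂ - QuadraticMap.polar ⇑Q x₁ x₂ • a with hx₂'
    have hb'W : S₁.Perp b' := by
      rw [hS₁, S.snoc_perp]
      refine ⟨S.perp_sub hb (S.perp_smul ha _), ?_, ?_⟩
      · rw [hb', QuadraticMap.polar_sub_right, QuadraticMap.polar_smul_right, polar_self_of_two h2,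
          hBab]
        simp
      · rw [hb', QuadraticMap.polar_sub_right, QuadraticMap.polar_smul_right,
          QuadraticMap.polar_comm ⇑Q x₁ a, hax₁]
        simp
    have hx₂'W : S₁.Perp x₂' := by
      rw [hS₁, S.snoc_perp]
      refine ⟨S.perp_sub hx₂ (S.perp_smul ha _), ?_, ?_⟩
      · rw [hx₂', QuadraticMap.polar_sub_right, QuadraticMap.polar_smul_right,
          polar_self_of_two h2, hax₂]
        simp
      · rw [hx₂', QuadraticMap.polar_sub_right, QuadraticMap.polar_smul_right,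
          QuadraticMap.polar_comm ⇑Q x₁ a, hax₁]
        simp
    have hb'x₂' : QuadraticMap.polar ⇑Q b' x₂' = 1 := by
      rw [hb', hx₂', QuadraticMap.polar_sub_left, QuadraticMap.polar_sub_right,
        QuadraticMap.polar_sub_right, QuadraticMap.polar_smul_left, QuadraticMap.polar_smul_left,
        QuadraticMap.polar_smul_right, QuadraticMap.polar_smul_right, polar_self_of_two h2, hbx₂,
        hax₂, QuadraticMap.polar_comm ⇑Q b a, hBab]
      simp
    set S₂ := S₁.snoc b' x₂' hb'W hx₂'W (polar_self_of_two h2 b') (polar_self_of_two h2 x₂')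
      hb'x₂' with hS₂
    obtain ⟨y, hyW, hQy⟩ := S₂.exists_nonsingular h2 hQ (by omega)
    rw [hS₂, S₁.snoc_perp, hS₁, S.snoc_perp] at hyW
    obtain ⟨⟨hyS, hay, hx₁y⟩, hb'y, hx₂'y⟩ := hyW
    have hby : QuadraticMap.polar ⇑Q b y = 0 := by
      rw [hb', QuadraticMap.polar_sub_left, QuadraticMap.polar_smul_left, hay] at hb'y
      simpa using hb'y
    have hx₂y : QuadraticMap.polar ⇑Q x₂ y = 0 := by
      rw [hx₂', QuadraticMap.polar_sub_left, QuadraticMap.polar_smul_left, hay] at hx₂'y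
      simpa using hx₂'y
    have hxy : QuadraticMap.polar ⇑Q x y = 0 := by
      rw [hxdef, QuadraticMap.polar_add_left, QuadraticMap.polar_smul_left, hx₁y, hx₂y]
      simp
    have hQy1 : Q y = 1 := (eq_zero_or_one_of_card_two hF (Q y)).resolve_left hQy
    refine ⟨x + y, S.perp_add hxW hyS, ?_, ?_, ?_⟩
    · rw [Q_add_two, hQx0, hQy1, hxy, hQa1]
      simp
    · rw [QuadraticMap.polar_add_right, hax, hay, add_zero]
      exact one_ne_zero
    · rw [QuadraticMap.polar_add_right, hbx, hby, add_zero]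
      exact one_ne_zero

end ftwo

section good
variable {F : Type*} [Field F] [Fintype F] {n : ℕ} {Q : QuadraticForm F (Fin n → F)}

theorem f2_lemma (h2 : (2 : F) = 0) (h01 : ∀ t : F, t = 0 ∨ t = 1)
    (a a' b b' c c' d d' : F)
    (h1 : a * a + a' * a' + a * a' + (b * b + b * b') = 0)
    (h3 : c * c + c' * c' + c * c' + (d * d + d * d') = 0)
    (hne1 : ¬(a = 0 ∧ a' = 0 ∧ b = 0 ∧ b' = 0)) (hne2 : ¬(c = 0 ∧ c' = 0 ∧ d = 0 ∧ d' = 0))
    (hne : ¬(a = c ∧ a' = c' ∧ b = d ∧ b' = d')) :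
    a * c' + a' * c + b * d' + b' * d ≠ 0 := by
  have h11 : (1 : F) + 1 = 0 := by rw [one_add_one_eq_two, h2]
  have h10 : (1 : F) ≠ 0 := one_ne_zero
  rcases h01 a with rfl | rfl <;> rcases h01 a' with rfl | rfl <;> rcases h01 b with rfl | rfl <;>
    rcases h01 b' with rfl | rfl <;> simp [h11] at h1 hne1 <;>
    rcases h01 c with rfl | rfl <;> rcases h01 c' with rfl | rfl <;> rcases h01 d with rfl | rfl <;>
    rcases h01 d' with rfl | rfl <;> simp [h11] at h3 hne2 hne ⊢

/-- a four-dimensional complement that is the sum of an anisotropic and a hyperbolic plane is good -/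
theorem SympFam.good_of_pairs {j : ℕ} (S : SympFam Q j) (h2 : (2 : F) = 0)
    (hF : Fintype.card F = 2) (hQ : (QuadraticMap.polarBilin Q).Nondegenerate)
    (hn : n ≤ 2 * j + 5) (e e' f f' : Fin n → F) (he : S.Perp e) (he' : S.Perp e')
    (hf : S.Perp f) (hf' : S.Perp f') (hee' : QuadraticMap.polar ⇑Q e e' = 1)
    (hff' : QuadraticMap.polar ⇑Q f f' = 1) (hef : QuadraticMap.polar ⇑Q e f = 0)
    (hef' : QuadraticMap.polar ⇑Q e f' = 0) (he'f : QuadraticMap.polar ⇑Q e' f = 0)
    (he'f' : QuadraticMap.polar ⇑Q e' f' = 0) (hQe : Q e = 1) (hQe' : Q e' = 1) (hQf : Q f = 1)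
    (hQf' : Q f' = 0) : S.Good := by
  have hfe : QuadraticMap.polar ⇑Q f e = 0 := by rw [QuadraticMap.polar_comm]; exact hef
  have hfe' : QuadraticMap.polar ⇑Q f e' = 0 := by rw [QuadraticMap.polar_comm]; exact he'f
  have hf'e : QuadraticMap.polar ⇑Q f' e = 0 := by rw [QuadraticMap.polar_comm]; exact hef'
  have hf'e' : QuadraticMap.polar ⇑Q f' e' = 0 := by rw [QuadraticMap.polar_comm]; exact he'f'
  have he'e : QuadraticMap.polar ⇑Q e' e = 1 := by rw [QuadraticMap.polar_comm]; exact hee'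
  have hf'f : QuadraticMap.polar ⇑Q f' f = 1 := by rw [QuadraticMap.polar_comm]; exact hff'
  set S₁ := S.snoc e e' he he' (polar_self_of_two h2 e) (polar_self_of_two h2 e') hee' with hS₁
  have hfW : S₁.Perp f := by rw [hS₁, S.snoc_perp]; exact ⟨hf, hef, he'f⟩
  have hf'W : S₁.Perp f' := by rw [hS₁, S.snoc_perp]; exact ⟨hf', hef', he'f'⟩
  set S₂ := S₁.snoc f f' hfW hf'W (polar_self_of_two h2 f) (polar_self_of_two h2 f') hff' with hS₂
  -- decomposition
  have hdec : ∀ z, S.Perp z → z = QuadraticMap.polar ⇑Q e' z • e + QuadraticMap.polar ⇑Q e z • e' +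
      QuadraticMap.polar ⇑Q f' z • f + QuadraticMap.polar ⇑Q f z • f' := by
    intro z hz
    have : z - (QuadraticMap.polar ⇑Q e' z • e + QuadraticMap.polar ⇑Q e z • e' +
      QuadraticMap.polar ⇑Q f' z • f + QuadraticMap.polar ⇑Q f z • f') = 0 := by
      apply S₂.eq_zero_of_perp h2 hQ (by omega)
      rw [hS₂, S₁.snoc_perp, hS₁, S.snoc_perp]
      refine ⟨⟨S.perp_sub hz (S.perp_add (S.perp_add (S.perp_add (S.perp_smul he _)
        (S.perp_smul he' _)) (S.perp_smul hf _)) (S.perp_smul hf' _)), ?_, ?_⟩, ?_, ?_⟩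
      · simp only [QuadraticMap.polar_sub_right, QuadraticMap.polar_add_right,
          QuadraticMap.polar_smul_right, polar_self_of_two h2, hee', hef, hef', smul_eq_mul]
        ring
      · simp only [QuadraticMap.polar_sub_right, QuadraticMap.polar_add_right,
          QuadraticMap.polar_smul_right, polar_self_of_two h2, he'e, he'f, he'f', smul_eq_mul]
        ring
      · simp only [QuadraticMap.polar_sub_right, QuadraticMap.polar_add_right,
          QuadraticMap.polar_smul_right, polar_self_of_two h2, hff', hfe, hfe', smul_eq_mul]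
        ring
      · simp only [QuadraticMap.polar_sub_right, QuadraticMap.polar_add_right,
          QuadraticMap.polar_smul_right, polar_self_of_two h2, hf'f, hf'e, hf'e', smul_eq_mul]
        ring
    exact sub_eq_zero.mp this
  have hQcomb : ∀ a a' b b' : F, Q (a • e + a' • e' + b • f + b' • f') =
      a * a + a' * a' + a * a' + (b * b + b * b') := by
    intro a a' b b'
    simp only [Q_add_two, QuadraticMap.map_smul, QuadraticMap.polar_add_left,
      QuadraticMap.polar_smul_left, QuadraticMap.polar_smul_right, hQe, hQe', hQf, hQf', hee', hff',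
      hef, hef', he'f, he'f', smul_eq_mul]
    ring
  have hBcomb : ∀ a a' b b' c c' d d' : F, QuadraticMap.polar ⇑Q (a • e + a' • e' + b • f + b' • f')
      (c • e + c' • e' + d • f + d' • f') = a * c' + a' * c + b * d' + b' * d := by
    intro a a' b b' c c' d d'
    simp only [QuadraticMap.polar_add_left, QuadraticMap.polar_add_right,
      QuadraticMap.polar_smul_left, QuadraticMap.polar_smul_right, polar_self_of_two h2, hee', hff',
      hef, hef', he'f, he'f', hfe, hfe', hf'e, hf'e', he'e, hf'f, smul_eq_mul]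
    ring
  intro δ x hδ hx hδ0 hx0 hxδ hQδ hQx
  have e1 := hdec δ hδ
  have e2 := hdec x hx
  rw [e1, e2, hBcomb]
  rw [e1, hQcomb] at hQδ
  rw [e2, hQcomb] at hQx
  apply f2_lemma h2 (eq_zero_or_one_of_card_two hF) _ _ _ _ _ _ _ _ hQδ hQx
  · rintro ⟨h1, h3, h4, h5⟩
    apply hδ0
    rw [e1, h1, h3, h4, h5]
    simp
  · rintro ⟨h1, h3, h4, h5⟩
    apply hx0
    rw [e2, h1, h3, h4, h5]
    simp
  · rintro ⟨h1, h3, h4, h5⟩
    apply hxδ
    rw [e1, e2, h1, h3, h4, h5]

end good

section goodpair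
variable {F : Type*} [Field F] [Fintype F] {n : ℕ} {Q : QuadraticForm F (Fin n → F)}

/-- three mutually orthogonal pairs, the last two of different types -/
theorem SympFam.good_config {j : ℕ} (S : SympFam Q j) (h2 : (2 : F) = 0)
    (hF : Fintype.card F = 2) (hQ : (QuadraticMap.polarBilin Q).Nondegenerate)
    (hn : n ≤ 2 * j + 7) (c c' e e' f f' : Fin n → F) (hc : S.Perp c) (hc' : S.Perp c')
    (he : S.Perp e) (he' : S.Perp e') (hf : S.Perp f) (hf' : S.Perp f')
    (hcc' : QuadraticMap.polar ⇑Q c c' = 1) (hee' : QuadraticMap.polar ⇑Q e e' = 1)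
    (hff' : QuadraticMap.polar ⇑Q f f' = 1)
    (hce : QuadraticMap.polar ⇑Q c e = 0) (hce' : QuadraticMap.polar ⇑Q c e' = 0)
    (hc'e : QuadraticMap.polar ⇑Q c' e = 0) (hc'e' : QuadraticMap.polar ⇑Q c' e' = 0)
    (hcf : QuadraticMap.polar ⇑Q c f = 0) (hcf' : QuadraticMap.polar ⇑Q c f' = 0)
    (hc'f : QuadraticMap.polar ⇑Q c' f = 0) (hc'f' : QuadraticMap.polar ⇑Q c' f' = 0)
    (hef : QuadraticMap.polar ⇑Q e f = 0) (hef' : QuadraticMap.polar ⇑Q e f' = 0)
    (he'f : QuadraticMap.polar ⇑Q e' f = 0) (he'f' : QuadraticMap.polar ⇑Q e' f' = 0)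
    (hQe : Q e = 1) (hQf : Q f = 1) (hne : Q e' ≠ Q f') :
    (S.snoc c c' hc hc' (polar_self_of_two h2 c) (polar_self_of_two h2 c') hcc').Good := by
  set S' := S.snoc c c' hc hc' (polar_self_of_two h2 c) (polar_self_of_two h2 c') hcc' with hS'
  have heW : S'.Perp e := by rw [hS', S.snoc_perp]; exact ⟨he, hce, hc'e⟩
  have he'W : S'.Perp e' := by rw [hS', S.snoc_perp]; exact ⟨he', hce', hc'e'⟩
  have hfW : S'.Perp f := by rw [hS', S.snoc_perp]; exact ⟨hf, hcf, hc'f⟩
  have hf'W : S'.Perp f' := by rw [hS', S.snoc_perp]; exact ⟨hf', hcf', hc'f'⟩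
  rcases eq_zero_or_one_of_card_two hF (Q e') with h0 | h1
  · have hQf' : Q f' = 1 := by
      rcases eq_zero_or_one_of_card_two hF (Q f') with h | h
      · exact absurd (h0.trans h.symm) hne
      · exact h
    exact S'.good_of_pairs h2 hF hQ (by omega) f f' e e' hfW hf'W heW he'W hff' hee'
      (by rw [QuadraticMap.polar_comm]; exact hef) (by rw [QuadraticMap.polar_comm]; exact he'f)
      (by rw [QuadraticMap.polar_comm]; exact hef') (by rw [QuadraticMap.polar_comm]; exact he'f')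
      hQf hQf' hQe h0
  · have hQf' : Q f' = 0 := by
      rcases eq_zero_or_one_of_card_two hF (Q f') with h | h
      · exact h
      · exact absurd (h1.trans h.symm) hne
    exact S'.good_of_pairs h2 hF hQ (by omega) e e' f f' heW he'W hfW hf'W hee' hff' hef hef' he'f
      he'f' hQe h1 hQf hQf'

/-- in dimension six over the field of two elements there is a pair with good complement -/
theorem SympFam.exists_good_pair {j : ℕ} (S : SympFam Q j) (h2 : (2 : F) = 0)
    (hF : Fintype.card F = 2) (hQ : (QuadraticMap.polarBilin Q).Nondegenerate)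
    (hn : n = 2 * j + 6) :
    ∃ (c c' : Fin n → F) (hc : S.Perp c) (hc' : S.Perp c')
      (hcc' : QuadraticMap.polar ⇑Q c c' = 1), Q c ≠ 0 ∧
      (S.snoc c c' hc hc' (polar_self_of_two h2 c) (polar_self_of_two h2 c') hcc').Good := by
  have nz : ∀ x : Fin n → F, Q x ≠ 0 → x ≠ 0 := by
    rintro x hx rfl
    apply hx
    simp
  have one : ∀ x : Fin n → F, Q x ≠ 0 → Q x = 1 := fun x hx =>
    (eq_zero_or_one_of_card_two hF (Q x)).resolve_left hx
  obtain ⟨p₁, hp₁, hQp₁⟩ := S.exists_nonsingular h2 hQ (by omega)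
  obtain ⟨p₁', hp₁', h11⟩ := S.exists_partner hQ p₁ hp₁ (nz p₁ hQp₁)
  set S₁ := S.snoc p₁ p₁' hp₁ hp₁' (polar_self_of_two h2 p₁) (polar_self_of_two h2 p₁') h11 with hS₁
  obtain ⟨p₂, hp₂, hQp₂⟩ := S₁.exists_nonsingular h2 hQ (by omega)
  obtain ⟨p₂', hp₂', h22⟩ := S₁.exists_partner hQ p₂ hp₂ (nz p₂ hQp₂)
  set S₂ := S₁.snoc p₂ p₂' hp₂ hp₂' (polar_self_of_two h2 p₂) (polar_self_of_two h2 p₂') h22 with hS₂
  obtain ⟨p₃, hp₃, hQp₃⟩ := S₂.exists_nonsingular h2 hQ (by omega)
  obtain ⟨p₃', hp₃', h33⟩ := S₂.exists_partner hQ p₃ hp₃ (nz p₃ hQp₃)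
  rw [hS₂, S₁.snoc_perp, hS₁, S.snoc_perp] at hp₃ hp₃'
  rw [hS₁, S.snoc_perp] at hp₂ hp₂'
  obtain ⟨⟨hp₃S, h13, h1'3⟩, h23, h2'3⟩ := hp₃
  obtain ⟨⟨hp₃'S, h13', h1'3'⟩, h23', h2'3'⟩ := hp₃'
  obtain ⟨hp₂S, h12, h1'2⟩ := hp₂
  obtain ⟨hp₂'S, h12', h1'2'⟩ := hp₂'
  have hQ1 := one p₁ hQp₁
  have hQ2 := one p₂ hQp₂
  have hQ3 := one p₃ hQp₃
  have sym : ∀ x y : Fin n → F, QuadraticMap.polar ⇑Q x y = 0 → QuadraticMap.polar ⇑Q y x = 0 := by
    intro x y h
    rw [QuadraticMap.polar_comm]; exact h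
  by_cases h23ne : Q p₂' ≠ Q p₃'
  · exact ⟨p₁, p₁', hp₁, hp₁', h11, hQp₁, S.good_config h2 hF hQ (by omega) p₁ p₁' p₂ p₂' p₃ p₃'
      hp₁ hp₁' hp₂S hp₂'S hp₃S hp₃'S h11 h22 h33 h12 h12' h1'2 h1'2' h13 h13' h1'3 h1'3' h23 h23'
      h2'3 h2'3' hQ2 hQ3 h23ne⟩
  push Not at h23ne
  by_cases h12ne : Q p₁' ≠ Q p₂'
  · exact ⟨p₃, p₃', hp₃S, hp₃'S, h33, hQp₃, S.good_config h2 hF hQ (by omega) p₃ p₃' p₁ p₁' p₂ p₂'
      hp₃S hp₃'S hp₁ hp₁' hp₂S hp₂'S h33 h11 h22 (sym _ _ h13) (sym _ _ h1'3) (sym _ _ h13')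
      (sym _ _ h1'3') (sym _ _ h23) (sym _ _ h2'3) (sym _ _ h23') (sym _ _ h2'3') h12 h12' h1'2
      h1'2' hQ1 hQ2 h12ne⟩
  push Not at h12ne
  -- all three planes of the same type: re-pair the last two
  have h3c : QuadraticMap.polar ⇑Q p₃ (p₃' + p₂) = 1 := by
    rw [QuadraticMap.polar_add_right, h33, sym _ _ h23, add_zero]
  refine ⟨p₃, p₃' + p₂, hp₃S, S.perp_add hp₃'S hp₂S, h3c, hQp₃, ?_⟩
  apply S.good_config h2 hF hQ (by omega) p₃ (p₃' + p₂) p₁ p₁' p₂ (p₂' + p₃) hp₃S
    (S.perp_add hp₃'S hp₂S) hp₁ hp₁' hp₂S (S.perp_add hp₂'S hp₃S) h3c h11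
  · rw [QuadraticMap.polar_add_right, h22, h23, add_zero]
  · exact sym _ _ h13
  · exact sym _ _ h1'3
  · rw [QuadraticMap.polar_add_left, sym _ _ h13', sym _ _ h12, add_zero]
  · rw [QuadraticMap.polar_add_left, sym _ _ h1'3', sym _ _ h1'2, add_zero]
  · exact sym _ _ h23
  · rw [QuadraticMap.polar_add_right, sym _ _ h2'3, polar_self_of_two h2, add_zero]
  · rw [QuadraticMap.polar_add_left, sym _ _ h23', polar_self_of_two h2, add_zero]
  · rw [QuadraticMap.polar_add_left, QuadraticMap.polar_add_right, QuadraticMap.polar_add_right,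
      sym _ _ h2'3', QuadraticMap.polar_comm ⇑Q p₃' p₃, h33, h22, h23]
    linear_combination h2
  · exact h12
  · rw [QuadraticMap.polar_add_right, h12', h13, add_zero]
  · exact h1'2
  · rw [QuadraticMap.polar_add_right, h1'2', h1'3, add_zero]
  · exact hQ1
  · exact hQ2
  · rw [Q_add_two, hQ3, h2'3, add_zero, h12ne]
    intro h
    have : (1 : F) = 0 := by linear_combination -h
    exact one_ne_zero this

end goodpair

section main
variable {F : Type*} [Field F] [Fintype F] {n : ℕ} {Q : QuadraticForm F (Fin n → F)}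

omit [Fintype F] in
theorem SympFam.snoc_fixedBy {j : ℕ} (S : SympFam Q j) (a a' : Fin n → F) (ha : S.Perp a)
    (ha' : S.Perp a') (haa : QuadraticMap.polar ⇑Q a a = 0)
    (ha'a' : QuadraticMap.polar ⇑Q a' a' = 0)
    (haa' : QuadraticMap.polar ⇑Q a a' = 1) (M : Matrix (Fin n) (Fin n) F)
    (hM : S.FixedBy M) (hMa : M *ᵥ a = a) (hMa' : M *ᵥ a' = a') :
    (S.snoc a a' ha ha' haa ha'a' haa').FixedBy M := by
  intro i
  change M *ᵥ ((Fin.snoc S.u a : Fin (j + 1) → _) i) = (Fin.snoc S.u a : Fin (j + 1) → _) i ∧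
    M *ᵥ ((Fin.snoc S.w a' : Fin (j + 1) → _) i) = (Fin.snoc S.w a' : Fin (j + 1) → _) i
  induction i using Fin.lastCases with
  | last => rw [Fin.snoc_last, Fin.snoc_last]; exact ⟨hMa, hMa'⟩
  | cast i => rw [Fin.snoc_castSucc, Fin.snoc_castSucc]; exact hM i

/-- **Cartan–Dieudonné in characteristic two**, inductive form. -/
theorem cd_two_aux (h2 : (2 : F) = 0) (hQ : (QuadraticMap.polarBilin Q).Nondegenerate) :
    ∀ (d j : ℕ) (S : SympFam Q j), 2 * j + d = n → (Fintype.card F = 2 → d = 4 → S.Good) →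
      ∀ g : ↥(Cfsg.isometryGroup F ⇑Q), S.FixedBy (imat' g) →
        g ∈ Subgroup.closure (Rset Q) := by
  intro d
  induction d using Nat.strong_induction_on with
  | _ d ih =>
    intro j S hjd hgood g hg
    rcases Nat.eq_zero_or_pos d with hd0 | hdpos
    · -- the family spans
      have hone : g = 1 := by
        apply Subtype.ext
        apply Units.ext
        change imat' g = 1
        apply matrix_ext_mulVec
        intro x
        rw [Matrix.one_mulVec]
        have hp : S.proj x = 0 := S.eq_zero_of_perp h2 hQ (by omega) _ (S.perp_proj x)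
        have hx : x = ∑ i, (QuadraticMap.polar ⇑Q (S.w i) x • S.u i +
            QuadraticMap.polar ⇑Q (S.u i) x • S.w i) := by
          unfold SympFam.proj at hp
          exact sub_eq_zero.mp hp
        rw [hx, Matrix.mulVec_sum]
        apply Finset.sum_congr rfl
        intro i _
        rw [Matrix.mulVec_add, Matrix.mulVec_smul, Matrix.mulVec_smul, (hg i).1, (hg i).2]
      rw [hone]
      exact Subgroup.one_mem _
    · -- the star property of the orthogonal complement
      have star : ∀ a b, S.Perp a → S.Perp b → a ≠ b → Q a = Q b → Q a ≠ 0 →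
          QuadraticMap.polar ⇑Q a b = 0 →
          ∃ c, S.Perp c ∧ Q c = Q a ∧ QuadraticMap.polar ⇑Q a c ≠ 0 ∧
            QuadraticMap.polar ⇑Q b c ≠ 0 := by
        intro a b ha hb hab hQab hQa hBab
        by_cases hF : Fintype.card F = 2
        · by_cases hd5 : 5 ≤ d
          · exact S.star_dim6 h2 hF (by omega) hQ a b ha hb hab hQab hQa hBab
          · by_cases hd4 : d = 4
            · exact S.star_good h2 hF (hgood hF hd4) hQ a b ha hb hab hQab hQa hBab
            · exact (S.star_dim2 h2 hQ (by omega) a b ha hb hab hQab hQa hBab).elim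
        · have : 2 < Fintype.card F := by
            have := Fintype.one_lt_card (α := F)
            omega
          exact S.star_big h2 this hQ a b ha hb hab hQab hQa hBab
      -- the next pair
      obtain ⟨a, a', ha, ha', haa', hQa, hgood'⟩ : ∃ (a a' : Fin n → F) (ha : S.Perp a)
          (ha' : S.Perp a') (haa' : QuadraticMap.polar ⇑Q a a' = 1), Q a ≠ 0 ∧
          (Fintype.card F = 2 → d - 2 = 4 →
            (S.snoc a a' ha ha' (polar_self_of_two h2 a) (polar_self_of_two h2 a') haa').Good) := by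
        by_cases hF : Fintype.card F = 2 ∧ d = 6
        · obtain ⟨c, c', hc, hc', hcc', hQc, hG⟩ := S.exists_good_pair h2 hF.1 hQ (by omega)
          exact ⟨c, c', hc, hc', hcc', hQc, fun _ _ => hG⟩
        · obtain ⟨a, ha, hQa⟩ := S.exists_nonsingular h2 hQ (by omega)
          have ha0 : a ≠ 0 := by
            rintro rfl
            apply hQa
            simp
          obtain ⟨a', ha', haa'⟩ := S.exists_partner hQ a ha ha0
          refine ⟨a, a', ha, ha', haa', hQa, fun h1 h3 => ?_⟩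
          exfalso
          apply hF
          exact ⟨h1, by omega⟩
      set S' := S.snoc a a' ha ha' (polar_self_of_two h2 a) (polar_self_of_two h2 a') haa' with hS'
      have hcard := S'.card_le
      -- Lemma A
      obtain ⟨h₁, hh₁, hh₁S, hh₁a⟩ := S.lemmaA h2 g hg a ha
        (fun b hb hab hQab hBab => star a b ha hb hab hQab hQa hBab)
      have hg₁S : S.FixedBy (imat' (h₁ * g)) := S.fixedBy_mul _ _ hh₁S hg
      have hg₁a : imat' (h₁ * g) *ᵥ a = a := by
        change (imat' h₁ * imat' g) *ᵥ a = a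
        rw [← Matrix.mulVec_mulVec, hh₁a]
      -- Lemma B
      obtain ⟨h₂, hh₂, hh₂S, hh₂a, hh₂a'⟩ := S.lemmaB h2 (h₁ * g) hg₁S a a' ha ha' hQa haa' hg₁a
      have hg₂S : S'.FixedBy (imat' (h₂ * (h₁ * g))) := by
        apply S.snoc_fixedBy
        · exact S.fixedBy_mul _ _ hh₂S hg₁S
        · change (imat' h₂ * imat' (h₁ * g)) *ᵥ a = a
          rw [← Matrix.mulVec_mulVec, hg₁a, hh₂a]
        · change (imat' h₂ * imat' (h₁ * g)) *ᵥ a' = a'
          rw [← Matrix.mulVec_mulVec, hh₂a']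
      have hmem := ih (d - 2) (by omega) (j + 1) S' (by omega) hgood' (h₂ * (h₁ * g)) hg₂S
      have : g = h₁⁻¹ * (h₂⁻¹ * (h₂ * (h₁ * g))) := by group
      rw [this]
      exact Subgroup.mul_mem _ (Subgroup.inv_mem _ hh₁)
        (Subgroup.mul_mem _ (Subgroup.inv_mem _ hh₂) hmem)

/-- **Cartan–Dieudonné in characteristic two**: the isometry group is generated by reflections, except
in dimension four over the field of two elements. -/
theorem cd_two (h2 : (2 : F) = 0) (hQ : (QuadraticMap.polarBilin Q).Nondegenerate)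
    (h : Fintype.card F ≠ 2 ∨ n ≠ 4) : Subgroup.closure (Rset Q) = ⊤ := by
  rw [eq_top_iff]
  intro g _
  let S₀ : SympFam Q 0 :=
    { u := Fin.elim0
      w := Fin.elim0
      huu := fun i => i.elim0
      hww := fun i => i.elim0
      huw := fun i => i.elim0 }
  apply cd_two_aux h2 hQ n 0 S₀ (by omega)
  · intro h1 h3
    rcases h with h | h
    · exact absurd h1 h
    · exact absurd h3 h
  · intro i
    exact i.elim0

end main

end Cfsg.Agent.Lib.Helper6
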