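import Mathlib

/-!
# Counting the subgroups of index two of a group with abelianisation `2²`
-/

set_option autoImplicit false

namespace Cfsg.Agent.Lib.Helper6

/-- the character of a subgroup of index two -/
noncomputable def indexTwoChar {G : Type*} [Group G] (H : Subgroup G) (hH : H.index = 2) :
    G →* ℤˣ := by
  classical
  exact
  { toFun := fun g => if g ∈ H then 1 else -1
    map_one' := by simp [H.one_mem]
    map_mul' := by
      intro x y
      have := Subgroup.mul_mem_iff_of_index_two hH (a := x) (b := y)
      by_cases hx : x ∈ H <;> by_cases hy : y ∈ H <;> simp [hx, hy, this] }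

theorem indexTwoChar_eq_one_iff {G : Type*} [Group G] (H : Subgroup G) (hH : H.index = 2) (g : G) :
    indexTwoChar H hH g = 1 ↔ g ∈ H := by
  classical
  change (if g ∈ H then (1 : ℤˣ) else -1) = 1 ↔ _
  by_cases h : g ∈ H
  · simp [h]
  · simp only [h, if_false, iff_false]
    decide

theorem index_ker_of_surj {G : Type*} [Group G] (χ : G →* ℤˣ) (x : G) (hx : χ x = -1) :
    χ.ker.index = 2 := by
  have hsurj : Function.Surjective χ := by
    intro y
    rcases Int.units_eq_one_or y with rfl | rfl
    · exact ⟨1, map_one χ⟩
    · exact ⟨x, hx⟩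
  rw [Subgroup.index_ker, MonoidHom.range_eq_top.mpr hsurj, Subgroup.card_top]
  simp

/-- A group with homomorphisms `d θ` to `±1`, elements `a`, `b` with `(d, θ) = (-1, 1)`, `(-1, -1)`
and commutator subgroup `ker d ∩ ker θ` has exactly three subgroups of index two. -/
theorem card_index_two_eq_three {G : Type*} [Group G] (d θ : G →* ℤˣ) (a b : G)
    (hda : d a = -1) (hθa : θ a = 1) (hdb : d b = -1) (hθb : θ b = -1)
    (hΩ : ∀ g, d g = 1 → θ g = 1 → g ∈ commutator G) :
    Nat.card {H : Subgroup G // H.index = 2} = 3 := by
  classical
  change Set.ncard {H : Subgroup G | H.index = 2} = 3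
  rw [Set.ncard_eq_three]
  have h3a : (d * θ) a = -1 := by rw [MonoidHom.mul_apply, hda, hθa]; rfl
  have h3b : (d * θ) b = 1 := by rw [MonoidHom.mul_apply, hdb, hθb]; rfl
  have hne : (-1 : ℤˣ) ≠ 1 := by decide
  refine ⟨d.ker, θ.ker, (d * θ).ker, ?_, ?_, ?_, ?_⟩
  · intro h
    have : a ∈ θ.ker := hθa
    rw [← h, MonoidHom.mem_ker, hda] at this
    exact hne this
  · intro h
    have : b ∈ (d * θ).ker := h3b
    rw [← h, MonoidHom.mem_ker, hdb] at this
    exact hne this
  · intro h
    have : a ∈ θ.ker := hθa
    rw [h, MonoidHom.mem_ker, h3a] at this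
    exact hne this
  · ext H
    simp only [Set.mem_setOf_eq, Set.mem_insert_iff, Set.mem_singleton_iff]
    constructor
    · intro hH
      set χ := indexTwoChar H hH with hχ
      have hmem : ∀ g, g ∈ H ↔ χ g = 1 := fun g => (indexTwoChar_eq_one_iff H hH g).symm
      have hcomm : ∀ g, g ∈ commutator G → χ g = 1 := fun g hg =>
        Abelianization.commutator_subset_ker χ hg
      have hsq : ∀ x : ℤˣ, x * x = 1 := by decide
      have key : ∀ g, χ g = if d g = 1 then (if θ g = 1 then 1 else χ a * χ b)
          else (if θ g = 1 then χ a else χ b) := by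
        intro g
        rcases Int.units_eq_one_or (d g) with h1 | h1 <;>
          rcases Int.units_eq_one_or (θ g) with h2 | h2
        · rw [if_pos h1, if_pos h2]
          exact hcomm g (hΩ g h1 h2)
        · rw [if_pos h1, if_neg (by rw [h2]; exact hne)]
          have := hcomm (g * a * b) (hΩ _ (by rw [map_mul, map_mul, h1, hda, hdb]; rfl)
            (by rw [map_mul, map_mul, h2, hθa, hθb]; rfl))
          rw [map_mul, map_mul, mul_assoc] at this
          calc χ g = χ g * ((χ a * χ b) * (χ a * χ b)) := by rw [hsq, mul_one]
            _ = (χ g * (χ a * χ b)) * (χ a * χ b) := by rw [← mul_assoc (χ g)]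
            _ = χ a * χ b := by rw [this, one_mul]
        · rw [if_neg (by rw [h1]; exact hne), if_pos h2]
          have := hcomm (g * a) (hΩ _ (by rw [map_mul, h1, hda]; rfl)
            (by rw [map_mul, h2, hθa]; rfl))
          rw [map_mul] at this
          calc χ g = χ g * (χ a * χ a) := by rw [hsq, mul_one]
            _ = (χ g * χ a) * χ a := by rw [mul_assoc]
            _ = χ a := by rw [this, one_mul]
        · rw [if_neg (by rw [h1]; exact hne), if_neg (by rw [h2]; exact hne)]
          have := hcomm (g * b) (hΩ _ (by rw [map_mul, h1, hdb]; rfl)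
            (by rw [map_mul, h2, hθb]; rfl))
          rw [map_mul] at this
          calc χ g = χ g * (χ b * χ b) := by rw [hsq, mul_one]
            _ = (χ g * χ b) * χ b := by rw [mul_assoc]
            _ = χ b := by rw [this, one_mul]
      rcases Int.units_eq_one_or (χ a) with ha | ha <;>
        rcases Int.units_eq_one_or (χ b) with hb | hb
      · exfalso
        have htop : H = ⊤ := by
          rw [eq_top_iff]
          intro g _
          rw [hmem, key g, ha, hb]
          simp
        rw [htop, Subgroup.index_top] at hH
        omega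
      · right; left
        ext g
        rw [hmem, MonoidHom.mem_ker, key g, ha, hb]
        rcases Int.units_eq_one_or (d g) with h1 | h1 <;>
          rcases Int.units_eq_one_or (θ g) with h2 | h2 <;> simp [h1, h2]
      · right; right
        ext g
        rw [hmem, MonoidHom.mem_ker, MonoidHom.mul_apply, key g, ha, hb]
        rcases Int.units_eq_one_or (d g) with h1 | h1 <;>
          rcases Int.units_eq_one_or (θ g) with h2 | h2 <;> simp [h1, h2]
      · left
        ext g
        rw [hmem, MonoidHom.mem_ker, key g, ha, hb]
        rcases Int.units_eq_one_or (d g) with h1 | h1 <;>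
          rcases Int.units_eq_one_or (θ g) with h2 | h2 <;> simp [h1, h2]
    · rintro (rfl | rfl | rfl)
      · exact index_ker_of_surj d a hda
      · exact index_ker_of_surj θ b hθb
      · exact index_ker_of_surj (d * θ) a h3a

end Cfsg.Agent.Lib.Helper6
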