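-- Dickson invariant: the parity of the dimension of the fixed space of an isometry
import Mathlib
import Cfsg.Agent.S0786
import Cfsg.Agent.Lib.Helper6.Spinor
import Cfsg.Agent.Lib.Helper6.IndexTwo

set_option autoImplicit false
open Cfsg

namespace Cfsg.Agent.Lib.Helper6

open Matrix Cfsg.Agent.S0792

section general

theorem finrank_inf_ker_add_one {F : Type*} [Field F] {V : Type*} [AddCommGroup V] [Module F V]
    [FiniteDimensional F V] (P : Submodule F V) (φ : V →ₗ[F] F) (y : V) (hy : y ∈ P)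
    (hφ : φ y ≠ 0) :
    Module.finrank F ↥(P ⊓ LinearMap.ker φ) + 1 = Module.finrank F ↥P := by
  have hne : (φ.domRestrict P : Module.Dual F ↥P) ≠ 0 := by
    intro h
    apply hφ
    have := LinearMap.congr_fun h ⟨y, hy⟩
    simpa using this
  have h1 := Module.Dual.finrank_ker_add_one_of_ne_zero hne
  rw [← h1, LinearMap.ker_domRestrict]
  congr 1
  have : Submodule.comap P.subtype (LinearMap.ker φ) =
      Submodule.comap P.subtype (P ⊓ LinearMap.ker φ) := by
    ext x
    simp
  rw [this]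
  exact (Submodule.comapSubtypeEquivOfLe (inf_le_left)).finrank_eq.symm

theorem finrank_inf_ker_of_le {F : Type*} [Field F] {V : Type*} [AddCommGroup V] [Module F V]
    (P : Submodule F V) (φ : V →ₗ[F] F) (h : P ≤ LinearMap.ker φ) :
    Module.finrank F ↥(P ⊓ LinearMap.ker φ) = Module.finrank F ↥P := by
  rw [inf_eq_left.mpr h]

end general

section fix
variable {F : Type*} [Field F] {n : ℕ} (Q : QuadraticForm F (Fin n → F))

/-- the fixed space of a matrix -/
def fixSp (M : Matrix (Fin n) (Fin n) F) : Submodule F (Fin n → F) :=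
  LinearMap.ker (M.mulVecLin - LinearMap.id)

theorem mem_fixSp (M : Matrix (Fin n) (Fin n) F) (x : Fin n → F) : x ∈ fixSp M ↔ M *ᵥ x = x := by
  unfold fixSp
  rw [LinearMap.mem_ker, LinearMap.sub_apply, Matrix.mulVecLin_apply, LinearMap.id_apply,
    sub_eq_zero]

/-- the functional `x ↦ Q(v)⁻¹ B(v, g x)` -/
def flipFun (g : ↥(Cfsg.isometryGroup F ⇑Q)) (v : Fin n → F) : (Fin n → F) →ₗ[F] F :=
  (Q v)⁻¹ • ((QuadraticMap.polarBilin Q v) ∘ₗ (imat Q g).mulVecLin)

theorem flipFun_apply (g : ↥(Cfsg.isometryGroup F ⇑Q)) (v x : Fin n → F) :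
    flipFun Q g v x = (Q v)⁻¹ * QuadraticMap.polar ⇑Q v (imat Q g *ᵥ x) := rfl

theorem refl_mul_mulVec (g : ↥(Cfsg.isometryGroup F ⇑Q)) (v x : Fin n → F) :
    (Cfsg.reflectionMatrix ⇑Q v * imat Q g) *ᵥ x = imat Q g *ᵥ x - flipFun Q g v x • v := by
  rw [← Matrix.mulVec_mulVec, reflectionMatrix_mulVec, flipFun_apply]

/-- on the kernel of the functional the two fixed spaces agree -/
theorem fixSp_inf_ker (g : ↥(Cfsg.isometryGroup F ⇑Q)) (v : Fin n → F) :
    fixSp (imat Q g) ⊓ LinearMap.ker (flipFun Q g v) =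
      fixSp (Cfsg.reflectionMatrix ⇑Q v * imat Q g) ⊓ LinearMap.ker (flipFun Q g v) := by
  ext x
  rw [Submodule.mem_inf, Submodule.mem_inf, mem_fixSp, mem_fixSp, LinearMap.mem_ker,
    refl_mul_mulVec]
  constructor
  · rintro ⟨h1, h2⟩
    refine ⟨?_, h2⟩
    rw [h2, zero_smul, sub_zero, h1]
  · rintro ⟨h1, h2⟩
    refine ⟨?_, h2⟩
    rw [h2, zero_smul, sub_zero] at h1
    exact h1

/-- the fixed space is orthogonal to the image of `g - 1` -/
theorem polar_fix_range (g : ↥(Cfsg.isometryGroup F ⇑Q)) (x z : Fin n → F)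
    (hx : imat Q g *ᵥ x = x) : QuadraticMap.polar ⇑Q (imat Q g *ᵥ z - z) x = 0 := by
  rw [QuadraticMap.polar_sub_left]
  nth_rewrite 1 [← hx]
  rw [pres_polar, sub_self]

/-- conversely, a vector orthogonal to the image of `g - 1` is fixed -/
theorem fix_of_polar_range (hQ : (QuadraticMap.polarBilin Q).Nondegenerate)
    (g : ↥(Cfsg.isometryGroup F ⇑Q)) (x : Fin n → F)
    (hx : ∀ z, QuadraticMap.polar ⇑Q (imat Q g *ᵥ z - z) x = 0) : imat Q g *ᵥ x = x := by
  have h1 : imat Q g⁻¹ *ᵥ x = x := by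
    rw [← sub_eq_zero]
    apply hQ.1
    intro z
    change QuadraticMap.polar ⇑Q (imat Q g⁻¹ *ᵥ x - x) z = 0
    have h2 := hx z
    rw [QuadraticMap.polar_sub_left] at h2
    have h3 := pres_polar Q g z (imat Q g⁻¹ *ᵥ x)
    rw [Matrix.mulVec_mulVec, imat_mul_inv, Matrix.one_mulVec] at h3
    rw [QuadraticMap.polar_sub_left, QuadraticMap.polar_comm ⇑Q _ z, QuadraticMap.polar_comm ⇑Q x z,
      ← h3]
    exact h2
  have := congrArg (fun y => imat Q g *ᵥ y) h1
  simp only [Matrix.mulVec_mulVec, imat_mul_inv, Matrix.one_mulVec] at this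
  exact this.symm

/-- **Flip lemma.** Multiplying by a reflection changes the dimension of the fixed space by one. -/
theorem finrank_fixSp_refl_mul (hQ : (QuadraticMap.polarBilin Q).Nondegenerate)
    (g : ↥(Cfsg.isometryGroup F ⇑Q)) (v : Fin n → F) (hv : Q v ≠ 0) :
    Module.finrank F ↥(fixSp (Cfsg.reflectionMatrix ⇑Q v * imat Q g)) + 1 =
        Module.finrank F ↥(fixSp (imat Q g)) ∨
      Module.finrank F ↥(fixSp (Cfsg.reflectionMatrix ⇑Q v * imat Q g)) =
        Module.finrank F ↥(fixSp (imat Q g)) + 1 := by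
  have hinf := fixSp_inf_ker Q g v
  by_cases hcase : ∃ y, imat Q g *ᵥ y - y = v
  · -- case A
    right
    obtain ⟨y, hy⟩ := hcase
    have hgy : imat Q g *ᵥ y = y + v := by rw [← hy]; abel
    have hB : QuadraticMap.polar ⇑Q v y = - Q v := by
      have h1 := pres Q g y
      change Q (imat Q g *ᵥ y) = Q y at h1
      rw [hgy, Q_add, QuadraticMap.polar_comm] at h1
      linear_combination h1
    have hφy : flipFun Q g v y = 1 := by
      rw [flipFun_apply, hgy, QuadraticMap.polar_add_right, hB, QuadraticMap.polar_self,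
        nsmul_eq_mul]
      push_cast
      field_simp
      ring
    have hyK' : y ∈ fixSp (Cfsg.reflectionMatrix ⇑Q v * imat Q g) := by
      rw [mem_fixSp, refl_mul_mulVec, hφy, one_smul, hgy]
      abel
    have hK : fixSp (imat Q g) ≤ LinearMap.ker (flipFun Q g v) := by
      intro x hx
      rw [mem_fixSp] at hx
      rw [LinearMap.mem_ker, flipFun_apply, hx, ← hy, polar_fix_range Q g x y hx, mul_zero]
    have h1 := finrank_inf_ker_add_one _ (flipFun Q g v) y hyK' (by rw [hφy]; exact one_ne_zero)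
    have h2 := finrank_inf_ker_of_le _ (flipFun Q g v) hK
    rw [← hinf] at h1
    omega
  · -- case B
    left
    have hK' : fixSp (Cfsg.reflectionMatrix ⇑Q v * imat Q g) ≤ LinearMap.ker (flipFun Q g v) := by
      intro x hx
      rw [mem_fixSp, refl_mul_mulVec] at hx
      rw [LinearMap.mem_ker]
      by_contra hφ
      apply hcase
      refine ⟨(flipFun Q g v x)⁻¹ • x, ?_⟩
      rw [Matrix.mulVec_smul, ← smul_sub]
      have : imat Q g *ᵥ x - x = flipFun Q g v x • v := by
        rw [← sub_eq_zero]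
        rw [← sub_eq_zero] at hx
        rw [← hx]
        abel
      rw [this, smul_smul, inv_mul_cancel₀ hφ, one_smul]
    have hex : ∃ k ∈ fixSp (imat Q g), flipFun Q g v k ≠ 0 := by
      by_contra hcon
      push Not at hcon
      apply hcase
      set B : LinearMap.BilinForm F (Fin n → F) := QuadraticMap.polarBilin Q with hBdef
      have hrefl : B.IsRefl := by
        intro x y hxy
        change QuadraticMap.polar ⇑Q y x = 0
        rw [QuadraticMap.polar_comm]
        exact hxy
      set W : Submodule F (Fin n → F) := LinearMap.range ((imat Q g).mulVecLin - LinearMap.id)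
        with hW
      have hKW : B.orthogonal W = fixSp (imat Q g) := by
        ext x
        rw [LinearMap.BilinForm.mem_orthogonal_iff, mem_fixSp]
        constructor
        · intro h
          apply fix_of_polar_range Q hQ g x
          intro z
          exact h _ ⟨z, rfl⟩
        · rintro h _ ⟨z, rfl⟩
          exact polar_fix_range Q g x z h
      have hvW : v ∈ B.orthogonal (B.orthogonal W) := by
        rw [hKW, LinearMap.BilinForm.mem_orthogonal_iff]
        intro k hk
        have h1 := hcon k hk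
        rw [flipFun_apply, (mem_fixSp _ _).mp hk] at h1
        have h2 : QuadraticMap.polar ⇑Q v k = 0 := by
          rcases mul_eq_zero.mp h1 with h | h
          · exact absurd (inv_eq_zero.mp h) hv
          · exact h
        change QuadraticMap.polar ⇑Q k v = 0
        rw [QuadraticMap.polar_comm]
        exact h2
      rw [LinearMap.BilinForm.orthogonal_orthogonal hQ hrefl] at hvW
      obtain ⟨y, hy⟩ := hvW
      exact ⟨y, hy⟩
    obtain ⟨k, hk, hφk⟩ := hex
    have h1 := finrank_inf_ker_add_one _ (flipFun Q g v) k hk hφk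
    have h2 := finrank_inf_ker_of_le _ (flipFun Q g v) hK'
    rw [hinf] at h1
    omega

end fix

section dsgn
variable {F : Type*} [Field F] {n : ℕ} (Q : QuadraticForm F (Fin n → F))

/-- the Dickson sign of an isometry: `(-1) ^ (n + dim of the fixed space)` -/
noncomputable def dsgnFun (g : ↥(Cfsg.isometryGroup F ⇑Q)) : ℤˣ :=
  (-1) ^ (n + Module.finrank F ↥(fixSp (imat Q g)))

theorem dsgnFun_one : dsgnFun Q 1 = 1 := by
  unfold dsgnFun
  have : fixSp (imat Q (1 : ↥(Cfsg.isometryGroup F ⇑Q))) = ⊤ := by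
    ext x
    rw [mem_fixSp]
    change (1 : Matrix (Fin n) (Fin n) F) *ᵥ x = x ↔ _
    rw [Matrix.one_mulVec]
    simp
  rw [this, finrank_top, Module.finrank_fin_fun, ← two_mul, pow_mul]
  simp

theorem dsgnFun_refl_mul (hQ : (QuadraticMap.polarBilin Q).Nondegenerate)
    (r : ↥(Cfsg.isometryGroup F ⇑Q)) (hr : r ∈ Rset Q) (g : ↥(Cfsg.isometryGroup F ⇑Q)) :
    dsgnFun Q (r * g) = - dsgnFun Q g := by
  obtain ⟨v, hv, hrv⟩ := hr
  unfold dsgnFun
  have e : imat Q (r * g) = Cfsg.reflectionMatrix ⇑Q v * imat Q g := by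
    rw [imat_mul]
    congr 1
  rw [e]
  rcases finrank_fixSp_refl_mul Q hQ g v hv with h | h
  · rw [← h, ← add_assoc, pow_succ]
    simp
  · rw [h, ← add_assoc, pow_succ]
    simp

theorem dsgnFun_mul (hQ : (QuadraticMap.polarBilin Q).Nondegenerate)
    (htop : Subgroup.closure (Rset Q) = ⊤) (g h : ↥(Cfsg.isometryGroup F ⇑Q)) :
    dsgnFun Q (g * h) = dsgnFun Q g * dsgnFun Q h := by
  have hg : g ∈ Subgroup.closure (Rset Q) := by rw [htop]; trivial
  revert h
  induction hg using Subgroup.closure_induction with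
  | mem r hr =>
    intro h
    rw [dsgnFun_refl_mul Q hQ r hr h]
    have := dsgnFun_refl_mul Q hQ r hr 1
    rw [mul_one, dsgnFun_one] at this
    rw [this]
    simp
  | one =>
    intro h
    rw [one_mul, dsgnFun_one, one_mul]
  | mul a b _ _ iha ihb =>
    intro h
    rw [mul_assoc, iha, ihb, iha, mul_assoc]
  | inv a _ iha =>
    intro h
    have h1 := iha (a⁻¹ * h)
    rw [mul_inv_cancel_left] at h1
    have h2 := iha a⁻¹
    rw [mul_inv_cancel, dsgnFun_one] at h2
    have h3 : dsgnFun Q a⁻¹ = dsgnFun Q a := by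
      rcases Int.units_eq_one_or (dsgnFun Q a) with e | e <;>
        rcases Int.units_eq_one_or (dsgnFun Q a⁻¹) with e' | e' <;> rw [e, e'] at h2 ⊢ <;>
        simp at h2
    rw [h3, h1, ← mul_assoc]
    rcases Int.units_eq_one_or (dsgnFun Q a) with e | e <;> rw [e] <;> simp

/-- the Dickson sign as a homomorphism -/
noncomputable def dsgn (hQ : (QuadraticMap.polarBilin Q).Nondegenerate)
    (htop : Subgroup.closure (Rset Q) = ⊤) : ↥(Cfsg.isometryGroup F ⇑Q) →* ℤˣ :=
  MonoidHom.mk' (dsgnFun Q) (dsgnFun_mul Q hQ htop)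

theorem dsgn_refl (hQ : (QuadraticMap.polarBilin Q).Nondegenerate)
    (htop : Subgroup.closure (Rset Q) = ⊤) (a : Fin n → F) (ha : Q a ≠ 0) :
    dsgn Q hQ htop (mkRefl Q a ha) = -1 := by
  change dsgnFun Q (mkRefl Q a ha) = -1
  have := dsgnFun_refl_mul Q hQ (mkRefl Q a ha) ⟨a, ha, rfl⟩ 1
  rw [mul_one, dsgnFun_one] at this
  exact this

theorem dsgn_apply (hQ : (QuadraticMap.polarBilin Q).Nondegenerate)
    (htop : Subgroup.closure (Rset Q) = ⊤) (g : ↥(Cfsg.isometryGroup F ⇑Q)) :
    dsgn Q hQ htop g = (-1) ^ (n + Module.finrank F ↥(fixSp (imat Q g))) := rfl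

end dsgn

section chartwo
variable {F : Type*} [Field F] [Fintype F] {n : ℕ} (Q : QuadraticForm F (Fin n → F))

/-- the empty symplectic family -/
def emptyFam : SympFam Q 0 :=
  { u := Fin.elim0
    w := Fin.elim0
    huu := fun i => i.elim0
    hww := fun i => i.elim0
    huw := fun i => i.elim0 }

theorem emptyFam_perp (x : Fin n → F) : (emptyFam Q).Perp x := fun i => i.elim0

/-- in characteristic two, isometry classes of non-singular vectors of a given norm -/
theorem exists_move_two (h2 : (2 : F) = 0) (hQ : (QuadraticMap.polarBilin Q).Nondegenerate)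
    (h : Fintype.card F ≠ 2 ∨ n ≠ 4) (a b : Fin n → F) (hab : Q a = Q b) (ha : Q a ≠ 0) :
    ∃ g : ↥(Cfsg.isometryGroup F ⇑Q), imat Q g *ᵥ a = b := by
  by_cases hne : a = b
  · refine ⟨1, ?_⟩
    change (1 : Matrix (Fin n) (Fin n) F) *ᵥ a = b
    rw [Matrix.one_mulVec, hne]
  by_cases hB : QuadraticMap.polar ⇑Q a b ≠ 0
  · obtain ⟨r, -, -, hr, -⟩ := (emptyFam Q).exists_move h2 a b (emptyFam_perp Q a)
      (emptyFam_perp Q b) hab hB
    exact ⟨r, hr⟩
  · push Not at hB
    obtain ⟨c, -, hQc, hac, hbc⟩ : ∃ c, (emptyFam Q).Perp c ∧ Q c = Q a ∧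
        QuadraticMap.polar ⇑Q a c ≠ 0 ∧ QuadraticMap.polar ⇑Q b c ≠ 0 := by
      by_cases hF : Fintype.card F = 2
      · have hn4 : n ≠ 4 := by
          rcases h with h | h
          · exact absurd hF h
          · exact h
        by_cases hn5 : 5 ≤ n
        · exact (emptyFam Q).star_dim6 h2 hF (by omega) hQ a b (emptyFam_perp Q a)
            (emptyFam_perp Q b) hne hab ha hB
        · exact ((emptyFam Q).star_dim2 h2 hQ (by omega) a b (emptyFam_perp Q a)
            (emptyFam_perp Q b) hne hab ha hB).elim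
      · have : 2 < Fintype.card F := by
          have := Fintype.one_lt_card (α := F)
          omega
        exact (emptyFam Q).star_big h2 this hQ a b (emptyFam_perp Q a) (emptyFam_perp Q b) hne hab
          ha hB
    obtain ⟨r₁, -, -, hr₁, -⟩ := (emptyFam Q).exists_move h2 a c (emptyFam_perp Q a)
      (emptyFam_perp Q c) hQc.symm hac
    obtain ⟨r₂, -, -, hr₂, -⟩ := (emptyFam Q).exists_move h2 c b (emptyFam_perp Q c)
      (emptyFam_perp Q b) (hQc.trans hab) (by rw [QuadraticMap.polar_comm]; exact hbc)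
    refine ⟨r₂ * r₁, ?_⟩
    change (imat Q r₂ * imat Q r₁) *ᵥ a = b
    rw [← Matrix.mulVec_mulVec]
    exact (congrArg _ hr₁).trans hr₂

theorem exists_sq_two (h2 : (2 : F) = 0) (c : F) : ∃ t : F, t * t = c := by
  have hF : ringChar F = 2 := CharP.ringChar_of_prime_eq_zero Nat.prime_two (by exact_mod_cast h2)
  obtain ⟨t, ht⟩ := FiniteField.isSquare_of_char_two hF c
  exact ⟨t, ht.symm⟩

/-- in characteristic two, any non-singular vector can be moved to a multiple of any other -/
theorem exists_move_smul_two (h2 : (2 : F) = 0) (hQ : (QuadraticMap.polarBilin Q).Nondegenerate)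
    (h : Fintype.card F ≠ 2 ∨ n ≠ 4) (a b : Fin n → F) (ha : Q a ≠ 0) (hb : Q b ≠ 0) :
    ∃ (g : ↥(Cfsg.isometryGroup F ⇑Q)) (t : F), t ≠ 0 ∧ imat Q g *ᵥ (t • a) = b := by
  obtain ⟨t, ht⟩ := exists_sq_two h2 (Q b / Q a)
  have ht0 : t ≠ 0 := by
    rintro rfl
    rw [mul_zero] at ht
    exact (div_ne_zero hb ha) ht.symm
  have hQ' : Q (t • a) = Q b := by
    rw [Q_smul, ht]
    field_simp
  obtain ⟨g, hg⟩ := exists_move_two Q h2 hQ h (t • a) b hQ' (by rw [hQ']; exact hb)
  exact ⟨g, t, ht0, hg⟩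

/-- in characteristic two all reflections are conjugate -/
theorem refl_isConj_two (h2 : (2 : F) = 0) (hQ : (QuadraticMap.polarBilin Q).Nondegenerate)
    (h : Fintype.card F ≠ 2 ∨ n ≠ 4) (a b : Fin n → F) (ha : Q a ≠ 0) (hb : Q b ≠ 0) :
    IsConj (mkRefl Q a ha) (mkRefl Q b hb) := by
  obtain ⟨g, t, ht0, hg⟩ := exists_move_smul_two Q h2 hQ h a b ha hb
  have hta : Q (t • a) ≠ 0 := by
    rw [Q_smul]
    exact mul_ne_zero (mul_ne_zero ht0 ht0) ha
  have e1 : mkRefl Q a ha = mkRefl Q (t • a) hta := by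
    apply eq_mkRefl
    rw [mkRefl_val, refl_smul Q a t ht0]
  rw [isConj_iff]
  refine ⟨g, ?_⟩
  rw [e1, conj_refl Q g (t • a) hta (by rw [hg]; exact hb)]
  apply eq_mkRefl
  rw [mkRefl_val, hg]

/-- in characteristic two the abelianisation of the isometry group has at most two elements -/
theorem card_abelianization_le_two (h2 : (2 : F) = 0)
    (hQ : (QuadraticMap.polarBilin Q).Nondegenerate) (h : Fintype.card F ≠ 2 ∨ n ≠ 4)
    (a : Fin n → F) (ha : Q a ≠ 0) :
    Nat.card (Abelianization ↥(Cfsg.isometryGroup F ⇑Q)) ≤ 2 := by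
  classical
  set ρ := Abelianization.of (mkRefl Q a ha) with hρ
  have h1 : ρ * ρ = 1 := by rw [hρ, ← map_mul, mkRefl_mul_self, map_one]
  have hinv : ρ⁻¹ = ρ := inv_eq_of_mul_eq_one_left h1
  have htop := Cfsg.Agent.S0786.closure_Rset_eq_top Q hQ h
  have hall : ∀ g : ↥(Cfsg.isometryGroup F ⇑Q),
      Abelianization.of g = 1 ∨ Abelianization.of g = ρ := by
    intro g
    have hg : g ∈ Subgroup.closure (Rset Q) := by rw [htop]; trivial
    induction hg using Subgroup.closure_induction with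
    | mem r hr =>
      right
      obtain ⟨u, hu, hru⟩ := hr
      rw [eq_mkRefl Q u hu r hru]
      exact isConj_iff_eq.mp (Abelianization.of.map_isConj (refl_isConj_two Q h2 hQ h u a hu ha))
    | one => left; exact map_one _
    | mul x y _ _ ihx ihy =>
      rw [map_mul]
      rcases ihx with e | e <;> rcases ihy with e' | e' <;> rw [e, e']
      · left; rw [one_mul]
      · right; rw [one_mul]
      · right; rw [mul_one]
      · left; exact h1
    | inv x _ ihx =>
      rw [map_inv]
      rcases ihx with e | e <;> rw [e]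
      · left; exact inv_one
      · right; exact hinv
  let f : Bool → Abelianization ↥(Cfsg.isometryGroup F ⇑Q) := fun b => if b then ρ else 1
  have hsurj : Function.Surjective f := by
    intro x
    obtain ⟨g, rfl⟩ := QuotientGroup.mk_surjective x
    rcases hall g with e | e
    · exact ⟨false, e.symm⟩
    · exact ⟨true, e.symm⟩
  have := Nat.card_le_card_of_surjective f hsurj
  simpa using this

/-- **The Dickson invariant in characteristic two.** -/
theorem dickson_main (h2 : (2 : F) = 0) (hQ : (QuadraticMap.polarBilin Q).Nondegenerate)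
    (hn : 2 ≤ n) (h : Fintype.card F ≠ 2 ∨ n ≠ 4) :
    ∃ δ : ↥(Cfsg.isometryGroup F ⇑Q) →* ℤˣ,
      (∀ (a : Fin n → F) (ha : Q a ≠ 0), δ (mkRefl Q a ha) = -1) ∧
      (∀ g, δ g = (-1) ^ (n + Module.finrank F ↥(fixSp (imat Q g)))) ∧
      (∀ g, g ∈ Cfsg.Omega F ⇑Q ↔ δ g = 1) ∧
      (Cfsg.Omega F ⇑Q).index = 2 := by
  classical
  have htop := Cfsg.Agent.S0786.closure_Rset_eq_top Q hQ h
  set δ := dsgn Q hQ htop with hδ
  obtain ⟨a, -, ha⟩ := (emptyFam Q).exists_nonsingular h2 hQ (by omega)
  have hker : δ.ker.index = 2 := index_ker_of_surj δ (mkRefl Q a ha) (dsgn_refl Q hQ htop a ha)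
  have hle : Cfsg.Omega F ⇑Q ≤ δ.ker := Abelianization.commutator_subset_ker δ
  have hidx : (Cfsg.Omega F ⇑Q).index ≤ 2 := by
    rw [Subgroup.index_eq_card]
    exact card_abelianization_le_two Q h2 hQ h a ha
  have hdvd : δ.ker.index ∣ (Cfsg.Omega F ⇑Q).index := Subgroup.index_dvd_of_le hle
  have hne : (Cfsg.Omega F ⇑Q).index ≠ 0 := Subgroup.index_ne_zero_of_finite
  have h4 : (Cfsg.Omega F ⇑Q).index = 2 := by
    rw [hker] at hdvd
    obtain ⟨k, hk⟩ := hdvd
    have : k = 1 := by
      rcases k with _ | _ | k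
      · omega
      · rfl
      · omega
    omega
  have heq : Cfsg.Omega F ⇑Q = δ.ker := by
    apply le_antisymm hle
    have := Subgroup.relIndex_mul_index hle
    rw [h4, hker] at this
    have h1 : (Cfsg.Omega F ⇑Q).relIndex δ.ker = 1 := by omega
    exact Subgroup.relIndex_eq_one.mp h1
  refine ⟨δ, fun a ha => dsgn_refl Q hQ htop a ha, fun g => dsgn_apply Q hQ htop g, fun g => ?_, h4⟩
  rw [heq, MonoidHom.mem_ker]

end chartwo

end Cfsg.Agent.Lib.Helper6
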