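import Mathlib
import Cfsg.Agent.S0760

set_option autoImplicit false

/-!
# Totally singular subspaces of quadratic spaces of maximal Witt index
-/

namespace Cfsg.Agent.Lib.Helper6

open Module QuadraticMap LinearMap.BilinForm

section
variable {F V : Type*} [Field F] [AddCommGroup V] [Module F V]

/-- `W` is totally singular for `Q`. -/
def TS (Q : QuadraticForm F V) (W : Submodule F V) : Prop := ∀ w ∈ W, Q w = 0

theorem TS.polar {Q : QuadraticForm F V} {W : Submodule F V} (h : TS Q W) {x y : V} (hx : x ∈ W)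
    (hy : y ∈ W) : QuadraticMap.polar Q x y = 0 := by
  unfold QuadraticMap.polar
  rw [h _ (W.add_mem hx hy), h x hx, h y hy]
  simp

theorem TS.le_orth {Q : QuadraticForm F V} {W : Submodule F V} (h : TS Q W) :
    W ≤ LinearMap.BilinForm.orthogonal (polarBilin Q) W := by
  intro x hx
  rw [mem_orthogonal_iff]
  intro n hn
  exact h.polar hn hx

theorem TS.mono {Q : QuadraticForm F V} {W W' : Submodule F V} (h : TS Q W) (hle : W' ≤ W) :
    TS Q W' := fun w hw => h w (hle hw)

theorem TS.sup_span {Q : QuadraticForm F V} {W : Submodule F V} (h : TS Q W) {x : V}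
    (hx : Q x = 0) (hxW : ∀ w ∈ W, QuadraticMap.polar Q w x = 0) :
    TS Q (W ⊔ Submodule.span F {x}) := by
  intro y hy
  obtain ⟨w, hw, z, hz, rfl⟩ := Submodule.mem_sup.mp hy
  obtain ⟨c, rfl⟩ := Submodule.mem_span_singleton.mp hz
  rw [QuadraticMap.map_add Q, h w hw, QuadraticMap.map_smul, hx, polar_smul_right, hxW w hw]
  simp

theorem mem_orth_iff (Q : QuadraticForm F V) (W : Submodule F V) (x : V) :
    x ∈ LinearMap.BilinForm.orthogonal (polarBilin Q) W ↔ ∀ w ∈ W, QuadraticMap.polar Q w x = 0 :=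
  Iff.rfl

variable [FiniteDimensional F V]

theorem TS.two_mul_finrank_le {Q : QuadraticForm F V} (hQ : (polarBilin Q).Nondegenerate)
    {W : Submodule F V} (h : TS Q W) : 2 * finrank F W ≤ finrank F V := by
  have e1 := finrank_orthogonal hQ W
  have e2 := Submodule.finrank_mono h.le_orth
  have e3 := Submodule.finrank_le W
  omega

/-- hyperbolic partner of a singular vector, orthogonal to a totally singular subspace -/
theorem exists_partner (Q : QuadraticForm F V) (hQ : (polarBilin Q).Nondegenerate)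
    (Z : Submodule F V) (a : V) (haZ : a ∉ Z) (ha : Q a = 0)
    (haZ' : ∀ z ∈ Z, QuadraticMap.polar Q z a = 0) :
    ∃ b, Q b = 0 ∧ QuadraticMap.polar Q a b = 1 ∧ ∀ z ∈ Z, QuadraticMap.polar Q z b = 0 := by
  -- first find b₀ ∈ Z^⊥ with polar a b₀ ≠ 0
  have h1 : ∃ b₀, (∀ z ∈ Z, QuadraticMap.polar Q z b₀ = 0) ∧ QuadraticMap.polar Q a b₀ ≠ 0 := by
    by_contra hcon
    push Not at hcon
    have hle : LinearMap.BilinForm.orthogonal (polarBilin Q) Z ≤
        LinearMap.BilinForm.orthogonal (polarBilin Q) (Z ⊔ Submodule.span F {a}) := by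
      intro b hb
      rw [mem_orth_iff] at hb ⊢
      intro w hw
      obtain ⟨z, hz, y, hy, rfl⟩ := Submodule.mem_sup.mp hw
      obtain ⟨c, rfl⟩ := Submodule.mem_span_singleton.mp hy
      rw [polar_add_left, polar_smul_left, hb z hz, hcon b hb]
      simp
    have e1 := finrank_orthogonal hQ Z
    have e2 := finrank_orthogonal hQ (Z ⊔ Submodule.span F {a})
    have e3 := Submodule.finrank_mono hle
    have hlt : Z < Z ⊔ Submodule.span F {a} := by
      apply lt_of_le_of_ne le_sup_left
      intro h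
      apply haZ
      rw [h]
      exact Submodule.mem_sup_right (Submodule.mem_span_singleton_self a)
    have e4 := Submodule.finrank_lt_finrank_of_lt hlt
    have e5 := Submodule.finrank_le (Z ⊔ Submodule.span F {a})
    omega
  obtain ⟨b₀, hb₀Z, hb₀a⟩ := h1
  obtain ⟨b₁, hb₁Z, hb₁a⟩ : ∃ b₁, (∀ z ∈ Z, QuadraticMap.polar Q z b₁ = 0) ∧
      QuadraticMap.polar Q a b₁ = 1 := by
    refine ⟨(QuadraticMap.polar Q a b₀)⁻¹ • b₀, ?_, ?_⟩
    · intro z hz
      rw [polar_smul_right, hb₀Z z hz, smul_zero]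
    · rw [polar_smul_right, smul_eq_mul, inv_mul_cancel₀ hb₀a]
  refine ⟨b₁ - Q b₁ • a, ?_, ?_, ?_⟩
  · rw [sub_eq_add_neg, ← neg_smul, QuadraticMap.map_add Q, QuadraticMap.map_smul, ha,
      polar_smul_right, polar_comm, hb₁a]
    simp
  · rw [polar_sub_right, polar_smul_right, polar_self, ha, hb₁a]
    simp
  · intro z hz
    rw [polar_sub_right, polar_smul_right, hb₁Z z hz, haZ' z hz]
    simp

/-- A totally singular subspace of dimension `m - 1` in a `2m`-dimensional space of Witt index `m`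
lies in exactly two totally singular subspaces of dimension `m`. -/
theorem exists_two_extensions (Q : QuadraticForm F V) (hQ : (polarBilin Q).Nondegenerate) (m : ℕ)
    (hV : finrank F V = 2 * m) (E : Submodule F V) (hE : TS Q E) (hEm : finrank F E = m)
    (H : Submodule F V) (hH : TS Q H) (hHm : finrank F H + 1 = m) :
    ∃ W₁ W₂ : Submodule F V, W₁ ≠ W₂ ∧ (TS Q W₁ ∧ finrank F W₁ = m ∧ H ≤ W₁) ∧
      (TS Q W₂ ∧ finrank F W₂ = m ∧ H ≤ W₂) ∧
      ∀ W : Submodule F V, TS Q W → finrank F W = m → H ≤ W → W = W₁ ∨ W = W₂ := by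
  -- H is not maximal
  have h1 : ∃ W₁ : Submodule F V, H ≤ W₁ ∧ TS Q W₁ ∧ W₁ ≠ H := by
    by_contra hcon
    push Not at hcon
    have := Cfsg.Agent.S0760.le_of_max Q hQ H E hH hE (fun W hW hts => hcon W hW hts)
    omega
  obtain ⟨W₁, hHW₁, hW₁, hne⟩ := h1
  have hlt₁ : H < W₁ := lt_of_le_of_ne hHW₁ (Ne.symm hne)
  have hW₁m : finrank F W₁ = m := by
    have e1 := Submodule.finrank_lt_finrank_of_lt hlt₁
    have e2 := hW₁.two_mul_finrank_le hQ
    omega
  obtain ⟨a, haW₁, haH⟩ := SetLike.exists_of_lt hlt₁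
  have ha : Q a = 0 := hW₁ a haW₁
  have haH' : ∀ z ∈ H, QuadraticMap.polar Q z a = 0 := fun z hz => hW₁.polar (hHW₁ hz) haW₁
  have hW₁eq : H ⊔ Submodule.span F {a} = W₁ := by
    apply Submodule.eq_of_le_of_finrank_le
    · exact sup_le hHW₁ ((Submodule.span_singleton_le_iff_mem a W₁).mpr haW₁)
    · have hlt : H < H ⊔ Submodule.span F {a} := by
        apply lt_of_le_of_ne le_sup_left
        intro h
        apply haH
        rw [h]
        exact Submodule.mem_sup_right (Submodule.mem_span_singleton_self a)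
      have := Submodule.finrank_lt_finrank_of_lt hlt
      omega
  obtain ⟨b, hb, hab, hbH⟩ := exists_partner Q hQ H a haH ha haH'
  have hbW₁ : b ∉ W₁ := by
    intro h
    have := hW₁.polar haW₁ h
    rw [hab] at this
    exact one_ne_zero this
  have hbH' : b ∉ H := fun h => hbW₁ (hHW₁ h)
  set W₂ := H ⊔ Submodule.span F {b} with hW₂def
  have hW₂ : TS Q W₂ := hH.sup_span hb hbH
  have hHW₂ : H ≤ W₂ := le_sup_left
  have hbW₂ : b ∈ W₂ := Submodule.mem_sup_right (Submodule.mem_span_singleton_self b)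
  have hW₂m : finrank F W₂ = m := by
    have hlt : H < W₂ := by
      apply lt_of_le_of_ne hHW₂
      intro h
      apply hbH'
      rw [h]
      exact hbW₂
    have e1 := Submodule.finrank_lt_finrank_of_lt hlt
    have e2 := hW₂.two_mul_finrank_le hQ
    omega
  have hne12 : W₁ ≠ W₂ := by
    intro h
    apply hbW₁
    rw [h]
    exact hbW₂
  refine ⟨W₁, W₂, hne12, ⟨hW₁, hW₁m, hHW₁⟩, ⟨hW₂, hW₂m, hHW₂⟩, ?_⟩
  intro W hW hWm hHW
  -- the orthogonal of M = W₁ ⊔ span b is H
  set M := W₁ ⊔ Submodule.span F {b} with hM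
  have hMdim : m + 1 ≤ finrank F M := by
    have hlt : W₁ < M := by
      apply lt_of_le_of_ne le_sup_left
      intro h
      apply hbW₁
      rw [h]
      exact Submodule.mem_sup_right (Submodule.mem_span_singleton_self b)
    have := Submodule.finrank_lt_finrank_of_lt hlt
    omega
  have hHM : H ≤ LinearMap.BilinForm.orthogonal (polarBilin Q) M := by
    intro h hh
    rw [mem_orth_iff]
    intro w hw
    obtain ⟨w₁, hw₁, z, hz, rfl⟩ := Submodule.mem_sup.mp hw
    obtain ⟨c, rfl⟩ := Submodule.mem_span_singleton.mp hz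
    rw [polar_add_left, polar_smul_left, hW₁.polar hw₁ (hHW₁ hh), polar_comm, hbH h hh]
    simp
  have hMorth : LinearMap.BilinForm.orthogonal (polarBilin Q) M = H := by
    symm
    apply Submodule.eq_of_le_of_finrank_le hHM
    have e1 := finrank_orthogonal hQ M
    have e2 := Submodule.finrank_le M
    omega
  -- take w ∈ W \ H
  have hltW : H < W := by
    apply lt_of_le_of_ne hHW
    intro h
    rw [← h] at hWm
    omega
  obtain ⟨w, hwW, hwH⟩ := SetLike.exists_of_lt hltW
  have hwH' : ∀ z ∈ H, QuadraticMap.polar Q z w = 0 := fun z hz => hW.polar (hHW hz) hwW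
  obtain ⟨x, hx⟩ : ∃ x, x = QuadraticMap.polar Q w b := ⟨_, rfl⟩
  obtain ⟨y, hy⟩ : ∃ y, y = QuadraticMap.polar Q w a := ⟨_, rfl⟩
  have hba : QuadraticMap.polar Q b a = 1 := by rw [polar_comm]; exact hab
  have hh : w - x • a - y • b ∈ H := by
    rw [← hMorth, mem_orth_iff]
    intro z hz
    obtain ⟨w₁, hw₁, z', hz', rfl⟩ := Submodule.mem_sup.mp hz
    obtain ⟨c, rfl⟩ := Submodule.mem_span_singleton.mp hz'
    rw [← hW₁eq] at hw₁
    obtain ⟨h', hh', z'', hz'', rfl⟩ := Submodule.mem_sup.mp hw₁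
    obtain ⟨d, rfl⟩ := Submodule.mem_span_singleton.mp hz''
    simp only [polar_add_left, polar_smul_left, polar_sub_right, polar_smul_right, smul_eq_mul,
      hwH' h' hh', haH' h' hh', hbH h' hh', polar_self, ha, hb, hab, hba,
      polar_comm Q a w, polar_comm Q b w, ← hx, ← hy]
    simp only [smul_zero, mul_zero, sub_zero, zero_add, mul_one]
    ring
  obtain ⟨h, hhH⟩ : ∃ h, h = w - x • a - y • b := ⟨_, rfl⟩
  rw [← hhH] at hh
  have hw : w = h + x • a + y • b := by rw [hhH]; abel
  have hQw : Q w = x * y := by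
    rw [hw, QuadraticMap.map_add Q, QuadraticMap.map_add Q, QuadraticMap.map_smul,
      QuadraticMap.map_smul]
    simp only [polar_add_left, polar_smul_left, polar_smul_right, hH h hh, ha, hb, haH' h hh,
      hbH h hh, hab, smul_eq_mul]
    ring
  rw [hW w hwW] at hQw
  rcases mul_eq_zero.mp hQw.symm with hx0 | hy0
  · -- x = 0 : b ∈ W
    right
    have hy0 : y ≠ 0 := by
      rintro rfl
      apply hwH
      rw [hw, hx0]
      simpa using hh
    have hbW : b ∈ W := by
      have : b = y⁻¹ • (w - h) := by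
        rw [hw, hx0]
        simp [smul_smul, inv_mul_cancel₀ hy0]
      rw [this]
      exact W.smul_mem _ (W.sub_mem hwW (hHW hh))
    symm
    apply Submodule.eq_of_le_of_finrank_le
    · exact sup_le hHW ((Submodule.span_singleton_le_iff_mem b W).mpr hbW)
    · omega
  · -- y = 0 : a ∈ W
    left
    have hx0 : x ≠ 0 := by
      rintro rfl
      apply hwH
      rw [hw, hy0]
      simpa using hh
    have haW : a ∈ W := by
      have : a = x⁻¹ • (w - h) := by
        rw [hw, hy0]
        simp [smul_smul, inv_mul_cancel₀ hx0]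
      rw [this]
      exact W.smul_mem _ (W.sub_mem hwW (hHW hh))
    symm
    rw [← hW₁eq]
    apply Submodule.eq_of_le_of_finrank_le
    · exact sup_le hHW ((Submodule.span_singleton_le_iff_mem a W).mpr haW)
    · rw [hW₁eq]; omega

end

end Cfsg.Agent.Lib.Helper6
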