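import Mathlib
import Cfsg.Agent.Lib.Helper6.Hyperbolic
import Cfsg.Agent.Lib.Helper15.Witt2

/-!
# Existence of vectors in quadratic spaces of dimension at least five
-/

set_option autoImplicit false

namespace Cfsg.Agent.Lib.Helper6

open Module QuadraticMap Cfsg.Agent.Lib.Helper15

section
variable {F V : Type*} [Field F] [AddCommGroup V] [Module F V] [FiniteDimensional F V]

/-- the perpendicular of a pair has codimension at most two -/
theorem finrank_perpPair_ge (Q : QuadraticForm F V) (x y : V) :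
    finrank F V ≤ finrank F (perpPair Q x y) + 2 := by
  let φ : V →ₗ[F] F × F := (polarBilin Q x).prod (polarBilin Q y)
  have hker : LinearMap.ker φ = perpPair Q x y := by
    ext v
    rw [LinearMap.mem_ker, mem_perpPair]
    show (polarBilin Q x v, polarBilin Q y v) = 0 ↔ _
    rw [Prod.mk_eq_zero]
    rfl
  have h1 := LinearMap.finrank_range_add_finrank_ker φ
  have h2 : finrank F (LinearMap.range φ) ≤ 2 := by
    have := Submodule.finrank_le (LinearMap.range φ)
    rwa [Module.finrank_prod, Module.finrank_self] at this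
  rw [hker] at h1
  omega

/-- a non-singular vector perpendicular to a pair -/
theorem exists_nonsingular_perp (Q : QuadraticForm F V) (hQ : (polarBilin Q).Nondegenerate)
    (h5 : 5 ≤ finrank F V) (x y : V) :
    ∃ b, polar Q x b = 0 ∧ polar Q y b = 0 ∧ Q b ≠ 0 := by
  by_contra hcon
  push Not at hcon
  have hTS : TS Q (perpPair Q x y) := by
    intro b hb
    obtain ⟨h1, h2⟩ := (mem_perpPair Q x y b).mp hb
    exact hcon b h1 h2
  have h1 := hTS.two_mul_finrank_le hQ
  have h2 := finrank_perpPair_ge Q x y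
  omega

/-- a non-zero singular vector perpendicular to a pair -/
theorem exists_singular_perp [Finite F] (Q : QuadraticForm F V) (h5 : 5 ≤ finrank F V) (x y : V) :
    ∃ z, z ≠ 0 ∧ Q z = 0 ∧ polar Q x z = 0 ∧ polar Q y z = 0 := by
  have h2 := finrank_perpPair_ge Q x y
  obtain ⟨z, hz, hQz⟩ := exists_singular_of_three_le_finrank (Q.comp (perpPair Q x y).subtype)
    (by omega)
  obtain ⟨h1, h2⟩ := (mem_perpPair Q x y z).mp z.2
  refine ⟨(z : V), ?_, ?_, h1, h2⟩
  · intro h
    apply hz
    exact Subtype.ext h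
  · simpa using hQz

/-- prescribed polar values against two independent vectors -/
theorem exists_polar_values (Q : QuadraticForm F V) (hQ : (polarBilin Q).Nondegenerate)
    (u u' : V) (hu : u ≠ 0) (hind : ∀ c : F, u' ≠ c • u) (s t : F) :
    ∃ w, polar Q u w = s ∧ polar Q u' w = t := by
  have hex : ∀ x : V, x ≠ 0 → ∃ w, polar Q x w = 1 := by
    intro x hx
    have h1 : ∃ y₀, polar Q x y₀ ≠ 0 := by
      by_contra hcon
      push Not at hcon
      exact hx (hQ.1 x hcon)
    obtain ⟨y₀, hy₀⟩ := h1
    exact ⟨(polar Q x y₀)⁻¹ • y₀, by rw [polar_smul_right, smul_eq_mul, inv_mul_cancel₀ hy₀]⟩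
  obtain ⟨w₁, hw₁⟩ := hex u hu
  obtain ⟨p, hp⟩ : ∃ p, p = polar Q u' w₁ := ⟨_, rfl⟩
  have hu'' : u' - p • u ≠ 0 := by
    intro h
    exact hind p (sub_eq_zero.mp h)
  obtain ⟨w₂, hw₂⟩ := hex _ hu''
  obtain ⟨q, hq⟩ : ∃ q, q = polar Q u w₂ := ⟨_, rfl⟩
  rw [polar_sub_left, polar_smul_left, smul_eq_mul, ← hq] at hw₂
  -- polar u' w₂ = 1 + p q
  refine ⟨(s - (t - p * s) * q) • w₁ + (t - p * s) • w₂, ?_, ?_⟩
  · rw [polar_add_right, polar_smul_right, polar_smul_right, hw₁, ← hq]
    simp only [smul_eq_mul]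
    ring
  · rw [polar_add_right, polar_smul_right, polar_smul_right, ← hp]
    have : polar Q u' w₂ = 1 + p * q := by linear_combination hw₂
    rw [this]
    simp only [smul_eq_mul]
    ring

/-- vectors of prescribed norm perpendicular to a non-degenerate plane -/
theorem exists_perp_value [Finite F] (Q : QuadraticForm F V) (hQ : (polarBilin Q).Nondegenerate)
    (h5 : 5 ≤ finrank F V) (a d : V)
    (hδ : polar Q a a * polar Q d d - polar Q a d * polar Q a d ≠ 0) (s : F) :
    ∃ y, polar Q a y = 0 ∧ polar Q d y = 0 ∧ Q y = s := by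
  obtain ⟨u, hu0, hQu, hau, hdu⟩ := exists_singular_perp Q h5 a d
  have hv : ∃ v, polar Q a v = 0 ∧ polar Q d v = 0 ∧ polar Q u v ≠ 0 := by
    by_contra hcon
    push Not at hcon
    apply hu0
    apply hQ.1
    intro z
    obtain ⟨δ, hδ'⟩ : ∃ δ, δ = polar Q a a * polar Q d d - polar Q a d * polar Q a d := ⟨_, rfl⟩
    rw [← hδ'] at hδ
    obtain ⟨l, hl⟩ : ∃ l, l = (polar Q a z * polar Q d d - polar Q d z * polar Q a d) / δ :=
      ⟨_, rfl⟩
    obtain ⟨m, hm⟩ : ∃ m, m = (polar Q d z * polar Q a a - polar Q a z * polar Q a d) / δ :=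
      ⟨_, rfl⟩
    have h1 : polar Q a (z - l • a - m • d) = 0 := by
      rw [polar_sub_right, polar_sub_right, polar_smul_right, polar_smul_right, hl, hm]
      simp only [smul_eq_mul]
      field_simp
      rw [hδ']
      ring
    have h2 : polar Q d (z - l • a - m • d) = 0 := by
      rw [polar_sub_right, polar_sub_right, polar_smul_right, polar_smul_right, hl, hm,
        polar_comm Q d a]
      simp only [smul_eq_mul]
      field_simp
      rw [hδ']
      ring
    have h3 := hcon _ h1 h2
    rw [polar_sub_right, polar_sub_right, polar_smul_right, polar_smul_right,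
      polar_comm Q u a, polar_comm Q u d, hau, hdu] at h3
    simpa using h3
  obtain ⟨v, hav, hdv, huv⟩ := hv
  refine ⟨v + ((s - Q v) / polar Q u v) • u, ?_, ?_, ?_⟩
  · rw [polar_add_right, polar_smul_right, hav, hau]; simp
  · rw [polar_add_right, polar_smul_right, hdv, hdu]; simp
  · rw [quad_add, QuadraticMap.map_smul, hQu, polar_smul_right, polar_comm Q v u]
    simp only [smul_eq_mul]
    field_simp
    ring

end

end Cfsg.Agent.Lib.Helper6
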