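import Mathlib
import Cfsg.Agent.Lib.Helper6.Dickson
import Cfsg.Agent.Lib.Helper6.Spinor3

/-!
# Products of reflections, in all characteristics, on `F^ι`

* `exists_list` / `exists_list'` : every isometry is a product of reflections (Cartan–Dieudonné);
* `mem_Omega_iff_list_two` / `mem_Omega_iff_list_two'` : in characteristic two, a product of reflections
  lies in `Ω` iff the number of factors is even;
* `index_Omega_two'` : `Ω` has index two (characteristic two), on `F^ι`;
* `mem_Omega_iff_list_all'` : the criterion in all characteristics.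
-/

set_option autoImplicit false
open Cfsg

namespace Cfsg.Agent.Lib.Helper6

open Matrix Cfsg.Agent.Lib.Helper14 Cfsg.Agent.S0792

section fin
variable {F : Type*} [Field F] {n : ℕ} (Q : QuadraticForm F (Fin n → F))

/-- a product of elements of `Rset` is a product of reflection matrices -/
theorem exists_list_of_Rset (l : List ↥(Cfsg.isometryGroup F ⇑Q)) (hl : ∀ x ∈ l, x ∈ Rset Q) :
    ∃ vs : List (Fin n → F), (∀ v ∈ vs, Q v ≠ 0) ∧
      imat Q l.prod = (vs.map (fun v => Cfsg.reflectionMatrix ⇑Q v)).prod := by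
  induction l with
  | nil => exact ⟨[], by simp, rfl⟩
  | cons x l ih =>
    obtain ⟨vs, hvs, hprod⟩ := ih (fun y hy => hl y (List.mem_cons_of_mem _ hy))
    obtain ⟨u, hu, hxu⟩ := hl x List.mem_cons_self
    refine ⟨u :: vs, ?_, ?_⟩
    · intro v hv
      rcases List.mem_cons.mp hv with rfl | hv
      · exact hu
      · exact hvs v hv
    · rw [List.prod_cons, imat_mul, hprod, List.map_cons, List.prod_cons]
      congr 1

/-- every isometry is a product of reflections -/
theorem exists_list (htop : Subgroup.closure (Rset Q) = ⊤) (g : ↥(Cfsg.isometryGroup F ⇑Q)) :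
    ∃ vs : List (Fin n → F), (∀ v ∈ vs, Q v ≠ 0) ∧
      imat Q g = (vs.map (fun v => Cfsg.reflectionMatrix ⇑Q v)).prod := by
  have hg : g ∈ Subgroup.closure (Rset Q) := by rw [htop]; trivial
  rw [← Subgroup.mem_toSubmonoid, Subgroup.closure_toSubmonoid] at hg
  obtain ⟨l, hl, rfl⟩ := Submonoid.exists_list_of_mem_closure hg
  apply exists_list_of_Rset
  intro x hx
  rcases hl x hx with h | h
  · exact h
  · obtain ⟨u, hu, hxu⟩ := h
    have e : x⁻¹ = mkRefl Q u hu := eq_mkRefl Q u hu _ hxu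
    have : x = mkRefl Q u hu := by
      rw [← inv_inv x, e]
      exact inv_eq_of_mul_eq_one_left (mkRefl_mul_self Q u hu)
    rw [this]
    exact ⟨u, hu, rfl⟩

/-- value of a homomorphism taking every reflection to `-1` on a product of reflections -/
theorem hom_list (θ : ↥(Cfsg.isometryGroup F ⇑Q) →* ℤˣ)
    (hθ : ∀ (a : Fin n → F) (ha : Q a ≠ 0), θ (mkRefl Q a ha) = -1)
    (vs : List (Fin n → F)) (hvs : ∀ v ∈ vs, Q v ≠ 0) :
    ∀ g : ↥(Cfsg.isometryGroup F ⇑Q),
      imat Q g = (vs.map (fun v => Cfsg.reflectionMatrix ⇑Q v)).prod → θ g = (-1) ^ vs.length := by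
  induction vs with
  | nil =>
    intro g hg
    have : g = 1 := by
      apply Subtype.ext
      apply Units.ext
      simpa using hg
    subst this
    simp
  | cons v vs ih =>
    intro g hg
    have hv : Q v ≠ 0 := hvs v (List.mem_cons_self)
    have hvs' : ∀ w ∈ vs, Q w ≠ 0 := fun w hw => hvs w (List.mem_cons_of_mem _ hw)
    rw [List.map_cons, List.prod_cons] at hg
    have h1 := ih hvs' (mkRefl Q v hv * g) (by
      have hm : imat Q (mkRefl Q v hv) = Cfsg.reflectionMatrix ⇑Q v := rfl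
      rw [imat_mul, hg, ← Matrix.mul_assoc, hm, Cfsg.Agent.S0792.refl_refl Q v hv,
        Matrix.one_mul])
    have hgg : g = mkRefl Q v hv * (mkRefl Q v hv * g) := by
      rw [← mul_assoc, mkRefl_mul_self, one_mul]
    rw [hgg, map_mul, h1, hθ, List.length_cons, pow_succ, mul_comm]

/-- in characteristic two, a product of reflections lies in `Ω` iff the number of factors is even -/
theorem mem_Omega_iff_list_two [Fintype F] (h2 : (2 : F) = 0)
    (hQ : (QuadraticMap.polarBilin Q).Nondegenerate)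
    (hn : 2 ≤ n) (h : Fintype.card F ≠ 2 ∨ n ≠ 4) (g : ↥(Cfsg.isometryGroup F ⇑Q))
    (vs : List (Fin n → F)) (hvs : ∀ v ∈ vs, Q v ≠ 0)
    (hg : imat Q g = (vs.map (fun v => Cfsg.reflectionMatrix ⇑Q v)).prod) :
    g ∈ Cfsg.Omega F ⇑Q ↔ Even vs.length := by
  obtain ⟨δ, hδ, -, hmem, -⟩ := dickson_main Q h2 hQ hn h
  rw [hmem g, hom_list Q δ hδ vs hvs g hg, neg_one_pow_eq_one_iff_even (by decide)]

end fin

section general
variable {F : Type*} [Field F] [Fintype F] {ι : Type} [Fintype ι] [DecidableEq ι]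
  (Q : QuadraticForm F (ι → F))

/-- every isometry is a product of reflections, on `F^ι` -/
theorem exists_list' (hQ : (QuadraticMap.polarBilin Q).Nondegenerate)
    (h : Fintype.card F ≠ 2 ∨ Fintype.card ι ≠ 4) (g : ↥(Cfsg.isometryGroup F ⇑Q)) :
    ∃ vs : List (ι → F), (∀ v ∈ vs, Q v ≠ 0) ∧
      ((g.1 : GL ι F) : Matrix ι ι F) = (vs.map (fun v => Cfsg.reflectionMatrix ⇑Q v)).prod := by
  have hQ' := nondegenerate_transfer Q (QFin Q) (reIdx F ι) (QFin_apply Q) hQ
  have htop := Cfsg.Agent.S0786.closure_Rset_eq_top (QFin Q) hQ' h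
  obtain ⟨ws, hws, hprod⟩ := exists_list (QFin Q) htop (isoFin Q g)
  refine ⟨ws.map (reIdx F ι).symm, ?_, ?_⟩
  · intro v hv
    obtain ⟨w, hw, rfl⟩ := List.mem_map.mp hv
    have := QFin_apply Q ((reIdx F ι).symm w)
    rw [LinearEquiv.apply_symm_apply] at this
    rw [← this]
    exact hws w hw
  · apply (matCongr (reIdx F ι)).injective
    rw [matCongr_list, ← isoFin_val, hprod, List.map_map]
    have : (⇑(reIdx F ι) ∘ ⇑(reIdx F ι).symm) = id := by
      funext w
      simp
    rw [List.map_map, Function.comp_assoc, this, Function.comp_id]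

/-- `Ω` has index `2` in characteristic two, on `F^ι` -/
theorem index_Omega_two' (h2 : (2 : F) = 0) (hQ : (QuadraticMap.polarBilin Q).Nondegenerate)
    (hcard : 2 ≤ Fintype.card ι) (h : Fintype.card F ≠ 2 ∨ Fintype.card ι ≠ 4) :
    (Cfsg.Omega F ⇑Q).index = 2 := by
  obtain ⟨δ, -, -, -, hidx⟩ := dickson_main (QFin Q) h2
    (nondegenerate_transfer Q (QFin Q) (reIdx F ι) (QFin_apply Q) hQ) hcard h
  rw [Subgroup.index_eq_card] at hidx ⊢
  rw [← hidx]
  exact Nat.card_congr
    (MulEquiv.ofBijective (isoFin Q) (isoFin_bijective Q)).abelianizationCongr.toEquiv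

/-- the criterion in characteristic two, on `F^ι` -/
theorem mem_Omega_iff_list_two' (h2 : (2 : F) = 0)
    (hQ : (QuadraticMap.polarBilin Q).Nondegenerate)
    (hcard : 2 ≤ Fintype.card ι) (h : Fintype.card F ≠ 2 ∨ Fintype.card ι ≠ 4)
    (g : ↥(Cfsg.isometryGroup F ⇑Q)) (vs : List (ι → F))
    (hvs : ∀ v ∈ vs, Q v ≠ 0)
    (hg : ((g.1 : GL ι F) : Matrix ι ι F) = (vs.map (fun v => Cfsg.reflectionMatrix ⇑Q v)).prod) :
    g ∈ Cfsg.Omega F ⇑Q ↔ Even vs.length := by
  rw [mem_commutator_iff_of_bijective (isoFin Q) (isoFin_bijective Q)]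
  have h1 := mem_Omega_iff_list_two (QFin Q) h2
    (nondegenerate_transfer Q (QFin Q) (reIdx F ι) (QFin_apply Q) hQ) hcard h (isoFin Q g)
    (vs.map (reIdx F ι)) (by
      intro v hv
      obtain ⟨w, hw, rfl⟩ := List.mem_map.mp hv
      rw [QFin_apply]
      exact hvs w hw) (by
      rw [isoFin_val, hg, matCongr_list])
  rw [h1, List.length_map]

/-- the criterion in all characteristics, on `F^ι` -/
theorem mem_Omega_iff_list_all' (hQ : (QuadraticMap.polarBilin Q).Nondegenerate)
    (hcard : 2 ≤ Fintype.card ι) (h : Fintype.card F ≠ 2 ∨ Fintype.card ι ≠ 4)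
    (g : ↥(Cfsg.isometryGroup F ⇑Q)) (vs : List (ι → F))
    (hvs : ∀ v ∈ vs, Q v ≠ 0)
    (hg : ((g.1 : GL ι F) : Matrix ι ι F) = (vs.map (fun v => Cfsg.reflectionMatrix ⇑Q v)).prod) :
    g ∈ Cfsg.Omega F ⇑Q ↔
      (Even vs.length ∧ ((2 : F) ≠ 0 → IsSquare (vs.map (fun v => Q v)).prod)) := by
  classical
  by_cases h2 : (2 : F) = 0
  · rw [mem_Omega_iff_list_two' Q h2 hQ hcard h g vs hvs hg]
    constructor
    · intro he
      exact ⟨he, fun hne => absurd h2 hne⟩
    · intro he
      exact he.1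
  · rw [mem_Omega_iff_list' Q h2 hQ hcard g vs hvs hg]
    constructor
    · intro he
      exact ⟨he.1, fun _ => he.2⟩
    · intro he
      exact ⟨he.1, he.2 h2⟩

end general

end Cfsg.Agent.Lib.Helper6
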