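import Mathlib
import Cfsg.Agent.Lib.Helper6.Quad
import Cfsg.Agent.Lib.Helper6.Symp

/-!
# General Siegel transformations of a quadratic form on `F^ι`

For `u` singular and `w ⟂ u`, the Siegel transformation is
`ρ_{u,w} : x ↦ x + f(w,x) u - f(u,x) w - Q(w) f(u,x) u`.
-/

set_option autoImplicit false

namespace Cfsg.Agent.Lib.Helper6

open Matrix

section
variable {F : Type*} [Field F] {ι : Type} [Fintype ι] [DecidableEq ι]
  (Q : QuadraticForm F (ι → F))

/-- the action of an isometry on vectors -/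
def gact (g : ↥(Cfsg.isometryGroup F ⇑Q)) (x : ι → F) : ι → F :=
  ((g.1 : GL ι F) : Matrix ι ι F) *ᵥ x

theorem gact_def (g : ↥(Cfsg.isometryGroup F ⇑Q)) (x : ι → F) :
    gact Q g x = ((g.1 : GL ι F) : Matrix ι ι F) *ᵥ x := rfl

theorem Q_gact (g : ↥(Cfsg.isometryGroup F ⇑Q)) (x : ι → F) : Q (gact Q g x) = Q x :=
  g.2 x x

theorem gact_add (g : ↥(Cfsg.isometryGroup F ⇑Q)) (x y : ι → F) :
    gact Q g (x + y) = gact Q g x + gact Q g y := Matrix.mulVec_add _ _ _

theorem gact_sub (g : ↥(Cfsg.isometryGroup F ⇑Q)) (x y : ι → F) :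
    gact Q g (x - y) = gact Q g x - gact Q g y := Matrix.mulVec_sub _ _ _

theorem gact_smul (g : ↥(Cfsg.isometryGroup F ⇑Q)) (a : F) (x : ι → F) :
    gact Q g (a • x) = a • gact Q g x := Matrix.mulVec_smul _ _ _

theorem gact_neg (g : ↥(Cfsg.isometryGroup F ⇑Q)) (x : ι → F) :
    gact Q g (-x) = -gact Q g x := Matrix.mulVec_neg _ _

theorem gact_zero (g : ↥(Cfsg.isometryGroup F ⇑Q)) : gact Q g 0 = 0 := Matrix.mulVec_zero _

theorem gact_one (x : ι → F) : gact Q 1 x = x := Matrix.one_mulVec x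

theorem gact_mul (g h : ↥(Cfsg.isometryGroup F ⇑Q)) (x : ι → F) :
    gact Q (g * h) x = gact Q g (gact Q h x) := by
  unfold gact
  rw [Matrix.mulVec_mulVec]
  rfl

theorem gact_inv_gact (g : ↥(Cfsg.isometryGroup F ⇑Q)) (x : ι → F) :
    gact Q g⁻¹ (gact Q g x) = x := by
  rw [← gact_mul, inv_mul_cancel, gact_one]

theorem gact_gact_inv (g : ↥(Cfsg.isometryGroup F ⇑Q)) (x : ι → F) :
    gact Q g (gact Q g⁻¹ x) = x := by
  rw [← gact_mul, mul_inv_cancel, gact_one]

theorem polar_gact (g : ↥(Cfsg.isometryGroup F ⇑Q)) (x y : ι → F) :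
    QuadraticMap.polar (⇑Q) (gact Q g x) (gact Q g y) = QuadraticMap.polar (⇑Q) x y := by
  unfold QuadraticMap.polar
  rw [← gact_add, Q_gact, Q_gact, Q_gact]

theorem gact_eq_zero_iff (g : ↥(Cfsg.isometryGroup F ⇑Q)) (x : ι → F) :
    gact Q g x = 0 ↔ x = 0 := by
  constructor
  · intro h
    have := congrArg (gact Q g⁻¹) h
    rwa [gact_inv_gact, gact_zero] at this
  · rintro rfl
    exact gact_zero Q g

/-- equality of isometries from equality of actions -/
theorem iso_ext_gact {g h : ↥(Cfsg.isometryGroup F ⇑Q)} (H : ∀ x, gact Q g x = gact Q h x) :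
    g = h := by
  apply Subtype.ext
  apply Units.ext
  exact matrix_ext_mulVec H

/-- constructor for isometries -/
def mkIso (M N : Matrix ι ι F) (h1 : M * N = 1) (h2 : N * M = 1)
    (hM : ∀ x, Q (M *ᵥ x) = Q x) : ↥(Cfsg.isometryGroup F ⇑Q) :=
  ⟨⟨M, N, h1, h2⟩, fun u _ => hM u⟩

theorem gact_mkIso (M N : Matrix ι ι F) (h1 : M * N = 1) (h2 : N * M = 1)
    (hM : ∀ x, Q (M *ᵥ x) = Q x) (x : ι → F) : gact Q (mkIso Q M N h1 h2 hM) x = M *ᵥ x := rfl

/-- expansion of `Q` on `x + a u + b w` -/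
theorem Q_expand (x u w : ι → F) (a b : F) :
    Q (x + a • u + b • w) = Q x + a * a * Q u + b * b * Q w + a * QuadraticMap.polar (⇑Q) x u + b * QuadraticMap.polar (⇑Q) x w
      + a * b * QuadraticMap.polar (⇑Q) u w := by
  rw [Q_add, Q_add, Q_smul, Q_smul, QuadraticMap.polar_add_left, QuadraticMap.polar_smul_right,
    QuadraticMap.polar_smul_right, QuadraticMap.polar_smul_right, QuadraticMap.polar_smul_left]
  simp only [smul_eq_mul]
  ring

/-- the matrix of the Siegel transformation -/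
def sieg (u w : ι → F) : Matrix ι ι F :=
  1 + vecMulVec u (Cfsg.polarVec ⇑Q w) - vecMulVec w (Cfsg.polarVec ⇑Q u)
    - Q w • vecMulVec u (Cfsg.polarVec ⇑Q u)

theorem sieg_mulVec (u w x : ι → F) :
    sieg Q u w *ᵥ x = x + (QuadraticMap.polar (⇑Q) w x - Q w * QuadraticMap.polar (⇑Q) u x) • u + (-(QuadraticMap.polar (⇑Q) u x)) • w := by
  unfold sieg
  rw [sub_mulVec, sub_mulVec, add_mulVec, one_mulVec, smul_mulVec, vecMulVec_mulVec,
    vecMulVec_mulVec, vecMulVec_mulVec, polarVec_dot, polarVec_dot]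
  ext i
  simp only [Pi.add_apply, Pi.sub_apply, Pi.smul_apply, MulOpposite.smul_eq_mul_unop,
    MulOpposite.unop_op, smul_eq_mul]
  ring

theorem sieg_form (u w : ι → F) (hu : Q u = 0) (huw : QuadraticMap.polar (⇑Q) u w = 0) (x : ι → F) :
    Q (sieg Q u w *ᵥ x) = Q x := by
  rw [sieg_mulVec, Q_expand, hu, huw, QuadraticMap.polar_comm (⇑Q) x u,
    QuadraticMap.polar_comm (⇑Q) x w]
  ring

theorem sieg_zero (u : ι → F) : sieg Q u 0 = 1 := by
  apply matrix_ext_mulVec
  intro x
  rw [sieg_mulVec, one_mulVec]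
  simp

theorem sieg_mul (u w w' : ι → F) (hu : Q u = 0) (huw : QuadraticMap.polar (⇑Q) u w = 0) (huw' : QuadraticMap.polar (⇑Q) u w' = 0) :
    sieg Q u w * sieg Q u w' = sieg Q u (w + w') := by
  apply matrix_ext_mulVec
  intro x
  rw [← mulVec_mulVec, sieg_mulVec Q u w', sieg_mulVec Q u w, sieg_mulVec Q u (w + w')]
  have hself : QuadraticMap.polar (⇑Q) u u = 0 := by
    rw [QuadraticMap.polar_self, hu, smul_zero]
  simp only [QuadraticMap.polar_add_right, QuadraticMap.polar_add_left,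
    QuadraticMap.polar_smul_right, QuadraticMap.polar_smul_left, smul_eq_mul, huw, huw', hself,
    Q_add, QuadraticMap.polar_comm (⇑Q) w u, QuadraticMap.polar_comm (⇑Q) w' u]
  ext i
  simp only [Pi.add_apply, Pi.smul_apply, smul_eq_mul]
  ring

/-- the Siegel transformation as an isometry -/
def siegIso (u w : ι → F) (hu : Q u = 0) (huw : QuadraticMap.polar (⇑Q) u w = 0) : ↥(Cfsg.isometryGroup F ⇑Q) :=
  mkIso Q (sieg Q u w) (sieg Q u (-w))
    (by rw [sieg_mul Q u w (-w) hu huw (by rw [QuadraticMap.polar_neg_right, huw, neg_zero]),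
      add_neg_cancel, sieg_zero])
    (by rw [sieg_mul Q u (-w) w hu (by rw [QuadraticMap.polar_neg_right, huw, neg_zero]) huw,
      neg_add_cancel, sieg_zero])
    (sieg_form Q u w hu huw)

theorem gact_siegIso (u w : ι → F) (hu : Q u = 0) (huw : QuadraticMap.polar (⇑Q) u w = 0) (x : ι → F) :
    gact Q (siegIso Q u w hu huw) x = x + (QuadraticMap.polar (⇑Q) w x - Q w * QuadraticMap.polar (⇑Q) u x) • u + (-(QuadraticMap.polar (⇑Q) u x)) • w :=
  sieg_mulVec Q u w x

theorem siegIso_mul (u w w' : ι → F) (hu : Q u = 0) (huw : QuadraticMap.polar (⇑Q) u w = 0) (huw' : QuadraticMap.polar (⇑Q) u w' = 0) :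
    siegIso Q u w hu huw * siegIso Q u w' hu huw' =
      siegIso Q u (w + w') hu (by rw [QuadraticMap.polar_add_right, huw, huw', add_zero]) := by
  apply Subtype.ext
  apply Units.ext
  exact sieg_mul Q u w w' hu huw huw'

theorem siegIso_zero (u : ι → F) (hu : Q u = 0) :
    siegIso Q u 0 hu (by simp) = 1 := by
  apply Subtype.ext
  apply Units.ext
  exact sieg_zero Q u

theorem siegIso_congr (u w w' : ι → F) (hu : Q u = 0) (huw : QuadraticMap.polar (⇑Q) u w = 0) (h : w = w') :
    siegIso Q u w hu huw = siegIso Q u w' hu (h ▸ huw) := by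
  subst h; rfl

theorem siegIso_inv (u w : ι → F) (hu : Q u = 0) (huw : QuadraticMap.polar (⇑Q) u w = 0) :
    (siegIso Q u w hu huw)⁻¹ =
      siegIso Q u (-w) hu (by rw [QuadraticMap.polar_neg_right, huw, neg_zero]) := by
  rw [inv_eq_iff_mul_eq_one, siegIso_mul]
  rw [siegIso_congr Q u (w + -w) 0 hu _ (add_neg_cancel w)]
  exact siegIso_zero Q u hu

/-- conjugation of Siegel transformations -/
theorem conj_siegIso (g : ↥(Cfsg.isometryGroup F ⇑Q)) (u w : ι → F) (hu : Q u = 0)
    (huw : QuadraticMap.polar (⇑Q) u w = 0) :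
    g * siegIso Q u w hu huw * g⁻¹ =
      siegIso Q (gact Q g u) (gact Q g w) (by rw [Q_gact, hu]) (by rw [polar_gact, huw]) := by
  apply iso_ext_gact
  intro x
  rw [gact_mul, gact_mul, gact_siegIso, gact_siegIso, gact_add, gact_add, gact_smul, gact_smul,
    gact_gact_inv, Q_gact]
  have h1 : QuadraticMap.polar (⇑Q) w (gact Q g⁻¹ x) = QuadraticMap.polar (⇑Q) (gact Q g w) x := by
    rw [← polar_gact Q g w, gact_gact_inv]
  have h2 : QuadraticMap.polar (⇑Q) u (gact Q g⁻¹ x) = QuadraticMap.polar (⇑Q) (gact Q g u) x := by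
    rw [← polar_gact Q g u, gact_gact_inv]
  rw [h1, h2]

/-- scaling the singular vector -/
theorem siegIso_smul_left (t : F) (u w : ι → F) (hu : Q u = 0) (huw : QuadraticMap.polar (⇑Q) u w = 0) :
    siegIso Q (t • u) w (by rw [Q_smul, hu, mul_zero])
      (by rw [QuadraticMap.polar_smul_left, huw, smul_zero]) =
    siegIso Q u (t • w) hu (by rw [QuadraticMap.polar_smul_right, huw, smul_zero]) := by
  apply iso_ext_gact
  intro x
  rw [gact_siegIso, gact_siegIso, Q_smul]
  simp only [QuadraticMap.polar_smul_left, smul_eq_mul, smul_smul]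
  ext i
  simp only [Pi.add_apply, Pi.smul_apply, smul_eq_mul]
  ring

/-- adding a multiple of `u` to `w` does not change the transformation -/
theorem siegIso_add_smul (t : F) (u w : ι → F) (hu : Q u = 0) (huw : QuadraticMap.polar (⇑Q) u w = 0) :
    siegIso Q u (w + t • u) hu (by
      rw [QuadraticMap.polar_add_right, huw, QuadraticMap.polar_smul_right,
        QuadraticMap.polar_self, hu]; simp) = siegIso Q u w hu huw := by
  apply iso_ext_gact
  intro x
  rw [gact_siegIso, gact_siegIso, Q_add, Q_smul, hu]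
  simp only [QuadraticMap.polar_add_left, QuadraticMap.polar_smul_left,
    QuadraticMap.polar_smul_right, smul_eq_mul, QuadraticMap.polar_comm (⇑Q) w u, huw]
  ext i
  simp only [Pi.add_apply, Pi.smul_apply, smul_eq_mul]
  ring

/-- the product of two reflections is a Siegel transformation -/
theorem refl_mul_refl (u w : ι → F) (hu : Q u = 0) (huw : QuadraticMap.polar (⇑Q) u w = 0) (hw : Q w ≠ 0) :
    Cfsg.reflectionMatrix ⇑Q w * Cfsg.reflectionMatrix ⇑Q (w - Q w • u) = sieg Q u w := by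
  apply matrix_ext_mulVec
  intro x
  have hQ' : Q (w - Q w • u) = Q w := by
    rw [Q_sub, Q_smul, hu, QuadraticMap.polar_smul_right, QuadraticMap.polar_comm (⇑Q) w u, huw]
    simp
  rw [← mulVec_mulVec, reflectionMatrix_mulVec, reflectionMatrix_mulVec, sieg_mulVec, hQ']
  simp only [QuadraticMap.polar_sub_left, QuadraticMap.polar_sub_right,
    QuadraticMap.polar_smul_left, QuadraticMap.polar_smul_right, smul_eq_mul,
    QuadraticMap.polar_self, QuadraticMap.polar_comm (⇑Q) w u, huw, hu, nsmul_eq_mul]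
  ext i
  simp only [Pi.add_apply, Pi.sub_apply, Pi.smul_apply, smul_eq_mul]
  field_simp
  ring

end

end Cfsg.Agent.Lib.Helper6
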