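import Mathlib
import Cfsg.Agent.Lib.Helper6.Siegel
import Cfsg.Agent.Lib.Helper6.SiegelExist
import Cfsg.Agent.Lib.Helper6.OmegaList

/-!
# `Ω` is generated by the Siegel transformations (dimension at least five, finite field)
-/

set_option autoImplicit false

namespace Cfsg.Agent.Lib.Helper6

open Matrix

/-- a normal subgroup containing the commutators of a generating set contains the commutator
subgroup -/
theorem commutator_le_of_gens {G : Type*} [Group G] (N : Subgroup G) [N.Normal] (R : Set G)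
    (hR : Subgroup.closure R = ⊤) (h : ∀ r ∈ R, ∀ s ∈ R, r * s * r⁻¹ * s⁻¹ ∈ N) :
    commutator G ≤ N := by
  apply Subgroup.Normal.quotient_commutative_iff_commutator_le.mp
  have hcl : Subgroup.closure ((QuotientGroup.mk' N) '' R) = ⊤ := by
    rw [← MonoidHom.map_closure, hR, ← MonoidHom.range_eq_map, MonoidHom.range_eq_top]
    exact QuotientGroup.mk'_surjective N
  have hcomm : ∀ r ∈ R, ∀ s ∈ R, (QuotientGroup.mk' N r) * (QuotientGroup.mk' N s) =
      (QuotientGroup.mk' N s) * (QuotientGroup.mk' N r) := by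
    intro r hr s hs
    have h0 : QuotientGroup.mk' N (r * s * r⁻¹ * s⁻¹) = 1 :=
      (QuotientGroup.eq_one_iff _).mpr (h r hr s hs)
    rw [map_mul, map_mul, map_mul, map_inv, map_inv, ← commutatorElement_def,
      commutatorElement_eq_one_iff_mul_comm] at h0
    exact h0
  have h1 : ∀ x : G ⧸ N, ∀ s ∈ R, x * (QuotientGroup.mk' N s) = (QuotientGroup.mk' N s) * x := by
    intro x s hs
    have hx : x ∈ Subgroup.closure ((QuotientGroup.mk' N) '' R) := by rw [hcl]; trivial
    induction hx using Subgroup.closure_induction with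
    | mem y hy =>
      obtain ⟨r, hr, rfl⟩ := hy
      exact hcomm r hr s hs
    | one => simp
    | mul a b _ _ ha hb => rw [mul_assoc, hb, ← mul_assoc, ha, mul_assoc]
    | inv a _ ha => exact Commute.inv_left ha
  refine ⟨⟨fun x y => ?_⟩⟩
  have hy : y ∈ Subgroup.closure ((QuotientGroup.mk' N) '' R) := by rw [hcl]; trivial
  induction hy using Subgroup.closure_induction with
  | mem z hz =>
    obtain ⟨s, hs, rfl⟩ := hz
    exact h1 x s hs
  | one => simp
  | mul a b _ _ ha hb => rw [← mul_assoc, ha, mul_assoc, hb, ← mul_assoc]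
  | inv a _ ha => exact Commute.inv_right ha

section
variable {F : Type*} [Field F] {ι : Type} [Fintype ι] [DecidableEq ι]
  (Q : QuadraticForm F (ι → F))

theorem refl_sq (a : ι → F) (ha : Q a ≠ 0) :
    Cfsg.reflectionMatrix ⇑Q a * Cfsg.reflectionMatrix ⇑Q a = 1 := by
  apply matrix_ext_mulVec
  intro x
  rw [← mulVec_mulVec, one_mulVec, reflectionMatrix_mulVec, reflectionMatrix_mulVec,
    QuadraticMap.polar_sub_right, QuadraticMap.polar_smul_right, QuadraticMap.polar_self]
  ext i
  simp only [Pi.sub_apply, Pi.smul_apply, smul_eq_mul, nsmul_eq_mul, Nat.cast_ofNat]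
  field_simp
  ring

theorem refl_form (a : ι → F) (ha : Q a ≠ 0) (x : ι → F) :
    Q (Cfsg.reflectionMatrix ⇑Q a *ᵥ x) = Q x := by
  rw [reflectionMatrix_mulVec, Q_sub, Q_smul, QuadraticMap.polar_smul_right,
    QuadraticMap.polar_comm (⇑Q) x a]
  simp only [smul_eq_mul]
  field_simp
  ring

/-- the reflection as an isometry -/
def reflIso (a : ι → F) (ha : Q a ≠ 0) : ↥(Cfsg.isometryGroup F ⇑Q) :=
  mkIso Q (Cfsg.reflectionMatrix ⇑Q a) (Cfsg.reflectionMatrix ⇑Q a) (refl_sq Q a ha)
    (refl_sq Q a ha) (refl_form Q a ha)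

theorem gact_reflIso (a : ι → F) (ha : Q a ≠ 0) (x : ι → F) :
    gact Q (reflIso Q a ha) x = x - ((Q a)⁻¹ * QuadraticMap.polar (⇑Q) a x) • a :=
  reflectionMatrix_mulVec Q a x

theorem reflIso_val (a : ι → F) (ha : Q a ≠ 0) :
    (((reflIso Q a ha).1 : GL ι F) : Matrix ι ι F) = Cfsg.reflectionMatrix ⇑Q a := rfl

theorem reflIso_mul_self (a : ι → F) (ha : Q a ≠ 0) : reflIso Q a ha * reflIso Q a ha = 1 := by
  apply Subtype.ext
  apply Units.ext
  exact refl_sq Q a ha

theorem reflIso_inv (a : ι → F) (ha : Q a ≠ 0) : (reflIso Q a ha)⁻¹ = reflIso Q a ha :=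
  inv_eq_of_mul_eq_one_left (reflIso_mul_self Q a ha)

theorem reflIso_congr (a a' : ι → F) (ha : Q a ≠ 0) (h : a = a') :
    reflIso Q a ha = reflIso Q a' (h ▸ ha) := by
  subst h; rfl

theorem conj_reflIso (g : ↥(Cfsg.isometryGroup F ⇑Q)) (a : ι → F) (ha : Q a ≠ 0) :
    g * reflIso Q a ha * g⁻¹ = reflIso Q (gact Q g a) (by rw [Q_gact]; exact ha) := by
  apply iso_ext_gact
  intro x
  rw [gact_mul, gact_mul, gact_reflIso, gact_reflIso, gact_sub, gact_smul, gact_gact_inv, Q_gact]
  have h1 : QuadraticMap.polar (⇑Q) a (gact Q g⁻¹ x) = QuadraticMap.polar (⇑Q) (gact Q g a) x := by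
    rw [← polar_gact Q g a, gact_gact_inv]
  rw [h1]

theorem reflIso_neg (a : ι → F) (ha : Q a ≠ 0) :
    reflIso Q (-a) (by rw [QuadraticMap.map_neg]; exact ha) = reflIso Q a ha := by
  apply iso_ext_gact
  intro x
  rw [gact_reflIso, gact_reflIso, QuadraticMap.map_neg, QuadraticMap.polar_neg_left]
  simp

/-- the set of reflections -/
def reflSet : Set ↥(Cfsg.isometryGroup F ⇑Q) := {g | ∃ a, ∃ ha : Q a ≠ 0, g = reflIso Q a ha}

theorem mem_closure_reflSet_of_list (vs : List (ι → F)) (hvs : ∀ v ∈ vs, Q v ≠ 0) :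
    ∀ g : ↥(Cfsg.isometryGroup F ⇑Q),
      ((g.1 : GL ι F) : Matrix ι ι F) = (vs.map (fun v => Cfsg.reflectionMatrix ⇑Q v)).prod →
      g ∈ Subgroup.closure (reflSet Q) := by
  induction vs with
  | nil =>
    intro g hg
    have : g = 1 := by
      apply Subtype.ext
      apply Units.ext
      simpa using hg
    rw [this]
    exact Subgroup.one_mem _
  | cons v vs ih =>
    intro g hg
    have hv : Q v ≠ 0 := hvs v List.mem_cons_self
    have hvs' : ∀ w ∈ vs, Q w ≠ 0 := fun w hw => hvs w (List.mem_cons_of_mem _ hw)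
    rw [List.map_cons, List.prod_cons] at hg
    have h1 := ih hvs' (reflIso Q v hv * g) (by
      change Cfsg.reflectionMatrix ⇑Q v * ((g.1 : GL ι F) : Matrix ι ι F) = _
      rw [hg, ← Matrix.mul_assoc, refl_sq Q v hv, Matrix.one_mul])
    have hgg : g = reflIso Q v hv * (reflIso Q v hv * g) := by
      rw [← mul_assoc, reflIso_mul_self, one_mul]
    rw [hgg]
    exact Subgroup.mul_mem _ (Subgroup.subset_closure ⟨v, hv, rfl⟩) h1

theorem closure_reflSet [Fintype F] (hQ : (QuadraticMap.polarBilin Q).Nondegenerate)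
    (h : Fintype.card F ≠ 2 ∨ Fintype.card ι ≠ 4) : Subgroup.closure (reflSet Q) = ⊤ := by
  rw [eq_top_iff]
  intro g _
  obtain ⟨vs, hvs, hg⟩ := exists_list' Q hQ h g
  exact mem_closure_reflSet_of_list Q vs hvs g hg

/-- the set of Siegel transformations -/
def siegSet : Set ↥(Cfsg.isometryGroup F ⇑Q) :=
  {g | ∃ (u w : ι → F) (hu : Q u = 0) (huw : QuadraticMap.polar (⇑Q) u w = 0),
    g = siegIso Q u w hu huw}

/-- the subgroup generated by the Siegel transformations -/
def Sg : Subgroup ↥(Cfsg.isometryGroup F ⇑Q) := Subgroup.closure (siegSet Q)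

theorem siegIso_mem_Sg (u w : ι → F) (hu : Q u = 0) (huw : QuadraticMap.polar (⇑Q) u w = 0) :
    siegIso Q u w hu huw ∈ Sg Q :=
  Subgroup.subset_closure ⟨u, w, hu, huw, rfl⟩

instance Sg_normal : (Sg Q).Normal := by
  constructor
  intro n hn g
  unfold Sg at hn ⊢
  induction hn using Subgroup.closure_induction with
  | mem x hx =>
    obtain ⟨u, w, hu, huw, rfl⟩ := hx
    rw [conj_siegIso]
    exact Subgroup.subset_closure ⟨_, _, _, _, rfl⟩
  | one => simp
  | mul a b _ _ ha hb =>
    have : g * (a * b) * g⁻¹ = (g * a * g⁻¹) * (g * b * g⁻¹) := by group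
    rw [this]
    exact Subgroup.mul_mem _ ha hb
  | inv a _ ha =>
    have : g * a⁻¹ * g⁻¹ = (g * a * g⁻¹)⁻¹ := by group
    rw [this]
    exact Subgroup.inv_mem _ ha

/-- two reflections with singular difference -/
theorem reflIso_mul_reflIso_of_singular (a d : ι → F) (ha : Q a ≠ 0) (hd : Q d = 0)
    (had : Q (a + d) = Q a) :
    reflIso Q a ha * reflIso Q (a + d) (by rw [had]; exact ha) ∈ Sg Q := by
  have hpol : QuadraticMap.polar (⇑Q) a d = 0 := by
    rw [Q_add, hd] at had
    linear_combination had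
  have hu : Q (-(Q a)⁻¹ • d) = 0 := by rw [Q_smul, hd, mul_zero]
  have huw : QuadraticMap.polar (⇑Q) (-(Q a)⁻¹ • d) a = 0 := by
    rw [QuadraticMap.polar_smul_left, QuadraticMap.polar_comm, hpol, smul_zero]
  have key : reflIso Q a ha * reflIso Q (a + d) (by rw [had]; exact ha) =
      siegIso Q (-(Q a)⁻¹ • d) a hu huw := by
    apply Subtype.ext
    apply Units.ext
    change Cfsg.reflectionMatrix ⇑Q a * Cfsg.reflectionMatrix ⇑Q (a + d) = sieg Q _ a
    rw [← refl_mul_refl Q _ a hu huw ha]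
    congr 2
    rw [smul_smul, mul_neg, mul_inv_cancel₀ ha, neg_smul, one_smul, sub_neg_eq_add]
  rw [key]
  exact siegIso_mem_Sg Q _ _ hu huw

end

section finite
variable {F : Type*} [Field F] [Fintype F] {ι : Type} [Fintype ι] [DecidableEq ι]
  (Q : QuadraticForm F (ι → F))

/-- products of two reflections in vectors of the same norm lie in `Sg` -/
theorem refl_pair_mem_Sg (hQ : (QuadraticMap.polarBilin Q).Nondegenerate)
    (h5 : 5 ≤ Fintype.card ι) (a a' : ι → F) (ha : Q a ≠ 0) (haa' : Q a' = Q a) :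
    reflIso Q a ha * reflIso Q a' (by rw [haa']; exact ha) ∈ Sg Q := by
  have hfin : 5 ≤ Module.finrank F (ι → F) := by
    rw [Module.finrank_fintype_fun_eq_card]; exact h5
  obtain ⟨d, hd⟩ : ∃ d, d = a' - a := ⟨_, rfl⟩
  have ha' : a' = a + d := by rw [hd]; abel
  obtain ⟨c, hc⟩ : ∃ c, c = Q a := ⟨_, rfl⟩
  obtain ⟨t, ht⟩ : ∃ t, t = Q d := ⟨_, rfl⟩
  have hpol : QuadraticMap.polar (⇑Q) a d = -t := by
    have := haa'
    rw [ha', Q_add, ← ht] at this
    linear_combination this
  by_cases ht0 : t = 0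
  · -- singular difference
    have := reflIso_mul_reflIso_of_singular Q a d ha (by rw [← ht, ht0]) (by rw [← ha', haa'])
    rw [reflIso_congr Q a' (a + d) _ ha']
    exact this
  by_cases hD : 4 * c - t = 0
  · -- `a + a'` is singular
    obtain ⟨e, he⟩ : ∃ e, e = -(a + a') := ⟨_, rfl⟩
    have hQe : Q e = 0 := by
      rw [he, QuadraticMap.map_neg, ha', Q_add, Q_add, ← hc, ← ht,
        QuadraticMap.polar_add_right, QuadraticMap.polar_self, hpol, ← hc]
      simp only [nsmul_eq_mul, Nat.cast_ofNat]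
      linear_combination hD
    have hae : a + e = -a' := by rw [he]; abel
    have h1 := reflIso_mul_reflIso_of_singular Q a e ha hQe (by
      rw [hae, QuadraticMap.map_neg, haa'])
    rw [reflIso_congr Q (a + e) (-a') _ hae, reflIso_neg Q a' (by rw [haa']; exact ha)] at h1
    exact h1
  -- the general case
  have hδ : QuadraticMap.polar (⇑Q) a a * QuadraticMap.polar (⇑Q) d d -
      QuadraticMap.polar (⇑Q) a d * QuadraticMap.polar (⇑Q) a d ≠ 0 := by
    rw [QuadraticMap.polar_self, QuadraticMap.polar_self, hpol, ← hc, ← ht]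
    simp only [nsmul_eq_mul, Nat.cast_ofNat]
    have : (2 : F) * c * (2 * t) - -t * -t = t * (4 * c - t) := by ring
    rw [this]
    exact mul_ne_zero ht0 hD
  obtain ⟨α, hα⟩ : ∃ α, α = t / (4 * c - t) := ⟨_, rfl⟩
  obtain ⟨β, hβ⟩ : ∃ β, β = 2 * c / (4 * c - t) := ⟨_, rfl⟩
  obtain ⟨y, hay, hdy, hQy⟩ := exists_perp_value Q hQ hfin a d hδ
    (-(α * α * c + β * β * t - α * β * t))
  obtain ⟨x, hx⟩ : ∃ x, x = y + α • a + β • d := ⟨_, rfl⟩
  have hax : QuadraticMap.polar (⇑Q) a x = 0 := by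
    rw [hx, QuadraticMap.polar_add_right, QuadraticMap.polar_add_right,
      QuadraticMap.polar_smul_right, QuadraticMap.polar_smul_right, QuadraticMap.polar_self, hpol,
      hay, ← hc, hα, hβ]
    simp only [nsmul_eq_mul, Nat.cast_ofNat, smul_eq_mul]
    field_simp
    ring
  have hdx : QuadraticMap.polar (⇑Q) d x = t := by
    rw [hx, QuadraticMap.polar_add_right, QuadraticMap.polar_add_right,
      QuadraticMap.polar_smul_right, QuadraticMap.polar_smul_right, QuadraticMap.polar_self,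
      QuadraticMap.polar_comm (⇑Q) d a, hpol, hdy, ← ht, hα, hβ]
    simp only [nsmul_eq_mul, Nat.cast_ofNat, smul_eq_mul]
    field_simp
    ring
  have hQx : Q x = 0 := by
    rw [hx, Q_expand, QuadraticMap.polar_comm (⇑Q) y a, QuadraticMap.polar_comm (⇑Q) y d,
      hay, hdy, hpol, hQy, ← hc, ← ht]
    ring
  -- the intermediate vector
  have hQa'' : Q (a + x) = Q a := by
    rw [Q_add, hQx, hax]; ring
  have hQdx : Q (d - x) = 0 := by
    rw [Q_sub, hQx, hdx, ← ht]; ring
  have h1 := reflIso_mul_reflIso_of_singular Q a x ha hQx hQa''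
  have ha'' : a' = (a + x) + (d - x) := by rw [ha']; abel
  have h2 := reflIso_mul_reflIso_of_singular Q (a + x) (d - x) (by rw [hQa'']; exact ha) hQdx
    (by rw [← ha'', haa', hQa''])
  have e : reflIso Q a ha * reflIso Q a' (by rw [haa']; exact ha) =
      (reflIso Q a ha * reflIso Q (a + x) (by rw [hQa'']; exact ha)) *
        (reflIso Q (a + x) (by rw [hQa'']; exact ha) *
          reflIso Q ((a + x) + (d - x)) (by rw [← ha'', haa']; exact ha)) := by
    rw [mul_assoc, ← mul_assoc (reflIso Q (a + x) _), reflIso_mul_self, one_mul]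
    congr 1
    exact reflIso_congr Q a' _ _ ha''
  rw [e]
  exact Subgroup.mul_mem _ h1 h2

/-- `Ω ≤ Sg` -/
theorem Omega_le_Sg (hQ : (QuadraticMap.polarBilin Q).Nondegenerate)
    (h5 : 5 ≤ Fintype.card ι) : Cfsg.Omega F ⇑Q ≤ Sg Q := by
  apply commutator_le_of_gens (Sg Q) (reflSet Q) (closure_reflSet Q hQ (Or.inr (by omega)))
  rintro r ⟨a, ha, rfl⟩ s ⟨b, hb, rfl⟩
  rw [reflIso_inv, reflIso_inv]
  have h1 : reflIso Q a ha * reflIso Q b hb * reflIso Q a ha * reflIso Q b hb =
      reflIso Q a ha * (reflIso Q b hb * reflIso Q a ha * (reflIso Q b hb)⁻¹) := by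
    rw [reflIso_inv]; group
  rw [h1, conj_reflIso]
  exact refl_pair_mem_Sg Q hQ h5 a _ ha (Q_gact Q _ a)

/-- Siegel transformations lie in `Ω` -/
theorem siegIso_mem_Omega (hQ : (QuadraticMap.polarBilin Q).Nondegenerate)
    (h5 : 5 ≤ Fintype.card ι) (u w : ι → F) (hu : Q u = 0)
    (huw : QuadraticMap.polar (⇑Q) u w = 0) : siegIso Q u w hu huw ∈ Cfsg.Omega F ⇑Q := by
  have hfin : 5 ≤ Module.finrank F (ι → F) := by
    rw [Module.finrank_fintype_fun_eq_card]; exact h5
  have key : ∀ w : ι → F, ∀ huw : QuadraticMap.polar (⇑Q) u w = 0, Q w ≠ 0 →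
      siegIso Q u w hu huw ∈ Cfsg.Omega F ⇑Q := by
    intro w huw hw
    have hQ' : Q (w - Q w • u) = Q w := by
      rw [Q_sub, Q_smul, hu, QuadraticMap.polar_smul_right, QuadraticMap.polar_comm (⇑Q) w u, huw]
      simp
    rw [mem_Omega_iff_list_all' Q hQ (by omega) (Or.inr (by omega)) _ [w, w - Q w • u]
      (by
        intro v hv
        simp only [List.mem_cons, List.not_mem_nil, or_false] at hv
        rcases hv with rfl | rfl
        · exact hw
        · rw [hQ']; exact hw)
      (by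
        simp only [List.map_cons, List.map_nil, List.prod_cons, List.prod_nil, Matrix.mul_one]
        exact (refl_mul_refl Q u w hu huw hw).symm)]
    refine ⟨⟨1, rfl⟩, fun _ => ?_⟩
    simp only [List.map_cons, List.map_nil, List.prod_cons, List.prod_nil, mul_one, hQ']
    exact ⟨Q w, rfl⟩
  by_cases hw : Q w = 0
  · obtain ⟨b, hub, hwb, hb⟩ := exists_nonsingular_perp Q hQ hfin u w
    have hwb' : Q (w - b) ≠ 0 := by
      rw [Q_sub, hw, hwb]; simpa using hb
    have hu1 : QuadraticMap.polar (⇑Q) u (w - b) = 0 := by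
      rw [QuadraticMap.polar_sub_right, huw, hub, sub_zero]
    have e : siegIso Q u w hu huw = siegIso Q u (w - b) hu hu1 * siegIso Q u b hu hub := by
      rw [siegIso_mul]
      exact siegIso_congr Q u w _ hu huw (by abel)
    rw [e]
    exact Subgroup.mul_mem _ (key _ hu1 hwb') (key _ hub hb)
  · exact key w huw hw

theorem Sg_eq_Omega (hQ : (QuadraticMap.polarBilin Q).Nondegenerate)
    (h5 : 5 ≤ Fintype.card ι) : Sg Q = Cfsg.Omega F ⇑Q := by
  apply le_antisymm
  · unfold Sg
    rw [Subgroup.closure_le]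
    rintro g ⟨u, w, hu, huw, rfl⟩
    exact siegIso_mem_Omega Q hQ h5 u w hu huw
  · exact Omega_le_Sg Q hQ h5

end finite

end Cfsg.Agent.Lib.Helper6
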