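import Mathlib
import Cfsg.Agent.Lib.Helper6.Hyperbolic

set_option autoImplicit false

/-!
# The two families of maximal totally singular subspaces
-/

namespace Cfsg.Agent.Lib.Helper6

open Module QuadraticMap LinearMap.BilinForm

section
variable {F V : Type*} [Field F] [AddCommGroup V] [Module F V] [FiniteDimensional F V]

/-- maximal totally singular subspaces are self-orthogonal -/
theorem TS.orth_eq {Q : QuadraticForm F V} (hQ : (polarBilin Q).Nondegenerate) {m : ℕ}
    (hV : finrank F V = 2 * m) {W : Submodule F V} (h : TS Q W) (hW : finrank F W = m) :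
    LinearMap.BilinForm.orthogonal (polarBilin Q) W = W := by
  symm
  apply Submodule.eq_of_le_of_finrank_le h.le_orth
  have := finrank_orthogonal hQ W
  omega

theorem orth_sup (Q : QuadraticForm F V) (A B : Submodule F V) :
    LinearMap.BilinForm.orthogonal (polarBilin Q) (A ⊔ B) =
      LinearMap.BilinForm.orthogonal (polarBilin Q) A ⊓
        LinearMap.BilinForm.orthogonal (polarBilin Q) B := by
  ext x
  rw [Submodule.mem_inf, mem_orth_iff, mem_orth_iff, mem_orth_iff]
  constructor
  · intro h
    exact ⟨fun a ha => h a (Submodule.mem_sup_left ha), fun b hb => h b (Submodule.mem_sup_right hb)⟩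
  · rintro ⟨h1, h2⟩ w hw
    obtain ⟨a, ha, b, hb, rfl⟩ := Submodule.mem_sup.mp hw
    rw [polar_add_left, h1 a ha, h2 b hb, add_zero]

/-- the key lemma: adjacent maximal subspaces meet a third one in dimensions differing by one -/
theorem adjacent_inf (Q : QuadraticForm F V) (hQ : (polarBilin Q).Nondegenerate) (m : ℕ)
    (hV : finrank F V = 2 * m) (U U' X : Submodule F V) (hU : TS Q U) (hUm : finrank F U = m)
    (hU' : TS Q U') (hU'm : finrank F U' = m) (hX : TS Q X) (hXm : finrank F X = m)
    (hadj : finrank F ↥(U ⊓ U') + 1 = m) :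
    finrank F ↥(U ⊓ X) = finrank F ↥(U' ⊓ X) + 1 ∨
      finrank F ↥(U' ⊓ X) = finrank F ↥(U ⊓ X) + 1 := by
  set H := U ⊓ U' with hH
  have hHts : TS Q H := hU.mono inf_le_left
  have hne : U ≠ U' := by
    intro h
    rw [hH, ← h, inf_idem] at hadj
    omega
  set oH := LinearMap.BilinForm.orthogonal (polarBilin Q) H with hoH
  have hHoH : H ≤ oH := hHts.le_orth
  -- X' = (X ⊓ H^⊥) ⊔ H
  set X' := (X ⊓ oH) ⊔ H with hX'
  have hX'ts : TS Q X' := by
    intro y hy
    obtain ⟨x, hx, h, hh, rfl⟩ := Submodule.mem_sup.mp hy
    rw [QuadraticMap.map_add Q, hX x hx.1, hHts h hh, polar_comm]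
    have : QuadraticMap.polar Q h x = 0 := (mem_orth_iff Q H x).mp hx.2 h hh
    rw [this]; simp
  have hXo : X ⊓ oH = LinearMap.BilinForm.orthogonal (polarBilin Q) (X ⊔ H) := by
    rw [orth_sup, hX.orth_eq hQ hV hXm]
  have hdim1 : finrank F ↥(X ⊓ oH) = finrank F ↥(X ⊓ H) + 1 := by
    rw [hXo]
    have e1 := finrank_orthogonal hQ (X ⊔ H)
    have e2 := Submodule.finrank_sup_add_finrank_inf_eq X H
    have e3 := Submodule.finrank_le (X ⊔ H)
    omega
  have hinf : (X ⊓ oH) ⊓ H = X ⊓ H := by
    rw [inf_assoc, inf_eq_right.mpr hHoH]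
  have hX'm : finrank F X' = m := by
    have e1 : finrank F X' + finrank F ↥((X ⊓ oH) ⊓ H) = finrank F ↥(X ⊓ oH) + finrank F H :=
      Submodule.finrank_sup_add_finrank_inf_eq (X ⊓ oH) H
    rw [hinf] at e1
    have e2 : finrank F ↥(X ⊓ H) ≤ finrank F H := Submodule.finrank_mono inf_le_right
    omega
  have hHX' : H ≤ X' := le_sup_right
  -- X' is U or U'
  obtain ⟨W₁, W₂, _, _, _, huniq⟩ :=
    exists_two_extensions Q hQ m hV U hU hUm H hHts hadj
  have hcases : X' = U ∨ X' = U' := by
    rcases huniq U hU hUm inf_le_left with h1 | h1 <;>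
    rcases huniq U' hU' hU'm inf_le_right with h2 | h2 <;>
    rcases huniq X' hX'ts hX'm hHX' with h3 | h3
    · exact absurd (h1.trans h2.symm) hne
    · exact absurd (h1.trans h2.symm) hne
    · left; rw [h3, h1]
    · right; rw [h3, h2]
    · right; rw [h3, h2]
    · left; rw [h3, h1]
    · exact absurd (h1.trans h2.symm) hne
    · exact absurd (h1.trans h2.symm) hne
  -- general computation
  have main : ∀ (A A' : Submodule F V), TS Q A → TS Q A' → H ≤ A → H ≤ A' → A ⊓ A' ≤ H → X' = A →
      finrank F ↥(A ⊓ X) = finrank F ↥(A' ⊓ X) + 1 := by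
    intro A A' hA hA' hHA hHA' hAA' hX'A
    have hAo : A ≤ oH := le_trans hA.le_orth (orthogonal_le hHA)
    have hA'o : A' ≤ oH := le_trans hA'.le_orth (orthogonal_le hHA')
    have e1 : A ⊓ X = X ⊓ oH := by
      apply le_antisymm
      · exact le_inf inf_le_right (le_trans inf_le_left hAo)
      · refine le_inf ?_ inf_le_left
        rw [← hX'A]
        exact le_sup_left
    have e2 : A' ⊓ X = X ⊓ H := by
      apply le_antisymm
      · refine le_inf inf_le_right ?_
        refine le_trans ?_ hAA'
        refine le_inf ?_ inf_le_left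
        rw [← hX'A]
        exact le_trans (le_inf inf_le_right (le_trans inf_le_left hA'o)) le_sup_left
      · exact le_inf (le_trans inf_le_right hHA') inf_le_left
    rw [e1, e2, hdim1]
  rcases hcases with h | h
  · left
    exact main U U' hU hU' inf_le_left inf_le_right le_rfl h
  · right
    exact main U' U hU' hU inf_le_right inf_le_left (by rw [inf_comm]) h

/-- parity of the codimensions of the pairwise intersections of three maximal totally singular
subspaces -/
theorem parity_three (Q : QuadraticForm F V) (hQ : (polarBilin Q).Nondegenerate) (m : ℕ)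
    (hV : finrank F V = 2 * m) :
    ∀ (k : ℕ) (U W X : Submodule F V), TS Q U → finrank F U = m → TS Q W → finrank F W = m →
      TS Q X → finrank F X = m → m - finrank F ↥(U ⊓ W) = k →
      Even ((m - finrank F ↥(U ⊓ W)) + (m - finrank F ↥(W ⊓ X)) + (m - finrank F ↥(U ⊓ X))) := by
  intro k
  induction k with
  | zero =>
    intro U W X hU hUm hW hWm hX hXm hk
    have h1 : finrank F ↥(U ⊓ W) ≤ m := by
      have := Submodule.finrank_mono (inf_le_left : U ⊓ W ≤ U); omega
    have h2 : finrank F ↥(U ⊓ W) = m := by omega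
    have hUW : U ⊓ W = U := Submodule.eq_of_le_of_finrank_le inf_le_left (by omega)
    have hUW' : U ⊓ W = W := Submodule.eq_of_le_of_finrank_le inf_le_right (by omega)
    have : U = W := hUW.symm.trans hUW'
    subst this
    rw [h2, Nat.sub_self, zero_add]
    exact ⟨_, rfl⟩
  | succ k ih =>
    intro U W X hU hUm hW hWm hX hXm hk
    -- pick w ∈ W \ U
    have hWU : ¬ W ≤ U := by
      intro h
      have : U ⊓ W = W := inf_eq_right.mpr h
      rw [this, hWm] at hk
      omega
    obtain ⟨w, hwW, hwU⟩ := SetLike.not_le_iff_exists.mp hWU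
    have hw : Q w = 0 := hW w hwW
    set ow := LinearMap.BilinForm.orthogonal (polarBilin Q) (Submodule.span F {w}) with how
    have hmem_ow : ∀ x, x ∈ ow ↔ QuadraticMap.polar Q w x = 0 := by
      intro x
      rw [how, mem_orth_iff]
      constructor
      · intro h
        exact h w (Submodule.mem_span_singleton_self w)
      · intro h z hz
        obtain ⟨c, rfl⟩ := Submodule.mem_span_singleton.mp hz
        rw [polar_smul_left, h, smul_zero]
    set H := U ⊓ ow with hH
    have hHts : TS Q H := hU.mono inf_le_left
    -- U is not inside w^⊥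
    have hUow : ¬ U ≤ ow := by
      intro h
      apply hwU
      rw [← hU.orth_eq hQ hV hUm, mem_orth_iff]
      intro u hu
      rw [polar_comm]
      exact (hmem_ow u).mp (h hu)
    have hwne : w ≠ 0 := by
      rintro rfl
      exact hwU U.zero_mem
    have hHdim : finrank F H + 1 = m := by
      have e1 : finrank F ↥(U ⊔ ow) + finrank F H = finrank F U + finrank F ow :=
        Submodule.finrank_sup_add_finrank_inf_eq U ow
      have e2 : finrank F ow = 2 * m - 1 := by
        rw [how, finrank_orthogonal hQ, finrank_span_singleton hwne, hV]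
      have e3 := Submodule.finrank_le (U ⊔ ow)
      have e4 : H < U := lt_of_le_of_ne inf_le_left (fun h => hUow (by rw [← h]; exact inf_le_right))
      have e5 := Submodule.finrank_lt_finrank_of_lt e4
      omega
    have hwH : ∀ z ∈ H, QuadraticMap.polar Q z w = 0 := by
      intro z hz
      rw [polar_comm]
      exact (hmem_ow z).mp hz.2
    set U' := H ⊔ Submodule.span F {w} with hU'def
    have hU' : TS Q U' := hHts.sup_span hw hwH
    have hwU' : w ∈ U' := Submodule.mem_sup_right (Submodule.mem_span_singleton_self w)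
    have hHU' : H ≤ U' := le_sup_left
    have hU'm : finrank F U' = m := by
      have hlt : H < U' := by
        apply lt_of_le_of_ne hHU'
        intro h
        apply hwU
        have : w ∈ H := by rw [h]; exact hwU'
        exact this.1
      have e1 := Submodule.finrank_lt_finrank_of_lt hlt
      have e2 := hU'.two_mul_finrank_le hQ
      omega
    have hadj : finrank F ↥(U ⊓ U') + 1 = m := by
      have e1 : H ≤ U ⊓ U' := le_inf inf_le_left hHU'
      have e2 := Submodule.finrank_mono e1
      have e3 : U ⊓ U' < U := by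
        apply lt_of_le_of_ne inf_le_left
        intro h
        apply hwU
        have hle : U ≤ U' := by rw [← h]; exact inf_le_right
        have : U = U' := Submodule.eq_of_le_of_finrank_le hle (by omega)
        rw [this]; exact hwU'
      have e4 := Submodule.finrank_lt_finrank_of_lt e3
      omega
    -- U' ⊓ W is strictly bigger than U ⊓ W
    have hUWH : U ⊓ W ≤ H := by
      intro x hx
      refine ⟨hx.1, (hmem_ow x).mpr (hW.polar hwW hx.2)⟩
    have hgrow : finrank F ↥(U ⊓ W) < finrank F ↥(U' ⊓ W) := by
      apply Submodule.finrank_lt_finrank_of_lt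
      apply lt_of_le_of_ne
      · exact le_inf (le_trans hUWH hHU') inf_le_right
      · intro h
        apply hwU
        have : w ∈ U' ⊓ W := ⟨hwU', hwW⟩
        rw [← h] at this
        exact this.1
    have hkey1 := adjacent_inf Q hQ m hV U U' W hU hUm hU' hU'm hW hWm hadj
    have hkey2 := adjacent_inf Q hQ m hV U U' X hU hUm hU' hU'm hX hXm hadj
    have hstep : finrank F ↥(U' ⊓ W) = finrank F ↥(U ⊓ W) + 1 := by
      rcases hkey1 with h | h <;> omega
    have b1 : finrank F ↥(U' ⊓ W) ≤ m := by
      have := Submodule.finrank_mono (inf_le_right : U' ⊓ W ≤ W); omega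
    have b2 : finrank F ↥(U' ⊓ X) ≤ m := by
      have := Submodule.finrank_mono (inf_le_right : U' ⊓ X ≤ X); omega
    have b3 : finrank F ↥(U ⊓ X) ≤ m := by
      have := Submodule.finrank_mono (inf_le_right : U ⊓ X ≤ X); omega
    have b4 : finrank F ↥(W ⊓ X) ≤ m := by
      have := Submodule.finrank_mono (inf_le_right : W ⊓ X ≤ X); omega
    have hih := ih U' W X hU' hU'm hW hWm hX hXm (by omega)
    rw [Nat.even_iff] at hih ⊢
    rcases hkey2 with h | h <;> omega

end

end Cfsg.Agent.Lib.Helper6
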