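import Mathlib
import Cfsg.Agent.Lib.Helper6.SUGen5

/-!
# Generation of `SU_n(q)` by unitary transvections, part 6:
the four-dimensional case and the main theorem.
-/

set_option autoImplicit false
open Cfsg

namespace Cfsg.Agent.Lib.Helper6.SUG

open Matrix Module Cfsg.Agent.Lib.Helper6 Cfsg.Agent.S0779 Cfsg.Agent.S0781

section
variable {F : Type*} [Field F] [Fintype F] {q n : ℕ}

/-- in dimension four, a hyperbolic pair extends to a frame by an orthonormal pair -/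
theorem exists_frame4 (hF : Fintype.card F = q ^ 2) (hn : n = 4) (u₀ v₀ : Fin n → F)
    (h00 : hermForm n F q u₀ u₀ = 0) (h11 : hermForm n F q v₀ v₀ = 0)
    (h01 : hermForm n F q u₀ v₀ = 1) :
    ∃ a b : Fin n → F, hermForm n F q a a = 1 ∧ hermForm n F q b b = 1 ∧
      hermForm n F q a b = 0 ∧ hermForm n F q a u₀ = 0 ∧ hermForm n F q a v₀ = 0 ∧
      hermForm n F q b u₀ = 0 ∧ hermForm n F q b v₀ = 0 ∧
      ∀ y : Fin n → F, y = hermForm n F q y v₀ • u₀ + hermForm n F q y u₀ • v₀ +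
        hermForm n F q y a • a + hermForm n F q y b • b := by
  classical
  have h10 : hermForm n F q v₀ u₀ = 1 := by rw [← herm_conj hF, h01, one_pow]
  obtain ⟨U, φ, hmemU, hφ⟩ := exists_perp_iso hF u₀ v₀ h00 h10 h01 h11
  generalize hk : n - 2 = k at φ hφ
  obtain rfl : k = 2 := by omega
  have hdec : ∀ y : Fin n → F,
      y - hermForm n F q y v₀ • u₀ - hermForm n F q y u₀ • v₀ ∈ U := by
    intro y
    rw [hmemU]
    constructor
    · rw [herm_sub_left', herm_sub_left', herm_smul_left, herm_smul_left, h00, h10]; ring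
    · rw [herm_sub_left', herm_sub_left', herm_smul_left, herm_smul_left, h01, h11]; ring
  obtain ⟨a, ha⟩ : ∃ a : U, a = φ.symm (Pi.single 0 1) := ⟨_, rfl⟩
  obtain ⟨b, hb⟩ : ∃ b : U, b = φ.symm (Pi.single 1 1) := ⟨_, rfl⟩
  have hφa : φ a = Pi.single 0 1 := by rw [ha, LinearEquiv.apply_symm_apply]
  have hφb : φ b = Pi.single 1 1 := by rw [hb, LinearEquiv.apply_symm_apply]
  have haa : hermForm n F q (a : Fin n → F) (a : Fin n → F) = 1 := by
    rw [← hφ, hφa, herm_single_right hF]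
    simp
  have hbb : hermForm n F q (b : Fin n → F) (b : Fin n → F) = 1 := by
    rw [← hφ, hφb, herm_single_right hF]
    simp
  have hab : hermForm n F q (a : Fin n → F) (b : Fin n → F) = 0 := by
    rw [← hφ, hφa, hφb, herm_single_right hF]
    simp
  refine ⟨a, b, haa, hbb, hab, ((hmemU _).mp a.2).1, ((hmemU _).mp a.2).2,
    ((hmemU _).mp b.2).1, ((hmemU _).mp b.2).2, ?_⟩
  intro y
  obtain ⟨y', hy'⟩ : ∃ y' : U, y' = ⟨_, hdec y⟩ := ⟨_, rfl⟩
  have hy'val : (y' : Fin n → F) =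
      y - hermForm n F q y v₀ • u₀ - hermForm n F q y u₀ • v₀ := by rw [hy']
  have e1 : φ y' = (φ y' 0) • Pi.single 0 1 + (φ y' 1) • Pi.single 1 1 := by
    ext i
    fin_cases i <;> simp
  have e2 : y' = (φ y' 0) • a + (φ y' 1) • b := by
    apply φ.injective
    rw [map_add, map_smul, map_smul, hφa, hφb]
    exact e1
  have c0 : φ y' 0 = hermForm n F q y (a : Fin n → F) := by
    rw [← herm_single_right hF (φ y') 0, ← hφa, hφ, hy'val, herm_sub_left', herm_sub_left',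
      herm_smul_left, herm_smul_left, herm_swap_zero hF ((hmemU _).mp a.2).1,
      herm_swap_zero hF ((hmemU _).mp a.2).2]
    ring
  have c1 : φ y' 1 = hermForm n F q y (b : Fin n → F) := by
    rw [← herm_single_right hF (φ y') 1, ← hφb, hφ, hy'val, herm_sub_left', herm_sub_left',
      herm_smul_left, herm_smul_left, herm_swap_zero hF ((hmemU _).mp b.2).1,
      herm_swap_zero hF ((hmemU _).mp b.2).2]
    ring
  have e3 := congrArg Subtype.val e2
  rw [hy'val, c0, c1] at e3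
  ext i
  have e5 := congrFun e3 i
  simp only [Submodule.coe_add, Submodule.coe_smul, Pi.add_apply, Pi.sub_apply, Pi.smul_apply,
    smul_eq_mul] at e5 ⊢
  linear_combination e5

/-- the subspace perpendicular to two vectors -/
noncomputable def perp2 (hF : Fintype.card F = q ^ 2) (u₀ v₀ : Fin n → F) : Submodule F (Fin n → F) :=
  LinearMap.ker (hermB n hF u₀) ⊓ LinearMap.ker (hermB n hF v₀)

theorem mem_perp2 (hF : Fintype.card F = q ^ 2) (u₀ v₀ y : Fin n → F) :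
    y ∈ perp2 hF u₀ v₀ ↔ hermForm n F q y u₀ = 0 ∧ hermForm n F q y v₀ = 0 := by
  unfold perp2
  rw [Submodule.mem_inf, LinearMap.mem_ker, LinearMap.mem_ker, hermB_apply, hermB_apply]

/-- moving one hyperbolic partner of `u₀` to another by an element of `TT` fixing `u₀` -/
theorem exists_fix_move (hF : Fintype.card F = q ^ 2) (u₀ v₀ a b : Fin n → F)
    (h00 : hermForm n F q u₀ u₀ = 0) (h11 : hermForm n F q v₀ v₀ = 0)
    (h01 : hermForm n F q u₀ v₀ = 1)
    (haa : hermForm n F q a a = 1) (hbb : hermForm n F q b b = 1)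
    (hab : hermForm n F q a b = 0) (hau : hermForm n F q a u₀ = 0)
    (hav : hermForm n F q a v₀ = 0) (hbu : hermForm n F q b u₀ = 0)
    (hbv : hermForm n F q b v₀ = 0)
    (hframe : ∀ y : Fin n → F, y = hermForm n F q y v₀ • u₀ + hermForm n F q y u₀ • v₀ +
        hermForm n F q y a • a + hermForm n F q y b • b)
    (v₁ : Fin n → F) (hv₁ : hermForm n F q u₀ v₁ = 1) (hv₁v₁ : hermForm n F q v₁ v₁ = 0) :
    ∃ t ∈ TT n F q, av t u₀ = u₀ ∧ av t v₀ = v₁ := by
  have h10 : hermForm n F q v₀ u₀ = 1 := by rw [← herm_conj hF, h01, one_pow]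
  have hv₁u : hermForm n F q v₁ u₀ = 1 := by rw [← herm_conj hF, hv₁, one_pow]
  obtain ⟨p, r, hpp, hrr, hpr, ⟨αa, βa, hae⟩, ⟨αb, βb, hbe⟩, hP⟩ :=
    exists_hyp_of_orthonormal hF a b haa hbb hab
  obtain ⟨hpP, hrP⟩ := hP (perp2 hF u₀ v₀) ((mem_perp2 hF _ _ _).mpr ⟨hau, hav⟩)
    ((mem_perp2 hF _ _ _).mpr ⟨hbu, hbv⟩)
  obtain ⟨hpu, hpv⟩ := (mem_perp2 hF _ _ _).mp hpP
  obtain ⟨hru, hrv⟩ := (mem_perp2 hF _ _ _).mp hrP
  have hup := herm_swap_zero hF hpu
  have hvp := herm_swap_zero hF hpv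
  have hur := herm_swap_zero hF hru
  have hvr := herm_swap_zero hF hrv
  have hrp : hermForm n F q r p = 1 := by rw [← herm_conj hF, hpr, one_pow]
  obtain ⟨α, hα⟩ : ∃ α : F, α = hermForm n F q v₁ v₀ := ⟨_, rfl⟩
  obtain ⟨ξ, hξ⟩ : ∃ ξ : F, ξ = hermForm n F q v₁ a := ⟨_, rfl⟩
  obtain ⟨η, hη⟩ : ∃ η : F, η = hermForm n F q v₁ b := ⟨_, rfl⟩
  obtain ⟨x₁, hx₁⟩ : ∃ x₁ : F, x₁ = ξ * αa + η * αb := ⟨_, rfl⟩
  obtain ⟨x₂, hx₂⟩ : ∃ x₂ : F, x₂ = ξ * βa + η * βb := ⟨_, rfl⟩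
  have hv₁e : v₁ = α • u₀ + v₀ + x₁ • p + x₂ • r := by
    have h := hframe v₁
    rw [hv₁u, ← hα, one_smul, ← hξ, ← hη] at h
    have h2 : ξ • a + η • b = x₁ • p + x₂ • r := by
      rw [hx₁, hx₂, hae, hbe]
      module
    rw [add_assoc (α • u₀ + v₀), h2] at h
    rw [h]
    abel
  -- the two Siegel elements
  have hw₁ : hermForm n F q (x₁ • p) (x₁ • p) = 0 := by
    rw [herm_smul_left, herm_smul_right, hpp]; ring
  have hw₂ : hermForm n F q (x₂ • r) (x₂ • r) = 0 := by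
    rw [herm_smul_left, herm_smul_right, hrr]; ring
  have hw₁u : hermForm n F q (x₁ • p) u₀ = 0 := by rw [herm_smul_left, hpu, mul_zero]
  have hw₂u : hermForm n F q (x₂ • r) u₀ = 0 := by rw [herm_smul_left, hru, mul_zero]
  obtain ⟨c, hc⟩ : ∃ c : F, c = α + x₁ * x₂ ^ q := ⟨_, rfl⟩
  have hcq : c ^ q = -c := by
    have h := hv₁v₁
    rw [hv₁e] at h
    simp only [herm_add_left, herm_add_right hF, herm_smul_left, herm_smul_right, h00, h11, h01,
      h10, hpp, hrr, hpr, hrp, hpu, hpv, hru, hrv, hup, hvp, hur, hvr] at h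
    rw [hc, add_pow_q hF, mul_pow, pow_q_q hF]
    linear_combination h
  refine ⟨tv hF u₀ c h00 hcq * (sieg hF u₀ (x₂ • r) h00 hw₂ hw₂u * sieg hF u₀ (x₁ • p) h00 hw₁ hw₁u),
    Subgroup.mul_mem _ (tv_mem hF _ _ _ _)
      (Subgroup.mul_mem _ (sieg_mem_TT hF _ _ _ _ _) (sieg_mem_TT hF _ _ _ _ _)), ?_, ?_⟩
  · have s1 : av (sieg hF u₀ (x₁ • p) h00 hw₁ hw₁u) u₀ = u₀ := by
      rw [av_sieg, h00, herm_smul_right, hup]
      simp
    have s2 : av (sieg hF u₀ (x₂ • r) h00 hw₂ hw₂u) u₀ = u₀ := by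
      rw [av_sieg, h00, herm_smul_right, hur]
      simp
    have s3 : av (tv hF u₀ c h00 hcq) u₀ = u₀ := by
      rw [av_tv, h00]
      simp
    rw [av_mul, av_mul, s1, s2, s3]
  · have r1 : av (sieg hF u₀ (x₁ • p) h00 hw₁ hw₁u) v₀ = v₀ + x₁ • p := by
      rw [av_sieg, h10, herm_smul_right, hvp]
      simp
    have r2 : av (sieg hF u₀ (x₂ • r) h00 hw₂ hw₂u) (v₀ + x₁ • p) =
        v₀ + x₁ • p + x₂ • r - (x₁ * x₂ ^ q) • u₀ := by
      rw [av_sieg]
      simp only [herm_add_left, herm_smul_left, herm_smul_right, h10, hpu, hvr, hpr]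
      module
    have r3 : av (tv hF u₀ c h00 hcq) (v₀ + x₁ • p + x₂ • r - (x₁ * x₂ ^ q) • u₀) =
        v₀ + x₁ • p + x₂ • r - (x₁ * x₂ ^ q) • u₀ + c • u₀ := by
      rw [av_tv]
      simp only [herm_add_left, herm_sub_left', herm_smul_left, h00, h10, hpu, hru]
      module
    rw [av_mul, av_mul, r1, r2, r3, hv₁e, hc]
    module

/-- in dimension four, an element of `SU` fixing a hyperbolic pair lies in `TT` -/
theorem mem_TT_of_fix4 (hF : Fintype.card F = q ^ 2) (u₀ v₀ a b : Fin n → F)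
    (h00 : hermForm n F q u₀ u₀ = 0) (h11 : hermForm n F q v₀ v₀ = 0)
    (h01 : hermForm n F q u₀ v₀ = 1)
    (haa : hermForm n F q a a = 1) (hbb : hermForm n F q b b = 1)
    (hab : hermForm n F q a b = 0) (hau : hermForm n F q a u₀ = 0)
    (hav : hermForm n F q a v₀ = 0) (hbu : hermForm n F q b u₀ = 0)
    (hbv : hermForm n F q b v₀ = 0)
    (hframe : ∀ y : Fin n → F, y = hermForm n F q y v₀ • u₀ + hermForm n F q y u₀ • v₀ +
        hermForm n F q y a • a + hermForm n F q y b • b)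
    (k : ↥(Cfsg.SU n F q)) (hku : av k u₀ = u₀) (hkv : av k v₀ = v₀) : k ∈ TT n F q := by
  have hba : hermForm n F q b a = 0 := herm_swap_zero hF hab
  have haP : a ∈ perp2 hF u₀ v₀ := (mem_perp2 hF _ _ _).mpr ⟨hau, hav⟩
  have hbP : b ∈ perp2 hF u₀ v₀ := (mem_perp2 hF _ _ _).mpr ⟨hbu, hbv⟩
  -- the image of `a`
  have e1 : hermForm n F q (av k a) u₀ = 0 := by
    nth_rewrite 1 [← hku]
    rw [herm_av, hau]
  have e2 : hermForm n F q (av k a) v₀ = 0 := by
    nth_rewrite 1 [← hkv]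
    rw [herm_av, hav]
  obtain ⟨ξ, hξ⟩ : ∃ ξ : F, ξ = hermForm n F q (av k a) a := ⟨_, rfl⟩
  obtain ⟨η, hη⟩ : ∃ η : F, η = hermForm n F q (av k a) b := ⟨_, rfl⟩
  have hka : av k a = ξ • a + η • b := by
    have h := hframe (av k a)
    rw [e1, e2, zero_smul, zero_smul, add_zero, zero_add, ← hξ, ← hη] at h
    exact h
  have hnorm : ξ * ξ ^ q + η * η ^ q = 1 := by
    have h := herm_av k a a
    rw [hka, haa] at h
    simp only [herm_add_left, herm_add_right hF, herm_smul_left, herm_smul_right, haa, hbb, hab,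
      hba] at h
    linear_combination h
  obtain ⟨t, ht, hta⟩ := rel_orthonormal hF (perp2 hF u₀ v₀) a b haP hbP haa hbb hab ξ η 1 0 hnorm
    (by rw [one_pow, zero_pow (q_pos hF).ne']; ring)
  rw [← hka, one_smul, zero_smul, add_zero, ← av_mul] at hta
  have htu : av t u₀ = u₀ := TTon_fix ht u₀ (fun d hd =>
    herm_swap_zero hF ((mem_perp2 hF _ _ _).mp hd).1)
  have htv : av t v₀ = v₀ := TTon_fix ht v₀ (fun d hd =>
    herm_swap_zero hF ((mem_perp2 hF _ _ _).mp hd).2)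
  obtain ⟨k', hk'⟩ : ∃ k' : ↥(Cfsg.SU n F q), k' = t * k := ⟨_, rfl⟩
  rw [← hk'] at hta
  have hk'u : av k' u₀ = u₀ := by rw [hk', av_mul, hku, htu]
  have hk'v : av k' v₀ = v₀ := by rw [hk', av_mul, hkv, htv]
  -- the image of `b`
  have f1 : hermForm n F q (av k' b) u₀ = 0 := by
    nth_rewrite 1 [← hk'u]
    rw [herm_av, hbu]
  have f2 : hermForm n F q (av k' b) v₀ = 0 := by
    nth_rewrite 1 [← hk'v]
    rw [herm_av, hbv]
  have f3 : hermForm n F q (av k' b) a = 0 := by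
    nth_rewrite 1 [← hta]
    rw [herm_av, hba]
  obtain ⟨μ, hμ⟩ : ∃ μ : F, μ = hermForm n F q (av k' b) b := ⟨_, rfl⟩
  have hk'b : av k' b = μ • b := by
    have h := hframe (av k' b)
    rw [f1, f2, f3, zero_smul, zero_smul, zero_smul, add_zero, zero_add, zero_add, ← hμ] at h
    exact h
  have hact : ∀ y, av k' y = y + ((μ - 1) * hermForm n F q y b) • b := by
    intro y
    obtain ⟨A, hA⟩ : ∃ A : F, A = hermForm n F q y v₀ := ⟨_, rfl⟩
    obtain ⟨B, hB⟩ : ∃ B : F, B = hermForm n F q y u₀ := ⟨_, rfl⟩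
    obtain ⟨C, hC⟩ : ∃ C : F, C = hermForm n F q y a := ⟨_, rfl⟩
    obtain ⟨D, hD⟩ : ∃ D : F, D = hermForm n F q y b := ⟨_, rfl⟩
    have hy : y = A • u₀ + B • v₀ + C • a + D • b := by
      rw [hA, hB, hC, hD]
      exact hframe y
    rw [← hD, hy, av_add, av_add, av_add, av_smul, av_smul, av_smul, av_smul, hk'u, hk'v, hta,
      hk'b]
    module
  have hmat : (k' : Matrix.SpecialLinearGroup (Fin n) F).1 = P q (μ - 1) b b := by
    apply mat_ext
    intro y
    rw [P_mulVec]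
    exact hact y
  have hdet := (k' : Matrix.SpecialLinearGroup (Fin n) F).2
  rw [hmat, P_det, hbb, mul_one] at hdet
  have hμ1 : μ = 1 := by linear_combination hdet
  have hk'1 : k' = 1 := by
    apply ext_av
    intro y
    rw [hact, hμ1, sub_self, zero_mul, zero_smul, add_zero, av_one]
  have : k = t⁻¹ := by
    rw [hk'] at hk'1
    exact eq_inv_of_mul_eq_one_right hk'1
  rw [this]
  exact Subgroup.inv_mem _ (TTon_le _ ht)

/-- **`SU_4(q)` is generated by transvections** -/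
theorem TT_four (hF : Fintype.card F = q ^ 2) : TT 4 F q = ⊤ := by
  classical
  rw [eq_top_iff]
  intro g _
  obtain ⟨u₀, hu₀, h00⟩ := exists_iso_vec hF (k := 4) (by norm_num)
  obtain ⟨v₀, h10, h01, h11⟩ := exists_herm_partner hF u₀ hu₀ h00
  obtain ⟨a, b, haa, hbb, hab, hau, hav, hbu, hbv, hframe⟩ :=
    exists_frame4 hF rfl u₀ v₀ h00 h11 h01
  have hgu0 : av g u₀ ≠ 0 := by
    intro h
    apply hu₀
    have := av_inv_av g u₀
    rw [h] at this
    rw [← this]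
    unfold av
    rw [mulVec_zero]
  obtain ⟨t₁, ht₁, ht₁u⟩ := rel_iso hF (n := 4) (by norm_num) (av g u₀) u₀ hgu0 hu₀
    (by rw [herm_av, h00]) h00
  obtain ⟨t₂, ht₂, ht₂u, ht₂v⟩ := exists_fix_move hF u₀ v₀ a b h00 h11 h01 haa hbb hab hau hav hbu
    hbv hframe (av t₁ (av g v₀))
    (by
      nth_rewrite 1 [← ht₁u]
      rw [herm_av, herm_av, h01])
    (by rw [herm_av, herm_av, h11])
  have hk : t₂⁻¹ * (t₁ * g) ∈ TT 4 F q := by
    apply mem_TT_of_fix4 hF u₀ v₀ a b h00 h11 h01 haa hbb hab hau hav hbu hbv hframe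
    · rw [av_mul, av_mul, ht₁u]
      nth_rewrite 1 [← ht₂u]
      rw [av_inv_av]
    · rw [av_mul, av_mul, ← ht₂v, av_inv_av]
  have : g = t₁⁻¹ * (t₂ * (t₂⁻¹ * (t₁ * g))) := by group
  rw [this]
  exact Subgroup.mul_mem _ (Subgroup.inv_mem _ ht₁) (Subgroup.mul_mem _ ht₂ hk)

/-- **`SU_n(q)` is generated by unitary transvections**, `n ≥ 1`, `(n, q) ≠ (3, 2)`. -/
theorem TT_eq_top (hF : Fintype.card F = q ^ 2) :
    ∀ n : ℕ, 1 ≤ n → ¬ (n = 3 ∧ q = 2) → TT n F q = ⊤ := by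
  intro n
  induction n with
  | zero => intro h; omega
  | succ m ih =>
    intro _ h32
    by_cases hm0 : m = 0
    · subst hm0
      exact TT_one_eq_top
    · by_cases hm3 : m = 3 ∧ q = 2
      · obtain ⟨rfl, -⟩ := hm3
        exact TT_four hF
      · exact TT_succ_eq_top hF (by omega) (ih (by omega) hm3) h32

end

end Cfsg.Agent.Lib.Helper6.SUG
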