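import Mathlib
import Cfsg.Agent.Lib.Helper9.SURUDefs

/-!
# S2282 farm-out piece FO-A4 (helper6, for architect helper9)

The central Levi torus `Tp`, the second generator `u2 = Dp m * E0 (κt t) (κt² d)` and the
Heisenberg element `y = uh⁻¹ u2`.
-/

set_option autoImplicit false
set_option linter.unusedSectionVars false
set_option linter.unusedVariables false

namespace Cfsg.Agent.Lib.Helper6.SURUA4

open Matrix Cfsg.Agent.Lib.Helper6 Cfsg.Agent.S0779 Cfsg.Agent.S0781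
open Cfsg.Agent.Lib.Helper6.SUG Cfsg.Agent.Lib.Helper13 Cfsg.Agent.Lib.Helper9.SUGen
open Cfsg.Agent.Lib.Helper9.SURU

section A
variable {F : Type*} [Field F] [Fintype F] {q n m : ℕ}

local notation "hh" => Cfsg.hermForm n F q

variable (hF : Fintype.card F = q ^ 2) (𝔉 : Frm F q n m)

/-- the action of `tor1 k d` on a vector -/
theorem av_tor1 (k : ℕ) (d : F) (hk : k < m) (hd0 : d ≠ 0) (hdq : d ^ q = d) (x : Fin n → F) :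
    av (tor1 hF 𝔉 k d) x =
      x + (((d ^ q)⁻¹ - 1) * hh x (𝔉.e k)) • 𝔉.f k + ((d - 1) * hh x (𝔉.f k)) • 𝔉.e k := by
  unfold tor1
  rw [dif_pos ⟨hk, hd0, hdq⟩]
  show Bm q 1 (d - 1) ((d ^ q)⁻¹ - 1) (𝔉.e k) (𝔉.f k) *ᵥ x = _
  rw [Bm_mulVec _ _ _ _ _ x (𝔉.hff k k), one_smul]

theorem tor1_eq_one (k : ℕ) (d : F) (h : ¬ (k < m ∧ d ≠ 0 ∧ d ^ q = d)) :
    tor1 hF 𝔉 k d = 1 := by
  unfold tor1
  rw [dif_neg h]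

theorem av_tor1_e (k : ℕ) (d : F) (hd0 : d ≠ 0) (hdq : d ^ q = d) (i : ℕ) :
    av (tor1 hF 𝔉 k d) (𝔉.e i) = if i = k then d • 𝔉.e i else 𝔉.e i := by
  by_cases hk : k < m
  · rw [av_tor1 hF 𝔉 k d hk hd0 hdq, 𝔉.hee, 𝔉.hef]
    by_cases hik : i = k
    · subst hik
      rw [if_pos ⟨rfl, hk⟩, if_pos rfl]
      module
    · rw [if_neg (fun h => hik h.1), if_neg hik]
      module
  · rw [tor1_eq_one hF 𝔉 k d (fun h => hk h.1), av_one]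
    by_cases hik : i = k
    · subst hik
      rw [if_pos rfl, 𝔉.e_junk i (by omega), smul_zero]
    · rw [if_neg hik]

theorem av_tor1_f (k : ℕ) (d : F) (hd0 : d ≠ 0) (hdq : d ^ q = d) (i : ℕ) :
    av (tor1 hF 𝔉 k d) (𝔉.f i) = if i = k then d⁻¹ • 𝔉.f i else 𝔉.f i := by
  by_cases hk : k < m
  · rw [av_tor1 hF 𝔉 k d hk hd0 hdq, 𝔉.hff, 𝔉.hfe hF]
    by_cases hik : i = k
    · subst hik
      rw [if_pos ⟨rfl, hk⟩, if_pos rfl, hdq]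
      module
    · rw [if_neg (fun h => hik h.1), if_neg hik]
      module
  · rw [tor1_eq_one hF 𝔉 k d (fun h => hk h.1), av_one]
    by_cases hik : i = k
    · subst hik
      rw [if_pos rfl, 𝔉.f_junk i (by omega), smul_zero]
    · rw [if_neg hik]

theorem av_tor1_w (k : ℕ) (d : F) : av (tor1 hF 𝔉 k d) 𝔉.w = 𝔉.w := by
  by_cases h : k < m ∧ d ≠ 0 ∧ d ^ q = d
  · rw [av_tor1 hF 𝔉 k d h.1 h.2.1 h.2.2, 𝔉.hwe hF, 𝔉.hwf hF]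
    module
  · rw [tor1_eq_one hF 𝔉 k d h, av_one]

theorem av_Tp_e (d : F) (hd0 : d ≠ 0) (hdq : d ^ q = d) (k i : ℕ) :
    av (Tp hF 𝔉 d k) (𝔉.e i) = if i < k then d • 𝔉.e i else 𝔉.e i := by
  induction k with
  | zero =>
    show av 1 (𝔉.e i) = _
    rw [av_one, if_neg (Nat.not_lt_zero i)]
  | succ k ih =>
    show av (Tp hF 𝔉 d k * tor1 hF 𝔉 k d) (𝔉.e i) = _
    rw [av_mul, av_tor1_e hF 𝔉 k d hd0 hdq]
    by_cases hik : i = k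
    · subst hik
      rw [if_pos rfl, av_smul, ih, if_neg (lt_irrefl i), if_pos (Nat.lt_succ_self i)]
    · rw [if_neg hik, ih]
      by_cases hlt : i < k
      · rw [if_pos hlt, if_pos (by omega)]
      · rw [if_neg hlt, if_neg (by omega)]

theorem av_Tp_f (d : F) (hd0 : d ≠ 0) (hdq : d ^ q = d) (k i : ℕ) :
    av (Tp hF 𝔉 d k) (𝔉.f i) = if i < k then d⁻¹ • 𝔉.f i else 𝔉.f i := by
  induction k with
  | zero =>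
    show av 1 (𝔉.f i) = _
    rw [av_one, if_neg (Nat.not_lt_zero i)]
  | succ k ih =>
    show av (Tp hF 𝔉 d k * tor1 hF 𝔉 k d) (𝔉.f i) = _
    rw [av_mul, av_tor1_f hF 𝔉 k d hd0 hdq]
    by_cases hik : i = k
    · subst hik
      rw [if_pos rfl, av_smul, ih, if_neg (lt_irrefl i), if_pos (Nat.lt_succ_self i)]
    · rw [if_neg hik, ih]
      by_cases hlt : i < k
      · rw [if_pos hlt, if_pos (by omega)]
      · rw [if_neg hlt, if_neg (by omega)]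

theorem av_Tp_w (d : F) (k : ℕ) : av (Tp hF 𝔉 d k) 𝔉.w = 𝔉.w := by
  induction k with
  | zero =>
    show av 1 𝔉.w = _
    rw [av_one]
  | succ k ih =>
    show av (Tp hF 𝔉 d k * tor1 hF 𝔉 k d) 𝔉.w = _
    rw [av_mul, av_tor1_w, ih]

/-- `Tp d m` multiplies every `e j` by `d` (junk vectors are zero) -/
theorem av_Tp_m_e (d : F) (hd0 : d ≠ 0) (hdq : d ^ q = d) (j : ℕ) :
    av (Tp hF 𝔉 d m) (𝔉.e j) = d • 𝔉.e j := by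
  rw [av_Tp_e hF 𝔉 d hd0 hdq]
  by_cases hj : j < m
  · rw [if_pos hj]
  · rw [if_neg hj, 𝔉.e_junk j (by omega), smul_zero]

theorem av_Tp_m_f (d : F) (hd0 : d ≠ 0) (hdq : d ^ q = d) (j : ℕ) :
    av (Tp hF 𝔉 d m) (𝔉.f j) = d⁻¹ • 𝔉.f j := by
  rw [av_Tp_f hF 𝔉 d hd0 hdq]
  by_cases hj : j < m
  · rw [if_pos hj]
  · rw [if_neg hj, 𝔉.f_junk j (by omega), smul_zero]

/-- the central torus commutes with every Siegel element `sT i` -/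
theorem Tp_conj_sT (d : F) (hd0 : d ≠ 0) (hdq : d ^ q = d) (i : ℕ) :
    Tp hF 𝔉 d m * sT hF 𝔉 i * (Tp hF 𝔉 d m)⁻¹ = sT hF 𝔉 i := by
  have huu : hh (d • 𝔉.e (i + 1)) (d • 𝔉.e (i + 1)) = 0 := by
    rw [herm_smul_left, herm_smul_right, 𝔉.hee]; ring
  have hua : hh (d • 𝔉.e (i + 1)) (d⁻¹ • 𝔉.f i) = 0 := by
    rw [herm_smul_left, herm_smul_right, 𝔉.hef_ne (Nat.succ_ne_self i)]; ring
  have haa : hh (d⁻¹ • 𝔉.f i) (d⁻¹ • 𝔉.f i) = 0 := by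
    rw [herm_smul_left, herm_smul_right, 𝔉.hff]; ring
  have hua2 : hh (𝔉.e (i + 1)) (d⁻¹ • 𝔉.f i) = 0 := by
    rw [herm_smul_right, 𝔉.hef_ne (Nat.succ_ne_self i)]; ring
  unfold sT
  rw [conj_sg hF (Tp hF 𝔉 d m) (𝔉.e (i + 1)) (𝔉.f i) (d • 𝔉.e (i + 1)) (d⁻¹ • 𝔉.f i)
    (𝔉.hee _ _) (𝔉.hef_ne (Nat.succ_ne_self i)) (𝔉.hff _ _) huu hua haa
    (av_Tp_m_e hF 𝔉 d hd0 hdq _) (av_Tp_m_f hF 𝔉 d hd0 hdq _) (-1),
    sg_smul_left hF (𝔉.e (i + 1)) (d⁻¹ • 𝔉.f i) d (𝔉.hee _ _) hua2 haa huu hua,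
    sg_smul_right hF (𝔉.e (i + 1)) (𝔉.f i) d⁻¹ (𝔉.hee _ _) (𝔉.hef_ne (Nat.succ_ne_self i))
      (𝔉.hff _ _) hua2 haa]
  congr 1
  rw [hdq]
  field_simp

theorem Tp_conj_Dp (d : F) (hd0 : d ≠ 0) (hdq : d ^ q = d) (k : ℕ) :
    Tp hF 𝔉 d m * Dp hF 𝔉 k * (Tp hF 𝔉 d m)⁻¹ = Dp hF 𝔉 k := by
  induction k with
  | zero =>
    show Tp hF 𝔉 d m * 1 * (Tp hF 𝔉 d m)⁻¹ = 1
    group
  | succ k ih =>
    show Tp hF 𝔉 d m * (Dp hF 𝔉 k * sT hF 𝔉 k) * (Tp hF 𝔉 d m)⁻¹ = Dp hF 𝔉 k * sT hF 𝔉 k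
    have e : Tp hF 𝔉 d m * (Dp hF 𝔉 k * sT hF 𝔉 k) * (Tp hF 𝔉 d m)⁻¹ =
        (Tp hF 𝔉 d m * Dp hF 𝔉 k * (Tp hF 𝔉 d m)⁻¹) *
          (Tp hF 𝔉 d m * sT hF 𝔉 k * (Tp hF 𝔉 d m)⁻¹) := by group
    rw [e, ih, Tp_conj_sT hF 𝔉 d hd0 hdq]

theorem Tp_conj_E0 (κt t d : F) (hκ0 : κt ≠ 0) (hκq : κt ^ q = κt) (hd : HP q t d) :
    Tp hF 𝔉 κt m * E0 hF 𝔉 t d * (Tp hF 𝔉 κt m)⁻¹ = E0 hF 𝔉 (κt * t) (κt ^ 2 * d) := by
  have huu : hh (κt • 𝔉.e 0) (κt • 𝔉.e 0) = 0 := by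
    rw [herm_smul_left, herm_smul_right, 𝔉.hee]; ring
  have huw : hh (κt • 𝔉.e 0) ((1 : F) • 𝔉.w) = 0 := by
    rw [herm_smul_left, herm_smul_right, 𝔉.hew]; ring
  have hww : hh ((1 : F) • 𝔉.w) ((1 : F) • 𝔉.w) = 1 := by
    rw [one_smul]; exact 𝔉.hww
  have hgw : av (Tp hF 𝔉 κt m) 𝔉.w = (1 : F) • 𝔉.w := by
    rw [one_smul]; exact av_Tp_w hF 𝔉 κt m
  unfold E0
  rw [conj_hsT hF (Tp hF 𝔉 κt m) (𝔉.e 0) 𝔉.w (κt • 𝔉.e 0) ((1 : F) • 𝔉.w) (𝔉.hee 0 0) (𝔉.hew 0)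
    𝔉.hww huu huw hww (av_Tp_m_e hF 𝔉 κt hκ0 hκq 0) hgw t d hd,
    hsT_scale hF (𝔉.e 0) 𝔉.w κt 1 (𝔉.hee 0 0) (𝔉.hew 0) 𝔉.hww huu huw hww (by rw [one_pow, one_mul])
      t d hd]
  congr 1
  · rw [hκq]; ring
  · rw [mul_one, hκq, hκq]; ring

/-- the second generator is `Dp m * E0 (κt t) (κt² d)` -/
theorem u2_eq (κt t d : F) (hκ0 : κt ≠ 0) (hκq : κt ^ q = κt) (hd : HP q t d) :
    u2 hF 𝔉 κt t d = Dp hF 𝔉 m * E0 hF 𝔉 (κt * t) (κt ^ 2 * d) := by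
  unfold u2 uh
  have e : Tp hF 𝔉 κt m * (Dp hF 𝔉 m * E0 hF 𝔉 t d) * (Tp hF 𝔉 κt m)⁻¹ =
      (Tp hF 𝔉 κt m * Dp hF 𝔉 m * (Tp hF 𝔉 κt m)⁻¹) *
        (Tp hF 𝔉 κt m * E0 hF 𝔉 t d * (Tp hF 𝔉 κt m)⁻¹) := by group
  rw [e, Tp_conj_Dp hF 𝔉 κt hκ0 hκq, Tp_conj_E0 hF 𝔉 κt t d hκ0 hκq hd]

theorem E0_zero : E0 hF 𝔉 0 0 = 1 := by
  apply ext_av
  intro x
  unfold E0
  rw [av_hsT hF _ _ _ _ _ 0 0 (HP.zero hF), av_one, zero_pow (q_pos hF).ne']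
  module

theorem E0_mul (t d t' d' : F) (hd : HP q t d) (hd' : HP q t' d') :
    E0 hF 𝔉 t d * E0 hF 𝔉 t' d' = E0 hF 𝔉 (t + t') (d + d' + t' * t ^ q) := by
  unfold E0
  exact hsT_mul hF _ _ _ _ _ t d t' d' hd hd'

theorem E0_inv (t d : F) (hd : HP q t d) : (E0 hF 𝔉 t d)⁻¹ = E0 hF 𝔉 (-t) (d ^ q) := by
  rw [inv_eq_iff_mul_eq_one, E0_mul hF 𝔉 t d (-t) (d ^ q) hd (hd.inv hF)]
  have e1 : t + -t = 0 := by ring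
  have e2 : d + d ^ q + -t * t ^ q = 0 := by
    have := hd
    unfold HP at this
    linear_combination this
  rw [e1, e2, E0_zero]

/-- `y = uh⁻¹ u2` is a Heisenberg element -/
theorem y_eq (hm : 0 < m) (κt t d : F) (hκ0 : κt ≠ 0) (hκq : κt ^ q = κt) (hd : HP q t d) :
    (uh hF 𝔉 t d)⁻¹ * u2 hF 𝔉 κt t d =
      E0 hF 𝔉 ((κt - 1) * t) (d ^ q + κt ^ 2 * d - κt * (t * t ^ q)) := by
  rw [u2_eq hF 𝔉 κt t d hκ0 hκq hd]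
  unfold uh
  have hd2 : HP q (κt * t) (κt ^ 2 * d) := by
    have := hd.smul hF κt
    rw [hκq] at this
    have e : κt * κt * d = κt ^ 2 * d := by ring
    rw [e] at this
    exact this
  have e : (Dp hF 𝔉 m * E0 hF 𝔉 t d)⁻¹ * (Dp hF 𝔉 m * E0 hF 𝔉 (κt * t) (κt ^ 2 * d)) =
      (E0 hF 𝔉 t d)⁻¹ * E0 hF 𝔉 (κt * t) (κt ^ 2 * d) := by group
  rw [e, E0_inv hF 𝔉 t d hd, E0_mul hF 𝔉 _ _ _ _ (hd.inv hF) hd2, neg_pow_q hF]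
  congr 1 <;> ring

end A

end Cfsg.Agent.Lib.Helper6.SURUA4
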