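import Mathlib
import Cfsg.Agent.Lib.Helper9.SURUDefs

/-!
# S2282 farm-out piece FO-A5 (helper6, for architect helper9)

The eleven formulas for the Levi twist `g3 l`.
-/

set_option autoImplicit false
set_option linter.unusedSectionVars false
set_option linter.unusedVariables false

namespace Cfsg.Agent.Lib.Helper6.SURUA5

open Matrix Cfsg.Agent.Lib.Helper6 Cfsg.Agent.S0779 Cfsg.Agent.S0781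
open Cfsg.Agent.Lib.Helper6.SUG Cfsg.Agent.Lib.Helper13 Cfsg.Agent.Lib.Helper9.SUGen
open Cfsg.Agent.Lib.Helper9.SURU

section A
variable {F : Type*} [Field F] [Fintype F] {q n m : ℕ}

local notation "hh" => Cfsg.hermForm n F q

variable (hF : Fintype.card F = q ^ 2) (𝔉 : Frm F q n m)

/-- the action of `torW l` -/
theorem av_torW (hm : 1 < m) (l : F) (hl : l ≠ 0) (x : Fin n → F) :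
    av (torW hF 𝔉 l) x =
      x + ((l ^ q / l - 1) * hh x 𝔉.w) • 𝔉.w + (((l ^ q)⁻¹ - 1) * hh x (𝔉.e 1)) • 𝔉.f 1 +
        ((l - 1) * hh x (𝔉.f 1)) • 𝔉.e 1 := by
  unfold torW
  rw [dif_pos ⟨hm, hl⟩]
  show (Bm q 1 (l - 1) ((l ^ q)⁻¹ - 1) (𝔉.e 1) (𝔉.f 1) * P q (l ^ q / l - 1) 𝔉.w 𝔉.w) *ᵥ x = _
  rw [← mulVec_mulVec, P_mulVec, Bm_mulVec _ _ _ _ _ _ (𝔉.hff 1 1), one_smul, herm_add_left,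
    herm_add_left, herm_smul_left, herm_smul_left, 𝔉.hwe hF, 𝔉.hwf hF]
  module

/-- the Siegel elements `sg (e 0) (f 1) t` -/
theorem av_sgA (t : F) (x : Fin n → F) :
    av (sg hF (𝔉.e 0) (𝔉.f 1) (𝔉.hee _ _) (𝔉.hef_ne Nat.zero_ne_one) (𝔉.hff _ _) t) x =
      x + (t * hh x (𝔉.e 0)) • 𝔉.f 1 - (t ^ q * hh x (𝔉.f 1)) • 𝔉.e 0 :=
  av_sg hF _ _ _ _ _ t x

/-- the Siegel elements `sg (e 1) (f 0) t` -/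
theorem av_sgB (t : F) (x : Fin n → F) :
    av (sg hF (𝔉.e 1) (𝔉.f 0) (𝔉.hee _ _) (𝔉.hef_ne Nat.one_ne_zero) (𝔉.hff _ _) t) x =
      x + (t * hh x (𝔉.e 1)) • 𝔉.f 0 - (t ^ q * hh x (𝔉.f 0)) • 𝔉.e 1 :=
  av_sg hF _ _ _ _ _ t x

/-- the general formula for `g3 l` in terms of the five coordinates of `x` -/
theorem av_g3_gen (hm : 1 < m) (l : F) (hl : l ≠ 0) (x : Fin n → F) :
    av (g3 hF 𝔉 l) x =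
      x + ((l ^ q / l - 1) * hh x 𝔉.w) • 𝔉.w
        + (hh x (𝔉.f 0) * (1 - l) - hh x (𝔉.f 0) + hh x (𝔉.f 1)) • 𝔉.e 0
        + (-(l * hh x (𝔉.f 0)) - hh x (𝔉.f 1)) • 𝔉.e 1
        + (hh x (𝔉.e 1) - hh x (𝔉.e 0)) • 𝔉.f 0
        + (-((l ^ q)⁻¹ * hh x (𝔉.e 0)) + ((1 - l) / l) ^ q * hh x (𝔉.e 1) - hh x (𝔉.e 1)) • 𝔉.f 1 := by
  have h01 : hh (𝔉.e 0) (𝔉.f 1) = 0 := 𝔉.hef_ne Nat.zero_ne_one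
  have h10 : hh (𝔉.e 1) (𝔉.f 0) = 0 := 𝔉.hef_ne Nat.one_ne_zero
  have h00 : hh (𝔉.e 0) (𝔉.f 0) = 1 := 𝔉.hef_same (by omega)
  have h11 : hh (𝔉.e 1) (𝔉.f 1) = 1 := 𝔉.hef_same hm
  have k01 : hh (𝔉.f 0) (𝔉.e 1) = 0 := herm_swap_zero hF h10
  have k10 : hh (𝔉.f 1) (𝔉.e 0) = 0 := herm_swap_zero hF h01
  have k00 : hh (𝔉.f 0) (𝔉.e 0) = 1 := by rw [𝔉.hfe hF, if_pos ⟨rfl, by omega⟩]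
  have k11 : hh (𝔉.f 1) (𝔉.e 1) = 1 := by rw [𝔉.hfe hF, if_pos ⟨rfl, hm⟩]
  have hlq : l ^ q ≠ 0 := pow_ne_zero _ hl
  have e1 : (-(1 : F)) ^ q = -1 := by rw [neg_pow_q hF, one_pow]
  have e2 : (-((1 - l) ^ q)) ^ q = -(1 - l) := by rw [neg_pow_q hF, pow_q_q hF]
  have e3 : ((1 - l) / l) ^ q = (1 - l) ^ q / l ^ q := div_pow _ _ _
  unfold g3
  rw [av_mul, av_mul, av_mul, av_mul, av_torW hF 𝔉 hm l hl, av_sgA, av_sgB, av_sgA, av_sgB]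
  simp only [herm_add_left, herm_sub_left', herm_smul_left, 𝔉.hee, 𝔉.hff, h01, h10, h00, h11,
    k01, k10, k00, k11, 𝔉.hew, 𝔉.hfw, e1, e2, one_pow, e3]
  match_scalars <;> field_simp <;> ring

include hF in
theorem frame_vals (hm : 1 < m) :
    hh (𝔉.e 0) (𝔉.f 1) = 0 ∧ hh (𝔉.e 1) (𝔉.f 0) = 0 ∧ hh (𝔉.e 0) (𝔉.f 0) = 1 ∧
      hh (𝔉.e 1) (𝔉.f 1) = 1 ∧ hh (𝔉.f 0) (𝔉.e 1) = 0 ∧ hh (𝔉.f 1) (𝔉.e 0) = 0 ∧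
      hh (𝔉.f 0) (𝔉.e 0) = 1 ∧ hh (𝔉.f 1) (𝔉.e 1) = 1 := by
  have h01 : hh (𝔉.e 0) (𝔉.f 1) = 0 := 𝔉.hef_ne Nat.zero_ne_one
  have h10 : hh (𝔉.e 1) (𝔉.f 0) = 0 := 𝔉.hef_ne Nat.one_ne_zero
  refine ⟨h01, h10, 𝔉.hef_same (by omega), 𝔉.hef_same hm, herm_swap_zero hF h10,
    herm_swap_zero hF h01, ?_, ?_⟩
  · rw [𝔉.hfe hF, if_pos ⟨rfl, by omega⟩]
  · rw [𝔉.hfe hF, if_pos ⟨rfl, hm⟩]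


theorem av_g3_e0 (hm : 1 < m) (l : F) (hl : l ≠ 0) :
    av (g3 hF 𝔉 l) (𝔉.e 0) = (1 - l) • 𝔉.e 0 - l • 𝔉.e 1 := by
  obtain ⟨h01, h10, h00, h11, k01, k10, k00, k11⟩ := frame_vals hF 𝔉 hm
  rw [av_g3_gen hF 𝔉 hm l hl, 𝔉.hee, 𝔉.hee, 𝔉.hew, h00, h01]
  module

theorem av_g3_e1 (hm : 1 < m) (l : F) (hl : l ≠ 0) : av (g3 hF 𝔉 l) (𝔉.e 1) = 𝔉.e 0 := by
  obtain ⟨h01, h10, h00, h11, k01, k10, k00, k11⟩ := frame_vals hF 𝔉 hm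
  rw [av_g3_gen hF 𝔉 hm l hl, 𝔉.hee, 𝔉.hee, 𝔉.hew, h10, h11]
  module

theorem av_g3_f0 (hm : 1 < m) (l : F) (hl : l ≠ 0) :
    av (g3 hF 𝔉 l) (𝔉.f 0) = (-(l ^ q)⁻¹) • 𝔉.f 1 := by
  obtain ⟨h01, h10, h00, h11, k01, k10, k00, k11⟩ := frame_vals hF 𝔉 hm
  rw [av_g3_gen hF 𝔉 hm l hl, 𝔉.hff, 𝔉.hff, 𝔉.hfw, k00, k01]
  module

theorem av_g3_f1 (hm : 1 < m) (l : F) (hl : l ≠ 0) :
    av (g3 hF 𝔉 l) (𝔉.f 1) = 𝔉.f 0 + (((1 - l) / l) ^ q) • 𝔉.f 1 := by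
  obtain ⟨h01, h10, h00, h11, k01, k10, k00, k11⟩ := frame_vals hF 𝔉 hm
  rw [av_g3_gen hF 𝔉 hm l hl, 𝔉.hff, 𝔉.hff, 𝔉.hfw, k10, k11]
  module

theorem av_g3_w (hm : 1 < m) (l : F) (hl : l ≠ 0) :
    av (g3 hF 𝔉 l) 𝔉.w = (l ^ q / l) • 𝔉.w := by
  rw [av_g3_gen hF 𝔉 hm l hl, 𝔉.hww, 𝔉.hwe hF, 𝔉.hwe hF, 𝔉.hwf hF, 𝔉.hwf hF]
  module

theorem av_g3_fix (hm : 1 < m) (l : F) (hl : l ≠ 0) (x : Fin n → F)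
    (h1 : hh x (𝔉.e 0) = 0) (h2 : hh x (𝔉.e 1) = 0) (h3 : hh x (𝔉.f 0) = 0)
    (h4 : hh x (𝔉.f 1) = 0) (h5 : hh x 𝔉.w = 0) : av (g3 hF 𝔉 l) x = x := by
  rw [av_g3_gen hF 𝔉 hm l hl, h1, h2, h3, h4, h5]
  module

theorem av_g3_inv_e0 (hm : 1 < m) (l : F) (hl : l ≠ 0) :
    av (g3 hF 𝔉 l)⁻¹ (𝔉.e 0) = 𝔉.e 1 := by
  rw [← av_g3_e1 hF 𝔉 hm l hl, av_inv_av]

theorem av_g3_inv_e1 (hm : 1 < m) (l : F) (hl : l ≠ 0) :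
    av (g3 hF 𝔉 l)⁻¹ (𝔉.e 1) = (-l⁻¹) • 𝔉.e 0 + ((1 - l) / l) • 𝔉.e 1 := by
  have h : av (g3 hF 𝔉 l) ((-l⁻¹) • 𝔉.e 0 + ((1 - l) / l) • 𝔉.e 1) = 𝔉.e 1 := by
    rw [av_add, av_smul, av_smul, av_g3_e0 hF 𝔉 hm l hl, av_g3_e1 hF 𝔉 hm l hl]
    match_scalars <;> field_simp <;> ring
  calc av (g3 hF 𝔉 l)⁻¹ (𝔉.e 1)
      = av (g3 hF 𝔉 l)⁻¹ (av (g3 hF 𝔉 l) ((-l⁻¹) • 𝔉.e 0 + ((1 - l) / l) • 𝔉.e 1)) := by rw [h]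
    _ = _ := av_inv_av _ _

theorem av_g3_inv_f0 (hm : 1 < m) (l : F) (hl : l ≠ 0) :
    av (g3 hF 𝔉 l)⁻¹ (𝔉.f 0) = ((1 - l) ^ q) • 𝔉.f 0 + 𝔉.f 1 := by
  have hlq : l ^ q ≠ 0 := pow_ne_zero _ hl
  have h : av (g3 hF 𝔉 l) (((1 - l) ^ q) • 𝔉.f 0 + 𝔉.f 1) = 𝔉.f 0 := by
    rw [av_add, av_smul, av_g3_f0 hF 𝔉 hm l hl, av_g3_f1 hF 𝔉 hm l hl, div_pow]
    match_scalars <;> field_simp <;> ring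
  calc av (g3 hF 𝔉 l)⁻¹ (𝔉.f 0)
      = av (g3 hF 𝔉 l)⁻¹ (av (g3 hF 𝔉 l) (((1 - l) ^ q) • 𝔉.f 0 + 𝔉.f 1)) := by rw [h]
    _ = _ := av_inv_av _ _

theorem av_g3_inv_f1 (hm : 1 < m) (l : F) (hl : l ≠ 0) :
    av (g3 hF 𝔉 l)⁻¹ (𝔉.f 1) = (-(l ^ q)) • 𝔉.f 0 := by
  have hlq : l ^ q ≠ 0 := pow_ne_zero _ hl
  have h : av (g3 hF 𝔉 l) ((-(l ^ q)) • 𝔉.f 0) = 𝔉.f 1 := by
    rw [av_smul, av_g3_f0 hF 𝔉 hm l hl]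
    match_scalars <;> field_simp
  calc av (g3 hF 𝔉 l)⁻¹ (𝔉.f 1)
      = av (g3 hF 𝔉 l)⁻¹ (av (g3 hF 𝔉 l) ((-(l ^ q)) • 𝔉.f 0)) := by rw [h]
    _ = _ := av_inv_av _ _

theorem av_g3_inv_w (hm : 1 < m) (l : F) (hl : l ≠ 0) :
    av (g3 hF 𝔉 l)⁻¹ 𝔉.w = (l / l ^ q) • 𝔉.w := by
  have hlq : l ^ q ≠ 0 := pow_ne_zero _ hl
  have h : av (g3 hF 𝔉 l) ((l / l ^ q) • 𝔉.w) = 𝔉.w := by
    rw [av_smul, av_g3_w hF 𝔉 hm l hl]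
    match_scalars <;> field_simp
  calc av (g3 hF 𝔉 l)⁻¹ 𝔉.w
      = av (g3 hF 𝔉 l)⁻¹ (av (g3 hF 𝔉 l) ((l / l ^ q) • 𝔉.w)) := by rw [h]
    _ = _ := av_inv_av _ _

end A

end Cfsg.Agent.Lib.Helper6.SURUA5
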