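import Mathlib
import Cfsg.Agent.Lib.Helper9.SURUDefs
import Cfsg.Agent.Lib.Helper7.SURUA12
import Cfsg.Agent.Lib.Helper7.SURUA3
import Cfsg.Agent.Lib.Helper6.SURUA4
import Cfsg.Agent.Lib.Helper6.SURUA5

/-!
# S2282 farm-out (architect helper9): FO-A7

The torus word `h = uh⁻¹ u3` (`av_h_e0`, `av_h_w`), the transvection `τ0` as a commutator of two
Heisenberg elements with centre `e 0` (`tau0_mem`), and `e 0 ∈ XL H` in the large field design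
(`e0_mem_XL`).  Also the two formulas `av_u3_e0`, `av_u3_w` of FO-A6 which are needed here.
-/

set_option autoImplicit false
set_option linter.unusedSectionVars false
set_option linter.unusedVariables false

namespace Cfsg.Agent.Lib.Helper6.SURUA7

open Matrix Cfsg.Agent.Lib.Helper6 Cfsg.Agent.S0779 Cfsg.Agent.S0781
open Cfsg.Agent.Lib.Helper6.SUG Cfsg.Agent.Lib.Helper13 Cfsg.Agent.Lib.Helper9.SUGen
open Cfsg.Agent.Lib.Helper9.SURU Cfsg.Agent.Lib.Helper7.SURU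
open Cfsg.Agent.Lib.Helper6.SURUA4 Cfsg.Agent.Lib.Helper6.SURUA5

section A
variable {F : Type*} [Field F] [Fintype F] {q n m : ℕ}

local notation "hh" => Cfsg.hermForm n F q

variable (hF : Fintype.card F = q ^ 2) (𝔉 : Frm F q n m)

theorem av_Wp_inv_w (κ : F) (hκ : κ ^ q = -κ) (k : ℕ) :
    av (Wp hF 𝔉 κ hκ k)⁻¹ 𝔉.w = 𝔉.w :=
  av_inv_eq_of (av_Wp_w hF 𝔉 κ hκ k)

/-- unfolding `u3` on a vector -/
theorem av_u3 (l κ : F) (hκ : κ ^ q = -κ) (t d : F) (x : Fin n → F) :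
    av (u3 hF 𝔉 l κ hκ t d) x =
      av (g3 hF 𝔉 l) (av (Wp hF 𝔉 κ hκ m) (av (uh hF 𝔉 t d)
        (av (Wp hF 𝔉 κ hκ m)⁻¹ (av (g3 hF 𝔉 l)⁻¹ x)))) := by
  unfold u3 gNP
  rw [_root_.mul_inv_rev, av_mul, av_mul, av_mul, av_mul]

theorem av_u3_e0 (hm : 1 < m) (l κ : F) (hκ : κ ^ q = -κ) (hκ0 : κ ≠ 0) (hl : l ≠ 0) (t d : F)
    (hd : HP q t d) :
    av (u3 hF 𝔉 l κ hκ t d) (𝔉.e 0) = l • (𝔉.e 0 + 𝔉.e 1) := by
  rw [av_u3, av_g3_inv_e0 hF 𝔉 hm l hl, av_Wp_inv_e hF 𝔉 κ hκ hκ0, if_pos hm, av_smul,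
    av_uh_f1 hF 𝔉 hm t d hd, av_smul, av_sub, av_Wp_f hF 𝔉 κ hκ hκ0, av_Wp_f hF 𝔉 κ hκ hκ0,
    if_pos hm, if_pos (by omega : 0 < m), av_smul, av_sub, av_smul, av_smul,
    av_g3_e0 hF 𝔉 hm l hl, av_g3_e1 hF 𝔉 hm l hl]
  match_scalars <;> field_simp <;> ring

theorem av_u3_w (hm : 1 < m) (l κ : F) (hκ : κ ^ q = -κ) (hκ0 : κ ≠ 0) (hl : l ≠ 0) (t d : F)
    (hd : HP q t d) :
    av (u3 hF 𝔉 l κ hκ t d) 𝔉.w = 𝔉.w + (l / l ^ q * κ⁻¹ * t ^ q) • (𝔉.f 0 - 𝔉.f 1) := by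
  have hlq : l ^ q ≠ 0 := pow_ne_zero _ hl
  have e1 : ((1 - l) / l) ^ q = (1 - l ^ q) / l ^ q := by
    rw [div_pow, sub_pow_q hF, one_pow]
  rw [av_u3, av_g3_inv_w hF 𝔉 hm l hl]
  simp only [av_smul, av_add, av_sub, av_Wp_inv_w, av_uh_w hF 𝔉 (by omega : 0 < m) t d hd,
    av_Wp_w, av_Wp_e hF 𝔉 κ hκ hκ0, if_pos hm, if_pos (by omega : 0 < m),
    av_g3_w hF 𝔉 hm l hl, av_g3_f0 hF 𝔉 hm l hl, av_g3_f1 hF 𝔉 hm l hl, e1]
  match_scalars <;> field_simp <;> ring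

/-! ### A7 -/

theorem av_h_e0 (hm : 1 < m) (l κ : F) (hκ : κ ^ q = -κ) (hκ0 : κ ≠ 0) (hl : l ≠ 0) (t d : F)
    (hd : HP q t d) :
    av ((uh hF 𝔉 t d)⁻¹ * u3 hF 𝔉 l κ hκ t d) (𝔉.e 0) = l • 𝔉.e 0 := by
  rw [av_mul, av_u3_e0 hF 𝔉 hm l κ hκ hκ0 hl t d hd, av_smul]
  congr 1
  exact av_inv_eq_of (av_uh_e hF 𝔉 t d hd 0)

theorem av_h_w (hm : 1 < m) (l κ : F) (hκ : κ ^ q = -κ) (hκ0 : κ ≠ 0) (hl : l ≠ 0) (t d : F)
    (hd : HP q t d) :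
    av ((uh hF 𝔉 t d)⁻¹ * u3 hF 𝔉 l κ hκ t d) 𝔉.w =
      𝔉.w + t ^ q • 𝔉.e 0 - (l / l ^ q * κ⁻¹ * t ^ q) • 𝔉.f 1 := by
  rw [av_mul, av_u3_w hF 𝔉 hm l κ hκ hκ0 hl t d hd, av_add, av_smul, av_sub,
    av_uh_inv_w hF 𝔉 (by omega : 0 < m) t d hd, av_uh_inv_f0 hF 𝔉 (by omega : 0 < m) t d hd,
    av_uh_inv_f1 hF 𝔉 hm t d hd]
  module

theorem herm_sub_left' (x y z : Fin n → F) : hh (x - y) z = hh x z - hh y z := by
  have h1 : x - y = x + (-1 : F) • y := by simp [sub_eq_add_neg]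
  rw [h1, herm_add_left, herm_smul_left]
  ring

/-- a Heisenberg element `y = E0 ty dy` at `e 0` and an element `h` with `h e 0 = l e 0`,
`h(w, h w) = 1` give the transvection `tv (e 0) (ty ty^q (l - l^q))` as the commutator
`[y, h y h⁻¹]`. -/
theorem tau0_mem (hm : 0 < m) (H : Subgroup ↥(Cfsg.SU n F q)) (h : ↥(Cfsg.SU n F q)) (hh' : h ∈ H)
    (l : F) (hl : l ≠ 0) (hhe : av h (𝔉.e 0) = l • 𝔉.e 0)
    (hhw : hh 𝔉.w (av h 𝔉.w) = 1) (ty dy : F) (hdy : HP q ty dy)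
    (hy : E0 hF 𝔉 ty dy ∈ H) (c : F) (hc : c = ty * ty ^ q * (l - l ^ q))
    (hcq : c ^ q = -c) : tv hF (𝔉.e 0) c (𝔉.hee 0 0) hcq ∈ H := by
  have hq0 : q ≠ 0 := (q_pos hF).ne'
  -- the relevant values of the form
  have huu' : hh (l • 𝔉.e 0) (l • 𝔉.e 0) = 0 := by
    rw [herm_smul_left, herm_smul_right, 𝔉.hee]; ring
  have huw' : hh (l • 𝔉.e 0) (av h 𝔉.w) = 0 := by
    rw [← hhe, herm_av, 𝔉.hew]
  have hww' : hh (av h 𝔉.w) (av h 𝔉.w) = 1 := by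
    rw [herm_av, 𝔉.hww]
  have hew' : hh (𝔉.e 0) (av h 𝔉.w) = 0 := by
    have := huw'
    rw [herm_smul_left] at this
    rcases mul_eq_zero.mp this with h0 | h0
    · exact absurd h0 hl
    · exact h0
  have hw'e : hh (av h 𝔉.w) (𝔉.e 0) = 0 := herm_swap_zero hF hew'
  have hw'w : hh (av h 𝔉.w) 𝔉.w = 1 := by
    rw [← herm_conj hF, hhw, one_pow]
  -- the conjugate Heisenberg element
  have hconj : h * E0 hF 𝔉 ty dy * h⁻¹ =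
      hsT hF (l • 𝔉.e 0) (av h 𝔉.w) huu' huw' hww' ty dy := by
    unfold E0
    exact conj_hsT hF h (𝔉.e 0) 𝔉.w (l • 𝔉.e 0) (av h 𝔉.w) (𝔉.hee 0 0) (𝔉.hew 0) 𝔉.hww
      huu' huw' hww' hhe rfl ty dy hdy
  have hy' : hsT hF (l • 𝔉.e 0) (av h 𝔉.w) huu' huw' hww' ty dy ∈ H := by
    rw [← hconj]
    exact H.mul_mem (H.mul_mem hh' hy) (H.inv_mem hh')
  -- the commutator identity
  have key : tv hF (𝔉.e 0) c (𝔉.hee 0 0) hcq *
      (hsT hF (l • 𝔉.e 0) (av h 𝔉.w) huu' huw' hww' ty dy * E0 hF 𝔉 ty dy) =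
      E0 hF 𝔉 ty dy * hsT hF (l • 𝔉.e 0) (av h 𝔉.w) huu' huw' hww' ty dy := by
    apply ext_av
    intro x
    rw [av_mul, av_mul, av_mul, av_tv, av_hsT hF _ _ huu' huw' hww' ty dy hdy,
      av_hsT hF _ _ huu' huw' hww' ty dy hdy, av_E0 hF 𝔉 ty dy hdy, av_E0 hF 𝔉 ty dy hdy]
    simp only [herm_add_left, herm_sub_left', herm_smul_left, herm_smul_right,
      𝔉.hee, 𝔉.hew, 𝔉.hwe hF, hhw, hew', hw'e, hw'w, hc]
    match_scalars <;> ring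
  have e : tv hF (𝔉.e 0) c (𝔉.hee 0 0) hcq =
      (E0 hF 𝔉 ty dy * hsT hF (l • 𝔉.e 0) (av h 𝔉.w) huu' huw' hww' ty dy) *
        (hsT hF (l • 𝔉.e 0) (av h 𝔉.w) huu' huw' hww' ty dy * E0 hF 𝔉 ty dy)⁻¹ := by
    rw [← key, mul_inv_cancel_right]
  rw [e]
  exact H.mul_mem (H.mul_mem hy hy') (H.inv_mem (H.mul_mem hy' hy))

include hF in
/-- the parameters of the Heisenberg element `y = uh⁻¹ u2` satisfy the norm condition -/
theorem HP_y (κt t d : F) (hκq : κt ^ q = κt) (hd : HP q t d) :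
    HP q ((κt - 1) * t) (d ^ q + κt ^ 2 * d - κt * (t * t ^ q)) := by
  have hd' : d + d ^ q = t * t ^ q := hd
  unfold HP
  rw [sub_pow_q hF, add_pow_q hF, pow_q_q hF, mul_pow, mul_pow, mul_pow, mul_pow, pow_q_q hF,
    sub_pow_q hF, one_pow, ← pow_mul, mul_comm 2 q, pow_mul, hκq]
  linear_combination (1 + κt ^ 2) * hd'

/-- `e 0 ∈ XL H` in the large field design -/
theorem e0_mem_XL (hm : 1 < m) (H : Subgroup ↥(Cfsg.SU n F q)) (l κ κt t d : F)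
    (hκ : κ ^ q = -κ) (hκ0 : κ ≠ 0) (hκt0 : κt ≠ 0) (hκt1 : κt ≠ 1) (hκtq : κt ^ q = κt)
    (ht : t ≠ 0) (hd : HP q t d)
    (hgen : ∀ r : F, r ≠ 0 → ∃ j : ℕ, r = l ^ j) (hord : ∀ k : ℕ, l ^ k = 1 → (q ^ 2 - 1) ∣ k)
    (h1 : uh hF 𝔉 t d ∈ H) (h2 : u2 hF 𝔉 κt t d ∈ H) (h3 : u3 hF 𝔉 l κ hκ t d ∈ H) :
    XL H (𝔉.e 0) := by
  classical
  have hq2 := two_le_q' hF
  have hq0 : q ≠ 0 := by omega
  -- `l ≠ 0`
  have hl : l ≠ 0 := by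
    intro hl0
    have hsub : (Finset.univ : Finset F) ⊆ {0, 1} := by
      intro r _
      by_cases hr : r = 0
      · simp [hr]
      · obtain ⟨j, hj⟩ := hgen r hr
        rw [hl0] at hj
        rcases Nat.eq_zero_or_pos j with h0 | h0
        · rw [h0, pow_zero] at hj
          simp [hj]
        · rw [zero_pow h0.ne'] at hj
          exact absurd hj hr
    have hle : Fintype.card F ≤ 2 := by
      calc Fintype.card F = (Finset.univ : Finset F).card := rfl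
        _ ≤ ({0, 1} : Finset F).card := Finset.card_le_card hsub
        _ ≤ 2 := Finset.card_le_two
    rw [hF] at hle
    nlinarith
  -- `l ^ q ≠ l`
  have hlq : l - l ^ q ≠ 0 := by
    intro h0
    have e1 : l ^ q = l := (sub_eq_zero.mp h0).symm
    have e2 : l ^ (q - 1) = 1 := by
      have e3 : l ^ (q - 1) * l = 1 * l := by
        rw [← pow_succ, one_mul, Nat.sub_add_cancel (by omega : 1 ≤ q), e1]
      exact mul_right_cancel₀ hl e3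
    have hdvd := hord (q - 1) e2
    have hle := Nat.le_of_dvd (by omega) hdvd
    have : q ^ 2 - 1 > q - 1 := by
      have : q ^ 2 ≥ 2 * q := by nlinarith
      omega
    omega
  -- the torus word
  have hh' : (uh hF 𝔉 t d)⁻¹ * u3 hF 𝔉 l κ hκ t d ∈ H := H.mul_mem (H.inv_mem h1) h3
  have hhe := av_h_e0 hF 𝔉 hm l κ hκ hκ0 hl t d hd
  have hhw : hh 𝔉.w (av ((uh hF 𝔉 t d)⁻¹ * u3 hF 𝔉 l κ hκ t d) 𝔉.w) = 1 := by
    rw [av_h_w hF 𝔉 hm l κ hκ hκ0 hl t d hd, herm_sub_right hF, herm_add_right hF,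
      herm_smul_right, herm_smul_right, 𝔉.hww, 𝔉.hwe hF, 𝔉.hwf hF]
    ring
  -- the Heisenberg element
  have hdy := HP_y hF κt t d hκtq hd
  have hy : E0 hF 𝔉 ((κt - 1) * t) (d ^ q + κt ^ 2 * d - κt * (t * t ^ q)) ∈ H := by
    rw [← y_eq hF 𝔉 (by omega : 0 < m) κt t d hκt0 hκtq hd]
    exact H.mul_mem (H.inv_mem h1) h2
  have hty : (κt - 1) * t ≠ 0 := mul_ne_zero (sub_ne_zero.mpr hκt1) ht
  obtain ⟨c, hc⟩ : ∃ c : F, c = (κt - 1) * t * ((κt - 1) * t) ^ q * (l - l ^ q) := ⟨_, rfl⟩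
  have hcq : c ^ q = -c := by
    rw [hc, mul_pow, mul_pow, pow_q_q hF, sub_pow_q hF, pow_q_q hF]
    ring
  have hc0 : c ≠ 0 := by
    rw [hc]
    exact mul_ne_zero (mul_ne_zero hty (pow_ne_zero _ hty)) hlq
  have hτ := tau0_mem hF 𝔉 (by omega : 0 < m) H _ hh' l hl hhe hhw _ _ hdy hy c hc hcq
  exact XL_of_gen hF l hgen hord H _ hh' (𝔉.e 0) hhe (𝔉.hee 0 0) c hcq hc0 hτ

end A

end Cfsg.Agent.Lib.Helper6.SURUA7
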