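import Mathlib

/-!
# Fixed-point-free linear groups in dimension at most two, part 1: endomorphism-level lemmas
-/

set_option autoImplicit false

namespace Cfsg.Agent.Lib.Helper6.ZassA

variable {Ω : Type*} [Field Ω] {H : Type*} [Group H] {W : Type*} [AddCommGroup W] [Module Ω W]
  (σ : H →* Module.End Ω W)

/-- The fixed-point-free hypothesis. -/
def FPF : Prop := ∀ x : H, x ≠ 1 → ∀ w : W, σ x w = w → w = 0

variable {σ}

lemma FPF.eq_one [Nontrivial W] (h : FPF σ) {x : H} (hx : σ x = 1) : x = 1 := by
  by_contra hx1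
  obtain ⟨w, hw⟩ := exists_ne (0 : W)
  exact hw (h x hx1 w (by rw [hx]; rfl))

lemma FPF.injective [Nontrivial W] (h : FPF σ) : Function.Injective σ := by
  intro x y hxy
  have : σ (x * y⁻¹) = 1 := by
    rw [map_mul, hxy, ← map_mul, mul_inv_cancel, map_one]
  exact mul_inv_eq_one.mp (h.eq_one this)

lemma apply_mul (x y : H) (w : W) : σ (x * y) w = σ x (σ y w) := by
  rw [map_mul]; rfl

lemma apply_one (w : W) : σ (1 : H) w = w := by
  rw [map_one]; rfl

/-- An element of order three satisfies `x² + x + 1 = 0`. -/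
lemma FPF.quad (h : FPF σ) {x : H} (hx : orderOf x = 3) (w : W) :
    σ x (σ x w) + σ x w + w = 0 := by
  have hx1 : x ≠ 1 := by
    intro hh; rw [hh, orderOf_one] at hx; norm_num at hx
  have hx3 : x ^ 3 = 1 := by rw [← hx]; exact pow_orderOf_eq_one x
  apply h x hx1
  rw [map_add, map_add]
  have : σ x (σ x (σ x w)) = w := by
    rw [← apply_mul, ← apply_mul]
    have : x * x * x = x ^ 3 := by rw [pow_succ, pow_two]
    rw [this, hx3, apply_one]
  rw [this]
  abel

/-- An involution acts as `-1`. -/
lemma FPF.invol (h : FPF σ) {t : H} (ht : t * t = 1) (ht1 : t ≠ 1) (w : W) : σ t w = -w := by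
  have : σ t w + w = 0 := by
    apply h t ht1
    rw [map_add, ← apply_mul, ht, apply_one]
    abel
  exact eq_neg_of_add_eq_zero_left this

lemma FPF.invol_unique [Nontrivial W] (h : FPF σ) {t s : H} (ht : t * t = 1) (ht1 : t ≠ 1)
    (hs : s * s = 1) (hs1 : s ≠ 1) : t = s := by
  apply h.injective
  ext w
  rw [h.invol ht ht1, h.invol hs hs1]

/-- Two commuting elements of order three generate the same subgroup. -/
lemma FPF.comm3 [Nontrivial W] (h : FPF σ) {x y : H} (hx : orderOf x = 3) (hy : orderOf y = 3)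
    (hxy : x * y = y * x) : y = x ∨ y = x⁻¹ := by
  by_contra hcon
  push Not at hcon
  obtain ⟨hyx, hyxi⟩ := hcon
  have hx3 : x ^ 3 = 1 := by rw [← hx]; exact pow_orderOf_eq_one x
  -- (σy - σx)(σy - σx⁻¹) = 0
  have key : ∀ w : W, σ y w = σ x⁻¹ w := by
    intro w
    have hq := h.quad hy w
    have hqx := h.quad hx (σ x⁻¹ (σ y w))
    have e1 : σ x (σ x⁻¹ (σ y w)) = σ y w := by
      rw [← apply_mul, mul_inv_cancel, apply_one]
    have hcomm : x⁻¹ * y = y * x⁻¹ := by
      have := congrArg (fun z => x⁻¹ * z * x⁻¹) hxy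
      simpa [mul_assoc] using this.symm
    have e2 : σ y (σ x⁻¹ w) = σ x⁻¹ (σ y w) := by
      rw [← apply_mul, ← apply_mul, hcomm]
    have e3 : σ x (σ x⁻¹ w) = w := by
      rw [← apply_mul, mul_inv_cancel, apply_one]
    rw [e1] at hqx
    have hv : σ (x⁻¹ * y) (σ y w - σ x⁻¹ w) = σ y w - σ x⁻¹ w := by
      have h1 : σ y (σ y w - σ x⁻¹ w) = σ x (σ y w - σ x⁻¹ w) := by
        rw [map_sub, map_sub, e2, e3, ← sub_eq_zero]
        have : σ y (σ y w) - σ x⁻¹ (σ y w) - (σ x (σ y w) - w) =
            (σ y (σ y w) + σ y w + w) - (σ x (σ y w) + σ y w + σ x⁻¹ (σ y w)) := by abel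
        rw [this, hq, hqx, sub_zero]
      rw [apply_mul, h1, ← apply_mul, inv_mul_cancel, apply_one]
    have hne : x⁻¹ * y ≠ 1 := by
      intro hh
      apply hyx
      have := congrArg (fun z => x * z) hh
      simpa using this
    have := h (x⁻¹ * y) hne _ hv
    exact sub_eq_zero.mp this
  apply hyxi
  apply h.injective
  ext w
  exact key w

/-- If all elements of order three commute with a fixed one, the group has order three. -/
lemma FPF.card_of_central [Nontrivial W] (h : FPF σ) (hgen : Subgroup.closure {x : H | orderOf x = 3} = ⊤)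
    {x : H} (hx : orderOf x = 3) (hc : ∀ y : H, orderOf y = 3 → x * y = y * x) :
    Nat.card H = 3 := by
  have hle : Subgroup.closure {x : H | orderOf x = 3} ≤ Subgroup.zpowers x := by
    rw [Subgroup.closure_le]
    intro y hy
    rcases h.comm3 hx hy (hc y hy) with rfl | rfl
    · exact Subgroup.mem_zpowers _
    · exact inv_mem (Subgroup.mem_zpowers _)
  rw [hgen, top_le_iff] at hle
  rw [← Nat.card_congr (Equiv.Set.univ H), ← Subgroup.coe_top, SetLike.coe_sort_coe, ← hle, Nat.card_zpowers, hx]

/-- If the elements of order three commute pairwise, the group has order one or three. -/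
lemma FPF.card_of_commute [Nontrivial W] (h : FPF σ) (hgen : Subgroup.closure {x : H | orderOf x = 3} = ⊤)
    (hc : ∀ x y : H, orderOf x = 3 → orderOf y = 3 → x * y = y * x) :
    Nat.card H = 1 ∨ Nat.card H = 3 := by
  by_cases hex : ∃ x : H, orderOf x = 3
  · obtain ⟨x, hx⟩ := hex
    exact Or.inr (h.card_of_central hgen hx (fun y hy => hc x y hx hy))
  · left
    push Not at hex
    have : {x : H | orderOf x = 3} = ∅ := by
      ext x; simp [hex x]
    rw [this, Subgroup.closure_empty] at hgen
    have : Subsingleton H := by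
      constructor
      intro a b
      have ha : a ∈ (⊥ : Subgroup H) := hgen ▸ Subgroup.mem_top a
      have hb : b ∈ (⊥ : Subgroup H) := hgen ▸ Subgroup.mem_top b
      rw [Subgroup.mem_bot] at ha hb
      rw [ha, hb]
    exact Nat.card_unique

end Cfsg.Agent.Lib.Helper6.ZassA
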