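import Mathlib
import Cfsg.Agent.Lib.Helper6.ZassA1

/-!
# Fixed-point-free linear groups in dimension at most two, part 2: dimension one, and the
  finite-field matrix model in dimension two
-/

set_option autoImplicit false

namespace Cfsg.Agent.Lib.Helper6.ZassA

universe u v w

section dimOne

variable {Ω : Type u} [Field Ω] {H : Type v} [Group H] {W : Type w} [AddCommGroup W] [Module Ω W]
  {σ : H →* Module.End Ω W}

lemma end_comm_of_finrank_one (h1 : Module.finrank Ω W = 1) (f g : Module.End Ω W) :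
    f * g = g * f := by
  obtain ⟨v, -, hv⟩ := finrank_eq_one_iff'.mp h1
  obtain ⟨a, ha⟩ := hv (f v)
  obtain ⟨b, hb⟩ := hv (g v)
  ext w
  obtain ⟨c, rfl⟩ := hv w
  simp only [Module.End.mul_apply, map_smul, ← ha, ← hb]
  rw [smul_comm a b]

lemma FPF.card_of_finrank_one [Nontrivial W] (h : FPF σ) (h1 : Module.finrank Ω W = 1)
    (hgen : Subgroup.closure {x : H | orderOf x = 3} = ⊤) : Nat.card H = 1 ∨ Nat.card H = 3 := by
  apply h.card_of_commute hgen
  intro x y _ _
  apply h.injective
  rw [map_mul, map_mul]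
  exact end_comm_of_finrank_one h1 _ _

end dimOne

section matrix

variable {Ω : Type u} [Field Ω]

/-- A non-scalar `2 × 2` matrix with `M² + M + 1 = 0` has determinant one. -/
lemma det_eq_one_of_quad (M : Matrix (Fin 2) (Fin 2) Ω) (hM : M * M + M + 1 = 0)
    (hns : ¬ (M 0 1 = 0 ∧ M 1 0 = 0 ∧ M 0 0 = M 1 1)) : M.det = 1 := by
  have h00 := congrFun (congrFun hM 0) 0
  have h01 := congrFun (congrFun hM 0) 1
  have h10 := congrFun (congrFun hM 1) 0
  have h11 := congrFun (congrFun hM 1) 1
  simp only [Matrix.add_apply, Matrix.mul_apply, Fin.sum_univ_two, Matrix.one_apply_eq,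
    Matrix.zero_apply] at h00 h11
  simp only [Matrix.add_apply, Matrix.mul_apply, Fin.sum_univ_two, Matrix.zero_apply] at h01 h10
  rw [Matrix.one_apply_ne (by decide)] at h01 h10
  set a := M 0 0
  set b := M 0 1
  set c := M 1 0
  set d := M 1 1
  have hb : b * (a + d + 1) = 0 := by linear_combination h01
  have hc : c * (a + d + 1) = 0 := by linear_combination h10
  have hd : (a - d) * (a + d + 1) = 0 := by linear_combination h00 - h11
  have hs : a + d + 1 = 0 := by
    by_contra hne
    apply hns
    refine ⟨?_, ?_, ?_⟩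
    · exact (mul_eq_zero.mp hb).resolve_right hne
    · exact (mul_eq_zero.mp hc).resolve_right hne
    · exact sub_eq_zero.mp ((mul_eq_zero.mp hd).resolve_right hne)
  rw [Matrix.det_fin_two]
  show a * d - b * c = 1
  linear_combination (-1 : Ω) * h00 + a * hs

end matrix

section model

variable {q : ℕ} [Fact q.Prime] {Ω : Type u} [Field Ω] [Algebra (ZMod q) Ω]
  [Algebra.IsAlgebraic (ZMod q) Ω] {H : Type v} [Group H] [Finite H]
  {W : Type w} [AddCommGroup W] [Module Ω W] [Module.Finite Ω W] [Nontrivial W]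
  {σ : H →* Module.End Ω W}

/-- The finite-field matrix model of a two-dimensional fixed-point-free representation whose
elements of order three do not act as scalars. -/
theorem FPF.exists_model (h : FPF σ) (h2 : Module.finrank Ω W = 2)
    (hgen : Subgroup.closure {x : H | orderOf x = 3} = ⊤)
    (hns : ∀ x : H, orderOf x = 3 → ¬ ∃ c : Ω, σ x = c • (1 : Module.End Ω W)) :
    ∃ (F : Type u) (_ : Field F) (_ : Fintype F) (_ : CharP F q)
      (ρ' : H →* Matrix.SpecialLinearGroup (Fin 2) F),
      ∀ x : H, (ρ' x : Matrix (Fin 2) (Fin 2) F) 0 1 = 0 → (ρ' x : Matrix (Fin 2) (Fin 2) F) 1 0 = 0 →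
        (ρ' x : Matrix (Fin 2) (Fin 2) F) 0 0 = (ρ' x : Matrix (Fin 2) (Fin 2) F) 1 1 →
        (σ x = 1 ∨ σ x = -1) := by
  classical
  let b := Module.finBasisOfFinrankEq Ω W h2
  let T : Module.End Ω W ≃ₐ[Ω] Matrix (Fin 2) (Fin 2) Ω := LinearMap.toMatrixAlgEquiv b
  let ρ : H →* Matrix (Fin 2) (Fin 2) Ω := (T : Module.End Ω W →* Matrix (Fin 2) (Fin 2) Ω).comp σ
  have hρ : ∀ x, ρ x = T (σ x) := fun x => rfl
  -- quadratic relation
  have hquad : ∀ x : H, orderOf x = 3 → ρ x * ρ x + ρ x + 1 = 0 := by
    intro x hx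
    have : σ x * σ x + σ x + 1 = 0 := by
      ext w
      exact h.quad hx w
    have h3 := congrArg T this
    rw [map_add, map_add, map_mul, map_one, map_zero] at h3
    exact h3
  have hnsM : ∀ x : H, orderOf x = 3 → ¬ (ρ x 0 1 = 0 ∧ ρ x 1 0 = 0 ∧ ρ x 0 0 = ρ x 1 1) := by
    intro x hx hsc
    apply hns x hx
    refine ⟨ρ x 0 0, ?_⟩
    apply T.injective
    rw [map_smul, map_one, ← hρ]
    ext i j
    fin_cases i <;> fin_cases j <;> simp [hsc.1, hsc.2.1, hsc.2.2.symm]
  -- determinant one
  have hdet : ∀ x : H, (ρ x).det = 1 := by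
    let D : H →* Ω := (Matrix.detMonoidHom).comp ρ
    have hker : Subgroup.closure {x : H | orderOf x = 3} ≤ D.ker := by
      rw [Subgroup.closure_le]
      intro x hx
      rw [SetLike.mem_coe, MonoidHom.mem_ker]
      exact det_eq_one_of_quad _ (hquad x hx) (hnsM x hx)
    rw [hgen] at hker
    intro x
    have := hker (Subgroup.mem_top x)
    rw [MonoidHom.mem_ker] at this
    exact this
  -- the finite subfield
  let S : Set Ω := Set.range (fun t : H × Fin 2 × Fin 2 => ρ t.1 t.2.1 t.2.2)
  have : Finite S := Set.finite_range _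
  let F' : IntermediateField (ZMod q) Ω := IntermediateField.adjoin (ZMod q) S
  have : FiniteDimensional (ZMod q) F' :=
    IntermediateField.finiteDimensional_adjoin
      (fun x _ => (Algebra.IsAlgebraic.isAlgebraic x).isIntegral)
  have : Finite F' := Module.finite_of_finite (ZMod q)
  let _ : Fintype F' := Fintype.ofFinite F'
  have : CharP F' q := charP_of_injective_algebraMap (algebraMap (ZMod q) F').injective q
  have hmem : ∀ x i j, ρ x i j ∈ F' := fun x i j =>
    IntermediateField.subset_adjoin (ZMod q) S ⟨(x, i, j), rfl⟩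
  let M : H → Matrix (Fin 2) (Fin 2) F' := fun x i j => ⟨ρ x i j, hmem x i j⟩
  have hmap : ∀ x, (M x).map (algebraMap F' Ω) = ρ x := by
    intro x; ext i j; rfl
  have hinj : Function.Injective (fun N : Matrix (Fin 2) (Fin 2) F' => N.map (algebraMap F' Ω)) :=
    Matrix.map_injective (algebraMap F' Ω).injective
  have hMmul : ∀ x y, M (x * y) = M x * M y := by
    intro x y
    apply hinj
    show (M (x * y)).map (algebraMap F' Ω) = (M x * M y).map (algebraMap F' Ω)
    rw [Matrix.map_mul, hmap, hmap, hmap, map_mul]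
  have hMone : M 1 = 1 := by
    apply hinj
    show (M 1).map (algebraMap F' Ω) = (1 : Matrix (Fin 2) (Fin 2) F').map (algebraMap F' Ω)
    rw [hmap, map_one, Matrix.map_one _ (map_zero _) (map_one _)]
  have hMdet : ∀ x, (M x).det = 1 := by
    intro x
    apply (algebraMap F' Ω).injective
    rw [RingHom.map_det, map_one]
    have : (algebraMap F' Ω).mapMatrix (M x) = ρ x := hmap x
    rw [this, hdet]
  let ρ' : H →* Matrix.SpecialLinearGroup (Fin 2) F' :=
    { toFun := fun x => ⟨M x, hMdet x⟩
      map_one' := Subtype.ext hMone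
      map_mul' := fun x y => Subtype.ext (hMmul x y) }
  refine ⟨F', inferInstance, inferInstance, inferInstance, ρ', ?_⟩
  intro x h01 h10 h00
  have h01' : M x 0 1 = 0 := h01
  have h10' : M x 1 0 = 0 := h10
  have h00' : M x 0 0 = M x 1 1 := h00
  have hd := hMdet x
  rw [Matrix.det_fin_two, h01', h10', ← h00', mul_zero, sub_zero] at hd
  have hT : ∀ c : Ω, ρ x = c • 1 → σ x = c • 1 := by
    intro c hc
    apply T.injective
    rw [map_smul, map_one, ← hρ, hc]
  have hscal : ρ x = (algebraMap F' Ω (M x 0 0)) • (1 : Matrix (Fin 2) (Fin 2) Ω) := by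
    rw [← hmap x]
    ext i j
    fin_cases i <;> fin_cases j <;> simp [h01', h10', ← h00']
  rcases mul_self_eq_one_iff.mp hd with hc | hc
  · left
    rw [hT _ hscal, hc, map_one, one_smul]
  · right
    rw [hT _ hscal, hc, map_neg, map_one, neg_smul, one_smul]

end model

end Cfsg.Agent.Lib.Helper6.ZassA
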