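import Mathlib
import Cfsg.Agent.Lib.Helper6.ZassA2
import Cfsg.Agent.Lib.Helper15.Mx16

/-!
# Fixed-point-free linear groups in dimension at most two, part 3: the case analysis through
  the `p'`-case of Dickson's theorem
-/

set_option autoImplicit false
set_option linter.unusedSectionVars false

namespace Cfsg.Agent.Lib.Helper6.ZassA

open Matrix
open Cfsg.Agent.Lib.Helper14 Cfsg.Agent.Lib.Helper15 Cfsg.Agent.Lib.Helper15.Dk
open Cfsg.Agent.Lib.Helper15.Mx

section alt

lemma card_alt_four : Nat.card (alternatingGroup (Fin 4)) = 12 := by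
  rw [Nat.card_eq_fintype_card]
  have := two_mul_card_alternatingGroup (α := Fin 4)
  rw [Fintype.card_perm, Fintype.card_fin] at this
  have h4 : Nat.factorial 4 = 24 := by decide
  omega

lemma card_alt_five : Nat.card (alternatingGroup (Fin 5)) = 60 := by
  rw [Nat.card_eq_fintype_card]
  have := two_mul_card_alternatingGroup (α := Fin 5)
  rw [Fintype.card_perm, Fintype.card_fin] at this
  have h5 : Nat.factorial 5 = 120 := by decide
  omega

lemma two_invol_four : ∃ s t : alternatingGroup (Fin 4), s * s = 1 ∧ s ≠ 1 ∧ t * t = 1 ∧ t ≠ 1 ∧ s ≠ t := by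
  refine ⟨⟨Equiv.swap 0 1 * Equiv.swap 2 3, ?_⟩, ⟨Equiv.swap 0 2 * Equiv.swap 1 3, ?_⟩, ?_⟩
  · rw [Equiv.Perm.mem_alternatingGroup]; decide
  · rw [Equiv.Perm.mem_alternatingGroup]; decide
  · decide

lemma two_invol_five : ∃ s t : alternatingGroup (Fin 5), s * s = 1 ∧ s ≠ 1 ∧ t * t = 1 ∧ t ≠ 1 ∧ s ≠ t := by
  refine ⟨⟨Equiv.swap 0 1 * Equiv.swap 2 3, ?_⟩, ⟨Equiv.swap 0 2 * Equiv.swap 1 3, ?_⟩, ?_⟩
  · rw [Equiv.Perm.mem_alternatingGroup]; decide
  · rw [Equiv.Perm.mem_alternatingGroup]; decide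
  · decide

end alt

section main

variable {Ω : Type*} [Field Ω] {H : Type*} [Group H] [Finite H] {W : Type*} [AddCommGroup W]
  [Module Ω W] [Nontrivial W] {σ : H →* Module.End Ω W}
  {F : Type*} [Field F] [Fintype F]
  (ρ' : H →* SpecialLinearGroup (Fin 2) F)

/-- The projection to `PSL₂`. -/
def proj : H →* ProjectiveSpecialLinearGroup (Fin 2) F := (toPSL2 F).comp ρ'

variable {ρ'}

omit [Finite H] [Fintype F] in
lemma mem_ker_proj {x : H} : x ∈ (proj ρ').ker ↔ IsScalar2 (ρ' x : Matrix (Fin 2) (Fin 2) F) := by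
  rw [MonoidHom.mem_ker]
  exact toPSL2_eq_one_iff' (ρ' x)

variable (h : FPF σ)
  (hsc : ∀ x : H, IsScalar2 (ρ' x : Matrix (Fin 2) (Fin 2) F) → σ x = 1 ∨ σ x = -1)

include h hsc

lemma ker_proj_le_center : (proj ρ').ker ≤ Subgroup.center H := by
  intro z hz
  rw [Subgroup.mem_center_iff]
  intro g
  apply h.injective
  rw [map_mul, map_mul]
  rcases hsc z (mem_ker_proj.mp hz) with h1 | h1
  · rw [h1, mul_one, one_mul]
  · rw [h1, mul_neg_one, neg_one_mul]

lemma ker_proj_unique {z₁ z₂ : H} (h1 : z₁ ∈ (proj ρ').ker) (h2 : z₂ ∈ (proj ρ').ker)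
    (hz1 : z₁ ≠ 1) (hz2 : z₂ ≠ 1) : z₁ = z₂ := by
  apply h.injective
  have e1 : σ z₁ = -1 := by
    rcases hsc z₁ (mem_ker_proj.mp h1) with h' | h'
    · exact absurd (h.eq_one h') hz1
    · exact h'
  have e2 : σ z₂ = -1 := by
    rcases hsc z₂ (mem_ker_proj.mp h2) with h' | h'
    · exact absurd (h.eq_one h') hz2
    · exact h'
  rw [e1, e2]

lemma card_ker_proj_le : Nat.card (proj ρ').ker ≤ 2 := by
  classical
  by_cases hex : ∃ z : (proj ρ').ker, z ≠ 1
  · obtain ⟨z, hz⟩ := hex
    have hsub : ∀ y : (proj ρ').ker, y = 1 ∨ y = z := by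
      intro y
      by_cases hy : y = 1
      · exact Or.inl hy
      · right
        apply Subtype.ext
        exact ker_proj_unique h hsc y.2 z.2 (fun hh => hy (Subtype.ext hh))
          (fun hh => hz (Subtype.ext hh))
    have : Nat.card (proj ρ').ker ≤ Nat.card (Fin 2) := by
      apply Nat.card_le_card_of_injective (fun y : (proj ρ').ker => if y = 1 then (0 : Fin 2) else 1)
      intro y₁ y₂ hy
      by_cases h1 : y₁ = 1
      · by_cases h2 : y₂ = 1
        · rw [h1, h2]
        · simp [h1, h2] at hy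
      · by_cases h2 : y₂ = 1
        · simp [h1, h2] at hy
        · rw [(hsub y₁).resolve_left h1, (hsub y₂).resolve_left h2]
    simpa using this
  · push Not at hex
    have : Subsingleton (proj ρ').ker := ⟨fun a b => by rw [hex a, hex b]⟩
    rw [Nat.card_unique]
    norm_num

lemma not_order_three_in_ker {x : H} (hx : orderOf x = 3) : x ∉ (proj ρ').ker := by
  intro hmem
  have hxx : σ (x * x) = 1 := by
    rw [map_mul]
    rcases hsc x (mem_ker_proj.mp hmem) with h1 | h1
    · rw [h1, mul_one]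
    · rw [h1, neg_one_mul, neg_neg]
  have := h.eq_one hxx
  have h2 : orderOf x ∣ 2 := by
    apply orderOf_dvd_of_pow_eq_one
    rw [pow_two]; exact this
  rw [hx] at h2
  norm_num at h2

/-- A surjection onto a group with two involutions forces a kernel of order two. -/
lemma card_of_surj {A : Type*} [Group A] [Finite A] (e : ↥(proj ρ').range ≃* A)
    (hinv : ∃ s t : A, s * s = 1 ∧ s ≠ 1 ∧ t * t = 1 ∧ t ≠ 1 ∧ s ≠ t) :
    Nat.card H = 2 * Nat.card A ∧ ∃ f : H →* A, Function.Surjective f ∧ Nat.card f.ker = 2 := by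
  let f : H →* A := e.toMonoidHom.comp (proj ρ').rangeRestrict
  have hf : Function.Surjective f := by
    intro a
    obtain ⟨y, hy⟩ := (proj ρ').rangeRestrict_surjective (e.symm a)
    exact ⟨y, by simp [f, hy]⟩
  have hker : f.ker = (proj ρ').ker := by
    ext x
    simp only [f, MonoidHom.mem_ker, MonoidHom.comp_apply, MulEquiv.coe_toMonoidHom,
      EmbeddingLike.map_eq_one_iff]
    constructor
    · intro hx
      have := congrArg Subtype.val hx
      simpa using this
    · intro hx
      apply Subtype.ext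
      simpa using hx
  have hle : Nat.card f.ker ≤ 2 := by rw [hker]; exact card_ker_proj_le h hsc
  have hne : f.ker ≠ ⊥ := by
    intro hbot
    have hinj : Function.Injective f := (MonoidHom.ker_eq_bot_iff f).mp hbot
    obtain ⟨s, t, hs, hs1, ht, ht1, hst⟩ := hinv
    obtain ⟨x, rfl⟩ := hf s
    obtain ⟨y, rfl⟩ := hf t
    have hx : x * x = 1 := hinj (by rw [map_mul, hs, map_one])
    have hy : y * y = 1 := hinj (by rw [map_mul, ht, map_one])
    have hx1 : x ≠ 1 := fun hh => hs1 (by rw [hh, map_one])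
    have hy1 : y ≠ 1 := fun hh => ht1 (by rw [hh, map_one])
    exact hst (by rw [h.invol_unique hx hx1 hy hy1])
  have h2 : Nat.card f.ker = 2 := by
    have h1 : 1 < Nat.card f.ker := by
      rw [Subgroup.one_lt_card_iff_ne_bot]; exact hne
    omega
  refine ⟨?_, f, hf, h2⟩
  have h3 := Subgroup.card_mul_index f.ker
  rw [Subgroup.index_ker, MonoidHom.range_eq_top.mpr hf, Subgroup.card_top, h2] at h3
  exact h3.symm

end main

end Cfsg.Agent.Lib.Helper6.ZassA
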