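import Mathlib
import Cfsg.Agent.Lib.Helper6.ZassA3

/-!
# Fixed-point-free linear groups in dimension at most two, part 4: the torus case, the
  symmetric case, and the final statement
-/

set_option autoImplicit false
set_option linter.unusedSectionVars false

namespace Cfsg.Agent.Lib.Helper6.ZassA

open Matrix
open Cfsg.Agent.Lib.Helper14 Cfsg.Agent.Lib.Helper15 Cfsg.Agent.Lib.Helper15.Dk
open Cfsg.Agent.Lib.Helper15.Mx

section main

variable {Ω : Type*} [Field Ω] {H : Type*} [Group H] [Finite H] {W : Type*} [AddCommGroup W]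
  [Module Ω W] [Nontrivial W] {σ : H →* Module.End Ω W}
  {F : Type*} [Field F] [Fintype F]
  {ρ' : H →* SpecialLinearGroup (Fin 2) F}
  (h : FPF σ)
  (hsc : ∀ x : H, IsScalar2 (ρ' x : Matrix (Fin 2) (Fin 2) F) → σ x = 1 ∨ σ x = -1)
  (hgen : Subgroup.closure {x : H | orderOf x = 3} = ⊤)

include h hsc hgen

lemma card_of_trivial (h1 : Nat.card (proj ρ').range = 1) : Nat.card H = 1 ∨ Nat.card H = 3 := by
  apply h.card_of_commute hgen
  intro x y hx _
  exfalso
  apply not_order_three_in_ker h hsc hx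
  rw [MonoidHom.mem_ker]
  have hbot : (proj ρ').range = ⊥ := Subgroup.card_eq_one.mp h1
  have : proj ρ' x ∈ (proj ρ').range := ⟨x, rfl⟩
  rw [hbot, Subgroup.mem_bot] at this
  exact this

lemma card_of_torus (hT : HasNormalTorus (proj ρ').range) : Nat.card H = 1 ∨ Nat.card H = 3 := by
  obtain ⟨g, hgns, hgt, hgH, hnorm⟩ := hT
  obtain ⟨hcyc, -, hN⟩ := semisimple_member (proj ρ').range g hgns hgt hgH
  -- Step 1: conjugation by elements of the range preserves `Tor g`
  have hconj : ∀ m ∈ (proj ρ').range, ∀ a ∈ Tor g, m * a * m⁻¹ ∈ Tor g := by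
    intro m hm a ha
    obtain ⟨mt, rfl⟩ := toPSL2_surjective m
    obtain ⟨k, hk, rfl⟩ := ha
    have h1 := hnorm _ (inv_mem hm)
    obtain ⟨i, hi⟩ := Subgroup.mem_zpowers_iff.mp h1
    have hz : (g ^ i)⁻¹ * (mt⁻¹ * g * mt) ∈ Subgroup.center (SpecialLinearGroup (Fin 2) F) := by
      have h0 : toPSL2 F (mt⁻¹ * g * mt) = (toPSL2 F g) ^ i := by
        rw [hi, map_mul, map_mul, map_inv, inv_inv]
      have : toPSL2 F ((g ^ i)⁻¹ * (mt⁻¹ * g * mt)) = 1 := by
        rw [map_mul, map_inv, map_zpow, h0, inv_mul_cancel]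
      have h2 : (g ^ i)⁻¹ * (mt⁻¹ * g * mt) ∈ (toPSL2 F).ker := this
      unfold toPSL2 at h2
      rw [QuotientGroup.ker_mk'] at h2
      exact h2
    set z := (g ^ i)⁻¹ * (mt⁻¹ * g * mt) with hzdef
    have hgz : mt⁻¹ * g * mt = g ^ i * z := by rw [hzdef]; group
    have hkg : Commute k g := by
      rw [SetLike.mem_coe, Subgroup.mem_centralizer_iff] at hk
      exact (hk g rfl).symm
    have hkz : Commute k z := (Subgroup.mem_center_iff.mp hz) k
    have hk2 : Commute k (mt⁻¹ * g * mt) := by
      rw [hgz]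
      exact (hkg.zpow_right i).mul_right hkz
    have hmem : mt * k * mt⁻¹ ∈ Subgroup.centralizer {g} := by
      rw [Subgroup.mem_centralizer_iff]
      intro x hx
      rw [Set.mem_singleton_iff.mp hx]
      have e := hk2.eq
      calc g * (mt * k * mt⁻¹) = mt * ((mt⁻¹ * g * mt) * k) * mt⁻¹ := by group
        _ = mt * (k * (mt⁻¹ * g * mt)) * mt⁻¹ := by rw [e]
        _ = mt * k * mt⁻¹ * g := by group
    have := (mem_Tor_iff g (mt * k * mt⁻¹)).mpr hmem
    rw [map_mul, map_mul, map_inv] at this
    exact this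
  set A := (Tor g).subgroupOf (proj ρ').range with hA
  have hAn : A.Normal := by
    constructor
    intro a ha m
    rw [hA, Subgroup.mem_subgroupOf] at ha ⊢
    exact hconj m.1 m.2 a.1 ha
  -- Step 2: index at most two
  have hcard : Nat.card (proj ρ').range ≤ 2 * Nat.card A := by
    have htop : Subgroup.normalizer ((A : Subgroup ↥(proj ρ').range) : Set ↥(proj ρ').range) = ⊤ :=
      Subgroup.normalizer_eq_top_iff.mpr hAn
    rw [htop, Subgroup.card_top] at hN
    exact hN
  have hidx : A.index = 1 ∨ A.index = 2 := by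
    have h1 := Subgroup.card_mul_index A
    have hpos : 0 < Nat.card A := Nat.card_pos
    have hne : A.index ≠ 0 := Subgroup.index_ne_zero_of_finite
    have : A.index ≤ 2 := by
      by_contra hcon
      push Not at hcon
      have : Nat.card A * 3 ≤ Nat.card A * A.index := Nat.mul_le_mul_left _ hcon
      omega
    omega
  -- Step 3: elements of order dividing three lie in `A`
  have h3 : ∀ y : ↥(proj ρ').range, y ^ 3 = 1 → y ∈ A := by
    intro y hy
    rcases hidx with h1 | h2
    · rw [Subgroup.index_eq_one.mp h1]; exact Subgroup.mem_top y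
    · have hsq : y * y ∈ A := Subgroup.mul_self_mem_of_index_two h2 y
      have : y = (y * y) * (y * y) * (y ^ 3)⁻¹ := by group
      rw [this, hy, inv_one, mul_one]
      exact mul_mem hsq hsq
  -- Step 4: the range lies in `Tor g`
  have hle : (proj ρ').range ≤ Tor g := by
    rw [MonoidHom.range_eq_map, ← hgen, MonoidHom.map_closure, Subgroup.closure_le]
    rintro _ ⟨x, hx, rfl⟩
    have hx3 : x ^ 3 = 1 := by
      have : orderOf x = 3 := hx
      rw [← this]; exact pow_orderOf_eq_one x
    have := h3 ⟨proj ρ' x, ⟨x, rfl⟩⟩ (by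
      apply Subtype.ext
      rw [Subgroup.coe_pow, Subgroup.coe_one]
      show (proj ρ' x) ^ 3 = 1
      rw [← map_pow, hx3, map_one])
    rw [hA, Subgroup.mem_subgroupOf] at this
    exact this
  have hAtop : A = ⊤ := Subgroup.subgroupOf_eq_top.mpr hle
  -- Step 5: the range is cyclic, so `H` is commutative
  have hcyc' : IsCyclic ↥(proj ρ').range := by
    rw [hAtop] at hcyc
    exact isCyclic_of_surjective (Subgroup.topEquiv : (⊤ : Subgroup ↥(proj ρ').range) ≃* _)
      Subgroup.topEquiv.surjective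
  have hker : (proj ρ').rangeRestrict.ker ≤ Subgroup.center H := by
    rw [MonoidHom.ker_rangeRestrict]
    exact ker_proj_le_center h hsc
  apply h.card_of_commute hgen
  intro x y _ _
  have hcomm := MonoidHom.isMulCommutative_of_isCyclic_of_ker_le_center (proj ρ').rangeRestrict hker
  exact hcomm.is_comm.comm x y

lemma not_symm (e : ↥(proj ρ').range ≃* Equiv.Perm (Fin 4)) : False := by
  let sg : H →* ℤˣ := (Equiv.Perm.sign).comp (e.toMonoidHom.comp (proj ρ').rangeRestrict)
  have hker : Subgroup.closure {x : H | orderOf x = 3} ≤ sg.ker := by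
    rw [Subgroup.closure_le]
    intro x hx
    rw [SetLike.mem_coe, MonoidHom.mem_ker]
    have hx3 : x ^ 3 = 1 := by
      have : orderOf x = 3 := hx
      rw [← this]; exact pow_orderOf_eq_one x
    have h1 : (sg x) ^ 3 = 1 := by rw [← map_pow, hx3, map_one]
    rcases Int.units_eq_one_or (sg x) with h2 | h2
    · exact h2
    · rw [h2] at h1
      exact absurd h1 (by decide)
  rw [hgen] at hker
  obtain ⟨x, hx⟩ := (proj ρ').rangeRestrict_surjective (e.symm (Equiv.swap 0 1))
  have h1 : sg x = -1 := by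
    simp only [sg, MonoidHom.comp_apply, MulEquiv.coe_toMonoidHom, hx, MulEquiv.apply_symm_apply]
    exact Equiv.Perm.sign_swap (by decide)
  have h2 : sg x = 1 := MonoidHom.mem_ker.mp (hker (Subgroup.mem_top x))
  rw [h1] at h2
  exact absurd h2 (by decide)

end main

/-- **FO-A**: a finite group generated by its elements of order three acting fixed-point-freely
in dimension at most two, in coprime characteristic. -/
theorem card_of_fpf_two_dim {q : ℕ} [Fact q.Prime] {Ω : Type*} [Field Ω] [Algebra (ZMod q) Ω]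
    [Algebra.IsAlgebraic (ZMod q) Ω] [IsAlgClosed Ω]
    {H : Type*} [Group H] [Finite H] {W : Type*} [AddCommGroup W] [Module Ω W] [Module.Finite Ω W]
    [Nontrivial W] (hW : Module.finrank Ω W ≤ 2) (σ : H →* Module.End Ω W)
    (hfpf : ∀ x : H, x ≠ 1 → ∀ w : W, σ x w = w → w = 0)
    (hq : ¬ q ∣ Nat.card H) (hgen : Subgroup.closure {x : H | orderOf x = 3} = ⊤) :
    Nat.card H = 1 ∨ Nat.card H = 3 ∨
    (Nat.card H = 24 ∧ ∃ f : H →* alternatingGroup (Fin 4), Function.Surjective f ∧
      Nat.card f.ker = 2) ∨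
    (Nat.card H = 120 ∧ ∃ f : H →* alternatingGroup (Fin 5), Function.Surjective f ∧
      Nat.card f.ker = 2) := by
  have h : FPF σ := hfpf
  have hpos : 0 < Module.finrank Ω W := Module.finrank_pos
  have h12 : Module.finrank Ω W = 1 ∨ Module.finrank Ω W = 2 := by omega
  have h13 : (Nat.card H = 1 ∨ Nat.card H = 3) → Nat.card H = 1 ∨ Nat.card H = 3 ∨
      (Nat.card H = 24 ∧ ∃ f : H →* alternatingGroup (Fin 4), Function.Surjective f ∧
        Nat.card f.ker = 2) ∨
      (Nat.card H = 120 ∧ ∃ f : H →* alternatingGroup (Fin 5), Function.Surjective f ∧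
        Nat.card f.ker = 2) := by
    rintro (h1 | h1)
    · exact Or.inl h1
    · exact Or.inr (Or.inl h1)
  rcases h12 with h1 | h2
  · exact h13 (h.card_of_finrank_one h1 hgen)
  · by_cases hs : ∃ x : H, orderOf x = 3 ∧ ∃ c : Ω, σ x = c • (1 : Module.End Ω W)
    · obtain ⟨x, hx, c, hc⟩ := hs
      refine Or.inr (Or.inl (h.card_of_central hgen hx ?_))
      intro y _
      apply h.injective
      rw [map_mul, map_mul, hc, smul_mul_assoc, mul_smul_comm, one_mul, mul_one]
    · push Not at hs
      have hns : ∀ x : H, orderOf x = 3 → ¬ ∃ c : Ω, σ x = c • (1 : Module.End Ω W) := by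
        intro x hx ⟨c, hc⟩
        exact hs x hx c hc
      obtain ⟨F, instF, instFt, instC, ρ', hρ'⟩ := h.exists_model (q := q) h2 hgen hns
      have hsc : ∀ x : H, IsScalar2 (ρ' x : Matrix (Fin 2) (Fin 2) F) → σ x = 1 ∨ σ x = -1 :=
        fun x hx => hρ' x hx.1 hx.2.1 hx.2.2
      have hqH : ¬ q ∣ Nat.card (proj ρ').range := by
        intro hd
        exact hq (hd.trans (Subgroup.card_range_dvd (proj ρ')))
      rcases dickson_coprime_refined q (proj ρ').range hqH with
        h1 | hT | ⟨⟨e⟩⟩ | ⟨⟨e⟩⟩ | ⟨⟨e⟩⟩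
      · exact h13 (card_of_trivial h hsc hgen h1)
      · exact h13 (card_of_torus h hsc hgen hT)
      · obtain ⟨hc, f, hf, hk⟩ := card_of_surj h hsc e two_invol_four
        rw [card_alt_four] at hc
        exact Or.inr (Or.inr (Or.inl ⟨hc, f, hf, hk⟩))
      · exact (not_symm h hsc hgen e).elim
      · obtain ⟨hc, f, hf, hk⟩ := card_of_surj h hsc e two_invol_five
        rw [card_alt_five] at hc
        exact Or.inr (Or.inr (Or.inr ⟨hc, f, hf, hk⟩))

end Cfsg.Agent.Lib.Helper6.ZassA
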