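import Mathlib

/-!
# Automorphisms of `Ω/Z(Ω)` induced by the normaliser of `O`

For a subgroup `O` of a group `X`, with `Ω = [O, O]`, the normaliser of `O` in `X` acts on
`PΩ = Ω / Z(Ω)`.  This file constructs this action `Psi` and computes images and kernels.
-/

set_option autoImplicit false
set_option linter.unusedSectionVars false
set_option linter.unusedVariables false

namespace Cfsg.Agent.Lib.Helper6.AutInduced

open Subgroup

section quot
variable {G : Type*} [Group G] (N : Subgroup G) [N.Characteristic]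

/-- an automorphism of `G` acts on `G ⧸ N` for characteristic `N` -/
noncomputable def quotAut (φ : MulAut G) : MulAut (G ⧸ N) :=
  QuotientGroup.congr N N φ (Subgroup.characteristic_iff_map_eq.mp inferInstance φ)

theorem quotAut_mk (φ : MulAut G) (x : G) :
    quotAut N φ (QuotientGroup.mk x) = QuotientGroup.mk (φ x) :=
  QuotientGroup.congr_mk N N φ _ x

/-- automorphisms of `G` act on `G ⧸ N` for characteristic `N` -/
noncomputable def autQuot : MulAut G →* MulAut (G ⧸ N) where
  toFun φ := quotAut N φ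
  map_one' := by
    ext x
    induction x using QuotientGroup.induction_on with
    | H x => rw [quotAut_mk]; rfl
  map_mul' φ ψ := by
    ext x
    induction x using QuotientGroup.induction_on with
    | H x =>
      change quotAut N (φ * ψ) (QuotientGroup.mk x) = quotAut N φ (quotAut N ψ (QuotientGroup.mk x))
      rw [quotAut_mk, quotAut_mk, quotAut_mk]
      rfl

theorem autQuot_mk (φ : MulAut G) (x : G) :
    autQuot N φ (QuotientGroup.mk x) = QuotientGroup.mk (φ x) :=
  quotAut_mk N φ x

end quot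

section relindex
variable {G M : Type*} [Group G] [Group M]

theorem relIndex_map_eq_one (f : G →* M) (A B : Subgroup G) (h : B ≤ A ⊔ f.ker) :
    (A.map f).relIndex (B.map f) = 1 := by
  rw [Subgroup.relIndex_eq_one]
  calc B.map f ≤ (A ⊔ f.ker).map f := Subgroup.map_mono h
    _ = A.map f := by
      rw [Subgroup.map_sup, (Subgroup.map_eq_bot_iff _).mpr le_rfl, sup_bot_eq]

theorem relIndex_map_eq (f : G →* M) (A B : Subgroup G) (hAB : A ≤ B) (h : B ⊓ f.ker ≤ A) :
    (A.map f).relIndex (B.map f) = A.relIndex B := by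
  set fB : ↥B →* M := f.comp B.subtype with hfB
  have h1 : B.map f = (⊤ : Subgroup ↥B).map fB := by
    rw [hfB, ← Subgroup.map_map, ← MonoidHom.range_eq_map, Subgroup.range_subtype]
  have h2 : A.map f = (A.subgroupOf B).map fB := by
    rw [hfB, ← Subgroup.map_map, Subgroup.map_subgroupOf_eq_of_le hAB]
  have h3 : fB.ker ≤ A.subgroupOf B := by
    intro x hx
    rw [Subgroup.mem_subgroupOf]
    apply h
    exact Subgroup.mem_inf.mpr ⟨x.2, hx⟩
  rw [h1, h2, Subgroup.relIndex_map_map, sup_eq_left.mpr h3, top_sup_eq,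
    Subgroup.relIndex_top_right]
  rfl

end relindex

section perfect
variable {S : Type*} [Group S]

/-- an automorphism of a perfect group acting trivially modulo the centre is trivial -/
theorem eq_of_quot_trivial (hperf : commutator S = ⊤) (α : MulAut S)
    (h : ∀ s, (QuotientGroup.mk (α s) : S ⧸ center S) = QuotientGroup.mk s) : ∀ s, α s = s := by
  have hc : ∀ s : S, α s * s⁻¹ ∈ center S := by
    intro s
    have h2 : (α s)⁻¹ * s ∈ center S := QuotientGroup.eq.mp (h s)
    have h3 := Subgroup.inv_mem _ h2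
    rw [mul_inv_rev, inv_inv] at h3
    have hn : (center S).Normal := inferInstance
    have h4 : α s * s⁻¹ = s * (s⁻¹ * α s) * s⁻¹ := by group
    rw [h4]
    exact hn.conj_mem _ h3 s
  have hmul : ∀ s t : S, α (s * t) * (s * t)⁻¹ = (α s * s⁻¹) * (α t * t⁻¹) := by
    intro s t
    have hct := Subgroup.mem_center_iff.mp (hc t) s⁻¹
    rw [map_mul, mul_inv_rev]
    calc α s * α t * (t⁻¹ * s⁻¹) = α s * ((α t * t⁻¹) * s⁻¹) := by simp only [mul_assoc]
      _ = α s * (s⁻¹ * (α t * t⁻¹)) := by rw [hct]
      _ = _ := by simp only [mul_assoc]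
  let f : S →* S :=
    { toFun := fun s => α s * s⁻¹
      map_one' := by
        change α 1 * (1 : S)⁻¹ = 1
        rw [map_one, inv_one, mul_one]
      map_mul' := hmul }
  have hker : commutator S ≤ f.ker := by
    rw [commutator_eq_closure, Subgroup.closure_le]
    rintro _ ⟨x, y, rfl⟩
    rw [SetLike.mem_coe, MonoidHom.mem_ker, map_commutatorElement,
      commutatorElement_eq_one_iff_commute]
    exact ((Subgroup.mem_center_iff.mp (hc x)) (f y)).symm
  intro s
  have hs : s ∈ commutator S := by rw [hperf]; exact Subgroup.mem_top s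
  have h1 : f s = 1 := MonoidHom.mem_ker.mp (hker hs)
  exact mul_inv_eq_one.mp h1

end perfect

section psi
variable {X : Type*} [Group X] (O : Subgroup X)

/-- the action of the normaliser of `O` on `PΩ = [O,O]/Z([O,O])` -/
noncomputable def Psi : ↥(normalizer (O : Set X)) →*
    MulAut (↥(commutator ↥O) ⧸ center ↥(commutator ↥O)) :=
  (autQuot (center ↥(commutator ↥O))).comp
    ((MulAut.characteristic (commutator ↥O)).comp O.normalizerMonoidHom)

theorem Psi_mk (g : ↥(normalizer (O : Set X))) (s : ↥(commutator ↥O)) :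
    (((Psi O g (QuotientGroup.mk s)) : ↥(commutator ↥O) ⧸ center ↥(commutator ↥O))) =
      QuotientGroup.mk ((MulAut.characteristic (commutator ↥O) (O.normalizerMonoidHom g)) s) := by
  unfold Psi
  rw [MonoidHom.comp_apply, MonoidHom.comp_apply, autQuot_mk]

theorem characteristic_coe (g : ↥(normalizer (O : Set X))) (s : ↥(commutator ↥O)) :
    ((((MulAut.characteristic (commutator ↥O) (O.normalizerMonoidHom g)) s : ↥(commutator ↥O)) : ↥O) : X)
      = (g : X) * ((s : ↥O) : X) * (g : X)⁻¹ := rfl

/-- the defining property of `Psi` -/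
theorem Psi_mk_eq (g : ↥(normalizer (O : Set X))) (s s' : ↥(commutator ↥O))
    (h : ((s' : ↥O) : X) = (g : X) * ((s : ↥O) : X) * (g : X)⁻¹) :
    Psi O g (QuotientGroup.mk s) = QuotientGroup.mk s' := by
  rw [Psi_mk]
  congr 1
  apply Subtype.ext
  apply Subtype.ext
  rw [characteristic_coe, h]

/-- `β` is induced by conjugation by `g` -/
def IsInd (g : X) (β : MulAut (↥(commutator ↥O) ⧸ center ↥(commutator ↥O))) : Prop :=
  ∀ s s' : ↥(commutator ↥O), ((s' : ↥O) : X) = g * ((s : ↥O) : X) * g⁻¹ →
    β (QuotientGroup.mk s) = QuotientGroup.mk s'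

theorem isInd_iff (g : ↥(normalizer (O : Set X)))
    (β : MulAut (↥(commutator ↥O) ⧸ center ↥(commutator ↥O))) :
    IsInd O (g : X) β ↔ β = Psi O g := by
  constructor
  · intro h
    ext x
    induction x using QuotientGroup.induction_on with
    | H s =>
      rw [Psi_mk]
      exact h s _ (characteristic_coe O g s)
  · rintro rfl s s' h
    exact Psi_mk_eq O g s s' h

/-- the image of a subgroup of the normaliser -/
noncomputable def img (K : Subgroup X) :
    Subgroup (MulAut (↥(commutator ↥O) ⧸ center ↥(commutator ↥O))) :=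
  (K.subgroupOf (normalizer (O : Set X))).map (Psi O)

theorem mem_img (K : Subgroup X) (hK : K ≤ normalizer (O : Set X))
    (β : MulAut (↥(commutator ↥O) ⧸ center ↥(commutator ↥O))) :
    β ∈ img O K ↔ ∃ g ∈ K, IsInd O g β := by
  unfold img
  rw [Subgroup.mem_map]
  constructor
  · rintro ⟨g, hg, rfl⟩
    exact ⟨g.1, hg, (isInd_iff O g _).mpr rfl⟩
  · rintro ⟨g, hg, h⟩
    refine ⟨⟨g, hK hg⟩, hg, ?_⟩
    exact ((isInd_iff O ⟨g, hK hg⟩ β).mp h).symm

/-- the subgroup generated by the automorphisms induced by elements of `K` is the image of `K` -/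
theorem closure_isInd (K : Subgroup X) (hK : K ≤ normalizer (O : Set X)) :
    Subgroup.closure {β : MulAut (↥(commutator ↥O) ⧸ center ↥(commutator ↥O)) |
      ∃ g ∈ K, IsInd O g β} = img O K := by
  have : {β : MulAut (↥(commutator ↥O) ⧸ center ↥(commutator ↥O)) | ∃ g ∈ K, IsInd O g β}
      = (img O K : Set _) := by
    ext β
    exact (mem_img O K hK β).symm
  rw [this, Subgroup.closure_eq]

/-- `[O,O]` as a subgroup of `X` -/
def OmX : Subgroup X := (commutator ↥O).map O.subtype

theorem OmX_le : OmX O ≤ O := by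
  rintro _ ⟨s, -, rfl⟩
  exact s.2

theorem OmX_le_normalizer : OmX O ≤ normalizer (O : Set X) :=
  (OmX_le O).trans le_normalizer

theorem mem_OmX (x : X) : x ∈ OmX O ↔ ∃ s : ↥(commutator ↥O), ((s : ↥O) : X) = x := by
  constructor
  · rintro ⟨s, hs, rfl⟩
    exact ⟨⟨s, hs⟩, rfl⟩
  · rintro ⟨s, rfl⟩
    exact ⟨s.1, s.2, rfl⟩

/-- elements of `Ω` induce inner automorphisms -/
theorem Psi_of_mem (s : ↥(commutator ↥O)) (hs : ((s : ↥O) : X) ∈ normalizer (O : Set X)) :
    Psi O ⟨((s : ↥O) : X), hs⟩ = MulAut.conj (QuotientGroup.mk s) := by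
  ext x
  induction x using QuotientGroup.induction_on with
  | H t =>
    rw [Psi_mk_eq O _ t (s * t * s⁻¹) (by simp), MulAut.conj_apply]
    rfl

/-- the image of `Ω` is the group of inner automorphisms -/
theorem img_OmX : img O (OmX O) =
    (MulAut.conj : (↥(commutator ↥O) ⧸ center ↥(commutator ↥O)) →* _).range := by
  ext β
  rw [MonoidHom.mem_range]
  unfold img
  rw [Subgroup.mem_map]
  constructor
  · rintro ⟨g, hg, rfl⟩
    obtain ⟨s, hs⟩ := (mem_OmX O g.1).mp hg
    refine ⟨QuotientGroup.mk s, ?_⟩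
    have : g = ⟨((s : ↥O) : X), hs ▸ g.2⟩ := Subtype.ext hs.symm
    rw [this, Psi_of_mem]
  · rintro ⟨x, rfl⟩
    induction x using QuotientGroup.induction_on with
    | H s =>
      have hs : ((s : ↥O) : X) ∈ normalizer (O : Set X) := le_normalizer s.1.2
      refine ⟨⟨((s : ↥O) : X), hs⟩, ?_, Psi_of_mem O s hs⟩
      exact (mem_OmX O _).mpr ⟨s, rfl⟩

/-- kernel of `Psi` for perfect `Ω`: elements centralising `Ω` -/
theorem Psi_eq_one_iff (hperf : commutator ↥(commutator ↥O) = ⊤) (g : ↥(normalizer (O : Set X))) :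
    Psi O g = 1 ↔ ∀ s : ↥(commutator ↥O), (g : X) * ((s : ↥O) : X) * (g : X)⁻¹ = ((s : ↥O) : X) := by
  constructor
  · intro h s
    have key := eq_of_quot_trivial hperf
      (MulAut.characteristic (commutator ↥O) (O.normalizerMonoidHom g)) (by
        intro t
        have := Psi_mk O g t
        rw [h, MulAut.one_apply] at this
        exact this.symm) s
    rw [← characteristic_coe O g s, key]
  · intro h
    ext x
    induction x using QuotientGroup.induction_on with
    | H s =>
      rw [Psi_mk_eq O g s s (h s).symm]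
      rfl

/-- relative index of images: trivial case -/
theorem relIndex_img_eq_one (A B : Subgroup X)
    (h : ∀ b ∈ B, ∀ hb : b ∈ normalizer (O : Set X), ∃ a ∈ A, ∃ ha : a ∈ normalizer (O : Set X),
      Psi O ⟨b, hb⟩ = Psi O ⟨a, ha⟩) :
    (img O A).relIndex (img O B) = 1 := by
  rw [Subgroup.relIndex_eq_one]
  rintro _ ⟨b, hb, rfl⟩
  obtain ⟨a, ha, haN, hab⟩ := h b.1 hb b.2
  exact ⟨⟨a, haN⟩, ha, hab.symm⟩

/-- relative index of images: faithful case -/
theorem relIndex_img_eq (A B : Subgroup X) (hAB : A ≤ B) (hB : B ≤ normalizer (O : Set X))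
    (h : ∀ b ∈ B, ∀ hb : b ∈ normalizer (O : Set X), Psi O ⟨b, hb⟩ = 1 → b ∈ A) :
    (img O A).relIndex (img O B) = A.relIndex B := by
  unfold img
  have h1 : A.subgroupOf (normalizer (O : Set X)) ≤ B.subgroupOf (normalizer (O : Set X)) := by
    intro x hx
    exact hAB hx
  have h2 : B.subgroupOf (normalizer (O : Set X)) ⊓ (Psi O).ker ≤
      A.subgroupOf (normalizer (O : Set X)) := by
    intro x hx
    obtain ⟨hx1, hx2⟩ := Subgroup.mem_inf.mp hx
    exact h x.1 hx1 x.2 hx2
  rw [relIndex_map_eq (Psi O) _ _ h1 h2]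
  exact Subgroup.relIndex_subgroupOf hB

end psi

end Cfsg.Agent.Lib.Helper6.AutInduced
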