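import Mathlib
import Cfsg.Agent.Lib.Helper6.OmegaList

/-!
# The centraliser of `Ω` in the orthogonal group consists of scalars

For a quadratic form `Q` on `F^n` (`F` finite, any characteristic) with non-degenerate polar form
which admits three mutually orthogonal hyperbolic pairs, an isometry commuting with every element of
`Ω` is `±1`.
-/

set_option autoImplicit false
open Cfsg

namespace Cfsg.Agent.Lib.Helper6

open Matrix Cfsg.Agent.S0792

section
variable {F : Type*} [Field F] [Fintype F] {n : ℕ} (Q : QuadraticForm F (Fin n → F))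

/-- the product of the reflections in two vectors of the same norm lies in `Ω` -/
theorem refl_pair_mem_Omega_of_eq (hQ : (QuadraticMap.polarBilin Q).Nondegenerate) (hn : 2 ≤ n)
    (h : Fintype.card F ≠ 2 ∨ n ≠ 4) (a b : Fin n → F) (ha : Q a ≠ 0) (hb : Q b ≠ 0)
    (hab : Q a = Q b) : mkRefl Q a ha * mkRefl Q b hb ∈ Cfsg.Omega F ⇑Q := by
  classical
  rw [mem_Omega_iff_list_all' Q hQ (by rw [Fintype.card_fin]; exact hn)
    (by rw [Fintype.card_fin]; exact h) _ [a, b] (by
      intro v hv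
      simp only [List.mem_cons, List.mem_nil_iff, or_false] at hv
      rcases hv with rfl | rfl
      · exact ha
      · exact hb) (by
      rw [List.map_cons, List.map_cons, List.map_nil, List.prod_cons, List.prod_cons,
        List.prod_nil, mul_one]
      rfl)]
  refine ⟨⟨1, rfl⟩, fun _ => ?_⟩
  rw [List.map_cons, List.map_cons, List.map_nil, List.prod_cons, List.prod_cons,
    List.prod_nil, mul_one, ← hab]
  exact ⟨Q a, rfl⟩

omit [Fintype F] in
/-- if `z` commutes with `r_a r_b` then `a` lies in the span of `z a` and `z b` -/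
theorem mem_span_of_commute (z : ↥(Cfsg.isometryGroup F ⇑Q)) (a b x : Fin n → F) (ha : Q a ≠ 0)
    (hb : Q b ≠ 0)
    (hcomm : (mkRefl Q a ha * mkRefl Q b hb) * z = z * (mkRefl Q a ha * mkRefl Q b hb))
    (hbx : QuadraticMap.polar ⇑Q b x = 0) (hax : QuadraticMap.polar ⇑Q a x = Q a) :
    ∃ α β : F, a = α • (imat Q z *ᵥ a) + β • (imat Q z *ᵥ b) := by
  have ha' : Q (imat Q z *ᵥ a) ≠ 0 := by rw [pres Q z a]; exact ha
  have hb' : Q (imat Q z *ᵥ b) ≠ 0 := by rw [pres Q z b]; exact hb
  have e1 : mkRefl Q (imat Q z *ᵥ a) ha' * mkRefl Q (imat Q z *ᵥ b) hb' =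
      mkRefl Q a ha * mkRefl Q b hb := by
    rw [← conj_refl Q z a ha ha', ← conj_refl Q z b hb hb']
    have : z * mkRefl Q a ha * z⁻¹ * (z * mkRefl Q b hb * z⁻¹) =
        z * (mkRefl Q a ha * mkRefl Q b hb) * z⁻¹ := by group
    rw [this, ← hcomm]
    group
  have e2 := congrArg (fun g => imat Q g *ᵥ x) e1
  simp only [imat_mul] at e2
  change (Cfsg.reflectionMatrix ⇑Q (imat Q z *ᵥ a) * Cfsg.reflectionMatrix ⇑Q (imat Q z *ᵥ b)) *ᵥ x =
    (Cfsg.reflectionMatrix ⇑Q a * Cfsg.reflectionMatrix ⇑Q b) *ᵥ x at e2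
  rw [← Matrix.mulVec_mulVec, ← Matrix.mulVec_mulVec, refl_fix Q b x hbx,
    reflectionMatrix_mulVec Q a x, hax, inv_mul_cancel₀ ha, one_smul,
    reflectionMatrix_mulVec Q (imat Q z *ᵥ b) x, reflectionMatrix_mulVec] at e2
  generalize ((Q (imat Q z *ᵥ b))⁻¹ * QuadraticMap.polar ⇑Q (imat Q z *ᵥ b) x) = β at e2
  generalize ((Q (imat Q z *ᵥ a))⁻¹ *
    QuadraticMap.polar ⇑Q (imat Q z *ᵥ a) (x - β • imat Q z *ᵥ b)) = α at e2
  refine ⟨α, β, ?_⟩
  have e3 := sub_eq_zero.mpr e2
  rw [← sub_eq_zero, ← e3]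
  abel

/-- an isometry centralising `Ω` has `a` as an eigenvector, given auxiliary vectors -/
theorem eigen_of_triple (hQ : (QuadraticMap.polarBilin Q).Nondegenerate) (hn : 2 ≤ n)
    (h : Fintype.card F ≠ 2 ∨ n ≠ 4)
    (z : ↥(Cfsg.isometryGroup F ⇑Q)) (hz : ∀ g ∈ Cfsg.Omega F ⇑Q, g * z = z * g)
    (a b b' x x' y : Fin n → F) (ha : Q a ≠ 0) (hab : Q a = Q b) (hab' : Q a = Q b')
    (hbx : QuadraticMap.polar ⇑Q b x = 0) (hax : QuadraticMap.polar ⇑Q a x = Q a)
    (hbx' : QuadraticMap.polar ⇑Q b' x' = 0) (hax' : QuadraticMap.polar ⇑Q a x' = Q a)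
    (hya : QuadraticMap.polar ⇑Q y a = 0) (hyb : QuadraticMap.polar ⇑Q y b ≠ 0)
    (hyb' : QuadraticMap.polar ⇑Q y b' = 0) :
    ∃ α : F, imat Q z *ᵥ a = α • a := by
  have hb : Q b ≠ 0 := hab ▸ ha
  have hb' : Q b' ≠ 0 := hab' ▸ ha
  obtain ⟨α, β, e1⟩ := mem_span_of_commute Q z a b x ha hb
    (hz _ (refl_pair_mem_Omega_of_eq Q hQ hn h a b ha hb hab)) hbx hax
  obtain ⟨α', β', e2⟩ := mem_span_of_commute Q z a b' x' ha hb'
    (hz _ (refl_pair_mem_Omega_of_eq Q hQ hn h a b' ha hb' hab')) hbx' hax'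
  have h1 := congrArg (fun v => QuadraticMap.polar ⇑Q (imat Q z *ᵥ y) v) e1
  have h2 := congrArg (fun v => QuadraticMap.polar ⇑Q (imat Q z *ᵥ y) v) e2
  simp only [QuadraticMap.polar_add_right, QuadraticMap.polar_smul_right, pres_polar, hya, hyb',
    smul_zero, add_zero, zero_add] at h1 h2
  rw [h2] at h1
  have hβ : β = 0 := by
    rcases mul_eq_zero.mp (by simpa using h1.symm : β * QuadraticMap.polar ⇑Q y b = 0) with h | h
    · exact h
    · exact absurd h hyb
  rw [hβ, zero_smul, add_zero] at e1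
  have ha0 : a ≠ 0 := by
    rintro rfl
    apply ha
    simp
  have hα : α ≠ 0 := by
    rintro rfl
    rw [zero_smul] at e1
    exact ha0 e1
  refine ⟨α⁻¹, ?_⟩
  nth_rewrite 2 [e1]
  rw [smul_smul, inv_mul_cancel₀ hα, one_smul]

/-- the isometry group is transitive on the vectors of a given non-zero norm -/
theorem exists_move_all (hQ : (QuadraticMap.polarBilin Q).Nondegenerate)
    (h : Fintype.card F ≠ 2 ∨ n ≠ 4) (a b : Fin n → F) (hab : Q a = Q b) (ha : Q a ≠ 0) :
    ∃ g : ↥(Cfsg.isometryGroup F ⇑Q), imat Q g *ᵥ a = b := by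
  by_cases h2 : (2 : F) = 0
  · exact exists_move_two Q h2 hQ h a b hab ha
  · by_cases h1 : Q (a - b) ≠ 0
    · exact ⟨mkRefl Q (a - b) h1, refl_move1 Q a b hab h1⟩
    · push Not at h1
      have hb : Q b ≠ 0 := hab ▸ ha
      have h3 : Q (a + b) ≠ 0 := by
        intro h3
        have e1 := Q_add Q a b
        have e2 := Q_sub Q a b
        rw [h3] at e1
        rw [h1] at e2
        apply ha
        have : (2 : F) * (2 * Q a) = 0 := by
          rw [← hab] at e1 e2
          linear_combination -e1 - e2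
        rcases mul_eq_zero.mp this with h | h
        · exact absurd h h2
        · rcases mul_eq_zero.mp h with h | h
          · exact absurd h h2
          · exact h
      refine ⟨mkRefl Q b hb * mkRefl Q (a + b) h3, ?_⟩
      change (Cfsg.reflectionMatrix ⇑Q b * Cfsg.reflectionMatrix ⇑Q (a + b)) *ᵥ a = b
      rw [← Matrix.mulVec_mulVec, refl_move2 Q a b hab h3, Matrix.mulVec_neg,
        (Cfsg.Agent.S0784.result Q b hb).2.1, neg_neg]

/-- an isometry centralising `Ω` has every non-singular vector as an eigenvector -/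
theorem eigen_all (hQ : (QuadraticMap.polarBilin Q).Nondegenerate)
    (h : Fintype.card F ≠ 2 ∨ n ≠ 4) (S : SympFam Q 3) (hSu : ∀ i, Q (S.u i) = 0)
    (hSw : ∀ i, Q (S.w i) = 0)
    (z : ↥(Cfsg.isometryGroup F ⇑Q)) (hz : ∀ g ∈ Cfsg.Omega F ⇑Q, g * z = z * g)
    (a : Fin n → F) (ha : Q a ≠ 0) : ∃ α : F, imat Q z *ᵥ a = α • a := by
  have hn : 2 ≤ n := by have := S.card_le; omega
  set c := Q a with hc
  have hQv : ∀ i : Fin 3, Q (S.u i + c • S.w i) = c := by
    intro i
    rw [Q_add, Q_smul, hSu, hSw, QuadraticMap.polar_smul_right, S.huw, if_pos rfl]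
    simp
  obtain ⟨g, hg⟩ := exists_move_all Q hQ h (S.u 0 + c • S.w 0) a (hQv 0) (by rw [hQv]; exact ha)
  have hz' : ∀ k ∈ Cfsg.Omega F ⇑Q, k * (g⁻¹ * z * g) = (g⁻¹ * z * g) * k := by
    intro k hk
    have hn' : (Cfsg.Omega F ⇑Q).Normal := by
      change (commutator _).Normal
      infer_instance
    have := hz _ (hn'.conj_mem k hk g)
    have e1 : k * (g⁻¹ * z * g) = g⁻¹ * ((g * k * g⁻¹) * z) * g := by group
    rw [e1, this]
    group
  have h01 : (0 : Fin 3) ≠ 1 := by decide
  have h02 : (0 : Fin 3) ≠ 2 := by decide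
  have h12 : (1 : Fin 3) ≠ 2 := by decide
  obtain ⟨α, hα⟩ := eigen_of_triple Q hQ hn h (g⁻¹ * z * g) hz'
    (S.u 0 + c • S.w 0) (S.u 1 + c • S.w 1) (S.u 2 + c • S.w 2) (S.u 0) (S.u 0) (S.w 1)
    (by rw [hQv]; exact ha) (by rw [hQv, hQv]) (by rw [hQv, hQv])
    (by
      rw [QuadraticMap.polar_add_left, QuadraticMap.polar_smul_left, S.huu, S.hwu,
        if_neg h01.symm]; simp)
    (by
      rw [QuadraticMap.polar_add_left, QuadraticMap.polar_smul_left, S.huu, S.hwu, if_pos rfl,
        hQv]; simp)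
    (by
      rw [QuadraticMap.polar_add_left, QuadraticMap.polar_smul_left, S.huu, S.hwu,
        if_neg h02.symm]; simp)
    (by
      rw [QuadraticMap.polar_add_left, QuadraticMap.polar_smul_left, S.huu, S.hwu, if_pos rfl,
        hQv]; simp)
    (by
      rw [QuadraticMap.polar_add_right, QuadraticMap.polar_smul_right, S.hwu, S.hww,
        if_neg h01.symm]; simp)
    (by
      rw [QuadraticMap.polar_add_right, QuadraticMap.polar_smul_right, S.hwu, S.hww, if_pos rfl]
      simp)
    (by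
      rw [QuadraticMap.polar_add_right, QuadraticMap.polar_smul_right, S.hwu, S.hww,
        if_neg h12]; simp)
  refine ⟨α, ?_⟩
  rw [← hg]
  have e : imat Q (g⁻¹ * z * g) = imat Q g⁻¹ * imat Q z * imat Q g := rfl
  rw [e, ← Matrix.mulVec_mulVec, ← Matrix.mulVec_mulVec] at hα
  have := congrArg (fun v => imat Q g *ᵥ v) hα
  simp only [Matrix.mulVec_mulVec, Matrix.mulVec_smul] at this
  rw [← Matrix.mul_assoc, ← Matrix.mul_assoc, imat_mul_inv, Matrix.one_mul,
    ← Matrix.mulVec_mulVec] at this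
  exact this

omit [Fintype F] in
/-- an eigenvalue of an isometry on a non-singular vector squares to one -/
theorem eigen_sq (z : ↥(Cfsg.isometryGroup F ⇑Q)) (a : Fin n → F) (ha : Q a ≠ 0) (α : F)
    (hα : imat Q z *ᵥ a = α • a) : α * α = 1 := by
  have := pres Q z a
  change Q (imat Q z *ᵥ a) = Q a at this
  rw [hα, Q_smul] at this
  have h1 : (α * α - 1) * Q a = 0 := by linear_combination this
  rcases mul_eq_zero.mp h1 with h | h
  · linear_combination h
  · exact absurd h ha

/-- **The centraliser of `Ω`.** An isometry commuting with all elements of `Ω` is a scalar `±1`. -/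
theorem centralizer_Omega (hQ : (QuadraticMap.polarBilin Q).Nondegenerate)
    (h : Fintype.card F ≠ 2 ∨ n ≠ 4) (S : SympFam Q 3) (hSu : ∀ i, Q (S.u i) = 0)
    (hSw : ∀ i, Q (S.w i) = 0)
    (z : ↥(Cfsg.isometryGroup F ⇑Q)) (hz : ∀ g ∈ Cfsg.Omega F ⇑Q, g * z = z * g) :
    ∃ c : F, c * c = 1 ∧ imat Q z = c • (1 : Matrix (Fin n) (Fin n) F) := by
  have hn : 6 ≤ n := by have := S.card_le; omega
  have E := eigen_all Q hQ h S hSu hSw z hz
  set Z := imat Q z with hZ
  set u₀ := S.u 0 with hu₀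
  set w₀ := S.w 0 with hw₀
  have hQa₀ : Q (u₀ + w₀) = 1 := by
    rw [Q_add, hSu, hSw, S.huw, if_pos rfl]
    simp
  have ha₀ : Q (u₀ + w₀) ≠ 0 := by rw [hQa₀]; exact one_ne_zero
  obtain ⟨c, hc⟩ := E (u₀ + w₀) ha₀
  have hcc : c * c = 1 := eigen_sq Q z _ ha₀ c hc
  refine ⟨c, hcc, ?_⟩
  apply matrix_ext_mulVec
  intro v
  rw [Matrix.smul_mulVec, Matrix.one_mulVec]
  by_cases h2 : (2 : F) = 0
  · -- characteristic two: every non-singular vector is fixed
    have hone : ∀ α : F, α * α = 1 → α = 1 := by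
      intro α hα
      have : (α - 1) * (α - 1) = 0 := by linear_combination hα - α * h2 + h2
      rcases mul_eq_zero.mp this with h | h <;> linear_combination h
    have hfix : ∀ a, Q a ≠ 0 → Z *ᵥ a = a := by
      intro a ha
      obtain ⟨α, hα⟩ := E a ha
      rw [hα, hone α (eigen_sq Q z a ha α hα), one_smul]
    rw [hone c hcc, one_smul]
    by_cases hQv : Q v ≠ 0
    · exact hfix v hQv
    · push Not at hQv
      by_cases hv0 : v = 0
      · rw [hv0, Matrix.mulVec_zero]
      obtain ⟨v', -, hvv'⟩ := (emptyFam Q).exists_partner hQ v (emptyFam_perp Q v) hv0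
      obtain ⟨u, hu, hQu⟩ := ((emptyFam Q).snoc v v' (emptyFam_perp Q v) (emptyFam_perp Q v')
        (polar_self_of_two h2 v) (polar_self_of_two h2 v') hvv').exists_nonsingular h2 hQ (by omega)
      rw [SympFam.snoc_perp] at hu
      have hQvu : Q (v + u) ≠ 0 := by
        rw [Q_add, hQv, hu.2.1, zero_add, add_zero]
        exact hQu
      have h1 := hfix (v + u) hQvu
      rw [Matrix.mulVec_add, hfix u hQu] at h1
      exact add_right_cancel h1
  · -- odd characteristic
    have hb : ∀ a, Q a ≠ 0 → QuadraticMap.polar ⇑Q (u₀ + w₀) a ≠ 0 → Z *ᵥ a = c • a := by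
      intro a ha hpa
      obtain ⟨α, hα⟩ := E a ha
      have h1 := pres_polar Q z (u₀ + w₀) a
      change QuadraticMap.polar ⇑Q (Z *ᵥ (u₀ + w₀)) (Z *ᵥ a) = _ at h1
      rw [hc, hα, QuadraticMap.polar_smul_left, QuadraticMap.polar_smul_right, smul_eq_mul,
        smul_eq_mul] at h1
      have h3 : (c * α - 1) * QuadraticMap.polar ⇑Q (u₀ + w₀) a = 0 := by linear_combination h1
      have h4 : c * α = 1 := by
        rcases mul_eq_zero.mp h3 with h | h
        · linear_combination h
        · exact absurd h hpa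
      have : α = c := by linear_combination c * h4 - α * hcc
      rw [hα, this]
    have hP : ∀ p, QuadraticMap.polar ⇑Q u₀ p = 0 → QuadraticMap.polar ⇑Q w₀ p = 0 → Q p ≠ 0 →
        Z *ᵥ (u₀ + p) = c • (u₀ + p) ∧ Z *ᵥ (w₀ + p) = c • (w₀ + p) := by
      intro p hup hwp hQp
      constructor
      · apply hb
        · rw [Q_add, hSu, hup, zero_add, add_zero]; exact hQp
        · rw [QuadraticMap.polar_add_left, QuadraticMap.polar_add_right,
            QuadraticMap.polar_add_right, S.huu, hup, S.hwu, if_pos rfl, hwp]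
          simp
      · apply hb
        · rw [Q_add, hSw, hwp, zero_add, add_zero]; exact hQp
        · rw [QuadraticMap.polar_add_left, QuadraticMap.polar_add_right,
            QuadraticMap.polar_add_right, S.huw, if_pos rfl, hup, S.hww, hwp]
          simp
    have h01 : (0 : Fin 3) ≠ 1 := by decide
    set p₁ := S.u 1 + S.w 1 with hp₁
    have hup₁ : QuadraticMap.polar ⇑Q u₀ p₁ = 0 := by
      rw [QuadraticMap.polar_add_right, S.huu, S.huw, if_neg h01, add_zero]
    have hwp₁ : QuadraticMap.polar ⇑Q w₀ p₁ = 0 := by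
      rw [QuadraticMap.polar_add_right, S.hwu, S.hww, if_neg h01, add_zero]
    have hQp₁ : Q p₁ = 1 := by
      rw [Q_add, hSu, hSw, S.huw, if_pos rfl]
      simp
    have hQp₁' : Q p₁ ≠ 0 := by rw [hQp₁]; exact one_ne_zero
    clear_value p₁
    obtain ⟨h1, h3⟩ := hP p₁ hup₁ hwp₁ hQp₁'
    have hminus : Z *ᵥ (u₀ - w₀) = c • (u₀ - w₀) := by
      have : u₀ - w₀ = (u₀ + p₁) - (w₀ + p₁) := by abel
      rw [this, Matrix.mulVec_sub, h1, h3, smul_sub]
    have hZu : Z *ᵥ u₀ = c • u₀ := by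
      have : u₀ = (2 : F)⁻¹ • ((u₀ + w₀) + (u₀ - w₀)) := by
        have e : (u₀ + w₀) + (u₀ - w₀) = (2 : F) • u₀ := by rw [two_smul]; abel
        rw [e, smul_smul, inv_mul_cancel₀ h2, one_smul]
      rw [this, Matrix.mulVec_smul, Matrix.mulVec_add, hc, hminus, ← smul_add, smul_comm]
    have hZw : Z *ᵥ w₀ = c • w₀ := by
      have : w₀ = (2 : F)⁻¹ • ((u₀ + w₀) - (u₀ - w₀)) := by
        have e : (u₀ + w₀) - (u₀ - w₀) = (2 : F) • w₀ := by rw [two_smul]; abel
        rw [e, smul_smul, inv_mul_cancel₀ h2, one_smul]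
      rw [this, Matrix.mulVec_smul, Matrix.mulVec_sub, hc, hminus, ← smul_sub, smul_comm]
    have hPns : ∀ p, QuadraticMap.polar ⇑Q u₀ p = 0 → QuadraticMap.polar ⇑Q w₀ p = 0 → Q p ≠ 0 →
        Z *ᵥ p = c • p := by
      intro p hup hwp hQp
      have := (hP p hup hwp hQp).1
      rw [Matrix.mulVec_add, hZu, smul_add] at this
      exact add_left_cancel this
    have hZp₁ : Z *ᵥ p₁ = c • p₁ := hPns p₁ hup₁ hwp₁ hQp₁'
    have hPall : ∀ p, QuadraticMap.polar ⇑Q u₀ p = 0 → QuadraticMap.polar ⇑Q w₀ p = 0 →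
        Z *ᵥ p = c • p := by
      intro p hup hwp
      by_cases hQp : Q p ≠ 0
      · exact hPns p hup hwp hQp
      · push Not at hQp
        by_cases hplus : Q (p + p₁) ≠ 0
        · have := hPns (p + p₁) (by rw [QuadraticMap.polar_add_right, hup, hup₁, add_zero])
            (by rw [QuadraticMap.polar_add_right, hwp, hwp₁, add_zero]) hplus
          rw [Matrix.mulVec_add, hZp₁, smul_add] at this
          exact add_right_cancel this
        · push Not at hplus
          have hminus' : Q (p - p₁) ≠ 0 := by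
            rw [Q_sub, hQp, hQp₁]
            rw [Q_add, hQp, hQp₁] at hplus
            intro hcon
            apply h2
            linear_combination hplus + hcon
          have := hPns (p - p₁) (by rw [QuadraticMap.polar_sub_right, hup, hup₁, sub_zero])
            (by rw [QuadraticMap.polar_sub_right, hwp, hwp₁, sub_zero]) hminus'
          rw [Matrix.mulVec_sub, hZp₁, smul_sub] at this
          exact sub_left_injective this
    obtain ⟨p, hp⟩ : ∃ p, p = v - QuadraticMap.polar ⇑Q w₀ v • u₀ - QuadraticMap.polar ⇑Q u₀ v • w₀ :=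
      ⟨_, rfl⟩
    have hup : QuadraticMap.polar ⇑Q u₀ p = 0 := by
      rw [hp, QuadraticMap.polar_sub_right, QuadraticMap.polar_sub_right,
        QuadraticMap.polar_smul_right, QuadraticMap.polar_smul_right, S.huu, S.huw, if_pos rfl]
      simp
    have hwp : QuadraticMap.polar ⇑Q w₀ p = 0 := by
      rw [hp, QuadraticMap.polar_sub_right, QuadraticMap.polar_sub_right,
        QuadraticMap.polar_smul_right, QuadraticMap.polar_smul_right, S.hwu, S.hww, if_pos rfl]
      simp
    have hv : v = p + QuadraticMap.polar ⇑Q w₀ v • u₀ + QuadraticMap.polar ⇑Q u₀ v • w₀ := by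
      rw [hp]; abel
    rw [hv, Matrix.mulVec_add, Matrix.mulVec_add, Matrix.mulVec_smul, Matrix.mulVec_smul,
      hPall p hup hwp, hZu, hZw, smul_add, smul_add, smul_comm c, smul_comm c]

end

section general
variable {F : Type*} [Field F] [Fintype F] {ι : Type} [Fintype ι] [DecidableEq ι]
  (Q : QuadraticForm F (ι → F))

open Cfsg.Agent.Lib.Helper14

/-- hyperbolic triples on `F^ι` -/
structure HypTriple where
  /-- first vectors -/
  u : Fin 3 → (ι → F)
  /-- second vectors -/
  w : Fin 3 → (ι → F)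
  huu : ∀ i k, QuadraticMap.polar ⇑Q (u i) (u k) = 0
  hww : ∀ i k, QuadraticMap.polar ⇑Q (w i) (w k) = 0
  huw : ∀ i k, QuadraticMap.polar ⇑Q (u i) (w k) = if i = k then 1 else 0
  hQu : ∀ i, Q (u i) = 0
  hQw : ∀ i, Q (w i) = 0

/-- **The centraliser of `Ω`**, on `F^ι`. -/
theorem centralizer_Omega' (hQ : (QuadraticMap.polarBilin Q).Nondegenerate)
    (h : Fintype.card F ≠ 2 ∨ Fintype.card ι ≠ 4) (T : HypTriple Q)
    (z : ↥(Cfsg.isometryGroup F ⇑Q)) (hz : ∀ g ∈ Cfsg.Omega F ⇑Q, g * z = z * g) :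
    ∃ c : F, c * c = 1 ∧ ((z.1 : GL ι F) : Matrix ι ι F) = c • (1 : Matrix ι ι F) := by
  have hQ' := nondegenerate_transfer Q (QFin Q) (reIdx F ι) (QFin_apply Q) hQ
  have hpol := polar_transfer Q (QFin Q) (reIdx F ι) (QFin_apply Q)
  let S : SympFam (QFin Q) 3 :=
    { u := fun i => reIdx F ι (T.u i)
      w := fun i => reIdx F ι (T.w i)
      huu := fun i k => by rw [hpol]; exact T.huu i k
      hww := fun i k => by rw [hpol]; exact T.hww i k
      huw := fun i k => by rw [hpol]; exact T.huw i k }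
  have hz' : ∀ g' ∈ Cfsg.Omega F ⇑(QFin Q), g' * isoFin Q z = isoFin Q z * g' := by
    intro g' hg'
    obtain ⟨g, rfl⟩ := (isoFin_bijective Q).2 g'
    rw [← mem_commutator_iff_of_bijective (isoFin Q) (isoFin_bijective Q)] at hg'
    rw [← map_mul, ← map_mul, hz g hg']
  obtain ⟨c, hcc, hc⟩ := centralizer_Omega (QFin Q) hQ' h S
    (fun i => by change QFin Q (reIdx F ι (T.u i)) = 0; rw [QFin_apply]; exact T.hQu i)
    (fun i => by change QFin Q (reIdx F ι (T.w i)) = 0; rw [QFin_apply]; exact T.hQw i)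
    (isoFin Q z) hz'
  refine ⟨c, hcc, ?_⟩
  apply matrix_ext_mulVec
  intro x
  have h1 := matCongr_mulVec (reIdx F ι) ((z.1 : GL ι F) : Matrix ι ι F) x
  rw [← isoFin_val, hc, Matrix.smul_mulVec, Matrix.one_mulVec, ← map_smul] at h1
  rw [Matrix.smul_mulVec, Matrix.one_mulVec]
  exact ((reIdx F ι).injective h1).symm

/-- the scalar `-1` as an isometry -/
def negIso : ↥(Cfsg.isometryGroup F ⇑Q) :=
  ⟨⟨-1, -1, by simp, by simp⟩, by
    intro u _
    change Q ((-1 : Matrix ι ι F) *ᵥ u) = Q u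
    rw [Matrix.neg_mulVec, Matrix.one_mulVec, QuadraticMap.map_neg]⟩

omit [Fintype F] in
theorem negIso_val : (((negIso Q).1 : GL ι F) : Matrix ι ι F) = -1 := rfl

omit [Fintype F] in
theorem negIso_comm (g : ↥(Cfsg.isometryGroup F ⇑Q)) : g * negIso Q = negIso Q * g := by
  apply Subtype.ext
  apply Units.ext
  change ((g.1 : GL ι F) : Matrix ι ι F) * (-1 : Matrix ι ι F) = (-1 : Matrix ι ι F) * _
  simp

omit [Fintype F] in
theorem exists_neg_iff : (∃ g : ↥(Cfsg.isometryGroup F ⇑Q), g ∈ Cfsg.Omega F ⇑Q ∧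
    ((g.1 : GL ι F) : Matrix ι ι F) = -1) ↔ negIso Q ∈ Cfsg.Omega F ⇑Q := by
  constructor
  · rintro ⟨g, hg, hg1⟩
    have : g = negIso Q := by
      apply Subtype.ext
      apply Units.ext
      exact hg1
    rw [← this]
    exact hg
  · intro hg
    exact ⟨negIso Q, hg, rfl⟩

/-- the order of the centre of `Ω` -/
theorem card_center_Omega (hQ : (QuadraticMap.polarBilin Q).Nondegenerate)
    (h : Fintype.card F ≠ 2 ∨ Fintype.card ι ≠ 4) (T : HypTriple Q) [Decidable ((2 : F) ≠ 0 ∧ negIso Q ∈ Cfsg.Omega F ⇑Q)] :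
    Nat.card (Subgroup.center (Cfsg.Omega F ⇑Q)) =
      if ((2 : F) ≠ 0 ∧ negIso Q ∈ Cfsg.Omega F ⇑Q) then 2 else 1 := by
  have key : ∀ x : ↥(Cfsg.Omega F ⇑Q), x ∈ Subgroup.center (Cfsg.Omega F ⇑Q) →
      x.1 = 1 ∨ ((2 : F) ≠ 0 ∧ x.1 = negIso Q) := by
    intro x hx
    rw [Subgroup.mem_center_iff] at hx
    have hz : ∀ g ∈ Cfsg.Omega F ⇑Q, g * x.1 = x.1 * g := by
      intro g hg
      exact congrArg Subtype.val (hx ⟨g, hg⟩)
    obtain ⟨c, hcc, hc⟩ := centralizer_Omega' Q hQ h T x.1 hz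
    have hc' : c = 1 ∨ c = -1 := by
      have : (c - 1) * (c + 1) = 0 := by linear_combination hcc
      rcases mul_eq_zero.mp this with h | h
      · left; linear_combination h
      · right; linear_combination h
    rcases hc' with rfl | rfl
    · left
      apply Subtype.ext
      apply Units.ext
      rw [hc, one_smul]
      rfl
    · by_cases h2 : (2 : F) = 0
      · left
        apply Subtype.ext
        apply Units.ext
        rw [hc]
        have : (-1 : F) = 1 := by linear_combination -h2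
        rw [this, one_smul]
        rfl
      · right
        refine ⟨h2, ?_⟩
        apply Subtype.ext
        apply Units.ext
        rw [hc, negIso_val]
        simp
  split_ifs with hcond
  · -- two elements
    obtain ⟨h2, hneg⟩ := hcond
    have hnegc : (⟨negIso Q, hneg⟩ : ↥(Cfsg.Omega F ⇑Q)) ∈ Subgroup.center (Cfsg.Omega F ⇑Q) := by
      rw [Subgroup.mem_center_iff]
      intro g
      apply Subtype.ext
      exact negIso_comm Q g.1
    rw [Nat.card_eq_two_iff]
    refine ⟨1, ⟨⟨negIso Q, hneg⟩, hnegc⟩, ?_, ?_⟩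
    · intro hcon
      have h1 : (1 : ↥(Cfsg.isometryGroup F ⇑Q)) = negIso Q := by
        have := congrArg (fun y : ↥(Subgroup.center (Cfsg.Omega F ⇑Q)) => (y.1.1 : ↥(Cfsg.isometryGroup F ⇑Q))) hcon
        exact this
      have h3 : (1 : Matrix ι ι F) = -1 := by
        have := congrArg (fun y : ↥(Cfsg.isometryGroup F ⇑Q) => ((y.1 : GL ι F) : Matrix ι ι F)) h1
        exact this
      -- a non-singular vector exists, in particular `ι` is non-empty
      have hne : Nonempty ι := by
        by_contra hcon'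
        rw [not_nonempty_iff] at hcon'
        have := T.huw 0 0
        rw [if_pos rfl] at this
        have hz : T.u 0 = 0 := Subsingleton.elim _ _
        rw [hz, QuadraticMap.polar_zero_left] at this
        exact zero_ne_one this
      obtain ⟨i⟩ := hne
      have := congrFun (congrFun h3 i) i
      rw [Matrix.one_apply_eq, Matrix.neg_apply, Matrix.one_apply_eq] at this
      apply h2
      linear_combination this
    · ext y
      simp only [Set.mem_insert_iff, Set.mem_singleton_iff, Set.mem_univ, iff_true]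
      rcases key y.1 y.2 with h1 | ⟨-, h1⟩
      · left
        apply Subtype.ext
        apply Subtype.ext
        exact h1
      · right
        apply Subtype.ext
        apply Subtype.ext
        exact h1
  · -- trivial centre
    have : Subgroup.center (Cfsg.Omega F ⇑Q) = ⊥ := by
      rw [eq_bot_iff]
      intro x hx
      rw [Subgroup.mem_bot]
      rcases key x hx with h1 | ⟨h2, h1⟩
      · exact Subtype.ext h1
      · exfalso
        apply hcond
        refine ⟨h2, ?_⟩
        rw [← h1]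
        exact x.2
    rw [this, Subgroup.card_bot]

/-- the order of `PΩ` -/
theorem card_POmega_mul (hQ : (QuadraticMap.polarBilin Q).Nondegenerate)
    (h : Fintype.card F ≠ 2 ∨ Fintype.card ι ≠ 4) (T : HypTriple Q)
    [Decidable ((2 : F) ≠ 0 ∧ negIso Q ∈ Cfsg.Omega F ⇑Q)] :
    Nat.card (Cfsg.POmega F ⇑Q) *
      (if ((2 : F) ≠ 0 ∧ negIso Q ∈ Cfsg.Omega F ⇑Q) then 2 else 1) *
        (Cfsg.Omega F ⇑Q).index = Nat.card ↥(Cfsg.isometryGroup F ⇑Q) := by
  rw [← card_center_Omega Q hQ h T, ← Subgroup.card_mul_index (Cfsg.Omega F ⇑Q)]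
  congr 1
  exact (Subgroup.card_eq_card_quotient_mul_card_subgroup
    (Subgroup.center (Cfsg.Omega F ⇑Q))).symm

end general

end Cfsg.Agent.Lib.Helper6
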