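import Mathlib
import Cfsg.Agent.Lib.Helper6.SiegelOmega

/-!
# Transitivity properties of the group generated by the Siegel transformations
-/

set_option autoImplicit false

namespace Cfsg.Agent.Lib.Helper6

open Matrix Cfsg.Agent.Lib.Helper15

section
variable {F : Type*} [Field F] {ι : Type} [Fintype ι] [DecidableEq ι]
  (Q : QuadraticForm F (ι → F))

/-- orthogonal independent singular vectors are conjugate under a Siegel transformation -/
theorem exists_sieg_move_orth (hQ : (QuadraticMap.polarBilin Q).Nondegenerate)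
    (u u' : ι → F) (hu0 : u ≠ 0) (hu : Q u = 0) (hu' : Q u' = 0)
    (horth : QuadraticMap.polar (⇑Q) u u' = 0) (hind : ∀ c : F, u' ≠ c • u) :
    ∃ g ∈ Sg Q, gact Q g u = u' := by
  obtain ⟨w, hw1, hw2⟩ := exists_polar_values Q hQ u u' hu0 hind 1 1
  have hx : Q (u' - u) = 0 := by
    rw [Q_sub, hu, hu', QuadraticMap.polar_comm, horth]; ring
  have hxw : QuadraticMap.polar (⇑Q) (u' - u) w = 0 := by
    rw [QuadraticMap.polar_sub_left, hw1, hw2, sub_self]
  refine ⟨siegIso Q (u' - u) w hx hxw, siegIso_mem_Sg Q _ _ hx hxw, ?_⟩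
  rw [gact_siegIso]
  have h1 : QuadraticMap.polar (⇑Q) (u' - u) u = 0 := by
    rw [QuadraticMap.polar_sub_left, QuadraticMap.polar_comm (⇑Q) u' u, horth,
      QuadraticMap.polar_self, hu]
    simp
  rw [h1, QuadraticMap.polar_comm (⇑Q) w u, hw1]
  simp

/-- Siegel transformations fixing `u` act transitively on the hyperbolic partners of `u` -/
theorem exists_sieg_move_partner (u v v' : ι → F) (hu : Q u = 0) (hv : Q v = 0) (hv' : Q v' = 0)
    (huv : QuadraticMap.polar (⇑Q) u v = 1) (huv' : QuadraticMap.polar (⇑Q) u v' = 1) :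
    ∃ (w : ι → F) (huw : QuadraticMap.polar (⇑Q) u w = 0),
      gact Q (siegIso Q u w hu huw) u = u ∧ gact Q (siegIso Q u w hu huw) v = v' := by
  have huw : QuadraticMap.polar (⇑Q) u (v - v') = 0 := by
    rw [QuadraticMap.polar_sub_right, huv, huv', sub_self]
  refine ⟨v - v', huw, ?_, ?_⟩
  · rw [gact_siegIso, QuadraticMap.polar_self, hu, QuadraticMap.polar_comm (⇑Q) (v - v') u, huw]
    simp
  · rw [gact_siegIso, huv, Q_sub, hv, hv', QuadraticMap.polar_sub_left, QuadraticMap.polar_self, hv,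
      QuadraticMap.polar_comm (⇑Q) v' v]
    ext i
    simp only [Pi.add_apply, Pi.smul_apply, Pi.sub_apply, smul_eq_mul, nsmul_eq_mul]
    ring

/-- a Siegel transformation fixing `u` and moving `v` off its perpendicular -/
theorem exists_sieg_unperp [Fintype F] (hQ : (QuadraticMap.polarBilin Q).Nondegenerate)
    (h5 : 5 ≤ Fintype.card ι) (u v : ι → F) (hu0 : u ≠ 0) (hu : Q u = 0) (hv : Q v = 0)
    (horth : QuadraticMap.polar (⇑Q) u v = 0) (hind : ∀ c : F, v ≠ c • u) :
    ∃ g ∈ Sg Q, gact Q g u = u ∧ QuadraticMap.polar (⇑Q) v (gact Q g v) ≠ 0 := by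
  have hfin : 5 ≤ Module.finrank F (ι → F) := by
    rw [Module.finrank_fintype_fun_eq_card]; exact h5
  obtain ⟨a₀, ha1, ha2⟩ := exists_polar_values Q hQ u v hu0 hind 0 1
  obtain ⟨a, ha⟩ : ∃ a, a = a₀ - Q a₀ • v := ⟨_, rfl⟩
  have hQa : Q a = 0 := by
    rw [ha, Q_sub, Q_smul, hv, QuadraticMap.polar_smul_right, QuadraticMap.polar_comm (⇑Q) a₀ v, ha2]
    simp
  have hua : QuadraticMap.polar (⇑Q) u a = 0 := by
    rw [ha, QuadraticMap.polar_sub_right, QuadraticMap.polar_smul_right, ha1, horth]; simp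
  have hva : QuadraticMap.polar (⇑Q) v a = 1 := by
    rw [ha, QuadraticMap.polar_sub_right, QuadraticMap.polar_smul_right, ha2,
      QuadraticMap.polar_self, hv]
    simp
  obtain ⟨b, hab, hub, hb⟩ := exists_nonsingular_perp Q hQ hfin a u
  refine ⟨siegIso Q a b hQa hab, siegIso_mem_Sg Q _ _ hQa hab, ?_, ?_⟩
  · rw [gact_siegIso, QuadraticMap.polar_comm (⇑Q) b u, hub, QuadraticMap.polar_comm (⇑Q) a u, hua]
    simp
  · rw [gact_siegIso, QuadraticMap.polar_add_right, QuadraticMap.polar_add_right,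
      QuadraticMap.polar_smul_right, QuadraticMap.polar_smul_right, QuadraticMap.polar_self, hv,
      QuadraticMap.polar_comm (⇑Q) a v, hva, QuadraticMap.polar_comm (⇑Q) b v]
    simp only [smul_eq_mul, nsmul_eq_mul, mul_zero, zero_add, mul_one]
    intro h
    apply hb
    linear_combination -h

/-- a singular vector perpendicular to neither of two orthogonal singular vectors -/
theorem exists_common_nonperp (hQ : (QuadraticMap.polarBilin Q).Nondegenerate)
    (u z : ι → F) (hu0 : u ≠ 0) (hz0 : z ≠ 0) (hu : Q u = 0)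
    (horth : QuadraticMap.polar (⇑Q) z u = 0) :
    ∃ y, Q y = 0 ∧ QuadraticMap.polar (⇑Q) u y ≠ 0 ∧ QuadraticMap.polar (⇑Q) z y ≠ 0 := by
  have hex : ∀ x : ι → F, x ≠ 0 → ∃ w, QuadraticMap.polar (⇑Q) x w = 1 := by
    intro x hx
    have h1 : ∃ y₀, QuadraticMap.polar (⇑Q) x y₀ ≠ 0 := by
      by_contra hcon
      push Not at hcon
      exact hx (hQ.1 x hcon)
    obtain ⟨y₀, hy₀⟩ := h1
    exact ⟨(QuadraticMap.polar (⇑Q) x y₀)⁻¹ • y₀, by
      rw [QuadraticMap.polar_smul_right, smul_eq_mul, inv_mul_cancel₀ hy₀]⟩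
  have h0 : ∃ y₀, QuadraticMap.polar (⇑Q) u y₀ ≠ 0 ∧ QuadraticMap.polar (⇑Q) z y₀ ≠ 0 := by
    obtain ⟨a, ha⟩ := hex u hu0
    obtain ⟨b, hb⟩ := hex z hz0
    by_cases h1 : QuadraticMap.polar (⇑Q) z a ≠ 0
    · exact ⟨a, by rw [ha]; exact one_ne_zero, h1⟩
    push Not at h1
    by_cases h2 : QuadraticMap.polar (⇑Q) u b ≠ 0
    · exact ⟨b, h2, by rw [hb]; exact one_ne_zero⟩
    push Not at h2
    refine ⟨a + b, ?_, ?_⟩
    · rw [QuadraticMap.polar_add_right, ha, h2]; simp
    · rw [QuadraticMap.polar_add_right, h1, hb]; simp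
  obtain ⟨y₀, h1, h2⟩ := h0
  refine ⟨y₀ - (Q y₀ / QuadraticMap.polar (⇑Q) u y₀) • u, ?_, ?_, ?_⟩
  · rw [Q_sub, Q_smul, hu, QuadraticMap.polar_smul_right, QuadraticMap.polar_comm (⇑Q) y₀ u]
    simp only [smul_eq_mul]
    field_simp
    ring
  · rw [QuadraticMap.polar_sub_right, QuadraticMap.polar_smul_right, QuadraticMap.polar_self, hu]
    simpa using h1
  · rw [QuadraticMap.polar_sub_right, QuadraticMap.polar_smul_right, horth]
    simpa using h2

/-- `Sg` is transitive on the non-zero singular vectors -/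
theorem exists_Sg_move [Fintype F] (hQ : (QuadraticMap.polarBilin Q).Nondegenerate)
    (h5 : 5 ≤ Fintype.card ι) (u u' : ι → F) (hu0 : u ≠ 0) (hu0' : u' ≠ 0) (hu : Q u = 0)
    (hu' : Q u' = 0) : ∃ g ∈ Sg Q, gact Q g u = u' := by
  have hfin : 5 ≤ Module.finrank F (ι → F) := by
    rw [Module.finrank_fintype_fun_eq_card]; exact h5
  by_cases horth : QuadraticMap.polar (⇑Q) u u' = 0
  · by_cases hind : ∀ c : F, u' ≠ c • u
    · exact exists_sieg_move_orth Q hQ u u' hu0 hu hu' horth hind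
    · push Not at hind
      obtain ⟨c, hc⟩ := hind
      have hc0 : c ≠ 0 := by
        rintro rfl
        rw [zero_smul] at hc
        exact hu0' hc
      -- a singular vector perpendicular to `u`, not a multiple of `u`
      obtain ⟨v, hv, huv⟩ := exists_hyperbolic_partner Q hQ u hu0 hu
      obtain ⟨z, hz0, hQz, huz, hvz⟩ := exists_singular_perp Q hfin u v
      have hzu : ∀ c' : F, z ≠ c' • u := by
        intro c' h
        rw [h, QuadraticMap.polar_smul_right, QuadraticMap.polar_comm (⇑Q) v u, huv] at hvz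
        simp only [smul_eq_mul, mul_one] at hvz
        rw [hvz, zero_smul] at h
        exact hz0 h
      obtain ⟨g₁, hg₁, h1⟩ := exists_sieg_move_orth Q hQ u z hu0 hu hQz huz hzu
      obtain ⟨g₂, hg₂, h2⟩ := exists_sieg_move_orth Q hQ z u' hz0 hQz hu'
        (by rw [hc, QuadraticMap.polar_smul_right, QuadraticMap.polar_comm (⇑Q) z u, huz, smul_zero])
        (by
          intro c' h
          rw [hc] at h
          have hc'0 : c' ≠ 0 := by
            rintro rfl
            rw [zero_smul] at h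
            exact (smul_ne_zero hc0 hu0) h
          apply hzu (c'⁻¹ * c)
          rw [← smul_smul, h, smul_smul, inv_mul_cancel₀ hc'0, one_smul])
      exact ⟨g₂ * g₁, Subgroup.mul_mem _ hg₂ hg₁, by rw [gact_mul, h1, h2]⟩
  · obtain ⟨z, hz0, hQz, huz, hu'z⟩ := exists_singular_perp Q hfin u u'
    have hzu : ∀ c' : F, z ≠ c' • u := by
      intro c' h
      rw [h, QuadraticMap.polar_smul_right, QuadraticMap.polar_comm (⇑Q) u' u] at hu'z
      simp only [smul_eq_mul] at hu'z
      rcases mul_eq_zero.mp hu'z with h0 | h0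
      · rw [h0, zero_smul] at h
        exact hz0 h
      · exact horth h0
    obtain ⟨g₁, hg₁, h1⟩ := exists_sieg_move_orth Q hQ u z hu0 hu hQz huz hzu
    obtain ⟨g₂, hg₂, h2⟩ := exists_sieg_move_orth Q hQ z u' hz0 hQz hu'
      (by rw [QuadraticMap.polar_comm, hu'z])
      (by
        intro c' h
        rw [h, QuadraticMap.polar_smul_right, huz, smul_zero] at horth
        exact horth rfl)
    exact ⟨g₂ * g₁, Subgroup.mul_mem _ hg₂ hg₁, by rw [gact_mul, h1, h2]⟩

end

end Cfsg.Agent.Lib.Helper6
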