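import Mathlib
import Cfsg.Agent.Lib.Helper6.SiegelTrans

/-!
# `Ω` is perfect (dimension at least five)
-/

set_option autoImplicit false

namespace Cfsg.Agent.Lib.Helper6

open Matrix Module Cfsg.Agent.Lib.Helper15

section abstract
variable {F V : Type*} [Field F] [AddCommGroup V] [Module F V] [FiniteDimensional F V]

/-- the perpendicular of a pair is not totally isotropic for the polar form -/
theorem exists_polar_ne_zero_perp (Q : QuadraticForm F V)
    (hQ : (QuadraticMap.polarBilin Q).Nondegenerate) (h5 : 5 ≤ finrank F V) (x y : V) :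
    ∃ w₁ w₂, QuadraticMap.polar Q x w₁ = 0 ∧ QuadraticMap.polar Q y w₁ = 0 ∧
      QuadraticMap.polar Q x w₂ = 0 ∧ QuadraticMap.polar Q y w₂ = 0 ∧
      QuadraticMap.polar Q w₁ w₂ ≠ 0 := by
  by_contra hcon
  push Not at hcon
  have hle : perpPair Q x y ≤
      LinearMap.BilinForm.orthogonal (QuadraticMap.polarBilin Q) (perpPair Q x y) := by
    intro a ha
    rw [LinearMap.BilinForm.mem_orthogonal_iff]
    intro b hb
    obtain ⟨ha1, ha2⟩ := (mem_perpPair Q x y a).mp ha
    obtain ⟨hb1, hb2⟩ := (mem_perpPair Q x y b).mp hb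
    exact hcon b a hb1 hb2 ha1 ha2
  have e1 := LinearMap.BilinForm.finrank_orthogonal hQ (perpPair Q x y)
  have e2 := Submodule.finrank_mono hle
  have e3 := finrank_perpPair_ge Q x y
  have e4 := Submodule.finrank_le (perpPair Q x y)
  omega

/-- a hyperbolic pair perpendicular to a singular vector -/
theorem exists_hyp_pair_perp [Finite F] (Q : QuadraticForm F V)
    (hQ : (QuadraticMap.polarBilin Q).Nondegenerate) (h5 : 5 ≤ finrank F V) (u : V) (hu0 : u ≠ 0)
    (hu : Q u = 0) :
    ∃ z y, Q z = 0 ∧ Q y = 0 ∧ QuadraticMap.polar Q z y = 1 ∧ QuadraticMap.polar Q u z = 0 ∧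
      QuadraticMap.polar Q u y = 0 := by
  obtain ⟨v, hv, huv⟩ := exists_hyperbolic_partner Q hQ u hu0 hu
  have hnd := nondegenerate_perpPair Q hQ u v hv hu huv
  have hdim := finrank_perpPair Q u v hv hu huv
  obtain ⟨z, hz0, hQz⟩ := exists_singular_of_three_le_finrank (Q.comp (perpPair Q u v).subtype)
    (by omega)
  obtain ⟨y, hQy, hzy⟩ := exists_hyperbolic_partner _ hnd z hz0 hQz
  obtain ⟨hz1, hz2⟩ := (mem_perpPair Q u v z).mp z.2
  obtain ⟨hy1, hy2⟩ := (mem_perpPair Q u v y).mp y.2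
  refine ⟨(z : V), (y : V), ?_, ?_, ?_, hz1, hy1⟩
  · simpa using hQz
  · simpa using hQy
  · rw [polar_comp_subtype] at hzy
    exact hzy

end abstract

section
variable {F : Type*} [Field F] [Fintype F] {ι : Type} [Fintype ι] [DecidableEq ι]
  (Q : QuadraticForm F (ι → F))

/-- the commutator of `g ∈ Ω` fixing `u` with a Siegel transformation -/
theorem commutator_sieg_mem (u w : ι → F) (hu : Q u = 0) (huw : QuadraticMap.polar (⇑Q) u w = 0)
    (g : ↥(Cfsg.isometryGroup F ⇑Q)) (hg : g ∈ Cfsg.Omega F ⇑Q) (hgu : gact Q g u = u)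
    (hmem : siegIso Q u w hu huw ∈ Cfsg.Omega F ⇑Q) :
    siegIso Q u (gact Q g w - w) hu (by
      rw [QuadraticMap.polar_sub_right, huw, sub_zero]
      have := polar_gact Q g u w
      rw [hgu] at this
      rw [this, huw]) ∈ ⁅Cfsg.Omega F ⇑Q, Cfsg.Omega F ⇑Q⁆ := by
  have h1 := Subgroup.commutator_mem_commutator hg hmem
  rw [commutatorElement_def, conj_siegIso, siegIso_inv] at h1
  have h2 : siegIso Q (gact Q g u) (gact Q g w) (by rw [Q_gact, hu]) (by rw [polar_gact, huw]) =
      siegIso Q u (gact Q g w) hu (by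
        have := polar_gact Q g u w
        rw [hgu] at this
        rw [this, huw]) := by
    apply iso_ext_gact
    intro x
    rw [gact_siegIso, gact_siegIso, hgu]
  rw [h2, siegIso_mul] at h1
  convert h1 using 2
  exact sub_eq_add_neg _ _

/-- every Siegel transformation is a product of commutators of elements of `Ω` -/
theorem siegIso_mem_commutator (hQ : (QuadraticMap.polarBilin Q).Nondegenerate)
    (h5 : 5 ≤ Fintype.card ι) (u : ι → F) (hu0 : u ≠ 0) (hu : Q u = 0) :
    ∀ (z : ι → F) (huz : QuadraticMap.polar (⇑Q) u z = 0),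
      siegIso Q u z hu huz ∈ ⁅Cfsg.Omega F ⇑Q, Cfsg.Omega F ⇑Q⁆ := by
  have hfin : 5 ≤ Module.finrank F (ι → F) := by
    rw [Module.finrank_fintype_fun_eq_card]; exact h5
  -- closure properties
  have hadd : ∀ (z z' : ι → F) (h1 : QuadraticMap.polar (⇑Q) u z = 0)
      (h2 : QuadraticMap.polar (⇑Q) u z' = 0),
      siegIso Q u z hu h1 ∈ ⁅Cfsg.Omega F ⇑Q, Cfsg.Omega F ⇑Q⁆ →
      siegIso Q u z' hu h2 ∈ ⁅Cfsg.Omega F ⇑Q, Cfsg.Omega F ⇑Q⁆ →
      ∀ h3 : QuadraticMap.polar (⇑Q) u (z + z') = 0,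
      siegIso Q u (z + z') hu h3 ∈ ⁅Cfsg.Omega F ⇑Q, Cfsg.Omega F ⇑Q⁆ := by
    intro z z' h1 h2 hz hz' h3
    have := Subgroup.mul_mem _ hz hz'
    rw [siegIso_mul] at this
    exact this
  have hneg : ∀ (z : ι → F) (h1 : QuadraticMap.polar (⇑Q) u z = 0),
      siegIso Q u z hu h1 ∈ ⁅Cfsg.Omega F ⇑Q, Cfsg.Omega F ⇑Q⁆ →
      ∀ h3 : QuadraticMap.polar (⇑Q) u (-z) = 0,
      siegIso Q u (-z) hu h3 ∈ ⁅Cfsg.Omega F ⇑Q, Cfsg.Omega F ⇑Q⁆ := by
    intro z h1 hz h3
    have := Subgroup.inv_mem _ hz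
    rw [siegIso_inv] at this
    exact this
  -- the key step: vectors perpendicular to `u` and to a second singular vector `u'`
  have key : ∀ (u' : ι → F), Q u' = 0 → QuadraticMap.polar (⇑Q) u u' = 0 → (∀ c : F, u' ≠ c • u) →
      ∀ (w' : ι → F) (huw' : QuadraticMap.polar (⇑Q) u w' = 0),
        QuadraticMap.polar (⇑Q) u' w' = 0 →
        siegIso Q u w' hu huw' ∈ ⁅Cfsg.Omega F ⇑Q, Cfsg.Omega F ⇑Q⁆ := by
    intro u' hu' huu' hind
    obtain ⟨w, hw1, hw2⟩ := exists_polar_values Q hQ u u' hu0 hind 0 (-1)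
    -- step (c)
    have stepc : ∀ (w' : ι → F) (huw' : QuadraticMap.polar (⇑Q) u w' = 0)
        (hu'w' : QuadraticMap.polar (⇑Q) u' w' = 0)
        (h3 : QuadraticMap.polar (⇑Q) u
          (w' + (QuadraticMap.polar (⇑Q) w' w + Q w') • u') = 0),
        siegIso Q u (w' + (QuadraticMap.polar (⇑Q) w' w + Q w') • u') hu h3 ∈
          ⁅Cfsg.Omega F ⇑Q, Cfsg.Omega F ⇑Q⁆ := by
      intro w' huw' hu'w' h3
      have hgmem := siegIso_mem_Omega Q hQ h5 u' w' hu' hu'w'
      have hgu : gact Q (siegIso Q u' w' hu' hu'w') u = u := by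
        rw [gact_siegIso, QuadraticMap.polar_comm (⇑Q) w' u, huw',
          QuadraticMap.polar_comm (⇑Q) u' u, huu']
        simp
      have := commutator_sieg_mem Q u w hu hw1 _ hgmem hgu (siegIso_mem_Omega Q hQ h5 u w hu hw1)
      convert this using 2
      rw [gact_siegIso, hw2]
      ext i
      simp only [Pi.add_apply, Pi.smul_apply, Pi.sub_apply, smul_eq_mul]
      ring
    -- step (d): multiples of `u'`
    obtain ⟨w₁, w₂, h11, h12, h21, h22, hne⟩ := exists_polar_ne_zero_perp Q hQ hfin u u'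
    have stepd : ∀ (t : F) (h3 : QuadraticMap.polar (⇑Q) u (t • u') = 0),
        siegIso Q u (t • u') hu h3 ∈ ⁅Cfsg.Omega F ⇑Q, Cfsg.Omega F ⇑Q⁆ := by
      intro t h3
      obtain ⟨s, hs⟩ : ∃ s, s = -t / QuadraticMap.polar (⇑Q) w₁ w₂ := ⟨_, rfl⟩
      have hpu : ∀ (a : ι → F) (c : F), QuadraticMap.polar (⇑Q) u a = 0 →
          QuadraticMap.polar (⇑Q) u (a + c • u') = 0 := by
        intro a c ha
        rw [QuadraticMap.polar_add_right, QuadraticMap.polar_smul_right, ha, huu']; simp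
      have hA := stepc (s • w₁) (by rw [QuadraticMap.polar_smul_right, h11, smul_zero])
        (by rw [QuadraticMap.polar_smul_right, h12, smul_zero])
        (hpu _ _ (by rw [QuadraticMap.polar_smul_right, h11, smul_zero]))
      have hB := stepc w₂ h21 h22 (hpu _ _ h21)
      have hC := stepc (s • w₁ + w₂)
        (by rw [QuadraticMap.polar_add_right, QuadraticMap.polar_smul_right, h11, h21]; simp)
        (by rw [QuadraticMap.polar_add_right, QuadraticMap.polar_smul_right, h12, h22]; simp)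
        (hpu _ _ (by rw [QuadraticMap.polar_add_right, QuadraticMap.polar_smul_right, h11, h21]; simp))
      have hC' := hneg _ _ hC (by
        rw [QuadraticMap.polar_neg_right, hpu _ _ (by
          rw [QuadraticMap.polar_add_right, QuadraticMap.polar_smul_right, h11, h21]; simp), neg_zero])
      have hAB := hadd _ _ _ _ hA hB (by
        rw [QuadraticMap.polar_add_right, hpu _ _ (by
          rw [QuadraticMap.polar_smul_right, h11, smul_zero]), hpu _ _ h21, add_zero])
      have hABC := hadd _ _ _ _ hAB hC' (by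
        rw [QuadraticMap.polar_add_right, QuadraticMap.polar_add_right, hpu _ _ (by
          rw [QuadraticMap.polar_smul_right, h11, smul_zero]), hpu _ _ h21,
          QuadraticMap.polar_neg_right, hpu _ _ (by
          rw [QuadraticMap.polar_add_right, QuadraticMap.polar_smul_right, h11, h21]; simp)]
        simp)
      convert hABC using 2
      rw [Q_add, Q_smul, QuadraticMap.polar_add_left, QuadraticMap.polar_smul_left,
        QuadraticMap.polar_smul_left, hs]
      ext i
      simp only [Pi.add_apply, Pi.smul_apply, Pi.neg_apply, smul_eq_mul]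
      field_simp
      ring
    -- step (e)
    intro w' huw' hu'w'
    have h1 := stepc w' huw' hu'w' (by
      rw [QuadraticMap.polar_add_right, QuadraticMap.polar_smul_right, huw', huu']; simp)
    have h2 := stepd (-(QuadraticMap.polar (⇑Q) w' w + Q w')) (by
      rw [QuadraticMap.polar_smul_right, huu', smul_zero])
    have h3 := hadd _ _ _ _ h1 h2 (by
      rw [QuadraticMap.polar_add_right, QuadraticMap.polar_add_right,
        QuadraticMap.polar_smul_right, QuadraticMap.polar_smul_right, huw', huu']; simp)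
    convert h3 using 2
    rw [neg_smul]
    abel
  -- step (f): decompose
  obtain ⟨z₁, z₂, hz₁, hz₂, hz12, huz₁, huz₂⟩ := exists_hyp_pair_perp Q hQ hfin u hu0 hu
  have hind₁ : ∀ c : F, z₁ ≠ c • u := by
    intro c h
    rw [h, QuadraticMap.polar_smul_left, huz₂] at hz12
    simp at hz12
  have hind₂ : ∀ c : F, z₂ ≠ c • u := by
    intro c h
    rw [h, QuadraticMap.polar_smul_right, QuadraticMap.polar_comm (⇑Q) z₁ u, huz₁] at hz12
    simp at hz12
  intro z huz
  have hA := key z₁ hz₁ huz₁ hind₁ (z - QuadraticMap.polar (⇑Q) z₁ z • z₂)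
    (by rw [QuadraticMap.polar_sub_right, QuadraticMap.polar_smul_right, huz, huz₂]; simp)
    (by rw [QuadraticMap.polar_sub_right, QuadraticMap.polar_smul_right, hz12]; simp)
  have hB := key z₂ hz₂ huz₂ hind₂ (QuadraticMap.polar (⇑Q) z₁ z • z₂)
    (by rw [QuadraticMap.polar_smul_right, huz₂, smul_zero])
    (by rw [QuadraticMap.polar_smul_right, QuadraticMap.polar_self, hz₂]; simp)
  have hAB := hadd _ _ _ _ hA hB (by
    rw [QuadraticMap.polar_add_right, QuadraticMap.polar_sub_right,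
      QuadraticMap.polar_smul_right, huz, huz₂]; simp)
  convert hAB using 2
  abel

/-- `Ω` is perfect -/
theorem Omega_perfect (hQ : (QuadraticMap.polarBilin Q).Nondegenerate)
    (h5 : 5 ≤ Fintype.card ι) : commutator ↥(Cfsg.Omega F ⇑Q) = ⊤ := by
  have hS : Sg Q ≤ ⁅Cfsg.Omega F ⇑Q, Cfsg.Omega F ⇑Q⁆ := by
    unfold Sg
    rw [Subgroup.closure_le]
    rintro g ⟨u, w, hu, huw, rfl⟩
    by_cases hu0 : u = 0
    · subst hu0
      have : siegIso Q 0 w hu huw = 1 := by
        apply iso_ext_gact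
        intro x
        rw [gact_siegIso, gact_one]
        simp
      rw [this]
      exact Subgroup.one_mem _
    · exact siegIso_mem_commutator Q hQ h5 u hu0 hu w huw
  have h1 : Cfsg.Omega F ⇑Q ≤ ⁅Cfsg.Omega F ⇑Q, Cfsg.Omega F ⇑Q⁆ :=
    le_of_eq_of_le (Sg_eq_Omega Q hQ h5).symm hS
  have h2 : ⁅Cfsg.Omega F ⇑Q, Cfsg.Omega F ⇑Q⁆ = Cfsg.Omega F ⇑Q :=
    le_antisymm (Subgroup.commutator_le_left _ _) h1
  exact (Group.isPerfect_def.mp (Subgroup.isPerfect_iff.mpr h2))

end

end Cfsg.Agent.Lib.Helper6
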