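import Mathlib
import Cfsg.Prelude.Def_LieTypeDatum
import Cfsg.Prelude.Def_KGroupFacts
import Cfsg.Agent.Lib.Helper6.AutInduced
import Cfsg.Agent.Lib.Helper6.OmegaCentralizer
import Cfsg.Agent.Lib.Helper6.Spinor3
import Cfsg.Agent.Lib.Helper6.SiegelPerfect

/-!
# Automorphisms of `PΩ(Q)` induced by isometries and similarities
-/

set_option autoImplicit false
set_option linter.unusedSectionVars false
set_option linter.unusedVariables false

namespace Cfsg.Agent.Lib.Helper6.OmegaAut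

open Subgroup Matrix Cfsg.Agent.Lib.Helper6.AutInduced Cfsg.Agent.Lib.Helper6

section defs
variable {F : Type*} [Field F] {ι : Type} [Fintype ι] [DecidableEq ι] (Q : (ι → F) → F)

theorem isInduced_iff (g : GL ι F) (β : MulAut (Cfsg.POmega F Q)) :
    Cfsg.IsInducedBySemilinearPOmega Q g (RingEquiv.refl F) β ↔
      IsInd (Cfsg.isometryGroup F Q) g β := by
  have key : ∀ s s' : ↥(Cfsg.Omega F Q),
      ((((s' : ↥(Cfsg.isometryGroup F Q)) : GL ι F) : Matrix ι ι F) =
        (g : Matrix ι ι F) * ((((s : ↥(Cfsg.isometryGroup F Q)) : GL ι F) : Matrix ι ι F)).map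
          (RingEquiv.refl F) * ((g⁻¹ : GL ι F) : Matrix ι ι F)) ↔
      (((s' : ↥(Cfsg.isometryGroup F Q)) : GL ι F) =
        g * ((s : ↥(Cfsg.isometryGroup F Q)) : GL ι F) * g⁻¹) := by
    intro s s'
    have hmap : ((((s : ↥(Cfsg.isometryGroup F Q)) : GL ι F) : Matrix ι ι F)).map
        (RingEquiv.refl F) = (((s : ↥(Cfsg.isometryGroup F Q)) : GL ι F) : Matrix ι ι F) := by
      ext i j
      rfl
    rw [hmap]
    constructor
    · intro h
      apply Units.ext
      rw [h]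
      rfl
    · intro h
      rw [h]
      rfl
  constructor
  · intro h s s' hs
    exact h s s' ((key s s').mpr hs)
  · intro h s s' hs
    exact h s s' ((key s s').mp hs)

theorem isometryGroup_le_normalizer :
    Cfsg.isometryGroup F Q ≤ normalizer (Cfsg.isometryGroup F Q : Set (GL ι F)) :=
  le_normalizer

theorem specialIsometryGL_le : Cfsg.specialIsometryGL F Q ≤ Cfsg.isometryGroup F Q :=
  inf_le_left

theorem psoAut_eq : Cfsg.psoAut F Q =
    img (Cfsg.isometryGroup F Q) (Cfsg.specialIsometryGL F Q) := by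
  unfold Cfsg.psoAut Cfsg.autSubgroupOf
  rw [← closure_isInd _ _ ((specialIsometryGL_le Q).trans le_normalizer)]
  congr 1
  ext β
  constructor
  · rintro ⟨g, hg, h⟩
    exact ⟨g, hg, (isInduced_iff Q g β).mp h⟩
  · rintro ⟨g, hg, h⟩
    exact ⟨g, hg, (isInduced_iff Q g β).mpr h⟩

theorem poAut_eq : Cfsg.poAut F Q =
    img (Cfsg.isometryGroup F Q) (Cfsg.isometryGroup F Q) := by
  unfold Cfsg.poAut Cfsg.autSubgroupOf
  rw [← closure_isInd _ _ le_normalizer]
  congr 1
  ext β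
  constructor
  · rintro ⟨g, hg, h⟩
    exact ⟨g, hg, (isInduced_iff Q g β).mp h⟩
  · rintro ⟨g, hg, h⟩
    exact ⟨g, hg, (isInduced_iff Q g β).mpr h⟩

theorem Inn_eq : Cfsg.Inn (Cfsg.POmega F Q) =
    img (Cfsg.isometryGroup F Q) (OmX (Cfsg.isometryGroup F Q)) :=
  (img_OmX _).symm

end defs

section index
variable {F : Type*} [Field F] {ι : Type} [Fintype ι] [DecidableEq ι]
  (Q : QuadraticForm F (ι → F))

theorem mem_isometryGroup_iff (g : GL ι F) :
    g ∈ Cfsg.isometryGroup F ⇑Q ↔ ∀ u, Q ((g : Matrix ι ι F) *ᵥ u) = Q u := by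
  constructor
  · intro h u
    exact h u u
  · intro h u v
    exact h u

/-- the square of the determinant of a similarity -/
theorem det_sq_of_similarity
    (hQ : (QuadraticMap.polarBilin Q).Nondegenerate) (g : Matrix ι ι F) (μ : F)
    (h : ∀ v, Q (g *ᵥ v) = μ * Q v) : g.det ^ 2 = μ ^ (Fintype.card ι) := by
  set B : LinearMap.BilinForm F (ι → F) := QuadraticMap.polarBilin Q with hB
  have h1 : LinearMap.BilinForm.comp B (Matrix.toLin' g) (Matrix.toLin' g) = μ • B := by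
    refine LinearMap.ext fun x => LinearMap.ext fun y => ?_
    simp only [LinearMap.BilinForm.comp_apply, Matrix.toLin'_apply, LinearMap.smul_apply, hB,
      QuadraticMap.polarBilin_apply_apply, smul_eq_mul, QuadraticMap.polar]
    rw [← Matrix.mulVec_add, h, h, h]
    ring
  have h2 := congrArg LinearMap.BilinForm.toMatrix' h1
  rw [LinearMap.BilinForm.toMatrix'_comp, LinearMap.toMatrix'_toLin', map_smul] at h2
  have h3 := congrArg Matrix.det h2
  rw [Matrix.det_mul, Matrix.det_mul, Matrix.det_transpose, Matrix.det_smul] at h3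
  have h4 : (LinearMap.BilinForm.toMatrix' B).det ≠ 0 := by
    have := (LinearMap.BilinForm.nondegenerate_iff_det_ne_zero (Pi.basisFun F ι)).mp hQ
    rwa [LinearMap.BilinForm.toMatrix_basisFun] at this
  have h5 : (g.det ^ 2 - μ ^ Fintype.card ι) * (LinearMap.BilinForm.toMatrix' B).det = 0 := by
    linear_combination h3
  rcases mul_eq_zero.mp h5 with h | h
  · linear_combination h
  · exact absurd h h4

theorem det_isometry (hQ : (QuadraticMap.polarBilin Q).Nondegenerate)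
    (g : ↥(Cfsg.isometryGroup F ⇑Q)) :
    ((g.1 : GL ι F) : Matrix ι ι F).det = 1 ∨ ((g.1 : GL ι F) : Matrix ι ι F).det = -1 := by
  have h := det_sq_of_similarity Q hQ ((g.1 : GL ι F) : Matrix ι ι F) 1 (by
    intro v
    rw [one_mul]
    exact (mem_isometryGroup_iff Q g.1).mp g.2 v)
  rw [one_pow] at h
  have : (((g.1 : GL ι F) : Matrix ι ι F).det - 1) * (((g.1 : GL ι F) : Matrix ι ι F).det + 1) = 0 := by
    linear_combination h
  rcases mul_eq_zero.mp this with h | h
  · left; linear_combination h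
  · right; linear_combination h

/-- the determinant, as a sign -/
noncomputable def detSgn [DecidableEq F] (h2 : (2 : F) ≠ 0)
    (hQ : (QuadraticMap.polarBilin Q).Nondegenerate) :
    ↥(Cfsg.isometryGroup F ⇑Q) →* ℤˣ where
  toFun g := if ((g.1 : GL ι F) : Matrix ι ι F).det = 1 then 1 else -1
  map_one' := by
    have : (((1 : ↥(Cfsg.isometryGroup F ⇑Q)).1 : GL ι F) : Matrix ι ι F) = 1 := rfl
    simp [this]
  map_mul' g h := by
    have hg := det_isometry Q hQ g
    have hh := det_isometry Q hQ h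
    have hne : (-1 : F) ≠ 1 := by
      intro h
      apply h2
      linear_combination -h
    change (if (((g.1 : GL ι F) : Matrix ι ι F) * ((h.1 : GL ι F) : Matrix ι ι F)).det = 1
      then (1 : ℤˣ) else -1) =
      (if ((g.1 : GL ι F) : Matrix ι ι F).det = 1 then 1 else -1) *
        (if ((h.1 : GL ι F) : Matrix ι ι F).det = 1 then 1 else -1)
    rw [Matrix.det_mul]
    rcases hg with hg | hg <;> rcases hh with hh | hh <;> rw [hg, hh] <;> simp [hne]

theorem detSgn_eq_one_iff [DecidableEq F] (h2 : (2 : F) ≠ 0)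
    (hQ : (QuadraticMap.polarBilin Q).Nondegenerate)
    (g : ↥(Cfsg.isometryGroup F ⇑Q)) :
    detSgn Q h2 hQ g = 1 ↔ ((g.1 : GL ι F) : Matrix ι ι F).det = 1 := by
  change (if ((g.1 : GL ι F) : Matrix ι ι F).det = 1 then (1 : ℤˣ) else -1) = 1 ↔ _
  by_cases h : ((g.1 : GL ι F) : Matrix ι ι F).det = 1
  · simp [h]
  · simp only [h, if_false, iff_false]
    decide

theorem det_reflectionMatrix (h2 : (2 : F) ≠ 0) (v : ι → F) (hv : Q v ≠ 0) :
    (Cfsg.reflectionMatrix ⇑Q v).det = -1 := by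
  unfold Cfsg.reflectionMatrix
  rw [sub_eq_add_neg, ← neg_smul, det_one_add_smul_vecMulVec, polarVec_dot, QuadraticMap.polar_self,
    nsmul_eq_mul]
  push_cast
  field_simp
  ring

theorem ker_detSgn [DecidableEq F] (h2 : (2 : F) ≠ 0)
    (hQ : (QuadraticMap.polarBilin Q).Nondegenerate) :
    (detSgn Q h2 hQ).ker = Cfsg.specialIsometryGroup F ⇑Q := by
  ext g
  rw [MonoidHom.mem_ker, detSgn_eq_one_iff]
  unfold Cfsg.specialIsometryGroup
  rw [MonoidHom.mem_ker, MonoidHom.comp_apply]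
  constructor
  · intro h
    apply Units.ext
    exact h
  · intro h
    exact congrArg Units.val h

/-- `SO` has index two in `O` -/
theorem index_specialIsometryGroup [Fintype F] (h2 : (2 : F) ≠ 0)
    (hQ : (QuadraticMap.polarBilin Q).Nondegenerate) (v : ι → F) (hv : Q v ≠ 0) :
    (Cfsg.specialIsometryGroup F ⇑Q).index = 2 := by
  classical
  rw [← ker_detSgn Q h2 hQ]
  obtain ⟨g, hg⟩ := exists_of_list' Q [v] (by
    intro w hw
    rw [List.mem_singleton] at hw
    rw [hw]; exact hv)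
  apply index_ker_of_surj _ g
  change (if ((g.1 : GL ι F) : Matrix ι ι F).det = 1 then (1 : ℤˣ) else -1) = -1
  rw [hg, List.map_cons, List.map_nil, List.prod_cons, List.prod_nil, mul_one,
    det_reflectionMatrix Q h2 v hv, if_neg]
  intro h
  apply h2
  linear_combination -h

end index

section main
variable {F : Type*} [Field F] [Fintype F] {ι : Type} [Fintype ι] [DecidableEq ι]
  (Q : QuadraticForm F (ι → F))

theorem Omega_le_specialIsometryGroup :
    Cfsg.Omega F ⇑Q ≤ Cfsg.specialIsometryGroup F ⇑Q := by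
  unfold Cfsg.specialIsometryGroup
  exact Abelianization.commutator_subset_ker _

theorem map_specialIsometryGroup :
    (Cfsg.specialIsometryGroup F ⇑Q).map (Cfsg.isometryGroup F ⇑Q).subtype =
      Cfsg.specialIsometryGL F ⇑Q := by
  ext x
  unfold Cfsg.specialIsometryGroup Cfsg.specialIsometryGL Cfsg.Geo.specialLinear
  rw [Subgroup.mem_map, Subgroup.mem_inf]
  constructor
  · rintro ⟨g, hg, rfl⟩
    exact ⟨g.2, hg⟩
  · rintro ⟨h1, h2⟩
    exact ⟨⟨x, h1⟩, h2, rfl⟩

theorem OmX_le_SO : OmX (Cfsg.isometryGroup F ⇑Q) ≤ Cfsg.specialIsometryGL F ⇑Q := by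
  rw [← map_specialIsometryGroup]
  exact Subgroup.map_mono (Omega_le_specialIsometryGroup Q)

theorem relIndex_Omega_SO (h2 : (2 : F) ≠ 0) (hQ : (QuadraticMap.polarBilin Q).Nondegenerate)
    (hcard : 2 ≤ Fintype.card ι) (v : ι → F) (hv : Q v ≠ 0) :
    (Cfsg.Omega F ⇑Q).relIndex (Cfsg.specialIsometryGroup F ⇑Q) = 2 := by
  classical
  have h1 := Subgroup.relIndex_mul_index (Omega_le_specialIsometryGroup Q)
  rw [index_Omega' Q h2 hQ hcard, index_specialIsometryGroup Q h2 hQ v hv] at h1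
  omega

theorem relIndex_OmX_SO (h2 : (2 : F) ≠ 0) (hQ : (QuadraticMap.polarBilin Q).Nondegenerate)
    (hcard : 2 ≤ Fintype.card ι) (v : ι → F) (hv : Q v ≠ 0) :
    (OmX (Cfsg.isometryGroup F ⇑Q)).relIndex (Cfsg.specialIsometryGL F ⇑Q) = 2 := by
  rw [← map_specialIsometryGroup, OmX,
    Subgroup.relIndex_map_map_of_injective _ _ (Subgroup.subtype_injective _)]
  exact relIndex_Omega_SO Q h2 hQ hcard v hv

theorem negIso_mem_SO (heven : Even (Fintype.card ι)) :
    negIso Q ∈ Cfsg.specialIsometryGroup F ⇑Q := by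
  unfold Cfsg.specialIsometryGroup
  rw [MonoidHom.mem_ker, MonoidHom.comp_apply]
  apply Units.ext
  change (((negIso Q).1 : GL ι F) : Matrix ι ι F).det = 1
  rw [negIso_val, Matrix.det_neg, Matrix.det_one, mul_one, heven.neg_one_pow]

theorem T_nonsingular (T : HypTriple Q) : Q (T.u 0 + T.w 0) ≠ 0 := by
  rw [Q_add, T.hQu, T.hQw, T.huw, if_pos rfl]
  simp

/-- `Psi` of the scalar `-1` is trivial -/
theorem Psi_negIso (hperf : commutator ↥(Cfsg.Omega F ⇑Q) = ⊤)
    (hN : ((negIso Q).1 : GL ι F) ∈ normalizer (Cfsg.isometryGroup F ⇑Q : Set (GL ι F))) :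
    Psi (Cfsg.isometryGroup F ⇑Q) ⟨((negIso Q).1 : GL ι F), hN⟩ = 1 := by
  rw [Psi_eq_one_iff _ hperf]
  intro s
  have := negIso_comm Q s.1
  have h1 : ((negIso Q).1 : GL ι F) * (s.1.1 : GL ι F) = (s.1.1 : GL ι F) * ((negIso Q).1 : GL ι F) :=
    (congrArg Subtype.val this).symm
  change ((negIso Q).1 : GL ι F) * (s.1.1 : GL ι F) * ((negIso Q).1 : GL ι F)⁻¹ = _
  rw [h1, mul_inv_cancel_right]

/-- **`-1 ∉ Ω`: the image of `SO` in `Aut(PΩ)` is `Inn(PΩ)`.** -/
theorem relIndex_Inn_psoAut_of_notMem (h2 : (2 : F) ≠ 0)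
    (hQ : (QuadraticMap.polarBilin Q).Nondegenerate)
    (h5 : 5 ≤ Fintype.card ι) (heven : Even (Fintype.card ι)) (T : HypTriple Q)
    (hneg : negIso Q ∉ Cfsg.Omega F ⇑Q) :
    (Cfsg.Inn (Cfsg.POmega F ⇑Q)).relIndex (Cfsg.psoAut F ⇑Q) = 1 := by
  have hperf := Omega_perfect Q hQ h5
  have hidx := relIndex_Omega_SO Q h2 hQ (by omega) _ (T_nonsingular Q T)
  rw [Inn_eq, psoAut_eq]
  apply relIndex_img_eq_one
  intro b hb hbN
  have hbO : b ∈ Cfsg.isometryGroup F ⇑Q := specialIsometryGL_le _ hb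
  have hbS : (⟨b, hbO⟩ : ↥(Cfsg.isometryGroup F ⇑Q)) ∈ Cfsg.specialIsometryGroup F ⇑Q := by
    rw [← map_specialIsometryGroup] at hb
    obtain ⟨g, hg, hgb⟩ := hb
    have : g = ⟨b, hbO⟩ := Subtype.ext hgb
    rw [← this]; exact hg
  by_cases hbΩ : (⟨b, hbO⟩ : ↥(Cfsg.isometryGroup F ⇑Q)) ∈ Cfsg.Omega F ⇑Q
  · exact ⟨b, (mem_OmX _ b).mpr ⟨⟨⟨b, hbO⟩, hbΩ⟩, rfl⟩, hbN, rfl⟩
  · have hprod : (⟨b, hbO⟩ : ↥(Cfsg.isometryGroup F ⇑Q)) * negIso Q ∈ Cfsg.Omega F ⇑Q := by
      have := Subgroup.mul_mem_iff_of_index_two (H := (Cfsg.Omega F ⇑Q).subgroupOf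
        (Cfsg.specialIsometryGroup F ⇑Q)) hidx
        (a := ⟨⟨b, hbO⟩, hbS⟩) (b := ⟨negIso Q, negIso_mem_SO Q heven⟩)
      rw [Subgroup.mem_subgroupOf, Subgroup.mem_subgroupOf, Subgroup.mem_subgroupOf] at this
      exact this.mpr ⟨fun h => absurd h hbΩ, fun h => absurd h hneg⟩
    have hnN : ((negIso Q).1 : GL ι F) ∈ normalizer (Cfsg.isometryGroup F ⇑Q : Set (GL ι F)) :=
      le_normalizer (negIso Q).2
    refine ⟨b * ((negIso Q).1 : GL ι F), (mem_OmX _ _).mpr ⟨⟨_, hprod⟩, rfl⟩,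
      Subgroup.mul_mem _ hbN hnN, ?_⟩
    have : (⟨b * ((negIso Q).1 : GL ι F), Subgroup.mul_mem _ hbN hnN⟩ :
        ↥(normalizer (Cfsg.isometryGroup F ⇑Q : Set (GL ι F)))) =
        ⟨b, hbN⟩ * ⟨((negIso Q).1 : GL ι F), hnN⟩ := rfl
    rw [this, map_mul, Psi_negIso Q hperf hnN, mul_one]

/-- **`-1 ∈ Ω`: the image of `SO` in `Aut(PΩ)` contains `Inn(PΩ)` with index two.** -/
theorem relIndex_Inn_psoAut_of_mem (h2 : (2 : F) ≠ 0)
    (hQ : (QuadraticMap.polarBilin Q).Nondegenerate)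
    (h5 : 5 ≤ Fintype.card ι) (T : HypTriple Q)
    (hneg : negIso Q ∈ Cfsg.Omega F ⇑Q) :
    (Cfsg.Inn (Cfsg.POmega F ⇑Q)).relIndex (Cfsg.psoAut F ⇑Q) = 2 := by
  have hperf := Omega_perfect Q hQ h5
  rw [Inn_eq, psoAut_eq, relIndex_img_eq _ _ _ (OmX_le_SO Q)
    ((specialIsometryGL_le _).trans le_normalizer)]
  · exact relIndex_OmX_SO Q h2 hQ (by omega) _ (T_nonsingular Q T)
  · intro b hb hbN hΨ
    have hbO : b ∈ Cfsg.isometryGroup F ⇑Q := specialIsometryGL_le _ hb
    rw [Psi_eq_one_iff _ hperf] at hΨ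
    have hz : ∀ g ∈ Cfsg.Omega F ⇑Q, g * (⟨b, hbO⟩ : ↥(Cfsg.isometryGroup F ⇑Q)) = ⟨b, hbO⟩ * g := by
      intro g hg
      apply Subtype.ext
      have := hΨ ⟨g, hg⟩
      change b * (g.1 : GL ι F) * b⁻¹ = (g.1 : GL ι F) at this
      change (g.1 : GL ι F) * b = b * (g.1 : GL ι F)
      nth_rewrite 1 [← this]
      rw [inv_mul_cancel_right]
    obtain ⟨c, hcc, hc⟩ := centralizer_Omega' Q hQ (Or.inr (by omega)) T ⟨b, hbO⟩ hz
    change (b : Matrix ι ι F) = c • (1 : Matrix ι ι F) at hc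
    have hc' : c = 1 ∨ c = -1 := by
      have : (c - 1) * (c + 1) = 0 := by linear_combination hcc
      rcases mul_eq_zero.mp this with h | h
      · left; linear_combination h
      · right; linear_combination h
    rcases hc' with rfl | rfl
    · have : b = 1 := by
        apply Units.ext
        rw [hc, one_smul]
        rfl
      rw [this]
      exact Subgroup.one_mem _
    · have : b = ((negIso Q).1 : GL ι F) := by
        apply Units.ext
        rw [hc, negIso_val]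
        simp
      rw [this]
      exact (mem_OmX _ _).mpr ⟨⟨_, hneg⟩, rfl⟩

end main

end Cfsg.Agent.Lib.Helper6.OmegaAut
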