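import Mathlib
import Cfsg.Agent.Lib.Helper6.OmegaList

/-!
# Squares and elements of odd order lie in `Ω`
-/

set_option autoImplicit false
open Cfsg

namespace Cfsg.Agent.Lib.Helper6

open Matrix Cfsg.Agent.Lib.Helper14

section
variable {F : Type*} [Field F] [Fintype F] {ι : Type} [Fintype ι] [DecidableEq ι]
  (Q : QuadraticForm F (ι → F))

/-- squares of isometries lie in `Ω` -/
theorem sq_mem_Omega' (hQ : (QuadraticMap.polarBilin Q).Nondegenerate)
    (hcard : 2 ≤ Fintype.card ι) (h : Fintype.card F ≠ 2 ∨ Fintype.card ι ≠ 4)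
    (y : ↥(Cfsg.isometryGroup F ⇑Q)) : y * y ∈ Cfsg.Omega F ⇑Q := by
  classical
  obtain ⟨vs, hvs, hprod⟩ := exists_list' Q hQ h y
  rw [mem_Omega_iff_list_all' Q hQ hcard h (y * y) (vs ++ vs) (by
      intro v hv
      rcases List.mem_append.mp hv with hv | hv <;> exact hvs v hv) (by
      rw [List.map_append, List.prod_append, ← hprod]
      rfl)]
  refine ⟨?_, fun _ => ?_⟩
  · rw [List.length_append]
    exact ⟨_, rfl⟩
  · rw [List.map_append, List.prod_append]
    exact ⟨_, rfl⟩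

/-- elements of odd order lie in `Ω` -/
theorem mem_Omega_of_pow_odd' (hQ : (QuadraticMap.polarBilin Q).Nondegenerate)
    (hcard : 2 ≤ Fintype.card ι) (h : Fintype.card F ≠ 2 ∨ Fintype.card ι ≠ 4)
    (y : ↥(Cfsg.isometryGroup F ⇑Q)) (p : ℕ) (hp : Odd p) (hy : y ^ p = 1) :
    y ∈ Cfsg.Omega F ⇑Q := by
  obtain ⟨k, hk⟩ := hp
  have e : y = y ^ (k + 1) * y ^ (k + 1) := by
    rw [← pow_add]
    have : k + 1 + (k + 1) = p + 1 := by omega
    rw [this, pow_succ, hy, one_mul]
  rw [e]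
  exact sq_mem_Omega' Q hQ hcard h _

end

end Cfsg.Agent.Lib.Helper6
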