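import Mathlib
import Cfsg.Agent.Lib.Helper15.PSpJ2

/-!
# Orthogonal sums of nondegenerate subspaces for a symmetric bilinear form

Port of the alternating-form calculus `Helper15.PSpI` (definitions `NondegOn`, `Orth`, `perpIn`
are reused) to symmetric forms; valid in every characteristic, so it applies to the polar form
of a quadratic form.
-/

set_option autoImplicit false

namespace Cfsg.Agent.Lib.Helper6.OrtS

open Module Submodule Cfsg.Agent.Lib.Helper15 Cfsg.Agent.Lib.Helper15.PSpI

section basic

variable {F V : Type*} [Field F] [AddCommGroup V] [Module F V]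
variable {B : V →ₗ[F] V →ₗ[F] F}

theorem orth_symm (hS : ∀ u v, B u v = B v u) {S T : Submodule F V} (h : Orth B S T) :
    Orth B T S := by
  intro u hu v hv
  rw [hS, h v hv u hu]

theorem orth_sup_left (hS : ∀ u v, B u v = B v u) {S S' T : Submodule F V} (h : Orth B S T)
    (h' : Orth B S' T) : Orth B (S ⊔ S') T :=
  orth_symm hS ((orth_symm hS h).sup_right (orth_symm hS h'))

theorem orth_iSup_left (hS : ∀ u v, B u v = B v u) {ι : Sort*} {S : ι → Submodule F V}
    {T : Submodule F V} (h : ∀ i, Orth B (S i) T) : Orth B (⨆ i, S i) T :=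
  orth_symm hS (Orth.iSup_right fun i => orth_symm hS (h i))

theorem orth_disjoint (hS : ∀ u v, B u v = B v u) {S T : Submodule F V} (h : Orth B S T)
    (hSn : NondegOn B S) : Disjoint S T := by
  rw [Submodule.disjoint_def]
  intro u huS huT
  apply hSn u huS
  intro v hv
  rw [hS, h v hv u huT]

theorem nondegOn_sup' (hS : ∀ u v, B u v = B v u) {S T : Submodule F V} (h : Orth B S T)
    (hSn : NondegOn B S) (hTn : NondegOn B T) : NondegOn B (S ⊔ T) := by
  intro u hu hu0
  obtain ⟨s, hs, t, ht, rfl⟩ := mem_sup.mp hu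
  have hs0 : s = 0 := by
    apply hSn s hs
    intro v hv
    have := hu0 v (mem_sup_left hv)
    rw [map_add, LinearMap.add_apply, (orth_symm hS h) t ht v hv, add_zero] at this
    exact this
  have ht0 : t = 0 := by
    apply hTn t ht
    intro v hv
    have := hu0 v (mem_sup_right hv)
    rw [map_add, LinearMap.add_apply, h s hs v hv, zero_add] at this
    exact this
  rw [hs0, ht0, add_zero]

theorem finrank_sup_of_orth' [FiniteDimensional F V] (hS : ∀ u v, B u v = B v u)
    {S T : Submodule F V} (h : Orth B S T) (hSn : NondegOn B S) :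
    finrank F ↥(S ⊔ T) = finrank F S + finrank F T := by
  have h1 := Submodule.finrank_sup_add_finrank_inf_eq S T
  rw [(orth_disjoint hS h hSn).eq_bot, finrank_bot, add_zero] at h1
  exact h1

/-- the orthogonal projection onto a nondegenerate subspace -/
theorem exists_proj' [FiniteDimensional F V] (hS : ∀ u v, B u v = B v u) (S : Submodule F V)
    (hSn : NondegOn B S) (v : V) : ∃ s ∈ S, ∀ u ∈ S, B u (v - s) = 0 := by
  let φ : S →ₗ[F] Module.Dual F S :=
    { toFun := fun s => (B.flip s.1).domRestrict S
      map_add' := fun a b => by ext u; simp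
      map_smul' := fun c a => by ext u; simp }
  have hinj : Function.Injective φ := by
    rw [← LinearMap.ker_eq_bot, LinearMap.ker_eq_bot']
    intro s hs
    apply Subtype.ext
    apply hSn s.1 s.2
    intro u hu
    have := LinearMap.congr_fun hs ⟨u, hu⟩
    have h2 : B u s.1 = 0 := this
    rw [hS, h2]
  have hsurj : Function.Surjective φ :=
    (LinearMap.injective_iff_surjective_of_finrank_eq_finrank
      (Subspace.dual_finrank_eq (K := F) (V := S)).symm).mp hinj
  obtain ⟨s, hs⟩ := hsurj ((B.flip v).domRestrict S)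
  refine ⟨s.1, s.2, fun u hu => ?_⟩
  have := LinearMap.congr_fun hs ⟨u, hu⟩
  have h2 : B u s.1 = B u v := this
  rw [map_sub, h2, sub_self]

theorem sup_perpIn' [FiniteDimensional F V] (hS : ∀ u v, B u v = B v u) {V' S : Submodule F V}
    (hSV : S ≤ V') (hSn : NondegOn B S) : S ⊔ perpIn B V' S = V' := by
  apply le_antisymm (sup_le hSV (perpIn_le V' S))
  intro v hv
  obtain ⟨s, hs, hsv⟩ := exists_proj' hS S hSn v
  have : v = s + (v - s) := by abel
  rw [this]
  exact add_mem (mem_sup_left hs) (mem_sup_right (mem_perpIn.mpr ⟨sub_mem hv (hSV hs), hsv⟩))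

theorem nondegOn_perpIn' [FiniteDimensional F V] (hS : ∀ u v, B u v = B v u)
    {V' S : Submodule F V} (hSV : S ≤ V') (hSn : NondegOn B S) (hV' : NondegOn B V') :
    NondegOn B (perpIn B V' S) := by
  intro t ht ht0
  apply hV' t (perpIn_le V' S ht)
  intro v hv
  rw [← sup_perpIn' hS hSV hSn] at hv
  obtain ⟨s, hs, t', ht', rfl⟩ := mem_sup.mp hv
  rw [map_add, ht0 t' ht', add_zero, hS, (mem_perpIn.mp ht).2 s hs]

theorem finrank_perpIn' [FiniteDimensional F V] (hS : ∀ u v, B u v = B v u)
    {V' S : Submodule F V} (hSV : S ≤ V') (hSn : NondegOn B S) :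
    finrank F S + finrank F (perpIn B V' S) = finrank F V' := by
  rw [← finrank_sup_of_orth' hS (orth_perpIn V' S) hSn, sup_perpIn' hS hSV hSn]

theorem nondegOn_bot : NondegOn B (⊥ : Submodule F V) := by
  intro u hu _
  exact (mem_bot F).mp hu

/-- a nondegenerate subspace contained in a subspace `T` with `T ⊥ T` partner... the orthogonal
complement of a nondegenerate subspace inside a nondegenerate one, twice, is the subspace -/
theorem perpIn_perpIn [FiniteDimensional F V] (hS : ∀ u v, B u v = B v u)
    {V' S : Submodule F V} (hSV : S ≤ V') (hSn : NondegOn B S) (hV' : NondegOn B V') :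
    perpIn B V' (perpIn B V' S) = S := by
  have hTn := nondegOn_perpIn' hS hSV hSn hV'
  have h1 := finrank_perpIn' hS hSV hSn
  have h2 := finrank_perpIn' hS (perpIn_le V' S) hTn (V' := V')
  symm
  apply Submodule.eq_of_le_of_finrank_eq
  · intro s hs
    refine mem_perpIn.mpr ⟨hSV hs, fun u hu => ?_⟩
    rw [hS]
    exact (mem_perpIn.mp hu).2 s hs
  · omega

theorem orth_finset_sum' (hS : ∀ u v, B u v = B v u) {ι : Type*} (D : ι → Submodule F V)
    (horth : ∀ k k', k ≠ k' → Orth B (D k) (D k')) (A A' : Finset ι) (h : Disjoint A A') :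
    Orth B (⨆ k ∈ A, D k) (⨆ k ∈ A', D k) := by
  apply orth_iSup_left hS
  intro k
  apply orth_iSup_left hS
  intro hk
  apply Orth.iSup_right
  intro k'
  apply Orth.iSup_right
  intro hk'
  apply horth
  rintro rfl
  exact (Finset.disjoint_left.mp h hk) hk'

end basic

end Cfsg.Agent.Lib.Helper6.OrtS
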