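import Mathlib
import Cfsg.Agent.Lib.Helper6.OrtS1
import Cfsg.Agent.Lib.Helper15.PSpJ3

/-!
# Isometries of odd prime order of a symmetric bilinear space (any characteristic)

Port of `Helper15.PSpJ1-3` from alternating to symmetric forms: fixed part / moved part,
the moved part has dimension `c * s`, extraction of invariant nondegenerate `c`-blocks.
-/

set_option autoImplicit false

namespace Cfsg.Agent.Lib.Helper6.OrtS

open Module Submodule Polynomial Cfsg.Agent.Lib.Helper15 Cfsg.Agent.Lib.Helper15.PSpI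
  Cfsg.Agent.Lib.Helper15.PSub Cfsg.Agent.Lib.Helper15.PDec Cfsg.Agent.Lib.Helper15.PSpJ

section prime

variable {F V : Type*} [Field F] [AddCommGroup V] [Module F V] [FiniteDimensional F V]
variable {B : V →ₗ[F] V →ₗ[F] F}

theorem movPart_props' (hS : ∀ u v, B u v = B v u) (y : V →ₗ[F] V)
    (hiso : ∀ u v, B (y u) (y v) = B u v) (r : ℕ) (hr : r ≠ 0)
    (hr0 : (r : F) ≠ 0) (hy : y ^ r = 1) (V' : Submodule F V) (hV'x : V'.map y = V')
    (hV'n : NondegOn B V') :
    (movPart B y V').map y = movPart B y V' ∧ NondegOn B (movPart B y V') ∧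
      movPart B y V' ⊓ Module.End.eigenspace y 1 = ⊥ ∧
      finrank F ↥(V' ⊓ Module.End.eigenspace y 1) + finrank F (movPart B y V') = finrank F V' ∧
      (V' ⊓ Module.End.eigenspace y 1) ⊔ movPart B y V' = V' ∧
      Orth B (V' ⊓ Module.End.eigenspace y 1) (movPart B y V') := by
  have hCn := nondegOn_fixed y hiso r hr0 hy V' hV'x hV'n
  have hinj : Function.Injective y :=
    injective_of_pow_eq_smul y r 1 one_ne_zero (by rw [hy, one_smul]) hr
  refine ⟨?_, nondegOn_perpIn' hS inf_le_left hCn hV'n, ?_, finrank_perpIn' hS inf_le_left hCn,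
    sup_perpIn' hS inf_le_left hCn, orth_perpIn _ _⟩
  · apply map_eq_of_invt y hinj
    rw [Module.End.mem_invtSubmodule_iff_map_le]
    rintro _ ⟨t, ht, rfl⟩
    have ht' := mem_perpIn.mp ht
    refine mem_perpIn.mpr ⟨by rw [← hV'x]; exact ⟨t, ht'.1, rfl⟩, ?_⟩
    intro u hu
    have hufix : y u = u := fix_of_mem_inf y hu
    rw [← hufix, hiso]
    exact ht'.2 u hu
  · rw [eq_bot_iff]
    intro v hv
    have h1 : v ∈ V' ⊓ Module.End.eigenspace y 1 := ⟨movPart_le y V' hv.1, hv.2⟩
    have h2 := hCn v h1 (fun u hu => by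
      rw [hS]
      exact (mem_perpIn.mp hv.1).2 u hu)
    rw [h2]
    exact zero_mem _

omit [FiniteDimensional F V] in
/-- adjoint of `y` is `y^(r-1)` -/
theorem adj_inv (y : V →ₗ[F] V) (hiso : ∀ u v, B (y u) (y v) = B u v) (r : ℕ) (hr : 0 < r)
    (hy : y ^ r = 1) (u v : V) : B (y u) v = B u ((y ^ (r - 1)) v) := by
  have hinv : y ((y ^ (r - 1)) v) = v := by
    rw [← Module.End.mul_apply, ← pow_succ', Nat.sub_add_cancel hr, hy]
    rfl
  nth_rewrite 1 [← hinv]
  rw [hiso]

omit [FiniteDimensional F V] in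
theorem adj_inv' (hS : ∀ u v, B u v = B v u) (y : V →ₗ[F] V)
    (hiso : ∀ u v, B (y u) (y v) = B u v) (r : ℕ) (hr : 0 < r)
    (hy : y ^ r = 1) (u v : V) : B u (y v) = B ((y ^ (r - 1)) u) v := by
  rw [hS, adj_inv y hiso r hr hy, hS]

omit [FiniteDimensional F V] in
/-- a vector fixed by `y²` is fixed by `y` when `y` has odd order -/
theorem fix_of_sq_fix (y : V →ₗ[F] V) (r : ℕ) (hodd : Odd r) (hy : y ^ r = 1) (u : V)
    (hu : y (y u) = u) : y u = u := by
  have hpow : ∀ k : ℕ, (y ^ (2 * k)) u = u := by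
    intro k
    induction k with
    | zero => simp
    | succ k ih =>
      have : 2 * (k + 1) = 2 * k + 2 := by ring
      rw [this, pow_add, Module.End.mul_apply, pow_two, Module.End.mul_apply, hu, ih]
  obtain ⟨k, hk⟩ := hodd
  have h5 := LinearMap.congr_fun hy u
  rw [hk, pow_succ', Module.End.mul_apply, hpow k, Module.End.one_apply] at h5
  exact h5

/-- an invariant nondegenerate subspace without fixed vectors has even dimension -/
theorem even_finrank_of_fpf (hS : ∀ u v, B u v = B v u) (y : V →ₗ[F] V)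
    (hiso : ∀ u v, B (y u) (y v) = B u v) (r : ℕ) (hodd : Odd r) (hy : y ^ r = 1)
    (U : Submodule F V) (hUx : U.map y = U) (hUn : NondegOn B U)
    (hUE : U ⊓ Module.End.eigenspace y 1 = ⊥) : Even (finrank F U) := by
  have hrpos : 0 < r := hodd.pos
  obtain ⟨y', hy'⟩ : ∃ y' : V →ₗ[F] V, y' = y ^ (r - 1) := ⟨_, rfl⟩
  have hinv : ∀ w, y (y' w) = w := by
    intro w
    rw [hy', ← Module.End.mul_apply, ← pow_succ', Nat.sub_add_cancel hrpos, hy]
    rfl
  have hyU : ∀ w ∈ U, y w ∈ U := fun w hw => by rw [← hUx]; exact ⟨w, hw, rfl⟩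
  have hy'U : ∀ w ∈ U, y' w ∈ U := by
    intro w hw
    rw [hy']
    exact pow_mem_of_map_eq y hUx _ hw
  let A : V →ₗ[F] V →ₗ[F] F := B.compl₂ (y - y')
  have hA : ∀ u v, A u v = B u (y v) - B u (y' v) := by
    intro u v
    show B u ((y - y') v) = _
    rw [LinearMap.sub_apply, map_sub]
  have halt : ∀ x, A x x = 0 := by
    intro x
    rw [hA]
    have h1 : B x (y' x) = B (y x) x := by
      rw [← hiso x (y' x), hinv]
    rw [h1, hS x (y x), sub_self]
  have hAn : NondegOn A U := by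
    intro u hu h0
    -- `A u v = B ((y' - y) u) v`
    have h1 : ∀ v, A u v = B ((y' - y) u) v := by
      intro v
      rw [hA, LinearMap.sub_apply, map_sub, LinearMap.sub_apply]
      have e1 : B u (y v) = B (y' u) v := by
        rw [← hiso (y' u) v, hinv]
      have e2 : B u (y' v) = B (y u) v := by
        rw [← hiso u (y' v), hinv]
      rw [e1, e2]
    have h2 : (y' - y) u = 0 := by
      apply hUn _ (by
        rw [LinearMap.sub_apply]
        exact U.sub_mem (hy'U u hu) (hyU u hu))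
      intro v hv
      rw [← h1]
      exact h0 v hv
    have h3 : y' u = y u := by
      rw [LinearMap.sub_apply, sub_eq_zero] at h2
      exact h2
    have h4 : y (y u) = u := by rw [← h3, hinv]
    have h5 : y u = u := fix_of_sq_fix y r hodd hy u h4
    have h6 : u ∈ U ⊓ Module.End.eigenspace y 1 := by
      refine Submodule.mem_inf.mpr ⟨hu, ?_⟩
      rw [Module.End.mem_eigenspace_iff, one_smul]
      exact h5
    rw [hUE] at h6
    exact (mem_bot F).mp h6
  exact PSpJ.even_finrank_of_nondegOn halt U hAn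

end prime

section profile

variable {F V : Type*} [Field F] [Fintype F] [AddCommGroup V] [Module F V] [FiniteDimensional F V]
variable {B : V →ₗ[F] V →ₗ[F] F}

/-- the dimension of the moved part of an invariant nondegenerate subspace is a multiple of the
block size -/
theorem movPart_profile' (p : ℕ) [Fact p.Prime] [CharP F p] (r : ℕ) [hr : Fact r.Prime]
    (hrp : r ≠ p) (hr2 : r ≠ 2) (hS : ∀ u v, B u v = B v u) (y : V →ₗ[F] V)
    (hiso : ∀ u v, B (y u) (y v) = B u v) (hy : y ^ r = 1) (V' : Submodule F V)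
    (hV'x : V'.map y = V') (hV'n : NondegOn B V') :
    ∃ s : ℕ, finrank F (movPart B y V') = cOf (orderOf ((Fintype.card F : ℕ) : ZMod r)) * s := by
  have hr0 : (r : F) ≠ 0 := ne_zero_of_ne' p r hr.out hrp
  obtain ⟨hMx, hMn, hME, -, -, -⟩ :=
    movPart_props' hS y hiso r hr.out.ne_zero hr0 hy V' hV'x hV'n
  have hMinv : movPart B y V' ∈ Module.End.invtSubmodule y := by
    rw [Module.End.mem_invtSubmodule_iff_map_le, hMx]
  obtain ⟨j, hj⟩ := invt_profile p r hrp y hy (movPart B y V') hMinv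
  rw [hME, finrank_bot, zero_add] at hj
  have heven := even_finrank_of_fpf hS y hiso r (hr.out.odd_of_ne_two hr2) hy _ hMx hMn hME
  unfold cOf
  split_ifs with hi
  · exact ⟨j, by rw [hj, mul_comm]⟩
  · rw [hj, Nat.even_mul] at heven
    rcases heven with ⟨s, hs⟩ | h
    · exact ⟨s, by rw [hj, hs]; ring⟩
    · exact absurd h hi

end profile

section helpers

variable {F V : Type*} [Field F] [AddCommGroup V] [Module F V]
variable {B : V →ₗ[F] V →ₗ[F] F}

/-- an irreducible invariant subspace which is not totally isotropic is nondegenerate -/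
theorem nondeg_of_irred' (hS : ∀ u v, B u v = B v u) (y : V →ₗ[F] V)
    (hiso : ∀ u v, B (y u) (y v) = B u v) (M : Submodule F V) (hMx : M.map y = M)
    (hirr : ∀ S : Submodule F V, S ≤ M → S ∈ Module.End.invtSubmodule y → S ≠ ⊥ → S = M)
    (hnti : ∃ u ∈ M, ∃ w ∈ M, B u w ≠ 0) : NondegOn B M := by
  obtain ⟨u₀, hu₀, w₀, hw₀, huw⟩ := hnti
  have hRinv : perpIn B M M ∈ Module.End.invtSubmodule y := by
    rw [Module.End.mem_invtSubmodule_iff_map_le]
    rintro _ ⟨t, ht, rfl⟩
    have ht' := mem_perpIn.mp ht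
    refine mem_perpIn.mpr ⟨by rw [← hMx]; exact ⟨t, ht'.1, rfl⟩, ?_⟩
    intro u hu
    rw [← hMx] at hu
    obtain ⟨u', hu', rfl⟩ := hu
    rw [hiso]
    exact ht'.2 u' hu'
  have hR : perpIn B M M = ⊥ := by
    by_contra hne
    have := hirr _ (perpIn_le M M) hRinv hne
    have hw : w₀ ∈ perpIn B M M := by rw [this]; exact hw₀
    exact huw ((mem_perpIn.mp hw).2 u₀ hu₀)
  intro u hu hu0
  have : u ∈ perpIn B M M := by
    refine mem_perpIn.mpr ⟨hu, fun w hw => ?_⟩
    rw [hS, hu0 w hw]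
  rw [hR] at this
  exact (mem_bot F).mp this

/-- if `B(v, y v) = 0` on an invariant nondegenerate subspace then `y` is trivial there -/
theorem polarize' (hS : ∀ u v, B u v = B v u) (y y' : V →ₗ[F] V)
    (hiso : ∀ u v, B (y u) (y v) = B u v) (hinv : ∀ w, y (y' w) = w) (r : ℕ) (hodd : Odd r)
    (hy : y ^ r = 1) (Z : Submodule F V) (hZx : Z.map y = Z) (hZx' : ∀ w ∈ Z, y' w ∈ Z)
    (hZn : NondegOn B Z) (h0 : ∀ v ∈ Z, B v (y v) = 0) : ∀ w ∈ Z, y w = w := by
  have hyZ : ∀ w ∈ Z, y w ∈ Z := fun w hw => by rw [← hZx]; exact ⟨w, hw, rfl⟩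
  -- `y w = - y' w` on `Z`
  have h2 : ∀ w ∈ Z, y w + y' w = 0 := by
    intro w hw
    apply hZn _ (Z.add_mem (hyZ w hw) (hZx' w hw))
    intro u hu
    have h1 := h0 (u + w) (Z.add_mem hu hw)
    simp only [map_add, LinearMap.add_apply] at h1
    have h3 : B w (y u) = B u (y' w) := by
      rw [hS w (y u), ← hiso u (y' w), hinv]
    have h4 : B u (y w) + B u (y' w) = 0 := by
      linear_combination h1 - h0 u hu - h0 w hw - h3
    rw [hS, map_add, h4]
  -- `y (y w) = - w`
  have hsq : ∀ w ∈ Z, y (y w) = - w := by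
    intro w hw
    have := h2 w hw
    have h5 : y w = - y' w := eq_neg_of_add_eq_zero_left this
    rw [h5, map_neg, hinv]
  have hpow : ∀ k : ℕ, ∀ w ∈ Z, (y ^ (2 * k)) w = (-1 : F) ^ k • w := by
    intro k
    induction k with
    | zero => intro w _; simp
    | succ k ih =>
      intro w hw
      have : 2 * (k + 1) = 2 * k + 2 := by ring
      rw [this, pow_add, Module.End.mul_apply, pow_two, Module.End.mul_apply, hsq w hw, map_neg,
        ih w hw, pow_succ]
      simp
  -- `-w = w` on `Z`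
  have hneg : ∀ w ∈ Z, - w = w := by
    intro w hw
    have h5 := hpow r w hw
    rw [mul_comm, pow_mul, hy, one_pow, Module.End.one_apply, hodd.neg_one_pow, neg_one_smul] at h5
    exact h5.symm
  intro w hw
  have hsq' : y (y w) = w := by rw [hsq w hw, hneg w hw]
  exact fix_of_sq_fix y r hodd hy w hsq'

/-- a totally isotropic invariant subspace of a nondegenerate invariant space has an invariant
partner of the same dimension making a nondegenerate sum -/
theorem pair_block' [FiniteDimensional F V] (hS : ∀ u v, B u v = B v u) (y : V →ₗ[F] V)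
    (hiso : ∀ u v, B (y u) (y v) = B u v) (hss : Module.End.IsSemisimple y)
    (hinj : Function.Injective y) (N' : Submodule F V) (hN'x : N'.map y = N')
    (hN'n : NondegOn B N') (W : Submodule F V) (hWN : W ≤ N')
    (hWinv : W ∈ Module.End.invtSubmodule y) (hWti : ∀ u ∈ W, ∀ w ∈ W, B u w = 0) :
    ∃ R' : Submodule F V, R' ≤ N' ∧ R' ∈ Module.End.invtSubmodule y ∧ W ⊓ R' = ⊥ ∧
      finrank F R' = finrank F W ∧ NondegOn B (W ⊔ R') ∧
      (∀ w ∈ R', (∀ u ∈ W, B u w = 0) → w = 0) := by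
  have hWx : W.map y = W := map_eq_of_invt y hinj W hWinv
  have hN'inv : N' ∈ Module.End.invtSubmodule y := by
    rw [Module.End.mem_invtSubmodule_iff_map_le, hN'x]
  have hWpinv : perpIn B N' W ∈ Module.End.invtSubmodule y := by
    rw [Module.End.mem_invtSubmodule_iff_map_le]
    rintro _ ⟨t, ht, rfl⟩
    have ht' := mem_perpIn.mp ht
    refine mem_perpIn.mpr ⟨by rw [← hN'x]; exact ⟨t, ht'.1, rfl⟩, ?_⟩
    intro u hu
    rw [← hWx] at hu
    obtain ⟨u', hu', rfl⟩ := hu
    rw [hiso]
    exact ht'.2 u' hu'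
  obtain ⟨R', hR'N, hR'inv, hinf, hsup, -⟩ :=
    exists_compl_in y hss N' (perpIn B N' W) hN'inv hWpinv (perpIn_le N' W)
  have ha : ∀ w ∈ R', (∀ u ∈ W, B u w = 0) → w = 0 := by
    intro w hw h0
    have : w ∈ perpIn B N' W ⊓ R' := ⟨mem_perpIn.mpr ⟨hR'N hw, h0⟩, hw⟩
    rw [hinf] at this
    exact (mem_bot F).mp this
  have hb : ∀ u ∈ W, (∀ w ∈ R', B w u = 0) → u = 0 := by
    intro u hu h0
    apply hN'n u (hWN hu)
    intro v hv
    rw [← hsup] at hv
    obtain ⟨t, ht, w, hw, rfl⟩ := mem_sup.mp hv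
    rw [map_add, (mem_perpIn.mp ht).2 u hu, zero_add, hS, h0 w hw]
  have hWWp : W ≤ perpIn B N' W :=
    fun u hu => mem_perpIn.mpr ⟨hWN hu, fun u' hu' => hWti u' hu' u hu⟩
  refine ⟨R', hR'N, hR'inv, ?_, ?_, ?_, ha⟩
  · rw [eq_bot_iff, ← hinf]
    exact inf_le_inf_right _ hWWp
  · exact le_antisymm (finrank_le_of_pairing W R' ha) (finrank_le_of_pairing R' W hb)
  · intro z hz hz0
    obtain ⟨u, hu, w, hw, rfl⟩ := mem_sup.mp hz
    have hw0 : w = 0 := by
      apply ha w hw
      intro u' hu'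
      have := hz0 u' (mem_sup_left hu')
      rw [map_add, LinearMap.add_apply, hWti u hu u' hu', zero_add] at this
      rw [hS, this]
    have hu0 : u = 0 := by
      apply hb u hu
      intro w' hw'
      have := hz0 w' (mem_sup_right hw')
      rw [hw0, add_zero] at this
      rw [hS, this]
    rw [hu0, hw0, add_zero]

end helpers

end Cfsg.Agent.Lib.Helper6.OrtS
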