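import Mathlib
import Cfsg.Agent.Lib.Helper6.OrtS2

/-!
# Block extraction for isometries of odd prime order of a symmetric bilinear space
-/

set_option autoImplicit false

namespace Cfsg.Agent.Lib.Helper6.OrtS

open Module Submodule Polynomial Cfsg.Agent.Lib.Helper15 Cfsg.Agent.Lib.Helper15.PSpI
  Cfsg.Agent.Lib.Helper15.PSub Cfsg.Agent.Lib.Helper15.PDec Cfsg.Agent.Lib.Helper15.PSpJ

section main

variable {F V : Type*} [Field F] [Fintype F] [AddCommGroup V] [Module F V] [FiniteDimensional F V]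
variable {B : V →ₗ[F] V →ₗ[F] F}

/-- **Block extraction**: a nonzero invariant nondegenerate subspace without fixed vectors contains
an invariant nondegenerate subspace of dimension `c`. -/
theorem exists_cblock' (p : ℕ) [Fact p.Prime] [CharP F p] (r : ℕ) [hr : Fact r.Prime]
    (hrp : r ≠ p) (hr2 : r ≠ 2) (hS : ∀ u v, B u v = B v u) (y : V →ₗ[F] V)
    (hiso : ∀ u v, B (y u) (y v) = B u v) (hy : y ^ r = 1) (N' : Submodule F V)
    (hN'x : N'.map y = N') (hN'n : NondegOn B N')
    (hN'E : N' ⊓ Module.End.eigenspace y 1 = ⊥) (hN'0 : N' ≠ ⊥) :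
    ∃ Z : Submodule F V, Z ≤ N' ∧ Z.map y = Z ∧ NondegOn B Z ∧
      finrank F Z = cOf (orderOf ((Fintype.card F : ℕ) : ZMod r)) := by
  classical
  have hr0 : (r : F) ≠ 0 := ne_zero_of_ne' p r hr.out hrp
  have hss : Module.End.IsSemisimple y :=
    isSemisimple_of_pow_eq_smul y r hr0 1 one_ne_zero (by rw [hy, one_smul])
  have hinj : Function.Injective y :=
    injective_of_pow_eq_smul y r 1 one_ne_zero (by rw [hy, one_smul]) hr.out.ne_zero
  have hodd : Odd r := hr.out.odd_of_ne_two hr2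
  have hN'inv : N' ∈ Module.End.invtSubmodule y := by
    rw [Module.End.mem_invtSubmodule_iff_map_le, hN'x]
  have hkill := cyclotomic_kills y r hy N' hN'inv hN'E
  obtain ⟨w, hwN, hw0⟩ := Submodule.exists_mem_ne_zero_of_ne_bot hN'0
  obtain ⟨P, hPirr, hPdvd, v, hv0, hPv, hvW⟩ :=
    exists_irreducible_killer y (cyclotomic r F) (cyclotomic_ne_zero r F) w hw0 (hkill w hwN)
  have hvN : v ∈ N' := hvW N' hN'inv hwN
  have hPdeg : P.natDegree = orderOf ((Fintype.card F : ℕ) : ZMod r) :=
    cyclotomic_factor_degree p r hr.out hrp P hPirr hPdvd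
  have hPX : P ∣ X ^ r - 1 := dvd_trans hPdvd (cyclotomic.dvd_X_pow_sub_one r F)
  have hipos : 0 < orderOf ((Fintype.card F : ℕ) : ZMod r) := by
    rw [← hPdeg]; exact hPirr.natDegree_pos
  -- the `P`-primary part
  have hKinv : N' ⊓ LinearMap.ker (aeval y P) ∈ Module.End.invtSubmodule y := by
    apply Module.End.invtSubmodule.inf_mem hN'inv
    intro u hu
    rw [Submodule.mem_comap, LinearMap.mem_ker]
    rw [LinearMap.mem_ker] at hu
    have h1 : aeval y P (y u) = aeval y (P * X) u := by rw [aeval_mul_apply, aeval_X]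
    rw [h1, mul_comm, aeval_mul_apply, hu, aeval_X, map_zero]
  obtain ⟨W, hWK, hWinv, hvW', hWdim, hWirr⟩ := cyclic_irred y P hPirr _ hKinv
    (fun w hw => LinearMap.mem_ker.mp hw.2) v ⟨hvN, LinearMap.mem_ker.mpr hPv⟩ hv0
  have hWN : W ≤ N' := hWK.trans inf_le_left
  have hWx : W.map y = W := map_eq_of_invt y hinj W hWinv
  by_cases hti : ∀ u ∈ W, ∀ w ∈ W, B u w = 0
  · obtain ⟨R', hR'N, hR'inv, hWR', hR'dim, hZn, ha⟩ :=
      pair_block' hS y hiso hss hinj N' hN'x hN'n W hWN hWinv hti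
    have hZinv : W ⊔ R' ∈ Module.End.invtSubmodule y :=
      Module.End.invtSubmodule.sup_mem hWinv hR'inv
    have hZN : W ⊔ R' ≤ N' := sup_le hWN hR'N
    have hZdim : finrank F ↥(W ⊔ R') = 2 * orderOf ((Fintype.card F : ℕ) : ZMod r) := by
      have := Submodule.finrank_sup_add_finrank_inf_eq W R'
      rw [hWR', finrank_bot, add_zero, hR'dim, hWdim, hPdeg] at this
      omega
    by_cases hie : Even (orderOf ((Fintype.card F : ℕ) : ZMod r))
    · obtain ⟨j', hj'⟩ := hie
      have hj'1 : 1 ≤ j' := by omega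
      have hQr : r ∣ Fintype.card F ^ j' + 1 := dvd_of_order_even _ r j' hj'1 hj'
      obtain ⟨y', hy'⟩ : ∃ y' : V →ₗ[F] V, y' = y ^ (r - 1) := ⟨_, rfl⟩
      have hinv : ∀ w, y (y' w) = w := by
        intro w
        rw [hy', ← Module.End.mul_apply, ← pow_succ', Nat.sub_add_cancel hr.out.pos, hy]
        rfl
      have hyQ : y ^ (Fintype.card F ^ j') = y' := by
        apply LinearMap.ext
        intro w
        apply hinj
        rw [hinv, ← Module.End.mul_apply, ← pow_succ']
        obtain ⟨k, hk⟩ := hQr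
        rw [hk, pow_mul, hy, one_pow]
        rfl
      have hkillR : ∀ w ∈ R', aeval y P w = 0 := by
        intro w hw
        apply bezout_kill y r hr0 hy P hPX (Fintype.card F ^ j') (Nat.one_le_pow _ _ Fintype.card_pos)
        apply ha
        · rw [← map_pow]
          exact aeval_mem_of_invt y hR'inv _ hw
        · intro u hu
          rw [← frob_aeval, hyQ, ← adj_aeval y y' hiso hinv]
          have : aeval y P u = 0 := LinearMap.mem_ker.mp (hWK hu).2
          rw [this, LinearMap.map_zero₂]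
      have hkillZ : ∀ w ∈ W ⊔ R', aeval y P w = 0 := by
        intro w hw
        obtain ⟨u, hu, w', hw', rfl⟩ := mem_sup.mp hw
        rw [map_add, LinearMap.mem_ker.mp (hWK hu).2, hkillR w' hw', add_zero]
      have hZx : (W ⊔ R').map y = W ⊔ R' := map_eq_of_invt y hinj _ hZinv
      obtain ⟨v₁, hv₁Z, hv₁⟩ : ∃ v₁ ∈ W ⊔ R', B v₁ (y v₁) ≠ 0 := by
        by_contra hcon
        push Not at hcon
        have hfix := polarize' hS y y' hiso hinv r hodd hy (W ⊔ R') hZx
          (fun w hw => by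
            rw [hy']
            exact pow_mem_of_invt y hZinv _ hw) hZn hcon
        have hZE : W ⊔ R' ≤ N' ⊓ Module.End.eigenspace y 1 := by
          intro w hw
          refine Submodule.mem_inf.mpr ⟨hZN hw, ?_⟩
          rw [Module.End.mem_eigenspace_iff, one_smul]
          exact hfix w hw
        rw [hN'E, le_bot_iff] at hZE
        rw [hZE, finrank_bot] at hZdim
        omega
      have hv₁0 : v₁ ≠ 0 := by
        rintro rfl
        simp at hv₁
      obtain ⟨M, hMZ, hMinv, hv₁M, hMdim, hMirr⟩ :=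
        cyclic_irred y P hPirr _ hZinv hkillZ v₁ hv₁Z hv₁0
      have hMx : M.map y = M := map_eq_of_invt y hinj M hMinv
      have hMn : NondegOn B M := nondeg_of_irred' hS y hiso M hMx hMirr
        ⟨v₁, hv₁M, y v₁, hMinv hv₁M, hv₁⟩
      refine ⟨M, hMZ.trans hZN, hMx, hMn, ?_⟩
      rw [hMdim, hPdeg]
      unfold cOf
      rw [if_pos ⟨j', hj'⟩]
    · refine ⟨W ⊔ R', hZN, map_eq_of_invt y hinj _ hZinv, hZn, ?_⟩
      rw [hZdim]
      unfold cOf
      rw [if_neg hie]
  · push Not at hti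
    obtain ⟨u, hu, w', hw', huw⟩ := hti
    have hWn : NondegOn B W := nondeg_of_irred' hS y hiso W hWx hWirr ⟨u, hu, w', hw', huw⟩
    have hWE : W ⊓ Module.End.eigenspace y 1 = ⊥ := by
      rw [eq_bot_iff, ← hN'E]
      exact inf_le_inf_right _ hWN
    have heven := even_finrank_of_fpf hS y hiso r hodd hy W hWx hWn hWE
    rw [hWdim, hPdeg] at heven
    refine ⟨W, hWN, hWx, hWn, ?_⟩
    rw [hWdim, hPdeg]
    unfold cOf
    rw [if_pos heven]

/-- invariant nondegenerate subspaces of the moved part, of every admissible dimension -/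
theorem exists_moved_sub' (p : ℕ) [Fact p.Prime] [CharP F p] (r : ℕ) [hr : Fact r.Prime]
    (hrp : r ≠ p) (hr2 : r ≠ 2) (hS : ∀ u v, B u v = B v u) (y : V →ₗ[F] V)
    (hiso : ∀ u v, B (y u) (y v) = B u v) (hy : y ^ r = 1) (M' : Submodule F V)
    (hM'x : M'.map y = M') (hM'n : NondegOn B M')
    (hM'E : M' ⊓ Module.End.eigenspace y 1 = ⊥) (s : ℕ)
    (hM'f : finrank F M' = cOf (orderOf ((Fintype.card F : ℕ) : ZMod r)) * s) :
    ∀ m, m ≤ s → ∃ D : Submodule F V, D ≤ M' ∧ D.map y = D ∧ NondegOn B D ∧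
      finrank F D = cOf (orderOf ((Fintype.card F : ℕ) : ZMod r)) * m := by
  have hinj : Function.Injective y :=
    injective_of_pow_eq_smul y r 1 one_ne_zero (by rw [hy, one_smul]) hr.out.ne_zero
  have hipos : 0 < orderOf ((Fintype.card F : ℕ) : ZMod r) := orderOf_pos_of_ne p r hrp
  have hcpos := cOf_pos hipos
  intro m
  induction m with
  | zero =>
    intro _
    exact ⟨⊥, bot_le, Submodule.map_bot y, nondegOn_bot, by rw [finrank_bot, mul_zero]⟩
  | succ m ih =>
    intro hm
    obtain ⟨D, hDM, hDx, hDn, hDf⟩ := ih (by omega)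
    have hTx := map_perpIn_of_inj y hinj hiso hM'x hDx
    have hTn := nondegOn_perpIn' hS hDM hDn hM'n
    have hTf := finrank_perpIn' hS hDM hDn (V' := M')
    have hTE : perpIn B M' D ⊓ Module.End.eigenspace y 1 = ⊥ := by
      rw [eq_bot_iff, ← hM'E]
      exact inf_le_inf_right _ (perpIn_le M' D)
    have hT0 : perpIn B M' D ≠ ⊥ := by
      intro h0
      rw [h0, finrank_bot, add_zero, hDf, hM'f] at hTf
      have := Nat.eq_of_mul_eq_mul_left hcpos hTf
      omega
    obtain ⟨Z, hZT, hZx, hZn, hZf⟩ :=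
      exists_cblock' p r hrp hr2 hS y hiso hy _ hTx hTn hTE hT0
    have ho : Orth B D Z := (orth_perpIn M' D).mono le_rfl hZT
    refine ⟨D ⊔ Z, sup_le hDM (hZT.trans (perpIn_le M' D)), ?_, nondegOn_sup' hS ho hDn hZn, ?_⟩
    · rw [Submodule.map_sup, hDx, hZx]
    · rw [finrank_sup_of_orth' hS ho hDn, hDf, hZf]
      ring

end main

end Cfsg.Agent.Lib.Helper6.OrtS
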