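import Mathlib
import Cfsg.Agent.Lib.Helper6.OrtS3
import Cfsg.Agent.Lib.Helper14.OrthEven2

/-!
# Signs of nondegenerate even-dimensional subspaces of a quadratic space over a finite field
-/

set_option autoImplicit false

namespace Cfsg.Agent.Lib.Helper6.OrtS

open Module Submodule QuadraticMap Cfsg.Agent.Lib.Helper15.PSpI Cfsg.Agent.Lib.Helper14.OrthEven
  Cfsg.Agent.Lib.Helper15.PSpJ

section sgn

variable {F V : Type*} [Field F] [Fintype F] [AddCommGroup V] [Module F V] [FiniteDimensional F V]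
variable (Q : QuadraticForm F V)

omit [Fintype F] [FiniteDimensional F V] in
theorem pB_apply (u v : V) : polarBilin Q u v = polar Q u v := rfl

omit [Fintype F] [FiniteDimensional F V] in
theorem pB_symm (u v : V) : polarBilin Q u v = polarBilin Q v u := by
  rw [pB_apply, pB_apply, polar_comm]

omit [Fintype F] [FiniteDimensional F V] in
theorem Q_add_of_orth {u v : V} (h : polarBilin Q u v = 0) : Q (u + v) = Q u + Q v := by
  rw [pB_apply, polar] at h
  linear_combination h

/-- the restriction of `Q` to a subspace -/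
noncomputable abbrev Qr (W : Submodule F V) : QuadraticForm F W := Q.comp W.subtype

omit [Fintype F] [FiniteDimensional F V] in
theorem Qr_apply (W : Submodule F V) (w : W) : Qr Q W w = Q (w : V) := rfl

omit [Fintype F] [FiniteDimensional F V] in
theorem polar_Qr (W : Submodule F V) (u v : W) : polar (Qr Q W) u v = polar Q (u : V) (v : V) := by
  unfold polar
  rw [Qr_apply, Qr_apply, Qr_apply]
  rfl

omit [Fintype F] [FiniteDimensional F V] in
theorem nondegenerate_Qr {W : Submodule F V} (hW : NondegOn (polarBilin Q) W) :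
    (polarBilin (Qr Q W)).Nondegenerate := by
  have hl : (polarBilin (Qr Q W)).SeparatingLeft := by
    intro x hx
    apply Subtype.ext
    apply hW x.1 x.2
    intro v hv
    have := hx ⟨v, hv⟩
    rw [pB_apply, polar_Qr] at this
    exact this
  refine ⟨hl, ?_⟩
  intro y hy
  apply hl
  intro x
  have := hy x
  rw [pB_apply, polar_comm]
  exact this

omit [Fintype F] [FiniteDimensional F V] in
theorem nondegOn_of_Qr {W : Submodule F V} (h : (polarBilin (Qr Q W)).Nondegenerate) :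
    NondegOn (polarBilin Q) W := by
  intro u hu h0
  have := h.1 ⟨u, hu⟩ (fun v => by
    rw [pB_apply, polar_Qr]
    exact h0 v.1 v.2)
  exact congrArg Subtype.val this

/-- the sign of a subspace -/
def SgnOn (W : Submodule F V) (ε : ℤ) : Prop :=
  HasSign (fun w : W => Q (w : V)) (finrank F W / 2) ε

omit [FiniteDimensional F V] in
theorem sgnOn_bot : SgnOn Q ⊥ 1 := by
  unfold SgnOn
  rw [finrank_bot]
  have h := hasSign_plus (F := F) 0
  have : IsEmpty (Fin 0 ⊕ Fin 0) := inferInstance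
  exact h.of_equiv (Equiv.ofUnique (Fin 0 ⊕ Fin 0 → F) (⊥ : Submodule F V)) _ _ (fun v => by
    have h1 : ((Equiv.ofUnique (Fin 0 ⊕ Fin 0 → F) (⊥ : Submodule F V)) v : V) = 0 :=
      (mem_bot F).mp (Subtype.mem _)
    show Q _ = _
    rw [h1, map_zero]
    unfold Cfsg.quadFormPlus
    simp)

omit [FiniteDimensional F V] in
theorem SgnOn.unique {W : Submodule F V} {ε ε' : ℤ} (h : SgnOn Q W ε) (h' : SgnOn Q W ε') :
    ε = ε' := HasSign.unique h h'

theorem sgnOn_cases {W : Submodule F V} (hW : NondegOn (polarBilin Q) W) (n : ℕ)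
    (hn : finrank F W = 2 * n) : SgnOn Q W 1 ∨ SgnOn Q W (-1) := by
  rcases Nat.eq_zero_or_pos n with h0 | hpos
  · have hb : W = ⊥ := by
      apply Submodule.finrank_eq_zero.mp
      rw [hn, h0]
    subst hb
    exact Or.inl (sgnOn_bot Q)
  · have hn2 : finrank F W / 2 = n := by omega
    unfold SgnOn
    rw [hn2]
    rcases sign_cases (Qr Q W) (nondegenerate_Qr Q hW) n hpos hn with ⟨h, -⟩ | ⟨h, -⟩
    · exact Or.inl h
    · exact Or.inr h

omit [FiniteDimensional F V] in
/-- transport of the sign along a `Q`-compatible linear equivalence -/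
theorem sgnOn_of_equiv {X : Type*} [AddCommGroup X] [Module F X] (QX : X → F)
    {W : Submodule F V} (e : X ≃ₗ[F] W) (he : ∀ x, Q (e x : V) = QX x) {n : ℕ} {ε : ℤ}
    (hn : finrank F W / 2 = n) (hs : HasSign QX n ε) : SgnOn Q W ε := by
  unfold SgnOn
  rw [hn]
  exact hs.of_equiv e.toEquiv _ _ (fun x => he x)

omit [FiniteDimensional F V] in
theorem SgnOn.to_hasSign {X : Type*} [AddCommGroup X] [Module F X] (QX : X → F)
    {W : Submodule F V} (e : X ≃ₗ[F] W) (he : ∀ x, Q (e x : V) = QX x) {ε : ℤ}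
    (hs : SgnOn Q W ε) : HasSign QX (finrank F W / 2) ε :=
  hs.of_equiv e.symm.toEquiv _ _ (fun w => by
    show QX (e.symm w) = Q (w : V)
    rw [← he, LinearEquiv.apply_symm_apply])

/-- the sign is multiplicative for orthogonal sums -/
theorem sgnOn_sup {W₁ W₂ : Submodule F V} (ho : Orth (polarBilin Q) W₁ W₂)
    (hd : Disjoint W₁ W₂) (h₁ : Even (finrank F W₁)) (h₂ : Even (finrank F W₂)) {ε₁ ε₂ : ℤ}
    (hs₁ : SgnOn Q W₁ ε₁) (hs₂ : SgnOn Q W₂ ε₂) : SgnOn Q (W₁ ⊔ W₂) (ε₁ * ε₂) := by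
  have hfr : finrank F ↥(W₁ ⊔ W₂) = finrank F W₁ + finrank F W₂ := by
    have h1 := Submodule.finrank_sup_add_finrank_inf_eq W₁ W₂
    rw [hd.eq_bot, finrank_bot, add_zero] at h1
    exact h1
  have hfin : Finite V := Module.finite_of_finite F
  have hP := HasSign.prod hs₁ hs₂
  let e : (W₁ × W₂) ≃ ↥(W₁ ⊔ W₂) :=
    Equiv.ofBijective (fun p => ⟨(p.1 : V) + (p.2 : V),
      add_mem (mem_sup_left p.1.2) (mem_sup_right p.2.2)⟩) (by
      constructor
      · rintro ⟨a, b⟩ ⟨a', b'⟩ hab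
        have h1 : (a : V) + b = a' + b' := congrArg Subtype.val hab
        have h2 : (a : V) - a' = b' - b := by
          rw [sub_eq_sub_iff_add_eq_add, h1, add_comm]
        have h3 : (a : V) - a' ∈ W₁ ⊓ W₂ :=
          ⟨W₁.sub_mem a.2 a'.2, by rw [h2]; exact W₂.sub_mem b'.2 b.2⟩
        rw [hd.eq_bot, mem_bot] at h3
        have h4 : (b' : V) - b = 0 := by rw [← h2, h3]
        refine Prod.ext (Subtype.ext (sub_eq_zero.mp h3)) (Subtype.ext (sub_eq_zero.mp h4).symm)
      · rintro ⟨w, hw⟩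
        obtain ⟨a, ha, b, hb, rfl⟩ := mem_sup.mp hw
        exact ⟨(⟨a, ha⟩, ⟨b, hb⟩), rfl⟩)
  unfold SgnOn
  have hn : finrank F ↥(W₁ ⊔ W₂) / 2 = finrank F W₁ / 2 + finrank F W₂ / 2 := by
    rw [hfr]
    obtain ⟨a, ha⟩ := h₁
    obtain ⟨b, hb⟩ := h₂
    omega
  rw [hn]
  exact hP.of_equiv e _ _ (fun p => by
    show Q ((p.1 : V) + (p.2 : V)) = Q (p.1 : V) + Q (p.2 : V)
    exact Q_add_of_orth Q (ho _ p.1.2 _ p.2.2))

end sgn

end Cfsg.Agent.Lib.Helper6.OrtS
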