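import Mathlib
import Cfsg.Agent.Lib.Helper6.OrtS4

/-!
# Signs of invariant subspaces without fixed vectors; existence of subspaces of given sign
-/

set_option autoImplicit false

namespace Cfsg.Agent.Lib.Helper6.OrtS

open Module Submodule QuadraticMap Cfsg.Agent.Lib.Helper15.PSpI Cfsg.Agent.Lib.Helper14.OrthEven
  Cfsg.Agent.Lib.Helper15.PSpJ Cfsg.Agent.Lib.Helper15.PDec Cfsg.Agent.Lib.Helper15.PSub

/-- the sign of an invariant nondegenerate subspace without fixed vectors made of `t` blocks -/
def tau (i t : ℕ) : ℤ := if Even i then (-1) ^ t else 1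

theorem tau_sq (i t : ℕ) : tau i t * tau i t = 1 := by
  unfold tau
  split_ifs
  · rw [← mul_pow]; simp
  · simp

theorem tau_cases (i t : ℕ) : tau i t = 1 ∨ tau i t = -1 := by
  unfold tau
  split_ifs
  · rcases Nat.even_or_odd t with h | h
    · left; exact h.neg_one_pow
    · right; exact h.neg_one_pow
  · left; rfl

theorem tau_zero (i : ℕ) : tau i 0 = 1 := by
  unfold tau
  split_ifs <;> simp

theorem tau_add (i s t : ℕ) : tau i (s + t) = tau i s * tau i t := by
  unfold tau
  split_ifs
  · rw [pow_add]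
  · simp

section fpf

variable {F V : Type*} [Field F] [Fintype F] [AddCommGroup V] [Module F V] [FiniteDimensional F V]
variable (Q : QuadraticForm F V)

omit [Fintype F] [FiniteDimensional F V] in
theorem iso_of_Q (y : V →ₗ[F] V) (hQy : ∀ v, Q (y v) = Q v) (u v : V) :
    polarBilin Q (y u) (y v) = polarBilin Q u v := by
  rw [pB_apply, pB_apply]
  unfold polar
  rw [← map_add, hQy, hQy, hQy]

theorem not_dvd_card (p : ℕ) [hp : Fact p.Prime] [CharP F p] (r : ℕ) [hr : Fact r.Prime]
    (hrp : r ≠ p) : ¬ r ∣ Fintype.card F := by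
  obtain ⟨⟨f, _⟩, -, hf⟩ := FiniteField.card F p
  rw [hf]
  intro h
  have := (Nat.prime_dvd_prime_iff_eq hr.out hp.out).mp (hr.out.dvd_of_dvd_pow h)
  exact hrp this

/-- the sign of an invariant nondegenerate subspace without fixed vectors -/
theorem sign_of_fpf (p : ℕ) [Fact p.Prime] [CharP F p] (r : ℕ) [hr : Fact r.Prime]
    (hrp : r ≠ p) (hr2 : r ≠ 2) (y : V →ₗ[F] V) (hQy : ∀ v, Q (y v) = Q v) (hy : y ^ r = 1)
    (U : Submodule F V) (hUx : U.map y = U)
    (hUE : U ⊓ Module.End.eigenspace y 1 = ⊥) (t : ℕ)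
    (hUf : finrank F U = cOf (orderOf ((Fintype.card F : ℕ) : ZMod r)) * t) {ε : ℤ}
    (hε : ε = 1 ∨ ε = -1) (hs : SgnOn Q U ε) :
    ε = tau (orderOf ((Fintype.card F : ℕ) : ZMod r)) t := by
  have hodd : Odd r := hr.out.odd_of_ne_two hr2
  have hfin : Finite V := Module.finite_of_finite F
  have hyU : ∀ w ∈ U, y w ∈ U := fun w hw => by rw [← hUx]; exact ⟨w, hw, rfl⟩
  have hpow : (y.restrict hyU) ^ r = 1 := by
    rw [Module.End.pow_restrict]
    apply LinearMap.ext
    intro w
    apply Subtype.ext
    rw [LinearMap.restrict_coe_apply, hy]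
    rfl
  have hfix : ∀ v : U, (y.restrict hyU) v = v → v = 0 := by
    intro v hv
    have h1 : y (v : V) = v := congrArg Subtype.val hv
    have h2 : (v : V) ∈ U ⊓ Module.End.eigenspace y 1 := by
      refine Submodule.mem_inf.mpr ⟨v.2, ?_⟩
      rw [Module.End.mem_eigenspace_iff, one_smul]
      exact h1
    rw [hUE, mem_bot] at h2
    exact Subtype.ext h2
  have key := pow_eq_sign (Qr Q U) (n := finrank F U / 2) (ε := ε) hs (y.restrict hyU)
    (fun v => by
      show Q (y (v : V)) = Q (v : V)
      exact hQy _) r hpow hfix (not_dvd_card p r hrp)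
  have hne : (1 : ZMod r) ≠ -1 := one_ne_neg_one_zmod hodd
  obtain ⟨i, hi⟩ : ∃ i, i = orderOf ((Fintype.card F : ℕ) : ZMod r) := ⟨_, rfl⟩
  rw [← hi] at hUf ⊢
  unfold tau
  unfold cOf at hUf
  split_ifs with hie
  · rw [if_pos hie] at hUf
    obtain ⟨j, hj⟩ := hie
    have hipos : 0 < i := by rw [hi]; exact orderOf_pos_of_ne p r hrp
    have hj1 : 1 ≤ j := by omega
    have hQr : r ∣ Fintype.card F ^ j + 1 := dvd_of_order_even _ r j hj1 (by rw [← hi, hj])
    have hq : ((Fintype.card F : ℕ) : ZMod r) ^ j = -1 := by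
      have := (ZMod.natCast_eq_zero_iff _ _).2 hQr
      push_cast at this
      linear_combination this
    have hn : finrank F U / 2 = j * t := by
      rw [hUf, hj]
      have : (j + j) * t = 2 * (j * t) := by ring
      rw [this]
      omega
    rw [hn, pow_mul, hq] at key
    rcases Nat.even_or_odd t with ht | ht
    · rw [ht.neg_one_pow] at key ⊢
      rcases hε with h | h
      · exact h
      · rw [h] at key
        push_cast at key
        exact absurd key hne
    · rw [ht.neg_one_pow] at key ⊢
      rcases hε with h | h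
      · rw [h] at key
        push_cast at key
        exact absurd key.symm hne
      · exact h
  · rw [if_neg hie] at hUf
    have hn : finrank F U / 2 = i * t := by
      rw [hUf]
      have : 2 * i * t = 2 * (i * t) := by ring
      rw [this]
      omega
    rw [hn, pow_mul, hi, pow_orderOf_eq_one, one_pow] at key
    rcases hε with h | h
    · exact h
    · rw [h] at key
      push_cast at key
      exact absurd key hne

end fpf

section orthfix

variable {F V : Type*} [Field F] [AddCommGroup V] [Module F V]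
variable {B : V →ₗ[F] V →ₗ[F] F}

/-- an invariant subspace without fixed vectors is orthogonal to the fixed space -/
theorem orth_fixed_of_fpf (y : V →ₗ[F] V) (hiso : ∀ u v, B (y u) (y v) = B u v) (r : ℕ)
    (hr0 : (r : F) ≠ 0) (hy : y ^ r = 1) (U : Submodule F V) (hUx : U.map y = U)
    (hUE : U ⊓ Module.End.eigenspace y 1 = ⊥) : Orth B (Module.End.eigenspace y 1) U := by
  intro e he u hu
  have hefix : y e = e := by
    rwa [Module.End.mem_eigenspace_iff, one_smul] at he
  have hT : (∑ i ∈ Finset.range r, y ^ i) u ∈ U ⊓ Module.End.eigenspace y 1 := by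
    refine ⟨?_, trace_fixed y r hy u⟩
    rw [LinearMap.sum_apply]
    exact Submodule.sum_mem _ fun i _ => pow_mem_of_map_eq y hUx i hu
  rw [hUE, mem_bot] at hT
  have h1 : B e ((∑ i ∈ Finset.range r, y ^ i) u) = 0 := by rw [hT, map_zero]
  rw [LinearMap.sum_apply, map_sum] at h1
  have h2 : ∀ i ∈ Finset.range r, B e ((y ^ i) u) = B e u := by
    intro i _
    nth_rewrite 1 [← pow_fixed y i e hefix]
    exact iso_pow y hiso i e u
  rw [Finset.sum_congr rfl h2, Finset.sum_const, Finset.card_range, nsmul_eq_mul] at h1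
  exact (mul_eq_zero.mp h1).resolve_left hr0

end orthfix

section models

variable {F : Type*} [Field F] [Fintype F]

/-- an anisotropic binary form exists over every finite field -/
theorem exists_aniso_all :
    ∃ b : F, ∀ z₁ z₂ : F, z₁ ^ 2 + 1 * z₁ * z₂ + b * z₂ ^ 2 = 0 → z₁ = 0 ∧ z₂ = 0 := by
  classical
  have hni : ¬ Function.Injective (fun t : F => t ^ 2 + t) := by
    intro h
    have h1 : (fun t : F => t ^ 2 + t) 0 = (fun t : F => t ^ 2 + t) (-1) := by
      show (0 : F) ^ 2 + 0 = (-1) ^ 2 + (-1)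
      ring
    have := h h1
    exact one_ne_zero (neg_eq_zero.mp this.symm)
  have hns : ¬ Function.Surjective (fun t : F => t ^ 2 + t) :=
    fun h => hni (Finite.injective_iff_surjective.mpr h)
  rw [Function.Surjective] at hns
  push Not at hns
  obtain ⟨c, hc⟩ := hns
  refine ⟨-c, ?_⟩
  intro z₁ z₂ h
  by_cases h2 : z₂ = 0
  · subst h2
    have h3 : z₁ ^ 2 = 0 := by linear_combination h
    exact ⟨pow_eq_zero_iff two_ne_zero |>.1 h3, rfl⟩
  · exfalso
    apply hc (z₁ / z₂)
    show (z₁ / z₂) ^ 2 + z₁ / z₂ = c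
    field_simp
    linear_combination h

end models

end Cfsg.Agent.Lib.Helper6.OrtS
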