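import Mathlib
import Cfsg.Agent.Lib.Helper6.OrtS5

/-!
# Classification by sign and existence of nondegenerate subspaces of prescribed dimension and sign
-/

set_option autoImplicit false

namespace Cfsg.Agent.Lib.Helper6.OrtS

open Module Submodule QuadraticMap Cfsg.Agent.Lib.Helper15.PSpI Cfsg.Agent.Lib.Helper14.OrthEven

universe u

section classify

variable {F : Type u} [Field F] [Fintype F]

/-- two nondegenerate quadratic spaces of the same even dimension and sign are isometric -/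
theorem exists_iso_of_sign {X Y : Type*} [AddCommGroup X] [Module F X] [FiniteDimensional F X]
    [AddCommGroup Y] [Module F Y] [FiniteDimensional F Y]
    (QX : QuadraticForm F X) (QY : QuadraticForm F Y) (hX : (polarBilin QX).Nondegenerate)
    (hY : (polarBilin QY).Nondegenerate) (n : ℕ) (hn : 1 ≤ n) (hXd : finrank F X = 2 * n)
    (hYd : finrank F Y = 2 * n) {ε : ℤ} (hsX : HasSign (⇑QX) n ε) (hsY : HasSign (⇑QY) n ε) :
    ∃ φ : X ≃ₗ[F] Y, ∀ x, QY (φ x) = QX x := by
  rcases sign_cases QX hX n hn hXd with ⟨h1, gX, hgX⟩ | ⟨h1, ζX, hζX, gX, hgX⟩ <;>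
  rcases sign_cases QY hY n hn hYd with ⟨h2, gY, hgY⟩ | ⟨h2, ζY, hζY, gY, hgY⟩
  · refine ⟨gX.trans gY.symm, fun x => ?_⟩
    rw [hgY, hgX]
    simp
  · exfalso
    have e1 := HasSign.unique hsX h1
    have e2 := HasSign.unique hsY h2
    omega
  · exfalso
    have e1 := HasSign.unique hsX h1
    have e2 := HasSign.unique hsY h2
    omega
  · obtain ⟨Θ, hΘ⟩ := minus_change (n - 1) 1 ζY 1 ζX hζY hζX
    refine ⟨gX.trans (Θ.trans gY.symm), fun x => ?_⟩
    rw [hgY, hgX]
    simp only [LinearEquiv.trans_apply, LinearEquiv.apply_symm_apply]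
    exact hΘ _

/-- model spaces of prescribed dimension and sign -/
theorem exists_model (a : ℕ) (θ : ℤ) (hθ : θ = 1 ∨ θ = -1) (h : θ = -1 → 1 ≤ a) :
    ∃ (X : Type u) (_ : AddCommGroup X) (_ : Module F X) (_ : FiniteDimensional F X)
      (QX : QuadraticForm F X), (polarBilin QX).Nondegenerate ∧ finrank F X = 2 * a ∧
        HasSign (⇑QX) a θ := by
  rcases hθ with rfl | rfl
  · refine ⟨Fin a ⊕ Fin a → F, inferInstance, inferInstance, inferInstance,
      Cfsg.Agent.Lib.Helper15.QPlus F a, Cfsg.Agent.Lib.Helper15.nondegenerate_QPlus F a, ?_,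
      hasSign_QPlus a⟩
    rw [Module.finrank_fintype_fun_eq_card, Fintype.card_sum, Fintype.card_fin]
    ring
  · have ha := h rfl
    obtain ⟨b, hb⟩ := exists_aniso_all (F := F)
    refine ⟨(Fin (a - 1) ⊕ Fin (a - 1)) ⊕ Fin 2 → F, inferInstance, inferInstance, inferInstance,
      Cfsg.Agent.Lib.Helper15.Qgen (a - 1) (Cfsg.Agent.Lib.Helper15.binForm 1 b),
      nondegenerate_Qgen_binForm (a - 1) 1 b hb, ?_, ?_⟩
    · rw [Module.finrank_fintype_fun_eq_card, Fintype.card_sum, Fintype.card_sum, Fintype.card_fin,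
        Fintype.card_fin]
      omega
    · have := hasSign_Qgen (a - 1) 1 b hb
      rwa [Nat.sub_add_cancel ha] at this

end classify

section sub

variable {F : Type u} {V : Type*} [Field F] [Fintype F] [AddCommGroup V] [Module F V]
  [FiniteDimensional F V]
variable (Q : QuadraticForm F V)

omit [Fintype F] [FiniteDimensional F V] in
/-- transport of nondegeneracy along a `Q`-compatible linear equivalence -/
theorem nondegOn_of_equiv {X : Type*} [AddCommGroup X] [Module F X] (QX : QuadraticForm F X)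
    (hX : (polarBilin QX).Nondegenerate) {W : Submodule F V} (e : X ≃ₗ[F] W)
    (he : ∀ x, Q (e x : V) = QX x) : NondegOn (polarBilin Q) W := by
  intro u hu h0
  have hp : ∀ x x' : X, polar QX x x' = polar Q (e x : V) (e x' : V) := by
    intro x x'
    unfold polar
    rw [← he, ← he, ← he, map_add]
    rfl
  have h1 : e.symm ⟨u, hu⟩ = 0 := by
    apply hX.1
    intro x'
    rw [pB_apply, hp, LinearEquiv.apply_symm_apply]
    exact h0 _ (e x').2
  have h2 := congrArg e h1
  rw [LinearEquiv.apply_symm_apply, map_zero] at h2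
  exact congrArg Subtype.val h2

/-- admissibility of a subspace of dimension `j` and sign `θ` inside a space of dimension `e`
and sign `κ` -/
def HasSub (j : ℕ) (θ : ℤ) (e : ℕ) (κ : ℤ) : Prop :=
  j ≤ e ∧ (j = 0 → θ = 1) ∧ (j = e → θ = κ)

/-- nondegenerate subspaces of prescribed even dimension and sign -/
theorem exists_sub (C : Submodule F V) (hC : NondegOn (polarBilin Q) C) (e : ℕ)
    (hCe : finrank F C = e) (he : Even e) (κ : ℤ) (hκ1 : κ = 1 ∨ κ = -1) (hκ : SgnOn Q C κ)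
    (j : ℕ) (hj : Even j) (θ : ℤ) (hθ : θ = 1 ∨ θ = -1) (h : HasSub j θ e κ) :
    ∃ W : Submodule F V, W ≤ C ∧ NondegOn (polarBilin Q) W ∧ finrank F W = j ∧ SgnOn Q W θ := by
  obtain ⟨hje, hj0, hjee⟩ := h
  rcases Nat.eq_zero_or_pos j with h0 | hjpos
  · refine ⟨⊥, bot_le, nondegOn_bot, by rw [finrank_bot, h0], ?_⟩
    rw [hj0 h0]
    exact sgnOn_bot Q
  rcases Nat.lt_or_ge j e with hlt | hge
  swap
  · have hje' : j = e := le_antisymm hje hge
    refine ⟨C, le_rfl, hC, by rw [hCe, hje'], ?_⟩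
    rw [hjee hje']
    exact hκ
  obtain ⟨a, ha⟩ := hj
  obtain ⟨e', he'⟩ := he
  have ha1 : 1 ≤ a := by omega
  obtain ⟨b, hb⟩ : ∃ b, e' = a + b := ⟨e' - a, by omega⟩
  have hb1 : 1 ≤ b := by omega
  have hκθ : κ * θ = 1 ∨ κ * θ = -1 := by
    rcases hκ1 with rfl | rfl <;> rcases hθ with rfl | rfl <;> simp
  obtain ⟨X₁, i1, i2, i3, Q₁, hQ₁, hd₁, hs₁⟩ := exists_model (F := F) a θ hθ (fun _ => ha1)
  obtain ⟨X₂, i4, i5, i6, Q₂, hQ₂, hd₂, hs₂⟩ := exists_model (F := F) b (κ * θ) hκθ (fun _ => hb1)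
  have hfin₁ : Finite X₁ := Module.finite_of_finite F
  have hfin₂ : Finite X₂ := Module.finite_of_finite F
  have hQX : (polarBilin (Q₁.prod Q₂)).Nondegenerate := nondegenerate_prod Q₁ Q₂ hQ₁ hQ₂
  have hsX : HasSign (⇑(Q₁.prod Q₂)) (a + b) κ := by
    have h1 := HasSign.prod hs₁ hs₂
    have h2 : θ * (κ * θ) = κ := by
      rcases hθ with rfl | rfl <;> ring
    rw [h2] at h1
    exact h1.congr_fun (fun p => QuadraticMap.prod_apply Q₁ Q₂ p)
  have hdX : finrank F (X₁ × X₂) = 2 * (a + b) := by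
    rw [Module.finrank_prod, hd₁, hd₂]
    ring
  have hdC : finrank F C = 2 * (a + b) := by
    rw [hCe, he', hb]
    ring
  have hsC : HasSign (⇑(Qr Q C)) (a + b) κ := by
    have h1 : finrank F C / 2 = a + b := by omega
    have := hκ
    unfold SgnOn at this
    rw [h1] at this
    exact this
  obtain ⟨φ, hφ⟩ := exists_iso_of_sign (Q₁.prod Q₂) (Qr Q C) hQX (nondegenerate_Qr Q hC) (a + b)
    (by omega) hdX hdC hsX hsC
  let f : X₁ →ₗ[F] V := C.subtype ∘ₗ φ.toLinearMap ∘ₗ LinearMap.inl F X₁ X₂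
  have hf : Function.Injective f := by
    intro x x' hxx
    have h1 : φ (x, 0) = φ (x', 0) := Subtype.ext hxx
    have h2 := φ.injective h1
    exact (Prod.ext_iff.mp h2).1
  have hfQ : ∀ x, Q (f x) = Q₁ x := by
    intro x
    have h1 : Q (f x) = Qr Q C (φ (x, 0)) := rfl
    rw [h1, hφ, QuadraticMap.prod_apply, map_zero, add_zero]
  let e₁ : X₁ ≃ₗ[F] ↥(LinearMap.range f) := LinearEquiv.ofInjective f hf
  have he₁ : ∀ x, Q ((e₁ x : ↥(LinearMap.range f)) : V) = Q₁ x := fun x => hfQ x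
  have hWd : finrank F ↥(LinearMap.range f) = j := by
    rw [← e₁.finrank_eq, hd₁, ha]
    ring
  refine ⟨LinearMap.range f, ?_, nondegOn_of_equiv Q Q₁ hQ₁ e₁ he₁, hWd, ?_⟩
  · rintro _ ⟨x, rfl⟩
    exact (φ (x, 0)).2
  · exact sgnOn_of_equiv Q (⇑Q₁) e₁ he₁ (by omega) hs₁

end sub

end Cfsg.Agent.Lib.Helper6.OrtS
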