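import Mathlib
import Cfsg.Agent.Lib.Helper6.OrtS6

/-!
# Criterion for an isometry of odd prime order to fix a nondegenerate subspace of given sign
-/

set_option autoImplicit false

namespace Cfsg.Agent.Lib.Helper6.OrtS

open Module Submodule QuadraticMap Cfsg.Agent.Lib.Helper15.PSpI Cfsg.Agent.Lib.Helper14.OrthEven
  Cfsg.Agent.Lib.Helper15.PSpJ Cfsg.Agent.Lib.Helper15.PDec Cfsg.Agent.Lib.Helper15.PSub

universe u

section crit

variable {F : Type u} {V : Type*} [Field F] [Fintype F] [AddCommGroup V] [Module F V]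
  [FiniteDimensional F V]
variable (Q : QuadraticForm F V)

theorem int_sign_mul_cancel {a b c : ℤ} (hc : c * c = 1) (h : a = b * c) : b = a * c := by
  rw [h, mul_assoc, hc, mul_one]

/-- structure of the whole space with respect to an isometry of odd prime order -/
theorem top_struct (p : ℕ) [Fact p.Prime] [CharP F p] (r : ℕ) [hr : Fact r.Prime]
    (hrp : r ≠ p) (hr2 : r ≠ 2) (hQ : NondegOn (polarBilin Q) ⊤) (y : V →ₗ[F] V)
    (hQy : ∀ v, Q (y v) = Q v) (hy : y ^ r = 1) (n : ℕ) (hn : finrank F V = n) (hne : Even n)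
    (ε : ℤ) (hsV : SgnOn Q ⊤ ε) (s : ℕ)
    (hs : finrank F (movPart (polarBilin Q) y ⊤) =
      cOf (orderOf ((Fintype.card F : ℕ) : ZMod r)) * s) :
    NondegOn (polarBilin Q) (⊤ ⊓ Module.End.eigenspace y 1) ∧
    finrank F ↥((⊤ : Submodule F V) ⊓ Module.End.eigenspace y 1) =
      n - cOf (orderOf ((Fintype.card F : ℕ) : ZMod r)) * s ∧
    cOf (orderOf ((Fintype.card F : ℕ) : ZMod r)) * s ≤ n ∧
    SgnOn Q (⊤ ⊓ Module.End.eigenspace y 1)
      (ε * tau (orderOf ((Fintype.card F : ℕ) : ZMod r)) s) := by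
  have hS := pB_symm Q
  have hiso := iso_of_Q Q y hQy
  have hr0 : (r : F) ≠ 0 := ne_zero_of_ne' p r hr.out hrp
  have hinj : Function.Injective y :=
    injective_of_pow_eq_smul y r 1 one_ne_zero (by rw [hy, one_smul]) hr.out.ne_zero
  have htop : (⊤ : Submodule F V).map y = ⊤ :=
    map_eq_of_invt y hinj ⊤ (by
      rw [Module.End.mem_invtSubmodule_iff_map_le]
      exact le_top)
  obtain ⟨hKx, hKn, hKE, hdim, hsup, hCK⟩ :=
    movPart_props' hS y hiso r hr.out.ne_zero hr0 hy ⊤ htop hQ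
  have hEn := nondegOn_fixed y hiso r hr0 hy ⊤ htop hQ
  rw [finrank_top, hn, hs] at hdim
  obtain ⟨c, hc⟩ : ∃ c, c = cOf (orderOf ((Fintype.card F : ℕ) : ZMod r)) := ⟨_, rfl⟩
  rw [← hc] at hs hdim ⊢
  have hce : Even c := by rw [hc]; exact cOf_even
  obtain ⟨c', hc'⟩ := hce
  obtain ⟨n', hn'⟩ := hne
  refine ⟨hEn, by omega, by omega, ?_⟩
  -- signs
  have hKf2 : finrank F (movPart (polarBilin Q) y ⊤) = 2 * (c' * s) := by
    rw [hs, hc']; ring
  have hKs : SgnOn Q (movPart (polarBilin Q) y ⊤)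
      (tau (orderOf ((Fintype.card F : ℕ) : ZMod r)) s) := by
    rcases sgnOn_cases Q hKn _ hKf2 with h | h
    · have := sign_of_fpf Q p r hrp hr2 y hQy hy _ hKx hKE s (by rw [hs, hc]) (Or.inl rfl) h
      rwa [← this]
    · have := sign_of_fpf Q p r hrp hr2 y hQy hy _ hKx hKE s (by rw [hs, hc]) (Or.inr rfl) h
      rwa [← this]
  have hEf2 : finrank F ↥((⊤ : Submodule F V) ⊓ Module.End.eigenspace y 1) =
      2 * (n' - c' * s) := by
    have : c * s = 2 * (c' * s) := by rw [hc']; ring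
    omega
  have hKeven : Even (finrank F (movPart (polarBilin Q) y ⊤)) := ⟨c' * s, by rw [hKf2]; ring⟩
  have hEeven : Even (finrank F ↥((⊤ : Submodule F V) ⊓ Module.End.eigenspace y 1)) :=
    ⟨n' - c' * s, by rw [hEf2]; ring⟩
  have hd := orth_disjoint hS hCK hEn
  rcases sgnOn_cases Q hEn _ hEf2 with h | h
  · have h1 := sgnOn_sup Q hCK hd hEeven hKeven h hKs
    rw [hsup] at h1
    have h2 := SgnOn.unique Q hsV h1
    have h3 := int_sign_mul_cancel (tau_sq _ s) h2
    rw [← h3]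
    exact h
  · have h1 := sgnOn_sup Q hCK hd hEeven hKeven h hKs
    rw [hsup] at h1
    have h2 := SgnOn.unique Q hsV h1
    have h3 := int_sign_mul_cancel (tau_sq _ s) h2
    rw [← h3]
    exact h

/-- **Criterion**: an isometry of odd prime order `r ≠ p` with `s` blocks fixes a nondegenerate
`m`-space of sign `η` iff a numerical condition holds. -/
theorem fixes_iff (p : ℕ) [Fact p.Prime] [CharP F p] (r : ℕ) [hr : Fact r.Prime]
    (hrp : r ≠ p) (hr2 : r ≠ 2) (hQ : NondegOn (polarBilin Q) ⊤) (y : V →ₗ[F] V)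
    (hQy : ∀ v, Q (y v) = Q v) (hy : y ^ r = 1) (n : ℕ) (hn : finrank F V = n) (hne : Even n)
    (ε : ℤ) (hε : ε = 1 ∨ ε = -1) (hsV : SgnOn Q ⊤ ε) (s : ℕ)
    (hs : finrank F (movPart (polarBilin Q) y ⊤) =
      cOf (orderOf ((Fintype.card F : ℕ) : ZMod r)) * s)
    (m : ℕ) (hm : Even m) (η : ℤ) (hη : η = 1 ∨ η = -1) :
    (∃ W : Submodule F V, finrank F W = m ∧ NondegOn (polarBilin Q) W ∧ SgnOn Q W η ∧
      W.map y ≤ W) ↔
    ∃ t, t ≤ s ∧ cOf (orderOf ((Fintype.card F : ℕ) : ZMod r)) * t ≤ m ∧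
      HasSub (m - cOf (orderOf ((Fintype.card F : ℕ) : ZMod r)) * t)
        (η * tau (orderOf ((Fintype.card F : ℕ) : ZMod r)) t)
        (n - cOf (orderOf ((Fintype.card F : ℕ) : ZMod r)) * s)
        (ε * tau (orderOf ((Fintype.card F : ℕ) : ZMod r)) s) := by
  have hS := pB_symm Q
  have hiso := iso_of_Q Q y hQy
  have hr0 : (r : F) ≠ 0 := ne_zero_of_ne' p r hr.out hrp
  have hinj : Function.Injective y :=
    injective_of_pow_eq_smul y r 1 one_ne_zero (by rw [hy, one_smul]) hr.out.ne_zero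
  have htop : (⊤ : Submodule F V).map y = ⊤ :=
    map_eq_of_invt y hinj ⊤ (by
      rw [Module.End.mem_invtSubmodule_iff_map_le]
      exact le_top)
  obtain ⟨hKx, hKn, hKE, -, hsup, hCK⟩ :=
    movPart_props' hS y hiso r hr.out.ne_zero hr0 hy ⊤ htop hQ
  obtain ⟨hEn, hEf, hcsn, hEs⟩ := top_struct Q p r hrp hr2 hQ y hQy hy n hn hne ε hsV s hs
  have hipos : 0 < orderOf ((Fintype.card F : ℕ) : ZMod r) := orderOf_pos_of_ne p r hrp
  obtain ⟨i, hi⟩ : ∃ i, i = orderOf ((Fintype.card F : ℕ) : ZMod r) := ⟨_, rfl⟩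
  rw [← hi] at hs hEf hcsn hEs hipos ⊢
  obtain ⟨c, hc⟩ : ∃ c, c = cOf i := ⟨_, rfl⟩
  rw [← hc] at hs hEf hcsn ⊢
  have hcpos : 0 < c := by rw [hc]; exact cOf_pos hipos
  have hce : Even c := by rw [hc]; exact cOf_even
  obtain ⟨c', hc'⟩ := hce
  obtain ⟨m', hm'⟩ := hm
  constructor
  · rintro ⟨W, hWf, hWn, hWs, hWy⟩
    have hWx : W.map y = W :=
      map_eq_of_invt y hinj W ((Module.End.mem_invtSubmodule_iff_map_le _).mpr hWy)
    obtain ⟨h1x, h1n, h1E, hWdim, hWsup, h01⟩ :=
      movPart_props' hS y hiso r hr.out.ne_zero hr0 hy W hWx hWn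
    obtain ⟨t, ht⟩ := movPart_profile' p r hrp hr2 hS y hiso hy W hWx hWn
    rw [← hi, ← hc] at ht
    have h0n := nondegOn_fixed y hiso r hr0 hy W hWx hWn
    have h1K : movPart (polarBilin Q) y W ≤ movPart (polarBilin Q) y ⊤ := by
      intro v hv
      refine mem_perpIn.mpr ⟨mem_top, fun u hu => ?_⟩
      exact orth_fixed_of_fpf y hiso r hr0 hy _ h1x h1E u hu.2 v hv
    have hts : t ≤ s := by
      have := Submodule.finrank_mono h1K
      rw [ht, hs] at this
      exact Nat.le_of_mul_le_mul_left this hcpos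
    rw [hWf, ht] at hWdim
    refine ⟨t, hts, by omega, ?_⟩
    -- signs
    have h1f2 : finrank F (movPart (polarBilin Q) y W) = 2 * (c' * t) := by
      rw [ht, hc']; ring
    have h1s : SgnOn Q (movPart (polarBilin Q) y W) (tau i t) := by
      rcases sgnOn_cases Q h1n _ h1f2 with h | h
      · have := sign_of_fpf Q p r hrp hr2 y hQy hy _ h1x h1E t (by rw [ht, hc, hi]) (Or.inl rfl) h
        rw [← hi] at this
        rwa [← this]
      · have := sign_of_fpf Q p r hrp hr2 y hQy hy _ h1x h1E t (by rw [ht, hc, hi]) (Or.inr rfl) h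
        rw [← hi] at this
        rwa [← this]
    have h0f : finrank F ↥(W ⊓ Module.End.eigenspace y 1) = m - c * t := by omega
    have h0f2 : finrank F ↥(W ⊓ Module.End.eigenspace y 1) = 2 * (m' - c' * t) := by
      have : c * t = 2 * (c' * t) := by rw [hc']; ring
      omega
    have h1even : Even (finrank F (movPart (polarBilin Q) y W)) := ⟨c' * t, by rw [h1f2]; ring⟩
    have h0even : Even (finrank F ↥(W ⊓ Module.End.eigenspace y 1)) :=
      ⟨m' - c' * t, by rw [h0f2]; ring⟩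
    have hd := orth_disjoint hS h01 h0n
    have h0s : SgnOn Q (W ⊓ Module.End.eigenspace y 1) (η * tau i t) := by
      rcases sgnOn_cases Q h0n _ h0f2 with h | h
      · have h1 := sgnOn_sup Q h01 hd h0even h1even h h1s
        rw [hWsup] at h1
        have h2 := SgnOn.unique Q hWs h1
        have h3 := int_sign_mul_cancel (tau_sq _ t) h2
        rw [← h3]
        exact h
      · have h1 := sgnOn_sup Q h01 hd h0even h1even h h1s
        rw [hWsup] at h1
        have h2 := SgnOn.unique Q hWs h1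
        have h3 := int_sign_mul_cancel (tau_sq _ t) h2
        rw [← h3]
        exact h
    have hle : W ⊓ Module.End.eigenspace y 1 ≤ ⊤ ⊓ Module.End.eigenspace y 1 :=
      inf_le_inf_right _ le_top
    refine ⟨?_, ?_, ?_⟩
    · have := Submodule.finrank_mono hle
      rw [h0f, hEf] at this
      exact this
    · intro hj0
      have hb : W ⊓ Module.End.eigenspace y 1 = ⊥ := by
        apply Submodule.finrank_eq_zero.mp
        rw [h0f, hj0]
      rw [hb] at h0s
      exact SgnOn.unique Q h0s (sgnOn_bot Q)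
    · intro hje
      have hb : W ⊓ Module.End.eigenspace y 1 = ⊤ ⊓ Module.End.eigenspace y 1 := by
        apply Submodule.eq_of_le_of_finrank_eq hle
        rw [h0f, hEf, hje]
      rw [hb] at h0s
      exact SgnOn.unique Q h0s hEs
  · rintro ⟨t, hts, htm, hsub⟩
    obtain ⟨D, hDK, hDx, hDn, hDf⟩ := exists_moved_sub' p r hrp hr2 hS y hiso hy _ hKx hKn hKE s
      (by rw [hs, hc, hi]) t hts
    rw [← hi, ← hc] at hDf
    have hDE : D ⊓ Module.End.eigenspace y 1 = ⊥ := by
      rw [eq_bot_iff, ← hKE]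
      exact inf_le_inf_right _ hDK
    have hDf2 : finrank F D = 2 * (c' * t) := by
      rw [hDf, hc']; ring
    have hDs : SgnOn Q D (tau i t) := by
      rcases sgnOn_cases Q hDn _ hDf2 with h | h
      · have := sign_of_fpf Q p r hrp hr2 y hQy hy _ hDx hDE t (by rw [hDf, hc, hi]) (Or.inl rfl) h
        rw [← hi] at this
        rwa [← this]
      · have := sign_of_fpf Q p r hrp hr2 y hQy hy _ hDx hDE t (by rw [hDf, hc, hi]) (Or.inr rfl) h
        rw [← hi] at this
        rwa [← this]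
    have hκ1 : ε * tau i s = 1 ∨ ε * tau i s = -1 := by
      rcases hε with rfl | rfl <;> rcases tau_cases i s with h | h <;> rw [h] <;> simp
    have hθ1 : η * tau i t = 1 ∨ η * tau i t = -1 := by
      rcases hη with rfl | rfl <;> rcases tau_cases i t with h | h <;> rw [h] <;> simp
    have heven_e : Even (n - c * s) := by
      obtain ⟨n', hn'⟩ := hne
      refine ⟨n' - c' * s, ?_⟩
      have : c * s = 2 * (c' * s) := by rw [hc']; ring
      omega
    have heven_j : Even (m - c * t) := by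
      refine ⟨m' - c' * t, ?_⟩
      have : c * t = 2 * (c' * t) := by rw [hc']; ring
      omega
    obtain ⟨W₀, hW₀E, hW₀n, hW₀f, hW₀s⟩ := exists_sub Q _ hEn (n - c * s) hEf heven_e
      (ε * tau i s) hκ1 hEs (m - c * t) heven_j (η * tau i t) hθ1 hsub
    have ho : Orth (polarBilin Q) W₀ D := hCK.mono hW₀E hDK
    have hd := orth_disjoint hS ho hW₀n
    refine ⟨W₀ ⊔ D, ?_, nondegOn_sup' hS ho hW₀n hDn, ?_, ?_⟩
    · rw [finrank_sup_of_orth' hS ho hW₀n, hW₀f, hDf]
      omega
    · have h1 := sgnOn_sup Q ho hd (by rw [hW₀f]; exact heven_j) ⟨c' * t, by rw [hDf2]; ring⟩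
        hW₀s hDs
      have h2 : η * tau i t * tau i t = η := by rw [mul_assoc, tau_sq, mul_one]
      rwa [h2] at h1
    · rw [Submodule.map_sup, hDx]
      apply sup_le_sup_right
      rintro _ ⟨u, hu, rfl⟩
      rw [fix_of_mem_inf y (hW₀E hu)]
      exact hu

end crit

end Cfsg.Agent.Lib.Helper6.OrtS
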