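import Mathlib
import Cfsg.Agent.Lib.Helper6.OrtS7
import Cfsg.Agent.S0750

/-!
# Gluing isometries along orthogonal sums; transitivity via Witt's lemma
-/

set_option autoImplicit false

namespace Cfsg.Agent.Lib.Helper6.OrtS

open Module Submodule QuadraticMap Cfsg.Agent.Lib.Helper15.PSpI Cfsg.Agent.Lib.Helper14.OrthEven

universe u

section glue

variable {F : Type u} {V : Type*} [Field F] [AddCommGroup V] [Module F V]

/-- the sum of two disjoint subspaces as a product -/
noncomputable def supEquiv (A B : Submodule F V) (hd : Disjoint A B) : (A × B) ≃ₗ[F] ↥(A ⊔ B) :=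
  LinearEquiv.ofBijective
    ((A.subtype.coprod B.subtype).codRestrict (A ⊔ B) (fun p => by
      rw [LinearMap.coprod_apply]
      exact add_mem (mem_sup_left p.1.2) (mem_sup_right p.2.2))) (by
    constructor
    · rw [← LinearMap.ker_eq_bot, LinearMap.ker_eq_bot']
      rintro ⟨a, b⟩ hab
      have h1 : (a : V) + b = 0 := congrArg Subtype.val hab
      have h2 : (a : V) = - b := eq_neg_of_add_eq_zero_left h1
      have h3 : (a : V) ∈ A ⊓ B := ⟨a.2, by rw [h2]; exact B.neg_mem b.2⟩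
      rw [hd.eq_bot, mem_bot] at h3
      have h4 : (b : V) = 0 := by rw [h3, zero_add] at h1; exact h1
      exact Prod.ext (Subtype.ext h3) (Subtype.ext h4)
    · rintro ⟨w, hw⟩
      obtain ⟨a, ha, b, hb, rfl⟩ := mem_sup.mp hw
      exact ⟨(⟨a, ha⟩, ⟨b, hb⟩), rfl⟩)

theorem supEquiv_apply (A B : Submodule F V) (hd : Disjoint A B) (p : A × B) :
    ((supEquiv A B hd p : ↥(A ⊔ B)) : V) = (p.1 : V) + (p.2 : V) := rfl

variable (Q : QuadraticForm F V)

/-- gluing two isometries along orthogonal decompositions -/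
theorem exists_glue (A B A' B' : Submodule F V) (hd : Disjoint A B) (hd' : Disjoint A' B')
    (ho : Orth (polarBilin Q) A B) (ho' : Orth (polarBilin Q) A' B')
    (φ : A ≃ₗ[F] A') (hφ : ∀ a : A, Q (φ a : V) = Q (a : V))
    (ψ : B ≃ₗ[F] B') (hψ : ∀ b : B, Q (ψ b : V) = Q (b : V)) :
    ∃ χ : ↥(A ⊔ B) ≃ₗ[F] ↥(A' ⊔ B'), (∀ x : ↥(A ⊔ B), Q (χ x : V) = Q (x : V)) ∧
      (∀ a : A, (χ ⟨a, mem_sup_left a.2⟩ : V) = φ a) ∧
      (∀ b : B, (χ ⟨b, mem_sup_right b.2⟩ : V) = ψ b) := by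
  let χ : ↥(A ⊔ B) ≃ₗ[F] ↥(A' ⊔ B') :=
    ((supEquiv A B hd).symm.trans (LinearEquiv.prodCongr φ ψ)).trans (supEquiv A' B' hd')
  have hχ : ∀ p : A × B, (χ (supEquiv A B hd p) : V) = (φ p.1 : V) + (ψ p.2 : V) := by
    intro p
    show ((supEquiv A' B' hd' (LinearEquiv.prodCongr φ ψ ((supEquiv A B hd).symm
      (supEquiv A B hd p))) : ↥(A' ⊔ B')) : V) = _
    rw [LinearEquiv.symm_apply_apply, supEquiv_apply]
    rfl
  refine ⟨χ, ?_, ?_, ?_⟩
  · intro x
    obtain ⟨p, rfl⟩ := (supEquiv A B hd).surjective x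
    rw [hχ, supEquiv_apply, Q_add_of_orth Q (ho' _ (φ p.1).2 _ (ψ p.2).2),
      Q_add_of_orth Q (ho _ p.1.2 _ p.2.2), hφ, hψ]
  · intro a
    have h1 : (⟨a, mem_sup_left a.2⟩ : ↥(A ⊔ B)) = supEquiv A B hd (a, 0) := by
      apply Subtype.ext
      rw [supEquiv_apply]
      simp
    rw [h1, hχ]
    simp
  · intro b
    have h1 : (⟨b, mem_sup_right b.2⟩ : ↥(A ⊔ B)) = supEquiv A B hd (0, b) := by
      apply Subtype.ext
      rw [supEquiv_apply]
      simp
    rw [h1, hχ]
    simp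

end glue

section trans

variable {F : Type u} {V : Type*} [Field F] [Fintype F] [AddCommGroup V] [Module F V]
  [FiniteDimensional F V]
variable (Q : QuadraticForm F V)

/-- two nondegenerate subspaces of the same positive even dimension and sign, both orthogonal to
a subspace `K`, are conjugate under an isometry fixing `K` pointwise. -/
theorem exists_isometry_fixing (hQ : NondegOn (polarBilin Q) ⊤) (K W W' : Submodule F V)
    (hW : NondegOn (polarBilin Q) W) (hW' : NondegOn (polarBilin Q) W')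
    (hWK : Orth (polarBilin Q) W K) (hW'K : Orth (polarBilin Q) W' K)
    (m : ℕ) (hm : Even m) (hWf : finrank F W = m) (hW'f : finrank F W' = m) {η : ℤ}
    (hs : SgnOn Q W η) (hs' : SgnOn Q W' η) :
    ∃ g : V ≃ₗ[F] V, (∀ v, Q (g v) = Q v) ∧ (∀ v ∈ K, g v = v) ∧ W.map g.toLinearMap = W' := by
  have hS := pB_symm Q
  have hQn : (polarBilin Q).Nondegenerate := by
    have hl : (polarBilin Q).SeparatingLeft := by
      intro x hx
      exact hQ x mem_top (fun v _ => hx v)
    refine ⟨hl, ?_⟩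
    intro y hy
    apply hl
    intro x
    rw [hS]
    exact hy x
  rcases Nat.eq_zero_or_pos m with h0 | hpos
  · have hb : W = ⊥ := Submodule.finrank_eq_zero.mp (by rw [hWf, h0])
    have hb' : W' = ⊥ := Submodule.finrank_eq_zero.mp (by rw [hW'f, h0])
    refine ⟨LinearEquiv.refl F V, fun v => rfl, fun v _ => rfl, ?_⟩
    rw [hb, hb']
    exact Submodule.map_bot _
  obtain ⟨m', hm'⟩ := hm
  have hm'1 : 1 ≤ m' := by omega
  have hsW : HasSign (⇑(Qr Q W)) m' η := by
    have h1 : finrank F W / 2 = m' := by omega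
    have := hs
    unfold SgnOn at this
    rwa [h1] at this
  have hsW' : HasSign (⇑(Qr Q W')) m' η := by
    have h1 : finrank F W' / 2 = m' := by omega
    have := hs'
    unfold SgnOn at this
    rwa [h1] at this
  obtain ⟨φ, hφ⟩ := exists_iso_of_sign (Qr Q W) (Qr Q W') (nondegenerate_Qr Q hW)
    (nondegenerate_Qr Q hW') m' hm'1 (by omega) (by omega) hsW hsW'
  have hd : Disjoint W K := orth_disjoint hS hWK hW
  have hd' : Disjoint W' K := orth_disjoint hS hW'K hW'
  obtain ⟨χ, hχQ, hχW, hχK⟩ := exists_glue Q W K W' K hd hd' hWK hW'K φ (fun a => hφ a)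
    (LinearEquiv.refl F K) (fun b => rfl)
  obtain ⟨g, hgQ, hgχ⟩ := Cfsg.Agent.S0750.result Q hQn (W ⊔ K) (W' ⊔ K) χ hχQ
  refine ⟨g, hgQ, ?_, ?_⟩
  · intro v hv
    have := hgχ ⟨v, mem_sup_right hv⟩
    rw [hχK ⟨v, hv⟩] at this
    exact this
  · apply le_antisymm
    · rintro _ ⟨w, hw, rfl⟩
      have := hgχ ⟨w, mem_sup_left hw⟩
      rw [hχW ⟨w, hw⟩] at this
      show g w ∈ W'
      rw [this]
      exact (φ ⟨w, hw⟩).2
    · intro w' hw'
      obtain ⟨a, ha⟩ := φ.surjective ⟨w', hw'⟩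
      refine ⟨a, a.2, ?_⟩
      have := hgχ ⟨a, mem_sup_left a.2⟩
      rw [hχW a] at this
      show g a = w'
      rw [this, ha]

end trans

end Cfsg.Agent.Lib.Helper6.OrtS
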