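import Mathlib
import Cfsg.Agent.Lib.Helper6.OrtS9
import Cfsg.Agent.Lib.Helper15.PSpJ5
import Cfsg.Agent.Lib.Helper6.OmegaOdd
import Cfsg.Agent.Lib.Helper6.OmegaAut

/-!
# Elements of odd prime order with a prescribed number of blocks in the plus type orthogonal group
-/

set_option autoImplicit false

namespace Cfsg.Agent.Lib.Helper6.OrtS

open Module Submodule QuadraticMap Polynomial Cfsg.Agent.Lib.Helper15.PSpI
  Cfsg.Agent.Lib.Helper14.OrthEven
  Cfsg.Agent.Lib.Helper15.PSpJ Cfsg.Agent.Lib.Helper15.PDec Cfsg.Agent.Lib.Helper15.PSub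

universe u

section elts

variable {F : Type u} [Field F] [Fintype F]

/-- `q ^ (c t / 2) = τ(t)` modulo `r` -/
theorem pow_eq_tau (p : ℕ) [Fact p.Prime] [CharP F p] (r : ℕ) [hr : Fact r.Prime]
    (hrp : r ≠ p) (t : ℕ) :
    ((Fintype.card F : ℕ) : ZMod r) ^
      (cOf (orderOf ((Fintype.card F : ℕ) : ZMod r)) * t / 2) =
      ((tau (orderOf ((Fintype.card F : ℕ) : ZMod r)) t : ℤ) : ZMod r) := by
  obtain ⟨i, hi⟩ : ∃ i, i = orderOf ((Fintype.card F : ℕ) : ZMod r) := ⟨_, rfl⟩
  rw [← hi]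
  unfold tau cOf
  split_ifs with hie
  · obtain ⟨j, hj⟩ := hie
    have hipos : 0 < i := by rw [hi]; exact orderOf_pos_of_ne p r hrp
    have hj1 : 1 ≤ j := by omega
    have hQr : r ∣ Fintype.card F ^ j + 1 := dvd_of_order_even _ r j hj1 (by rw [← hi, hj])
    have hq : ((Fintype.card F : ℕ) : ZMod r) ^ j = -1 := by
      have := (ZMod.natCast_eq_zero_iff _ _).2 hQr
      push_cast at this
      linear_combination this
    have hn : i * t / 2 = j * t := by
      rw [hj]
      have : (j + j) * t = 2 * (j * t) := by ring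
      rw [this]
      omega
    rw [hn, pow_mul, hq]
    push_cast
    rfl
  · have hn : 2 * i * t / 2 = i * t := by
      have : 2 * i * t = 2 * (i * t) := by ring
      rw [this]
      omega
    rw [hn, pow_mul, hi, pow_orderOf_eq_one, one_pow]
    simp

omit [Fintype F] in
/-- the fixed space of a matrix of order prime to the characteristic -/
theorem finrank_fixed_eq_rootMultiplicity {ι : Type*} [Fintype ι] [DecidableEq ι]
    (M : Matrix ι ι F) (r : ℕ) (hr0 : (r : F) ≠ 0) (hM : M ^ r = 1) :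
    finrank F (Module.End.eigenspace (Matrix.toLin' M) 1) = M.charpoly.rootMultiplicity 1 := by
  have hss : Module.End.IsSemisimple (Matrix.toLin' M) :=
    isSemisimple_of_pow_eq_smul _ r hr0 1 one_ne_zero (by
      rw [← Matrix.toLin'_pow, hM, Matrix.toLin'_one, one_smul]
      rfl)
  rw [← hss.isFinitelySemisimple.maxGenEigenspace_eq_eigenspace, LinearMap.finrank_maxGenEigenspace_eq,
    Matrix.charpoly_toLin']

/-- matrices of order `r` preserving the plus form with `s` blocks -/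
theorem exists_elt_plus (p : ℕ) [Fact p.Prime] [CharP F p] (r : ℕ) [hr : Fact r.Prime]
    (hr2 : r ≠ 2) (hrp : r ≠ p) (d s : ℕ) (hs : 1 ≤ s)
    (hsd : cOf (orderOf ((Fintype.card F : ℕ) : ZMod r)) * s ≤ 2 * d)
    (hfull : cOf (orderOf ((Fintype.card F : ℕ) : ZMod r)) * s = 2 * d →
      tau (orderOf ((Fintype.card F : ℕ) : ZMod r)) s = 1) :
    ∃ M : Matrix (Fin d ⊕ Fin d) (Fin d ⊕ Fin d) F,
      (∀ v, Cfsg.quadFormPlus d F (M.mulVec v) = Cfsg.quadFormPlus d F v) ∧ M ^ r = 1 ∧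
      finrank F (Module.End.eigenspace (Matrix.toLin' M) 1) =
        2 * d - cOf (orderOf ((Fintype.card F : ℕ) : ZMod r)) * s := by
  have hodd : Odd r := hr.out.odd_of_ne_two hr2
  have hr0 : (r : F) ≠ 0 := ne_zero_of_ne' p r hr.out hrp
  have hrq := not_dvd_card (F := F) p r hrp
  obtain ⟨x, hx1, hx2, hx3⟩ := exists_elt (F := F) p r hr2 hrp d s hs hsd
  obtain ⟨S, hS⟩ : ∃ S : Matrix (Fin d ⊕ Fin d) (Fin d ⊕ Fin d) F, S = x.1 := ⟨_, rfl⟩
  rw [← hS] at hx1 hx2 hx3
  have hSr : S ^ r = 1 := by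
    apply Matrix.toLin'.injective
    rw [Matrix.toLin'_pow, hx1, Matrix.toLin'_one]
    rfl
  have hS1 : S ≠ 1 := by
    intro h
    apply hx3 1
    rw [h, one_smul]
  have hcond : (X - 1 : F[X]) ∣ S.charpoly ∨ ((Fintype.card F : ℕ) : ZMod r) ^ d = 1 := by
    by_cases hcs : cOf (orderOf ((Fintype.card F : ℕ) : ZMod r)) * s = 2 * d
    · right
      have h1 := pow_eq_tau (F := F) p r hrp s
      rw [hfull hcs, hcs] at h1
      have h2 : 2 * d / 2 = d := by omega
      rw [h2] at h1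
      rw [h1]
      simp
    · left
      rw [← exists_fixed_iff]
      have hpos : 0 < finrank F (Module.End.eigenspace (Matrix.toLin' S) 1) := by
        rw [hx2]; omega
      rw [Module.finrank_pos_iff_exists_ne_zero] at hpos
      obtain ⟨w, hw⟩ := hpos
      refine ⟨w.1, fun h => hw (Subtype.ext h), ?_⟩
      have := w.2
      rw [Module.End.mem_eigenspace_iff, one_smul, Matrix.toLin'_apply] at this
      exact this
  obtain ⟨M, hM1, hM2, hM3⟩ :=
    (exists_even_of_sp hodd hrq hr0 d S (by rw [hS]; exact x.2) hSr hS1).1 hcond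
  refine ⟨M, hM1, hM3, ?_⟩
  rw [finrank_fixed_eq_rootMultiplicity M r hr0 hM3, hM2,
    ← finrank_fixed_eq_rootMultiplicity S r hr0 hSr, hx2]

end elts

end Cfsg.Agent.Lib.Helper6.OrtS
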