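import Mathlib
import Cfsg.Agent.Lib.Helper6.OrtS10
import Cfsg.Agent.S0760
import Cfsg.Prelude.Def_GeometricClasses

/-!
# Sign `+1` means plus type (a totally singular subspace of half the dimension)
-/

set_option autoImplicit false

namespace Cfsg.Agent.Lib.Helper6.OrtS

open Module Submodule QuadraticMap Cfsg.Agent.Lib.Helper15.PSpI
  Cfsg.Agent.Lib.Helper14.OrthEven

universe u

section minus

variable {F : Type u} [Field F] [Fintype F] (k : ℕ) (a b : F)

open Cfsg.Agent.Lib.Helper15

/-- totally singular subspaces of the minus type space have dimension at most `k`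
(all characteristics; after `Helper13.minus_ts_finrank_le`) -/
theorem minus_ts_finrank_le'
    (hab : ∀ z₁ z₂ : F, z₁ ^ 2 + a * z₁ * z₂ + b * z₂ ^ 2 = 0 → z₁ = 0 ∧ z₂ = 0)
    (W : Submodule F ((Fin k ⊕ Fin k) ⊕ Fin 2 → F))
    (hW : ∀ w ∈ W, Qgen k (binForm a b) w = 0) : finrank F W ≤ k := by
  classical
  have hQ := nondegenerate_Qgen k (binForm a b) (nondegenerate_binForm a b hab)
  let E : Submodule F ((Fin k ⊕ Fin k) ⊕ Fin 2 → F) :=
    { carrier := {v | (∀ i, v (Sum.inl (Sum.inr i)) = 0) ∧ ∀ j, v (Sum.inr j) = 0}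
      add_mem' := fun {x y} hx hy =>
        ⟨fun i => by rw [Pi.add_apply, hx.1, hy.1, add_zero],
          fun j => by rw [Pi.add_apply, hx.2, hy.2, add_zero]⟩
      zero_mem' := ⟨fun i => rfl, fun j => rfl⟩
      smul_mem' := fun c x hx =>
        ⟨fun i => by rw [Pi.smul_apply, hx.1, smul_zero],
          fun j => by rw [Pi.smul_apply, hx.2, smul_zero]⟩ }
  have hE : ∀ v, v ∈ E ↔ (∀ i, v (Sum.inl (Sum.inr i)) = 0) ∧ ∀ j, v (Sum.inr j) = 0 :=
    fun v => Iff.rfl
  have hEdim : finrank F E ≤ k := by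
    let φ : E →ₗ[F] (Fin k → F) :=
      (LinearMap.funLeft F F
        (fun i : Fin k => (Sum.inl (Sum.inl i) : (Fin k ⊕ Fin k) ⊕ Fin 2))).comp E.subtype
    have hφ : Function.Injective φ := by
      rw [← LinearMap.ker_eq_bot, LinearMap.ker_eq_bot']
      intro v hv
      apply Subtype.ext
      funext c
      rcases c with (i | i) | j
      · exact congrFun hv i
      · exact ((hE v.1).mp v.2).1 i
      · exact ((hE v.1).mp v.2).2 j
    have := LinearMap.finrank_le_finrank_of_injective hφ
    rwa [Module.finrank_fintype_fun_eq_card, Fintype.card_fin] at this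
  have hEts : ∀ w ∈ E, Qgen k (binForm a b) w = 0 := by
    intro w hw
    obtain ⟨hw1, hw2⟩ := (hE w).mp hw
    rw [Qgen_apply]
    have h1 : (fun a => w (Sum.inr a)) = 0 := funext (fun j => hw2 j)
    rw [h1, map_zero, add_zero]
    apply Finset.sum_eq_zero
    intro i _
    rw [hw1 i, mul_zero]
  have hEmax : ∀ U : Submodule F ((Fin k ⊕ Fin k) ⊕ Fin 2 → F), E ≤ U →
      (∀ w ∈ U, Qgen k (binForm a b) w = 0) → U = E := by
    intro U hEU hU
    apply le_antisymm _ hEU
    intro u hu
    have hy : ∀ i, u (Sum.inl (Sum.inr i)) = 0 := by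
      intro i
      have hei : (stdE k i : (Fin k ⊕ Fin k) ⊕ Fin 2 → F) ∈ U := by
        apply hEU
        rw [hE]
        exact ⟨fun i' => by simp [stdE], fun j => by simp [stdE]⟩
      have hpol : polar (Qgen k (binForm a b)) (stdE k i : (Fin k ⊕ Fin k) ⊕ Fin 2 → F) u = 0 := by
        unfold polar
        rw [hU _ (U.add_mem hei hu), hU _ hei, hU _ hu]
        simp
      rw [polar_Qgen] at hpol
      have h4 : (fun a : Fin 2 => (stdE k i : (Fin k ⊕ Fin k) ⊕ Fin 2 → F) (Sum.inr a)) = 0 := by
        funext a; simp [stdE]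
      rw [h4, polar_zero_left, add_zero] at hpol
      simpa [stdE, Pi.single_apply, Finset.sum_ite_eq, Finset.sum_ite_eq'] using hpol
    rw [hE]
    refine ⟨hy, ?_⟩
    have hQu := hU u hu
    rw [Qgen_apply] at hQu
    have h0 : ∑ i : Fin k, u (Sum.inl (Sum.inl i)) * u (Sum.inl (Sum.inr i)) = 0 :=
      Finset.sum_eq_zero (fun i _ => by rw [hy i, mul_zero])
    rw [h0, zero_add] at hQu
    have hz := (binForm_eq_zero_iff a b hab _).mp hQu
    intro j
    exact congrFun hz j
  exact (Cfsg.Agent.S0760.le_of_max _ hQ E W hEts hW hEmax).trans hEdim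

end minus

section plus

variable {F : Type u} {V : Type*} [Field F] [Fintype F] [AddCommGroup V] [Module F V]
  [FiniteDimensional F V]
variable (Q : QuadraticForm F V)

/-- sign `+1` iff there is a totally singular subspace of half the dimension -/
theorem sgnOn_one_iff_plus (W : Submodule F V) (hW : NondegOn (polarBilin Q) W) (n : ℕ)
    (hn : finrank F W = 2 * n) :
    SgnOn Q W 1 ↔ ∃ U : Submodule F V, U ≤ W ∧ (∀ u ∈ U, Q u = 0) ∧ finrank F U = n := by
  have hn2 : finrank F W / 2 = n := by omega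
  constructor
  · intro hs
    rcases Nat.eq_zero_or_pos n with h0 | hpos
    · exact ⟨⊥, bot_le, fun u hu => by rw [(mem_bot F).mp hu, map_zero], by rw [finrank_bot, h0]⟩
    · have hs' : HasSign (⇑(Qr Q W)) n 1 := by
        have := hs
        unfold SgnOn at this
        rwa [hn2] at this
      rcases sign_cases (Qr Q W) (nondegenerate_Qr Q hW) n hpos hn with ⟨-, g, hg⟩ | ⟨h, -⟩
      · let ι₀ : (Fin n → F) →ₗ[F] (Fin n ⊕ Fin n → F) :=
          { toFun := fun a => Sum.elim a 0
            map_add' := fun a b => by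
              funext c
              rcases c with c | c <;> simp
            map_smul' := fun c a => by
              funext c'
              rcases c' with c' | c' <;> simp }
        let f : (Fin n → F) →ₗ[F] V := W.subtype ∘ₗ g.symm.toLinearMap ∘ₗ ι₀
        have hf : Function.Injective f := by
          intro a b hab
          have h1 : g.symm (ι₀ a) = g.symm (ι₀ b) := Subtype.ext hab
          have h2 := g.symm.injective h1
          funext c
          have := congrFun h2 (Sum.inl c)
          exact this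
        refine ⟨LinearMap.range f, ?_, ?_, ?_⟩
        · rintro _ ⟨a, rfl⟩
          exact (g.symm (ι₀ a)).2
        · rintro _ ⟨a, rfl⟩
          have h1 : Q (f a) = Qr Q W (g.symm (ι₀ a)) := rfl
          rw [h1, hg, LinearEquiv.apply_symm_apply]
          unfold Cfsg.quadFormPlus
          apply Finset.sum_eq_zero
          intro j _
          show Sum.elim a (0 : Fin n → F) (Sum.inl j) * Sum.elim a (0 : Fin n → F) (Sum.inr j) = 0
          simp
        · rw [LinearMap.finrank_range_of_inj hf, Module.finrank_fintype_fun_eq_card,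
            Fintype.card_fin]
      · exfalso
        have := HasSign.unique hs' h
        omega
  · rintro ⟨U, hUW, hU0, hUf⟩
    rcases sgnOn_cases Q hW n hn with h | h
    · exact h
    · exfalso
      rcases Nat.eq_zero_or_pos n with h0 | hpos
      · have hb : W = ⊥ := Submodule.finrank_eq_zero.mp (by rw [hn, h0])
        rw [hb] at h
        have := SgnOn.unique Q h (sgnOn_bot Q)
        omega
      · have hs' : HasSign (⇑(Qr Q W)) n (-1) := by
          have := h
          unfold SgnOn at this
          rwa [hn2] at this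
        rcases sign_cases (Qr Q W) (nondegenerate_Qr Q hW) n hpos hn with ⟨h1, -⟩ | ⟨-, ζ, hζ, g, hg⟩
        · have := HasSign.unique hs' h1
          omega
        · let f : U →ₗ[F] ((Fin (n - 1) ⊕ Fin (n - 1)) ⊕ Fin 2 → F) :=
            g.toLinearMap ∘ₗ Submodule.inclusion hUW
          have hf : Function.Injective f :=
            g.injective.comp (Submodule.inclusion_injective hUW)
          have h2 := minus_ts_finrank_le' (n - 1) 1 ζ hζ (LinearMap.range f) (by
            rintro _ ⟨u, rfl⟩
            rw [Qgen_binForm_apply]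
            show Cfsg.quadFormMinus (n - 1) F 1 ζ (g (Submodule.inclusion hUW u)) = 0
            rw [← hg]
            exact hU0 u.1 u.2)
          rw [LinearMap.finrank_range_of_inj hf, hUf] at h2
          omega

end plus

section translate

variable {F : Type u} {ι : Type} [Fintype ι] [DecidableEq ι] [Field F] [Fintype F]
variable (Q : QuadraticForm F (ι → F))

omit [Fintype F] [DecidableEq ι] in
theorem isNondegenerateOn_iff (W : Submodule F (ι → F)) :
    Cfsg.Geo.IsNondegenerateOn (QuadraticMap.polar ⇑Q) W ↔ NondegOn (polarBilin Q) W := by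
  constructor
  · intro h u hu h0
    by_contra hne
    obtain ⟨-, x, hx, hx0⟩ := h u hu hne
    exact hx0 (h0 x hx)
  · intro h w hw hw0
    have : ∃ x ∈ W, polar Q w x ≠ 0 := by
      by_contra hcon
      push Not at hcon
      exact hw0 (h w hw hcon)
    obtain ⟨x, hx, hx0⟩ := this
    exact ⟨⟨x, hx, by rw [polar_comm]; exact hx0⟩, ⟨x, hx, hx0⟩⟩

omit [Fintype F] [DecidableEq ι] in
theorem nondegOn_iff' (W : Submodule F (ι → F)) :
    (∀ u ∈ W, u ≠ 0 → ∃ v ∈ W, QuadraticMap.polar ⇑Q u v ≠ 0) ↔ NondegOn (polarBilin Q) W := by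
  constructor
  · intro h u hu h0
    by_contra hne
    obtain ⟨x, hx, hx0⟩ := h u hu hne
    exact hx0 (h0 x hx)
  · intro h w hw hw0
    by_contra hcon
    push Not at hcon
    exact hw0 (h w hw hcon)

omit [DecidableEq ι] in
/-- membership in the set of minus type `m`-subspaces, in the vocabulary of the statements -/
theorem mem_NSet_minus_iff (m : ℕ) (hm : Even m) (W : Submodule F (ι → F)) :
    W ∈ NSet Q m (-1) ↔ (finrank F W = m ∧
      Cfsg.Geo.IsNondegenerateOn (QuadraticMap.polar ⇑Q) W ∧ ¬ Cfsg.Geo.IsPlusTypeOn ⇑Q W) := by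
  obtain ⟨n, hn⟩ := hm
  constructor
  · rintro ⟨h1, h2, h3⟩
    refine ⟨h1, (isNondegenerateOn_iff Q W).mpr h2, ?_⟩
    rintro ⟨U, hUW, hU0, hUf⟩
    have h4 := (sgnOn_one_iff_plus Q W h2 n (by omega)).mpr ⟨U, hUW, hU0, by omega⟩
    have := SgnOn.unique Q h3 h4
    omega
  · rintro ⟨h1, h2, h3⟩
    have h2' := (isNondegenerateOn_iff Q W).mp h2
    refine ⟨h1, h2', ?_⟩
    rcases sgnOn_cases Q h2' n (by omega) with h | h
    · exfalso
      obtain ⟨U, hUW, hU0, hUf⟩ := (sgnOn_one_iff_plus Q W h2' n (by omega)).mp h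
      exact h3 ⟨U, hUW, hU0, by omega⟩
    · exact h

omit [DecidableEq ι] in
/-- membership in the set of plus type `m`-subspaces, in the vocabulary of the statements -/
theorem mem_NSet_plus_iff (m : ℕ) (hm : Even m) (W : Submodule F (ι → F)) :
    W ∈ NSet Q m 1 ↔ (finrank F W = m ∧
      Cfsg.Geo.IsNondegenerateOn (QuadraticMap.polar ⇑Q) W ∧ Cfsg.Geo.IsPlusTypeOn ⇑Q W) := by
  obtain ⟨n, hn⟩ := hm
  constructor
  · rintro ⟨h1, h2, h3⟩
    refine ⟨h1, (isNondegenerateOn_iff Q W).mpr h2, ?_⟩
    obtain ⟨U, hUW, hU0, hUf⟩ := (sgnOn_one_iff_plus Q W h2 n (by omega)).mp h3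
    exact ⟨U, hUW, hU0, by omega⟩
  · rintro ⟨h1, h2, U, hUW, hU0, hUf⟩
    have h2' := (isNondegenerateOn_iff Q W).mp h2
    exact ⟨h1, h2', (sgnOn_one_iff_plus Q W h2' n (by omega)).mpr ⟨U, hUW, hU0, by omega⟩⟩

end translate

end Cfsg.Agent.Lib.Helper6.OrtS
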