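import Mathlib
import Cfsg.Agent.Lib.Helper6.OrtS12

/-!
# Arithmetic of the numerical criterion: lexicographic form
-/

set_option autoImplicit false

namespace Cfsg.Agent.Lib.Helper6.OrtS

open Cfsg.Agent.Lib.Helper15.PSpJ

theorem tau_even_cases (i : ℕ) (hi : Even i) (x : ℕ) :
    (tau i x = 1 ∧ x % 2 = 0) ∨ (tau i x = -1 ∧ x % 2 = 1) := by
  unfold tau
  rw [if_pos hi]
  rcases Nat.even_or_odd x with h | h
  · left
    exact ⟨h.neg_one_pow, Nat.even_iff.mp h⟩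
  · right
    exact ⟨h.neg_one_pow, Nat.odd_iff.mp h⟩

theorem tau_odd (i : ℕ) (hi : ¬ Even i) (x : ℕ) : tau i x = 1 := by
  unfold tau
  rw [if_neg hi]

/-- comparison of `c a + ℓ` with `c b + k` -/
theorem lex_le (c a b l k : ℕ) (hl : l < c) (hk : k < c) :
    c * a + l ≤ c * b + k ↔ (a < b ∨ (a = b ∧ l ≤ k)) := by
  constructor
  · intro h
    rcases Nat.lt_trichotomy a b with hab | hab | hab
    · exact Or.inl hab
    · subst hab
      right
      exact ⟨rfl, by omega⟩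
    · exfalso
      have : c * (b + 1) ≤ c * a := Nat.mul_le_mul_left c hab
      rw [mul_add, mul_one] at this
      omega
  · rintro (hab | ⟨rfl, hlk⟩)
    · have : c * (a + 1) ≤ c * b := Nat.mul_le_mul_left c hab
      rw [mul_add, mul_one] at this
      omega
    · omega

theorem lex_eq (c a b l k : ℕ) (hl : l < c) (hk : k < c) :
    c * a + l = c * b + k ↔ (a = b ∧ l = k) := by
  constructor
  · intro h
    have h1 := (lex_le c a b l k hl hk).mp h.le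
    have h2 := (lex_le c b a k l hk hl).mp h.ge
    omega
  · rintro ⟨rfl, rfl⟩
    rfl

theorem hasSub_lex (c a b l k : ℕ) (θ κ : ℤ) (hc : 0 < c) (hl : l < c) (hk : k < c) :
    HasSub (c * a + l) θ (c * b + k) κ ↔
      (a < b ∨ (a = b ∧ l ≤ k)) ∧ ((a = 0 ∧ l = 0) → θ = 1) ∧ ((a = b ∧ l = k) → θ = κ) := by
  unfold HasSub
  rw [lex_le c a b l k hl hk, lex_eq c a b l k hl hk]
  have h0 : c * a + l = 0 ↔ (a = 0 ∧ l = 0) := by
    constructor
    · intro h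
      have h1 : c * a = 0 := by omega
      rcases Nat.mul_eq_zero.mp h1 with h2 | h2
      · omega
      · exact ⟨h2, by omega⟩
    · rintro ⟨rfl, rfl⟩
      simp
  rw [h0]

/-- the criterion without multiplications -/
def CritL (s₀ k m₀ l : ℕ) (η : ℤ) (i : ℕ) : Prop :=
  ∀ s, 1 ≤ s → s ≤ s₀ → (s = s₀ → k = 0 → tau i s = 1) →
    ∃ t, t ≤ s ∧ t ≤ m₀ ∧
      ((m₀ - t < s₀ - s ∨ (m₀ - t = s₀ - s ∧ l ≤ k)) ∧
        ((m₀ - t = 0 ∧ l = 0) → η * tau i t = 1) ∧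
        ((m₀ - t = s₀ - s ∧ l = k) → η * tau i t = tau i s))

theorem crit_lex (n m i : ℕ) (hi : 0 < i) (η : ℤ) :
    Crit n 1 m η i ↔ CritL (n / cOf i) (n % cOf i) (m / cOf i) (m % cOf i) η i := by
  obtain ⟨c, hc⟩ : ∃ c, c = cOf i := ⟨_, rfl⟩
  have hcpos : 0 < c := by rw [hc]; exact cOf_pos hi
  rw [← hc]
  have hn := Nat.div_add_mod n c
  have hm := Nat.div_add_mod m c
  have hk := Nat.mod_lt n hcpos
  have hl := Nat.mod_lt m hcpos
  obtain ⟨s₀, hs₀⟩ : ∃ s₀, s₀ = n / c := ⟨_, rfl⟩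
  obtain ⟨k, hk'⟩ : ∃ k, k = n % c := ⟨_, rfl⟩
  obtain ⟨m₀, hm₀⟩ : ∃ m₀, m₀ = m / c := ⟨_, rfl⟩
  obtain ⟨l, hl'⟩ : ∃ l, l = m % c := ⟨_, rfl⟩
  rw [← hs₀, ← hk'] at hn
  rw [← hm₀, ← hl'] at hm
  rw [← hk'] at hk
  rw [← hl'] at hl
  rw [← hs₀, ← hk', ← hm₀, ← hl']
  unfold Crit CritL
  rw [← hc]
  have hle_s : ∀ s, c * s ≤ n ↔ s ≤ s₀ := by
    intro s
    rw [hs₀, Nat.le_div_iff_mul_le hcpos, mul_comm]
  have hle_t : ∀ t, c * t ≤ m ↔ t ≤ m₀ := by
    intro t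
    rw [hm₀, Nat.le_div_iff_mul_le hcpos, mul_comm]
  have hsub_s : ∀ s, s ≤ s₀ → n - c * s = c * (s₀ - s) + k := by
    intro s hs
    have : c * (s₀ - s) = c * s₀ - c * s := Nat.mul_sub c s₀ s
    have h2 : c * s ≤ c * s₀ := Nat.mul_le_mul_left c hs
    omega
  have hsub_t : ∀ t, t ≤ m₀ → m - c * t = c * (m₀ - t) + l := by
    intro t ht
    have : c * (m₀ - t) = c * m₀ - c * t := Nat.mul_sub c m₀ t
    have h2 : c * t ≤ c * m₀ := Nat.mul_le_mul_left c ht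
    omega
  have hfull : ∀ s, s ≤ s₀ → (c * s = n ↔ (s = s₀ ∧ k = 0)) := by
    intro s hs
    constructor
    · intro h
      have h1 := hsub_s s hs
      rw [h, Nat.sub_self] at h1
      have h2 : c * (s₀ - s) = 0 := by omega
      rcases Nat.mul_eq_zero.mp h2 with h3 | h3
      · omega
      · exact ⟨by omega, by omega⟩
    · rintro ⟨rfl, hk0⟩
      omega
  constructor
  · intro h s hs1 hss hf
    obtain ⟨t, hts, htm, hsub⟩ := h s hs1 ((hle_s s).mpr hss) (fun hcs => by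
      obtain ⟨h1, h2⟩ := (hfull s hss).mp hcs
      exact hf h1 h2)
    have htm' := (hle_t t).mp htm
    rw [hsub_t t htm', hsub_s s hss, one_mul, hasSub_lex c _ _ l k _ _ hcpos hl hk] at hsub
    exact ⟨t, hts, htm', hsub⟩
  · intro h s hs1 hsn hf
    have hss := (hle_s s).mp hsn
    obtain ⟨t, hts, htm, hsub⟩ := h s hs1 hss (fun h1 h2 => hf ((hfull s hss).mpr ⟨h1, h2⟩))
    refine ⟨t, hts, (hle_t t).mpr htm, ?_⟩
    rw [hsub_t t htm, hsub_s s hss, one_mul, hasSub_lex c _ _ l k _ _ hcpos hl hk]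
    exact hsub

end Cfsg.Agent.Lib.Helper6.OrtS
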