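import Mathlib
import Cfsg.Agent.Lib.Helper6.OrtA1

/-!
# Arithmetic of the numerical criterion: closed forms
-/

set_option autoImplicit false

namespace Cfsg.Agent.Lib.Helper6.OrtS

open Cfsg.Agent.Lib.Helper15.PSpJ

theorem critL_odd (s₀ k m₀ l : ℕ) (η : ℤ) (i : ℕ) (hi : ¬ Even i) (hη : η = 1 ∨ η = -1)
    (hside : m₀ < s₀ ∨ s₀ = 0) :
    CritL s₀ k m₀ l η i ↔ (s₀ = 0 ∨ (η = 1 ∧ l ≤ k) ∨ (η = -1 ∧ 0 < l ∧ l < k)) := by
  have ht : ∀ x, tau i x = 1 := tau_odd i hi
  unfold CritL
  constructor
  · intro h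
    by_cases hs0 : s₀ = 0
    · exact Or.inl hs0
    right
    obtain ⟨t, hts, htm, hlex, h1, h2⟩ := h s₀ (by omega) le_rfl (fun _ _ => ht s₀)
    rw [ht] at h1 h2
    rw [ht] at h2
    rcases hη with rfl | rfl
    · left
      exact ⟨rfl, by omega⟩
    · right
      have hl0 : l ≠ 0 := by
        intro hl
        have := h1 ⟨by omega, hl⟩
        norm_num at this
      have hlk : l ≠ k := by
        intro hl
        have := h2 ⟨by omega, hl⟩
        norm_num at this
      exact ⟨rfl, by omega, by omega⟩
  · rintro (hs0 | ⟨rfl, hlk⟩ | ⟨rfl, hl0, hlk⟩) s hs1 hss hf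
    · exfalso; omega
    · by_cases hsm : s ≤ m₀
      · exact ⟨s, le_rfl, hsm, Or.inl (by omega), fun _ => by simp only [ht]; norm_num,
          fun _ => by simp only [ht]; norm_num⟩
      · exact ⟨m₀, by omega, le_rfl, by omega, fun _ => by simp only [ht]; norm_num,
          fun _ => by simp only [ht]; norm_num⟩
    · by_cases hsm : s ≤ m₀
      · exact ⟨s, le_rfl, hsm, Or.inl (by omega), fun h => by exfalso; omega,
          fun h => by exfalso; omega⟩
      · exact ⟨m₀, by omega, le_rfl, by omega, fun h => by exfalso; omega,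
          fun h => by exfalso; omega⟩

theorem critL_even_pos (s₀ k m₀ l : ℕ) (η : ℤ) (i : ℕ)
    (hside : m₀ < s₀ ∨ s₀ = 0) (hl : 0 < l) :
    CritL s₀ k m₀ l η i ↔ (s₀ = 0 ∨ (k = 0 ∧ tau i s₀ = -1) ∨
      (0 < k ∧ (l < k ∨ (l = k ∧ η * tau i m₀ = tau i s₀)))) := by
  unfold CritL
  constructor
  · intro h
    by_cases hs0 : s₀ = 0
    · exact Or.inl hs0
    right
    by_cases hk : k = 0
    · left
      refine ⟨hk, ?_⟩
      rcases tau_cases i s₀ with h1 | h1
      · exfalso
        obtain ⟨t, hts, htm, hlex, -, -⟩ := h s₀ (by omega) le_rfl (fun _ _ => h1)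
        omega
      · exact h1
    · right
      refine ⟨by omega, ?_⟩
      obtain ⟨t, hts, htm, hlex, -, h2⟩ := h s₀ (by omega) le_rfl (fun _ hk' => absurd hk' hk)
      have htm' : t = m₀ := by omega
      subst htm'
      by_cases hlk : l = k
      · right
        exact ⟨hlk, h2 ⟨by omega, hlk⟩⟩
      · left
        omega
  · rintro (hs0 | ⟨hk, hs⟩ | ⟨hk, hlk⟩) s hs1 hss hf
    · exfalso; omega
    · have hne : s ≠ s₀ := by
        rintro rfl
        have := hf rfl hk
        rw [hs] at this
        norm_num at this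
      by_cases hsm : s ≤ m₀
      · exact ⟨s, le_rfl, hsm, Or.inl (by omega), fun h => by exfalso; omega,
          fun h => by exfalso; omega⟩
      · exact ⟨m₀, by omega, le_rfl, Or.inl (by omega), fun h => by exfalso; omega,
          fun h => by exfalso; omega⟩
    · by_cases hne : s = s₀
      · subst hne
        refine ⟨m₀, by omega, le_rfl, Or.inr ⟨by omega, by omega⟩, fun h => by exfalso; omega,
          fun h => ?_⟩
        rcases hlk with hlk | ⟨-, hlk⟩
        · exfalso; omega
        · exact hlk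
      · by_cases hsm : s ≤ m₀
        · exact ⟨s, le_rfl, hsm, Or.inl (by omega), fun h => by exfalso; omega,
            fun h => by exfalso; omega⟩
        · exact ⟨m₀, by omega, le_rfl, Or.inl (by omega), fun h => by exfalso; omega,
            fun h => by exfalso; omega⟩

theorem tau_succ (i : ℕ) (hi : Even i) (x : ℕ) : tau i (x + 1) = - tau i x := by
  unfold tau
  rw [if_pos hi, if_pos hi, pow_succ]
  ring

theorem critL_even_zero (s₀ k m₀ : ℕ) (η : ℤ) (i : ℕ) (hi : Even i) (hη : η = 1 ∨ η = -1)
    (hside : m₀ < s₀ ∨ s₀ = 0) (hm₀ : 1 ≤ m₀) :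
    CritL s₀ k m₀ 0 η i ↔ (s₀ = 0 ∨ η * tau i m₀ = 1 ∨ (k = 0 ∧ tau i s₀ = -1)) := by
  unfold CritL
  constructor
  · intro h
    by_cases hs0 : s₀ = 0
    · exact Or.inl hs0
    right
    by_cases hP : η * tau i m₀ = 1
    · exact Or.inl hP
    right
    by_contra hcon
    have hf : s₀ = s₀ → k = 0 → tau i s₀ = 1 := by
      intro _ hk
      rcases tau_cases i s₀ with h1 | h1
      · exact h1
      · exact absurd ⟨hk, h1⟩ hcon
    obtain ⟨t, hts, htm, hlex, h1, -⟩ := h s₀ (by omega) le_rfl hf
    have htm' : t = m₀ := by omega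
    subst htm'
    exact hP (h1 ⟨by omega, rfl⟩)
  · intro hyp s hs1 hss hf
    by_cases hsm : s < m₀
    · exact ⟨s, le_rfl, hsm.le, Or.inl (by omega), fun h => by exfalso; omega,
        fun h => by exfalso; omega⟩
    by_cases hP : η * tau i m₀ = 1
    · by_cases hne : s = s₀
      · subst hne
        refine ⟨m₀, by omega, le_rfl, Or.inr ⟨by omega, Nat.zero_le _⟩, fun _ => hP, fun h => ?_⟩
        rw [hP, hf rfl h.2.symm]
      · exact ⟨m₀, by omega, le_rfl, Or.inl (by omega), fun _ => hP, fun h => by exfalso; omega⟩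
    · rcases hyp with hs0 | hP' | ⟨hk, hs⟩
      · exfalso; omega
      · exact absurd hP' hP
      · have hne : s ≠ s₀ := by
          rintro rfl
          have := hf rfl hk
          rw [hs] at this
          norm_num at this
        refine ⟨m₀ - 1, by omega, by omega, by omega, fun h => by exfalso; omega, fun h => ?_⟩
        have hs' : s₀ = s + 1 := by omega
        have hm' : m₀ = (m₀ - 1) + 1 := by omega
        have e1 : tau i m₀ = - tau i (m₀ - 1) := by
          conv_lhs => rw [hm']
          exact tau_succ i hi _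
        have e2 : tau i s = 1 := by
          have := tau_succ i hi s
          rw [← hs', hs] at this
          linarith
        rw [e2]
        rw [e1] at hP
        rcases tau_cases i (m₀ - 1) with h3 | h3 <;> rcases hη with rfl | rfl <;>
          rw [h3] at hP ⊢ <;> first | (exfalso; norm_num at hP; done) | norm_num

end Cfsg.Agent.Lib.Helper6.OrtS
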