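import Mathlib
import Cfsg.Agent.Lib.Helper6.OrtS12

/-!
# The exceptional case of the counting lemma: `r` does not divide the number of subspaces
-/

set_option autoImplicit false

namespace Cfsg.Agent.Lib.Helper6.OrtS

open Module Submodule QuadraticMap Cfsg.Agent.Lib.Helper15.PSpI
  Cfsg.Agent.Lib.Helper14.OrthEven
  Cfsg.Agent.Lib.Helper15.PSpJ Cfsg.Agent.Lib.Helper15.PDec Cfsg.Agent.Lib.Helper15.PSub

universe u

/-- the exceptional numerical condition -/
def Extra (n : ℕ) (ε : ℤ) (m : ℕ) (η : ℤ) (i : ℕ) : Prop :=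
  m < cOf i ∧ 0 < n % cOf i ∧ HasSub m η (n % cOf i) (ε * tau i (n / cOf i))

section gt

variable {F : Type u} [Field F] [Fintype F] {ι : Type} [Fintype ι] [DecidableEq ι]
variable (Q : QuadraticForm F (ι → F))

theorem finrank_fixed_add_movPart (p : ℕ) [Fact p.Prime] [CharP F p] (r : ℕ) [hr : Fact r.Prime]
    (hrp : r ≠ p) (hQ : (polarBilin Q).Nondegenerate) (n : ℕ)
    (hn : Fintype.card ι = n)
    (y : (ι → F) →ₗ[F] (ι → F)) (hQy : ∀ v, Q (y v) = Q v) (hy : y ^ r = 1) :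
    finrank F ↥(Module.End.eigenspace y 1) +
      finrank F (movPart (polarBilin Q) y ⊤) = n := by
  have hr0 : (r : F) ≠ 0 := ne_zero_of_ne' p r hr.out hrp
  have hQt := nondegOn_top_of Q hQ
  have hS := pB_symm Q
  have hfr : finrank F (ι → F) = n := by rw [Module.finrank_fintype_fun_eq_card, hn]
  have hinj : Function.Injective y :=
    injective_of_pow_eq_smul y r 1 one_ne_zero (by rw [hy, one_smul]) hr.out.ne_zero
  have htop : (⊤ : Submodule F (ι → F)).map y = ⊤ :=
    map_eq_of_invt y hinj ⊤ (by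
      rw [Module.End.mem_invtSubmodule_iff_map_le]
      exact le_top)
  obtain ⟨-, -, -, hdim, -, -⟩ :=
    movPart_props' hS y (iso_of_Q Q y hQy) r hr.out.ne_zero hr0 hy ⊤ htop hQt
  rw [finrank_top, hfr, top_inf_eq] at hdim
  exact hdim

/-- In the exceptional case `r` does not divide the number of nondegenerate `m`-subspaces of
sign `η`. -/
theorem not_dvd_of_extra (p : ℕ) [Fact p.Prime] [CharP F p] (r : ℕ) [hr : Fact r.Prime]
    (hrp : r ≠ p) (hr2 : r ≠ 2) (hQ : (polarBilin Q).Nondegenerate) (n : ℕ)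
    (hn : Fintype.card ι = n) (hne : Even n)
    (ε : ℤ) (hε : ε = 1 ∨ ε = -1) (hsV : SgnOn Q ⊤ ε)
    (hExist : ∀ s, 1 ≤ s → cOf (orderOf ((Fintype.card F : ℕ) : ZMod r)) * s ≤ n →
      (cOf (orderOf ((Fintype.card F : ℕ) : ZMod r)) * s = n →
        tau (orderOf ((Fintype.card F : ℕ) : ZMod r)) s = ε) →
      ∃ M : Matrix ι ι F, (∀ v, Q (M.mulVec v) = Q v) ∧ M ^ r = 1 ∧
        finrank F (Module.End.eigenspace (Matrix.toLin' M) 1) =
          n - cOf (orderOf ((Fintype.card F : ℕ) : ZMod r)) * s)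
    (m : ℕ) (hm : Even m) (η : ℤ) (hη : η = 1 ∨ η = -1)
    (hex : Extra n ε m η (orderOf ((Fintype.card F : ℕ) : ZMod r))) :
    ¬ r ∣ Nat.card (NSet Q m η) := by
  obtain ⟨hcm, hk, hsub⟩ := hex
  have hQt := nondegOn_top_of Q hQ
  have hfr : finrank F (ι → F) = n := by rw [Module.finrank_fintype_fun_eq_card, hn]
  have hipos : 0 < orderOf ((Fintype.card F : ℕ) : ZMod r) := orderOf_pos_of_ne p r hrp
  have hcpos := cOf_pos hipos
  obtain ⟨c, hc⟩ : ∃ c, c = cOf (orderOf ((Fintype.card F : ℕ) : ZMod r)) := ⟨_, rfl⟩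
  rw [← hc] at hcm hk hsub hExist hcpos
  have hdm := Nat.div_add_mod n c
  have hkc := Nat.mod_lt n hcpos
  have hnsub : n - c * (n / c) = n % c := by omega
  -- an isometry with `n / c` blocks
  have hy : ∃ y : (ι → F) →ₗ[F] (ι → F), (∀ v, Q (y v) = Q v) ∧ y ^ r = 1 ∧
      finrank F (movPart (polarBilin Q) y ⊤) = c * (n / c) := by
    by_cases hs0 : n / c = 0
    · refine ⟨1, fun v => rfl, one_pow r, ?_⟩
      have h1 := finrank_fixed_add_movPart Q p r hrp hQ n hn 1 (fun v => rfl) (one_pow r)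
      have h3 : Module.End.eigenspace (1 : (ι → F) →ₗ[F] (ι → F)) 1 = ⊤ := by
        rw [eq_top_iff]
        intro v _
        rw [Module.End.mem_eigenspace_iff, one_smul]
        rfl
      rw [h3, finrank_top, hfr] at h1
      rw [hs0, mul_zero]
      omega
    · obtain ⟨M, hM1, hM2, hM3⟩ := hExist (n / c) (Nat.pos_of_ne_zero hs0) (Nat.mul_div_le n c)
        (by intro h; omega)
      have hQy : ∀ v, Q (Matrix.toLin' M v) = Q v := fun v => by
        rw [Matrix.toLin'_apply]; exact hM1 v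
      have hy : (Matrix.toLin' M) ^ r = 1 := by
        rw [← Matrix.toLin'_pow, hM2, Matrix.toLin'_one]
        rfl
      refine ⟨Matrix.toLin' M, hQy, hy, ?_⟩
      have h1 := finrank_fixed_add_movPart Q p r hrp hQ n hn _ hQy hy
      omega
  obtain ⟨y, hQy, hyr, hs⟩ := hy
  rw [hc] at hs hcm hnsub hkc
  refine not_dvd_card_NSet Q p r hrp hr2 hQt y hQy hyr n hfr hne ε hε hsV (n / c) ?_ m hm η hη
    hcm ?_ ?_
  · rw [hs, hc]
  · rw [hc, hnsub]; exact hkc
  · rw [hc, hnsub, ← hc]; exact hsub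

end gt

end Cfsg.Agent.Lib.Helper6.OrtS
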