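import Mathlib
import Cfsg.Agent.Lib.Helper6.OrtA2
import Cfsg.Agent.Lib.Helper6.OrtS13

/-!
# Arithmetic of the numerical criterion: the statements' right-hand sides
-/

set_option autoImplicit false

namespace Cfsg.Agent.Lib.Helper6.OrtS

open Cfsg.Agent.Lib.Helper15.PSpJ

theorem side_facts (c n m : ℕ) (hc : 0 < c) (h2 : 2 * m < n) :
    (m / c < n / c ∨ n / c = 0) ∧ (n / c = 0 → n % c = n ∧ m % c = m ∧ m / c = 0) ∧
    (m / c = 0 → m % c = m) ∧ (1 ≤ m / c → c ≤ m) ∧ (m < c → m / c = 0) ∧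
    (m % c = n % c → (n + m - 2 * (n % c)) / c = n / c + m / c) := by
  have hn := Nat.div_add_mod n c
  have hm := Nat.div_add_mod m c
  have hk := Nat.mod_lt n hc
  have hl := Nat.mod_lt m hc
  obtain ⟨s₀, hs₀⟩ : ∃ s₀, s₀ = n / c := ⟨_, rfl⟩
  obtain ⟨k, hk'⟩ : ∃ k, k = n % c := ⟨_, rfl⟩
  obtain ⟨m₀, hm₀⟩ : ∃ m₀, m₀ = m / c := ⟨_, rfl⟩
  obtain ⟨l, hl'⟩ : ∃ l, l = m % c := ⟨_, rfl⟩
  rw [← hs₀, ← hk'] at hn
  rw [← hm₀, ← hl'] at hm
  rw [← hk'] at hk
  rw [← hl'] at hl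
  rw [← hs₀, ← hk', ← hm₀, ← hl']
  have hm0 : m₀ = 0 → c * m₀ = 0 := by rintro rfl; rfl
  have hm1 : 1 ≤ m₀ → c ≤ c * m₀ := fun h => Nat.le_mul_of_pos_right c h
  have hs0 : s₀ = 0 → c * s₀ = 0 := by rintro rfl; rfl
  have hs1 : 1 ≤ s₀ → c ≤ c * s₀ := fun h => Nat.le_mul_of_pos_right c h
  have hsm : s₀ ≤ m₀ → c * s₀ ≤ c * m₀ := fun h => Nat.mul_le_mul_left c h
  refine ⟨?_, ?_, ?_, ?_, ?_, ?_⟩
  · by_contra hcon
    push Not at hcon
    have h3 := hsm (by omega)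
    have h4 := hs1 (by omega)
    omega
  · intro h0
    have h3 := hs0 h0
    have h4 : m₀ = 0 := by
      by_contra h5
      have := hm1 (by omega)
      omega
    have h5 := hm0 h4
    omega
  · intro h0
    have := hm0 h0
    omega
  · intro h1
    have := hm1 h1
    omega
  · intro h1
    by_contra h5
    have := hm1 (by omega)
    omega
  · intro hlk
    have h3 : n + m - 2 * k = c * (s₀ + m₀) := by
      rw [mul_add]
      omega
    rw [h3, Nat.mul_div_cancel_left _ hc]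

theorem cOf_of_even {i : ℕ} (hi : Even i) : cOf i = i := by
  unfold cOf
  rw [if_pos hi]

theorem cOf_of_not_even {i : ℕ} (hi : ¬ Even i) : cOf i = 2 * i := by
  unfold cOf
  rw [if_neg hi]

/-- the arithmetic of S5988 -/
theorem arith_minus (d m i : ℕ) (hi : 0 < i) (hm : 2 ≤ m) (hmd : m < d) :
    (Crit (2 * d) 1 m (-1) i ∧ ¬ Extra (2 * d) 1 m (-1) i) ↔
    ((Odd i ∧ cOf i ≤ m ∧ 0 < m % cOf i ∧ m % cOf i < (2 * d) % cOf i) ∨
     (Even i ∧
       (((2 * d) % cOf i = 0 ∧ (Odd ((2 * d) / i) ∨ (m % cOf i = 0 ∧ Odd (m / i)))) ∨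
        (i ≤ m ∧ ((0 < m % cOf i ∧ m % cOf i < (2 * d) % cOf i) ∨
                  (0 < m % cOf i ∧ m % cOf i = (2 * d) % cOf i ∧
                    Odd ((2 * d + m - 2 * ((2 * d) % cOf i)) / i)) ∨
                  (m % cOf i = 0 ∧ 0 < (2 * d) % cOf i ∧ Odd (m / i))))))) := by
  have hcpos := cOf_pos hi
  obtain ⟨hside, hf1, hf2, hf3, hf4, hf5⟩ := side_facts (cOf i) (2 * d) m hcpos (by omega)
  have hk := Nat.mod_lt (2 * d) hcpos
  have hl := Nat.mod_lt m hcpos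
  rw [crit_lex (2 * d) m i hi (-1)]
  unfold Extra HasSub
  by_cases hie : Even i
  · have hce := cOf_of_even hie
    rw [hce] at hside hf1 hf2 hf3 hf4 hf5 hk hl ⊢
    have hi2 : i % 2 = 0 := Nat.even_iff.mp hie
    generalize (2 * d) / i = s₀ at *
    generalize (2 * d) % i = k at *
    generalize m / i = m₀ at *
    generalize m % i = l at *
    generalize (2 * d + m - 2 * k) / i = X at *
    by_cases hl0 : l = 0
    · subst hl0
      have hm1 : 1 ≤ m₀ := by
        by_contra h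
        have := hf2 (by omega)
        omega
      rw [critL_even_zero s₀ k m₀ (-1) i hie (Or.inr rfl) hside hm1]
      rcases tau_even_cases i hie s₀ with ⟨a1, a2⟩ | ⟨a1, a2⟩ <;>
      rcases tau_even_cases i hie m₀ with ⟨b1, b2⟩ | ⟨b1, b2⟩ <;>
      simp only [a1, b1, Nat.odd_iff, Nat.even_iff, true_and, and_true] <;> omega
    · rw [critL_even_pos s₀ k m₀ l (-1) i hside (by omega)]
      rcases tau_even_cases i hie s₀ with ⟨a1, a2⟩ | ⟨a1, a2⟩ <;>
      rcases tau_even_cases i hie m₀ with ⟨b1, b2⟩ | ⟨b1, b2⟩ <;>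
      simp only [a1, b1, Nat.odd_iff, Nat.even_iff, true_and, and_true] <;> omega
  · have hce := cOf_of_not_even hie
    have hio : Odd i := Nat.not_even_iff_odd.mp hie
    obtain ⟨c, hc⟩ : ∃ c, c = cOf i := ⟨_, rfl⟩
    rw [← hc] at hside hf1 hf2 hf3 hf4 hf5 hk hl hce ⊢
    generalize (2 * d) / c = s₀ at *
    generalize (2 * d) % c = k at *
    generalize m / c = m₀ at *
    generalize m % c = l at *
    rw [critL_odd s₀ k m₀ l (-1) i hie (Or.inr rfl) hside, tau_odd i hie]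
    simp only [hie, hio, true_and, false_and, or_false]
    omega

/-- the arithmetic of S5974 -/
theorem arith_plus (d m i : ℕ) (hi : 0 < i) (hm : 2 ≤ m) (hmd : m < d) :
    (Crit (2 * d) 1 m 1 i ∧ ¬ Extra (2 * d) 1 m 1 i) ↔
    ((Odd i ∧ cOf i ≤ m ∧ m % cOf i ≤ (2 * d) % cOf i) ∨
     (Even i ∧
       (((2 * d) % cOf i = 0 ∧ (Odd ((2 * d) / i) ∨ (m % cOf i = 0 ∧ Even (m / i)))) ∨
        (i ≤ m ∧ ((m % cOf i < (2 * d) % cOf i ∧ 0 < m % cOf i) ∨
                  ((2 * d) % cOf i = m % cOf i ∧ 0 < m % cOf i ∧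
                    Even ((2 * d + m - 2 * ((2 * d) % cOf i)) / i)) ∨
                  (0 < (2 * d) % cOf i ∧ m % cOf i = 0 ∧ Even (m / i))))))) := by
  have hcpos := cOf_pos hi
  obtain ⟨hside, hf1, hf2, hf3, hf4, hf5⟩ := side_facts (cOf i) (2 * d) m hcpos (by omega)
  have hk := Nat.mod_lt (2 * d) hcpos
  have hl := Nat.mod_lt m hcpos
  rw [crit_lex (2 * d) m i hi 1]
  unfold Extra HasSub
  by_cases hie : Even i
  · have hce := cOf_of_even hie
    rw [hce] at hside hf1 hf2 hf3 hf4 hf5 hk hl ⊢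
    have hi2 : i % 2 = 0 := Nat.even_iff.mp hie
    generalize (2 * d) / i = s₀ at *
    generalize (2 * d) % i = k at *
    generalize m / i = m₀ at *
    generalize m % i = l at *
    generalize (2 * d + m - 2 * k) / i = X at *
    by_cases hl0 : l = 0
    · subst hl0
      have hm1 : 1 ≤ m₀ := by
        by_contra h
        have := hf2 (by omega)
        omega
      rw [critL_even_zero s₀ k m₀ 1 i hie (Or.inl rfl) hside hm1]
      rcases tau_even_cases i hie s₀ with ⟨a1, a2⟩ | ⟨a1, a2⟩ <;>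
      rcases tau_even_cases i hie m₀ with ⟨b1, b2⟩ | ⟨b1, b2⟩ <;>
      simp only [a1, b1, Nat.odd_iff, Nat.even_iff, true_and, and_true] <;> omega
    · rw [critL_even_pos s₀ k m₀ l 1 i hside (by omega)]
      rcases tau_even_cases i hie s₀ with ⟨a1, a2⟩ | ⟨a1, a2⟩ <;>
      rcases tau_even_cases i hie m₀ with ⟨b1, b2⟩ | ⟨b1, b2⟩ <;>
      simp only [a1, b1, Nat.odd_iff, Nat.even_iff, true_and, and_true] <;> omega
  · have hce := cOf_of_not_even hie
    have hio : Odd i := Nat.not_even_iff_odd.mp hie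
    obtain ⟨c, hc⟩ : ∃ c, c = cOf i := ⟨_, rfl⟩
    rw [← hc] at hside hf1 hf2 hf3 hf4 hf5 hk hl hce ⊢
    generalize (2 * d) / c = s₀ at *
    generalize (2 * d) % c = k at *
    generalize m / c = m₀ at *
    generalize m % c = l at *
    rw [critL_odd s₀ k m₀ l 1 i hie (Or.inl rfl) hside, tau_odd i hie]
    simp only [hie, hio, true_and, false_and, or_false]
    omega

end Cfsg.Agent.Lib.Helper6.OrtS
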