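import Mathlib
import Cfsg.Agent.Lib.Helper6.OrtA3

/-!
# The plus type orthogonal group: elements of odd prime order `r ≠ p`
-/

set_option autoImplicit false

namespace Cfsg.Agent.Lib.Helper6.OrtS

open Module Submodule QuadraticMap Cfsg.Agent.Lib.Helper15.PSpI
  Cfsg.Agent.Lib.Helper14.OrthEven
  Cfsg.Agent.Lib.Helper15.PSpJ Cfsg.Agent.Lib.Helper15.PDec Cfsg.Agent.Lib.Helper15.PSub
  Cfsg.Agent.Lib.Helper15

universe u

variable {F : Type u} [Field F] [Fintype F]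

omit [Fintype F] in
theorem coe_QPlus (d : ℕ) : ⇑(QPlus F d) = Cfsg.quadFormPlus d F := funext (QPlus_apply F d)

theorem sgnOn_top_of_hasSign {ι : Type} [Fintype ι] (Q : QuadraticForm F (ι → F)) (n : ℕ)
    (hn : Fintype.card ι = 2 * n) (ε : ℤ) (h : HasSign ⇑Q n ε) : SgnOn Q ⊤ ε :=
  sgnOn_of_equiv Q ⇑Q (Submodule.topEquiv (R := F) (M := ι → F)).symm (fun _ => rfl)
    (by rw [finrank_top, Module.finrank_fintype_fun_eq_card, hn]; omega) h

theorem sgnOn_top_QPlus (d : ℕ) : SgnOn (QPlus F d) ⊤ 1 :=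
  sgnOn_top_of_hasSign (QPlus F d) d (by simp [two_mul]) 1 (hasSign_QPlus d)

/-- elements of odd prime order `r ≠ p` of `Ω⁺_{2d}(q)` and nondegenerate `m`-spaces of sign `η` -/
theorem odd_plus (p : ℕ) [Fact p.Prime] [CharP F p] (r : ℕ) [hr : Fact r.Prime]
    (hrp : r ≠ p) (hr2 : r ≠ 2) (d : ℕ) (hd : 4 ≤ d) (m : ℕ) (hm : Even m) (η : ℤ)
    (hη : η = 1 ∨ η = -1) :
    ((∀ x : GL (Fin d ⊕ Fin d) F, x ∈ Cfsg.Geo.omegaGL (Cfsg.quadFormPlus d F) →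
      (∃ z : F, ((x ^ r : GL (Fin d ⊕ Fin d) F) : Matrix (Fin d ⊕ Fin d) (Fin d ⊕ Fin d) F) =
        z • (1 : Matrix (Fin d ⊕ Fin d) (Fin d ⊕ Fin d) F)) →
      (∀ z : F, (x : Matrix (Fin d ⊕ Fin d) (Fin d ⊕ Fin d) F) ≠
        z • (1 : Matrix (Fin d ⊕ Fin d) (Fin d ⊕ Fin d) F)) →
      ∃ W : Submodule F (Fin d ⊕ Fin d → F), W ∈ NSet (QPlus F d) m η ∧
        W.map (Matrix.toLin' (x : Matrix (Fin d ⊕ Fin d) (Fin d ⊕ Fin d) F)) ≤ W) ↔
      Crit (2 * d) 1 m η (orderOf ((Fintype.card F : ℕ) : ZMod r))) ∧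
    (Extra (2 * d) 1 m η (orderOf ((Fintype.card F : ℕ) : ZMod r)) →
      ¬ r ∣ Nat.card (NSet (QPlus F d) m η)) := by
  have hcard : Fintype.card (Fin d ⊕ Fin d) = 2 * d := by simp [two_mul]
  have hExist : ∀ s, 1 ≤ s → cOf (orderOf ((Fintype.card F : ℕ) : ZMod r)) * s ≤ 2 * d →
      (cOf (orderOf ((Fintype.card F : ℕ) : ZMod r)) * s = 2 * d →
        tau (orderOf ((Fintype.card F : ℕ) : ZMod r)) s = 1) →
      ∃ M : Matrix (Fin d ⊕ Fin d) (Fin d ⊕ Fin d) F,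
        (∀ v, QPlus F d (M.mulVec v) = QPlus F d v) ∧ M ^ r = 1 ∧
        finrank F (Module.End.eigenspace (Matrix.toLin' M) 1) =
          2 * d - cOf (orderOf ((Fintype.card F : ℕ) : ZMod r)) * s := by
    intro s hs1 hsd hfull
    obtain ⟨M, hM1, hM2, hM3⟩ := exists_elt_plus (F := F) p r hr2 hrp d s hs1 hsd hfull
    exact ⟨M, fun v => by rw [QPlus_apply, QPlus_apply]; exact hM1 v, hM2, hM3⟩
  constructor
  · have h := odd_iff_crit (QPlus F d) p r hrp hr2 (nondegenerate_QPlus F d) (2 * d) hcard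
      (even_two_mul d) (by omega) (Or.inr (by omega)) 1 (Or.inl rfl) (sgnOn_top_QPlus d) hExist m hm
      η hη
    rw [coe_QPlus] at h
    exact h
  · exact not_dvd_of_extra (QPlus F d) p r hrp hr2 (nondegenerate_QPlus F d) (2 * d) hcard
      (even_two_mul d) 1 (Or.inl rfl) (sgnOn_top_QPlus d) hExist m hm η hη

end Cfsg.Agent.Lib.Helper6.OrtS
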