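import Mathlib
import Cfsg.Agent.Lib.Helper6.OmegaAut

/-!
# The similarity group acting on `PΩ(Q)`

Multipliers, the centraliser of `Ω` in the similarity group, and the invariants
`g ↦ (μ(g) mod squares, det g / μ(g)^m)`.
-/

set_option autoImplicit false
set_option linter.unusedSectionVars false
set_option linter.unusedVariables false

namespace Cfsg.Agent.Lib.Helper6.SimAut

open Subgroup Matrix Cfsg.Agent.Lib.Helper6.AutInduced Cfsg.Agent.Lib.Helper6
  Cfsg.Agent.Lib.Helper6.OmegaAut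

section eigen
variable {F : Type*} [Field F] {ι : Type} [Fintype ι] [DecidableEq ι]
  (Q : QuadraticForm F (ι → F))

/-- a matrix having every non-singular vector as an eigenvector is a scalar -/
theorem scalar_of_eigen_all (h2 : (2 : F) ≠ 0) (T : HypTriple Q) (Z : Matrix ι ι F)
    (E : ∀ a, Q a ≠ 0 → ∃ α : F, Z *ᵥ a = α • a) : ∃ c : F, Z = c • (1 : Matrix ι ι F) := by
  set u₀ := T.u 0 with hu₀
  set w₀ := T.w 0 with hw₀
  have hwu : ∀ i k, QuadraticMap.polar ⇑Q (T.w i) (T.u k) = if i = k then 1 else 0 := by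
    intro i k
    rw [QuadraticMap.polar_comm, T.huw]
    by_cases h : i = k
    · rw [if_pos h, if_pos h.symm]
    · rw [if_neg h, if_neg (fun h' => h h'.symm)]
  have hQa₀ : Q (u₀ + w₀) = 1 := by
    rw [Q_add, T.hQu, T.hQw, T.huw, if_pos rfl]
    simp
  have ha₀ : Q (u₀ + w₀) ≠ 0 := by rw [hQa₀]; exact one_ne_zero
  have ha₀0 : u₀ + w₀ ≠ 0 := by
    intro h
    rw [h, map_zero] at hQa₀
    exact zero_ne_one hQa₀
  obtain ⟨c, hc⟩ := E (u₀ + w₀) ha₀
  refine ⟨c, ?_⟩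
  apply matrix_ext_mulVec
  intro v
  rw [Matrix.smul_mulVec, Matrix.one_mulVec]
  -- key: non-orthogonal non-singular vectors have eigenvalue c
  have hb' : ∀ a, Q a ≠ 0 → Q (u₀ + w₀ + a) ≠ 0 → Z *ᵥ a = c • a := by
    intro a ha hsum
    obtain ⟨α, hα⟩ := E a ha
    obtain ⟨β, hβ⟩ := E _ hsum
    rw [Matrix.mulVec_add, hc, hα] at hβ
    -- (c - β) a₀ = (β - α) a
    have e1 : (c - β) • (u₀ + w₀) = (β - α) • a := by
      rw [sub_smul, sub_smul, sub_eq_sub_iff_add_eq_add, hβ, smul_add]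
      abel
    by_cases hαβ : β = α
    · rw [hαβ, sub_self, zero_smul] at e1
      have : c - α = 0 := by
        rcases smul_eq_zero.mp e1 with h | h
        · exact h
        · exact absurd h ha₀0
      rw [hα]
      congr 1
      linear_combination -this
    · have hne : β - α ≠ 0 := sub_ne_zero.mpr hαβ
      have e2 : a = ((β - α)⁻¹ * (c - β)) • (u₀ + w₀) := by
        rw [mul_smul, e1, smul_smul, inv_mul_cancel₀ hne, one_smul]
      rw [e2, Matrix.mulVec_smul, hc, smul_comm]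
  have hb : ∀ a, Q a ≠ 0 → QuadraticMap.polar ⇑Q (u₀ + w₀) a ≠ 0 → Z *ᵥ a = c • a := by
    intro a ha hpa
    by_cases hplus : Q (u₀ + w₀ + a) ≠ 0
    · exact hb' a ha hplus
    · push Not at hplus
      have hminus : Q (u₀ + w₀ + -a) ≠ 0 := by
        rw [← sub_eq_add_neg, Q_sub]
        rw [Q_add] at hplus
        intro hcon
        apply hpa
        have : (2 : F) * QuadraticMap.polar ⇑Q (u₀ + w₀) a = 0 := by
          linear_combination hplus - hcon
        rcases mul_eq_zero.mp this with h | h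
        · exact absurd h h2
        · exact h
      have := hb' (-a) (by rw [QuadraticMap.map_neg]; exact ha) hminus
      rw [Matrix.mulVec_neg, smul_neg] at this
      exact neg_injective this
  have hP : ∀ p, QuadraticMap.polar ⇑Q u₀ p = 0 → QuadraticMap.polar ⇑Q w₀ p = 0 → Q p ≠ 0 →
      Z *ᵥ (u₀ + p) = c • (u₀ + p) ∧ Z *ᵥ (w₀ + p) = c • (w₀ + p) := by
    intro p hup hwp hQp
    constructor
    · apply hb
      · rw [Q_add, T.hQu, hup, zero_add, add_zero]; exact hQp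
      · rw [QuadraticMap.polar_add_left, QuadraticMap.polar_add_right,
          QuadraticMap.polar_add_right, T.huu, hup, hwu, if_pos rfl, hwp]
        simp
    · apply hb
      · rw [Q_add, T.hQw, hwp, zero_add, add_zero]; exact hQp
      · rw [QuadraticMap.polar_add_left, QuadraticMap.polar_add_right,
          QuadraticMap.polar_add_right, T.huw, if_pos rfl, hup, T.hww, hwp]
        simp
  have h01 : (0 : Fin 3) ≠ 1 := by decide
  set p₁ := T.u 1 + T.w 1 with hp₁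
  have hup₁ : QuadraticMap.polar ⇑Q u₀ p₁ = 0 := by
    rw [QuadraticMap.polar_add_right, T.huu, T.huw, if_neg h01, add_zero]
  have hwp₁ : QuadraticMap.polar ⇑Q w₀ p₁ = 0 := by
    rw [QuadraticMap.polar_add_right, hwu, T.hww, if_neg h01, add_zero]
  have hQp₁ : Q p₁ = 1 := by
    rw [Q_add, T.hQu, T.hQw, T.huw, if_pos rfl]
    simp
  have hQp₁' : Q p₁ ≠ 0 := by rw [hQp₁]; exact one_ne_zero
  clear_value p₁
  obtain ⟨h1, h3⟩ := hP p₁ hup₁ hwp₁ hQp₁'
  have hminus : Z *ᵥ (u₀ - w₀) = c • (u₀ - w₀) := by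
    have : u₀ - w₀ = (u₀ + p₁) - (w₀ + p₁) := by abel
    rw [this, Matrix.mulVec_sub, h1, h3, smul_sub]
  have hZu : Z *ᵥ u₀ = c • u₀ := by
    have : u₀ = (2 : F)⁻¹ • ((u₀ + w₀) + (u₀ - w₀)) := by
      have e : (u₀ + w₀) + (u₀ - w₀) = (2 : F) • u₀ := by rw [two_smul]; abel
      rw [e, smul_smul, inv_mul_cancel₀ h2, one_smul]
    rw [this, Matrix.mulVec_smul, Matrix.mulVec_add, hc, hminus, ← smul_add, smul_comm]
  have hZw : Z *ᵥ w₀ = c • w₀ := by
    have : w₀ = (2 : F)⁻¹ • ((u₀ + w₀) - (u₀ - w₀)) := by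
      have e : (u₀ + w₀) - (u₀ - w₀) = (2 : F) • w₀ := by rw [two_smul]; abel
      rw [e, smul_smul, inv_mul_cancel₀ h2, one_smul]
    rw [this, Matrix.mulVec_smul, Matrix.mulVec_sub, hc, hminus, ← smul_sub, smul_comm]
  have hPns : ∀ p, QuadraticMap.polar ⇑Q u₀ p = 0 → QuadraticMap.polar ⇑Q w₀ p = 0 → Q p ≠ 0 →
      Z *ᵥ p = c • p := by
    intro p hup hwp hQp
    have := (hP p hup hwp hQp).1
    rw [Matrix.mulVec_add, hZu, smul_add] at this
    exact add_left_cancel this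
  have hZp₁ : Z *ᵥ p₁ = c • p₁ := hPns p₁ hup₁ hwp₁ hQp₁'
  have hPall : ∀ p, QuadraticMap.polar ⇑Q u₀ p = 0 → QuadraticMap.polar ⇑Q w₀ p = 0 →
      Z *ᵥ p = c • p := by
    intro p hup hwp
    by_cases hQp : Q p ≠ 0
    · exact hPns p hup hwp hQp
    · push Not at hQp
      by_cases hplus : Q (p + p₁) ≠ 0
      · have := hPns (p + p₁) (by rw [QuadraticMap.polar_add_right, hup, hup₁, add_zero])
          (by rw [QuadraticMap.polar_add_right, hwp, hwp₁, add_zero]) hplus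
        rw [Matrix.mulVec_add, hZp₁, smul_add] at this
        exact add_right_cancel this
      · push Not at hplus
        have hminus' : Q (p - p₁) ≠ 0 := by
          rw [Q_sub, hQp, hQp₁]
          rw [Q_add, hQp, hQp₁] at hplus
          intro hcon
          apply h2
          linear_combination hplus + hcon
        have := hPns (p - p₁) (by rw [QuadraticMap.polar_sub_right, hup, hup₁, sub_zero])
          (by rw [QuadraticMap.polar_sub_right, hwp, hwp₁, sub_zero]) hminus'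
        rw [Matrix.mulVec_sub, hZp₁, smul_sub] at this
        exact sub_left_injective this
  obtain ⟨p, hp⟩ : ∃ p, p = v - QuadraticMap.polar ⇑Q w₀ v • u₀ - QuadraticMap.polar ⇑Q u₀ v • w₀ :=
    ⟨_, rfl⟩
  have hup : QuadraticMap.polar ⇑Q u₀ p = 0 := by
    rw [hp, QuadraticMap.polar_sub_right, QuadraticMap.polar_sub_right,
      QuadraticMap.polar_smul_right, QuadraticMap.polar_smul_right, T.huu, T.huw, if_pos rfl]
    simp
  have hwp : QuadraticMap.polar ⇑Q w₀ p = 0 := by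
    rw [hp, QuadraticMap.polar_sub_right, QuadraticMap.polar_sub_right,
      QuadraticMap.polar_smul_right, QuadraticMap.polar_smul_right, hwu, T.hww, if_pos rfl]
    simp
  have hv : v = p + QuadraticMap.polar ⇑Q w₀ v • u₀ + QuadraticMap.polar ⇑Q u₀ v • w₀ := by
    rw [hp]; abel
  rw [hv, Matrix.mulVec_add, Matrix.mulVec_add, Matrix.mulVec_smul, Matrix.mulVec_smul,
    hPall p hup hwp, hZu, hZw, smul_add, smul_add, smul_comm c, smul_comm c]

end eigen

section sim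
variable {F : Type*} [Field F] {ι : Type} [Fintype ι] [DecidableEq ι]
  (Q : QuadraticForm F (ι → F))

/-- the similarity group -/
abbrev GO : Subgroup (GL ι F) := Cfsg.Geo.quadSimilarityGroup (F := F) ⇑Q

theorem mem_GO_iff (g : GL ι F) :
    g ∈ GO Q ↔ ∃ c : Fˣ, ∀ v, Q ((g : Matrix ι ι F) *ᵥ v) = (c : F) * Q v := Iff.rfl

theorem isometryGroup_le_GO : Cfsg.isometryGroup F ⇑Q ≤ GO Q := by
  intro g hg
  refine ⟨1, fun v => ?_⟩
  rw [Units.val_one, one_mul]
  exact (mem_isometryGroup_iff Q g).mp hg v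

theorem conj_mem_isometryGroup (g : GL ι F) (hg : g ∈ GO Q) (h : GL ι F)
    (hh : h ∈ Cfsg.isometryGroup F ⇑Q) : g * h * g⁻¹ ∈ Cfsg.isometryGroup F ⇑Q := by
  rw [mem_isometryGroup_iff] at hh ⊢
  obtain ⟨c, hc⟩ := hg
  intro v
  have e1 : ((g * h * g⁻¹ : GL ι F) : Matrix ι ι F) *ᵥ v =
      (g : Matrix ι ι F) *ᵥ ((h : Matrix ι ι F) *ᵥ (((g⁻¹ : GL ι F) : Matrix ι ι F) *ᵥ v)) := by
    rw [Units.val_mul, Units.val_mul, ← Matrix.mulVec_mulVec, ← Matrix.mulVec_mulVec]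
  have e2 : v = (g : Matrix ι ι F) *ᵥ (((g⁻¹ : GL ι F) : Matrix ι ι F) *ᵥ v) := by
    rw [Matrix.mulVec_mulVec, ← Units.val_mul, mul_inv_cancel, Units.val_one, Matrix.one_mulVec]
  rw [e1, hc, hh]
  nth_rewrite 2 [e2]
  rw [hc]

theorem GO_le_normalizer : GO Q ≤ normalizer (Cfsg.isometryGroup F ⇑Q : Set (GL ι F)) := by
  intro g hg
  rw [mem_normalizer_iff]
  intro h
  constructor
  · exact conj_mem_isometryGroup Q g hg h
  · intro hh
    have := conj_mem_isometryGroup Q g⁻¹ (Subgroup.inv_mem _ hg) _ hh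
    rw [inv_inv] at this
    have e : g⁻¹ * (g * h * g⁻¹) * g = h := by group
    rwa [e] at this

/-- the multiplier of a similarity -/
noncomputable def mulr (g : ↥(GO Q)) : Fˣ := Classical.choose g.2

theorem mulr_spec (g : ↥(GO Q)) (v : ι → F) :
    Q (((g.1 : GL ι F) : Matrix ι ι F) *ᵥ v) = (mulr Q g : F) * Q v :=
  Classical.choose_spec g.2 v

theorem mulr_eq (v₀ : ι → F) (hv₀ : Q v₀ ≠ 0) (g : ↥(GO Q)) (c : Fˣ)
    (h : ∀ v, Q (((g.1 : GL ι F) : Matrix ι ι F) *ᵥ v) = (c : F) * Q v) : mulr Q g = c := by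
  apply Units.ext
  have h1 := mulr_spec Q g v₀
  rw [h v₀] at h1
  exact (mul_right_cancel₀ hv₀ h1).symm

/-- the multiplier homomorphism -/
noncomputable def mulrHom (v₀ : ι → F) (hv₀ : Q v₀ ≠ 0) : ↥(GO Q) →* Fˣ where
  toFun := mulr Q
  map_one' := by
    apply mulr_eq Q v₀ hv₀
    intro v
    change Q ((1 : Matrix ι ι F) *ᵥ v) = _
    rw [Matrix.one_mulVec, Units.val_one, one_mul]
  map_mul' g h := by
    apply mulr_eq Q v₀ hv₀
    intro v
    change Q ((((g.1 : GL ι F) : Matrix ι ι F) * ((h.1 : GL ι F) : Matrix ι ι F)) *ᵥ v) = _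
    rw [← Matrix.mulVec_mulVec, mulr_spec, mulr_spec, Units.val_mul, mul_assoc]

theorem mulrHom_apply (v₀ : ι → F) (hv₀ : Q v₀ ≠ 0) (g : ↥(GO Q)) :
    mulrHom Q v₀ hv₀ g = mulr Q g := rfl

theorem polar_sim (g : ↥(GO Q)) (x y : ι → F) :
    QuadraticMap.polar ⇑Q (((g.1 : GL ι F) : Matrix ι ι F) *ᵥ x)
      (((g.1 : GL ι F) : Matrix ι ι F) *ᵥ y) = (mulr Q g : F) * QuadraticMap.polar ⇑Q x y := by
  unfold QuadraticMap.polar
  rw [← Matrix.mulVec_add, mulr_spec, mulr_spec, mulr_spec]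
  ring

/-- conjugating a reflection by a similarity -/
theorem sim_conj_refl (g : ↥(GO Q)) (a : ι → F) (ha : Q a ≠ 0) :
    ((g.1 : GL ι F) : Matrix ι ι F) * Cfsg.reflectionMatrix ⇑Q a *
      (((g.1 : GL ι F)⁻¹ : GL ι F) : Matrix ι ι F) =
      Cfsg.reflectionMatrix ⇑Q (((g.1 : GL ι F) : Matrix ι ι F) *ᵥ a) := by
  apply matrix_ext_mulVec
  intro x
  set y := (((g.1 : GL ι F)⁻¹ : GL ι F) : Matrix ι ι F) *ᵥ x with hy
  have hx : x = ((g.1 : GL ι F) : Matrix ι ι F) *ᵥ y := by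
    rw [hy, Matrix.mulVec_mulVec, ← Units.val_mul, mul_inv_cancel, Units.val_one,
      Matrix.one_mulVec]
  rw [← Matrix.mulVec_mulVec, ← Matrix.mulVec_mulVec, ← hy, reflectionMatrix_mulVec,
    reflectionMatrix_mulVec, Matrix.mulVec_sub, Matrix.mulVec_smul, ← hx]
  congr 2
  rw [hx, polar_sim, mulr_spec]
  have hμ : (mulr Q g : F) ≠ 0 := Units.ne_zero _
  field_simp

theorem pgoAut_eq : Cfsg.pgoAut F ⇑Q = img (Cfsg.isometryGroup F ⇑Q) (GO Q) := by
  unfold Cfsg.pgoAut Cfsg.autSubgroupOf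
  rw [← closure_isInd _ _ (GO_le_normalizer Q)]
  congr 1
  ext β
  constructor
  · rintro ⟨g, hg, h⟩
    exact ⟨g, hg, (isInduced_iff _ g β).mp h⟩
  · rintro ⟨g, hg, h⟩
    exact ⟨g, hg, (isInduced_iff _ g β).mpr h⟩

/-- a non-zero vector orthogonal to two given vectors, in dimension at least three -/
theorem exists_perp_two (h3 : 3 ≤ Fintype.card ι) (a b : ι → F) :
    ∃ x : ι → F, x ≠ 0 ∧ QuadraticMap.polar ⇑Q a x = 0 ∧ QuadraticMap.polar ⇑Q b x = 0 := by
  set L : (ι → F) →ₗ[F] (F × F) :=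
    (QuadraticMap.polarBilin Q a).prod (QuadraticMap.polarBilin Q b) with hL
  have h1 := LinearMap.finrank_range_add_finrank_ker L
  rw [Module.finrank_fintype_fun_eq_card] at h1
  have h2 : Module.finrank F ↥(LinearMap.range L) ≤ 2 := by
    have := Submodule.finrank_le (LinearMap.range L)
    rwa [Module.finrank_prod, Module.finrank_self] at this
  have h4 : 0 < Module.finrank F ↥(LinearMap.ker L) := by omega
  obtain ⟨x, hx⟩ := Module.finrank_pos_iff_exists_ne_zero.mp h4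
  have hx2 : L x.1 = 0 := LinearMap.mem_ker.mp x.2
  have hx3 : (QuadraticMap.polar ⇑Q a x.1, QuadraticMap.polar ⇑Q b x.1) = (0 : F × F) := hx2
  rw [Prod.mk_eq_zero] at hx3
  exact ⟨x.1, fun h => hx (Subtype.ext h), hx3.1, hx3.2⟩

end sim

section cent
variable {F : Type*} [Field F] [Fintype F] {ι : Type} [Fintype ι] [DecidableEq ι]
  (Q : QuadraticForm F (ι → F))

/-- **The centraliser of `Ω` in the similarity group consists of scalars.** -/
theorem centralizer_GO (h2 : (2 : F) ≠ 0) (hQ : (QuadraticMap.polarBilin Q).Nondegenerate)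
    (h5 : 5 ≤ Fintype.card ι) (T : HypTriple Q) (z : ↥(GO Q))
    (hc : ∀ s : ↥(Cfsg.Omega F ⇑Q),
      (z.1 : GL ι F) * (s.1.1 : GL ι F) * (z.1 : GL ι F)⁻¹ = (s.1.1 : GL ι F)) :
    ∃ c : F, ((z.1 : GL ι F) : Matrix ι ι F) = c • (1 : Matrix ι ι F) := by
  classical
  apply scalar_of_eigen_all Q h2 T
  intro a ha
  obtain ⟨g, hg⟩ := exists_of_list' Q [a] (by
    intro w hw
    rw [List.mem_singleton] at hw
    rw [hw]; exact ha)
  rw [List.map_cons, List.map_nil, List.prod_cons, List.prod_nil, mul_one] at hg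
  have hzc : ∀ s : ↥(Cfsg.Omega F ⇑Q), (z.1 : GL ι F) * (s.1.1 : GL ι F) = (s.1.1 : GL ι F) * (z.1 : GL ι F) := by
    intro s
    have := hc s
    rw [mul_inv_eq_iff_eq_mul] at this
    exact this
  set k : GL ι F := (z.1 : GL ι F) * (g.1 : GL ι F) * (z.1 : GL ι F)⁻¹ * (g.1 : GL ι F)⁻¹ with hk
  have hkO : k ∈ Cfsg.isometryGroup F ⇑Q :=
    Subgroup.mul_mem _ (conj_mem_isometryGroup Q z.1 z.2 g.1 g.2) (Subgroup.inv_mem _ g.2)
  have hnorm : (Cfsg.Omega F ⇑Q).Normal := by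
    change (commutator _).Normal
    infer_instance
  have hkc : ∀ s ∈ Cfsg.Omega F ⇑Q, s * (⟨k, hkO⟩ : ↥(Cfsg.isometryGroup F ⇑Q)) = ⟨k, hkO⟩ * s := by
    intro s hs
    apply Subtype.ext
    change (s.1 : GL ι F) * k = k * (s.1 : GL ι F)
    have hs' : g⁻¹ * s * g ∈ Cfsg.Omega F ⇑Q := by
      have := hnorm.conj_mem s hs g⁻¹
      rwa [inv_inv] at this
    have e1 := hzc ⟨s, hs⟩
    have e2 := hzc ⟨g⁻¹ * s * g, hs'⟩
    change (z.1 : GL ι F) * (s.1 : GL ι F) = (s.1 : GL ι F) * (z.1 : GL ι F) at e1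
    change (z.1 : GL ι F) * ((g.1 : GL ι F)⁻¹ * (s.1 : GL ι F) * (g.1 : GL ι F)) =
      ((g.1 : GL ι F)⁻¹ * (s.1 : GL ι F) * (g.1 : GL ι F)) * (z.1 : GL ι F) at e2
    -- z⁻¹ commutes with g⁻¹ s g
    have e3 : (z.1 : GL ι F)⁻¹ * ((g.1 : GL ι F)⁻¹ * (s.1 : GL ι F) * (g.1 : GL ι F)) =
        ((g.1 : GL ι F)⁻¹ * (s.1 : GL ι F) * (g.1 : GL ι F)) * (z.1 : GL ι F)⁻¹ := by
      rw [inv_mul_eq_iff_eq_mul, ← mul_assoc, e2, mul_inv_cancel_right]
    rw [hk]
    calc (s.1 : GL ι F) * ((z.1 : GL ι F) * (g.1 : GL ι F) * (z.1 : GL ι F)⁻¹ * (g.1 : GL ι F)⁻¹)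
        = ((s.1 : GL ι F) * (z.1 : GL ι F)) * (g.1 : GL ι F) * (z.1 : GL ι F)⁻¹ * (g.1 : GL ι F)⁻¹ := by
          simp only [mul_assoc]
      _ = (z.1 : GL ι F) * (g.1 : GL ι F) * (((g.1 : GL ι F)⁻¹ * (s.1 : GL ι F) * (g.1 : GL ι F)) *
            (z.1 : GL ι F)⁻¹) * (g.1 : GL ι F)⁻¹ := by
          rw [← e1]
          simp only [mul_assoc, mul_inv_cancel_left]
      _ = (z.1 : GL ι F) * (g.1 : GL ι F) * ((z.1 : GL ι F)⁻¹ *
            ((g.1 : GL ι F)⁻¹ * (s.1 : GL ι F) * (g.1 : GL ι F))) * (g.1 : GL ι F)⁻¹ := by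
          rw [e3]
      _ = (z.1 : GL ι F) * (g.1 : GL ι F) * (z.1 : GL ι F)⁻¹ * (g.1 : GL ι F)⁻¹ * (s.1 : GL ι F) := by
          simp only [mul_assoc, mul_inv_cancel, mul_one]
  obtain ⟨c, hcc, hck⟩ := centralizer_Omega' Q hQ (Or.inr (by omega)) T ⟨k, hkO⟩ hkc
  change (k : Matrix ι ι F) = c • (1 : Matrix ι ι F) at hck
  -- z r_a z⁻¹ = c r_a
  have hzg : (z.1 : GL ι F) * (g.1 : GL ι F) * (z.1 : GL ι F)⁻¹ = k * (g.1 : GL ι F) := by
    rw [hk, inv_mul_cancel_right]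
  have hmat : Cfsg.reflectionMatrix ⇑Q (((z.1 : GL ι F) : Matrix ι ι F) *ᵥ a) =
      c • Cfsg.reflectionMatrix ⇑Q a := by
    rw [← sim_conj_refl Q z a ha, ← hg]
    have := congrArg (fun u : GL ι F => (u : Matrix ι ι F)) hzg
    simp only [Units.val_mul] at this
    rw [this, hck, Matrix.smul_mul, Matrix.one_mul]
  have hza : Q (((z.1 : GL ι F) : Matrix ι ι F) *ᵥ a) ≠ 0 := by
    rw [mulr_spec]
    exact mul_ne_zero (Units.ne_zero _) ha
  have ha0 : a ≠ 0 := by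
    rintro rfl
    apply ha
    simp
  have hc' : c = 1 ∨ c = -1 := by
    have : (c - 1) * (c + 1) = 0 := by linear_combination hcc
    rcases mul_eq_zero.mp this with h | h
    · left; linear_combination h
    · right; linear_combination h
  rcases hc' with rfl | rfl
  · rw [one_smul] at hmat
    have h1 := congrArg (fun M : Matrix ι ι F => M *ᵥ a) hmat
    simp only [reflectionMatrix_mulVec] at h1
    rw [QuadraticMap.polar_self, nsmul_eq_mul] at h1
    have h3 : (Q a)⁻¹ * ((2 : ℕ) * Q a) = 2 := by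
      push_cast
      field_simp
    rw [h3] at h1
    set t := (Q (((z.1 : GL ι F) : Matrix ι ι F) *ᵥ a))⁻¹ *
      QuadraticMap.polar ⇑Q (((z.1 : GL ι F) : Matrix ι ι F) *ᵥ a) a with ht
    have h4 : t • (((z.1 : GL ι F) : Matrix ι ι F) *ᵥ a) = (2 : F) • a :=
      sub_right_injective h1
    have ht0 : t ≠ 0 := by
      intro h0
      rw [h0, zero_smul] at h4
      rcases smul_eq_zero.mp h4.symm with h | h
      · exact h2 h
      · exact ha0 h
    refine ⟨t⁻¹ * 2, ?_⟩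
    rw [mul_smul, ← h4, smul_smul, inv_mul_cancel₀ ht0, one_smul]
  · exfalso
    obtain ⟨x, hx0, hxa, hxza⟩ := exists_perp_two Q (by omega) a (((z.1 : GL ι F) : Matrix ι ι F) *ᵥ a)
    have h1 := congrArg (fun M : Matrix ι ι F => M *ᵥ x) hmat
    simp only [Matrix.smul_mulVec, reflectionMatrix_mulVec] at h1
    rw [hxa, hxza, mul_zero, mul_zero, zero_smul, sub_zero, zero_smul, sub_zero, neg_one_smul] at h1
    have h3 : (2 : F) • x = 0 := by
      rw [two_smul]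
      nth_rewrite 1 [h1]
      exact neg_add_cancel x
    rcases smul_eq_zero.mp h3 with h | h
    · exact h2 h
    · exact hx0 h

end cent

section signs

/-- the bijective homomorphism `{±1}² → (ℤ/2)²` -/
def epsHom : ℤˣ × ℤˣ →* Multiplicative (ZMod 2 × ZMod 2) where
  toFun p := Multiplicative.ofAdd ((if p.1 = 1 then 0 else 1), (if p.2 = 1 then 0 else 1))
  map_one' := by decide
  map_mul' := by decide

theorem epsHom_bijective : Function.Bijective epsHom := by decide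

/-- turning a `±1`-valued homomorphism into `Fˣ` into one into `ℤˣ` -/
noncomputable def signOf {G : Type*} [Group G] {F : Type*} [Field F] [DecidableEq F]
    (d : G →* Fˣ) (hd : ∀ g, d g = 1 ∨ d g = -1) (hne : (-1 : Fˣ) ≠ 1) : G →* ℤˣ where
  toFun g := if d g = 1 then 1 else -1
  map_one' := by simp
  map_mul' g h := by
    rw [map_mul]
    rcases hd g with hg | hg <;> rcases hd h with hh | hh <;> rw [hg, hh] <;> simp [hne]

theorem signOf_eq_one_iff {G : Type*} [Group G] {F : Type*} [Field F] [DecidableEq F]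
    (d : G →* Fˣ) (hd : ∀ g, d g = 1 ∨ d g = -1) (hne : (-1 : Fˣ) ≠ 1) (g : G) :
    signOf d hd hne g = 1 ↔ d g = 1 := by
  change (if d g = 1 then (1 : ℤˣ) else -1) = 1 ↔ _
  by_cases h : d g = 1
  · simp [h]
  · simp only [h, if_false, iff_false]
    decide

end signs

section inv
variable {F : Type*} [Field F] {ι : Type} [Fintype ι] [DecidableEq ι]
  (Q : QuadraticForm F (ι → F))

/-- scalar matrices in `GL` -/
noncomputable def scalGL (c : Fˣ) : GL ι F :=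
  Units.map (Matrix.scalar ι : F →+* Matrix ι ι F).toMonoidHom c

theorem scalGL_val (c : Fˣ) : ((scalGL c : GL ι F) : Matrix ι ι F) = (c : F) • (1 : Matrix ι ι F) := by
  change (Matrix.scalar ι) (c : F) = _
  rw [Matrix.scalar_apply, Matrix.smul_one_eq_diagonal]

theorem scalGL_mem_GO (c : Fˣ) : (scalGL c : GL ι F) ∈ GO Q := by
  refine ⟨c * c, fun v => ?_⟩
  rw [scalGL_val, Matrix.smul_mulVec, Matrix.one_mulVec, Q_smul, Units.val_mul]

theorem scalGL_comm (c : Fˣ) (g : GL ι F) : scalGL c * g = g * scalGL c := by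
  apply Units.ext
  rw [Units.val_mul, Units.val_mul, scalGL_val]
  simp

theorem mulr_scalGL (v₀ : ι → F) (hv₀ : Q v₀ ≠ 0) (c : Fˣ) :
    mulr Q ⟨scalGL c, scalGL_mem_GO Q c⟩ = c * c := by
  apply mulr_eq Q v₀ hv₀
  intro v
  change Q (((scalGL c : GL ι F) : Matrix ι ι F) *ᵥ v) = _
  rw [scalGL_val, Matrix.smul_mulVec, Matrix.one_mulVec, Q_smul, Units.val_mul]

theorem mulr_of_isometry (v₀ : ι → F) (hv₀ : Q v₀ ≠ 0) (g : ↥(GO Q))
    (hg : g.1 ∈ Cfsg.isometryGroup F ⇑Q) : mulr Q g = 1 := by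
  apply mulr_eq Q v₀ hv₀
  intro v
  rw [Units.val_one, one_mul]
  exact (mem_isometryGroup_iff Q g.1).mp hg v

/-- the determinant on the similarity group -/
noncomputable def detU : ↥(GO Q) →* Fˣ := Matrix.GeneralLinearGroup.det.comp (GO Q).subtype

theorem detU_val (g : ↥(GO Q)) : ((detU Q g : Fˣ) : F) = ((g.1 : GL ι F) : Matrix ι ι F).det := rfl

/-- the homomorphism `g ↦ det g / μ(g)^m` -/
noncomputable def dHom (v₀ : ι → F) (hv₀ : Q v₀ ≠ 0) (m : ℕ) : ↥(GO Q) →* Fˣ :=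
  detU Q / (mulrHom Q v₀ hv₀) ^ m

theorem dHom_apply (v₀ : ι → F) (hv₀ : Q v₀ ≠ 0) (m : ℕ) (g : ↥(GO Q)) :
    dHom Q v₀ hv₀ m g = detU Q g / (mulr Q g) ^ m := rfl

theorem dHom_sq (hQ : (QuadraticMap.polarBilin Q).Nondegenerate) (v₀ : ι → F) (hv₀ : Q v₀ ≠ 0)
    (m : ℕ) (hm : Fintype.card ι = 2 * m) (g : ↥(GO Q)) : dHom Q v₀ hv₀ m g ^ 2 = 1 := by
  rw [dHom_apply, div_pow, div_eq_one]
  apply Units.ext
  rw [Units.val_pow_eq_pow_val, detU_val, det_sq_of_similarity Q hQ _ _ (mulr_spec Q g), hm,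
    ← pow_mul, mul_comm m 2]
  simp

theorem dHom_cases (hQ : (QuadraticMap.polarBilin Q).Nondegenerate) (v₀ : ι → F) (hv₀ : Q v₀ ≠ 0)
    (m : ℕ) (hm : Fintype.card ι = 2 * m) (g : ↥(GO Q)) :
    dHom Q v₀ hv₀ m g = 1 ∨ dHom Q v₀ hv₀ m g = -1 := by
  have h := dHom_sq Q hQ v₀ hv₀ m hm g
  have h1 : ((dHom Q v₀ hv₀ m g : Fˣ) : F) ^ 2 = 1 := by
    rw [← Units.val_pow_eq_pow_val, h, Units.val_one]
  have h2 : (((dHom Q v₀ hv₀ m g : Fˣ) : F) - 1) * (((dHom Q v₀ hv₀ m g : Fˣ) : F) + 1) = 0 := by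
    linear_combination h1
  rcases mul_eq_zero.mp h2 with h | h
  · left
    apply Units.ext
    rw [Units.val_one]
    linear_combination h
  · right
    apply Units.ext
    rw [Units.val_neg, Units.val_one]
    linear_combination h

theorem dHom_eq_one_iff (v₀ : ι → F) (hv₀ : Q v₀ ≠ 0) (m : ℕ) (g : ↥(GO Q)) :
    dHom Q v₀ hv₀ m g = 1 ↔ ((g.1 : GL ι F) : Matrix ι ι F).det = (mulr Q g : F) ^ m := by
  rw [dHom_apply, div_eq_one]
  constructor
  · intro h
    have := congrArg Units.val h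
    rw [Units.val_pow_eq_pow_val] at this
    exact this
  · intro h
    apply Units.ext
    rw [Units.val_pow_eq_pow_val]
    exact h

end inv

section abstract
variable {G M C : Type*} [Group G] [Group M] [Group C]

/-- descending a homomorphism to the range of another one -/
theorem exists_hom_of_range (f : G →* M) (θ : G →* C) (hθ : Function.Surjective θ)
    (hker : f.ker ≤ θ.ker) :
    ∃ φ : ↥f.range →* C, Function.Surjective φ ∧ φ.ker = (θ.ker.map f).subgroupOf f.range := by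
  have hk : f.rangeRestrict.ker ≤ θ.ker := by rwa [f.ker_rangeRestrict]
  set φ : ↥f.range →* C :=
    (MonoidHom.liftOfSurjective f.rangeRestrict f.rangeRestrict_surjective) ⟨θ, hk⟩ with hφ
  have hφf : ∀ g, φ (f.rangeRestrict g) = θ g := by
    intro g
    rw [hφ]
    exact MonoidHom.liftOfRightInverse_comp_apply _ _ _ _ g
  refine ⟨φ, ?_, ?_⟩
  · intro c
    obtain ⟨g, rfl⟩ := hθ c
    exact ⟨f.rangeRestrict g, hφf g⟩
  · ext x
    obtain ⟨g, rfl⟩ := f.rangeRestrict_surjective x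
    rw [MonoidHom.mem_ker, hφf, Subgroup.mem_subgroupOf, Subgroup.mem_map]
    constructor
    · intro h
      exact ⟨g, h, rfl⟩
    · rintro ⟨g', hg', hgg⟩
      have h1 : g'⁻¹ * g ∈ f.ker := by
        rw [MonoidHom.mem_ker, map_mul, map_inv]
        change (f g')⁻¹ * f g = 1
        rw [hgg]
        exact inv_mul_cancel _
      have h2 := hker h1
      rw [MonoidHom.mem_ker, map_mul, map_inv, MonoidHom.mem_ker.mp hg', inv_one, one_mul] at h2
      exact h2

end abstract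

section theta
variable {F : Type*} [Field F] [Fintype F] [DecidableEq F] {ι : Type} [Fintype ι] [DecidableEq ι]
  (Q : QuadraticForm F (ι → F))

theorem neg_one_ne_one_units (h2 : (2 : F) ≠ 0) : (-1 : Fˣ) ≠ 1 := by
  intro h
  have := congrArg Units.val h
  rw [Units.val_neg, Units.val_one] at this
  apply h2
  linear_combination -this

/-- the invariants `(χ(μ(g)), det g / μ(g)^m)` -/
noncomputable def theta (h2 : (2 : F) ≠ 0) (hQ : (QuadraticMap.polarBilin Q).Nondegenerate)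
    (v₀ : ι → F) (hv₀ : Q v₀ ≠ 0) (m : ℕ) (hm : Fintype.card ι = 2 * m) : ↥(GO Q) →* ℤˣ × ℤˣ :=
  ((quadraticChar F).toUnitHom.comp (mulrHom Q v₀ hv₀)).prod
    (signOf (dHom Q v₀ hv₀ m) (dHom_cases Q hQ v₀ hv₀ m hm) (neg_one_ne_one_units h2))

theorem theta_fst (h2 : (2 : F) ≠ 0) (hQ : (QuadraticMap.polarBilin Q).Nondegenerate)
    (v₀ : ι → F) (hv₀ : Q v₀ ≠ 0) (m : ℕ) (hm : Fintype.card ι = 2 * m) (g : ↥(GO Q)) :
    (theta Q h2 hQ v₀ hv₀ m hm g).1 = 1 ↔ IsSquare (mulr Q g : F) := by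
  change (quadraticChar F).toUnitHom (mulr Q g) = 1 ↔ _
  rw [← quadraticChar_one_iff_isSquare (Units.ne_zero _), ← MulChar.coe_toUnitHom]
  constructor
  · intro h
    rw [h]; rfl
  · intro h
    apply Units.ext
    rw [h]; rfl

theorem theta_snd (h2 : (2 : F) ≠ 0) (hQ : (QuadraticMap.polarBilin Q).Nondegenerate)
    (v₀ : ι → F) (hv₀ : Q v₀ ≠ 0) (m : ℕ) (hm : Fintype.card ι = 2 * m) (g : ↥(GO Q)) :
    (theta Q h2 hQ v₀ hv₀ m hm g).2 = 1 ↔
      ((g.1 : GL ι F) : Matrix ι ι F).det = (mulr Q g : F) ^ m := by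
  change signOf _ _ _ g = 1 ↔ _
  rw [signOf_eq_one_iff, dHom_eq_one_iff]

theorem theta_surjective (h2 : (2 : F) ≠ 0) (hQ : (QuadraticMap.polarBilin Q).Nondegenerate)
    (v₀ : ι → F) (hv₀ : Q v₀ ≠ 0) (m : ℕ) (hm : Fintype.card ι = 2 * m)
    (h : ↥(GO Q)) (hh : ¬ IsSquare (mulr Q h : F)) :
    Function.Surjective (theta Q h2 hQ v₀ hv₀ m hm) := by
  classical
  -- a reflection
  obtain ⟨r, hr⟩ := exists_of_list' Q [v₀] (by
    intro w hw
    rw [List.mem_singleton] at hw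
    rw [hw]; exact hv₀)
  rw [List.map_cons, List.map_nil, List.prod_cons, List.prod_nil, mul_one] at hr
  set r' : ↥(GO Q) := ⟨r.1, isometryGroup_le_GO Q r.2⟩ with hr'
  have hμr : mulr Q r' = 1 := mulr_of_isometry Q v₀ hv₀ r' r.2
  have hr1 : (theta Q h2 hQ v₀ hv₀ m hm r').1 = 1 := by
    rw [theta_fst, hμr, Units.val_one]
    exact ⟨1, (mul_one 1).symm⟩
  have hr2 : (theta Q h2 hQ v₀ hv₀ m hm r').2 = -1 := by
    rcases Int.units_eq_one_or (theta Q h2 hQ v₀ hv₀ m hm r').2 with h | h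
    · exfalso
      rw [theta_snd, hμr, Units.val_one, one_pow] at h
      change ((r.1 : GL ι F) : Matrix ι ι F).det = 1 at h
      rw [hr, det_reflectionMatrix Q h2 v₀ hv₀] at h
      apply h2
      linear_combination -h
    · exact h
  have hh1 : (theta Q h2 hQ v₀ hv₀ m hm h).1 = -1 := by
    rcases Int.units_eq_one_or (theta Q h2 hQ v₀ hv₀ m hm h).1 with h' | h'
    · exact absurd ((theta_fst Q h2 hQ v₀ hv₀ m hm h).mp h') hh
    · exact h'
  have hrr : theta Q h2 hQ v₀ hv₀ m hm r' = (1, -1) := Prod.ext hr1 hr2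
  rintro ⟨x, y⟩
  rcases Int.units_eq_one_or x with rfl | rfl <;> rcases Int.units_eq_one_or y with rfl | rfl
  · exact ⟨1, map_one _⟩
  · exact ⟨r', hrr⟩
  · rcases Int.units_eq_one_or (theta Q h2 hQ v₀ hv₀ m hm h).2 with h' | h'
    · exact ⟨h, Prod.ext hh1 h'⟩
    · refine ⟨h * r', ?_⟩
      rw [map_mul, hrr]
      apply Prod.ext
      · change (theta Q h2 hQ v₀ hv₀ m hm h).1 * 1 = -1
        rw [hh1, mul_one]
      · change (theta Q h2 hQ v₀ hv₀ m hm h).2 * -1 = 1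
        rw [h']; rfl
  · rcases Int.units_eq_one_or (theta Q h2 hQ v₀ hv₀ m hm h).2 with h' | h'
    · refine ⟨h * r', ?_⟩
      rw [map_mul, hrr]
      apply Prod.ext
      · change (theta Q h2 hQ v₀ hv₀ m hm h).1 * 1 = -1
        rw [hh1, mul_one]
      · change (theta Q h2 hQ v₀ hv₀ m hm h).2 * -1 = -1
        rw [h']; rfl
    · exact ⟨h, Prod.ext hh1 h'⟩

end theta

section main
variable {F : Type*} [Field F] [Fintype F] [DecidableEq F] {ι : Type} [Fintype ι] [DecidableEq ι]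
  (Q : QuadraticForm F (ι → F))

/-- the action of the similarity group on `PΩ` -/
noncomputable def fGO : ↥(GO Q) →* MulAut (Cfsg.POmega F ⇑Q) :=
  (Psi (Cfsg.isometryGroup F ⇑Q)).comp (Subgroup.inclusion (GO_le_normalizer Q))

omit [Fintype F] [DecidableEq F] in
theorem fGO_apply (g : ↥(GO Q)) :
    fGO Q g = Psi (Cfsg.isometryGroup F ⇑Q) ⟨g.1, GO_le_normalizer Q g.2⟩ := rfl

omit [Fintype F] [DecidableEq F] in
theorem img_eq_map (K : Subgroup (GL ι F)) (hK : K ≤ GO Q) :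
    img (Cfsg.isometryGroup F ⇑Q) K = (K.subgroupOf (GO Q)).map (fGO Q) := by
  ext β
  unfold img
  rw [Subgroup.mem_map, Subgroup.mem_map]
  constructor
  · rintro ⟨g, hg, rfl⟩
    exact ⟨⟨g.1, hK hg⟩, hg, rfl⟩
  · rintro ⟨g, hg, rfl⟩
    exact ⟨⟨g.1, GO_le_normalizer Q g.2⟩, hg, rfl⟩

omit [Fintype F] [DecidableEq F] in
theorem pgoAut_eq_range : Cfsg.pgoAut F ⇑Q = (fGO Q).range := by
  rw [pgoAut_eq, img_eq_map Q _ le_rfl, Subgroup.subgroupOf_self, ← MonoidHom.range_eq_map]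

omit [DecidableEq F] in
/-- the kernel of the action of the similarity group: the scalars -/
theorem fGO_eq_one_iff (h2 : (2 : F) ≠ 0) (hQ : (QuadraticMap.polarBilin Q).Nondegenerate)
    (h5 : 5 ≤ Fintype.card ι) (T : HypTriple Q) (g : ↥(GO Q)) :
    fGO Q g = 1 ↔ ∃ c : Fˣ, (g.1 : GL ι F) = scalGL c := by
  have hperf := Omega_perfect Q hQ h5
  rw [fGO_apply, Psi_eq_one_iff _ hperf]
  constructor
  · intro h
    obtain ⟨c, hc⟩ := centralizer_GO Q h2 hQ h5 T g h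
    have hc0 : c ≠ 0 := by
      rintro rfl
      rw [zero_smul] at hc
      have hne : Nonempty ι := by
        by_contra hcon
        rw [not_nonempty_iff] at hcon
        have := T.huw 0 0
        rw [if_pos rfl] at this
        have hz : T.u 0 = 0 := Subsingleton.elim _ _
        rw [hz, QuadraticMap.polar_zero_left] at this
        exact zero_ne_one this
      have h1 := congrArg Matrix.det hc
      rw [Matrix.det_zero] at h1
      have h3 : IsUnit ((g.1 : GL ι F) : Matrix ι ι F).det :=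
        (Matrix.isUnit_iff_isUnit_det _).mp (Units.isUnit _)
      rw [h1] at h3
      exact not_isUnit_zero h3
    refine ⟨Units.mk0 c hc0, ?_⟩
    apply Units.ext
    rw [scalGL_val, hc]
    rfl
  · rintro ⟨c, hc⟩ s
    change (g.1 : GL ι F) * (s.1.1 : GL ι F) * (g.1 : GL ι F)⁻¹ = _
    rw [hc, scalGL_comm, mul_inv_cancel_right]

/-- the invariants, with values in `(ℤ/2)²` -/
noncomputable def theta' (h2 : (2 : F) ≠ 0) (hQ : (QuadraticMap.polarBilin Q).Nondegenerate)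
    (v₀ : ι → F) (hv₀ : Q v₀ ≠ 0) (m : ℕ) (hm : Fintype.card ι = 2 * m) :
    ↥(GO Q) →* Multiplicative (ZMod 2 × ZMod 2) :=
  epsHom.comp (theta Q h2 hQ v₀ hv₀ m hm)

theorem theta'_eq_one_iff (h2 : (2 : F) ≠ 0) (hQ : (QuadraticMap.polarBilin Q).Nondegenerate)
    (v₀ : ι → F) (hv₀ : Q v₀ ≠ 0) (m : ℕ) (hm : Fintype.card ι = 2 * m) (g : ↥(GO Q)) :
    theta' Q h2 hQ v₀ hv₀ m hm g = 1 ↔
      (IsSquare (mulr Q g : F) ∧ ((g.1 : GL ι F) : Matrix ι ι F).det = (mulr Q g : F) ^ m) := by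
  unfold theta'
  rw [MonoidHom.comp_apply, map_eq_one_iff epsHom epsHom_bijective.1, Prod.ext_iff,
    ← theta_fst Q h2 hQ v₀ hv₀ m hm, ← theta_snd Q h2 hQ v₀ hv₀ m hm]
  rfl

theorem theta'_surjective (h2 : (2 : F) ≠ 0) (hQ : (QuadraticMap.polarBilin Q).Nondegenerate)
    (v₀ : ι → F) (hv₀ : Q v₀ ≠ 0) (m : ℕ) (hm : Fintype.card ι = 2 * m)
    (h : ↥(GO Q)) (hh : ¬ IsSquare (mulr Q h : F)) :
    Function.Surjective (theta' Q h2 hQ v₀ hv₀ m hm) :=
  epsHom_bijective.2.comp (theta_surjective Q h2 hQ v₀ hv₀ m hm h hh)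

theorem fGO_scalGL (hQ : (QuadraticMap.polarBilin Q).Nondegenerate)
    (h5 : 5 ≤ Fintype.card ι) (c : Fˣ) : fGO Q ⟨scalGL c, scalGL_mem_GO Q c⟩ = 1 := by
  have hperf := Omega_perfect Q hQ h5
  rw [fGO_apply, Psi_eq_one_iff _ hperf]
  intro s
  change (scalGL c : GL ι F) * (s.1.1 : GL ι F) * (scalGL c : GL ι F)⁻¹ = _
  rw [scalGL_comm, mul_inv_cancel_right]

theorem ker_fGO_le (h2 : (2 : F) ≠ 0) (hQ : (QuadraticMap.polarBilin Q).Nondegenerate)
    (h5 : 5 ≤ Fintype.card ι) (T : HypTriple Q)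
    (v₀ : ι → F) (hv₀ : Q v₀ ≠ 0) (m : ℕ) (hm : Fintype.card ι = 2 * m) :
    (fGO Q).ker ≤ (theta' Q h2 hQ v₀ hv₀ m hm).ker := by
  intro g hg
  rw [MonoidHom.mem_ker, fGO_eq_one_iff Q h2 hQ h5 T] at hg
  obtain ⟨c, hc⟩ := hg
  have hg' : g = ⟨scalGL c, scalGL_mem_GO Q c⟩ := Subtype.ext hc
  rw [MonoidHom.mem_ker, theta'_eq_one_iff, hg', mulr_scalGL Q v₀ hv₀]
  refine ⟨⟨(c : F), by rw [Units.val_mul]⟩, ?_⟩
  change ((scalGL c : GL ι F) : Matrix ι ι F).det = _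
  rw [scalGL_val, Matrix.det_smul, Matrix.det_one, mul_one, hm, Units.val_mul, ← pow_two, ← pow_mul]

theorem map_ker_theta' (h2 : (2 : F) ≠ 0) (hQ : (QuadraticMap.polarBilin Q).Nondegenerate)
    (h5 : 5 ≤ Fintype.card ι)
    (v₀ : ι → F) (hv₀ : Q v₀ ≠ 0) (m : ℕ) (hm : Fintype.card ι = 2 * m) :
    (theta' Q h2 hQ v₀ hv₀ m hm).ker.map (fGO Q) = Cfsg.psoAut F ⇑Q := by
  rw [psoAut_eq, img_eq_map Q _ ((specialIsometryGL_le _).trans (isometryGroup_le_GO Q))]
  apply le_antisymm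
  · rintro _ ⟨g, hg, rfl⟩
    rw [SetLike.mem_coe, MonoidHom.mem_ker, theta'_eq_one_iff] at hg
    obtain ⟨⟨c, hc⟩, hdet⟩ := hg
    have hc0 : c ≠ 0 := by
      rintro rfl
      rw [mul_zero] at hc
      exact Units.ne_zero _ hc
    set cu : Fˣ := Units.mk0 c hc0 with hcu
    set s : GL ι F := scalGL cu⁻¹ * (g.1 : GL ι F) with hs
    have hsval : (s : Matrix ι ι F) = c⁻¹ • ((g.1 : GL ι F) : Matrix ι ι F) := by
      rw [hs, Units.val_mul, scalGL_val, Matrix.smul_mul, Matrix.one_mul]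
      rfl
    have hsO : s ∈ Cfsg.isometryGroup F ⇑Q := by
      rw [mem_isometryGroup_iff]
      intro v
      rw [hsval, Matrix.smul_mulVec, Q_smul, mulr_spec, hc]
      field_simp
    have hsdet : (s : Matrix ι ι F).det = 1 := by
      rw [hsval, Matrix.det_smul, hdet, hm, hc, ← pow_two, ← pow_mul, inv_pow, inv_mul_cancel₀]
      exact pow_ne_zero _ hc0
    have hsSO : s ∈ Cfsg.specialIsometryGL F ⇑Q := by
      unfold Cfsg.specialIsometryGL Cfsg.Geo.specialLinear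
      refine Subgroup.mem_inf.mpr ⟨hsO, ?_⟩
      rw [MonoidHom.mem_ker]
      apply Units.ext
      exact hsdet
    refine ⟨⟨s, isometryGroup_le_GO Q hsO⟩, hsSO, ?_⟩
    have hg' : g = ⟨scalGL cu, scalGL_mem_GO Q cu⟩ * ⟨s, isometryGroup_le_GO Q hsO⟩ := by
      apply Subtype.ext
      change (g.1 : GL ι F) = scalGL cu * (scalGL cu⁻¹ * (g.1 : GL ι F))
      have e : (scalGL cu : GL ι F) * scalGL cu⁻¹ = 1 := by
        unfold scalGL
        rw [← map_mul, mul_inv_cancel, map_one]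
      rw [← mul_assoc, e, one_mul]
    rw [hg', map_mul, fGO_scalGL Q hQ h5, one_mul]
  · rintro _ ⟨g, hg, rfl⟩
    refine ⟨g, ?_, rfl⟩
    rw [SetLike.mem_coe, MonoidHom.mem_ker, theta'_eq_one_iff]
    have hgSO : g.1 ∈ Cfsg.specialIsometryGL F ⇑Q := hg
    have hgO := specialIsometryGL_le _ hgSO
    rw [mulr_of_isometry Q v₀ hv₀ g hgO, Units.val_one, one_pow]
    refine ⟨⟨1, (mul_one 1).symm⟩, ?_⟩
    unfold Cfsg.specialIsometryGL Cfsg.Geo.specialLinear at hgSO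
    have := (Subgroup.mem_inf.mp hgSO).2
    rw [MonoidHom.mem_ker] at this
    exact congrArg Units.val this

/-- **`PGO`-image modulo `PSO`-image is `C₂ × C₂`.** -/
theorem exists_hom_pgoAut_psoAut (h2 : (2 : F) ≠ 0)
    (hQ : (QuadraticMap.polarBilin Q).Nondegenerate)
    (h5 : 5 ≤ Fintype.card ι) (T : HypTriple Q) (m : ℕ) (hm : Fintype.card ι = 2 * m)
    (h : ↥(GO Q)) (hh : ¬ IsSquare (mulr Q h : F)) :
    ∃ φ : ↥(Cfsg.pgoAut F ⇑Q) →* Multiplicative (ZMod 2 × ZMod 2), Function.Surjective φ ∧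
      φ.ker = (Cfsg.psoAut F ⇑Q).subgroupOf (Cfsg.pgoAut F ⇑Q) := by
  have hv₀ := T_nonsingular Q T
  rw [pgoAut_eq_range, ← map_ker_theta' Q h2 hQ h5 _ hv₀ m hm]
  exact exists_hom_of_range (fGO Q) (theta' Q h2 hQ _ hv₀ m hm)
    (theta'_surjective Q h2 hQ _ hv₀ m hm h hh) (ker_fGO_le Q h2 hQ h5 T _ hv₀ m hm)

end main

end Cfsg.Agent.Lib.Helper6.SimAut
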