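import Mathlib
import Cfsg.Prelude.Def_LieTypeDatum
import Cfsg.Agent.Lib.Helper6.Hyperbolic2
import Cfsg.Agent.Lib.Helper6.Quad
import Cfsg.Agent.Lib.Helper6.OmegaList
import Cfsg.Agent.Lib.Helper6.SimAut

/-!
# The two classes of maximal totally singular subspaces and similarities

For a quadratic form of maximal Witt index on `F^ι` (dimension `2m`), a similarity `g` preserves the
two classes of maximal totally singular subspaces iff the codimension of `U₀ ∩ gU₀` in `U₀` is even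
for one (any) maximal totally singular subspace `U₀`; multiplying by a reflection changes the parity.
-/

set_option autoImplicit false
set_option linter.unusedSectionVars false
set_option linter.unusedVariables false

namespace Cfsg.Agent.Lib.Helper6.SingClass

open Module QuadraticMap LinearMap.BilinForm Matrix Cfsg.Agent.Lib.Helper6
  Cfsg.Agent.Lib.Helper6.OmegaAut Cfsg.Agent.Lib.Helper6.SimAut

section
variable {F : Type*} [Field F] {ι : Type} [Fintype ι] [DecidableEq ι] (Q : QuadraticForm F (ι → F))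

/-- maximal totally singular = totally singular of dimension `m` -/
theorem isMax_iff (hQ : (polarBilin Q).Nondegenerate) (m : ℕ) (hV : Fintype.card ι = 2 * m)
    (E : Submodule F (ι → F)) (hE : TS Q E) (hEm : finrank F E = m) (U : Submodule F (ι → F)) :
    Cfsg.IsMaxTotallySingular ⇑Q U ↔ TS Q U ∧ finrank F U = m := by
  have hfin : finrank F (ι → F) = 2 * m := by rw [Module.finrank_fintype_fun_eq_card, hV]
  constructor
  · rintro ⟨hU, hmax⟩
    have hU' : TS Q U := hU
    refine ⟨hU', ?_⟩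
    have h1 := Cfsg.Agent.S0760.le_of_max Q hQ U E hU' hE (fun W hW hts => hmax W hts hW)
    have h2 := hU'.two_mul_finrank_le hQ
    omega
  · rintro ⟨hU, hUm⟩
    refine ⟨hU, ?_⟩
    intro W hW hUW
    symm
    apply Submodule.eq_of_le_of_finrank_le hUW
    have h2 := TS.two_mul_finrank_le hQ (W := W) hW
    omega

theorem toLin'_injective (g : GL ι F) :
    Function.Injective (Matrix.toLin' (g : Matrix ι ι F)) := by
  have h : Function.Injective (g : Matrix ι ι F).mulVec :=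
    Matrix.mulVec_injective_iff_isUnit.mpr ⟨g, rfl⟩
  intro x y hxy
  rw [Matrix.toLin'_apply, Matrix.toLin'_apply] at hxy
  exact h hxy

theorem image_mul (g h : Matrix ι ι F) (U : Submodule F (ι → F)) :
    Cfsg.imageSubmodule (g * h) U = Cfsg.imageSubmodule g (Cfsg.imageSubmodule h U) := by
  unfold Cfsg.imageSubmodule
  rw [Matrix.toLin'_mul, Submodule.map_comp]

theorem image_inf (g : GL ι F) (U W : Submodule F (ι → F)) :
    Cfsg.imageSubmodule (g : Matrix ι ι F) (U ⊓ W) =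
      Cfsg.imageSubmodule (g : Matrix ι ι F) U ⊓ Cfsg.imageSubmodule (g : Matrix ι ι F) W := by
  unfold Cfsg.imageSubmodule
  exact Submodule.map_inf _ (toLin'_injective g)

theorem finrank_image (g : GL ι F) (U : Submodule F (ι → F)) :
    finrank F ↥(Cfsg.imageSubmodule (g : Matrix ι ι F) U) = finrank F ↥U := by
  unfold Cfsg.imageSubmodule
  exact (LinearEquiv.finrank_eq (Submodule.equivMapOfInjective _ (toLin'_injective g) U)).symm

theorem mem_image (g : Matrix ι ι F) (U : Submodule F (ι → F)) (x : ι → F) :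
    x ∈ Cfsg.imageSubmodule g U ↔ ∃ y ∈ U, g *ᵥ y = x := by
  unfold Cfsg.imageSubmodule
  rw [Submodule.mem_map]
  simp only [Matrix.toLin'_apply]

theorem TS_image (g : Matrix ι ι F) (μ : F) (hg : ∀ v, Q (g *ᵥ v) = μ * Q v)
    (U : Submodule F (ι → F)) (hU : TS Q U) : TS Q (Cfsg.imageSubmodule g U) := by
  intro x hx
  obtain ⟨y, hy, rfl⟩ := (mem_image g U x).mp hx
  rw [hg, hU y hy, mul_zero]

/-- the codimension of the intersection -/
noncomputable def dd (m : ℕ) (U W : Submodule F (ι → F)) : ℕ := m - finrank F ↥(U ⊓ W)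

theorem dd_comm (m : ℕ) (U W : Submodule F (ι → F)) : dd m U W = dd m W U := by
  unfold dd
  rw [inf_comm]

theorem dd_image (m : ℕ) (g : GL ι F) (U W : Submodule F (ι → F)) :
    dd m (Cfsg.imageSubmodule (g : Matrix ι ι F) U) (Cfsg.imageSubmodule (g : Matrix ι ι F) W) =
      dd m U W := by
  unfold dd
  rw [← image_inf, finrank_image]

theorem dd_self (m : ℕ) (U : Submodule F (ι → F)) (hU : finrank F U = m) : dd m U U = 0 := by
  unfold dd
  rw [inf_idem, hU, Nat.sub_self]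

theorem dd_three (hQ : (polarBilin Q).Nondegenerate) (m : ℕ) (hV : Fintype.card ι = 2 * m)
    (U W X : Submodule F (ι → F)) (hU : TS Q U) (hUm : finrank F U = m) (hW : TS Q W)
    (hWm : finrank F W = m) (hX : TS Q X) (hXm : finrank F X = m) :
    Even (dd m U W + dd m W X + dd m U X) := by
  have hfin : finrank F (ι → F) = 2 * m := by rw [Module.finrank_fintype_fun_eq_card, hV]
  exact parity_three Q hQ m hfin _ U W X hU hUm hW hWm hX hXm rfl

theorem mem_orth_span (v x : ι → F) :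
    x ∈ LinearMap.BilinForm.orthogonal (polarBilin Q) (Submodule.span F {v}) ↔
      QuadraticMap.polar ⇑Q v x = 0 := by
  rw [mem_orth_iff]
  constructor
  · intro h
    exact h v (Submodule.mem_span_singleton_self v)
  · intro h n hn
    obtain ⟨a, rfl⟩ := Submodule.mem_span_singleton.mp hn
    rw [QuadraticMap.polar_smul_left, h, smul_zero]

theorem inf_refl_image (U₀ : Submodule F (ι → F)) (hU₀ : TS Q U₀) (v : ι → F) (hv : Q v ≠ 0) :
    U₀ ⊓ Cfsg.imageSubmodule (Cfsg.reflectionMatrix ⇑Q v) U₀ =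
      U₀ ⊓ LinearMap.BilinForm.orthogonal (polarBilin Q) (Submodule.span F {v}) := by
  ext x
  rw [Submodule.mem_inf, Submodule.mem_inf, mem_image, mem_orth_span]
  constructor
  · rintro ⟨hx, y, hy, hyx⟩
    refine ⟨hx, ?_⟩
    rw [reflectionMatrix_mulVec] at hyx
    set c := (Q v)⁻¹ * QuadraticMap.polar ⇑Q v y with hc
    have h1 : c • v ∈ U₀ := by
      have : c • v = y - x := by rw [← hyx]; abel
      rw [this]
      exact U₀.sub_mem hy hx
    have h2 := hU₀ _ h1
    rw [Q_smul] at h2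
    have hc0 : c = 0 := by
      rcases mul_eq_zero.mp h2 with h | h
      · exact mul_self_eq_zero.mp h
      · exact absurd h hv
    have hxy : x = y := by rw [← hyx, hc0, zero_smul, sub_zero]
    rw [hxy]
    rcases mul_eq_zero.mp (hc.symm.trans hc0) with h | h
    · exact absurd (inv_eq_zero.mp h) hv
    · exact h
  · rintro ⟨hx, hpx⟩
    refine ⟨hx, x, hx, ?_⟩
    rw [reflectionMatrix_mulVec, hpx, mul_zero, zero_smul, sub_zero]

/-- a reflection moves a maximal totally singular subspace to an adjacent one -/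
theorem dd_refl (hQ : (polarBilin Q).Nondegenerate) (m : ℕ) (hV : Fintype.card ι = 2 * m)
    (U₀ : Submodule F (ι → F)) (hU₀ : TS Q U₀) (hU₀m : finrank F U₀ = m) (v : ι → F)
    (hv : Q v ≠ 0) :
    dd m U₀ (Cfsg.imageSubmodule (Cfsg.reflectionMatrix ⇑Q v) U₀) = 1 := by
  have hfin : finrank F (ι → F) = 2 * m := by rw [Module.finrank_fintype_fun_eq_card, hV]
  unfold dd
  rw [inf_refl_image Q U₀ hU₀ v hv]
  set H := LinearMap.BilinForm.orthogonal (polarBilin Q) (Submodule.span F {v}) with hH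
  have hv0 : v ≠ 0 := by
    rintro rfl
    exact hv (QuadraticMap.map_zero Q)
  have h1 : finrank F ↥H = 2 * m - 1 := by
    rw [hH, finrank_orthogonal hQ, hfin, finrank_span_singleton hv0]
  have h2 := Submodule.finrank_sup_add_finrank_inf_eq U₀ H
  have h3 : ¬ U₀ ≤ H := by
    intro hle
    have hvU : v ∈ LinearMap.BilinForm.orthogonal (polarBilin Q) U₀ := by
      rw [mem_orth_iff]
      intro w hw
      have := (mem_orth_span Q v w).mp (hle hw)
      rw [QuadraticMap.polar_comm]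
      exact this
    rw [TS.orth_eq hQ hfin hU₀ hU₀m] at hvU
    exact hv (hU₀ v hvU)
  have h4 : H < U₀ ⊔ H := by
    apply lt_of_le_of_ne le_sup_right
    intro heq
    apply h3
    rw [heq]
    exact le_sup_left
  have h5 := Submodule.finrank_lt_finrank_of_lt h4
  have h6 := Submodule.finrank_le (U₀ ⊔ H)
  have h7 : 1 ≤ finrank F (ι → F) := by
    have := Submodule.finrank_le (Submodule.span F {v})
    rw [finrank_span_singleton hv0] at this
    exact this
  omega

theorem Q_refl (v : ι → F) (hv : Q v ≠ 0) (x : ι → F) :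
    Q (Cfsg.reflectionMatrix ⇑Q v *ᵥ x) = 1 * Q x := by
  rw [reflectionMatrix_mulVec, Q_sub, Q_smul, QuadraticMap.polar_smul_right,
    QuadraticMap.polar_comm ⇑Q x v, smul_eq_mul]
  field_simp
  ring

/-- criterion for preserving the two classes -/
theorem psc_iff (hQ : (polarBilin Q).Nondegenerate) (m : ℕ) (hV : Fintype.card ι = 2 * m)
    (U₀ : Submodule F (ι → F)) (hU₀ : TS Q U₀) (hU₀m : finrank F U₀ = m) (g : GL ι F) (μ : F)
    (hg : ∀ v, Q ((g : Matrix ι ι F) *ᵥ v) = μ * Q v) :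
    Cfsg.PreservesSingularClasses ⇑Q (g : Matrix ι ι F) ↔
      Even (dd m U₀ (Cfsg.imageSubmodule (g : Matrix ι ι F) U₀)) := by
  constructor
  · intro h
    have := h U₀ ((isMax_iff Q hQ m hV U₀ hU₀ hU₀m U₀).mpr ⟨hU₀, hU₀m⟩)
    unfold Cfsg.SameParityClass at this
    rw [hU₀m] at this
    exact this
  · intro h U hU
    obtain ⟨hUts, hUm⟩ := (isMax_iff Q hQ m hV U₀ hU₀ hU₀m U).mp hU
    unfold Cfsg.SameParityClass
    rw [hUm]
    change Even (dd m U (Cfsg.imageSubmodule (g : Matrix ι ι F) U))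
    have t1 := dd_three Q hQ m hV U U₀ (Cfsg.imageSubmodule (g : Matrix ι ι F) U₀) hUts hUm hU₀ hU₀m
      (TS_image Q _ μ hg U₀ hU₀) ((finrank_image g U₀).trans hU₀m)
    have t2 := dd_three Q hQ m hV U (Cfsg.imageSubmodule (g : Matrix ι ι F) U₀)
      (Cfsg.imageSubmodule (g : Matrix ι ι F) U) hUts hUm
      (TS_image Q _ μ hg U₀ hU₀) ((finrank_image g U₀).trans hU₀m)
      (TS_image Q _ μ hg U hUts) ((finrank_image g U).trans hUm)
    rw [dd_image, dd_comm m U₀ U] at t2
    simp only [Nat.even_add] at t1 t2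
    tauto

/-- multiplying by a reflection changes the parity -/
theorem dd_step (hQ : (polarBilin Q).Nondegenerate) (m : ℕ) (hV : Fintype.card ι = 2 * m)
    (U₀ : Submodule F (ι → F)) (hU₀ : TS Q U₀) (hU₀m : finrank F U₀ = m) (g : GL ι F) (μ : F)
    (hg : ∀ v, Q ((g : Matrix ι ι F) *ᵥ v) = μ * Q v) (r : GL ι F) (v : ι → F) (hv : Q v ≠ 0)
    (hr : (r : Matrix ι ι F) = Cfsg.reflectionMatrix ⇑Q v) :
    Even (dd m U₀ (Cfsg.imageSubmodule ((g * r : GL ι F) : Matrix ι ι F) U₀)) ↔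
      ¬ Even (dd m U₀ (Cfsg.imageSubmodule (g : Matrix ι ι F) U₀)) := by
  have hrq : ∀ x, Q ((r : Matrix ι ι F) *ᵥ x) = 1 * Q x := by
    intro x
    rw [hr]
    exact Q_refl Q v hv x
  have t1 := dd_three Q hQ m hV U₀ (Cfsg.imageSubmodule (g : Matrix ι ι F) U₀)
    (Cfsg.imageSubmodule (g : Matrix ι ι F) (Cfsg.imageSubmodule (r : Matrix ι ι F) U₀))
    hU₀ hU₀m (TS_image Q _ μ hg U₀ hU₀) ((finrank_image g U₀).trans hU₀m)
    (TS_image Q _ μ hg _ (TS_image Q _ 1 hrq U₀ hU₀))
    ((finrank_image g _).trans ((finrank_image r U₀).trans hU₀m))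
  rw [dd_image, hr, dd_refl Q hQ m hV U₀ hU₀ hU₀m v hv, ← hr, ← image_mul] at t1
  rw [Units.val_mul]
  simp only [Nat.even_add] at t1
  have h1 : ¬ Even 1 := by decide
  tauto

theorem dd_of_le (m : ℕ) (U₀ : Submodule F (ι → F)) (hU₀m : finrank F U₀ = m) (g : GL ι F)
    (hle : Cfsg.imageSubmodule (g : Matrix ι ι F) U₀ ≤ U₀) :
    Cfsg.imageSubmodule (g : Matrix ι ι F) U₀ = U₀ :=
  Submodule.eq_of_le_of_finrank_le hle (by rw [finrank_image])

end

section fin
variable {F : Type*} [Field F] [Fintype F] {ι : Type} [Fintype ι] [DecidableEq ι]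
  (Q : QuadraticForm F (ι → F))

/-- products of reflections, by induction on the list -/
theorem dd_list (h2 : (2 : F) ≠ 0) (hQ : (polarBilin Q).Nondegenerate) (m : ℕ)
    (hV : Fintype.card ι = 2 * m)
    (U₀ : Submodule F (ι → F)) (hU₀ : TS Q U₀) (hU₀m : finrank F U₀ = m) (μ : F)
    (vs : List (ι → F)) (hvs : ∀ v ∈ vs, Q v ≠ 0) :
    ∀ g₀ : GL ι F, (∀ v, Q ((g₀ : Matrix ι ι F) *ᵥ v) = μ * Q v) →
      ∃ g : GL ι F, (g : Matrix ι ι F) =
          (g₀ : Matrix ι ι F) * (vs.map (fun v => Cfsg.reflectionMatrix ⇑Q v)).prod ∧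
        (Even (dd m U₀ (Cfsg.imageSubmodule (g : Matrix ι ι F) U₀)) ↔
          (Even (dd m U₀ (Cfsg.imageSubmodule (g₀ : Matrix ι ι F) U₀)) ↔ Even vs.length)) ∧
        (g : Matrix ι ι F).det = (g₀ : Matrix ι ι F).det * (-1) ^ vs.length := by
  classical
  induction vs with
  | nil =>
    intro g₀ hg₀
    refine ⟨g₀, by simp, by simp, by simp⟩
  | cons v vs ih =>
    intro g₀ hg₀
    have hv : Q v ≠ 0 := hvs v List.mem_cons_self
    obtain ⟨r, hr⟩ := exists_of_list' Q [v] (by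
      intro w hw
      rw [List.mem_singleton] at hw
      rw [hw]; exact hv)
    rw [List.map_cons, List.map_nil, List.prod_cons, List.prod_nil, mul_one] at hr
    have hg₀' : ∀ x, Q (((g₀ * r.1 : GL ι F) : Matrix ι ι F) *ᵥ x) = μ * Q x := by
      intro x
      rw [Units.val_mul, ← Matrix.mulVec_mulVec, hg₀, hr, Q_refl Q v hv, one_mul]
    obtain ⟨g, hg1, hg2, hg3⟩ := ih (fun w hw => hvs w (List.mem_cons_of_mem _ hw)) (g₀ * r.1) hg₀'
    refine ⟨g, ?_, ?_, ?_⟩
    · rw [hg1, Units.val_mul, hr, List.map_cons, List.prod_cons, Matrix.mul_assoc]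
    · rw [hg2, dd_step Q hQ m hV U₀ hU₀ hU₀m g₀ μ hg₀ r.1 v hv hr, List.length_cons,
        Nat.even_add_one]
      tauto
    · rw [hg3, Units.val_mul, Matrix.det_mul, hr, det_reflectionMatrix Q h2 v hv,
        List.length_cons, pow_succ]
      ring

theorem card_ne_two (h2 : (2 : F) ≠ 0) : Fintype.card F ≠ 2 := by
  intro h
  apply h2
  have := Nat.cast_card_eq_zero F
  rw [h] at this
  exact_mod_cast this

theorem psc_iff_det_aux (h2 : (2 : F) ≠ 0) (hQ : (polarBilin Q).Nondegenerate) (m : ℕ)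
    (hV : Fintype.card ι = 2 * m)
    (U₀ : Submodule F (ι → F)) (hU₀ : TS Q U₀) (hU₀m : finrank F U₀ = m)
    (g : GL ι F) (μ : F) (hμ : μ ≠ 0) (hg : ∀ v, Q ((g : Matrix ι ι F) *ᵥ v) = μ * Q v)
    (g₀ : GL ι F) (hg₀ : ∀ v, Q ((g₀ : Matrix ι ι F) *ᵥ v) = μ * Q v)
    (hle : Cfsg.imageSubmodule (g₀ : Matrix ι ι F) U₀ ≤ U₀)
    (hdet : (g₀ : Matrix ι ι F).det = μ ^ m) :
    Cfsg.PreservesSingularClasses ⇑Q (g : Matrix ι ι F) ↔ (g : Matrix ι ι F).det = μ ^ m := by
  have ho : g₀⁻¹ * g ∈ Cfsg.isometryGroup F ⇑Q := by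
    rw [mem_isometryGroup_iff]
    intro x
    have h1 := hg₀ (((g₀⁻¹ * g : GL ι F) : Matrix ι ι F) *ᵥ x)
    rw [Matrix.mulVec_mulVec, ← Units.val_mul, mul_inv_cancel_left, hg] at h1
    exact (mul_left_cancel₀ hμ h1).symm
  obtain ⟨vs, hvs, hprod⟩ := exists_list' Q hQ (Or.inl (card_ne_two h2)) ⟨g₀⁻¹ * g, ho⟩
  obtain ⟨g', hg'1, hg'2, hg'3⟩ := dd_list Q h2 hQ m hV U₀ hU₀ hU₀m μ vs hvs g₀ hg₀
  have hgg : g' = g := by
    apply Units.ext
    rw [hg'1, ← hprod]
    change (g₀ : Matrix ι ι F) * ((g₀⁻¹ * g : GL ι F) : Matrix ι ι F) = _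
    rw [← Units.val_mul, mul_inv_cancel_left]
  rw [hgg] at hg'2 hg'3
  rw [psc_iff Q hQ m hV U₀ hU₀ hU₀m g μ hg, hg'2, dd_of_le m U₀ hU₀m g₀ hle, dd_self m U₀ hU₀m,
    hg'3, hdet]
  have hne : (-1 : F) ≠ 1 := by
    intro h
    apply h2
    linear_combination -h
  constructor
  · intro h
    have he : Even vs.length := h.mp ⟨0, rfl⟩
    rw [he.neg_one_pow, mul_one]
  · intro h
    have h1 : (-1 : F) ^ vs.length = 1 := by
      have hm0 : μ ^ m ≠ 0 := pow_ne_zero _ hμ
      apply mul_left_cancel₀ hm0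
      rw [h, mul_one]
    have he : Even vs.length := (neg_one_pow_eq_one_iff_even hne).mp h1
    exact ⟨fun _ => he, fun _ => ⟨0, rfl⟩⟩

theorem image_scal_le (c : Fˣ) (U₀ : Submodule F (ι → F)) :
    Cfsg.imageSubmodule ((scalGL c : GL ι F) : Matrix ι ι F) U₀ ≤ U₀ := by
  intro x hx
  obtain ⟨y, hy, rfl⟩ := (mem_image _ U₀ x).mp hx
  rw [scalGL_val, Matrix.smul_mulVec, Matrix.one_mulVec]
  exact U₀.smul_mem _ hy

/-- **Criterion**: a similarity preserves the two classes of maximal totally singular subspaces iff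
`det g = μ(g)^m`. -/
theorem psc_iff_det (h2 : (2 : F) ≠ 0) (hQ : (polarBilin Q).Nondegenerate) (m : ℕ)
    (hV : Fintype.card ι = 2 * m)
    (U₀ : Submodule F (ι → F)) (hU₀ : TS Q U₀) (hU₀m : finrank F U₀ = m)
    (h : GL ι F) (lam : F) (hlam : ¬ IsSquare lam)
    (hh : ∀ v, Q ((h : Matrix ι ι F) *ᵥ v) = lam * Q v)
    (hhU : Cfsg.imageSubmodule (h : Matrix ι ι F) U₀ ≤ U₀)
    (hhdet : (h : Matrix ι ι F).det = lam ^ m)
    (g : GL ι F) (μ : F) (hμ : μ ≠ 0) (hg : ∀ v, Q ((g : Matrix ι ι F) *ᵥ v) = μ * Q v) :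
    Cfsg.PreservesSingularClasses ⇑Q (g : Matrix ι ι F) ↔ (g : Matrix ι ι F).det = μ ^ m := by
  classical
  have hlam0 : lam ≠ 0 := by
    rintro rfl
    exact hlam ⟨0, (mul_zero 0).symm⟩
  by_cases hsq : IsSquare μ
  · obtain ⟨c, hc⟩ := hsq
    have hc0 : c ≠ 0 := by
      rintro rfl
      rw [mul_zero] at hc
      exact hμ hc
    apply psc_iff_det_aux Q h2 hQ m hV U₀ hU₀ hU₀m g μ hμ hg (scalGL (Units.mk0 c hc0))
    · intro v
      rw [scalGL_val, Matrix.smul_mulVec, Matrix.one_mulVec, Q_smul, hc]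
      rfl
    · exact image_scal_le _ U₀
    · rw [scalGL_val, Matrix.det_smul, Matrix.det_one, mul_one, hV, hc, ← pow_two, ← pow_mul]
      rfl
  · have hsq' : IsSquare (μ * lam) := by
      rw [← quadraticChar_one_iff_isSquare (mul_ne_zero hμ hlam0), map_mul,
        quadraticChar_neg_one_iff_not_isSquare.mpr hsq,
        quadraticChar_neg_one_iff_not_isSquare.mpr hlam]
      norm_num
    obtain ⟨s, hs⟩ := hsq'
    set c := s / lam with hc
    have hcc : μ = c * c * lam := by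
      rw [hc, div_mul_div_comm, ← hs]
      field_simp
    have hc0 : c ≠ 0 := by
      rintro h0
      rw [h0, mul_zero, zero_mul] at hcc
      exact hμ hcc
    apply psc_iff_det_aux Q h2 hQ m hV U₀ hU₀ hU₀m g μ hμ hg (scalGL (Units.mk0 c hc0) * h)
    · intro v
      rw [Units.val_mul, ← Matrix.mulVec_mulVec, scalGL_val, Matrix.smul_mulVec, Matrix.one_mulVec,
        Q_smul, hh, hcc]
      change c * c * (lam * Q v) = _
      ring
    · rw [Units.val_mul, image_mul]
      intro x hx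
      obtain ⟨y, hy, rfl⟩ := (mem_image _ _ x).mp hx
      exact image_scal_le _ U₀ ((mem_image _ _ _).mpr ⟨y, hhU hy, rfl⟩)
    · rw [Units.val_mul, Matrix.det_mul, scalGL_val, Matrix.det_smul, Matrix.det_one, mul_one, hV,
        hhdet, hcc]
      change c ^ (2 * m) * lam ^ m = _
      rw [mul_pow, ← pow_two, ← pow_mul]

end fin

end Cfsg.Agent.Lib.Helper6.SingClass
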