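import Mathlib
import Cfsg.Agent.Lib.Helper6.SingClass
import Cfsg.Agent.Lib.Helper15.QuadCount6

/-!
# The minus type form over a quadratic extension

Over a quadratic extension `K` of the finite field `F` (odd order) the minus type form becomes
split; a similarity `g` over `F` preserves the two classes of maximal totally singular subspaces
over `K` iff `det g = μ(g)^(m+1)`.
-/

set_option autoImplicit false
set_option linter.unusedSectionVars false
set_option linter.unusedVariables false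
set_option linter.style.haveILetI false

namespace Cfsg.Agent.Lib.Helper6.ExtQuad

open Module QuadraticMap Matrix Cfsg.Agent.Lib.Helper6 Cfsg.Agent.Lib.Helper6.SingClass
  Cfsg.Agent.Lib.Helper6.OmegaAut Cfsg.Agent.Lib.Helper6.SimAut Cfsg.Agent.Lib.Helper15

section squares
variable {F : Type*} [Field F] [Fintype F] {K : Type*} [Field K] [Fintype K] [Algebra F K]

/-- every element of `F` is a square in a quadratic extension -/
theorem isSquare_algebraMap (hodd : Odd (Fintype.card F)) (hK : finrank F K = 2) (x : F) :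
    IsSquare (algebraMap F K x) := by
  by_cases hx : x = 0
  · rw [hx, map_zero]
    exact ⟨0, (mul_zero 0).symm⟩
  have hcard : Fintype.card K = Fintype.card F ^ 2 := by
    rw [Module.card_eq_pow_finrank (K := F) (V := K), hK]
  have h2F : (2 : F) ≠ 0 := two_ne_zero_of_odd_card hodd
  have h2K : (2 : K) ≠ 0 := by
    intro h
    apply h2F
    apply (algebraMap F K).injective
    rw [map_ofNat, h, map_zero]
  have hchar : ringChar K ≠ 2 := by
    intro h
    apply h2K
    have := ringChar.spec K 2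
    have h3 : ((2 : ℕ) : K) = 0 := by rw [this, h]
    exact_mod_cast h3
  have hx' : algebraMap F K x ≠ 0 := by
    intro h
    apply hx
    apply (algebraMap F K).injective
    rw [h, map_zero]
  rw [FiniteField.isSquare_iff hchar hx', hcard]
  obtain ⟨k, hk⟩ := hodd
  have h1 : Fintype.card F ^ 2 / 2 = (Fintype.card F - 1) * (k + 1) := by
    rw [hk]
    have : (2 * k + 1) ^ 2 = 2 * ((2 * k + 1 - 1) * (k + 1)) + 1 := by
      simp only [Nat.add_sub_cancel]
      ring
    rw [this]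
    omega
  rw [h1, pow_mul, ← map_pow, FiniteField.pow_card_sub_one_eq_one x hx, map_one, one_pow]

end squares

section vanish
variable {K : Type*} [Field K] {ι : Type} [Fintype ι] [DecidableEq ι]

/-- a quadratic form vanishing on the sums of at most two basis vectors vanishes -/
theorem quad_eq_zero (R : QuadraticForm K (ι → K))
    (h1 : ∀ i, R (Pi.single i 1) = 0)
    (h2 : ∀ i j, QuadraticMap.polar ⇑R (Pi.single i 1) (Pi.single j 1) = 0) (v : ι → K) :
    R v = 0 := by
  have hv : v = ∑ i, v i • (Pi.single i 1 : ι → K) := by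
    funext j
    simp [Finset.sum_apply, Pi.single_apply]
  rw [hv, QuadraticMap.map_sum]
  have e1 : ∑ i, R (v i • (Pi.single i 1 : ι → K)) = 0 := by
    apply Finset.sum_eq_zero
    intro i _
    rw [QuadraticMap.map_smul, h1, smul_zero]
  rw [e1, zero_add]
  apply Finset.sum_eq_zero
  intro ij _
  induction ij using Sym2.inductionOn with
  | hf i j =>
    rw [Sym2.map_mk, QuadraticMap.polarSym2_sym2Mk, QuadraticMap.polar_smul_left,
      QuadraticMap.polar_smul_right, h2, smul_zero, smul_zero]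

end vanish

section basechange
variable {F : Type*} [Field F] {K : Type*} [Field K] (φ : F →+* K) (m : ℕ) (a b : F)

theorem Q_map (w : (Fin m ⊕ Fin m) ⊕ Fin 2 → F) :
    Qgen m (binForm (φ a) (φ b)) (φ ∘ w) = φ (Qgen m (binForm a b) w) := by
  rw [Qgen_apply, Qgen_apply, binForm_apply, binForm_apply]
  simp only [Function.comp_apply, map_add, map_sum, map_mul, map_pow]

theorem single_map {ι : Type} [DecidableEq ι] (i : ι) :
    (Pi.single i 1 : ι → K) = φ ∘ (Pi.single i 1 : ι → F) := by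
  funext j
  rw [Function.comp_apply, Pi.single_apply, Pi.single_apply]
  split_ifs
  · rw [map_one]
  · rw [map_zero]

theorem mulVec_map {ι : Type} [Fintype ι] (g : Matrix ι ι F) (w : ι → F) :
    (g.map φ) *ᵥ (φ ∘ w) = φ ∘ (g *ᵥ w) := by
  funext i
  rw [Function.comp_apply, RingHom.map_mulVec]

/-- a similarity over `F` is a similarity over `K` -/
theorem sim_map (g : Matrix ((Fin m ⊕ Fin m) ⊕ Fin 2) ((Fin m ⊕ Fin m) ⊕ Fin 2) F) (μ : F)
    (hg : ∀ v, Qgen m (binForm a b) (g *ᵥ v) = μ * Qgen m (binForm a b) v)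
    (v : (Fin m ⊕ Fin m) ⊕ Fin 2 → K) :
    Qgen m (binForm (φ a) (φ b)) ((g.map φ) *ᵥ v) = φ μ * Qgen m (binForm (φ a) (φ b)) v := by
  set QK := Qgen m (binForm (φ a) (φ b)) with hQK
  set R : QuadraticForm K ((Fin m ⊕ Fin m) ⊕ Fin 2 → K) :=
    QK.comp (Matrix.toLin' (g.map φ)) - (φ μ) • QK with hR
  have hRapp : ∀ x, R x = QK ((g.map φ) *ᵥ x) - φ μ * QK x := by
    intro x
    rw [hR, _root_.sub_apply, QuadraticMap.comp_apply, _root_.smul_apply,
      Matrix.toLin'_apply, smul_eq_mul]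
  have hRmap : ∀ w : (Fin m ⊕ Fin m) ⊕ Fin 2 → F, R (φ ∘ w) = 0 := by
    intro w
    rw [hRapp, mulVec_map, hQK, Q_map, Q_map, hg, map_mul, sub_self]
  have h0 := quad_eq_zero R (fun i => by rw [single_map φ i]; exact hRmap _) (fun i j => by
    unfold QuadraticMap.polar
    rw [single_map φ i, single_map φ j]
    have : φ ∘ (Pi.single i 1 : (Fin m ⊕ Fin m) ⊕ Fin 2 → F) + φ ∘ (Pi.single j 1 : _ → F) =
        φ ∘ ((Pi.single i 1 : (Fin m ⊕ Fin m) ⊕ Fin 2 → F) + Pi.single j 1) := by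
      funext k
      simp
    rw [this, hRmap, hRmap, hRmap]
    simp) v
  rw [hRapp] at h0
  exact sub_eq_zero.mp h0

end basechange

section split
variable {K : Type*} [Field K] (m : ℕ) (a b : K)

theorem nondegenerate_binForm_of_disc (hd : a ^ 2 - 4 * b ≠ 0) :
    (polarBilin (binForm a b)).Nondegenerate := by
  have hleft : ∀ u : Fin 2 → K, (∀ v, polar (binForm a b) u v = 0) → u = 0 := by
    intro u hu
    have h10 := hu ![1, 0]
    have h01 := hu ![0, 1]
    rw [polar_binForm] at h10 h01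
    simp only [Matrix.cons_val_zero, Matrix.cons_val_one] at h10 h01
    have e1 : (a ^ 2 - 4 * b) * u 1 = 0 := by linear_combination a * h10 - 2 * h01
    have e0 : (a ^ 2 - 4 * b) * u 0 = 0 := by linear_combination a * h01 - 2 * b * h10
    funext i
    fin_cases i
    · exact (mul_eq_zero.1 e0).resolve_left hd
    · exact (mul_eq_zero.1 e1).resolve_left hd
  constructor
  · intro u hu
    exact hleft u hu
  · intro u hu
    apply hleft u
    intro v
    rw [polar_comm]
    exact hu v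

/-- the linear map whose kernel is the standard maximal totally singular subspace -/
noncomputable def LL (ρ : K) : ((Fin m ⊕ Fin m) ⊕ Fin 2 → K) →ₗ[K] (Fin m → K) × K :=
  (LinearMap.funLeft K K (fun i : Fin m => (Sum.inl (Sum.inr i) : (Fin m ⊕ Fin m) ⊕ Fin 2))).prod
    (LinearMap.proj (Sum.inr 0) - ρ • LinearMap.proj (Sum.inr 1))

theorem LL_apply (ρ : K) (v : (Fin m ⊕ Fin m) ⊕ Fin 2 → K) :
    LL m ρ v = (fun i => v (Sum.inl (Sum.inr i)), v (Sum.inr 0) - ρ * v (Sum.inr 1)) := rfl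

/-- the standard maximal totally singular subspace over the splitting field -/
noncomputable def U0K (ρ : K) : Submodule K ((Fin m ⊕ Fin m) ⊕ Fin 2 → K) := LinearMap.ker (LL m ρ)

theorem mem_U0K (ρ : K) (v : (Fin m ⊕ Fin m) ⊕ Fin 2 → K) :
    v ∈ U0K m ρ ↔ (∀ i, v (Sum.inl (Sum.inr i)) = 0) ∧ v (Sum.inr 0) = ρ * v (Sum.inr 1) := by
  unfold U0K
  rw [LinearMap.mem_ker, LL_apply, Prod.mk_eq_zero, sub_eq_zero]
  constructor
  · rintro ⟨h1, h2⟩
    exact ⟨fun i => congrFun h1 i, h2⟩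
  · rintro ⟨h1, h2⟩
    exact ⟨funext h1, h2⟩

theorem U0K_TS (ρ : K) (hρ : ρ ^ 2 + a * ρ + b = 0) : TS (Qgen m (binForm a b)) (U0K m ρ) := by
  intro v hv
  obtain ⟨h1, h2⟩ := (mem_U0K m ρ v).mp hv
  rw [Qgen_apply, binForm_apply, h2]
  have : ∑ i : Fin m, v (Sum.inl (Sum.inl i)) * v (Sum.inl (Sum.inr i)) = 0 := by
    apply Finset.sum_eq_zero
    intro i _
    rw [h1 i, mul_zero]
  rw [this, zero_add]
  linear_combination (v (Sum.inr 1)) ^ 2 * hρ

theorem U0K_finrank (ρ : K) : finrank K (U0K m ρ) = m + 1 := by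
  have h1 := LinearMap.finrank_range_add_finrank_ker (LL m ρ)
  have h2 : LinearMap.range (LL m ρ) = ⊤ := by
    rw [LinearMap.range_eq_top]
    rintro ⟨w, c⟩
    refine ⟨Sum.elim (Sum.elim 0 w) ![c, 0], ?_⟩
    rw [LL_apply]
    simp
  rw [h2, finrank_top, Module.finrank_prod, Module.finrank_fintype_fun_eq_card,
    Module.finrank_fintype_fun_eq_card, Module.finrank_self, Fintype.card_sum, Fintype.card_sum,
    Fintype.card_fin, Fintype.card_fin] at h1
  unfold U0K
  omega

end split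

section criterion
variable {F : Type*} [Field F] [Fintype F] (m : ℕ) (a b : F)

theorem disc_ne_zero (h2 : (2 : F) ≠ 0)
    (hab : ∀ z₁ z₂ : F, z₁ ^ 2 + a * z₁ * z₂ + b * z₂ ^ 2 = 0 → z₁ = 0 ∧ z₂ = 0) :
    a ^ 2 - 4 * b ≠ 0 := by
  intro h
  have := hab (-a / 2) 1 (by
    field_simp
    linear_combination -h)
  exact one_ne_zero this.2

/-- **Criterion over a quadratic extension.** -/
theorem pscK_iff (hodd : Odd (Fintype.card F))
    (hab : ∀ z₁ z₂ : F, z₁ ^ 2 + a * z₁ * z₂ + b * z₂ ^ 2 = 0 → z₁ = 0 ∧ z₂ = 0)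
    {K : Type*} [Field K] [Algebra F K] (hK : finrank F K = 2)
    (g : GL ((Fin m ⊕ Fin m) ⊕ Fin 2) F) (μ : F) (hμ : μ ≠ 0)
    (hg : ∀ v, Qgen m (binForm a b) ((g : Matrix ((Fin m ⊕ Fin m) ⊕ Fin 2) ((Fin m ⊕ Fin m) ⊕ Fin 2) F) *ᵥ v) =
      μ * Qgen m (binForm a b) v) :
    Cfsg.PreservesSingularClasses
      (Cfsg.quadFormMinus m K (algebraMap F K a) (algebraMap F K b))
      ((g : Matrix ((Fin m ⊕ Fin m) ⊕ Fin 2) ((Fin m ⊕ Fin m) ⊕ Fin 2) F).map (algebraMap F K)) ↔
    (g : Matrix ((Fin m ⊕ Fin m) ⊕ Fin 2) ((Fin m ⊕ Fin m) ⊕ Fin 2) F).det = μ ^ (m + 1) := by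
  classical
  haveI : Module.Finite F K := Module.finite_of_finrank_pos (by rw [hK]; norm_num)
  haveI : Finite K := Module.finite_of_finite F
  haveI : Fintype K := Fintype.ofFinite K
  set φ : F →+* K := algebraMap F K with hφ
  have hinj : Function.Injective φ := (algebraMap F K).injective
  have h2F : (2 : F) ≠ 0 := two_ne_zero_of_odd_card hodd
  have h2K : (2 : K) ≠ 0 := by
    intro h
    apply h2F
    apply hinj
    rw [map_ofNat, h, map_zero]
  have hdisc := disc_ne_zero a b h2F hab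
  obtain ⟨δ, hδ⟩ := isSquare_algebraMap (K := K) hodd hK (a ^ 2 - 4 * b)
  set ρ : K := (-φ a + δ) / 2 with hρdef
  have hρ : ρ ^ 2 + φ a * ρ + φ b = 0 := by
    rw [hρdef]
    field_simp
    have : δ * δ = φ a ^ 2 - 4 * φ b := by
      rw [← hδ, hφ, map_sub, map_pow, map_mul, map_ofNat]
    linear_combination this
  have hfunK : Cfsg.quadFormMinus m K (φ a) (φ b) = ⇑(Qgen m (binForm (φ a) (φ b))) := by
    funext v
    rw [Qgen_apply, binForm_apply]
    rfl
  rw [hfunK]
  set QK := Qgen m (binForm (φ a) (φ b)) with hQK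
  have hdiscK : φ a ^ 2 - 4 * φ b ≠ 0 := by
    intro h
    apply hdisc
    apply hinj
    rw [map_zero, ← h, map_sub, map_pow, map_mul, map_ofNat]
  have hQKnd := nondegenerate_Qgen m (binForm (φ a) (φ b))
    (nondegenerate_binForm_of_disc (φ a) (φ b) hdiscK)
  have hV : Fintype.card ((Fin m ⊕ Fin m) ⊕ Fin 2) = 2 * (m + 1) := by
    rw [Fintype.card_sum, Fintype.card_sum, Fintype.card_fin, Fintype.card_fin]; ring
  set gK : GL ((Fin m ⊕ Fin m) ⊕ Fin 2) K := Matrix.GeneralLinearGroup.map φ g with hgK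
  have hgKval : (gK : Matrix ((Fin m ⊕ Fin m) ⊕ Fin 2) ((Fin m ⊕ Fin m) ⊕ Fin 2) K) =
      (g : Matrix ((Fin m ⊕ Fin m) ⊕ Fin 2) ((Fin m ⊕ Fin m) ⊕ Fin 2) F).map φ := rfl
  rw [← hgKval]
  have hμK : φ μ ≠ 0 := by
    intro h
    apply hμ
    apply hinj
    rw [h, map_zero]
  obtain ⟨c, hc⟩ := isSquare_algebraMap (K := K) hodd hK μ
  have hc0 : c ≠ 0 := by
    rintro rfl
    rw [mul_zero] at hc
    exact hμK hc
  have hsimK : ∀ v, QK ((gK : Matrix ((Fin m ⊕ Fin m) ⊕ Fin 2) ((Fin m ⊕ Fin m) ⊕ Fin 2) K) *ᵥ v) =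
      φ μ * QK v := by
    intro v
    rw [hgKval]
    exact sim_map φ m a b _ μ hg v
  have key := psc_iff_det_aux QK h2K hQKnd (m + 1) hV (U0K m ρ) (U0K_TS m (φ a) (φ b) ρ hρ)
    (U0K_finrank m ρ) gK (φ μ) hμK hsimK (scalGL (Units.mk0 c hc0))
    (by
      intro v
      rw [scalGL_val, Matrix.smul_mulVec, Matrix.one_mulVec, Q_smul]
      change c * c * QK v = _
      rw [← hc])
    (image_scal_le _ _)
    (by
      rw [scalGL_val, Matrix.det_smul, Matrix.det_one, mul_one, hV]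
      change c ^ (2 * (m + 1)) = _
      rw [pow_mul, pow_two, ← hc])
  rw [key, hgKval, ← RingHom.mapMatrix_apply, ← RingHom.map_det, ← map_pow]
  exact hinj.eq_iff

end criterion

section existence
universe u
variable {F : Type u} [Field F] (a b : F)

open Polynomial in
theorem exists_quadExt
    (hab : ∀ z₁ z₂ : F, z₁ ^ 2 + a * z₁ * z₂ + b * z₂ ^ 2 = 0 → z₁ = 0 ∧ z₂ = 0) :
    ∃ (K : Type u) (_ : Field K) (_ : Algebra F K), finrank F K = 2 := by
  set p : F[X] := X ^ 2 + C a * X + C b with hp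
  have hdeg : p.natDegree = 2 := by
    rw [hp]
    compute_degree!
  have hmonic : p.Monic := by
    rw [hp]
    monicity!
  have hirr : Irreducible p := by
    rw [hmonic.irreducible_iff_roots_eq_zero_of_degree_le_three (by omega) (by omega)]
    rw [Multiset.eq_zero_iff_forall_notMem]
    intro x hx
    rw [mem_roots hmonic.ne_zero, IsRoot.def, hp] at hx
    simp only [eval_add, eval_pow, eval_X, eval_mul, eval_C] at hx
    have := hab x 1 (by linear_combination hx)
    exact one_ne_zero this.2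
  haveI : Fact (Irreducible p) := ⟨hirr⟩
  refine ⟨AdjoinRoot p, inferInstance, inferInstance, ?_⟩
  rw [(AdjoinRoot.powerBasis hmonic.ne_zero).finrank, AdjoinRoot.powerBasis_dim, hdeg]

end existence

section final
universe u
variable {F : Type u} [Field F] [Fintype F] (m : ℕ) (a b : F)

/-- **Criterion for the minus type form.** -/
theorem pscMinus_iff (hodd : Odd (Fintype.card F))
    (hab : ∀ z₁ z₂ : F, z₁ ^ 2 + a * z₁ * z₂ + b * z₂ ^ 2 = 0 → z₁ = 0 ∧ z₂ = 0)
    (g : GL ((Fin m ⊕ Fin m) ⊕ Fin 2) F) (μ : F) (hμ : μ ≠ 0)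
    (hg : ∀ v, Qgen m (binForm a b) ((g : Matrix ((Fin m ⊕ Fin m) ⊕ Fin 2) ((Fin m ⊕ Fin m) ⊕ Fin 2) F) *ᵥ v) =
      μ * Qgen m (binForm a b) v) :
    Cfsg.PreservesSingularClassesMinus m a b
      (g : Matrix ((Fin m ⊕ Fin m) ⊕ Fin 2) ((Fin m ⊕ Fin m) ⊕ Fin 2) F) ↔
    (g : Matrix ((Fin m ⊕ Fin m) ⊕ Fin 2) ((Fin m ⊕ Fin m) ⊕ Fin 2) F).det = μ ^ (m + 1) := by
  constructor
  · rintro ⟨K, iK, aK, hK, h⟩
    exact (pscK_iff m a b hodd hab hK g μ hμ hg).mp h
  · intro h
    obtain ⟨K, iK, aK, hK⟩ := exists_quadExt a b hab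
    exact ⟨K, iK, aK, hK, (pscK_iff m a b hodd hab hK g μ hμ hg).mpr h⟩

end final

end Cfsg.Agent.Lib.Helper6.ExtQuad
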