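import Mathlib
import Cfsg.Prelude.Def_GeometricClasses
import Cfsg.Agent.Lib.Helper6.OrthForms
import Cfsg.Agent.Lib.Helper6.SiegelOmega
import Cfsg.Agent.Lib.Helper13.OrthNondeg
import Cfsg.Agent.Lib.Helper13.OrthMax
import Cfsg.Agent.Lib.Helper9.HubCorA1

/-!
# S5814 / S5835 / S5859, piece P-DEC (helper6): `Ω` does not stabilise an orthogonal decomposition

`not_omega_le_decomp` of `notes/S5814Skel_helper29.lean.txt`, exact signature.
-/

set_option autoImplicit false
set_option linter.unusedSectionVars false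
set_option linter.unusedVariables false

namespace Cfsg.Agent.Lib.Helper6.S5814PDEC

open Matrix Cfsg.Geo Module QuadraticMap
open Cfsg.Agent.Lib.Helper6 Cfsg.Agent.Lib.Helper13 Cfsg.Agent.Lib.Helper13.OND

universe u
variable {F : Type u} [Field F] [Fintype F] {ι : Type} [Fintype ι] [DecidableEq ι]
variable (Q : QuadraticForm F (ι → F))

/-- a non-degenerate non-zero subspace contains a non-singular vector -/
theorem exists_nonsing (X : Submodule F (ι → F)) (hX : IsNondegenerateOn (polar ⇑Q) X) (hX0 : X ≠ ⊥) :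
    ∃ e ∈ X, Q e ≠ 0 := by
  obtain ⟨x, hxX, hx0⟩ := (Submodule.ne_bot_iff X).1 hX0
  obtain ⟨y, hyX, hy⟩ := (hX x hxX hx0).2
  by_cases h1 : Q x = 0
  · by_cases h2 : Q y = 0
    · refine ⟨x + y, X.add_mem hxX hyX, ?_⟩
      have : Q (x + y) = polar (⇑Q) x y := by
        unfold polar
        rw [h1, h2, sub_zero, sub_zero]
      rw [this]
      exact hy
    · exact ⟨y, hyX, h2⟩
  · exact ⟨x, hxX, h1⟩

/-- P-DEC : `Ω` does not stabilise an orthogonal decomposition into subspaces of dimension `k ≠ 2`. -/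
theorem not_omega_le_decomp (hQ : (polarBilin Q).Nondegenerate) (h7 : 7 ≤ Fintype.card ι)
    (h2 : (2 : F) ≠ 0) {t k : ℕ} (hk : k ≠ 2) (D : Fin t → Submodule F (ι → F))
    (hD : IsOrthogonalMDecomposition ⇑Q k D) : ¬ omegaGL ⇑Q ≤ decompositionStabilizer D := by
  intro hle
  have hdec := hD.decomp.decomp
  have ht2 := hdec.two_le
  have hcard := Cfsg.Agent.Lib.Helper9.HubCor.mul_eq_card_of_isMDecomposition D hdec
  set i₀ : Fin t := ⟨0, by omega⟩ with hi₀
  have hD0 : D i₀ ≠ ⊥ := by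
    intro h
    have h1 := hdec.finrank_eq i₀
    rw [h, finrank_bot] at h1
    have := hdec.pos
    omega
  obtain ⟨e, heD, hQe⟩ := exists_nonsing Q (D i₀) (hD.decomp.nondegenerate i₀) hD0
  have hee : polar (⇑Q) e e = 2 * Q e := by
    rw [polar_self, two_smul, two_mul]
  have hee0 : polar (⇑Q) e e ≠ 0 := by
    rw [hee]
    exact mul_ne_zero h2 hQe
  -- the line `⟨e⟩` is non-degenerate
  have hline : IsNondegenerateOn (polar ⇑Q) (Submodule.span F {e}) := by
    intro w hw hw0
    obtain ⟨c, rfl⟩ := Submodule.mem_span_singleton.1 hw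
    have hc : c ≠ 0 := by
      rintro rfl
      exact hw0 (zero_smul _ _)
    have h1 : polar (⇑Q) e (c • e) ≠ 0 := by
      rw [polar_smul_right, smul_eq_mul]
      exact mul_ne_zero hc hee0
    exact ⟨⟨e, Submodule.mem_span_singleton_self e, h1⟩,
      ⟨e, Submodule.mem_span_singleton_self e, by rw [polar_comm]; exact h1⟩⟩
  have hP := orthPair_of_nondeg Q hQ (Submodule.span F {e}) hline
  set E : Submodule F (ι → F) := LinearMap.BilinForm.orthogonal (polarBilin Q) (Submodule.span F {e}) with hE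
  have hfr := hP.finrank_add
  have he0 : e ≠ 0 := by
    rintro rfl
    exact hQe (map_zero Q)
  rw [finrank_span_singleton he0] at hfr
  have hperp : ∀ b ∈ E, polar (⇑Q) e b = 0 := fun b hb =>
    hP.orth e (Submodule.mem_span_singleton_self e) b hb
  -- `k < n - 1`
  have hklt : k < finrank F E := by
    have : 2 * k ≤ t * k := Nat.mul_le_mul_right k ht2
    omega
  have hnotle : ¬ E ≤ D i₀ := by
    intro h
    have h1 := Submodule.finrank_mono h
    rw [hdec.finrank_eq i₀] at h1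
    omega
  -- a singular `w ∈ e^⊥`, `w ∉ D i₀`
  obtain ⟨w, hwE, hQw, hwD⟩ := exists_singular_not_mem Q E (D i₀) hP.ndW (by omega) hnotle
  have hw0 : w ≠ 0 := by
    rintro rfl
    exact hwD (D i₀).zero_mem
  have hew : polar (⇑Q) e w = 0 := hperp w hwE
  -- `e'` with `Q e' = - Q e`, perpendicular to `e` and `w`
  obtain ⟨b, hbE, hwb, hQb⟩ := exists_value_perp Q hP.ndW (by omega) hwE hw0 hQw (-(Q e))
  have heb : polar (⇑Q) e b = 0 := hperp b hbE
  have hQu : Q (e + b) = 0 := by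
    rw [Q_add, hQb, heb]
    ring
  have huw : polar (⇑Q) (e + b) w = 0 := by
    rw [polar_add_left, hew, polar_comm (⇑Q) b w, hwb, add_zero]
  have hue : polar (⇑Q) (e + b) e = 2 * Q e := by
    rw [polar_add_left, hee, polar_comm (⇑Q) b e, heb, add_zero]
  have h5 : 5 ≤ Fintype.card ι := by omega
  have hρΩ := siegIso_mem_Omega Q hQ h5 (e + b) w hQu huw
  have hρ : ((siegIso Q (e + b) w hQu huw : ↥(Cfsg.isometryGroup F ⇑Q)) : GL ι F) ∈ omegaGL ⇑Q :=
    (mem_omegaGL_iff Q _).2 ⟨_, hρΩ, rfl⟩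
  obtain ⟨σ, hσ⟩ := hle hρ
  -- `ρ e = e - (2 Q e) w`
  have hρe : gact Q (siegIso Q (e + b) w hQu huw) e = e + (-(2 * Q e)) • w := by
    rw [gact_siegIso, polar_comm (⇑Q) w e, hew, hQw, hue, zero_mul, sub_zero, zero_smul, add_zero]
  have hmem : gact Q (siegIso Q (e + b) w hQu huw) e ∈ D (σ i₀) := by
    rw [← hσ i₀]
    exact Submodule.mem_map_of_mem heD
  rw [hρe] at hmem
  have h2Qe : (2 * Q e) ≠ 0 := mul_ne_zero h2 hQe
  by_cases hj : σ i₀ = i₀
  · rw [hj] at hmem
    apply hwD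
    have h1 : (-(2 * Q e)) • w ∈ D i₀ := by
      have := (D i₀).sub_mem hmem heD
      rwa [add_sub_cancel_left] at this
    have h3 := (D i₀).smul_mem (-(2 * Q e))⁻¹ h1
    rwa [smul_smul, inv_mul_cancel₀ (neg_ne_zero.mpr h2Qe), one_smul] at h3
  · have h1 := hD.decomp.orthogonal (σ i₀) i₀ hj _ hmem e heD
    rw [polar_add_left, polar_smul_left, hee, polar_comm (⇑Q) w e, hew, smul_eq_mul, mul_zero, add_zero] at h1
    exact h2Qe h1

end Cfsg.Agent.Lib.Helper6.S5814PDEC
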