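import Mathlib
import Cfsg.Prelude.Def_GeometricClasses
import Cfsg.Agent.Lib.Helper6.OrthForms
import Cfsg.Agent.Lib.Helper13.OrthNondeg
import Cfsg.Agent.Lib.Helper13.OrthMax

/-!
# S5814 / S5835 / S5859, piece C-PLANE (helper6): over `GF(3)` the stabiliser in `Ω` of a plus-type plane
stabilises a non-degenerate hyperplane

`plane_le_stab` of `notes/S5814Skel_helper29.lean.txt`, exact signature.
-/

set_option autoImplicit false
set_option linter.unusedSectionVars false
set_option linter.unusedVariables false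

namespace Cfsg.Agent.Lib.Helper6.S5814CPLANE

open Matrix Cfsg.Geo Module QuadraticMap
open Cfsg.Agent.Lib.Helper6 Cfsg.Agent.Lib.Helper13 Cfsg.Agent.Lib.Helper13.OND

universe u
variable {F : Type u} [Field F] [Fintype F] {ι : Type} [Fintype ι] [DecidableEq ι]
variable (Q : QuadraticForm F (ι → F))

omit [Fintype F] in
theorem isNondegenerateOn_of_ndOn' (X : Submodule F (ι → F)) (hX : NdOn Q X) :
    IsNondegenerateOn (polar ⇑Q) X := by
  intro w hw hw0
  obtain ⟨y, hy, hwy⟩ := hX w hw hw0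
  exact ⟨⟨y, hy, by rw [polar_comm]; exact hwy⟩, ⟨y, hy, hwy⟩⟩

/-- a plus-type non-degenerate plane is spanned by a hyperbolic pair -/
theorem exists_hyp_basis (W : Submodule F (ι → F)) (hdim : finrank F W = 2)
    (hW : IsNondegenerateOn (polar ⇑Q) W) (hWp : IsPlusTypeOn ⇑Q W) :
    ∃ e f : ι → F, e ∈ W ∧ f ∈ W ∧ (∀ x ∈ W, ∃ a b : F, x = a • e + b • f) ∧ Q e = 0 ∧ Q f = 0 ∧
      polar (⇑Q) e f = 1 := by
  obtain ⟨U, hUW, hUts, hU2⟩ := hWp
  have hU1 : finrank F U = 1 := by omega
  have hpos : 0 < finrank F U := by omega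
  obtain ⟨⟨e, heU⟩, he⟩ := Module.finrank_pos_iff_exists_ne_zero.mp hpos
  have he0 : e ≠ 0 := fun h => he (Subtype.ext h)
  have heW : e ∈ W := hUW heU
  have hQe : Q e = 0 := hUts e heU
  obtain ⟨y, hyW, hy⟩ := (hW e heW he0).2
  change polar Q e y ≠ 0 at hy
  obtain ⟨y', hy'W, hy'⟩ : ∃ y' ∈ W, polar Q e y' = 1 :=
    ⟨(polar Q e y)⁻¹ • y, W.smul_mem _ hyW, by
      rw [polar_smul_right, smul_eq_mul, inv_mul_cancel₀ hy]⟩
  have hee : polar Q e e = 0 := by rw [polar_self, hQe, smul_zero]
  obtain ⟨f, hfW, hQf, hef⟩ : ∃ f ∈ W, Q f = 0 ∧ polar Q e f = 1 := by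
    refine ⟨y' - Q y' • e, W.sub_mem hy'W (W.smul_mem _ heW), ?_, ?_⟩
    · rw [sub_eq_add_neg, ← neg_smul, QuadraticMap.map_add Q, QuadraticMap.map_smul,
        polar_smul_right, polar_comm Q y' e, hy', hQe]
      simp
    · rw [polar_sub_right, polar_smul_right, hee, hy']
      simp
  have hfe : polar Q f e = 1 := by rw [polar_comm]; exact hef
  have hff : polar Q f f = 0 := by rw [polar_self, hQf, smul_zero]
  have hli : LinearIndependent F ![e, f] := by
    rw [LinearIndependent.pair_iff]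
    intro s t hst
    have h1 : polar Q e (s • e + t • f) = 0 := by rw [hst, polar_zero_right]
    have h2 : polar Q f (s • e + t • f) = 0 := by rw [hst, polar_zero_right]
    rw [polar_add_right, polar_smul_right, polar_smul_right, hee, hef] at h1
    rw [polar_add_right, polar_smul_right, polar_smul_right, hfe, hff] at h2
    constructor
    · simpa using h2
    · simpa using h1
  have hspan : Submodule.span F (Set.range ![e, f]) = W := by
    apply Submodule.eq_of_le_of_finrank_eq
    · rw [Submodule.span_le]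
      rintro _ ⟨i, rfl⟩
      fin_cases i
      · exact heW
      · exact hfW
    · rw [finrank_span_eq_card hli, hdim]
      rfl
  have hWspan : ∀ x ∈ W, ∃ a b : F, x = a • e + b • f := by
    intro x hx
    rw [← hspan, Matrix.range_cons, Matrix.range_cons, Matrix.range_empty, Set.union_empty] at hx
    have hx' : x ∈ Submodule.span F ({e, f} : Set (ι → F)) := by
      convert hx using 2
      exact Set.insert_eq e {f}
    obtain ⟨a, b, hab⟩ := Submodule.mem_span_pair.mp hx'
    exact ⟨a, b, hab.symm⟩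
  exact ⟨e, f, heW, hfW, hWspan, hQe, hQf, hef⟩

/-- C-PLANE : over `GF(3)` the stabiliser in `Ω` of a plus-type plane stabilises a non-degenerate hyperplane -/
theorem plane_le_stab (hQ : (polarBilin Q).Nondegenerate) (h5 : 5 ≤ Fintype.card ι)
    (hq : Fintype.card F = 3) (W : Submodule F (ι → F)) (hdim : finrank F W = 2)
    (hW : IsNondegenerateOn (polar ⇑Q) W) (hWp : IsPlusTypeOn ⇑Q W) :
    ∃ W' : Submodule F (ι → F), finrank F W' + 1 = Fintype.card ι ∧
      IsNondegenerateOn (polar ⇑Q) W' ∧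
      subspaceStabilizer W ⊓ omegaGL ⇑Q ≤ subspaceStabilizer W' := by
  have hF : ∀ x : F, x ≠ 0 → x * x = 1 := by
    intro x hx
    have h1 := FiniteField.pow_card_sub_one_eq_one x hx
    rw [hq, show 3 - 1 = 2 from rfl, pow_two] at h1
    exact h1
  have h2 : (2 : F) ≠ 0 := two_ne_zero_of_odd_card (by rw [hq]; exact ⟨1, rfl⟩)
  have hdimV : 5 ≤ finrank F (ι → F) := by
    rw [Module.finrank_fintype_fun_eq_card]; exact h5
  obtain ⟨e, f, heW, hfW, hWspan, hQe, hQf, hef⟩ := exists_hyp_basis Q W hdim hW hWp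
  obtain ⟨h1, -, -⟩ := plane_core Q hQ hF hdimV W e f heW hfW hWspan hQe hQf hef
  have hQv : Q (e + f) = 1 := by
    rw [Q_add, hQe, hQf, hef]
    ring
  have hvv : polar (⇑Q) (e + f) (e + f) ≠ 0 := by
    rw [polar_self, hQv, two_smul]
    intro h
    apply h2
    rw [← one_add_one_eq_two]
    exact h
  have hv0 : e + f ≠ 0 := by
    intro h
    rw [h, map_zero] at hQv
    exact zero_ne_one hQv
  have hline : IsNondegenerateOn (polar ⇑Q) (Submodule.span F {e + f}) := by
    intro w hw hw0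
    obtain ⟨c, rfl⟩ := Submodule.mem_span_singleton.1 hw
    have hc : c ≠ 0 := by
      rintro rfl
      exact hw0 (zero_smul _ _)
    have h3 : polar (⇑Q) (e + f) (c • (e + f)) ≠ 0 := by
      rw [polar_smul_right, smul_eq_mul]
      exact mul_ne_zero hc hvv
    exact ⟨⟨e + f, Submodule.mem_span_singleton_self _, h3⟩,
      ⟨e + f, Submodule.mem_span_singleton_self _, by rw [polar_comm]; exact h3⟩⟩
  have hP := orthPair_of_nondeg Q hQ (Submodule.span F {e + f}) hline
  have hfr := hP.finrank_add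
  rw [finrank_span_singleton hv0] at hfr
  refine ⟨LinearMap.BilinForm.orthogonal (polarBilin Q) (Submodule.span F {e + f}), by omega,
    isNondegenerateOn_of_ndOn' Q _ hP.ndW, ?_⟩
  rintro g ⟨hgW, hgΩ⟩
  obtain ⟨x, hx, rfl⟩ := (mem_omegaGL_iff Q g).mp hgΩ
  apply hP.stab_le x
  exact (mem_subspaceStabilizer_iff Q (Submodule.span F {e + f}) x).mpr
    (h1 _ ((mem_subspaceStabilizer_iff Q W x).mp hgW))

end Cfsg.Agent.Lib.Helper6.S5814CPLANE
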