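import Mathlib
import Cfsg.Prelude.Def_GeometricClasses
import Cfsg.Agent.Lib.Helper6.OrthForms
import Cfsg.Agent.Lib.Helper6.SiegelOmega
import Cfsg.Agent.Lib.Helper13.OrthNondeg
import Cfsg.Agent.Lib.Helper13.OrthMax

/-!
# S5814 / S5835 / S5859, piece P-SUBF (helper6): `Ω` is not contained in a subfield group of a proper subfield

`not_omega_le_subfield` of `notes/S5814Skel_helper29.lean.txt`, exact signature.
-/

set_option autoImplicit false
set_option linter.unusedSectionVars false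
set_option linter.unusedVariables false

namespace Cfsg.Agent.Lib.Helper6.S5814PSUBF

open Matrix Cfsg.Geo Module QuadraticMap
open Cfsg.Agent.Lib.Helper6 Cfsg.Agent.Lib.Helper13 Cfsg.Agent.Lib.Helper13.OND

universe u
variable {F : Type u} [Field F] {ι : Type} [Fintype ι] [DecidableEq ι]

/-- for `g` in a subfield group, `B := P⁻¹ g P` satisfies `B i j * B⁻¹ k l ∈ F₀` -/
theorem entry_mul_inv_entry_mem (F₀ : Subfield F) (P g : GL ι F) (hg : g ∈ subfieldSubgroup F₀ P)
    (i j k l : ι) :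
    ((P⁻¹ * g * P : GL ι F) : Matrix ι ι F) i j * ((P⁻¹ * g⁻¹ * P : GL ι F) : Matrix ι ι F) k l ∈ F₀ := by
  unfold subfieldSubgroup at hg
  rw [Subgroup.mem_map] at hg
  obtain ⟨x, hx, rfl⟩ := hg
  have e1 : P⁻¹ * (MulAut.conj P).toMonoidHom x * P = x := by
    rw [MulEquiv.coe_toMonoidHom, MulAut.conj_apply]
    group
  have e2 : P⁻¹ * ((MulAut.conj P).toMonoidHom x)⁻¹ * P = x⁻¹ := by
    rw [MulEquiv.coe_toMonoidHom, MulAut.conj_apply]
    group
  rw [e1, e2]
  rw [Subgroup.mem_sup_of_normal_right] at hx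
  obtain ⟨y, ⟨y₀, rfl⟩, z, hz, rfl⟩ := hx
  obtain ⟨c, hc⟩ := (mem_scalars_iff z).1 hz
  obtain ⟨c', hc'⟩ := (mem_scalars_iff z⁻¹).1 ((scalars ι F).inv_mem hz)
  have hcc : (c : F) * (c' : F) = 1 := by
    have h1 : (z : Matrix ι ι F) * ((z⁻¹ : GL ι F) : Matrix ι ι F) = 1 := by
      rw [← Units.val_mul, mul_inv_cancel, Units.val_one]
    rw [hc, hc', Matrix.smul_mul, Matrix.mul_smul, Matrix.one_mul, smul_smul] at h1
    have h2 := congrFun (congrFun h1 i) i
    rw [Matrix.smul_apply, Matrix.one_apply_eq, smul_eq_mul, mul_one] at h2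
    exact h2
  rw [_root_.mul_inv_rev, Units.val_mul, Units.val_mul, hc, hc', Matrix.mul_smul, Matrix.mul_one, Matrix.smul_mul,
    Matrix.one_mul, Matrix.smul_apply, Matrix.smul_apply, smul_eq_mul, smul_eq_mul, ← map_inv,
    Matrix.GeneralLinearGroup.map_apply, Matrix.GeneralLinearGroup.map_apply]
  have h3 : (c : F) * F₀.subtype ((y₀ : Matrix ι ι F₀) i j) *
      ((c' : F) * F₀.subtype (((y₀⁻¹ : GL ι F₀) : Matrix ι ι F₀) k l)) =
      F₀.subtype ((y₀ : Matrix ι ι F₀) i j) * F₀.subtype (((y₀⁻¹ : GL ι F₀) : Matrix ι ι F₀) k l) := by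
    have : (c : F) * F₀.subtype ((y₀ : Matrix ι ι F₀) i j) *
      ((c' : F) * F₀.subtype (((y₀⁻¹ : GL ι F₀) : Matrix ι ι F₀) k l)) = ((c : F) * (c' : F)) *
      (F₀.subtype ((y₀ : Matrix ι ι F₀) i j) * F₀.subtype (((y₀⁻¹ : GL ι F₀) : Matrix ι ι F₀) k l)) := by ring
    rw [this, hcc, one_mul]
  rw [h3]
  exact F₀.mul_mem (SetLike.coe_mem _) (SetLike.coe_mem _)

/-- a subfield of a finite field containing all squares is everything -/
theorem subfield_eq_top_of_sq [Fintype F] (F₀ : Subfield F) (h : ∀ t : F, t * t ∈ F₀) : F₀ = ⊤ := by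
  rw [eq_top_iff]
  intro t _
  by_cases h2 : (2 : F) = 0
  · have hch : ringChar F = 2 := by
      have h3 : ((2 : ℕ) : F) = 0 := by exact_mod_cast h2
      have h4 := (ringChar.spec F 2).1 h3
      rcases (Nat.dvd_prime Nat.prime_two).1 h4 with h5 | h5
      · exact absurd h5 (CharP.ringChar_ne_one)
      · exact h5
    obtain ⟨r, hr⟩ := FiniteField.isSquare_of_char_two hch t
    rw [hr]
    exact h r
  · have h3 : (2 : F) ∈ F₀ := by
      rw [← one_add_one_eq_two]
      exact F₀.add_mem F₀.one_mem F₀.one_mem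
    have h4 : 2 * t ∈ F₀ := by
      have : 2 * t = (t + 1) * (t + 1) - t * t - 1 := by ring
      rw [this]
      exact F₀.sub_mem (F₀.sub_mem (h _) (h _)) F₀.one_mem
    have h5 : t = 2⁻¹ * (2 * t) := by
      rw [← mul_assoc, inv_mul_cancel₀ h2, one_mul]
    rw [h5]
    exact F₀.mul_mem (F₀.inv_mem h3) h4

variable [Fintype F] (Q : QuadraticForm F (ι → F))

/-- `ρ_{u, t w} = 1 + t N` for singular `w` -/
theorem sieg_smul_eq (u w : ι → F) (hQw : Q w = 0) (t : F) :
    sieg Q u (t • w) = 1 + t • (vecMulVec u (Cfsg.polarVec ⇑Q w) - vecMulVec w (Cfsg.polarVec ⇑Q u)) := by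
  apply matrix_ext_mulVec
  intro x
  rw [sieg_mulVec, Matrix.add_mulVec, Matrix.one_mulVec, Matrix.smul_mulVec, Matrix.sub_mulVec,
    vecMulVec_mulVec, vecMulVec_mulVec, polarVec_dot, polarVec_dot, Q_smul, hQw, polar_smul_left]
  ext i
  simp only [Pi.add_apply, Pi.sub_apply, Pi.smul_apply, MulOpposite.smul_eq_mul_unop,
    MulOpposite.unop_op, smul_eq_mul]
  ring

/-- P-SUBF : `Ω` is not contained in a subfield group of a proper subfield. -/
theorem not_omega_le_subfield (hQ : (polarBilin Q).Nondegenerate) (h5 : 5 ≤ Fintype.card ι)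
    (F₀ : Subfield F) (hF₀ : F₀ ≠ ⊤) (P : GL ι F) : ¬ omegaGL ⇑Q ≤ subfieldSubgroup F₀ P := by
  intro hle
  have hNd : NdOn Q ⊤ := by
    intro x _ hx0
    by_contra hne
    push Not at hne
    exact hx0 (hQ.1 x (fun y => hne y Submodule.mem_top))
  have hfin : finrank F (⊤ : Submodule F (ι → F)) = Fintype.card ι := by
    rw [finrank_top, Module.finrank_fintype_fun_eq_card]
  obtain ⟨u, -, hu0, hQu⟩ := exists_singular_sub Q ⊤ (by omega)
  obtain ⟨u', -, hQu', huu'⟩ := Cfsg.Agent.Lib.Helper13.OND.exists_partner Q ⊤ hNd Submodule.mem_top hu0 hQu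
  obtain ⟨w, -, hw0, hQw, huw, hu'w⟩ := exists_singular_cut2 Q ⊤ u u' (by omega)
  set N : Matrix ι ι F := vecMulVec u (Cfsg.polarVec ⇑Q w) - vecMulVec w (Cfsg.polarVec ⇑Q u) with hN
  have hNu' : N *ᵥ u' = -w := by
    rw [hN, Matrix.sub_mulVec, vecMulVec_mulVec, vecMulVec_mulVec, polarVec_dot, polarVec_dot,
      polar_comm (⇑Q) w u', hu'w, huu']
    ext i
    simp
  have hN0 : N ≠ 0 := by
    intro h
    rw [h, Matrix.zero_mulVec] at hNu'
    exact hw0 (neg_eq_zero.mp hNu'.symm)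
  set N' : Matrix ι ι F := ((P⁻¹ : GL ι F) : Matrix ι ι F) * N * (P : Matrix ι ι F) with hN'
  have hN'0 : N' ≠ 0 := by
    intro h
    apply hN0
    have h1 : N = (P : Matrix ι ι F) * N' * ((P⁻¹ : GL ι F) : Matrix ι ι F) := by
      rw [hN', ← Matrix.mul_assoc, ← Matrix.mul_assoc, ← Units.val_mul, mul_inv_cancel, Units.val_one,
        Matrix.one_mul, Matrix.mul_assoc, ← Units.val_mul, mul_inv_cancel, Units.val_one, Matrix.mul_one]
    rw [h1, h, Matrix.mul_zero, Matrix.zero_mul]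
  obtain ⟨i, j, hij⟩ : ∃ i j, N' i j ≠ 0 := by
    by_contra hcon
    push Not at hcon
    apply hN'0
    ext i j
    exact hcon i j
  have hconjval : ∀ t : F, ((P⁻¹ : GL ι F) : Matrix ι ι F) * (1 + t • N) * (P : Matrix ι ι F) = 1 + t • N' := by
    intro t
    rw [Matrix.mul_add, Matrix.add_mul, Matrix.mul_one, ← Units.val_mul, inv_mul_cancel, Units.val_one,
      Matrix.mul_smul, Matrix.smul_mul, hN']
  have key : ∀ t : F, (t * N' i j) * (t * N' i j) ∈ F₀ := by
    intro t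
    have hpt : polar (⇑Q) u (t • w) = 0 := by rw [polar_smul_right, huw, smul_zero]
    have hρΩ := siegIso_mem_Omega Q hQ h5 u (t • w) hQu hpt
    have hρ : ((siegIso Q u (t • w) hQu hpt : ↥(Cfsg.isometryGroup F ⇑Q)) : GL ι F) ∈ omegaGL ⇑Q :=
      (mem_omegaGL_iff Q _).2 ⟨_, hρΩ, rfl⟩
    have hent := entry_mul_inv_entry_mem F₀ P _ (hle hρ) i j i j
    have hv1 : (((siegIso Q u (t • w) hQu hpt : ↥(Cfsg.isometryGroup F ⇑Q)) : GL ι F) : Matrix ι ι F) =
        1 + t • N := sieg_smul_eq Q u w hQw t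
    have hv2 : ((((siegIso Q u (t • w) hQu hpt : ↥(Cfsg.isometryGroup F ⇑Q)) : GL ι F)⁻¹ : GL ι F) :
        Matrix ι ι F) = 1 + (-t) • N := by
      have h1 : (((siegIso Q u (t • w) hQu hpt : ↥(Cfsg.isometryGroup F ⇑Q)) : GL ι F)⁻¹ : GL ι F) =
          (((siegIso Q u (t • w) hQu hpt)⁻¹ : ↥(Cfsg.isometryGroup F ⇑Q)) : GL ι F) := rfl
      rw [h1, siegIso_inv]
      have h2 : -(t • w) = (-t) • w := by rw [neg_smul]
      have h3 : ((siegIso Q u (-(t • w)) hQu (by rw [polar_neg_right, hpt, neg_zero]) :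
          ↥(Cfsg.isometryGroup F ⇑Q)) : GL ι F).val = sieg Q u (-(t • w)) := rfl
      rw [h3, h2]
      exact sieg_smul_eq Q u w hQw (-t)
    rw [Units.val_mul, Units.val_mul, Units.val_mul, Units.val_mul, hv1, hv2, hconjval, hconjval,
      Matrix.add_apply, Matrix.add_apply, Matrix.smul_apply, Matrix.smul_apply, smul_eq_mul, smul_eq_mul] at hent
    by_cases hd : i = j
    · rw [hd, Matrix.one_apply_eq] at hent
      rw [hd]
      have h1 : t * N' j j * (t * N' j j) = 1 - (1 + t * N' j j) * (1 + -t * N' j j) := by ring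
      rw [h1]
      exact F₀.sub_mem F₀.one_mem hent
    · rw [Matrix.one_apply_ne hd, zero_add, zero_add] at hent
      have h1 : t * N' i j * (t * N' i j) = - (t * N' i j * (-t * N' i j)) := by ring
      rw [h1]
      exact F₀.neg_mem hent
  apply hF₀
  apply subfield_eq_top_of_sq
  intro t
  have h1 := key 1
  rw [one_mul] at h1
  have h2 := key t
  have h3 : t * t = (t * N' i j * (t * N' i j)) * (N' i j * N' i j)⁻¹ := by
    field_simp
  rw [h3]
  exact F₀.mul_mem h2 (F₀.inv_mem h1)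

end Cfsg.Agent.Lib.Helper6.S5814PSUBF
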