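import Mathlib

set_option autoImplicit false

/-!
# Discriminants of bilinear forms

Gram determinants under change of basis, block decompositions along complementary subspaces.
-/

namespace Cfsg.Agent.Lib.Helper6

open Module Matrix

section
variable {F V : Type*} [Field F] [AddCommGroup V] [Module F V]

/-- Change of basis multiplies the Gram determinant by a non-zero square. -/
theorem det_toMatrix_change {ι ι' : Type*} [Fintype ι] [DecidableEq ι] [Fintype ι'] [DecidableEq ι']
    (B : LinearMap.BilinForm F V) (b : Basis ι F V) (b' : Basis ι' F V) :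
    ∃ d : F, d ≠ 0 ∧ (LinearMap.BilinForm.toMatrix b' B).det =
      d ^ 2 * (LinearMap.BilinForm.toMatrix b B).det := by
  classical
  let e : ι' ≃ ι := b'.indexEquiv b
  let b'' : Basis ι F V := b'.reindex e
  have h1 : LinearMap.BilinForm.toMatrix b'' B =
      (LinearMap.BilinForm.toMatrix b' B).submatrix e.symm e.symm := by
    ext i j
    simp [LinearMap.BilinForm.toMatrix_apply, b'']
  have h2 := LinearMap.BilinForm.toMatrix_mul_basis_toMatrix (b := b) b'' B
  have hP : IsUnit (b.toMatrix b'').det := by
    have : Invertible (b.toMatrix b'') := Module.Basis.invertibleToMatrix b b''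
    exact Matrix.isUnit_det_of_invertible _
  refine ⟨(b.toMatrix b'').det, hP.ne_zero, ?_⟩
  rw [← Matrix.det_submatrix_equiv_self e.symm, ← h1, ← h2, det_mul, det_mul, det_transpose]
  ring

/-- Being a square (possibly zero) times a constant is independent of the basis. -/
theorem isSquare_mul_det_toMatrix_iff {ι ι' : Type*} [Fintype ι] [DecidableEq ι] [Fintype ι']
    [DecidableEq ι'] (B : LinearMap.BilinForm F V) (b : Basis ι F V) (b' : Basis ι' F V) (c : F) :
    IsSquare (c * (LinearMap.BilinForm.toMatrix b' B).det) ↔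
      IsSquare (c * (LinearMap.BilinForm.toMatrix b B).det) := by
  obtain ⟨d, hd, h⟩ := det_toMatrix_change B b b'
  rw [h]
  constructor
  · rintro ⟨s, hs⟩
    refine ⟨s / d, ?_⟩
    field_simp
    linear_combination hs
  · rintro ⟨s, hs⟩
    refine ⟨s * d, ?_⟩
    calc c * (d ^ 2 * (LinearMap.BilinForm.toMatrix b B).det)
        = d ^ 2 * (c * (LinearMap.BilinForm.toMatrix b B).det) := by ring
      _ = s * d * (s * d) := by rw [hs]; ring

/-- The determinant of the block matrix `[[0, 1], [1, 0]]`. -/
theorem det_swapBlocks' {m : Type*} [Fintype m] [DecidableEq m] :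
    (Matrix.fromBlocks (0 : Matrix m m F) (1 : Matrix m m F) (1 : Matrix m m F)
      (0 : Matrix m m F)).det = (-1) ^ Fintype.card m := by
  have h1 : Matrix.fromBlocks (1 : Matrix m m F) (1 : Matrix m m F) (0 : Matrix m m F)
      (1 : Matrix m m F) * Matrix.fromBlocks (0 : Matrix m m F) (1 : Matrix m m F)
        (1 : Matrix m m F) (0 : Matrix m m F)
      = Matrix.fromBlocks (1 : Matrix m m F) (1 : Matrix m m F) (1 : Matrix m m F)
        (0 : Matrix m m F) := by
    rw [Matrix.fromBlocks_multiply]
    simp
  have h2 : (Matrix.fromBlocks (1 : Matrix m m F) (1 : Matrix m m F) (0 : Matrix m m F)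
      (1 : Matrix m m F)).det = 1 := by
    rw [Matrix.det_fromBlocks_zero₂₁]; simp
  have h3 : (Matrix.fromBlocks (1 : Matrix m m F) (1 : Matrix m m F) (1 : Matrix m m F)
      (0 : Matrix m m F)).det = (-1) ^ Fintype.card m := by
    rw [Matrix.det_fromBlocks_one₁₁]
    simp [Matrix.det_neg]
  have := congrArg Matrix.det h1
  rw [Matrix.det_mul, h2, one_mul, h3] at this
  exact this

/-- Determinant of a `2 × 2` block matrix with vanishing upper left corner. -/
theorem det_fromBlocks_zero₁₁' {m : Type*} [Fintype m] [DecidableEq m] (A C D : Matrix m m F) :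
    (Matrix.fromBlocks 0 A C D).det = (-1) ^ Fintype.card m * (A.det * C.det) := by
  have h : Matrix.fromBlocks 0 A C D = Matrix.fromBlocks A 0 D C *
      Matrix.fromBlocks (0 : Matrix m m F) (1 : Matrix m m F) (1 : Matrix m m F)
        (0 : Matrix m m F) := by
    rw [Matrix.fromBlocks_multiply]
    simp
  rw [h, det_mul, Matrix.det_fromBlocks_zero₁₂, det_swapBlocks']
  ring

/-- The basis of `V` obtained from bases of two complementary subspaces. -/
noncomputable def complBasis {ι κ : Type*} {P Q : Submodule F V} (h : IsCompl P Q)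
    (bP : Basis ι F P) (bQ : Basis κ F Q) : Basis (ι ⊕ κ) F V :=
  (bP.prod bQ).map (Submodule.prodEquivOfIsCompl P Q h)

@[simp] theorem complBasis_inl {ι κ : Type*} {P Q : Submodule F V} (h : IsCompl P Q)
    (bP : Basis ι F P) (bQ : Basis κ F Q) (i : ι) : complBasis h bP bQ (Sum.inl i) = bP i := by
  simp [complBasis, Basis.prod_apply]

@[simp] theorem complBasis_inr {ι κ : Type*} {P Q : Submodule F V} (h : IsCompl P Q)
    (bP : Basis ι F P) (bQ : Basis κ F Q) (j : κ) : complBasis h bP bQ (Sum.inr j) = bQ j := by
  simp [complBasis, Basis.prod_apply]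

/-- Gram matrix in a basis adapted to a pair of complementary subspaces. -/
theorem toMatrix_complBasis {ι κ : Type*} [Fintype ι] [Fintype κ] [DecidableEq ι] [DecidableEq κ]
    {P Q : Submodule F V} (h : IsCompl P Q) (bP : Basis ι F P) (bQ : Basis κ F Q)
    (B : LinearMap.BilinForm F V) :
    LinearMap.BilinForm.toMatrix (complBasis h bP bQ) B =
      Matrix.fromBlocks (LinearMap.BilinForm.toMatrix bP (B.restrict P))
        (Matrix.of fun i j => B (bP i) (bQ j)) (Matrix.of fun i j => B (bQ i) (bP j))
        (LinearMap.BilinForm.toMatrix bQ (B.restrict Q)) := by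
  ext (i | i) (j | j) <;> simp [LinearMap.BilinForm.toMatrix_apply]

end

end Cfsg.Agent.Lib.Helper6
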