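import Mathlib
import Cfsg.Agent.Lib.Helper6.Discr
import Cfsg.Agent.S0756

set_option autoImplicit false

/-!
# The discriminant criterion for Lagrangians

For a non-degenerate symmetric bilinear form `B` on a `2n`-dimensional space over a finite field
of odd characteristic: there is a totally isotropic subspace of dimension `n` iff
`(-1)^n * disc B` is a square.
-/

namespace Cfsg.Agent.Lib.Helper6

open Module Matrix LinearMap.BilinForm

universe u

variable {F : Type*} [Field F]

/-- `B` has a totally isotropic subspace of dimension `n`. -/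
def HasTI {V : Type*} [AddCommGroup V] [Module F V] (B : LinearMap.BilinForm F V) (n : ℕ) : Prop :=
  ∃ X : Submodule F V, finrank F X = n ∧ ∀ x ∈ X, ∀ y ∈ X, B x y = 0

/-- A Lagrangian forces `(-1)^n disc` to be a square. -/
theorem isSquare_of_hasTI {V : Type*} [AddCommGroup V] [Module F V] [FiniteDimensional F V]
    (B : LinearMap.BilinForm F V) (hS : B.IsSymm) (n : ℕ) (hV : finrank F V = 2 * n)
    (h : HasTI B n) {ι : Type*} [Fintype ι] [DecidableEq ι] (b : Basis ι F V) :
    IsSquare ((-1) ^ n * (LinearMap.BilinForm.toMatrix b B).det) := by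
  classical
  obtain ⟨X, hXn, hX⟩ := h
  obtain ⟨Y, hY⟩ := Submodule.exists_isCompl X
  have hYn : finrank F Y = n := by
    have := Submodule.finrank_add_eq_of_isCompl hY
    omega
  let bX : Basis (Fin n) F X := finBasisOfFinrankEq F X hXn
  let bY : Basis (Fin n) F Y := finBasisOfFinrankEq F Y hYn
  rw [isSquare_mul_det_toMatrix_iff B (complBasis hY bX bY) b, toMatrix_complBasis]
  have h11 : LinearMap.BilinForm.toMatrix bX (B.restrict X) = 0 := by
    ext i j
    simp [LinearMap.BilinForm.toMatrix_apply, hX _ (bX i).2 _ (bX j).2]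
  have hC : (Matrix.of fun i j => B (bY i) (bX j)) =
      (Matrix.of fun i j => B (bX i) (bY j))ᵀ := by
    ext i j
    simp [hS.eq (bY i : V) (bX j : V)]
  rw [h11, det_fromBlocks_zero₁₁', hC, det_transpose, Fintype.card_fin]
  refine ⟨(Matrix.of fun i j => B (bX i) (bY j)).det, ?_⟩
  rw [← mul_assoc, ← mul_pow]
  simp

section finite
variable [Fintype F]

theorem exists_isotropic_of_three_le (h2 : (2 : F) ≠ 0) {V : Type*} [AddCommGroup V] [Module F V]
    [FiniteDimensional F V] (B : LinearMap.BilinForm F V) (hS : B.IsSymm) (hB : B.Nondegenerate)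
    (h3 : 3 ≤ finrank F V) : ∃ v, v ≠ 0 ∧ B v v = 0 := by
  obtain ⟨u, hu⟩ := Cfsg.Agent.S0756.exists_norm_one h2 B hS hB (by omega)
  have hu0 : u ≠ 0 := by
    rintro rfl; simp at hu
  have huu : B u u ≠ 0 := by rw [hu]; exact one_ne_zero
  set W := B.orthogonal (F ∙ u) with hW
  have hWnd : (B.restrict W).Nondegenerate :=
    restrict_nondegenerate_orthogonal_spanSingleton B hB hS.isRefl huu
  have hWdim : finrank F W = finrank F V - 1 := by
    rw [hW, finrank_orthogonal hB, finrank_span_singleton hu0]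
  have hWS : (-(B.restrict W)).IsSymm := ⟨fun x y => by
    simp only [LinearMap.neg_apply, LinearMap.BilinForm.restrict_apply, LinearMap.domRestrict_apply]
    rw [hS.eq]⟩
  have hWnd' : (-(B.restrict W)).Nondegenerate := by
    constructor
    · intro x hx
      apply hWnd.1 x
      intro y
      have := hx y
      simpa using this
    · intro x hx
      apply hWnd.2 x
      intro y
      have := hx y
      simpa using this
  obtain ⟨w, hw⟩ := Cfsg.Agent.S0756.exists_norm_one h2 (-(B.restrict W)) hWS hWnd' (by omega)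
  have hw' : B (w : V) (w : V) = -1 := by
    have : -(B (w : V) (w : V)) = 1 := hw
    rw [← this]; ring
  have huw : B u (w : V) = 0 := by
    have : (w : V) ∈ B.orthogonal (F ∙ u) := w.2
    rw [mem_orthogonal_iff] at this
    exact this u (Submodule.mem_span_singleton_self u)
  refine ⟨u + w, ?_, ?_⟩
  · intro h
    have := congrArg (B u) h
    rw [map_add, hu, huw, map_zero] at this
    simp at this
  · simp only [map_add, LinearMap.add_apply, hu, huw, hS.eq (w : V) u, hw']
    ring

end finite

theorem exists_hyp_partner (h2 : (2 : F) ≠ 0) {V : Type*} [AddCommGroup V] [Module F V]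
    (B : LinearMap.BilinForm F V) (hS : B.IsSymm) (hB : B.Nondegenerate) (v : V) (hv : v ≠ 0)
    (hvv : B v v = 0) : ∃ w, B v w = 1 ∧ B w w = 0 := by
  have h1 : ∃ w₀, B v w₀ ≠ 0 := by
    by_contra hcon
    push Not at hcon
    exact hv (hB.1 v hcon)
  obtain ⟨w₀, hw₀⟩ := h1
  obtain ⟨w₁, h11⟩ : ∃ w₁, B v w₁ = 1 :=
    ⟨(B v w₀)⁻¹ • w₀, by rw [map_smul, smul_eq_mul, inv_mul_cancel₀ hw₀]⟩
  obtain ⟨c, hc⟩ : ∃ c, c = B w₁ w₁ := ⟨_, rfl⟩
  refine ⟨w₁ - (c / 2) • v, ?_, ?_⟩
  · rw [map_sub, map_smul, hvv, h11]; simp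
  · simp only [map_sub, map_smul, LinearMap.sub_apply, LinearMap.smul_apply, smul_eq_mul, hvv, h11,
      hS.eq w₁ v, ← hc]
    field_simp
    ring

/-- In dimension two, an isotropic vector exists as soon as `-disc` is a square. -/
theorem exists_isotropic_of_two {V : Type*} [AddCommGroup V] [Module F V] [FiniteDimensional F V]
    (B : LinearMap.BilinForm F V) (hS : B.IsSymm) (hV : finrank F V = 2)
    (hsq : IsSquare (-1 * (LinearMap.BilinForm.toMatrix (finBasis F V) B).det)) :
    ∃ v, v ≠ 0 ∧ B v v = 0 := by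
  classical
  let b2 : Basis (Fin 2) F V := (finBasis F V).reindex (finCongr hV)
  rw [← isSquare_mul_det_toMatrix_iff B (finBasis F V) b2] at hsq
  rw [Matrix.det_fin_two] at hsq
  simp only [LinearMap.BilinForm.toMatrix_apply] at hsq
  obtain ⟨s, hs⟩ := hsq
  obtain ⟨a, ha⟩ : ∃ a, a = B (b2 0) (b2 0) := ⟨_, rfl⟩
  obtain ⟨c, hc⟩ : ∃ c, c = B (b2 0) (b2 1) := ⟨_, rfl⟩
  obtain ⟨d, hd⟩ : ∃ d, d = B (b2 1) (b2 1) := ⟨_, rfl⟩
  rw [hS.eq (b2 1) (b2 0), ← ha, ← hc, ← hd] at hs
  by_cases ha0 : a = 0
  · exact ⟨b2 0, b2.ne_zero 0, by rw [← ha, ha0]⟩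
  · refine ⟨((s - c) / a) • b2 0 + b2 1, ?_, ?_⟩
    · intro h
      have h1 := congrArg (fun x => b2.repr x 1) h
      simp at h1
    · simp only [map_add, map_smul, LinearMap.add_apply, LinearMap.smul_apply, smul_eq_mul,
        hS.eq (b2 1) (b2 0), ← ha, ← hc, ← hd]
      field_simp
      linear_combination -hs

/-- Splitting off a hyperbolic plane. -/
theorem hyp_split {V : Type*} [AddCommGroup V] [Module F V] [FiniteDimensional F V]
    (B : LinearMap.BilinForm F V) (hS : B.IsSymm) (hB : B.Nondegenerate) (v w : V)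
    (hvv : B v v = 0) (hww : B w w = 0) (hvw : B v w = 1) :
    ∃ W : Submodule F V, (∀ x ∈ W, B v x = 0) ∧ v ∉ W ∧ (B.restrict W).Nondegenerate ∧
      finrank F W + 2 = finrank F V ∧
      ∀ c : F, IsSquare (c * (LinearMap.BilinForm.toMatrix (finBasis F W) (B.restrict W)).det) ↔
        IsSquare (-c * (LinearMap.BilinForm.toMatrix (finBasis F V) B).det) := by
  classical
  have hwv : B w v = 1 := by rw [hS.eq]; exact hvw
  have hli : LinearIndependent F ![v, w] := by
    rw [LinearIndependent.pair_iff]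
    intro s t hst
    have h1 := congrArg (B v) hst
    have h2 := congrArg (B w) hst
    simp only [map_add, map_smul, smul_eq_mul, hvv, hvw, hwv, hww, map_zero] at h1 h2
    constructor
    · simpa using h2
    · simpa using h1
  set H := Submodule.span F (Set.range ![v, w]) with hH
  let bH : Basis (Fin 2) F H := Basis.span hli
  have hbH0 : (bH 0 : V) = v := Basis.coe_span_apply hli 0
  have hbH1 : (bH 1 : V) = w := Basis.coe_span_apply hli 1
  have hvH : v ∈ H := Submodule.subset_span ⟨0, rfl⟩
  have hwH : w ∈ H := Submodule.subset_span ⟨1, rfl⟩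
  set W := B.orthogonal H with hW
  have hdisj : Disjoint H W := by
    rw [Submodule.disjoint_def]
    intro x hxH hxW
    rw [hH, Submodule.mem_span_range_iff_exists_fun] at hxH
    obtain ⟨c, rfl⟩ := hxH
    rw [hW, mem_orthogonal_iff] at hxW
    have h1 := hxW v hvH
    have h2 := hxW w hwH
    simp only [Fin.sum_univ_two, Matrix.cons_val_zero, Matrix.cons_val_one, map_add, map_smul,
      smul_eq_mul, hvv, hvw, hwv, hww] at h1 h2
    have hc1 : c 1 = 0 := by simpa using h1
    have hc0 : c 0 = 0 := by simpa using h2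
    simp [Fin.sum_univ_two, hc0, hc1]
  have hcompl : IsCompl H W := (isCompl_orthogonal_iff_disjoint hS.isRefl).mpr hdisj
  have hWnd : (B.restrict W).Nondegenerate := by
    apply nondegenerate_restrict_of_disjoint_orthogonal B hS.isRefl
    rw [hW, orthogonal_orthogonal hB hS.isRefl]
    exact hdisj.symm
  have hHdim : finrank F H = 2 := by
    rw [hH, finrank_span_eq_card hli]; simp
  have hdim : finrank F W + 2 = finrank F V := by
    have := Submodule.finrank_add_eq_of_isCompl hcompl
    omega
  refine ⟨W, ?_, ?_, hWnd, hdim, ?_⟩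
  · intro x hx
    rw [hW, mem_orthogonal_iff] at hx
    exact hx v hvH
  · intro hv
    rw [hW, mem_orthogonal_iff] at hv
    have := hv w hwH
    rw [hwv] at this
    exact one_ne_zero this
  · intro c
    let bW := finBasis F W
    rw [isSquare_mul_det_toMatrix_iff B (complBasis hcompl bH bW) (finBasis F V) (-c),
      toMatrix_complBasis]
    have hX : (Matrix.of fun i j => B (bH i) (bW j)) = 0 := by
      ext i j
      have : (bW j : V) ∈ B.orthogonal H := (bW j).2
      rw [mem_orthogonal_iff] at this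
      simpa using this _ (bH i).2
    have hGH : (LinearMap.BilinForm.toMatrix bH (B.restrict H)).det = -1 := by
      rw [Matrix.det_fin_two]
      simp [LinearMap.BilinForm.toMatrix_apply, hbH0, hbH1, hvv, hww, hvw, hwv]
    rw [hX, Matrix.det_fromBlocks_zero₁₂, hGH]
    simp [bW]

/-- The discriminant criterion, hard direction. -/
theorem hasTI_of_isSquare [Fintype F] (h2 : (2 : F) ≠ 0) :
    ∀ (n : ℕ) (V : Type u) [AddCommGroup V] [Module F V] [FiniteDimensional F V]
      (B : LinearMap.BilinForm F V), B.IsSymm → B.Nondegenerate → finrank F V = 2 * n →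
      IsSquare ((-1) ^ n * (LinearMap.BilinForm.toMatrix (finBasis F V) B).det) → HasTI B n := by
  intro n
  induction n with
  | zero =>
    intro V _ _ _ B _ _ _ _
    exact ⟨⊥, finrank_bot F V, by simp⟩
  | succ n ih =>
    intro V _ _ _ B hS hB hV hsq
    have hiso : ∃ v, v ≠ 0 ∧ B v v = 0 := by
      rcases n with _ | n
      · apply exists_isotropic_of_two B hS (by omega)
        simpa using hsq
      · exact exists_isotropic_of_three_le h2 B hS hB (by omega)
    obtain ⟨v, hv0, hvv⟩ := hiso
    obtain ⟨w, hvw, hww⟩ := exists_hyp_partner h2 B hS hB v hv0 hvv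
    obtain ⟨W, hWv, hvW, hWnd, hWdim, hWsq⟩ := hyp_split B hS hB v w hvv hww hvw
    have hWS : (B.restrict W).IsSymm := ⟨fun x y => hS.eq x y⟩
    obtain ⟨X', hX'n, hX'⟩ := ih W (B.restrict W) hWS hWnd (by omega) (by
      rw [hWsq, ← neg_one_mul, ← pow_succ']
      exact hsq)
    refine ⟨X'.map W.subtype ⊔ Submodule.span F {v}, ?_, ?_⟩
    · have h1 : finrank F (X'.map W.subtype) = n := by
        rw [← hX'n]
        exact (Submodule.equivSubtypeMap W X').symm.finrank_eq
      have hinf : X'.map W.subtype ⊓ Submodule.span F {v} = ⊥ := by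
        rw [Submodule.eq_bot_iff]
        rintro x ⟨⟨y, _, rfl⟩, hx2⟩
        obtain ⟨c, hc⟩ := Submodule.mem_span_singleton.mp hx2
        by_cases hc0 : c = 0
        · rw [← hc, hc0, zero_smul]
        · exfalso
          apply hvW
          have : v = c⁻¹ • (W.subtype y) := by rw [← hc, smul_smul, inv_mul_cancel₀ hc0, one_smul]
          rw [this]
          exact W.smul_mem _ y.2
      have := Submodule.finrank_sup_add_finrank_inf_eq (X'.map W.subtype) (Submodule.span F {v})
      rw [hinf, finrank_bot, h1, finrank_span_singleton hv0] at this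
      omega
    · intro x hx y hy
      obtain ⟨x₁, hx₁, x₂, hx₂, rfl⟩ := Submodule.mem_sup.mp hx
      obtain ⟨y₁, hy₁, y₂, hy₂, rfl⟩ := Submodule.mem_sup.mp hy
      obtain ⟨x₁', hx₁', rfl⟩ := hx₁
      obtain ⟨y₁', hy₁', rfl⟩ := hy₁
      obtain ⟨a, rfl⟩ := Submodule.mem_span_singleton.mp hx₂
      obtain ⟨b, rfl⟩ := Submodule.mem_span_singleton.mp hy₂
      have e1 : B (x₁' : V) (y₁' : V) = 0 := hX' x₁' hx₁' y₁' hy₁'
      have e2 : B v (y₁' : V) = 0 := hWv _ y₁'.2
      have e3 : B (x₁' : V) v = 0 := by rw [hS.eq]; exact hWv _ x₁'.2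
      simp only [map_add, map_smul, LinearMap.add_apply, LinearMap.smul_apply, smul_eq_mul,
        Submodule.subtype_apply, e1, e2, e3, hvv]
      ring

/-- **The discriminant criterion.** -/
theorem hasTI_iff_isSquare [Fintype F] (h2 : (2 : F) ≠ 0) {V : Type u} [AddCommGroup V]
    [Module F V] [FiniteDimensional F V] (B : LinearMap.BilinForm F V) (hS : B.IsSymm)
    (hB : B.Nondegenerate) (n : ℕ) (hV : finrank F V = 2 * n) {ι : Type*} [Fintype ι]
    [DecidableEq ι] (b : Basis ι F V) :
    HasTI B n ↔ IsSquare ((-1) ^ n * (LinearMap.BilinForm.toMatrix b B).det) := by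
  classical
  constructor
  · intro h
    exact isSquare_of_hasTI B hS n hV h b
  · intro h
    apply hasTI_of_isSquare h2 n V B hS hB hV
    rw [isSquare_mul_det_toMatrix_iff B b (finBasis F V)]
    exact h

end Cfsg.Agent.Lib.Helper6
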