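import Mathlib
import Cfsg.Prelude.Def_GeometricClasses
import Cfsg.Agent.Lib.Helper13.TensorF3
import Cfsg.Agent.Lib.Helper1.OEDefs
import Cfsg.Agent.Lib.Helper6.Lagrangian

/-!
# Even orthogonal front, type calculus TC4: tensor structures are of plus type (helper6)

Frozen vocabulary, generic index type `ι`, `Q : (ι → F) → F`, `hQ : IsNondegenerateQuadraticForm Q`,
`hT : IsTensorFormStructure id (polar Q) f₁ f₂ e P`:
* `plus_of_tensor_symp` : `f₁`, `f₂` symplectic and `Q = 0` on the pure tensors (any `q`);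
* `plus_of_tensor_symm_even` : both dimensions even, `q` odd (discriminant criterion `Helper6.hasTI_iff_isSquare`);
* `plus_of_tensor_symm_right` / `_left` : one symmetric factor of plus type, `2 ≠ 0`;
* `plus_iff_isSquare`, `plus_iff_isSquare_gram` : the discriminant criterion (TC7 shape) in the frozen vocabulary;
* tools: `plus_of_gens`, `quad_vanish_span`, `exists_lagrangian`, `slabR` / `slabL`, `polar_pure2`, `TTl`, `TTe`.
-/

set_option autoImplicit false
set_option linter.unusedSectionVars false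
set_option linter.unusedVariables false

namespace Cfsg.Agent.Lib.Helper6.OETypeTens

open scoped Matrix Kronecker
open Module Cfsg Cfsg.Geo Cfsg.Agent.Lib.Helper13.TNM
open Cfsg.Agent.Lib.Helper1.OE (pure2)

variable {F : Type*} [Field F]

section quad
variable {ι : Type} [Fintype ι] [DecidableEq ι] {Q : (ι → F) → F}

theorem quad_add (Q : (ι → F) → F) (x y : ι → F) : Q (x + y) = Q x + Q y + QuadraticMap.polar Q x y := by
  unfold QuadraticMap.polar
  ring

theorem polar_zero_left (hQ : IsNondegenerateQuadraticForm Q) (y : ι → F) : QuadraticMap.polar Q 0 y = 0 := by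
  have := hQ.polar_bilinear.smul_left 0 0 y
  rwa [zero_smul, zero_mul] at this

theorem polar_zero_right (hQ : IsNondegenerateQuadraticForm Q) (y : ι → F) : QuadraticMap.polar Q y 0 = 0 := by
  have := hQ.polar_bilinear.smul_right 0 y 0
  rwa [zero_smul, zero_mul] at this

theorem quad_zero (hQ : IsNondegenerateQuadraticForm Q) : Q 0 = 0 := by
  have := hQ.smul 0 0
  rwa [zero_smul, zero_pow (by norm_num), zero_mul] at this

/-- `polar Q y y = 2 Q y` -/
theorem polar_self (hQ : IsNondegenerateQuadraticForm Q) (y : ι → F) : QuadraticMap.polar Q y y = 2 * Q y := by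
  unfold QuadraticMap.polar
  have h : y + y = (2 : F) • y := (two_smul F y).symm
  rw [h, hQ.smul]
  ring

/-- the polar form vanishes on the span of a set on which it vanishes -/
theorem polar_vanish_span (hQ : IsNondegenerateQuadraticForm Q) (gens : Set (ι → F))
    (h2 : ∀ g ∈ gens, ∀ g' ∈ gens, QuadraticMap.polar Q g g' = 0) :
    ∀ x ∈ Submodule.span F gens, ∀ y ∈ Submodule.span F gens, QuadraticMap.polar Q x y = 0 := by
  have hb := hQ.polar_bilinear
  have step : ∀ g ∈ gens, ∀ y ∈ Submodule.span F gens, QuadraticMap.polar Q g y = 0 := by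
    intro g hg y hy
    induction hy using Submodule.span_induction with
    | mem y hy => exact h2 g hg y hy
    | zero => exact polar_zero_right hQ g
    | add y y' _ _ h h' => rw [hb.add_right, h, h', add_zero]
    | smul c y _ h => rw [hb.smul_right, h, mul_zero]
  intro x hx y hy
  induction hx using Submodule.span_induction with
  | mem x hx => exact step x hx y hy
  | zero => exact polar_zero_left hQ y
  | add x x' _ _ h h' => rw [hb.add_left, h, h', add_zero]
  | smul c x _ h => rw [hb.smul_left, h, mul_zero]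

/-- `Q` vanishes on the span of a set of pairwise polar-orthogonal singular vectors -/
theorem quad_vanish_span (hQ : IsNondegenerateQuadraticForm Q) (gens : Set (ι → F))
    (h1 : ∀ g ∈ gens, Q g = 0) (h2 : ∀ g ∈ gens, ∀ g' ∈ gens, QuadraticMap.polar Q g g' = 0) :
    ∀ x ∈ Submodule.span F gens, Q x = 0 := by
  have hp := polar_vanish_span hQ gens h2
  intro x hx
  induction hx using Submodule.span_induction with
  | mem x hx => exact h1 x hx
  | zero => exact quad_zero hQ
  | add x x' hx hx' h h' => rw [quad_add Q x x', h, h', hp x hx x' hx', add_zero, add_zero]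
  | smul c x _ h => rw [hQ.smul, h, mul_zero]

/-- the core: a subspace of half dimension inside the span of such a set gives plus type -/
theorem plus_of_gens (hQ : IsNondegenerateQuadraticForm Q) (gens : Set (ι → F))
    (h1 : ∀ g ∈ gens, Q g = 0) (h2 : ∀ g ∈ gens, ∀ g' ∈ gens, QuadraticMap.polar Q g g' = 0)
    (U : Submodule F (ι → F)) (hU : U ≤ Submodule.span F gens) (hdim : 2 * finrank F U = Fintype.card ι) :
    IsPlusTypeOn Q ⊤ := by
  refine ⟨U, le_top, fun w hw => quad_vanish_span hQ gens h1 h2 w (hU hw), ?_⟩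
  rw [finrank_top, Module.finrank_fintype_fun_eq_card, hdim]

end quad


section transport
variable {ι κ : Type} [Fintype ι] [DecidableEq ι] [Fintype κ] [DecidableEq κ]

/-- `TT e P` as a linear map -/
def TTl (e : ι ≃ κ) (P : GL ι F) : (κ → F) →ₗ[F] (ι → F) where
  toFun := TT e P
  map_add' := TT_add e P
  map_smul' := TT_smul e P

theorem TTl_apply (e : ι ≃ κ) (P : GL ι F) (x : κ → F) : TTl e P x = TT e P x := rfl

theorem TTl_injective (e : ι ≃ κ) (P : GL ι F) : Function.Injective (TTl (F := F) e P) := TT_injective e P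

theorem finrank_map_TTl (e : ι ≃ κ) (P : GL ι F) (S : Submodule F (κ → F)) :
    finrank F (S.map (TTl e P)) = finrank F S :=
  (LinearEquiv.finrank_eq (Submodule.equivMapOfInjective (TTl e P) (TTl_injective e P) S)).symm

/-- `TT e P` as a linear equivalence -/
noncomputable def TTe (e : ι ≃ κ) (P : GL ι F) : (κ → F) ≃ₗ[F] (ι → F) :=
  LinearEquiv.ofBijective (TTl e P) ⟨TTl_injective e P, TT_surj e P⟩

theorem TTe_apply (e : ι ≃ κ) (P : GL ι F) (x : κ → F) : TTe e P x = TT e P x := rfl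

end transport

section pure
variable {n₁ n₂ : ℕ}

theorem pure2_apply (u : Fin n₁ → F) (w : Fin n₂ → F) (i : Fin n₁) (j : Fin n₂) : pure2 u w (i, j) = u i * w j := rfl

theorem kron_mulVec_pure2 (a : Matrix (Fin n₁) (Fin n₁) F) (b : Matrix (Fin n₂) (Fin n₂) F) (u : Fin n₁ → F)
    (w : Fin n₂ → F) : (a ⊗ₖ b) *ᵥ pure2 u w = pure2 (a *ᵥ u) (b *ᵥ w) := by
  funext ⟨i, l⟩
  rw [pure2_apply]
  simp only [Matrix.mulVec, dotProduct, Fintype.sum_prod_type, Matrix.kroneckerMap_apply, pure2_apply]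
  rw [Finset.sum_mul_sum]
  apply Finset.sum_congr rfl
  intro i' _
  apply Finset.sum_congr rfl
  intro l' _
  ring

theorem pure2_dot_pure2 (u u' : Fin n₁ → F) (w w' : Fin n₂ → F) :
    pure2 u w ⬝ᵥ pure2 u' w' = (u ⬝ᵥ u') * (w ⬝ᵥ w') := by
  simp only [dotProduct, Fintype.sum_prod_type, pure2_apply]
  rw [Finset.sum_mul_sum]
  apply Finset.sum_congr rfl
  intro i' _
  apply Finset.sum_congr rfl
  intro l' _
  ring

/-- the Kronecker form on pure tensors -/
theorem formOfGram_kron_pure2 (G₁ : Matrix (Fin n₁) (Fin n₁) F) (G₂ : Matrix (Fin n₂) (Fin n₂) F)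
    (u u' : Fin n₁ → F) (w w' : Fin n₂ → F) :
    formOfGram id (G₁ ⊗ₖ G₂) (pure2 u w) (pure2 u' w') = formOfGram id G₁ u u' * formOfGram id G₂ w w' := by
  rw [formOfGram_eq, formOfGram_eq, formOfGram_eq]
  simp only [Function.id_comp]
  rw [kron_mulVec_pure2, pure2_dot_pure2]

/-- the value of the polar form on transported pure tensors -/
theorem polar_pure2 {ι : Type} [Fintype ι] [DecidableEq ι] {Q : (ι → F) → F}
    {e : ι ≃ Fin n₁ × Fin n₂} {P : GL ι F} {f₁ : (Fin n₁ → F) → (Fin n₁ → F) → F}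
    {f₂ : (Fin n₂ → F) → (Fin n₂ → F) → F} (hb₁ : IsBilinearForm f₁) (hb₂ : IsBilinearForm f₂) {c : F}
    (hT : ∀ x y : Fin n₁ × Fin n₂ → F, QuadraticMap.polar Q ((P : Matrix ι ι F) *ᵥ (x ∘ e))
      ((P : Matrix ι ι F) *ᵥ (y ∘ e)) = c * formOfGram id (gramMatrix f₁ ⊗ₖ gramMatrix f₂) x y)
    (u u' : Fin n₁ → F) (w w' : Fin n₂ → F) :
    QuadraticMap.polar Q (TT e P (pure2 u w)) (TT e P (pure2 u' w')) = c * (f₁ u u' * f₂ w w') := by
  unfold TT
  rw [hT, formOfGram_kron_pure2, ← bilin_eq_formOfGram hb₁, ← bilin_eq_formOfGram hb₂]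

/-- right slab: the tensors all of whose rows lie in `L` -/
def slabR (n₁ : ℕ) (L : Submodule F (Fin n₂ → F)) : Submodule F (Fin n₁ × Fin n₂ → F) where
  carrier := {x | ∀ i, (fun j => x (i, j)) ∈ L}
  add_mem' := by
    intro x y hx hy i
    exact L.add_mem (hx i) (hy i)
  zero_mem' := by
    intro i
    exact L.zero_mem
  smul_mem' := by
    intro c x hx i
    exact L.smul_mem c (hx i)

/-- left slab: the tensors all of whose columns lie in `L` -/
def slabL (n₂ : ℕ) (L : Submodule F (Fin n₁ → F)) : Submodule F (Fin n₁ × Fin n₂ → F) where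
  carrier := {x | ∀ j, (fun i => x (i, j)) ∈ L}
  add_mem' := by
    intro x y hx hy j
    exact L.add_mem (hx j) (hy j)
  zero_mem' := by
    intro j
    exact L.zero_mem
  smul_mem' := by
    intro c x hx j
    exact L.smul_mem c (hx j)

/-- the right slab is `Fin n₁ → L` -/
def slabREquiv (n₁ : ℕ) (L : Submodule F (Fin n₂ → F)) : slabR n₁ L ≃ₗ[F] (Fin n₁ → L) where
  toFun x := fun i => ⟨fun j => (x : Fin n₁ × Fin n₂ → F) (i, j), x.2 i⟩
  map_add' x y := rfl
  map_smul' c x := rfl
  invFun y := ⟨fun a => (y a.1 : Fin n₂ → F) a.2, fun i => (y i).2⟩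
  left_inv x := rfl
  right_inv y := rfl

def slabLEquiv (n₂ : ℕ) (L : Submodule F (Fin n₁ → F)) : slabL n₂ L ≃ₗ[F] (Fin n₂ → L) where
  toFun x := fun j => ⟨fun i => (x : Fin n₁ × Fin n₂ → F) (i, j), x.2 j⟩
  map_add' x y := rfl
  map_smul' c x := rfl
  invFun y := ⟨fun a => (y a.2 : Fin n₁ → F) a.1, fun j => (y j).2⟩
  left_inv x := rfl
  right_inv y := rfl

theorem finrank_slabR (n₁ : ℕ) (L : Submodule F (Fin n₂ → F)) : finrank F (slabR n₁ L) = n₁ * finrank F L := by
  rw [(slabREquiv n₁ L).finrank_eq, Module.finrank_pi_fintype, Finset.sum_const, Finset.card_univ, Fintype.card_fin,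
    smul_eq_mul]

theorem finrank_slabL (n₂ : ℕ) (L : Submodule F (Fin n₁ → F)) : finrank F (slabL n₂ L) = n₂ * finrank F L := by
  rw [(slabLEquiv n₂ L).finrank_eq, Module.finrank_pi_fintype, Finset.sum_const, Finset.card_univ, Fintype.card_fin,
    smul_eq_mul]

theorem slabR_le_span (n₁ : ℕ) (L : Submodule F (Fin n₂ → F)) :
    slabR n₁ L ≤ Submodule.span F {y | ∃ (u : Fin n₁ → F) (w : Fin n₂ → F), w ∈ L ∧ y = pure2 u w} := by
  intro x hx
  have hx' : x = ∑ i : Fin n₁, pure2 (Pi.single i 1) (fun j => x (i, j)) := by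
    funext ⟨i, j⟩
    rw [Finset.sum_apply, Finset.sum_eq_single i]
    · rw [pure2_apply, Pi.single_eq_same, one_mul]
    · intro i' _ hi'
      rw [pure2_apply, Pi.single_eq_of_ne (Ne.symm hi'), zero_mul]
    · intro h
      exact absurd (Finset.mem_univ i) h
  rw [hx']
  apply Submodule.sum_mem
  intro i _
  apply Submodule.subset_span
  exact ⟨_, _, hx i, rfl⟩

theorem slabL_le_span (n₂ : ℕ) (L : Submodule F (Fin n₁ → F)) :
    slabL n₂ L ≤ Submodule.span F {y | ∃ (u : Fin n₁ → F) (w : Fin n₂ → F), u ∈ L ∧ y = pure2 u w} := by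
  intro x hx
  have hx' : x = ∑ j : Fin n₂, pure2 (fun i => x (i, j)) (Pi.single j 1) := by
    funext ⟨i, j⟩
    rw [Finset.sum_apply, Finset.sum_eq_single j]
    · rw [pure2_apply, Pi.single_eq_same, mul_one]
    · intro j' _ hj'
      rw [pure2_apply, Pi.single_eq_of_ne (Ne.symm hj'), mul_zero]
    · intro h
      exact absurd (Finset.mem_univ j) h
  rw [hx']
  apply Submodule.sum_mem
  intro j _
  apply Submodule.subset_span
  exact ⟨_, _, hx j, rfl⟩

end pure


section lagr
variable {κ : Type} [Fintype κ] [DecidableEq κ]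

/-- a Lagrangian of a non-degenerate alternating form -/
theorem exists_lagrangian {f : (κ → F) → (κ → F) → F} (hf : IsSymplecticForm f) :
    ∃ L : Submodule F (κ → F), (∀ u ∈ L, ∀ v ∈ L, f u v = 0) ∧ 2 * finrank F L = Fintype.card κ := by
  classical
  have hb := hf.bilinear
  have hz : ∀ v, f 0 v = 0 := by
    intro v
    have := hb.smul_left 0 0 v
    rwa [zero_smul, zero_mul] at this
  let S : Set (Submodule F (κ → F)) := {U | ∀ u ∈ U, ∀ v ∈ U, f u v = 0}
  have hne : S.Nonempty := by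
    refine ⟨⊥, ?_⟩
    intro u hu v _
    rw [Submodule.mem_bot] at hu
    rw [hu, hz]
  obtain ⟨U, hUS, hmax⟩ := (wellFounded_gt (α := Submodule F (κ → F))).has_min S hne
  have hperp : ∀ v : κ → F, (∀ u ∈ U, f u v = 0) → v ∈ U := by
    intro v hv
    by_contra hvU
    have hS' : U ⊔ Submodule.span F {v} ∈ S := by
      intro x hx y hy
      obtain ⟨u, hu, w, hw, rfl⟩ := Submodule.mem_sup.1 hx
      obtain ⟨u', hu', w', hw', rfl⟩ := Submodule.mem_sup.1 hy
      obtain ⟨a, rfl⟩ := Submodule.mem_span_singleton.mp hw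
      obtain ⟨a', rfl⟩ := Submodule.mem_span_singleton.mp hw'
      rw [hb.add_left, hb.add_right, hb.add_right, hb.smul_left, hb.smul_left, hb.smul_right, hb.smul_right,
        hUS u hu u' hu', hv u hu, hf.skew v u', hv u' hu', hf.alternating v]
      ring
    apply hmax _ hS'
    refine lt_of_le_of_ne le_sup_left ?_
    intro heq
    apply hvU
    rw [heq]
    exact Submodule.mem_sup_right (Submodule.mem_span_singleton_self v)
  refine ⟨U, hUS, ?_⟩
  let B : LinearMap.BilinForm F (κ → F) := toBilin hb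
  have horth : LinearMap.BilinForm.orthogonal B U = U := by
    ext v
    rw [LinearMap.BilinForm.mem_orthogonal_iff]
    constructor
    · intro h
      exact hperp v (fun u hu => h u hu)
    · intro hv u hu
      exact hUS u hu v hv
  have hker : LinearMap.ker B = ⊥ := by
    rw [LinearMap.ker_eq_bot']
    intro x hx
    by_contra hx0
    obtain ⟨y, hy⟩ := (hf.nondegenerate x hx0).2
    apply hy
    have : B x y = 0 := by rw [hx]; rfl
    exact this
  have hfin := LinearMap.BilinForm.finrank_add_finrank_orthogonal' (B := B) U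
  rw [horth, hker, inf_bot_eq, finrank_bot, add_zero, Module.finrank_fintype_fun_eq_card] at hfin
  omega

end lagr

section main
variable {ι : Type} [Fintype ι] [DecidableEq ι] {n₁ n₂ : ℕ} {Q : (ι → F) → F}

theorem card_eq_mul (e : ι ≃ Fin n₁ × Fin n₂) : Fintype.card ι = n₁ * n₂ := by
  rw [Fintype.card_congr e, Fintype.card_prod, Fintype.card_fin, Fintype.card_fin]

/-- **TC4 (a)**: a tensor product of two symplectic forms with `Q = 0` on the pure tensors is of plus type -/
theorem plus_of_tensor_symp (hQ : IsNondegenerateQuadraticForm Q) {e : ι ≃ Fin n₁ × Fin n₂} {P : GL ι F}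
    {f₁ : (Fin n₁ → F) → (Fin n₁ → F) → F} {f₂ : (Fin n₂ → F) → (Fin n₂ → F) → F}
    (hf₁ : IsSymplecticForm f₁) (hf₂ : IsSymplecticForm f₂)
    (hT : IsTensorFormStructure id (QuadraticMap.polar Q) f₁ f₂ e P)
    (hpure : ∀ (x₁ : Fin n₁ → F) (x₂ : Fin n₂ → F), Q ((P : Matrix ι ι F) *ᵥ (pure2 x₁ x₂ ∘ e)) = 0) :
    IsPlusTypeOn Q ⊤ := by
  obtain ⟨c, hc, hT⟩ := hT
  obtain ⟨L, hL, hLdim⟩ := exists_lagrangian hf₂
  rw [Fintype.card_fin] at hLdim
  let gens : Set (ι → F) := {y | ∃ (u : Fin n₁ → F) (w : Fin n₂ → F), w ∈ L ∧ y = TT e P (pure2 u w)}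
  refine plus_of_gens hQ gens ?_ ?_ ((slabR n₁ L).map (TTl e P)) ?_ ?_
  · rintro _ ⟨u, w, _, rfl⟩
    exact hpure u w
  · rintro _ ⟨u, w, hw, rfl⟩ _ ⟨u', w', hw', rfl⟩
    rw [polar_pure2 hf₁.bilinear hf₂.bilinear hT, hL w hw w' hw', mul_zero, mul_zero]
  · refine (Submodule.map_mono (slabR_le_span n₁ L)).trans ?_
    rw [Submodule.map_span]
    apply Submodule.span_mono
    rintro _ ⟨y, ⟨u, w, hw, rfl⟩, rfl⟩
    exact ⟨u, w, hw, rfl⟩
  · rw [finrank_map_TTl, finrank_slabR, card_eq_mul e]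
    calc 2 * (n₁ * finrank F L) = n₁ * (2 * finrank F L) := by ring
      _ = n₁ * n₂ := by rw [hLdim]

/-- polarisation of a symmetric form vanishing on the diagonal of a subspace -/
theorem symm_vanish {κ : Type} [Fintype κ] [DecidableEq κ] (h2 : (2 : F) ≠ 0) {f : (κ → F) → (κ → F) → F}
    (hf : IsSymmetricForm f) (W : Submodule F (κ → F)) (hW : ∀ w ∈ W, f w w = 0) :
    ∀ w ∈ W, ∀ w' ∈ W, f w w' = 0 := by
  intro w hw w' hw'
  have h := hW (w + w') (W.add_mem hw hw')
  rw [hf.bilinear.add_left, hf.bilinear.add_right, hf.bilinear.add_right, hW w hw, hW w' hw', hf.symm w' w] at h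
  have h3 : (2 : F) * f w w' = 0 := by linear_combination h
  rcases mul_eq_zero.mp h3 with h | h
  · exact absurd h h2
  · exact h

/-- `Q y = 0` from `polar Q y y = 0`, `2 ≠ 0` -/
theorem quad_eq_zero_of_polar (h2 : (2 : F) ≠ 0) (hQ : IsNondegenerateQuadraticForm Q) (y : ι → F)
    (h : QuadraticMap.polar Q y y = 0) : Q y = 0 := by
  rw [polar_self hQ] at h
  rcases mul_eq_zero.mp h with h | h
  · exact absurd h h2
  · exact h

/-- **TC4 (c), right factor**: a tensor product of symmetric forms whose right factor is of plus type is of plus type -/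
theorem plus_of_tensor_symm_right (h2 : (2 : F) ≠ 0) (hQ : IsNondegenerateQuadraticForm Q)
    {e : ι ≃ Fin n₁ × Fin n₂} {P : GL ι F}
    {f₁ : (Fin n₁ → F) → (Fin n₁ → F) → F} {f₂ : (Fin n₂ → F) → (Fin n₂ → F) → F}
    (hf₁ : IsSymmetricForm f₁) (hf₂ : IsSymmetricForm f₂)
    (hT : IsTensorFormStructure id (QuadraticMap.polar Q) f₁ f₂ e P)
    (hp : IsPlusTypeOn (fun v : Fin n₂ → F => f₂ v v) ⊤) : IsPlusTypeOn Q ⊤ := by
  obtain ⟨c, hc, hT⟩ := hT
  obtain ⟨L, -, hLts, hLdim⟩ := hp
  rw [finrank_top, Module.finrank_fintype_fun_eq_card, Fintype.card_fin] at hLdim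
  have hL := symm_vanish h2 hf₂ L hLts
  let gens : Set (ι → F) := {y | ∃ (u : Fin n₁ → F) (w : Fin n₂ → F), w ∈ L ∧ y = TT e P (pure2 u w)}
  refine plus_of_gens hQ gens ?_ ?_ ((slabR n₁ L).map (TTl e P)) ?_ ?_
  · rintro _ ⟨u, w, hw, rfl⟩
    apply quad_eq_zero_of_polar h2 hQ
    rw [polar_pure2 hf₁.bilinear hf₂.bilinear hT, hL w hw w hw, mul_zero, mul_zero]
  · rintro _ ⟨u, w, hw, rfl⟩ _ ⟨u', w', hw', rfl⟩
    rw [polar_pure2 hf₁.bilinear hf₂.bilinear hT, hL w hw w' hw', mul_zero, mul_zero]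
  · refine (Submodule.map_mono (slabR_le_span n₁ L)).trans ?_
    rw [Submodule.map_span]
    apply Submodule.span_mono
    rintro _ ⟨y, ⟨u, w, hw, rfl⟩, rfl⟩
    exact ⟨u, w, hw, rfl⟩
  · rw [finrank_map_TTl, finrank_slabR, card_eq_mul e]
    calc 2 * (n₁ * finrank F L) = n₁ * (2 * finrank F L) := by ring
      _ = n₁ * n₂ := by rw [hLdim]

/-- **TC4 (c), left factor** -/
theorem plus_of_tensor_symm_left (h2 : (2 : F) ≠ 0) (hQ : IsNondegenerateQuadraticForm Q)
    {e : ι ≃ Fin n₁ × Fin n₂} {P : GL ι F}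
    {f₁ : (Fin n₁ → F) → (Fin n₁ → F) → F} {f₂ : (Fin n₂ → F) → (Fin n₂ → F) → F}
    (hf₁ : IsSymmetricForm f₁) (hf₂ : IsSymmetricForm f₂)
    (hT : IsTensorFormStructure id (QuadraticMap.polar Q) f₁ f₂ e P)
    (hp : IsPlusTypeOn (fun v : Fin n₁ → F => f₁ v v) ⊤) : IsPlusTypeOn Q ⊤ := by
  obtain ⟨c, hc, hT⟩ := hT
  obtain ⟨L, -, hLts, hLdim⟩ := hp
  rw [finrank_top, Module.finrank_fintype_fun_eq_card, Fintype.card_fin] at hLdim
  have hL := symm_vanish h2 hf₁ L hLts
  let gens : Set (ι → F) := {y | ∃ (u : Fin n₁ → F) (w : Fin n₂ → F), u ∈ L ∧ y = TT e P (pure2 u w)}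
  refine plus_of_gens hQ gens ?_ ?_ ((slabL n₂ L).map (TTl e P)) ?_ ?_
  · rintro _ ⟨u, w, hu, rfl⟩
    apply quad_eq_zero_of_polar h2 hQ
    rw [polar_pure2 hf₁.bilinear hf₂.bilinear hT, hL u hu u hu, zero_mul, mul_zero]
  · rintro _ ⟨u, w, hu, rfl⟩ _ ⟨u', w', hu', rfl⟩
    rw [polar_pure2 hf₁.bilinear hf₂.bilinear hT, hL u hu u' hu', zero_mul, mul_zero]
  · refine (Submodule.map_mono (slabL_le_span n₂ L)).trans ?_
    rw [Submodule.map_span]
    apply Submodule.span_mono
    rintro _ ⟨y, ⟨u, w, hu, rfl⟩, rfl⟩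
    exact ⟨u, w, hu, rfl⟩
  · rw [finrank_map_TTl, finrank_slabL, card_eq_mul e]
    calc 2 * (n₂ * finrank F L) = (2 * finrank F L) * n₂ := by ring
      _ = n₁ * n₂ := by rw [hLdim]

end main


section even
variable {ι : Type} [Fintype ι] [DecidableEq ι] {n₁ n₂ : ℕ} {Q : (ι → F) → F}

theorem two_ne_zero_of_odd_card [Fintype F] (hodd : Odd (Fintype.card F)) : (2 : F) ≠ 0 := by
  intro h
  have hchar : ringChar F = 2 := by
    have := (ringChar.spec F 2).mp (by exact_mod_cast h)
    exact ((Nat.dvd_prime Nat.prime_two).mp this).resolve_left (CharP.ringChar_ne_one)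
  have : ¬ Odd (Fintype.card F) := by
    rw [Nat.not_odd_iff_even, Nat.even_iff]
    exact FiniteField.even_card_of_char_two hchar
  exact this hodd

/-- the discriminant criterion in the frozen vocabulary: if the Gram matrix of `polar Q` in some basis has
`(-1)^m det` a square (`2 m = dim`), then `Q` is of plus type (`q` odd) -/
theorem plus_of_isSquare [Fintype F] (hodd : Odd (Fintype.card F)) (hQ : IsNondegenerateQuadraticForm Q)
    {κ : Type} [Fintype κ] [DecidableEq κ] (b : Basis κ F (ι → F)) (m : ℕ) (hm : Fintype.card ι = 2 * m)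
    (hsq : IsSquare ((-1) ^ m * (Matrix.of fun a a' => QuadraticMap.polar Q (b a) (b a')).det)) :
    IsPlusTypeOn Q ⊤ := by
  have h2 := two_ne_zero_of_odd_card hodd
  let B : LinearMap.BilinForm F (ι → F) := toBilin hQ.polar_bilinear
  have hS : B.IsSymm := ⟨fun x y => QuadraticMap.polar_comm Q x y⟩
  have hB : B.Nondegenerate := by
    constructor
    · intro x hx
      by_contra hx0
      obtain ⟨y, hy⟩ := (hQ.nondegenerate x hx0).2
      exact hy (hx y)
    · intro y hy
      by_contra hy0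
      obtain ⟨x, hx⟩ := (hQ.nondegenerate y hy0).1
      exact hx (hy x)
  have hV : finrank F (ι → F) = 2 * m := by rw [Module.finrank_fintype_fun_eq_card, hm]
  have hmat : LinearMap.BilinForm.toMatrix b B = Matrix.of fun a a' => QuadraticMap.polar Q (b a) (b a') := by
    ext a a'
    rw [LinearMap.BilinForm.toMatrix_apply]
    rfl
  obtain ⟨X, hXdim, hX⟩ := (hasTI_iff_isSquare h2 B hS hB m hV b).mpr (by rw [hmat]; exact hsq)
  refine ⟨X, le_top, fun w hw => quad_eq_zero_of_polar h2 hQ w (hX w hw w hw), ?_⟩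
  rw [finrank_top, hV, hXdim]

/-- **TC4 (b)**: a tensor product of two symmetric forms in even dimensions is of plus type (`q` odd) -/
theorem plus_of_tensor_symm_even [Fintype F] (hodd : Odd (Fintype.card F)) (hQ : IsNondegenerateQuadraticForm Q)
    {e : ι ≃ Fin n₁ × Fin n₂} {P : GL ι F}
    {f₁ : (Fin n₁ → F) → (Fin n₁ → F) → F} {f₂ : (Fin n₂ → F) → (Fin n₂ → F) → F}
    (hT : IsTensorFormStructure id (QuadraticMap.polar Q) f₁ f₂ e P)
    (h1 : Even n₁) (h2e : Even n₂) : IsPlusTypeOn Q ⊤ := by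
  obtain ⟨c, hc, hT⟩ := hT
  obtain ⟨a, ha⟩ := h1
  obtain ⟨b', hb'⟩ := h2e
  let b : Basis (Fin n₁ × Fin n₂) F (ι → F) := (Pi.basisFun F (Fin n₁ × Fin n₂)).map (TTe e P)
  have hb : ∀ k, b k = TT e P (Pi.single k 1) := by
    intro k
    show (TTe e P) ((Pi.basisFun F (Fin n₁ × Fin n₂)) k) = _
    rw [Pi.basisFun_apply, TTe_apply]
  have hmat : (Matrix.of fun k k' => QuadraticMap.polar Q (b k) (b k')) =
      c • (gramMatrix f₁ ⊗ₖ gramMatrix f₂) := by
    ext k k'
    rw [Matrix.of_apply, hb, hb, Matrix.smul_apply, smul_eq_mul]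
    unfold TT
    rw [hT, formOfGram_single id rfl rfl]
  refine plus_of_isSquare hodd hQ b (2 * (a * b')) ?_ ?_
  · rw [card_eq_mul e, ha, hb']
    ring
  · rw [hmat, Matrix.det_smul, Matrix.det_kronecker, Fintype.card_prod, Fintype.card_fin, Fintype.card_fin,
      pow_mul, neg_one_sq, one_pow, one_mul]
    have e1 : c ^ (n₁ * n₂) = c ^ (n₁ * b') * c ^ (n₁ * b') := by
      rw [← pow_add, ← mul_add, ← hb']
    have e2 : (gramMatrix f₁).det ^ n₂ = (gramMatrix f₁).det ^ b' * (gramMatrix f₁).det ^ b' := by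
      rw [← pow_add, ← hb']
    have e3 : (gramMatrix f₂).det ^ n₁ = (gramMatrix f₂).det ^ a * (gramMatrix f₂).det ^ a := by
      rw [← pow_add, ← ha]
    refine ⟨c ^ (n₁ * b') * ((gramMatrix f₁).det ^ b' * (gramMatrix f₂).det ^ a), ?_⟩
    rw [e1, e2, e3]
    ring

end even


section conv
variable {ι : Type} [Fintype ι] [DecidableEq ι] {Q : (ι → F) → F}

/-- the converse: plus type forces `(-1)^m det` of any Gram matrix of `polar Q` to be a square (any `q`) -/
theorem isSquare_of_plus (hQ : IsNondegenerateQuadraticForm Q)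
    {κ : Type} [Fintype κ] [DecidableEq κ] (b : Basis κ F (ι → F)) (m : ℕ) (hm : Fintype.card ι = 2 * m)
    (hp : IsPlusTypeOn Q ⊤) :
    IsSquare ((-1) ^ m * (Matrix.of fun a a' => QuadraticMap.polar Q (b a) (b a')).det) := by
  let B : LinearMap.BilinForm F (ι → F) := toBilin hQ.polar_bilinear
  have hS : B.IsSymm := ⟨fun x y => QuadraticMap.polar_comm Q x y⟩
  have hV : finrank F (ι → F) = 2 * m := by rw [Module.finrank_fintype_fun_eq_card, hm]
  have hmat : LinearMap.BilinForm.toMatrix b B = Matrix.of fun a a' => QuadraticMap.polar Q (b a) (b a') := by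
    ext a a'
    rw [LinearMap.BilinForm.toMatrix_apply]
    rfl
  obtain ⟨U, -, hUts, hUdim⟩ := hp
  rw [finrank_top, hV] at hUdim
  have hTI : HasTI B m := by
    refine ⟨U, by omega, ?_⟩
    intro x hx y hy
    show QuadraticMap.polar Q x y = 0
    unfold QuadraticMap.polar
    rw [hUts _ (U.add_mem hx hy), hUts x hx, hUts y hy]
    ring
  have := isSquare_of_hasTI B hS m hV hTI b
  rwa [hmat] at this

/-- **the discriminant criterion in the frozen vocabulary** (`q` odd), any basis -/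
theorem plus_iff_isSquare [Fintype F] (hodd : Odd (Fintype.card F)) (hQ : IsNondegenerateQuadraticForm Q)
    {κ : Type} [Fintype κ] [DecidableEq κ] (b : Basis κ F (ι → F)) (m : ℕ) (hm : Fintype.card ι = 2 * m) :
    IsPlusTypeOn Q ⊤ ↔
      IsSquare ((-1) ^ m * (Matrix.of fun a a' => QuadraticMap.polar Q (b a) (b a')).det) :=
  ⟨isSquare_of_plus hQ b m hm, plus_of_isSquare hodd hQ b m hm⟩

/-- the criterion for the standard basis: the Gram matrix of `polar Q` -/
theorem plus_iff_isSquare_gram [Fintype F] (hodd : Odd (Fintype.card F)) (hQ : IsNondegenerateQuadraticForm Q)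
    (m : ℕ) (hm : Fintype.card ι = 2 * m) :
    IsPlusTypeOn Q ⊤ ↔ IsSquare ((-1) ^ m * (gramMatrix (QuadraticMap.polar Q)).det) := by
  rw [plus_iff_isSquare hodd hQ (Pi.basisFun F ι) m hm]
  have : (Matrix.of fun a a' => QuadraticMap.polar Q ((Pi.basisFun F ι) a) ((Pi.basisFun F ι) a')) =
      gramMatrix (QuadraticMap.polar Q) := by
    ext a a'
    rw [Matrix.of_apply, Pi.basisFun_apply, Pi.basisFun_apply]
    rfl
  rw [this]

end conv

end Cfsg.Agent.Lib.Helper6.OETypeTens
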