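import Mathlib
import Cfsg.Prelude.Def_GeometricClasses
import Cfsg.Agent.Lib.Helper1.OEDefs
import Cfsg.Agent.Lib.Helper6.OETypeTens

/-!
# TC4a / TC4b / TC4c (+ TC7a) with the EXACT signatures of `notes/OETypeSkel_helper7.lean.txt`

Wrappers around `Cfsg.Agent.Lib.Helper6.OETypeTens`.
-/

set_option autoImplicit false

namespace Cfsg.Agent.Lib.Helper6.OETypeTC4

open Matrix Cfsg Cfsg.Geo QuadraticMap Module Cfsg.Agent.Lib.Helper1.OE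
open scoped Kronecker

variable {F : Type*} [Field F] [Fintype F] {ι : Type} [Fintype ι] [DecidableEq ι] {Q : (ι → F) → F}

/-- **TC4a** (all `q`). -/
theorem isPlusTypeOn_top_of_tensorSymp (hQ : IsNondegenerateQuadraticForm Q) {n₁ n₂ : ℕ} (e : ι ≃ Fin n₁ × Fin n₂) (P : GL ι F)
    (f₁ : (Fin n₁ → F) → (Fin n₁ → F) → F) (f₂ : (Fin n₂ → F) → (Fin n₂ → F) → F)
    (hf₁ : IsSymplecticForm f₁) (hf₂ : IsSymplecticForm f₂) (hT : IsTensorFormStructure id (polar Q) f₁ f₂ e P)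
    (hpure : ∀ (x₁ : Fin n₁ → F) (x₂ : Fin n₂ → F), Q ((P : Matrix ι ι F) *ᵥ (pure2 x₁ x₂ ∘ e)) = 0) :
    IsPlusTypeOn Q ⊤ :=
  Cfsg.Agent.Lib.Helper6.OETypeTens.plus_of_tensor_symp hQ hf₁ hf₂ hT hpure

/-- **TC4b** (`q` odd). -/
theorem isPlusTypeOn_top_of_tensorSymm_even (hQ : IsNondegenerateQuadraticForm Q) (hq : Odd (Fintype.card F)) {n₁ n₂ : ℕ}
    (e : ι ≃ Fin n₁ × Fin n₂) (P : GL ι F)
    (f₁ : (Fin n₁ → F) → (Fin n₁ → F) → F) (f₂ : (Fin n₂ → F) → (Fin n₂ → F) → F)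
    (hf₁ : IsSymmetricForm f₁) (hf₂ : IsSymmetricForm f₂) (hT : IsTensorFormStructure id (polar Q) f₁ f₂ e P)
    (h1 : Even n₁) (h2 : Even n₂) : IsPlusTypeOn Q ⊤ :=
  Cfsg.Agent.Lib.Helper6.OETypeTens.plus_of_tensor_symm_even hq hQ hT h1 h2

/-- **TC4c** (`q` odd). -/
theorem isPlusTypeOn_top_of_tensorSymm_plus (hQ : IsNondegenerateQuadraticForm Q) (hq : Odd (Fintype.card F)) {n₁ n₂ : ℕ}
    (e : ι ≃ Fin n₁ × Fin n₂) (P : GL ι F)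
    (f₁ : (Fin n₁ → F) → (Fin n₁ → F) → F) (f₂ : (Fin n₂ → F) → (Fin n₂ → F) → F)
    (hf₁ : IsSymmetricForm f₁) (hf₂ : IsSymmetricForm f₂) (hT : IsTensorFormStructure id (polar Q) f₁ f₂ e P)
    (hplus : IsPlusTypeOn (fun v : Fin n₂ → F => f₂ v v) ⊤) : IsPlusTypeOn Q ⊤ :=
  Cfsg.Agent.Lib.Helper6.OETypeTens.plus_of_tensor_symm_right
    (Cfsg.Agent.Lib.Helper6.OETypeTens.two_ne_zero_of_odd_card hq) hQ hf₁ hf₂ hT hplus

/-- **TC4c'** (`q` odd), the FIRST factor of plus type. -/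
theorem isPlusTypeOn_top_of_tensorSymm_plus_left (hQ : IsNondegenerateQuadraticForm Q) (hq : Odd (Fintype.card F)) {n₁ n₂ : ℕ}
    (e : ι ≃ Fin n₁ × Fin n₂) (P : GL ι F)
    (f₁ : (Fin n₁ → F) → (Fin n₁ → F) → F) (f₂ : (Fin n₂ → F) → (Fin n₂ → F) → F)
    (hf₁ : IsSymmetricForm f₁) (hf₂ : IsSymmetricForm f₂) (hT : IsTensorFormStructure id (polar Q) f₁ f₂ e P)
    (hplus : IsPlusTypeOn (fun v : Fin n₁ → F => f₁ v v) ⊤) : IsPlusTypeOn Q ⊤ :=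
  Cfsg.Agent.Lib.Helper6.OETypeTens.plus_of_tensor_symm_left
    (Cfsg.Agent.Lib.Helper6.OETypeTens.two_ne_zero_of_odd_card hq) hQ hf₁ hf₂ hT hplus

/-- **TC7a** -/
theorem isPlusTypeOn_top_iff_disc (hQ : IsNondegenerateQuadraticForm Q) (hq : Odd (Fintype.card F)) (m : ℕ)
    (hcard : Fintype.card ι = 2 * m) :
    IsPlusTypeOn Q ⊤ ↔ IsSquare ((-1) ^ m * (gramMatrix (polar Q)).det) :=
  Cfsg.Agent.Lib.Helper6.OETypeTens.plus_iff_isSquare_gram hq hQ m hcard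

end Cfsg.Agent.Lib.Helper6.OETypeTC4
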