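import Mathlib
import Cfsg.Agent.Lib.Helper6.SiegelOmega
import Cfsg.Agent.Lib.Helper6.SiegelTrans
import Cfsg.Agent.Lib.Helper6.SiegelPerfect
import Cfsg.Agent.Lib.Helper6.OmegaCentralizer

/-!
# Automorphisms of orthogonal groups, part 1: Siegel elements of `Ω`, the centre, the groups `Q_u`
-/

set_option autoImplicit false
set_option linter.unusedSectionVars false
set_option linter.unusedVariables false

open Cfsg Matrix QuadraticMap

namespace Cfsg.Agent.Lib.Helper6.AutOrt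

open Cfsg.Agent.Lib.Helper6 Cfsg.Agent.Lib.Helper15

variable {F : Type*} [Field F] [Fintype F] {ι : Type} [Fintype ι] [DecidableEq ι]

/-- standing hypotheses on the quadratic form -/
class Std (Q : QuadraticForm F (ι → F)) : Prop where
  nondeg : (polarBilin Q).Nondegenerate
  seven : 7 ≤ Fintype.card ι
  triple : Nonempty (HypTriple Q)

variable {Q : QuadraticForm F (ι → F)}

/-- the action of `Ω` on vectors -/
def av (g : ↥(Cfsg.Omega F ⇑Q)) (x : ι → F) : ι → F := gact Q g.1 x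

theorem av_mul (g h : ↥(Cfsg.Omega F ⇑Q)) (x : ι → F) : av (g * h) x = av g (av h x) :=
  gact_mul Q g.1 h.1 x

theorem av_one (x : ι → F) : av (1 : ↥(Cfsg.Omega F ⇑Q)) x = x := gact_one Q x

theorem av_inv_av (g : ↥(Cfsg.Omega F ⇑Q)) (x : ι → F) : av g⁻¹ (av g x) = x :=
  gact_inv_gact Q g.1 x

theorem av_av_inv (g : ↥(Cfsg.Omega F ⇑Q)) (x : ι → F) : av g (av g⁻¹ x) = x :=
  gact_gact_inv Q g.1 x

theorem av_add (g : ↥(Cfsg.Omega F ⇑Q)) (x y : ι → F) : av g (x + y) = av g x + av g y :=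
  gact_add Q g.1 x y

theorem av_sub (g : ↥(Cfsg.Omega F ⇑Q)) (x y : ι → F) : av g (x - y) = av g x - av g y :=
  gact_sub Q g.1 x y

theorem av_smul (g : ↥(Cfsg.Omega F ⇑Q)) (a : F) (x : ι → F) : av g (a • x) = a • av g x :=
  gact_smul Q g.1 a x

theorem av_neg (g : ↥(Cfsg.Omega F ⇑Q)) (x : ι → F) : av g (-x) = -av g x := gact_neg Q g.1 x

theorem av_zero (g : ↥(Cfsg.Omega F ⇑Q)) : av g (0 : ι → F) = 0 := gact_zero Q g.1

theorem Q_av (g : ↥(Cfsg.Omega F ⇑Q)) (x : ι → F) : Q (av g x) = Q x := Q_gact Q g.1 x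

theorem B_av (g : ↥(Cfsg.Omega F ⇑Q)) (x y : ι → F) :
    polar (⇑Q) (av g x) (av g y) = polar (⇑Q) x y := polar_gact Q g.1 x y

theorem B_av_left (g : ↥(Cfsg.Omega F ⇑Q)) (x y : ι → F) :
    polar (⇑Q) (av g x) y = polar (⇑Q) x (av g⁻¹ y) := by
  rw [← B_av g x (av g⁻¹ y), av_av_inv]

theorem B_av_right (g : ↥(Cfsg.Omega F ⇑Q)) (x y : ι → F) :
    polar (⇑Q) x (av g y) = polar (⇑Q) (av g⁻¹ x) y := by
  rw [← B_av g (av g⁻¹ x) y, av_av_inv]

theorem ext_av {g h : ↥(Cfsg.Omega F ⇑Q)} (H : ∀ x, av g x = av h x) : g = h :=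
  Subtype.ext (iso_ext_gact Q H)

theorem av_eq_zero_iff (g : ↥(Cfsg.Omega F ⇑Q)) (x : ι → F) : av g x = 0 ↔ x = 0 :=
  gact_eq_zero_iff Q g.1 x

theorem av_ne_zero (g : ↥(Cfsg.Omega F ⇑Q)) {x : ι → F} (hx : x ≠ 0) : av g x ≠ 0 :=
  fun h => hx ((av_eq_zero_iff g x).mp h)

theorem av_pow_fix (g : ↥(Cfsg.Omega F ⇑Q)) (x : ι → F) (h : av g x = x) (k : ℕ) :
    av (g ^ k) x = x := by
  induction k with
  | zero => rw [pow_zero, av_one]
  | succ k ih => rw [pow_succ, av_mul, h, ih]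

theorem B_self_of_sing {u : ι → F} (hu : Q u = 0) : polar (⇑Q) u u = 0 := by
  rw [polar_self, hu, smul_zero]

section std
variable [hS : Std Q]

theorem five_le (Q : QuadraticForm F (ι → F)) [hS : Std Q] : 5 ≤ Fintype.card ι := by
  have := hS.seven; omega

theorem B_nondeg {x : ι → F} (h : ∀ y, polar (⇑Q) x y = 0) : x = 0 := hS.nondeg.1 x h

theorem exists_partner (u : ι → F) (hu0 : u ≠ 0) (hu : Q u = 0) :
    ∃ f : ι → F, Q f = 0 ∧ polar (⇑Q) u f = 1 :=
  exists_hyperbolic_partner Q hS.nondeg u hu0 hu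

variable (Q)

open Classical in
/-- Siegel elements of `Ω`, total version (junk value `1`) -/
noncomputable def sg (u w : ι → F) : ↥(Cfsg.Omega F ⇑Q) :=
  if h : Q u = 0 ∧ polar (⇑Q) u w = 0 then
    ⟨siegIso Q u w h.1 h.2, siegIso_mem_Omega Q hS.nondeg (five_le Q) u w h.1 h.2⟩
  else 1

variable {Q}

theorem sg_val {u w : ι → F} (hu : Q u = 0) (huw : polar (⇑Q) u w = 0) :
    (sg Q u w).1 = siegIso Q u w hu huw := by
  unfold sg
  rw [dif_pos ⟨hu, huw⟩]

theorem av_sg {u w : ι → F} (hu : Q u = 0) (huw : polar (⇑Q) u w = 0) (x : ι → F) :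
    av (sg Q u w) x = x + (polar (⇑Q) w x - Q w * polar (⇑Q) u x) • u + (-(polar (⇑Q) u x)) • w := by
  unfold av
  rw [sg_val hu huw, gact_siegIso]

theorem sg_mul {u w w' : ι → F} (hu : Q u = 0) (huw : polar (⇑Q) u w = 0)
    (huw' : polar (⇑Q) u w' = 0) : sg Q u w * sg Q u w' = sg Q u (w + w') := by
  apply Subtype.ext
  rw [Subgroup.coe_mul, sg_val hu huw, sg_val hu huw',
    sg_val hu (by rw [polar_add_right, huw, huw', add_zero]), siegIso_mul]

theorem sg_zero (u : ι → F) : sg Q u 0 = 1 := by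
  by_cases hu : Q u = 0
  · apply Subtype.ext
    rw [sg_val hu (by simp)]
    exact siegIso_zero Q u hu
  · unfold sg
    rw [dif_neg (fun h => hu h.1)]

theorem sg_inv {u w : ι → F} (hu : Q u = 0) (huw : polar (⇑Q) u w = 0) :
    (sg Q u w)⁻¹ = sg Q u (-w) := by
  rw [inv_eq_iff_mul_eq_one, sg_mul hu huw (by rw [polar_neg_right, huw, neg_zero]), add_neg_cancel,
    sg_zero]

theorem sg_comm {u w w' : ι → F} (hu : Q u = 0) (huw : polar (⇑Q) u w = 0)
    (huw' : polar (⇑Q) u w' = 0) : sg Q u w * sg Q u w' = sg Q u w' * sg Q u w := by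
  rw [sg_mul hu huw huw', sg_mul hu huw' huw, add_comm]

theorem conj_sg (g : ↥(Cfsg.Omega F ⇑Q)) {u w : ι → F} (hu : Q u = 0)
    (huw : polar (⇑Q) u w = 0) : g * sg Q u w * g⁻¹ = sg Q (av g u) (av g w) := by
  apply Subtype.ext
  rw [Subgroup.coe_mul, Subgroup.coe_mul, Subgroup.coe_inv, sg_val hu huw,
    sg_val (by rw [Q_av, hu]) (by rw [B_av, huw]), conj_siegIso]
  rfl

theorem sg_smul_left (t : F) {u w : ι → F} (hu : Q u = 0) (huw : polar (⇑Q) u w = 0) :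
    sg Q (t • u) w = sg Q u (t • w) := by
  apply Subtype.ext
  rw [sg_val (by rw [Q_smul, hu, mul_zero]) (by rw [polar_smul_left, huw, smul_zero]),
    sg_val hu (by rw [polar_smul_right, huw, smul_zero]), siegIso_smul_left Q t u w hu huw]

theorem sg_add_smul (t : F) {u w : ι → F} (hu : Q u = 0) (huw : polar (⇑Q) u w = 0) :
    sg Q u (w + t • u) = sg Q u w := by
  apply Subtype.ext
  rw [sg_val hu (by rw [polar_add_right, huw, polar_smul_right, B_self_of_sing hu]; simp),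
    sg_val hu huw, siegIso_add_smul Q t u w hu huw]

theorem sg_pow {u w : ι → F} (hu : Q u = 0) (huw : polar (⇑Q) u w = 0) (n : ℕ) :
    (sg Q u w) ^ n = sg Q u ((n : F) • w) := by
  induction n with
  | zero => rw [pow_zero, Nat.cast_zero, zero_smul, sg_zero]
  | succ n ih =>
    rw [pow_succ, ih, sg_mul hu (by rw [polar_smul_right, huw, smul_zero]) huw]
    congr 1
    push_cast
    module

theorem sg_pow_char (p : ℕ) [CharP F p] {u w : ι → F} (hu : Q u = 0)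
    (huw : polar (⇑Q) u w = 0) : (sg Q u w) ^ p = 1 := by
  rw [sg_pow hu huw, CharP.cast_eq_zero, zero_smul, sg_zero]

theorem sg_pow_char' (p : ℕ) [CharP F p] {u w : ι → F} (hu : Q u = 0)
    (huw : polar (⇑Q) u w = 0) : (sg Q u w) ^ (p ^ 1) = 1 := by
  rw [pow_one, sg_pow_char p hu huw]

/-- symmetry of long root elements -/
theorem sg_symm {u w : ι → F} (hu : Q u = 0) (hw : Q w = 0) (huw : polar (⇑Q) u w = 0) :
    sg Q u w = sg Q w (-u) := by
  have hwu : polar (⇑Q) w u = 0 := by rw [polar_comm, huw]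
  apply ext_av
  intro x
  rw [av_sg hu huw, av_sg hw (by rw [polar_neg_right, hwu, neg_zero]), hw, QuadraticMap.map_neg, hu,
    polar_neg_left]
  module

/-- injectivity of `w ↦ sg u w` modulo `u` -/
theorem sg_eq_sg {u w w' : ι → F} (hu0 : u ≠ 0) (hu : Q u = 0) (huw : polar (⇑Q) u w = 0)
    (huw' : polar (⇑Q) u w' = 0) (h : sg Q u w = sg Q u w') : ∃ c : F, w' = w + c • u := by
  obtain ⟨f, hf, huf⟩ := exists_partner u hu0 hu
  have h1 := congrArg (fun g => av g f) h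
  simp only [av_sg hu huw, av_sg hu huw', huf] at h1
  generalize polar (⇑Q) w f - Q w * 1 = a at h1
  generalize polar (⇑Q) w' f - Q w' * 1 = b at h1
  refine ⟨b - a, ?_⟩
  have h3 : (-(1 : F)) • w' = (f + b • u + (-(1 : F)) • w') - f - b • u := by module
  rw [← h1] at h3
  have e2 : w' = -((-(1 : F)) • w') := by module
  rw [e2, h3]; module

theorem sg_eq_one {u w : ι → F} (hu0 : u ≠ 0) (hu : Q u = 0) (huw : polar (⇑Q) u w = 0)
    (h : sg Q u w = 1) : ∃ c : F, w = c • u := by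
  rw [← sg_zero (Q := Q) u] at h
  obtain ⟨c, hc⟩ := sg_eq_sg hu0 hu (by simp) huw h.symm
  exact ⟨c, by rw [hc, zero_add]⟩

/-! ### the centre -/

theorem av_center (z : ↥(Cfsg.Omega F ⇑Q)) (hz : z ∈ Subgroup.center ↥(Cfsg.Omega F ⇑Q)) :
    (∀ x : ι → F, av z x = x) ∨ (∀ x : ι → F, av z x = -x) := by
  obtain ⟨T⟩ := hS.triple
  have hz' : ∀ g ∈ Cfsg.Omega F ⇑Q, g * z.1 = z.1 * g := by
    intro g hg
    exact congrArg Subtype.val (Subgroup.mem_center_iff.mp hz ⟨g, hg⟩)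
  obtain ⟨c, hcc, hc⟩ := centralizer_Omega' Q hS.nondeg
    (Or.inr (by have := hS.seven; omega)) T z.1 hz'
  have hc1 : c = 1 ∨ c = -1 := by
    have : (c - 1) * (c + 1) = 0 := by linear_combination hcc
    rcases mul_eq_zero.mp this with h | h
    · left; linear_combination h
    · right; linear_combination h
  have hav : ∀ x : ι → F, av z x = c • x := by
    intro x
    unfold av gact
    rw [hc, Matrix.smul_mulVec, Matrix.one_mulVec]
  rcases hc1 with h | h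
  · left; intro x; rw [hav, h, one_smul]
  · right; intro x; rw [hav, h]; module

/-- the quotient map -/
def pu : ↥(Cfsg.Omega F ⇑Q) →* Cfsg.POmega F ⇑Q := QuotientGroup.mk' _

theorem pu_surjective : Function.Surjective (pu : ↥(Cfsg.Omega F ⇑Q) →* Cfsg.POmega F ⇑Q) :=
  QuotientGroup.mk'_surjective _

theorem pu_eq_one_iff (x : ↥(Cfsg.Omega F ⇑Q)) :
    pu x = 1 ↔ x ∈ Subgroup.center ↥(Cfsg.Omega F ⇑Q) :=
  QuotientGroup.eq_one_iff x

theorem pu_eq_iff (x y : ↥(Cfsg.Omega F ⇑Q)) :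
    pu x = pu y ↔ x⁻¹ * y ∈ Subgroup.center ↥(Cfsg.Omega F ⇑Q) :=
  QuotientGroup.eq

variable {p : ℕ} [hp : Fact p.Prime] [CharP F p]

theorem neg_one_pow_char (k : ℕ) : (-1 : F) ^ (p ^ k) = -1 := by
  by_cases h2 : p = 2
  · subst h2
    have : (-1 : F) = 1 := CharTwo.neg_eq 1
    rw [this, one_pow]
  · have hodd : Odd (p ^ k) := (hp.out.odd_of_ne_two h2).pow
    exact hodd.neg_one_pow

theorem av_pow_neg (z : ↥(Cfsg.Omega F ⇑Q)) (hz : ∀ x : ι → F, av z x = -x) (k : ℕ) (x : ι → F) :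
    av (z ^ k) x = ((-1 : F) ^ k) • x := by
  induction k with
  | zero => rw [pow_zero, pow_zero, av_one, one_smul]
  | succ k ih =>
    rw [pow_succ, av_mul, hz, av_neg, ih, pow_succ]
    module

theorem center_eq_one_of_pow (z : ↥(Cfsg.Omega F ⇑Q))
    (hz : z ∈ Subgroup.center ↥(Cfsg.Omega F ⇑Q)) (k : ℕ) (h : z ^ (p ^ k) = 1) : z = 1 := by
  rcases av_center z hz with h1 | h1
  · apply ext_av
    intro x
    rw [h1, av_one]
  · apply ext_av
    intro x
    have h2 := av_pow_neg z h1 (p ^ k) x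
    rw [h, av_one, neg_one_pow_char (p := p)] at h2
    rw [h1, av_one]
    calc -x = (-1 : F) • x := by module
      _ = x := h2.symm

/-- `p`-elements commuting modulo the centre commute -/
theorem comm_of_pu_comm (z u : ↥(Cfsg.Omega F ⇑Q))
    (k : ℕ) (hu : u ^ (p ^ k) = 1) (h : pu z * pu u = pu u * pu z) : z * u = u * z := by
  obtain ⟨c, hc⟩ : ∃ c, c = z * u * z⁻¹ * u⁻¹ := ⟨_, rfl⟩
  have hcz : c ∈ Subgroup.center ↥(Cfsg.Omega F ⇑Q) := by
    rw [← pu_eq_one_iff, hc, map_mul, map_mul, map_mul, map_inv, map_inv, h]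
    group
  have h1 : z * u * z⁻¹ = c * u := by rw [hc]; group
  have h2 : (z * u * z⁻¹) ^ (p ^ k) = 1 := by
    rw [conj_pow, hu, mul_one, mul_inv_cancel]
  have hcomm : Commute c u := (Subgroup.mem_center_iff.mp hcz u).symm
  rw [h1, hcomm.mul_pow, hu, mul_one] at h2
  have hc1 := center_eq_one_of_pow (p := p) c hcz k h2
  rw [hc1, one_mul] at h1
  calc z * u = z * u * z⁻¹ * z := by group
    _ = u * z := by rw [h1]

/-- the projection is injective on `p`-elements -/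
theorem eq_of_pu_eq (x y : ↥(Cfsg.Omega F ⇑Q))
    (k : ℕ) (hx : x ^ (p ^ k) = 1) (hy : y ^ (p ^ k) = 1) (h : pu x = pu y) : x = y := by
  have hz : x⁻¹ * y ∈ Subgroup.center ↥(Cfsg.Omega F ⇑Q) := (pu_eq_iff x y).mp h
  have hcomm : Commute x⁻¹ y := by
    have := Subgroup.mem_center_iff.mp hz x
    have h2 : y * x = x * y := by
      calc y * x = x * (x⁻¹ * y * x) := by group
        _ = x * (x * (x⁻¹ * y)) := by rw [this]
        _ = x * y := by group
    change x⁻¹ * y = y * x⁻¹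
    calc x⁻¹ * y = x⁻¹ * (y * x) * x⁻¹ := by group
      _ = x⁻¹ * (x * y) * x⁻¹ := by rw [h2]
      _ = y * x⁻¹ := by group
  have h1 : (x⁻¹ * y) ^ (p ^ k) = 1 := by
    rw [hcomm.mul_pow, inv_pow, hx, hy, inv_one, one_mul]
  have := center_eq_one_of_pow (p := p) _ hz k h1
  exact inv_mul_eq_one.mp this

end std

/-! ### the groups `Q_u` -/

variable (Q)

/-- the elements fixing `u` and acting trivially on `u^⊥ / u` -/
def Qv (u : ι → F) : Subgroup ↥(Cfsg.Omega F ⇑Q) where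
  carrier := {g | av g u = u ∧ ∀ z, polar (⇑Q) u z = 0 → ∃ c : F, av g z = z + c • u}
  one_mem' := ⟨av_one u, fun z _ => ⟨0, by rw [av_one, zero_smul, add_zero]⟩⟩
  mul_mem' := by
    rintro g h ⟨hg1, hg2⟩ ⟨hh1, hh2⟩
    refine ⟨by rw [av_mul, hh1, hg1], fun z hz => ?_⟩
    obtain ⟨c, hc⟩ := hh2 z hz
    obtain ⟨d, hd⟩ := hg2 z hz
    refine ⟨d + c, ?_⟩
    rw [av_mul, hc, av_add, av_smul, hg1, hd]
    module
  inv_mem' := by
    rintro g ⟨hg1, hg2⟩
    have h1 : av g⁻¹ u = u := by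
      have := av_inv_av g u
      rwa [hg1] at this
    refine ⟨h1, fun z hz => ?_⟩
    obtain ⟨c, hc⟩ := hg2 z hz
    refine ⟨-c, ?_⟩
    have := av_inv_av g z
    rw [hc, av_add, av_smul, h1] at this
    have e : av g⁻¹ z = (av g⁻¹ z + c • u) - c • u := by abel
    rw [e, this]; module

variable {Q}

theorem mem_Qv (u : ι → F) (g : ↥(Cfsg.Omega F ⇑Q)) :
    g ∈ Qv Q u ↔ av g u = u ∧ ∀ z, polar (⇑Q) u z = 0 → ∃ c : F, av g z = z + c • u := Iff.rfl

section std2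
variable [hS : Std Q]

theorem sg_mem_Qv {u w : ι → F} (hu : Q u = 0) (huw : polar (⇑Q) u w = 0) : sg Q u w ∈ Qv Q u := by
  have hwu : polar (⇑Q) w u = 0 := by rw [polar_comm, huw]
  refine ⟨?_, fun z hz => ⟨polar (⇑Q) w z, ?_⟩⟩
  · rw [av_sg hu huw, B_self_of_sing hu, hwu]
    simp
  · rw [av_sg hu huw, hz]
    simp

/-- an element of `Q_u` fixing a hyperbolic partner of `u` is trivial -/
theorem eq_one_of_mem_Qv_fix {u f : ι → F} (huf : polar (⇑Q) u f = 1) (g : ↥(Cfsg.Omega F ⇑Q))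
    (hg : g ∈ Qv Q u) (hf : av g f = f) : g = 1 := by
  apply ext_av
  intro x
  rw [av_one]
  have hz : polar (⇑Q) u (x - polar (⇑Q) u x • f) = 0 := by
    rw [polar_sub_right, polar_smul_right, huf]; simp
  obtain ⟨c, hc⟩ := hg.2 _ hz
  have h1 := B_av g (x - polar (⇑Q) u x • f) f
  rw [hc, hf, polar_add_left, polar_smul_left, huf] at h1
  have hc0 : c = 0 := by simpa using h1
  rw [hc0, zero_smul, add_zero, av_sub, av_smul, hf] at hc
  have e : av g x = (av g x - polar (⇑Q) u x • f) + polar (⇑Q) u x • f := by abel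
  rw [e, hc]; abel

/-- Eichler: the elements of `Q_u` are the Siegel elements -/
theorem exists_sg_of_mem_Qv {u : ι → F} (hu0 : u ≠ 0) (hu : Q u = 0) (g : ↥(Cfsg.Omega F ⇑Q))
    (hg : g ∈ Qv Q u) : ∃ w, polar (⇑Q) u w = 0 ∧ g = sg Q u w := by
  obtain ⟨f, hf, huf⟩ := exists_partner u hu0 hu
  have huw : polar (⇑Q) u (f - av g f) = 0 := by
    rw [polar_sub_right, huf]
    have := B_av g u f
    rw [hg.1] at this
    rw [this, huf, sub_self]
  refine ⟨f - av g f, huw, ?_⟩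
  have hQ0 : Q (f - av g f) - polar (⇑Q) (f - av g f) f = 0 := by
    have h1 : Q (av g f) = 0 := by rw [Q_av, hf]
    have h2 : av g f = f - (f - av g f) := by abel
    rw [h2, Q_sub, hf] at h1
    rw [polar_comm (⇑Q) (f - av g f) f]
    linear_combination h1
  have hfix : av ((sg Q u (f - av g f))⁻¹ * g) f = f := by
    rw [av_mul]
    have h3 : av (sg Q u (f - av g f)) f = av g f := by
      rw [av_sg hu huw, huf]
      have e : polar (⇑Q) (f - av g f) f - Q (f - av g f) * 1 = 0 := by linear_combination -hQ0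
      rw [e]
      module
    have h5 := av_inv_av (sg Q u (f - av g f)) f
    rw [h3] at h5
    exact h5
  have h4 := eq_one_of_mem_Qv_fix huf _
    ((Qv Q u).mul_mem ((Qv Q u).inv_mem (sg_mem_Qv hu huw)) hg) hfix
  exact (inv_mul_eq_one.mp h4).symm

theorem Qv_comm {u : ι → F} (hu0 : u ≠ 0) (hu : Q u = 0) (g h : ↥(Cfsg.Omega F ⇑Q))
    (hg : g ∈ Qv Q u) (hh : h ∈ Qv Q u) : g * h = h * g := by
  obtain ⟨w, hw, rfl⟩ := exists_sg_of_mem_Qv hu0 hu g hg
  obtain ⟨w', hw', rfl⟩ := exists_sg_of_mem_Qv hu0 hu h hh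
  exact sg_comm hu hw hw'

theorem Qv_pow (p : ℕ) [CharP F p] {u : ι → F} (hu0 : u ≠ 0) (hu : Q u = 0)
    (g : ↥(Cfsg.Omega F ⇑Q)) (hg : g ∈ Qv Q u) : g ^ (p ^ 1) = 1 := by
  obtain ⟨w, hw, rfl⟩ := exists_sg_of_mem_Qv hu0 hu g hg
  exact sg_pow_char' p hu hw

theorem isPGroup_Qv (p : ℕ) [Fact p.Prime] [CharP F p] {u : ι → F} (hu0 : u ≠ 0) (hu : Q u = 0) :
    IsPGroup p (Qv Q u) := by
  intro g
  refine ⟨1, ?_⟩
  apply Subtype.ext
  rw [Subgroup.coe_pow]
  exact Qv_pow p hu0 hu g.1 g.2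

/-- conjugating `Q_u` -/
theorem conj_mem_Qv (k : ↥(Cfsg.Omega F ⇑Q)) {u : ι → F} (hu0 : u ≠ 0) (hu : Q u = 0)
    (g : ↥(Cfsg.Omega F ⇑Q)) (hg : g ∈ Qv Q u) : k * g * k⁻¹ ∈ Qv Q (av k u) := by
  obtain ⟨w, hw, rfl⟩ := exists_sg_of_mem_Qv hu0 hu g hg
  rw [conj_sg k hu hw]
  exact sg_mem_Qv (by rw [Q_av, hu]) (by rw [B_av, hw])

theorem Qv_smul (a : F) (ha : a ≠ 0) (u : ι → F) : Qv Q (a • u) = Qv Q u := by
  ext g
  rw [mem_Qv, mem_Qv]
  constructor
  · rintro ⟨h1, h2⟩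
    refine ⟨?_, fun z hz => ?_⟩
    · rw [av_smul] at h1
      have := congrArg (fun x => a⁻¹ • x) h1
      simpa [smul_smul, inv_mul_cancel₀ ha] using this
    · obtain ⟨c, hc⟩ := h2 z (by rw [polar_smul_left, hz, smul_zero])
      exact ⟨c * a, by rw [hc, smul_smul]⟩
  · rintro ⟨h1, h2⟩
    refine ⟨by rw [av_smul, h1], fun z hz => ?_⟩
    rw [polar_smul_left, smul_eq_mul] at hz
    obtain ⟨c, hc⟩ := h2 z (by
      rcases mul_eq_zero.mp hz with h | h
      · exact absurd h ha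
      · exact h)
    exact ⟨c * a⁻¹, by rw [hc, smul_smul, mul_assoc, inv_mul_cancel₀ ha, mul_one]⟩

/-- the stabiliser of the point normalises `Q_u` -/
theorem conj_mem_Qv_of_stab (k : ↥(Cfsg.Omega F ⇑Q)) {u : ι → F} (hu0 : u ≠ 0) (hu : Q u = 0)
    (a : F) (ha : a ≠ 0) (hk : av k u = a • u)
    (g : ↥(Cfsg.Omega F ⇑Q)) (hg : g ∈ Qv Q u) : k * g * k⁻¹ ∈ Qv Q u := by
  have := conj_mem_Qv k hu0 hu g hg
  rwa [hk, Qv_smul a ha] at this

end std2

end Cfsg.Agent.Lib.Helper6.AutOrt
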