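import Mathlib
import Cfsg.Agent.Lib.Helper6.AutOrt1

/-!
# Automorphisms of orthogonal groups, part 2: counting singular vectors, fixed points of `p`-groups
-/

set_option autoImplicit false
set_option linter.unusedSectionVars false
set_option linter.unusedVariables false

open Cfsg Matrix QuadraticMap

namespace Cfsg.Agent.Lib.Helper6.AutOrt

open Cfsg.Agent.Lib.Helper6 Cfsg.Agent.Lib.Helper15

variable {F : Type*} [Field F] [Fintype F] {ι : Type} [Fintype ι] [DecidableEq ι]

/-! ### polynomials -/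

theorem totalDegree_CXX (a : F) (i j : ι) :
    (MvPolynomial.C a * MvPolynomial.X i * MvPolynomial.X j : MvPolynomial ι F).totalDegree ≤ 2 := by
  calc (MvPolynomial.C a * MvPolynomial.X i * MvPolynomial.X j : MvPolynomial ι F).totalDegree
      ≤ (MvPolynomial.C a * MvPolynomial.X i : MvPolynomial ι F).totalDegree
          + (MvPolynomial.X j : MvPolynomial ι F).totalDegree := MvPolynomial.totalDegree_mul _ _
    _ ≤ ((MvPolynomial.C a : MvPolynomial ι F).totalDegree
          + (MvPolynomial.X i : MvPolynomial ι F).totalDegree)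
          + (MvPolynomial.X j : MvPolynomial ι F).totalDegree :=
        Nat.add_le_add_right (MvPolynomial.totalDegree_mul _ _) _
    _ = 2 := by
        rw [MvPolynomial.totalDegree_C, MvPolynomial.totalDegree_X, MvPolynomial.totalDegree_X]

theorem totalDegree_CX (a : F) (i : ι) :
    (MvPolynomial.C a * MvPolynomial.X i : MvPolynomial ι F).totalDegree ≤ 1 := by
  calc (MvPolynomial.C a * MvPolynomial.X i : MvPolynomial ι F).totalDegree
      ≤ (MvPolynomial.C a : MvPolynomial ι F).totalDegree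
          + (MvPolynomial.X i : MvPolynomial ι F).totalDegree := MvPolynomial.totalDegree_mul _ _
    _ = 1 := by rw [MvPolynomial.totalDegree_C, MvPolynomial.totalDegree_X]

theorem exists_qpoly (Q : QuadraticForm F (ι → F)) :
    ∃ P : MvPolynomial ι F, P.totalDegree ≤ 2 ∧ ∀ x, MvPolynomial.eval x P = Q x := by
  classical
  letI : LinearOrder ι := LinearOrder.lift' (Fintype.equivFin ι) (Fintype.equivFin ι).injective
  let b := QuadraticMap.toBilin Q (Pi.basisFun F ι)
  have hb : ∀ x, b x x = Q x := fun x => by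
    have := congrArg (fun q : QuadraticForm F (ι → F) => q x)
      (QuadraticMap.toQuadraticMap_toBilin Q (Pi.basisFun F ι))
    simpa using this
  let e : ι → (ι → F) := fun i j => if i = j then 1 else 0
  refine ⟨∑ i, ∑ j, MvPolynomial.C (b (e i) (e j)) * MvPolynomial.X i * MvPolynomial.X j, ?_, ?_⟩
  · refine (MvPolynomial.totalDegree_finset_sum _ _).trans (Finset.sup_le fun i _ => ?_)
    refine (MvPolynomial.totalDegree_finset_sum _ _).trans (Finset.sup_le fun j _ => ?_)
    exact totalDegree_CXX _ i j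
  · intro x
    rw [← hb x, LinearMap.pi_apply_eq_sum_univ b x, LinearMap.sum_apply, map_sum]
    apply Finset.sum_congr rfl
    intro i _
    rw [LinearMap.smul_apply, LinearMap.pi_apply_eq_sum_univ (b (e i)) x, map_sum, Finset.smul_sum]
    apply Finset.sum_congr rfl
    intro j _
    simp only [map_mul, MvPolynomial.eval_C, MvPolynomial.eval_X, smul_eq_mul]
    change b (e i) (e j) * x i * x j = x i * (x j * b (e i) (e j))
    ring

theorem exists_lpoly (Q : QuadraticForm F (ι → F)) (e : ι → F) :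
    ∃ P : MvPolynomial ι F, P.totalDegree ≤ 1 ∧ ∀ x, MvPolynomial.eval x P = polar (⇑Q) e x := by
  classical
  let ε : ι → (ι → F) := fun i j => if i = j then 1 else 0
  refine ⟨∑ i, MvPolynomial.C (polar (⇑Q) e (ε i)) * MvPolynomial.X i, ?_, ?_⟩
  · refine (MvPolynomial.totalDegree_finset_sum _ _).trans (Finset.sup_le fun i _ => ?_)
    exact totalDegree_CX _ i
  · intro x
    have h := LinearMap.pi_apply_eq_sum_univ (polarBilin Q e) x
    change polar (⇑Q) e x = _ at h
    rw [h, map_sum]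
    apply Finset.sum_congr rfl
    intro i _
    simp only [map_mul, MvPolynomial.eval_C, MvPolynomial.eval_X, smul_eq_mul]
    change polar (⇑Q) e (ε i) * x i = x i * polar (⇑Q) e (ε i)
    ring

variable {p : ℕ} [hp : Fact p.Prime] [CharP F p]

theorem p_dvd_card_sing (Q : QuadraticForm F (ι → F)) (h3 : 3 ≤ Fintype.card ι) :
    p ∣ Nat.card {x : ι → F // Q x = 0} := by
  classical
  obtain ⟨P, hdeg, hP⟩ := exists_qpoly Q
  have h := char_dvd_card_solutions p (f := P) (by omega)
  rw [← Nat.card_eq_fintype_card] at h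
  have e : {x : ι → F // MvPolynomial.eval x P = 0} ≃ {x : ι → F // Q x = 0} :=
    Equiv.subtypeEquivRight (fun x => by rw [hP x])
  rwa [Nat.card_congr e] at h

theorem p_dvd_card_singW (Q : QuadraticForm F (ι → F)) (h5 : 5 ≤ Fintype.card ι) (e f : ι → F) :
    p ∣ Nat.card {x : ι → F // Q x = 0 ∧ polar (⇑Q) e x = 0 ∧ polar (⇑Q) f x = 0} := by
  classical
  obtain ⟨P, hdeg, hP⟩ := exists_qpoly Q
  obtain ⟨Pe, hdege, hPe⟩ := exists_lpoly Q e
  obtain ⟨Pf, hdegf, hPf⟩ := exists_lpoly Q f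
  have h := char_dvd_card_solutions_of_fintype_sum_lt p (f := ![P, Pe, Pf]) (by
    rw [Fin.sum_univ_three]
    simp only [Matrix.cons_val_zero, Matrix.cons_val_one, Matrix.cons_val]
    omega)
  rw [Fintype.card_eq_nat_card] at h
  have eqv : {x : ι → F // ∀ i : Fin 3, MvPolynomial.eval x ((![P, Pe, Pf] : Fin 3 → MvPolynomial ι F) i) = 0}
      ≃ {x : ι → F // Q x = 0 ∧ polar (⇑Q) e x = 0 ∧ polar (⇑Q) f x = 0} :=
    Equiv.subtypeEquivRight (fun x => by
      rw [Fin.forall_fin_succ, Fin.forall_fin_succ, Fin.forall_fin_succ]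
      simp only [Matrix.cons_val_zero, Matrix.cons_val_succ, hP, hPe, hPf]
      constructor
      · rintro ⟨h1, h2, h3, -⟩
        exact ⟨h1, h2, h3⟩
      · rintro ⟨h1, h2, h3⟩
        exact ⟨h1, h2, h3, fun i => i.elim0⟩)
  rwa [Nat.card_congr eqv] at h

variable {Q : QuadraticForm F (ι → F)}

/-- a `p`-subgroup of `Ω` fixes a non-zero singular vector -/
theorem exists_fixed_sing (h3 : 3 ≤ Fintype.card ι) (U : Subgroup ↥(Cfsg.Omega F ⇑Q))
    (hU : IsPGroup p U) :
    ∃ v : ι → F, v ≠ 0 ∧ Q v = 0 ∧ ∀ g ∈ U, av g v = v := by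
  classical
  let act : MulAction ↥U {x : ι → F // Q x = 0} :=
    { smul := fun g v => ⟨av g.1 v.1, by rw [Q_av]; exact v.2⟩
      one_smul := fun v => Subtype.ext (av_one v.1)
      mul_smul := fun g h v => Subtype.ext (av_mul g.1 h.1 v.1) }
  have hsm : ∀ (g : ↥U) (v : {x : ι → F // Q x = 0}), (g • v).1 = av g.1 v.1 := fun g v => rfl
  have hcard : p ∣ Nat.card {x : ι → F // Q x = 0} := p_dvd_card_sing Q h3
  have h0 : (⟨0, map_zero Q⟩ : {x : ι → F // Q x = 0}) ∈
      MulAction.fixedPoints ↥U {x : ι → F // Q x = 0} := fun g => Subtype.ext (av_zero g.1)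
  obtain ⟨v, hv, hv0⟩ := hU.exists_fixed_point_of_prime_dvd_card_of_fixed_point _ hcard h0
  refine ⟨v.1, fun h => hv0 (Subtype.ext h.symm), v.2, fun g hg => ?_⟩
  have := congrArg Subtype.val (hv ⟨g, hg⟩)
  rwa [hsm] at this

/-- a `p`-subgroup fixing the singular vector `v` stabilises a singular line through `v` -/
theorem exists_fixed_line (h5 : 5 ≤ Fintype.card ι) (U : Subgroup ↥(Cfsg.Omega F ⇑Q))
    (hU : IsPGroup p U) (v f : ι → F) (hv : Q v = 0) (hvf : polar (⇑Q) v f = 1)
    (hfix : ∀ g ∈ U, av g v = v) :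
    ∃ w : ι → F, w ≠ 0 ∧ Q w = 0 ∧ polar (⇑Q) v w = 0 ∧ polar (⇑Q) f w = 0 ∧
      ∀ g ∈ U, ∃ c : F, av g w = w + c • v := by
  classical
  have hfv : polar (⇑Q) f v = 1 := by rw [polar_comm, hvf]
  have hvv : polar (⇑Q) v v = 0 := B_self_of_sing hv
  let Y := {x : ι → F // Q x = 0 ∧ polar (⇑Q) v x = 0 ∧ polar (⇑Q) f x = 0}
  have hperp : ∀ (g : ↥U) (x : Y), polar (⇑Q) v (av g.1 x.1) = 0 := by
    intro g x
    have := B_av g.1 v x.1
    rw [hfix g.1 g.2] at this
    rw [this]; exact x.2.2.1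
  let act : MulAction ↥U Y :=
    { smul := fun g x => ⟨av g.1 x.1 - polar (⇑Q) f (av g.1 x.1) • v, by
        refine ⟨?_, ?_, ?_⟩
        · rw [Q_sub, Q_smul, hv, polar_smul_right, polar_comm (⇑Q) (av g.1 x.1) v, hperp g x, Q_av,
            x.2.1]
          simp
        · rw [polar_sub_right, polar_smul_right, hvv, hperp g x]; simp
        · rw [polar_sub_right, polar_smul_right, hfv]; simp⟩
      one_smul := fun x => by
        apply Subtype.ext
        change av (1 : ↥(Cfsg.Omega F ⇑Q)) x.1 - polar (⇑Q) f (av (1 : ↥(Cfsg.Omega F ⇑Q)) x.1) • v = x.1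
        rw [av_one, x.2.2.2, zero_smul, sub_zero]
      mul_smul := fun g h x => by
        apply Subtype.ext
        change av (g.1 * h.1) x.1 - polar (⇑Q) f (av (g.1 * h.1) x.1) • v =
          av g.1 (av h.1 x.1 - polar (⇑Q) f (av h.1 x.1) • v)
            - polar (⇑Q) f (av g.1 (av h.1 x.1 - polar (⇑Q) f (av h.1 x.1) • v)) • v
        rw [av_mul, av_sub, av_smul, hfix g.1 g.2, polar_sub_right, polar_smul_right, hfv]
        simp only [smul_eq_mul, mul_one]
        module }
  have hsm : ∀ (g : ↥U) (x : Y), (g • x).1 = av g.1 x.1 - polar (⇑Q) f (av g.1 x.1) • v :=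
    fun g x => rfl
  have hcard : p ∣ Nat.card Y := p_dvd_card_singW Q h5 v f
  have h0 : (⟨0, map_zero Q, polar_zero_right _ _, polar_zero_right _ _⟩ : Y) ∈
      MulAction.fixedPoints ↥U Y := by
    intro g
    apply Subtype.ext
    rw [hsm]
    change av g.1 (0 : ι → F) - polar (⇑Q) f (av g.1 (0 : ι → F)) • v = 0
    rw [av_zero]; simp
  obtain ⟨w, hw, hw0⟩ := hU.exists_fixed_point_of_prime_dvd_card_of_fixed_point _ hcard h0
  refine ⟨w.1, fun h => hw0 (Subtype.ext h.symm), w.2.1, w.2.2.1, w.2.2.2, fun g hg => ?_⟩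
  have := congrArg Subtype.val (hw ⟨g, hg⟩)
  rw [hsm] at this
  refine ⟨polar (⇑Q) f (av g w.1), ?_⟩
  change av g w.1 - polar (⇑Q) f (av g w.1) • v = w.1 at this
  calc av g w.1 = (av g w.1 - polar (⇑Q) f (av g w.1) • v) + polar (⇑Q) f (av g w.1) • v := by abel
    _ = w.1 + polar (⇑Q) f (av g w.1) • v := by rw [this]

section std
variable [hS : Std Q]

theorem mem_normalizer_of_conj {G : Type*} [Group G] (H : Subgroup G) (g : G)
    (h1 : ∀ h ∈ H, g * h * g⁻¹ ∈ H) (h2 : ∀ h ∈ H, g⁻¹ * h * g ∈ H) :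
    g ∈ Subgroup.normalizer (H : Set G) := by
  rw [Subgroup.mem_normalizer_iff]
  intro h
  constructor
  · exact h1 h
  · intro hh
    have := h2 _ hh
    have e : g⁻¹ * (g * h * g⁻¹) * g = h := by group
    rwa [e] at this

theorem fix_inv {g : ↥(Cfsg.Omega F ⇑Q)} {u : ι → F} (h : av g u = u) : av g⁻¹ u = u := by
  have := av_inv_av g u
  rwa [h] at this

/-- a Sylow `p`-subgroup fixing the singular vector `u` contains `Q_u` -/
theorem Qv_le_sylow {u : ι → F} (hu0 : u ≠ 0) (hu : Q u = 0)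
    (S : Sylow p ↥(Cfsg.Omega F ⇑Q)) (hSfix : ∀ g ∈ S, av g u = u) :
    Qv Q u ≤ (S : Subgroup ↥(Cfsg.Omega F ⇑Q)) := by
  have h1 : (S : Subgroup ↥(Cfsg.Omega F ⇑Q)) ≤ Subgroup.normalizer ((Qv Q u : Subgroup _) : Set _) := by
    intro g hg
    apply mem_normalizer_of_conj
    · intro h hh
      exact conj_mem_Qv_of_stab g hu0 hu 1 one_ne_zero (by rw [hSfix g hg, one_smul]) h hh
    · intro h hh
      have := conj_mem_Qv_of_stab g⁻¹ hu0 hu 1 one_ne_zero
        (by rw [fix_inv (hSfix g hg), one_smul]) h hh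
      rwa [inv_inv] at this
  have h2 : IsPGroup p ((S : Subgroup ↥(Cfsg.Omega F ⇑Q)) ⊔ Qv Q u : Subgroup _) :=
    IsPGroup.to_sup_of_normal_right' S.2 (isPGroup_Qv p hu0 hu) h1
  have h3 := S.is_maximal' h2 le_sup_left
  rw [← h3]
  exact le_sup_right

/-- double perpendicular of a point -/
theorem mem_span_of_perp_perp {u x : ι → F} (hu0 : u ≠ 0) (hu : Q u = 0)
    (h : ∀ y, polar (⇑Q) u y = 0 → polar (⇑Q) x y = 0) : ∃ c : F, x = c • u := by
  obtain ⟨f, hf, huf⟩ := exists_partner u hu0 hu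
  refine ⟨polar (⇑Q) x f, ?_⟩
  have h0 : x - polar (⇑Q) x f • u = 0 := by
    apply B_nondeg (Q := Q)
    intro y
    have h1 := h (y - polar (⇑Q) u y • f) (by rw [polar_sub_right, polar_smul_right, huf]; simp)
    rw [polar_sub_right, polar_smul_right] at h1
    rw [polar_sub_left, polar_smul_left]
    simp only [smul_eq_mul] at h1 ⊢
    linear_combination h1
  exact sub_eq_zero.mp h0

/-- double perpendicular of a line -/
theorem mem_span_of_perp_perp2 {p₀ r x : ι → F} (hp0 : p₀ ≠ 0) (hind : ∀ c : F, r ≠ c • p₀)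
    (h : ∀ y, polar (⇑Q) p₀ y = 0 → polar (⇑Q) r y = 0 → polar (⇑Q) x y = 0) :
    ∃ c d : F, x = c • p₀ + d • r := by
  obtain ⟨a, ha1, ha2⟩ := exists_polar_values Q hS.nondeg p₀ r hp0 hind 1 0
  obtain ⟨b, hb1, hb2⟩ := exists_polar_values Q hS.nondeg p₀ r hp0 hind 0 1
  refine ⟨polar (⇑Q) x a, polar (⇑Q) x b, ?_⟩
  have h0 : x - (polar (⇑Q) x a • p₀ + polar (⇑Q) x b • r) = 0 := by
    apply B_nondeg (Q := Q)
    intro y
    have h1 := h (y - polar (⇑Q) p₀ y • a - polar (⇑Q) r y • b)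
      (by rw [polar_sub_right, polar_sub_right, polar_smul_right, polar_smul_right, ha1, hb1]; simp)
      (by rw [polar_sub_right, polar_sub_right, polar_smul_right, polar_smul_right, ha2, hb2]; simp)
    rw [polar_sub_right, polar_sub_right, polar_smul_right, polar_smul_right] at h1
    rw [polar_sub_left, polar_add_left, polar_smul_left, polar_smul_left]
    simp only [smul_eq_mul] at h1 ⊢
    linear_combination h1
  exact sub_eq_zero.mp h0

/-- the fixed vectors of `Q_u` -/
theorem fixed_of_Qv {u x : ι → F} (hu0 : u ≠ 0) (hu : Q u = 0)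
    (h : ∀ g ∈ Qv Q u, av g x = x) : ∃ c : F, x = c • u := by
  have hfin : 5 ≤ Module.finrank F (ι → F) := by
    rw [Module.finrank_fintype_fun_eq_card]; exact five_le Q
  obtain ⟨z, y, hz, hy, hzy, huz, huy⟩ := exists_hyp_pair_perp Q hS.nondeg hfin u hu0 hu
  have key : ∀ w, polar (⇑Q) u w = 0 →
      (polar (⇑Q) w x - Q w * polar (⇑Q) u x) • u + (-(polar (⇑Q) u x)) • w = 0 := by
    intro w hw
    have h1 := h _ (sg_mem_Qv hu hw)
    rw [av_sg hu hw] at h1
    have e : (polar (⇑Q) w x - Q w * polar (⇑Q) u x) • u + (-(polar (⇑Q) u x)) • w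
        = (x + (polar (⇑Q) w x - Q w * polar (⇑Q) u x) • u + (-(polar (⇑Q) u x)) • w) - x := by abel
    rw [e, h1, sub_self]
  have hux : polar (⇑Q) u x = 0 := by
    have h1 := congrArg (fun t => polar (⇑Q) t y) (key z huz)
    simp only [polar_add_left, polar_smul_left, huy, hzy, polar_zero_left, smul_eq_mul, mul_zero,
      zero_add, mul_one] at h1
    linear_combination -h1
  apply mem_span_of_perp_perp hu0 hu
  intro w hw
  have h1 := key w hw
  rw [hux, mul_zero, sub_zero, neg_zero, zero_smul, add_zero] at h1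
  rcases smul_eq_zero.mp h1 with h2 | h2
  · rw [polar_comm]; exact h2
  · exact absurd h2 hu0

/-- an element fixing `u` and commuting with `Q_u` lies in `Q_u` -/
theorem mem_Qv_of_comm {u : ι → F} (hu0 : u ≠ 0) (hu : Q u = 0) (z : ↥(Cfsg.Omega F ⇑Q))
    (hz : av z u = u) (hc : ∀ y, polar (⇑Q) u y = 0 → z * sg Q u y = sg Q u y * z) :
    z ∈ Qv Q u := by
  refine ⟨hz, fun y hy => ?_⟩
  have h1 := conj_sg z hu hy
  rw [hc y hy, mul_inv_cancel_right, hz] at h1
  exact sg_eq_sg hu0 hu hy (by rw [← hz, B_av, hy]) h1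

end std

end Cfsg.Agent.Lib.Helper6.AutOrt
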