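import Mathlib
import Cfsg.Prelude.Def_RootSubgroups
import Cfsg.Agent.S0249
import Cfsg.Agent.H26.SL2RankOne
import Cfsg.Agent.Lib.Helper6.Symp

/-!
# The point–hyperplane transvection subgroups of `SL_n(k)` as abstract root subgroups
-/

set_option autoImplicit false
open Cfsg

namespace Cfsg.Agent.Lib.Helper6.SLRoot

open Matrix Cfsg.Agent.Lib.Helper6 Cfsg.Agent.H26

variable {ι : Type*} [Fintype ι] [DecidableEq ι] {k : Type*} [Field k]

/-- an incident point–hyperplane pair, given by a column vector and a row vector -/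
structure PH (ι : Type*) [Fintype ι] (k : Type*) [Field k] where
  u : ι → k
  φ : ι → k
  inc : φ ⬝ᵥ u = 0

/-- the matrix `1 + c u φᵀ` -/
def tvm (u φ : ι → k) (c : k) : Matrix ι ι k := 1 + c • Matrix.vecMulVec u φ

theorem tvm_mulVec (u φ : ι → k) (c : k) (x : ι → k) :
    tvm u φ c *ᵥ x = x + (c * (φ ⬝ᵥ x)) • u := by
  unfold tvm
  rw [add_mulVec, one_mulVec, smul_mulVec, vecMulVec_mulVec]
  ext i
  simp only [Pi.add_apply, Pi.smul_apply, MulOpposite.smul_eq_mul_unop, MulOpposite.unop_op,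
    smul_eq_mul]
  ring

theorem vecMul_tvm (u φ : ι → k) (c : k) (y : ι → k) :
    y ᵥ* tvm u φ c = y + (c * (y ⬝ᵥ u)) • φ := by
  unfold tvm
  rw [vecMul_add, vecMul_one, vecMul_smul, vecMul_vecMulVec, smul_smul]

theorem det_tvm (u φ : ι → k) (h : φ ⬝ᵥ u = 0) (c : k) : (tvm u φ c).det = 1 := by
  unfold tvm
  have : c • Matrix.vecMulVec u φ = Matrix.replicateCol Unit (c • u) * Matrix.replicateRow Unit φ := by
    ext i j
    simp [Matrix.vecMulVec_apply, Matrix.mul_apply, mul_assoc]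
  rw [this, det_one_add_replicateCol_mul_replicateRow, dotProduct_smul, h, smul_zero, add_zero]

/-- the transvection `1 + c u φᵀ` in `SL` -/
def tv (P : PH ι k) (c : k) : Matrix.SpecialLinearGroup ι k :=
  ⟨tvm P.u P.φ c, det_tvm P.u P.φ P.inc c⟩

theorem tv_apply (P : PH ι k) (c : k) (x : ι → k) :
    (tv P c).1 *ᵥ x = x + (c * (P.φ ⬝ᵥ x)) • P.u := tvm_mulVec _ _ _ _

theorem row_tv (P : PH ι k) (c : k) (y : ι → k) :
    y ᵥ* (tv P c).1 = y + (c * (y ⬝ᵥ P.u)) • P.φ := vecMul_tvm _ _ _ _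

theorem sl_ext {g h : Matrix.SpecialLinearGroup ι k} (hgh : ∀ x : ι → k, g.1 *ᵥ x = h.1 *ᵥ x) :
    g = h := by
  apply Subtype.ext
  exact matrix_ext_mulVec hgh

theorem mul_apply (g h : Matrix.SpecialLinearGroup ι k) (x : ι → k) :
    (g * h).1 *ᵥ x = g.1 *ᵥ (h.1 *ᵥ x) := by
  rw [Matrix.SpecialLinearGroup.coe_mul, mulVec_mulVec]

theorem one_apply (x : ι → k) : (1 : Matrix.SpecialLinearGroup ι k).1 *ᵥ x = x := by
  rw [Matrix.SpecialLinearGroup.coe_one, one_mulVec]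

theorem inv_apply (g : Matrix.SpecialLinearGroup ι k) (x : ι → k) :
    g.1 *ᵥ ((g⁻¹).1 *ᵥ x) = x := by
  rw [← mul_apply, mul_inv_cancel, one_apply]

theorem inv_apply' (g : Matrix.SpecialLinearGroup ι k) (x : ι → k) :
    (g⁻¹).1 *ᵥ (g.1 *ᵥ x) = x := by
  rw [← mul_apply, inv_mul_cancel, one_apply]

theorem row_mul (g h : Matrix.SpecialLinearGroup ι k) (y : ι → k) :
    y ᵥ* (g * h).1 = (y ᵥ* g.1) ᵥ* h.1 := by
  rw [Matrix.SpecialLinearGroup.coe_mul, vecMul_vecMul]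

theorem row_one (y : ι → k) : y ᵥ* (1 : Matrix.SpecialLinearGroup ι k).1 = y := by
  rw [Matrix.SpecialLinearGroup.coe_one, vecMul_one]

theorem row_inv (g : Matrix.SpecialLinearGroup ι k) (y : ι → k) :
    (y ᵥ* g.1) ᵥ* (g⁻¹).1 = y := by
  rw [← row_mul, mul_inv_cancel, row_one]

theorem row_inv' (g : Matrix.SpecialLinearGroup ι k) (y : ι → k) :
    (y ᵥ* (g⁻¹).1) ᵥ* g.1 = y := by
  rw [← row_mul, inv_mul_cancel, row_one]

theorem tv_mul (P : PH ι k) (c d : k) : tv P c * tv P d = tv P (c + d) := by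
  apply sl_ext
  intro x
  rw [mul_apply, tv_apply, tv_apply, tv_apply, dotProduct_add, dotProduct_smul, P.inc]
  simp only [smul_zero, add_zero]
  module

theorem tv_zero (P : PH ι k) : tv P 0 = 1 := by
  apply sl_ext
  intro x
  rw [tv_apply, one_apply, zero_mul, zero_smul, add_zero]

theorem tv_inv (P : PH ι k) (c : k) : (tv P c)⁻¹ = tv P (-c) := by
  apply inv_eq_of_mul_eq_one_left
  rw [tv_mul, neg_add_cancel, tv_zero]

/-- the transvection subgroup of a point–hyperplane pair -/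
def Tg (P : PH ι k) : Subgroup (Matrix.SpecialLinearGroup ι k) where
  carrier := {g | ∃ c : k, g = tv P c}
  mul_mem' := by
    rintro _ _ ⟨c, rfl⟩ ⟨d, rfl⟩
    exact ⟨c + d, tv_mul P c d⟩
  one_mem' := ⟨0, (tv_zero P).symm⟩
  inv_mem' := by
    rintro _ ⟨c, rfl⟩
    exact ⟨-c, tv_inv P c⟩

theorem mem_Tg_iff (P : PH ι k) (g : Matrix.SpecialLinearGroup ι k) :
    g ∈ Tg P ↔ ∃ c : k, g = tv P c := Iff.rfl

theorem tv_mem (P : PH ι k) (c : k) : tv P c ∈ Tg P := ⟨c, rfl⟩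

theorem exists_dot_ne_zero (φ : ι → k) (hφ : φ ≠ 0) : ∃ i : ι, φ ⬝ᵥ Pi.single i 1 ≠ 0 := by
  by_contra h
  push Not at h
  apply hφ
  funext i
  have := h i
  rwa [dotProduct_single, mul_one] at this

theorem exists_ne_zero (u : ι → k) (hu : u ≠ 0) : ∃ i : ι, u i ≠ 0 := by
  by_contra h
  push Not at h
  exact hu (funext h)

theorem tv_eq_one_iff (P : PH ι k) (hu : P.u ≠ 0) (hφ : P.φ ≠ 0) (c : k) : tv P c = 1 ↔ c = 0 := by
  constructor
  · intro h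
    obtain ⟨i, hi⟩ := exists_dot_ne_zero P.φ hφ
    have h1 : (tv P c).1 *ᵥ Pi.single i 1 = (1 : Matrix.SpecialLinearGroup ι k).1 *ᵥ Pi.single i 1 := by
      rw [h]
    rw [tv_apply, one_apply] at h1
    have h2 : (c * (P.φ ⬝ᵥ Pi.single i 1)) • P.u = 0 := by
      have := congrArg (fun y => y - Pi.single i 1) h1
      simpa using this
    rcases smul_eq_zero.mp h2 with h3 | h3
    · rcases mul_eq_zero.mp h3 with h4 | h4
      · exact h4
      · exact absurd h4 hi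
    · exact absurd h3 hu
  · rintro rfl
    exact tv_zero P

theorem Tg_comm (P : PH ι k) : IsMulCommutative (Tg P) := by
  refine ⟨⟨fun a b => ?_⟩⟩
  apply Subtype.ext
  obtain ⟨c, hc⟩ := a.2
  obtain ⟨d, hd⟩ := b.2
  change (a : Matrix.SpecialLinearGroup ι k) * b = b * a
  rw [hc, hd, tv_mul, tv_mul, add_comm]

theorem Tg_ne_bot (P : PH ι k) (hu : P.u ≠ 0) (hφ : P.φ ≠ 0) : Tg P ≠ ⊥ := by
  intro h
  have h1 : tv P 1 ∈ Tg P := tv_mem P 1
  rw [h, Subgroup.mem_bot, tv_eq_one_iff P hu hφ] at h1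
  exact one_ne_zero h1

/-- the conjugate pair -/
def conjP (g : Matrix.SpecialLinearGroup ι k) (P : PH ι k) : PH ι k where
  u := g.1 *ᵥ P.u
  φ := P.φ ᵥ* (g⁻¹).1
  inc := by
    rw [← dotProduct_mulVec, inv_apply', P.inc]

theorem conj_tv (g : Matrix.SpecialLinearGroup ι k) (P : PH ι k) (c : k) :
    g * tv P c * g⁻¹ = tv (conjP g P) c := by
  apply sl_ext
  intro x
  rw [mul_apply, mul_apply, tv_apply, tv_apply, Matrix.mulVec_add, inv_apply, Matrix.mulVec_smul]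
  congr 3
  change _ = (P.φ ᵥ* (g⁻¹).1) ⬝ᵥ x
  rw [dotProduct_mulVec]

theorem conjBy_Tg (g : Matrix.SpecialLinearGroup ι k) (P : PH ι k) :
    conjBy (Tg P) g = Tg (conjP g P) := by
  ext x
  rw [mem_conjBy, mem_Tg_iff, mem_Tg_iff]
  constructor
  · rintro ⟨c, hc⟩
    refine ⟨c, ?_⟩
    rw [← conj_tv, ← hc]
    group
  · rintro ⟨c, rfl⟩
    refine ⟨c, ?_⟩
    rw [← conj_tv]
    group

theorem conjP_u_ne (g : Matrix.SpecialLinearGroup ι k) (P : PH ι k) (hu : P.u ≠ 0) :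
    (conjP g P).u ≠ 0 := by
  intro h
  apply hu
  change g.1 *ᵥ P.u = 0 at h
  rw [← inv_apply' g P.u, h, Matrix.mulVec_zero]

theorem conjP_φ_ne (g : Matrix.SpecialLinearGroup ι k) (P : PH ι k) (hφ : P.φ ≠ 0) :
    (conjP g P).φ ≠ 0 := by
  intro h
  apply hφ
  change P.φ ᵥ* (g⁻¹).1 = 0 at h
  rw [← row_inv' g P.φ, h, Matrix.zero_vecMul]

/-- scaling the vectors does not change the subgroup -/
theorem Tg_eq_of_smul (P Q : PH ι k) (a b : k) (ha : a ≠ 0) (hb : b ≠ 0) (hu : Q.u = a • P.u)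
    (hφ : Q.φ = b • P.φ) : Tg Q = Tg P := by
  have key : ∀ c, tv Q c = tv P (a * b * c) := by
    intro c
    apply sl_ext
    intro x
    rw [tv_apply, tv_apply, hu, hφ, smul_dotProduct, smul_smul, smul_eq_mul]
    congr 2
    ring
  ext x
  rw [mem_Tg_iff, mem_Tg_iff]
  constructor
  · rintro ⟨c, rfl⟩
    exact ⟨_, key c⟩
  · rintro ⟨c, rfl⟩
    refine ⟨c / (a * b), ?_⟩
    rw [key]
    congr 1
    field_simp


/-! ### Pairs of transvection subgroups -/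

theorem tv_comm (P Q : PH ι k) (h1 : Q.φ ⬝ᵥ P.u = 0) (h2 : P.φ ⬝ᵥ Q.u = 0) (c d : k) :
    tv P c * tv Q d = tv Q d * tv P c := by
  apply sl_ext
  intro x
  rw [mul_apply, mul_apply, tv_apply, tv_apply, tv_apply, tv_apply, dotProduct_add,
    dotProduct_add, dotProduct_smul, dotProduct_smul, h1, h2]
  simp only [smul_zero, add_zero]
  abel

theorem commutator_eq_bot (P Q : PH ι k) (h1 : Q.φ ⬝ᵥ P.u = 0) (h2 : P.φ ⬝ᵥ Q.u = 0) :
    ⁅Tg P, Tg Q⁆ = ⊥ := by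
  rw [Subgroup.commutator_eq_bot_iff_le_centralizer]
  intro x hx
  rw [Subgroup.mem_centralizer_iff]
  intro y hy
  obtain ⟨c, rfl⟩ := hx
  obtain ⟨d, rfl⟩ := hy
  exact (tv_comm P Q h1 h2 c d).symm

theorem Tg_ne (P Q : PH ι k) (hu : P.u ≠ 0) (hφ : P.φ ≠ 0) (hv : Q.u ≠ 0)
    (h1 : Q.φ ⬝ᵥ P.u ≠ 0) : Tg P ≠ Tg Q := by
  intro heq
  have h3 : tv P 1 ∈ Tg Q := heq ▸ tv_mem P 1
  obtain ⟨d, hd⟩ := h3
  have h4 : (tv P 1).1 *ᵥ P.u = (tv Q d).1 *ᵥ P.u := by rw [hd]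
  rw [tv_apply, tv_apply, P.inc, mul_zero, zero_smul, add_zero] at h4
  have h5 : (d * (Q.φ ⬝ᵥ P.u)) • Q.u = 0 := by
    have := congrArg (fun y => y - P.u) h4
    simpa using this.symm
  rcases smul_eq_zero.mp h5 with h6 | h6
  · rcases mul_eq_zero.mp h6 with h7 | h7
    · rw [h7, tv_zero] at hd
      exact one_ne_zero ((tv_eq_one_iff P hu hφ 1).mp hd)
    · exact h1 h7
  · exact hv h6

theorem rankOneCond (P Q : PH ι k) (hu : P.u ≠ 0) (hφ : P.φ ≠ 0) (hv : Q.u ≠ 0) (hψ : Q.φ ≠ 0)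
    (h1 : Q.φ ⬝ᵥ P.u ≠ 0) (h2 : P.φ ⬝ᵥ Q.u ≠ 0) : RankOneCondition (Tg P) (Tg Q) := by
  intro a ha ha1
  obtain ⟨c, rfl⟩ := ha
  have hc : c ≠ 0 := fun hc => ha1 ((tv_eq_one_iff P hu hφ c).mpr hc)
  set α := Q.φ ⬝ᵥ P.u with hα
  set β := P.φ ⬝ᵥ Q.u with hβ
  have hd : (c * α * β)⁻¹ ≠ 0 := inv_ne_zero (mul_ne_zero (mul_ne_zero hc h1) h2)
  refine ⟨tv Q (c * α * β)⁻¹, tv_mem _ _, ?_, ?_⟩
  · intro h
    exact hd ((tv_eq_one_iff Q hv hψ _).mp h)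
  · rw [conjBy_Tg, conjBy_Tg]
    apply Tg_eq_of_smul _ _ (-(c * β))⁻¹ (c * α)⁻¹ (inv_ne_zero (neg_ne_zero.mpr (mul_ne_zero hc h2)))
      (inv_ne_zero (mul_ne_zero hc h1))
    · change ((tv Q (c * α * β)⁻¹)⁻¹).1 *ᵥ P.u = (-(c * β))⁻¹ • (((tv P c)⁻¹).1 *ᵥ Q.u)
      rw [tv_inv, tv_inv, tv_apply, tv_apply, ← hα, ← hβ, smul_add, smul_smul]
      rw [show (-(c * β))⁻¹ * (-c * β) = 1 by field_simp, one_smul, add_comm]
      congr 2
      field_simp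
    · change P.φ ᵥ* ((tv Q (c * α * β)⁻¹)⁻¹⁻¹).1 = (c * α)⁻¹ • (Q.φ ᵥ* ((tv P c)⁻¹⁻¹).1)
      rw [inv_inv, inv_inv, row_tv, row_tv, ← hα, ← hβ, smul_add, smul_smul]
      rw [show (c * α)⁻¹ * (c * α) = 1 by field_simp, one_smul, add_comm]
      congr 2
      field_simp

theorem rankOnePair (P Q : PH ι k) (hu : P.u ≠ 0) (hφ : P.φ ≠ 0) (hv : Q.u ≠ 0) (hψ : Q.φ ≠ 0)
    (h1 : Q.φ ⬝ᵥ P.u ≠ 0) (h2 : P.φ ⬝ᵥ Q.u ≠ 0) : IsRankOnePair (Tg P) (Tg Q) := by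
  refine ⟨Tg_ne P Q hu hφ hv h1, ?_, ?_, rankOneCond P Q hu hφ hv hψ h1 h2,
    rankOneCond Q P hv hψ hu hφ h2 h1⟩
  · exact ⟨⟨1, Subgroup.upperCentralSeries_one_eq_top_iff.mpr (Tg_comm P)⟩⟩
  · exact ⟨⟨1, Subgroup.upperCentralSeries_one_eq_top_iff.mpr (Tg_comm Q)⟩⟩

/-- the commutator formula -/
theorem tv_commutator (P Q R : PH ι k) (h1 : Q.φ ⬝ᵥ P.u = 0) (hRu : R.u = P.u) (hRφ : R.φ = Q.φ)
    (c d : k) : tv P c * tv Q d * (tv P c)⁻¹ * (tv Q d)⁻¹ = tv R (c * d * (P.φ ⬝ᵥ Q.u)) := by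
  rw [tv_inv, tv_inv]
  apply sl_ext
  intro x
  rw [mul_apply, mul_apply, mul_apply, tv_apply, tv_apply, tv_apply, tv_apply, tv_apply, hRu, hRφ]
  simp only [dotProduct_add, dotProduct_smul, h1, P.inc, Q.inc, smul_eq_mul, mul_zero, add_zero]
  module

theorem commutator_eq_Tg (P Q R : PH ι k) (h1 : Q.φ ⬝ᵥ P.u = 0) (h2 : P.φ ⬝ᵥ Q.u ≠ 0)
    (hRu : R.u = P.u) (hRφ : R.φ = Q.φ) : ⁅Tg P, Tg Q⁆ = Tg R := by
  apply le_antisymm
  · rw [Subgroup.commutator_le]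
    rintro _ ⟨c, rfl⟩ _ ⟨d, rfl⟩
    rw [commutatorElement_def, tv_commutator P Q R h1 hRu hRφ]
    exact tv_mem _ _
  · rintro _ ⟨e, rfl⟩
    have h3 := Subgroup.commutator_mem_commutator (tv_mem P (e / (P.φ ⬝ᵥ Q.u))) (tv_mem Q 1)
    rw [commutatorElement_def, tv_commutator P Q R h1 hRu hRφ] at h3
    convert h3 using 2
    field_simp


theorem rootCommCase (S : Set (Subgroup (Matrix.SpecialLinearGroup ι k))) (P Q R : PH ι k)
    (hu : P.u ≠ 0) (hφ : P.φ ≠ 0) (hv : Q.u ≠ 0) (hψ : Q.φ ≠ 0)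
    (h1 : Q.φ ⬝ᵥ P.u = 0) (h2 : P.φ ⬝ᵥ Q.u ≠ 0)
    (hRu : R.u = P.u) (hRφ : R.φ = Q.φ) (hR : Tg R ∈ S) :
    RootCommutatorCase S (Tg P) (Tg Q) := by
  have hcomm := commutator_eq_Tg P Q R h1 h2 hRu hRφ
  refine ⟨hcomm ▸ hR, ?_, ?_, ?_⟩
  · rw [hcomm]
    rintro _ ⟨e, rfl⟩ x hx
    have hle : Tg P ⊔ Tg Q ≤ Subgroup.centralizer {tv R e} := by
      rw [sup_le_iff]
      constructor
      · rintro _ ⟨c, rfl⟩
        rw [Subgroup.mem_centralizer_iff]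
        intro y hy
        rw [Set.mem_singleton_iff.mp hy]
        apply tv_comm
        · rw [hRu]; exact P.inc
        · rw [hRφ]; exact h1
      · rintro _ ⟨d, rfl⟩
        rw [Subgroup.mem_centralizer_iff]
        intro y hy
        rw [Set.mem_singleton_iff.mp hy]
        apply tv_comm
        · rw [hRu]; exact h1
        · rw [hRφ]; exact Q.inc
    have := hle hx
    rw [Subgroup.mem_centralizer_iff] at this
    exact this _ rfl
  · rintro _ ⟨c, rfl⟩ hc1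
    have hc : c ≠ 0 := fun hc => hc1 ((tv_eq_one_iff P hu hφ c).mpr hc)
    rw [hcomm]
    have hset : (fun b => tv P c * b * (tv P c)⁻¹ * b⁻¹) '' (Tg Q : Set (Matrix.SpecialLinearGroup ι k))
        = (Tg R : Set (Matrix.SpecialLinearGroup ι k)) := by
      ext x
      constructor
      · rintro ⟨_, ⟨d, rfl⟩, rfl⟩
        change tv P c * tv Q d * (tv P c)⁻¹ * (tv Q d)⁻¹ ∈ Tg R
        rw [tv_commutator P Q R h1 hRu hRφ]
        exact tv_mem _ _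
      · rintro ⟨e, rfl⟩
        refine ⟨tv Q (e / (c * (P.φ ⬝ᵥ Q.u))), tv_mem _ _, ?_⟩
        change tv P c * tv Q _ * (tv P c)⁻¹ * (tv Q _)⁻¹ = _
        rw [tv_commutator P Q R h1 hRu hRφ]
        congr 1
        field_simp
    rw [hset, Subgroup.closure_eq]
  · rintro _ ⟨d, rfl⟩ hd1
    have hd : d ≠ 0 := fun hd => hd1 ((tv_eq_one_iff Q hv hψ d).mpr hd)
    rw [hcomm]
    have hset : (fun a => a * tv Q d * a⁻¹ * (tv Q d)⁻¹) '' (Tg P : Set (Matrix.SpecialLinearGroup ι k))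
        = (Tg R : Set (Matrix.SpecialLinearGroup ι k)) := by
      ext x
      constructor
      · rintro ⟨_, ⟨c, rfl⟩, rfl⟩
        change tv P c * tv Q d * (tv P c)⁻¹ * (tv Q d)⁻¹ ∈ Tg R
        rw [tv_commutator P Q R h1 hRu hRφ]
        exact tv_mem _ _
      · rintro ⟨e, rfl⟩
        refine ⟨tv P (e / (d * (P.φ ⬝ᵥ Q.u))), tv_mem _ _, ?_⟩
        change tv P _ * tv Q d * (tv P _)⁻¹ * (tv Q d)⁻¹ = _
        rw [tv_commutator P Q R h1 hRu hRφ]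
        congr 1
        field_simp
    rw [hset, Subgroup.closure_eq]


theorem rootCommCase_symm {G : Type*} [Group G] (S : Set (Subgroup G)) (A B : Subgroup G)
    (h : RootCommutatorCase S A B) : RootCommutatorCase S B A := by
  obtain ⟨h1, h2, h3, h4⟩ := h
  have hc : ⁅B, A⁆ = ⁅A, B⁆ := Subgroup.commutator_comm B A
  refine ⟨hc ▸ h1, ?_, ?_, ?_⟩
  · rw [hc, sup_comm]
    exact h2
  · intro b hb hb1
    rw [hc, ← h4 b hb hb1]
    have : (fun a => b * a * b⁻¹ * a⁻¹) '' (A : Set G) =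
        ((fun a => a * b * a⁻¹ * b⁻¹) '' (A : Set G))⁻¹ := by
      ext x
      rw [Set.mem_inv]
      constructor
      · rintro ⟨a, ha, rfl⟩
        exact ⟨a, ha, by group⟩
      · rintro ⟨a, ha, hx⟩
        refine ⟨a, ha, ?_⟩
        rw [← inv_inv x, ← hx]
        group
    rw [this, Subgroup.closure_inv]
  · intro a ha ha1
    rw [hc, ← h3 a ha ha1]
    have : (fun b => b * a * b⁻¹ * a⁻¹) '' (B : Set G) =
        ((fun b => a * b * a⁻¹ * b⁻¹) '' (B : Set G))⁻¹ := by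
      ext x
      rw [Set.mem_inv]
      constructor
      · rintro ⟨b, hb, rfl⟩
        exact ⟨b, hb, by group⟩
      · rintro ⟨b, hb, hx⟩
        refine ⟨b, hb, ?_⟩
        rw [← inv_inv x, ← hx]
        group
    rw [this, Subgroup.closure_inv]

/-! ### Moving the point and the hyperplane -/

theorem exists_dual_pair (u v : ι → k) (i j : ι) (hD : u i * v j - u j * v i ≠ 0) :
    ∃ χ' χ'' : ι → k, χ' ⬝ᵥ v = 1 ∧ χ' ⬝ᵥ u = 0 ∧ χ'' ⬝ᵥ u = -1 ∧ χ'' ⬝ᵥ v = 0 := by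
  refine ⟨(u i * v j - u j * v i)⁻¹ • (u i • Pi.single j 1 - u j • Pi.single i 1),
    (u i * v j - u j * v i)⁻¹ • (v i • Pi.single j 1 - v j • Pi.single i 1), ?_, ?_, ?_, ?_⟩
  · simp only [smul_dotProduct, sub_dotProduct, single_dotProduct, smul_eq_mul, one_mul]
    field_simp
  · simp only [smul_dotProduct, sub_dotProduct, single_dotProduct, smul_eq_mul, one_mul]
    field_simp
    ring
  · simp only [smul_dotProduct, sub_dotProduct, single_dotProduct, smul_eq_mul, one_mul]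
    field_simp
    ring
  · simp only [smul_dotProduct, sub_dotProduct, single_dotProduct, smul_eq_mul, one_mul]
    field_simp
    ring

omit [Fintype ι] [DecidableEq ι] in
theorem dep_or_indep (u v : ι → k) (hv : v ≠ 0) :
    (∃ a : k, u = a • v) ∨ ∃ i j, u i * v j - u j * v i ≠ 0 := by
  by_cases h : ∃ i j, u i * v j - u j * v i ≠ 0
  · exact Or.inr h
  · left
    push Not at h
    obtain ⟨j, hj⟩ : ∃ j, v j ≠ 0 := by
      by_contra h'
      push Not at h'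
      exact hv (funext h')
    refine ⟨u j / v j, ?_⟩
    funext i
    have := h i j
    rw [Pi.smul_apply, smul_eq_mul]
    field_simp
    linear_combination this

theorem point_move (Q R : PH ι k) (hRφ : R.φ = Q.φ) (hRu : R.u ≠ 0) (hQu : Q.u ≠ 0) :
    ∃ g : Matrix.SpecialLinearGroup ι k, Tg R = conjBy (Tg Q) g := by
  rcases dep_or_indep R.u Q.u hQu with ⟨a, ha⟩ | ⟨i, j, hD⟩
  · have ha0 : a ≠ 0 := by
      rintro rfl
      exact hRu (by rw [ha, zero_smul])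
    refine ⟨1, ?_⟩
    rw [conjBy_one]
    exact Tg_eq_of_smul Q R a 1 ha0 one_ne_zero ha (by rw [hRφ, one_smul])
  · obtain ⟨χ', χ'', h1, h2, h3, h4⟩ := exists_dual_pair R.u Q.u i j hD
    let F1 : PH ι k := ⟨Q.u, χ'', h4⟩
    let F2 : PH ι k := ⟨R.u, χ', h2⟩
    refine ⟨tv F1 1 * tv F2 1 * tv F1 1, ?_⟩
    rw [conjBy_Tg]
    have e1 : (tv F1 1).1 *ᵥ Q.u = Q.u := by
      rw [tv_apply]
      change Q.u + (1 * (χ'' ⬝ᵥ Q.u)) • Q.u = Q.u
      rw [h4, mul_zero, zero_smul, add_zero]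
    have e2 : (tv F2 1).1 *ᵥ Q.u = Q.u + R.u := by
      rw [tv_apply]
      change Q.u + (1 * (χ' ⬝ᵥ Q.u)) • R.u = _
      rw [h1, mul_one, one_smul]
    have e3 : (tv F1 1).1 *ᵥ (Q.u + R.u) = R.u := by
      rw [tv_apply]
      change Q.u + R.u + (1 * (χ'' ⬝ᵥ (Q.u + R.u))) • Q.u = R.u
      rw [dotProduct_add, h4, h3]
      module
    have hu : (tv F1 1 * tv F2 1 * tv F1 1).1 *ᵥ Q.u = R.u := by
      rw [mul_apply, mul_apply, e1, e2, e3]
    have r1 : Q.φ ᵥ* (tv F1 1).1 = Q.φ := by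
      rw [row_tv]
      change Q.φ + (1 * (Q.φ ⬝ᵥ Q.u)) • χ'' = Q.φ
      rw [Q.inc, mul_zero, zero_smul, add_zero]
    have r2 : Q.φ ᵥ* (tv F2 1).1 = Q.φ := by
      rw [row_tv]
      change Q.φ + (1 * (Q.φ ⬝ᵥ R.u)) • χ' = Q.φ
      rw [← hRφ, R.inc, mul_zero, zero_smul, add_zero]
    have hrow : Q.φ ᵥ* (tv F1 1 * tv F2 1 * tv F1 1).1 = Q.φ := by
      rw [row_mul, row_mul, r1, r2, r1]
    apply Tg_eq_of_smul _ _ 1 1 one_ne_zero one_ne_zero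
    · rw [one_smul]
      exact hu.symm
    · rw [one_smul, hRφ]
      change Q.φ = Q.φ ᵥ* ((tv F1 1 * tv F2 1 * tv F1 1)⁻¹).1
      conv_rhs => rw [← hrow]
      rw [row_inv]

theorem hyp_move (Q R : PH ι k) (hRu : R.u = Q.u) (hRφ : R.φ ≠ 0) (hQφ : Q.φ ≠ 0) :
    ∃ g : Matrix.SpecialLinearGroup ι k, Tg R = conjBy (Tg Q) g := by
  rcases dep_or_indep R.φ Q.φ hQφ with ⟨a, ha⟩ | ⟨i, j, hD⟩
  · have ha0 : a ≠ 0 := by
      rintro rfl
      exact hRφ (by rw [ha, zero_smul])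
    refine ⟨1, ?_⟩
    rw [conjBy_one]
    exact Tg_eq_of_smul Q R 1 a one_ne_zero ha0 (by rw [hRu, one_smul]) ha
  · obtain ⟨w', w'', h1, h2, h3, h4⟩ := exists_dual_pair R.φ Q.φ i j hD
    rw [dotProduct_comm] at h1 h2 h3 h4
    let G1 : PH ι k := ⟨w'', Q.φ, h4⟩
    let G2 : PH ι k := ⟨w', R.φ, h2⟩
    refine ⟨(tv G1 1 * tv G2 1 * tv G1 1)⁻¹, ?_⟩
    rw [conjBy_Tg]
    have s1 : Q.φ ᵥ* (tv G1 1).1 = Q.φ := by
      rw [row_tv]
      change Q.φ + (1 * (Q.φ ⬝ᵥ w'')) • Q.φ = Q.φ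
      rw [h4, mul_zero, zero_smul, add_zero]
    have s2 : Q.φ ᵥ* (tv G2 1).1 = Q.φ + R.φ := by
      rw [row_tv]
      change Q.φ + (1 * (Q.φ ⬝ᵥ w')) • R.φ = _
      rw [h1, mul_one, one_smul]
    have s3 : (Q.φ + R.φ) ᵥ* (tv G1 1).1 = R.φ := by
      rw [row_tv]
      change Q.φ + R.φ + (1 * ((Q.φ + R.φ) ⬝ᵥ w'')) • Q.φ = R.φ
      rw [add_dotProduct, h4, h3]
      module
    have hrow : Q.φ ᵥ* (tv G1 1 * tv G2 1 * tv G1 1).1 = R.φ := by
      rw [row_mul, row_mul, s1, s2, s3]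
    have c1 : (tv G1 1).1 *ᵥ Q.u = Q.u := by
      rw [tv_apply]
      change Q.u + (1 * (Q.φ ⬝ᵥ Q.u)) • w'' = Q.u
      rw [Q.inc, mul_zero, zero_smul, add_zero]
    have c2 : (tv G2 1).1 *ᵥ Q.u = Q.u := by
      rw [tv_apply]
      change Q.u + (1 * (R.φ ⬝ᵥ Q.u)) • w' = Q.u
      rw [← hRu, R.inc, mul_zero, zero_smul, add_zero]
    have hu : (tv G1 1 * tv G2 1 * tv G1 1).1 *ᵥ Q.u = Q.u := by
      rw [mul_apply, mul_apply, c1, c2, c1]
    apply Tg_eq_of_smul _ _ 1 1 one_ne_zero one_ne_zero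
    · rw [one_smul, hRu]
      change Q.u = ((tv G1 1 * tv G2 1 * tv G1 1)⁻¹).1 *ᵥ Q.u
      conv_rhs => rw [← hu]
      rw [inv_apply']
    · rw [one_smul]
      change R.φ = Q.φ ᵥ* ((tv G1 1 * tv G2 1 * tv G1 1)⁻¹⁻¹).1
      rw [inv_inv, hrow]

end Cfsg.Agent.Lib.Helper6.SLRoot
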