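import Mathlib
import Cfsg.Agent.Lib.Helper6.SLRoot

/-!
# The class of point–hyperplane transvection subgroups of `SL_{n+3}(k)`
-/

set_option autoImplicit false
open Cfsg

namespace Cfsg.Agent.Lib.Helper6.SLRoot

open Matrix Cfsg.Agent.Lib.Helper6 Cfsg.Agent.H26

variable {n : ℕ} {k : Type*} [Field k]

theorem ne01 (n : ℕ) : (0 : Fin (n + 3)) ≠ 1 := by
  intro h
  have := congrArg Fin.val h
  simp at this

theorem ne02 (n : ℕ) : (0 : Fin (n + 3)) ≠ 2 := by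
  intro h
  have := congrArg Fin.val h
  rw [Fin.val_zero, Fin.val_two] at this
  omega

theorem ne12 (n : ℕ) : (1 : Fin (n + 3)) ≠ 2 := by
  intro h
  have := congrArg Fin.val h
  rw [Fin.val_one, Fin.val_two] at this
  omega

/-- the standard pair `(e_i, e_jᵀ)` -/
def Pij {ι : Type*} [Fintype ι] [DecidableEq ι] (k : Type*) [Field k] (i j : ι) (hij : i ≠ j) :
    PH ι k where
  u := Pi.single i 1
  φ := Pi.single j 1
  inc := by
    rw [dotProduct_single, mul_one, Pi.single_apply, if_neg hij]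

theorem transvection_eq_tv {ι : Type*} [Fintype ι] [DecidableEq ι] (i j : ι) (hij : i ≠ j)
    (c : k) : Matrix.transvection i j c = (tv (Pij k i j hij) c).1 := by
  change _ = tvm (Pi.single i 1) (Pi.single j 1) c
  unfold tvm Matrix.transvection
  congr 1
  ext a b
  simp only [Matrix.smul_apply, Matrix.vecMulVec_apply, Matrix.single_apply, Pi.single_apply,
    smul_eq_mul]
  by_cases h1 : a = i
  · by_cases h2 : b = j
    · simp [h1, h2]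
    · simp [h1, h2, Ne.symm h2]
  · by_cases h2 : b = j
    · simp [h1, h2, Ne.symm h1]
    · simp [h1, h2, Ne.symm h1]

/-- the root subgroup `X₀₁` as in the statement -/
def X0 (n : ℕ) (k : Type*) [Field k] : Subgroup (Matrix.SpecialLinearGroup (Fin (n + 3)) k) :=
  Subgroup.closure {t : Matrix.SpecialLinearGroup (Fin (n + 3)) k |
    ∃ c : k, (t : Matrix (Fin (n + 3)) (Fin (n + 3)) k) = Matrix.transvection 0 1 c}

theorem X0_eq : X0 n k = Tg (Pij k (0 : Fin (n + 3)) 1 (ne01 n)) := by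
  unfold X0
  apply le_antisymm
  · rw [Subgroup.closure_le]
    rintro t ⟨c, hc⟩
    refine ⟨c, Subtype.ext ?_⟩
    rw [hc, transvection_eq_tv]
  · rintro _ ⟨c, rfl⟩
    apply Subgroup.subset_closure
    exact ⟨c, (transvection_eq_tv _ _ _ c).symm⟩

/-- the class of conjugates of `X₀₁` -/
def Sg (n : ℕ) (k : Type*) [Field k] : Set (Subgroup (Matrix.SpecialLinearGroup (Fin (n + 3)) k)) :=
  {A | ∃ g : Matrix.SpecialLinearGroup (Fin (n + 3)) k, A = conjBy (X0 n k) g}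

theorem Pij_u_ne {ι : Type*} [Fintype ι] [DecidableEq ι] (i j : ι) (hij : i ≠ j) :
    (Pij k i j hij).u ≠ 0 := by
  intro h
  have := congrFun h i
  simp [Pij] at this

theorem Pij_φ_ne {ι : Type*} [Fintype ι] [DecidableEq ι] (i j : ι) (hij : i ≠ j) :
    (Pij k i j hij).φ ≠ 0 := by
  intro h
  have := congrFun h j
  simp [Pij] at this

theorem X0_mem_Sg : X0 n k ∈ Sg n k := ⟨1, (conjBy_one _).symm⟩

theorem Sg_conj (A : Subgroup (Matrix.SpecialLinearGroup (Fin (n + 3)) k)) (hA : A ∈ Sg n k)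
    (h : Matrix.SpecialLinearGroup (Fin (n + 3)) k) : conjBy A h ∈ Sg n k := by
  obtain ⟨g, rfl⟩ := hA
  exact ⟨h * g, conjBy_conjBy _ _ _⟩

theorem exists_flag (A : Subgroup (Matrix.SpecialLinearGroup (Fin (n + 3)) k)) (hA : A ∈ Sg n k) :
    ∃ P : PH (Fin (n + 3)) k, P.u ≠ 0 ∧ P.φ ≠ 0 ∧ A = Tg P := by
  obtain ⟨g, rfl⟩ := hA
  refine ⟨conjP g (Pij k 0 1 (ne01 n)), conjP_u_ne _ _ (Pij_u_ne _ _ _),
    conjP_φ_ne _ _ (Pij_φ_ne _ _ _), ?_⟩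
  rw [X0_eq, conjBy_Tg]

theorem mem_Sg_of_move (Q R : PH (Fin (n + 3)) k) (hQ : Tg Q ∈ Sg n k)
    (h : ∃ g : Matrix.SpecialLinearGroup (Fin (n + 3)) k, Tg R = conjBy (Tg Q) g) :
    Tg R ∈ Sg n k := by
  obtain ⟨g, hg⟩ := h
  rw [hg]
  exact Sg_conj _ hQ g

theorem exists_aux_form (u : Fin (n + 3) → k) :
    ∃ φ' : Fin (n + 3) → k, φ' ≠ 0 ∧ φ' ⬝ᵥ Pi.single 0 1 = 0 ∧ φ' ⬝ᵥ u = 0 := by
  by_cases h : u 1 = 0 ∧ u 2 = 0
  · refine ⟨Pi.single 1 1, ?_, ?_, ?_⟩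
    · intro h'
      have := congrFun h' 1
      simp at this
    · rw [dotProduct_single, mul_one, Pi.single_apply, if_neg (ne01 n)]
    · rw [single_dotProduct, one_mul, h.1]
  · refine ⟨u 2 • Pi.single 1 1 - u 1 • Pi.single 2 1, ?_, ?_, ?_⟩
    · intro h'
      apply h
      have h1 := congrFun h' 1
      have h2 := congrFun h' 2
      simp only [Pi.sub_apply, Pi.smul_apply, Pi.single_apply, smul_eq_mul, Pi.zero_apply] at h1 h2
      constructor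
      · have := ne12 n
        simpa [this, this.symm] using h2
      · have := ne12 n
        simpa [this, this.symm] using h1
    · rw [dotProduct_single, mul_one]
      simp only [Pi.sub_apply, Pi.smul_apply, Pi.single_apply, smul_eq_mul]
      have h1 := ne01 n
      have h2 := ne02 n
      simp [h1, h2]
    · simp only [sub_dotProduct, smul_dotProduct, single_dotProduct, smul_eq_mul, one_mul]
      ring

/-- every incident point–hyperplane pair gives a member of the class -/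
theorem Tg_mem_Sg (P : PH (Fin (n + 3)) k) (hu : P.u ≠ 0) (hφ : P.φ ≠ 0) : Tg P ∈ Sg n k := by
  obtain ⟨φ', hφ', h0, h1⟩ := exists_aux_form P.u
  have hP0 : Tg (Pij k (0 : Fin (n + 3)) 1 (ne01 n)) ∈ Sg n k := by
    rw [← X0_eq]
    exact X0_mem_Sg
  let F1 : PH (Fin (n + 3)) k := ⟨Pi.single 0 1, φ', h0⟩
  let F2 : PH (Fin (n + 3)) k := ⟨P.u, φ', h1⟩
  have hF1 : Tg F1 ∈ Sg n k :=
    mem_Sg_of_move _ F1 hP0 (hyp_move _ F1 rfl hφ' (Pij_φ_ne _ _ _))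
  have hF2 : Tg F2 ∈ Sg n k :=
    mem_Sg_of_move F1 F2 hF1 (point_move F1 F2 rfl hu (Pij_u_ne (k := k) (0 : Fin (n + 3)) 1 (ne01 n)))
  exact mem_Sg_of_move F2 P hF2 (hyp_move F2 P rfl hφ hφ')


theorem Sg_generates : (⨆ A ∈ Sg n k, A) = ⊤ := by
  rw [eq_top_iff]
  intro M _
  have : Nontrivial (Fin (n + 3)) := ⟨⟨0, 1, ne01 n⟩⟩
  refine Cfsg.Agent.S0249.transvection_induction (fun M => M ∈ ⨆ A ∈ Sg n k, A) ?_ ?_ M
  · intro i j hij c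
    have h1 : Tg (Pij k i j hij) ≤ ⨆ A ∈ Sg n k, A :=
      le_biSup (fun A => A) (Tg_mem_Sg _ (Pij_u_ne _ _ _) (Pij_φ_ne _ _ _))
    apply h1
    exact ⟨c, Subtype.ext (transvection_eq_tv i j hij c)⟩
  · intro A B hA hB
    exact Subgroup.mul_mem _ hA hB

theorem Sg_rootSet : IsRootSubgroupSet (Sg n k) where
  commutative := by
    intro A hA
    obtain ⟨P, -, -, rfl⟩ := exists_flag A hA
    exact Tg_comm P
  ne_bot := by
    intro A hA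
    obtain ⟨P, hu, hφ, rfl⟩ := exists_flag A hA
    exact Tg_ne_bot P hu hφ
  generates := Sg_generates
  conj_mem := Sg_conj
  pair := by
    intro A hA B hB
    obtain ⟨P, hu, hφ, rfl⟩ := exists_flag A hA
    obtain ⟨Q, hv, hψ, rfl⟩ := exists_flag B hB
    by_cases h1 : Q.φ ⬝ᵥ P.u = 0
    · by_cases h2 : P.φ ⬝ᵥ Q.u = 0
      · exact Or.inl (commutator_eq_bot P Q h1 h2)
      · refine Or.inr (Or.inr ?_)
        exact rootCommCase (Sg n k) P Q ⟨P.u, Q.φ, h1⟩ hu hφ hv hψ h1 h2 rfl rfl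
          (Tg_mem_Sg _ hu hψ)
    · by_cases h2 : P.φ ⬝ᵥ Q.u = 0
      · refine Or.inr (Or.inr ?_)
        apply rootCommCase_symm
        exact rootCommCase (Sg n k) Q P ⟨Q.u, P.φ, h2⟩ hv hψ hu hφ h2 h1 rfl rfl
          (Tg_mem_Sg _ hv hφ)
      · exact Or.inr (Or.inl (rankOnePair P Q hu hφ hv hψ h1 h2))

theorem Sg_conjClass : IsConjClassOfSubgroups (Sg n k) := by
  refine ⟨⟨_, X0_mem_Sg⟩, ?_⟩
  rintro A ⟨g, rfl⟩ B ⟨h, rfl⟩
  refine ⟨h * g⁻¹, ?_⟩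
  rw [conjBy_conjBy, inv_mul_cancel_right]

theorem Pij_dot {ι : Type*} [Fintype ι] [DecidableEq ι] (i j a b : ι) (hij : i ≠ j) (hab : a ≠ b) :
    (Pij k i j hij).φ ⬝ᵥ (Pij k a b hab).u = if j = a then 1 else 0 := by
  change Pi.single j (1 : k) ⬝ᵥ Pi.single a 1 = _
  rw [single_dotProduct, one_mul, Pi.single_apply]

theorem Tg_ne' {ι : Type*} [Fintype ι] [DecidableEq ι] (P Q : PH ι k) (x : ι → k)
    (hx : Q.φ ⬝ᵥ x = 0) (hx' : P.φ ⬝ᵥ x ≠ 0) (hu : P.u ≠ 0) : Tg P ≠ Tg Q := by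
  intro heq
  have h3 : tv P 1 ∈ Tg Q := heq ▸ tv_mem P 1
  obtain ⟨d, hd⟩ := h3
  have h4 : (tv P 1).1 *ᵥ x = (tv Q d).1 *ᵥ x := by rw [hd]
  rw [tv_apply, tv_apply, hx, mul_zero, zero_smul, add_zero, one_mul] at h4
  have h5 : (P.φ ⬝ᵥ x) • P.u = 0 := by
    have := congrArg (fun y => y - x) h4
    simpa using this
  rcases smul_eq_zero.mp h5 with h6 | h6
  · exact hx' h6
  · exact hu h6

theorem Sg_nondegenerate : IsNondegenerateRootSet (Sg n k) := by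
  have m01 : Tg (Pij k (0 : Fin (n + 3)) 1 (ne01 n)) ∈ Sg n k :=
    Tg_mem_Sg _ (Pij_u_ne _ _ _) (Pij_φ_ne _ _ _)
  have m02 : Tg (Pij k (0 : Fin (n + 3)) 2 (ne02 n)) ∈ Sg n k :=
    Tg_mem_Sg _ (Pij_u_ne _ _ _) (Pij_φ_ne _ _ _)
  have m10 : Tg (Pij k (1 : Fin (n + 3)) 0 (ne01 n).symm) ∈ Sg n k :=
    Tg_mem_Sg _ (Pij_u_ne _ _ _) (Pij_φ_ne _ _ _)
  have m12 : Tg (Pij k (1 : Fin (n + 3)) 2 (ne12 n)) ∈ Sg n k :=
    Tg_mem_Sg _ (Pij_u_ne _ _ _) (Pij_φ_ne _ _ _)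
  refine ⟨⟨_, m01, _, m02, ?_, ?_⟩, ⟨_, m01, _, m10, ?_⟩, ⟨_, m01, _, m12, ?_⟩⟩
  · apply Tg_ne' _ _ (Pi.single 1 1)
    · change Pi.single (2 : Fin (n + 3)) (1 : k) ⬝ᵥ Pi.single 1 1 = 0
      rw [single_dotProduct, one_mul, Pi.single_apply, if_neg (ne12 n).symm]
    · change Pi.single (1 : Fin (n + 3)) (1 : k) ⬝ᵥ Pi.single 1 1 ≠ 0
      rw [single_dotProduct, one_mul, Pi.single_apply, if_pos rfl]
      exact one_ne_zero
    · exact Pij_u_ne _ _ _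
  · apply commutator_eq_bot
    · rw [Pij_dot, if_neg (ne02 n).symm]
    · rw [Pij_dot, if_neg (ne01 n).symm]
  · apply rankOnePair _ _ (Pij_u_ne _ _ _) (Pij_φ_ne _ _ _) (Pij_u_ne _ _ _) (Pij_φ_ne _ _ _)
    · rw [Pij_dot, if_pos rfl]
      exact one_ne_zero
    · rw [Pij_dot, if_pos rfl]
      exact one_ne_zero
  · have h1 : (Pij k (1 : Fin (n + 3)) 2 (ne12 n)).φ ⬝ᵥ (Pij k (0 : Fin (n + 3)) 1 (ne01 n)).u = 0 := by
      rw [Pij_dot, if_neg (ne02 n).symm]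
    have h2 : (Pij k (0 : Fin (n + 3)) 1 (ne01 n)).φ ⬝ᵥ (Pij k (1 : Fin (n + 3)) 2 (ne12 n)).u ≠ 0 := by
      rw [Pij_dot, if_pos rfl]
      exact one_ne_zero
    exact rootCommCase (Sg n k) _ _ ⟨_, _, h1⟩ (Pij_u_ne _ _ _) (Pij_φ_ne _ _ _) (Pij_u_ne _ _ _)
      (Pij_φ_ne _ _ _) h1 h2 rfl rfl (Tg_mem_Sg _ (Pij_u_ne _ _ (ne01 n)) (Pij_φ_ne _ _ (ne12 n)))

/-! ### Connectedness -/

theorem exists_common {ι : Type*} [Fintype ι] [DecidableEq ι] (a b : ι → k) (ha : a ≠ 0)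
    (hb : b ≠ 0) : ∃ w : ι → k, a ⬝ᵥ w ≠ 0 ∧ b ⬝ᵥ w ≠ 0 := by
  obtain ⟨i, hi⟩ := exists_dot_ne_zero a ha
  obtain ⟨j, hj⟩ := exists_dot_ne_zero b hb
  by_cases h1 : b ⬝ᵥ Pi.single i 1 ≠ 0
  · exact ⟨_, hi, h1⟩
  push Not at h1
  by_cases h2 : a ⬝ᵥ Pi.single j 1 ≠ 0
  · exact ⟨_, h2, hj⟩
  push Not at h2
  refine ⟨Pi.single i 1 + Pi.single j 1, ?_, ?_⟩
  · rw [dotProduct_add, h2, add_zero]
    exact hi
  · rw [dotProduct_add, h1, zero_add]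
    exact hj

theorem Sg_connected : IsConnectedFamily (FAdj (Sg n k)) (Sg n k) := by
  intro A hA B hB
  obtain ⟨P, hu, hφ, rfl⟩ := exists_flag A hA
  obtain ⟨Q, hv, hψ, rfl⟩ := exists_flag B hB
  obtain ⟨w, hw1, hw2⟩ := exists_common P.φ Q.φ hφ hψ
  obtain ⟨i, hi⟩ := exists_ne_zero P.u hu
  obtain ⟨j, hj⟩ := exists_ne_zero Q.u hv
  -- functionals vanishing on `w`
  set χ₁ : Fin (n + 3) → k := Pi.single i 1 - ((Pi.single i 1 ⬝ᵥ w) / (P.φ ⬝ᵥ w)) • P.φ with hχ₁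
  set χ₂ : Fin (n + 3) → k := Pi.single j 1 - ((Pi.single j 1 ⬝ᵥ w) / (Q.φ ⬝ᵥ w)) • Q.φ with hχ₂
  have h1w : χ₁ ⬝ᵥ w = 0 := by
    rw [hχ₁, sub_dotProduct, smul_dotProduct, smul_eq_mul]
    field_simp
    ring
  have h2w : χ₂ ⬝ᵥ w = 0 := by
    rw [hχ₂, sub_dotProduct, smul_dotProduct, smul_eq_mul]
    field_simp
    ring
  have h1u : χ₁ ⬝ᵥ P.u ≠ 0 := by
    rw [hχ₁, sub_dotProduct, smul_dotProduct, P.inc, smul_zero, sub_zero, single_dotProduct, one_mul]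
    exact hi
  have h2v : χ₂ ⬝ᵥ Q.u ≠ 0 := by
    rw [hχ₂, sub_dotProduct, smul_dotProduct, Q.inc, smul_zero, sub_zero, single_dotProduct, one_mul]
    exact hj
  obtain ⟨χ, hχw, hχu, hχv⟩ : ∃ χ : Fin (n + 3) → k, χ ⬝ᵥ w = 0 ∧ χ ⬝ᵥ P.u ≠ 0 ∧ χ ⬝ᵥ Q.u ≠ 0 := by
    by_cases h3 : χ₁ ⬝ᵥ Q.u ≠ 0
    · exact ⟨χ₁, h1w, h1u, h3⟩
    push Not at h3
    by_cases h4 : χ₂ ⬝ᵥ P.u ≠ 0
    · exact ⟨χ₂, h2w, h4, h2v⟩
    push Not at h4
    refine ⟨χ₁ + χ₂, ?_, ?_, ?_⟩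
    · rw [add_dotProduct, h1w, h2w, add_zero]
    · rw [add_dotProduct, h4, add_zero]
      exact h1u
    · rw [add_dotProduct, h3, zero_add]
      exact h2v
  have hw : w ≠ 0 := by
    rintro rfl
    exact hw1 (dotProduct_zero _)
  have hχ : χ ≠ 0 := by
    rintro rfl
    exact hχu (zero_dotProduct _)
  let R : PH (Fin (n + 3)) k := ⟨w, χ, hχw⟩
  have hR : Tg R ∈ Sg n k := Tg_mem_Sg R hw hχ
  exact Relation.ReflTransGen.head ⟨hA, hR, rankOnePair P R hu hφ hw hχ hχu hw1⟩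
    (Relation.ReflTransGen.single ⟨hR, hB, rankOnePair R Q hw hχ hv hψ hw2 hχv⟩)

end Cfsg.Agent.Lib.Helper6.SLRoot
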