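import Mathlib
import Cfsg.Agent.Lib.Helper6.SLRoot2
import Cfsg.Agent.Lib.Helper6.AutInduced

/-!
# Root elements and the point / hyperplane transvection subgroups of `PSL_n(F)`
-/

set_option autoImplicit false
set_option linter.unusedSectionVars false
set_option linter.unusedSimpArgs false

namespace Cfsg.Agent.Lib.Helper6.AutPSL

open Matrix Cfsg.Agent.Lib.Helper6.SLRoot

variable {ι : Type*} [Fintype ι] [DecidableEq ι] {F : Type*} [Field F]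

/-- the projection `SL → PSL` -/
def pm : Matrix.SpecialLinearGroup ι F →* Matrix.ProjectiveSpecialLinearGroup ι F :=
  QuotientGroup.mk' _

theorem pm_apply (x : Matrix.SpecialLinearGroup ι F) :
    pm x = (QuotientGroup.mk x : Matrix.ProjectiveSpecialLinearGroup ι F) := rfl

theorem pm_surjective : Function.Surjective (pm : Matrix.SpecialLinearGroup ι F →* _) :=
  QuotientGroup.mk'_surjective _

theorem mk_eq_imp (x y : Matrix.SpecialLinearGroup ι F) (h : pm x = pm y) :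
    ∃ ζ : F, ∀ w : ι → F, y.1 *ᵥ w = ζ • (x.1 *ᵥ w) := by
  rw [pm_apply, pm_apply, QuotientGroup.eq, Matrix.SpecialLinearGroup.mem_center_iff] at h
  obtain ⟨r, -, hr⟩ := h
  refine ⟨r, fun w => ?_⟩
  have h1 : y = x * (x⁻¹ * y) := by group
  have h2 : y.1 = x.1 * (Matrix.scalar ι r) := by
    conv_lhs => rw [h1]
    rw [Matrix.SpecialLinearGroup.coe_mul, ← hr]
  rw [h2, ← mulVec_mulVec]
  have h3 : (Matrix.scalar ι r) *ᵥ w = r • w := by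
    rw [Matrix.scalar_apply, ← Matrix.smul_one_eq_diagonal, Matrix.smul_mulVec, Matrix.one_mulVec]
  rw [h3, Matrix.mulVec_smul]

/-- kernel vectors of few functionals -/
theorem exists_kerN {m : ℕ} (hm : m < Fintype.card ι) (M : Matrix (Fin m) ι F) :
    ∃ w : ι → F, w ≠ 0 ∧ M *ᵥ w = 0 := by
  have h1 : LinearMap.ker (Matrix.mulVecLin M) ≠ ⊥ := by
    apply LinearMap.ker_ne_bot_of_finrank_lt
    rw [Module.finrank_fin_fun, Module.finrank_fintype_fun_eq_card]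
    exact hm
  obtain ⟨w, hw, hw0⟩ := Submodule.exists_mem_ne_zero_of_ne_bot h1
  exact ⟨w, hw0, by simpa using hw⟩

theorem exists_ker1 (h2 : 2 ≤ Fintype.card ι) (φ : ι → F) :
    ∃ w : ι → F, w ≠ 0 ∧ φ ⬝ᵥ w = 0 := by
  obtain ⟨w, hw, h⟩ := exists_kerN (m := 1) (by omega) (Matrix.of ![φ])
  refine ⟨w, hw, ?_⟩
  have := congrFun h 0
  simpa [Matrix.mulVec] using this

theorem exists_ker2 (h3 : 3 ≤ Fintype.card ι) (φ ψ : ι → F) :
    ∃ w : ι → F, w ≠ 0 ∧ φ ⬝ᵥ w = 0 ∧ ψ ⬝ᵥ w = 0 := by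
  obtain ⟨w, hw, h⟩ := exists_kerN (m := 2) (by omega) (Matrix.of ![φ, ψ])
  refine ⟨w, hw, ?_, ?_⟩
  · have := congrFun h 0
    simpa [Matrix.mulVec] using this
  · have := congrFun h 1
    simpa [Matrix.mulVec] using this

/-- transvections have no eigenvalue other than `1` -/
theorem zeta_one (R : PH ι F) (e ζ : F) (w : ι → F) (hw : w ≠ 0)
    (h : (tv R e).1 *ᵥ w = ζ • w) : ζ = 1 := by
  rw [tv_apply] at h
  have h1 : R.φ ⬝ᵥ w = ζ * (R.φ ⬝ᵥ w) := by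
    have := congrArg (fun v => R.φ ⬝ᵥ v) h
    simp only [dotProduct_add, dotProduct_smul, R.inc, smul_eq_mul, mul_zero, add_zero] at this
    exact this
  by_cases h2 : R.φ ⬝ᵥ w = 0
  · rw [h2, mul_zero, zero_smul, add_zero] at h
    by_contra hne
    apply hw
    have h3 : (1 - ζ) • w = 0 := by
      rw [sub_smul, one_smul, ← h, sub_self]
    rcases smul_eq_zero.mp h3 with h4 | h4
    · exact absurd (sub_eq_zero.mp h4).symm hne
    · exact h4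
  · have h3 : (1 - ζ) * (R.φ ⬝ᵥ w) = 0 := by linear_combination h1
    rcases mul_eq_zero.mp h3 with h4 | h4
    · exact (sub_eq_zero.mp h4).symm
    · exact absurd h4 h2

theorem eq_of_mk_eq (x : Matrix.SpecialLinearGroup ι F) (R : PH ι F) (e : F) (w : ι → F)
    (hw : w ≠ 0) (hx : x.1 *ᵥ w = w) (h : pm x = pm (tv R e)) : x = tv R e := by
  obtain ⟨ζ, hζ⟩ := mk_eq_imp x (tv R e) h
  have h1 : ζ = 1 := by
    apply zeta_one R e ζ w hw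
    rw [hζ w, hx]
  apply sl_ext
  intro v
  rw [hζ v, h1, one_smul]

/-- parallel vectors -/
def Par (u v : ι → F) : Prop := ∃ c : F, c ≠ 0 ∧ v = c • u

omit [Fintype ι] [DecidableEq ι] in
theorem Par.refl (u : ι → F) : Par u u := ⟨1, one_ne_zero, (one_smul _ _).symm⟩

omit [Fintype ι] [DecidableEq ι] in
theorem Par.symm {u v : ι → F} (h : Par u v) : Par v u := by
  obtain ⟨c, hc, rfl⟩ := h
  exact ⟨c⁻¹, inv_ne_zero hc, by rw [smul_smul, inv_mul_cancel₀ hc, one_smul]⟩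

omit [Fintype ι] [DecidableEq ι] in
theorem Par.trans {u v w : ι → F} (h : Par u v) (h' : Par v w) : Par u w := by
  obtain ⟨c, hc, rfl⟩ := h
  obtain ⟨d, hd, rfl⟩ := h'
  exact ⟨d * c, mul_ne_zero hd hc, by rw [smul_smul]⟩

omit [Fintype ι] [DecidableEq ι] in
theorem Par.ne_zero {u v : ι → F} (h : Par u v) (hu : u ≠ 0) : v ≠ 0 := by
  obtain ⟨c, hc, rfl⟩ := h
  exact smul_ne_zero hc hu

theorem Par.dot_left {u v : ι → F} (h : Par u v) (w : ι → F) (hw : u ⬝ᵥ w = 0) : v ⬝ᵥ w = 0 := by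
  obtain ⟨c, hc, rfl⟩ := h
  rw [smul_dotProduct, hw, smul_zero]

theorem Par.dot_right {u v : ι → F} (h : Par u v) (w : ι → F) (hw : w ⬝ᵥ u = 0) : w ⬝ᵥ v = 0 := by
  obtain ⟨c, hc, rfl⟩ := h
  rw [dotProduct_smul, hw, smul_zero]

theorem tv_eq_of (P Q : PH ι F) (c d : F)
    (h : ∀ w, (c * (P.φ ⬝ᵥ w)) • P.u = (d * (Q.φ ⬝ᵥ w)) • Q.u) : tv P c = tv Q d := by
  apply sl_ext
  intro w
  rw [tv_apply, tv_apply, h w]

theorem tv_eq_imp (P Q : PH ι F) (hu : P.u ≠ 0) (hφ : P.φ ≠ 0) (h : tv P 1 = tv Q 1) :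
    ∃ c : F, c ≠ 0 ∧ Q.u = c • P.u ∧ P.φ = c • Q.φ := by
  have key : ∀ w, (P.φ ⬝ᵥ w) • P.u = (Q.φ ⬝ᵥ w) • Q.u := by
    intro w
    have h1 : (tv P 1).1 *ᵥ w = (tv Q 1).1 *ᵥ w := by rw [h]
    rw [tv_apply, tv_apply, one_mul, one_mul] at h1
    exact add_left_cancel h1
  obtain ⟨i, hi⟩ := exists_dot_ne_zero P.φ hφ
  have h1 := key (Pi.single i 1)
  set α := P.φ ⬝ᵥ Pi.single i 1 with hα
  set β := Q.φ ⬝ᵥ Pi.single i 1 with hβ
  have hβ0 : β ≠ 0 := by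
    intro h0
    rw [h0, zero_smul] at h1
    rcases smul_eq_zero.mp h1 with h2 | h2
    · exact hi h2
    · exact hu h2
  have hQu : Q.u = (α / β) • P.u := by
    rw [div_eq_inv_mul, ← smul_smul, h1, smul_smul, inv_mul_cancel₀ hβ0, one_smul]
  refine ⟨α / β, div_ne_zero hi hβ0, hQu, ?_⟩
  funext j
  have h2 := key (Pi.single j 1)
  rw [dotProduct_single, dotProduct_single, mul_one, mul_one, hQu, smul_smul] at h2
  have h3 : (P.φ j - Q.φ j * (α / β)) • P.u = 0 := by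
    rw [sub_smul, h2, sub_self]
  rcases smul_eq_zero.mp h3 with h4 | h4
  · rw [Pi.smul_apply, smul_eq_mul]
    linear_combination h4
  · exact absurd h4 hu

/-- root elements of `PSL` -/
def RE (x : Matrix.ProjectiveSpecialLinearGroup ι F) : Prop :=
  ∃ P : PH ι F, P.u ≠ 0 ∧ P.φ ≠ 0 ∧ x = pm (tv P 1)

theorem tv_fix (P : PH ι F) (c : F) (w : ι → F) (hw : P.φ ⬝ᵥ w = 0) : (tv P c).1 *ᵥ w = w := by
  rw [tv_apply, hw, mul_zero, zero_smul, add_zero]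

theorem mk_tv_eq_imp (h2 : 2 ≤ Fintype.card ι) (P Q : PH ι F) (hu : P.u ≠ 0) (hφ : P.φ ≠ 0)
    (h : (pm (tv P 1) : Matrix.ProjectiveSpecialLinearGroup ι F) = pm (tv Q 1)) :
    ∃ c : F, c ≠ 0 ∧ Q.u = c • P.u ∧ P.φ = c • Q.φ := by
  obtain ⟨w, hw, hw0⟩ := exists_ker1 h2 P.φ
  exact tv_eq_imp P Q hu hφ (eq_of_mk_eq _ Q 1 w hw (tv_fix P 1 w hw0) h)

theorem mk_tv_ne_one (h2 : 2 ≤ Fintype.card ι) (P : PH ι F) (hu : P.u ≠ 0) (hφ : P.φ ≠ 0) :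
    (pm (tv P 1) : Matrix.ProjectiveSpecialLinearGroup ι F) ≠ 1 := by
  intro h
  obtain ⟨w, hw, hw0⟩ := exists_ker1 h2 P.φ
  have h1 : tv P 1 = tv P 0 := by
    apply eq_of_mk_eq _ P 0 w hw (tv_fix P 1 w hw0)
    rw [h, tv_zero, map_one]
  rw [tv_zero, tv_eq_one_iff P hu hφ] at h1
  exact one_ne_zero h1

theorem RE.ne_one (h2 : 2 ≤ Fintype.card ι) {x : Matrix.ProjectiveSpecialLinearGroup ι F}
    (hx : RE x) : x ≠ 1 := by
  obtain ⟨P, hu, hφ, rfl⟩ := hx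
  exact mk_tv_ne_one h2 P hu hφ

theorem RE.conj {x : Matrix.ProjectiveSpecialLinearGroup ι F} (hx : RE x)
    (g : Matrix.ProjectiveSpecialLinearGroup ι F) : RE (g * x * g⁻¹) := by
  obtain ⟨P, hu, hφ, rfl⟩ := hx
  obtain ⟨g', rfl⟩ := pm_surjective g
  refine ⟨conjP g' P, conjP_u_ne g' P hu, conjP_φ_ne g' P hφ, ?_⟩
  rw [← conj_tv, map_mul, map_mul, map_inv]


/-! ### The subgroups `A a` and `B φ` -/

/-- all transvections with centre `a` -/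
def AS (a : ι → F) : Subgroup (Matrix.SpecialLinearGroup ι F) where
  carrier := {g | ∃ (φ : ι → F) (h : φ ⬝ᵥ a = 0), g = tv ⟨a, φ, h⟩ 1}
  mul_mem' := by
    rintro _ _ ⟨φ, h, rfl⟩ ⟨ψ, h', rfl⟩
    refine ⟨φ + ψ, by rw [add_dotProduct, h, h', add_zero], ?_⟩
    apply sl_ext
    intro x
    rw [SLRoot.mul_apply, tv_apply, tv_apply, tv_apply]
    simp only [dotProduct_add, dotProduct_smul, add_dotProduct, h, smul_eq_mul, mul_zero, add_zero,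
      one_mul]
    module
  one_mem' := by
    refine ⟨0, zero_dotProduct _, ?_⟩
    apply sl_ext
    intro x
    rw [tv_apply, SLRoot.one_apply]
    simp
  inv_mem' := by
    rintro _ ⟨φ, h, rfl⟩
    refine ⟨-φ, by rw [neg_dotProduct, h, neg_zero], ?_⟩
    rw [tv_inv]
    apply tv_eq_of
    intro w
    simp only [neg_dotProduct]
    module

/-- all transvections with axis `φ` -/
def BS (φ : ι → F) : Subgroup (Matrix.SpecialLinearGroup ι F) where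
  carrier := {g | ∃ (a : ι → F) (h : φ ⬝ᵥ a = 0), g = tv ⟨a, φ, h⟩ 1}
  mul_mem' := by
    rintro _ _ ⟨a, h, rfl⟩ ⟨b, h', rfl⟩
    refine ⟨a + b, by rw [dotProduct_add, h, h', add_zero], ?_⟩
    apply sl_ext
    intro x
    rw [SLRoot.mul_apply, tv_apply, tv_apply, tv_apply]
    simp only [dotProduct_add, dotProduct_smul, h', smul_eq_mul, mul_zero, add_zero,
      one_mul]
    module
  one_mem' := by
    refine ⟨0, dotProduct_zero _, ?_⟩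
    apply sl_ext
    intro x
    rw [tv_apply, SLRoot.one_apply]
    simp
  inv_mem' := by
    rintro _ ⟨a, h, rfl⟩
    refine ⟨-a, by rw [dotProduct_neg, h, neg_zero], ?_⟩
    rw [tv_inv]
    apply tv_eq_of
    intro w
    module

theorem mem_AS_iff (a : ι → F) (g : Matrix.SpecialLinearGroup ι F) :
    g ∈ AS a ↔ ∃ (φ : ι → F) (h : φ ⬝ᵥ a = 0), g = tv ⟨a, φ, h⟩ 1 := Iff.rfl

theorem mem_BS_iff (φ : ι → F) (g : Matrix.SpecialLinearGroup ι F) :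
    g ∈ BS φ ↔ ∃ (a : ι → F) (h : φ ⬝ᵥ a = 0), g = tv ⟨a, φ, h⟩ 1 := Iff.rfl

/-- images in `PSL` -/
def Ab (a : ι → F) : Subgroup (Matrix.ProjectiveSpecialLinearGroup ι F) := (AS a).map pm

def Bb (φ : ι → F) : Subgroup (Matrix.ProjectiveSpecialLinearGroup ι F) := (BS φ).map pm

theorem mem_Ab_iff (a : ι → F) (x : Matrix.ProjectiveSpecialLinearGroup ι F) :
    x ∈ Ab a ↔ ∃ (φ : ι → F) (h : φ ⬝ᵥ a = 0), x = pm (tv ⟨a, φ, h⟩ 1) := by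
  unfold Ab
  rw [Subgroup.mem_map]
  constructor
  · rintro ⟨g, ⟨φ, h, rfl⟩, rfl⟩
    exact ⟨φ, h, rfl⟩
  · rintro ⟨φ, h, rfl⟩
    exact ⟨_, ⟨φ, h, rfl⟩, rfl⟩

theorem mem_Bb_iff (φ : ι → F) (x : Matrix.ProjectiveSpecialLinearGroup ι F) :
    x ∈ Bb φ ↔ ∃ (a : ι → F) (h : φ ⬝ᵥ a = 0), x = pm (tv ⟨a, φ, h⟩ 1) := by
  unfold Bb
  rw [Subgroup.mem_map]
  constructor
  · rintro ⟨g, ⟨a, h, rfl⟩, rfl⟩
    exact ⟨a, h, rfl⟩
  · rintro ⟨a, h, rfl⟩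
    exact ⟨_, ⟨a, h, rfl⟩, rfl⟩

theorem tv_zero_form (a : ι → F) (h : (0 : ι → F) ⬝ᵥ a = 0) : tv ⟨a, 0, h⟩ (1 : F) = 1 := by
  apply sl_ext
  intro x
  rw [tv_apply, SLRoot.one_apply]
  simp

theorem tv_zero_vec (φ : ι → F) (h : φ ⬝ᵥ (0 : ι → F) = 0) : tv ⟨0, φ, h⟩ (1 : F) = 1 := by
  apply sl_ext
  intro x
  rw [tv_apply, SLRoot.one_apply]
  simp

/-- a subgroup all of whose non-identity elements are root elements -/
def Rooty (H : Subgroup (Matrix.ProjectiveSpecialLinearGroup ι F)) : Prop :=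
  ∀ x ∈ H, x = 1 ∨ RE x

theorem Ab_rooty (a : ι → F) (ha : a ≠ 0) : Rooty (Ab a) := by
  intro x hx
  rw [mem_Ab_iff] at hx
  obtain ⟨φ, h, rfl⟩ := hx
  by_cases hφ : φ = 0
  · left
    subst hφ
    rw [tv_zero_form, map_one]
  · right
    exact ⟨_, ha, hφ, rfl⟩

theorem Bb_rooty (φ : ι → F) (hφ : φ ≠ 0) : Rooty (Bb φ) := by
  intro x hx
  rw [mem_Bb_iff] at hx
  obtain ⟨a, h, rfl⟩ := hx
  by_cases ha : a = 0
  · left
    subst ha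
    rw [tv_zero_vec, map_one]
  · right
    exact ⟨_, ha, hφ, rfl⟩

theorem AS_le_of_par {a b : ι → F} (h : Par a b) : AS a ≤ AS b := by
  obtain ⟨c, hc, rfl⟩ := h
  rintro _ ⟨φ, h, rfl⟩
  refine ⟨c⁻¹ • φ, by rw [smul_dotProduct, dotProduct_smul, h, smul_zero, smul_zero], ?_⟩
  apply tv_eq_of
  intro w
  simp only [smul_dotProduct, smul_eq_mul, one_mul, smul_smul]
  congr 1
  field_simp

theorem AS_eq_of_par {a b : ι → F} (h : Par a b) : AS a = AS b :=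
  le_antisymm (AS_le_of_par h) (AS_le_of_par h.symm)

theorem Ab_eq_of_par {a b : ι → F} (h : Par a b) : Ab a = Ab b := by
  unfold Ab
  rw [AS_eq_of_par h]

theorem BS_le_of_par {φ ψ : ι → F} (h : Par φ ψ) : BS φ ≤ BS ψ := by
  obtain ⟨c, hc, rfl⟩ := h
  rintro _ ⟨a, h, rfl⟩
  refine ⟨c⁻¹ • a, by rw [smul_dotProduct, dotProduct_smul, h, smul_zero, smul_zero], ?_⟩
  apply tv_eq_of
  intro w
  simp only [smul_dotProduct, smul_eq_mul, one_mul, smul_smul]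
  congr 1
  field_simp

theorem BS_eq_of_par {φ ψ : ι → F} (h : Par φ ψ) : BS φ = BS ψ :=
  le_antisymm (BS_le_of_par h) (BS_le_of_par h.symm)

theorem Bb_eq_of_par {φ ψ : ι → F} (h : Par φ ψ) : Bb φ = Bb ψ := by
  unfold Bb
  rw [BS_eq_of_par h]

/-- existence of a nonzero functional vanishing on a vector -/
theorem exists_form1 (h2 : 2 ≤ Fintype.card ι) (a : ι → F) :
    ∃ φ : ι → F, φ ≠ 0 ∧ φ ⬝ᵥ a = 0 := by
  obtain ⟨w, hw, h⟩ := exists_ker1 h2 a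
  exact ⟨w, hw, by rw [dotProduct_comm]; exact h⟩

theorem exists_form2 (h3 : 3 ≤ Fintype.card ι) (a b : ι → F) :
    ∃ φ : ι → F, φ ≠ 0 ∧ φ ⬝ᵥ a = 0 ∧ φ ⬝ᵥ b = 0 := by
  obtain ⟨w, hw, h, h'⟩ := exists_ker2 h3 a b
  exact ⟨w, hw, by rw [dotProduct_comm]; exact h, by rw [dotProduct_comm]; exact h'⟩

theorem Ab_ne_bot (h2 : 2 ≤ Fintype.card ι) (a : ι → F) (ha : a ≠ 0) : Ab a ≠ ⊥ := by
  obtain ⟨φ, hφ, h⟩ := exists_form1 h2 a
  intro hb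
  have h1 : pm (tv ⟨a, φ, h⟩ 1) ∈ Ab a := (mem_Ab_iff _ _).mpr ⟨φ, h, rfl⟩
  rw [hb, Subgroup.mem_bot] at h1
  exact mk_tv_ne_one h2 _ ha hφ h1

theorem Bb_ne_bot (h2 : 2 ≤ Fintype.card ι) (φ : ι → F) (hφ : φ ≠ 0) : Bb φ ≠ ⊥ := by
  obtain ⟨a, ha, h⟩ := exists_ker1 h2 φ
  intro hb
  have h1 : pm (tv ⟨a, φ, h⟩ 1) ∈ Bb φ := (mem_Bb_iff _ _).mpr ⟨a, h, rfl⟩
  rw [hb, Subgroup.mem_bot] at h1
  exact mk_tv_ne_one h2 _ ha hφ h1

theorem Ab_inf_Ab (h2 : 2 ≤ Fintype.card ι) (a b : ι → F) (ha : a ≠ 0) (hab : ¬ Par a b) :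
    Ab a ⊓ Ab b = ⊥ := by
  rw [eq_bot_iff]
  intro x hx
  obtain ⟨hx1, hx2⟩ := Subgroup.mem_inf.mp hx
  rw [mem_Ab_iff] at hx1 hx2
  obtain ⟨φ, h, rfl⟩ := hx1
  obtain ⟨ψ, h', hx⟩ := hx2
  rw [Subgroup.mem_bot]
  by_cases hφ : φ = 0
  · subst hφ
    rw [tv_zero_form, map_one]
  · exfalso
    obtain ⟨c, hc, h1, -⟩ := mk_tv_eq_imp h2 _ _ ha hφ hx
    exact hab ⟨c, hc, h1⟩

theorem Bb_inf_Bb (h2 : 2 ≤ Fintype.card ι) (φ ψ : ι → F) (hφ : φ ≠ 0) (hab : ¬ Par φ ψ) :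
    Bb φ ⊓ Bb ψ = ⊥ := by
  rw [eq_bot_iff]
  intro x hx
  obtain ⟨hx1, hx2⟩ := Subgroup.mem_inf.mp hx
  rw [mem_Bb_iff] at hx1 hx2
  obtain ⟨a, h, rfl⟩ := hx1
  obtain ⟨b, h', hx⟩ := hx2
  rw [Subgroup.mem_bot]
  by_cases ha : a = 0
  · subst ha
    rw [tv_zero_vec, map_one]
  · exfalso
    obtain ⟨c, hc, -, h1⟩ := mk_tv_eq_imp h2 _ _ ha hφ hx
    apply hab
    refine ⟨c⁻¹, inv_ne_zero hc, ?_⟩
    change φ = c • ψ at h1
    rw [h1, smul_smul, inv_mul_cancel₀ hc, one_smul]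

/-- the root subgroup of an incident pair, in `PSL` -/
def Rb (P : PH ι F) : Subgroup (Matrix.ProjectiveSpecialLinearGroup ι F) := (Tg P).map pm

theorem mem_Rb_iff (P : PH ι F) (x : Matrix.ProjectiveSpecialLinearGroup ι F) :
    x ∈ Rb P ↔ ∃ c : F, x = pm (tv P c) := by
  unfold Rb
  rw [Subgroup.mem_map]
  constructor
  · rintro ⟨g, ⟨c, rfl⟩, rfl⟩
    exact ⟨c, rfl⟩
  · rintro ⟨c, rfl⟩
    exact ⟨_, ⟨c, rfl⟩, rfl⟩

theorem Ab_inf_Bb_of_ne (h2 : 2 ≤ Fintype.card ι) (a φ : ι → F) (ha : a ≠ 0)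
    (hne : φ ⬝ᵥ a ≠ 0) : Ab a ⊓ Bb φ = ⊥ := by
  rw [eq_bot_iff]
  intro x hx
  obtain ⟨hx1, hx2⟩ := Subgroup.mem_inf.mp hx
  rw [mem_Ab_iff] at hx1
  rw [mem_Bb_iff] at hx2
  obtain ⟨ψ, h, rfl⟩ := hx1
  obtain ⟨b, h', hx⟩ := hx2
  rw [Subgroup.mem_bot]
  by_cases hψ : ψ = 0
  · subst hψ
    rw [tv_zero_form, map_one]
  · exfalso
    obtain ⟨c, hc, -, h1⟩ := mk_tv_eq_imp h2 _ _ ha hψ hx
    change ψ = c • φ at h1
    apply hne
    have : (c • φ) ⬝ᵥ a = 0 := by rw [← h1]; exact h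
    rw [smul_dotProduct, smul_eq_mul] at this
    rcases mul_eq_zero.mp this with h3 | h3
    · exact absurd h3 hc
    · exact h3

theorem Ab_inf_Bb_of_eq (h2 : 2 ≤ Fintype.card ι) (a φ : ι → F) (ha : a ≠ 0) (hφ : φ ≠ 0)
    (he : φ ⬝ᵥ a = 0) : Ab a ⊓ Bb φ = Rb ⟨a, φ, he⟩ := by
  apply le_antisymm
  · intro x hx
    obtain ⟨hx1, hx2⟩ := Subgroup.mem_inf.mp hx
    rw [mem_Ab_iff] at hx1
    rw [mem_Bb_iff] at hx2
    obtain ⟨ψ, h, rfl⟩ := hx1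
    obtain ⟨b, h', hx⟩ := hx2
    rw [mem_Rb_iff]
    by_cases hψ : ψ = 0
    · subst hψ
      exact ⟨0, by rw [tv_zero_form, tv_zero]⟩
    · obtain ⟨c, hc, -, h1⟩ := mk_tv_eq_imp h2 _ _ ha hψ hx
      change ψ = c • φ at h1
      refine ⟨c, ?_⟩
      congr 1
      apply tv_eq_of
      intro w
      simp only [h1, smul_dotProduct, smul_eq_mul, one_mul]
  · rintro x hx
    rw [mem_Rb_iff] at hx
    obtain ⟨c, rfl⟩ := hx
    refine Subgroup.mem_inf.mpr ⟨?_, ?_⟩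
    · rw [mem_Ab_iff]
      refine ⟨c • φ, by rw [smul_dotProduct, he, smul_zero], ?_⟩
      congr 1
      apply tv_eq_of
      intro w
      simp only [smul_dotProduct, smul_eq_mul, one_mul]
    · rw [mem_Bb_iff]
      refine ⟨c • a, by rw [dotProduct_smul, he, smul_zero], ?_⟩
      congr 1
      apply tv_eq_of
      intro w
      simp only [one_mul, smul_smul]
      congr 1
      ring

theorem Rb_ne_bot (h2 : 2 ≤ Fintype.card ι) (P : PH ι F) (hu : P.u ≠ 0) (hφ : P.φ ≠ 0) :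
    Rb P ≠ ⊥ := by
  intro hb
  have h1 : pm (tv P 1) ∈ Rb P := (mem_Rb_iff _ _).mpr ⟨1, rfl⟩
  rw [hb, Subgroup.mem_bot] at h1
  exact mk_tv_ne_one h2 _ hu hφ h1

theorem Ab_le_Ab_imp (h2 : 2 ≤ Fintype.card ι) (a b : ι → F) (ha : a ≠ 0)
    (h : Ab a ≤ Ab b) : Par a b := by
  by_contra hab
  have h1 := Ab_inf_Ab h2 a b ha hab
  rw [inf_eq_left.mpr h] at h1
  exact Ab_ne_bot h2 a ha h1

theorem Bb_le_Bb_imp (h2 : 2 ≤ Fintype.card ι) (φ ψ : ι → F) (hφ : φ ≠ 0)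
    (h : Bb φ ≤ Bb ψ) : Par φ ψ := by
  by_contra hab
  have h1 := Bb_inf_Bb h2 φ ψ hφ hab
  rw [inf_eq_left.mpr h] at h1
  exact Bb_ne_bot h2 φ hφ h1

theorem not_Ab_le_Bb (h3 : 3 ≤ Fintype.card ι) (a φ : ι → F) (ha : a ≠ 0) (hφ : φ ≠ 0) :
    ¬ Ab a ≤ Bb φ := by
  intro hle
  have h2 : 2 ≤ Fintype.card ι := by omega
  obtain ⟨i, hi⟩ := exists_dot_ne_zero φ hφ
  obtain ⟨ψ, hψ, h, h'⟩ := exists_form2 h3 a (Pi.single i 1)
  have h1 : pm (tv ⟨a, ψ, h⟩ 1) ∈ Bb φ := hle ((mem_Ab_iff _ _).mpr ⟨ψ, h, rfl⟩)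
  rw [mem_Bb_iff] at h1
  obtain ⟨b, hb, hx⟩ := h1
  obtain ⟨c, hc, -, h4⟩ := mk_tv_eq_imp h2 _ _ ha hψ hx
  change ψ = c • φ at h4
  rw [h4, smul_dotProduct, smul_eq_mul] at h'
  rcases mul_eq_zero.mp h' with h5 | h5
  · exact hc h5
  · exact hi h5

theorem not_Bb_le_Ab (h3 : 3 ≤ Fintype.card ι) (a φ : ι → F) (ha : a ≠ 0) (hφ : φ ≠ 0) :
    ¬ Bb φ ≤ Ab a := by
  intro hle
  have h2 : 2 ≤ Fintype.card ι := by omega
  obtain ⟨i, hi⟩ := exists_ne_zero a ha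
  obtain ⟨b, hb, h, h'⟩ := exists_ker2 h3 φ (Pi.single i 1)
  have h1 : pm (tv ⟨b, φ, h⟩ 1) ∈ Ab a := hle ((mem_Bb_iff _ _).mpr ⟨b, h, rfl⟩)
  rw [mem_Ab_iff] at h1
  obtain ⟨ψ, hψ, hx⟩ := h1
  obtain ⟨c, hc, h4, -⟩ := mk_tv_eq_imp h2 _ _ hb hφ hx
  change a = c • b at h4
  rw [single_dotProduct, one_mul] at h'
  apply hi
  rw [h4]
  rw [Pi.smul_apply, h', smul_zero]

theorem Ab_ne_Bb (h3 : 3 ≤ Fintype.card ι) (a φ : ι → F) (ha : a ≠ 0) (hφ : φ ≠ 0) :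
    Ab a ≠ Bb φ := fun h => not_Ab_le_Bb h3 a φ ha hφ h.le


/-! ### Products of root elements -/

theorem prod_root (h3 : 3 ≤ Fintype.card ι) (P Q R : PH ι F) (hPu : P.u ≠ 0) (hPφ : P.φ ≠ 0)
    (hQu : Q.u ≠ 0) (hQφ : Q.φ ≠ 0) (e : F)
    (h : (pm (tv P 1) * pm (tv Q 1) : Matrix.ProjectiveSpecialLinearGroup ι F) = pm (tv R e)) :
    Par P.u Q.u ∨ Par P.φ Q.φ := by
  obtain ⟨w₀, hw₀, hw1, hw2⟩ := exists_ker2 h3 P.φ Q.φ
  have hx : tv P 1 * tv Q 1 = tv R e := by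
    apply eq_of_mk_eq _ R e w₀ hw₀
    · rw [SLRoot.mul_apply, tv_fix Q 1 w₀ hw2, tv_fix P 1 w₀ hw1]
    · rw [map_mul, h]
  have key : ∀ w, (e * (R.φ ⬝ᵥ w)) • R.u =
      (Q.φ ⬝ᵥ w) • Q.u + (P.φ ⬝ᵥ w + (Q.φ ⬝ᵥ w) * (P.φ ⬝ᵥ Q.u)) • P.u := by
    intro w
    have h1 : (tv P 1 * tv Q 1).1 *ᵥ w = (tv R e).1 *ᵥ w := by rw [hx]
    rw [SLRoot.mul_apply, tv_apply, tv_apply, tv_apply, one_mul, one_mul, dotProduct_add,
      dotProduct_smul, smul_eq_mul, add_assoc] at h1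
    exact (add_left_cancel h1).symm
  by_contra hcon
  push Not at hcon
  obtain ⟨hc1, hc2⟩ := hcon
  rcases dep_or_indep Q.φ P.φ hPφ with ⟨a, ha⟩ | ⟨i, j, hD⟩
  · apply hc2
    refine ⟨a, ?_, ha⟩
    rintro rfl
    rw [zero_smul] at ha
    exact hQφ ha
  · obtain ⟨w₁, w₂, e1, e2, e3, e4⟩ := exists_dual_pair Q.φ P.φ i j hD
    rw [dotProduct_comm] at e1 e2 e3 e4
    have k1 := key w₁
    have k2 := key w₂
    rw [e1, e2, zero_smul, zero_mul, add_zero, zero_add, one_smul] at k1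
    rw [e3, e4, zero_add] at k2
    set α := e * (R.φ ⬝ᵥ w₁) with hα
    set β := e * (R.φ ⬝ᵥ w₂) with hβ
    set c := P.φ ⬝ᵥ Q.u with hc
    have hα0 : α ≠ 0 := by
      intro h0
      rw [h0, zero_smul] at k1
      exact hPu k1.symm
    have hRu : R.u = α⁻¹ • P.u := by
      rw [← k1, smul_smul, inv_mul_cancel₀ hα0, one_smul]
    have hQ : Q.u = (-(β * α⁻¹) - c) • P.u := by
      have h5 : Q.u = -(β • R.u) + (-1 * c) • P.u := by
        rw [k2]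
        module
      rw [h5, hRu, smul_smul]
      module
    apply hc1
    refine ⟨_, ?_, hQ⟩
    intro h0
    rw [h0, zero_smul] at hQ
    exact hQu hQ

theorem mem_Ab_of (P : PH ι F) (a : ι → F) (hpar : Par a P.u) : pm (tv P 1) ∈ Ab a := by
  obtain ⟨c, hc, hu⟩ := hpar
  rw [mem_Ab_iff]
  refine ⟨c • P.φ, ?_, ?_⟩
  · have := P.inc
    rw [hu, dotProduct_smul, smul_eq_mul] at this
    rw [smul_dotProduct, smul_eq_mul]
    exact this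
  · congr 1
    apply tv_eq_of
    intro w
    simp only [hu, smul_dotProduct, smul_eq_mul, one_mul, smul_smul]
    congr 1
    ring

theorem mem_Bb_of (P : PH ι F) (φ : ι → F) (hpar : Par φ P.φ) : pm (tv P 1) ∈ Bb φ := by
  obtain ⟨c, hc, hu⟩ := hpar
  rw [mem_Bb_iff]
  refine ⟨c • P.u, ?_, ?_⟩
  · have := P.inc
    rw [hu, smul_dotProduct, smul_eq_mul] at this
    rw [dotProduct_smul, smul_eq_mul]
    rcases mul_eq_zero.mp this with h | h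
    · exact absurd h hc
    · rw [h, mul_zero]
  · congr 1
    apply tv_eq_of
    intro w
    simp only [hu, smul_dotProduct, smul_eq_mul, one_mul, smul_smul]
    congr 1
    ring

theorem exists_vec_ne_zero (h2 : 2 ≤ Fintype.card ι) : ∃ a : ι → F, a ≠ 0 := by
  have : Nonempty ι := by
    rw [← Fintype.card_pos_iff]
    omega
  obtain ⟨i⟩ := this
  refine ⟨Pi.single i 1, ?_⟩
  intro h
  have := congrFun h i
  simp at this

theorem rooty_le (h3 : 3 ≤ Fintype.card ι) (H : Subgroup (Matrix.ProjectiveSpecialLinearGroup ι F))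
    (hH : Rooty H) : (∃ a : ι → F, a ≠ 0 ∧ H ≤ Ab a) ∨ (∃ φ : ι → F, φ ≠ 0 ∧ H ≤ Bb φ) := by
  have h2 : 2 ≤ Fintype.card ι := by omega
  by_cases hbot : ∀ x ∈ H, x = 1
  · left
    obtain ⟨a, ha⟩ := exists_vec_ne_zero (F := F) h2
    refine ⟨a, ha, fun x hx => ?_⟩
    rw [hbot x hx]
    exact one_mem _
  push Not at hbot
  obtain ⟨x₀, hx₀, hx₀1⟩ := hbot
  obtain ⟨P₀, hu₀, hφ₀, rfl⟩ := (hH x₀ hx₀).resolve_left hx₀1
  have pair : ∀ P Q : PH ι F, P.u ≠ 0 → P.φ ≠ 0 → Q.u ≠ 0 → Q.φ ≠ 0 → pm (tv P 1) ∈ H →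
      pm (tv Q 1) ∈ H → Par P.u Q.u ∨ Par P.φ Q.φ := by
    intro P Q hPu hPφ hQu hQφ hP hQ
    rcases hH _ (mul_mem hP hQ) with h1 | ⟨R, -, -, hR⟩
    · apply prod_root h3 P Q P hPu hPφ hQu hQφ 0
      rw [h1, tv_zero, map_one]
    · exact prod_root h3 P Q R hPu hPφ hQu hQφ 1 hR
  by_cases hall : ∀ P : PH ι F, P.u ≠ 0 → P.φ ≠ 0 → pm (tv P 1) ∈ H → Par P₀.u P.u
  · left
    refine ⟨P₀.u, hu₀, fun x hx => ?_⟩
    rcases hH x hx with rfl | ⟨P, hu, hφ, rfl⟩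
    · exact one_mem _
    · exact mem_Ab_of P _ (hall P hu hφ hx)
  · right
    push Not at hall
    obtain ⟨P₁, hu₁, hφ₁, hx₁, hnp⟩ := hall
    have h01 : Par P₀.φ P₁.φ := (pair P₀ P₁ hu₀ hφ₀ hu₁ hφ₁ hx₀ hx₁).resolve_left hnp
    refine ⟨P₀.φ, hφ₀, fun x hx => ?_⟩
    rcases hH x hx with rfl | ⟨P, hu, hφ, rfl⟩
    · exact one_mem _
    · apply mem_Bb_of
      rcases pair P₀ P hu₀ hφ₀ hu hφ hx₀ hx with h4 | h4
      · rcases pair P P₁ hu hφ hu₁ hφ₁ hx hx₁ with h5 | h5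
        · exact absurd (h4.trans h5) hnp
        · exact h01.trans h5.symm
      · exact h4

end Cfsg.Agent.Lib.Helper6.AutPSL
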