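import Mathlib
import Cfsg.Agent.Lib.Helper6.AutPSL1

/-!
# Automorphisms preserving root elements permute the maximal rooty subgroups
-/

set_option autoImplicit false
set_option linter.unusedSectionVars false
set_option linter.unusedSimpArgs false

namespace Cfsg.Agent.Lib.Helper6.AutPSL

open Matrix Cfsg.Agent.Lib.Helper6.SLRoot

section img
variable {G : Type*} [Group G]

/-- image of a subgroup under an automorphism -/
def img (β : G ≃* G) (H : Subgroup G) : Subgroup G := H.map β.toMonoidHom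

theorem mem_img (β : G ≃* G) (H : Subgroup G) (y : G) : y ∈ img β H ↔ ∃ x ∈ H, β x = y := by
  unfold img
  rw [Subgroup.mem_map]
  rfl

theorem mem_img' (β : G ≃* G) (H : Subgroup G) (y : G) : y ∈ img β H ↔ β.symm y ∈ H := by
  rw [mem_img]
  constructor
  · rintro ⟨x, hx, rfl⟩
    rwa [MulEquiv.symm_apply_apply]
  · intro h
    exact ⟨_, h, MulEquiv.apply_symm_apply _ _⟩

theorem img_symm_img (β : G ≃* G) (H : Subgroup G) : img β.symm (img β H) = H := by
  ext x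
  rw [mem_img', mem_img', MulEquiv.symm_symm, MulEquiv.symm_apply_apply]

theorem img_img_symm (β : G ≃* G) (H : Subgroup G) : img β (img β.symm H) = H := by
  ext x
  rw [mem_img', mem_img', MulEquiv.symm_symm, MulEquiv.apply_symm_apply]

theorem img_mono (β : G ≃* G) {H K : Subgroup G} (h : H ≤ K) : img β H ≤ img β K :=
  Subgroup.map_mono h

theorem img_inf (β : G ≃* G) (H K : Subgroup G) : img β (H ⊓ K) = img β H ⊓ img β K := by
  ext x
  rw [Subgroup.mem_inf, mem_img', mem_img', mem_img', Subgroup.mem_inf]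

theorem img_bot (β : G ≃* G) : img β (⊥ : Subgroup G) = ⊥ := Subgroup.map_bot _

theorem img_injective (β : G ≃* G) {H K : Subgroup G} (h : img β H = img β K) : H = K := by
  rw [← img_symm_img β H, h, img_symm_img]

theorem img_eq_bot_iff (β : G ≃* G) (H : Subgroup G) : img β H = ⊥ ↔ H = ⊥ := by
  constructor
  · intro h
    apply img_injective β
    rw [h, img_bot]
  · rintro rfl
    exact img_bot β

theorem img_mul (β γ : G ≃* G) (H : Subgroup G) : img (γ.trans β) H = img β (img γ H) := by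
  ext x
  rw [mem_img', mem_img', mem_img']
  rfl

theorem mem_img_of (β : G ≃* G) (H : Subgroup G) {x : G} (hx : x ∈ H) : β x ∈ img β H :=
  (mem_img β H _).mpr ⟨x, hx, rfl⟩

end img

variable {ι : Type*} [Fintype ι] [DecidableEq ι] {F : Type*} [Field F]

/-- root-element preserving -/
def RP (β : Matrix.ProjectiveSpecialLinearGroup ι F ≃* Matrix.ProjectiveSpecialLinearGroup ι F) :
    Prop := ∀ x, RE x ↔ RE (β x)

theorem RP.symm {β : Matrix.ProjectiveSpecialLinearGroup ι F ≃* Matrix.ProjectiveSpecialLinearGroup ι F}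
    (h : RP β) : RP β.symm := by
  intro x
  rw [h (β.symm x), MulEquiv.apply_symm_apply]

theorem RP.trans {β γ : Matrix.ProjectiveSpecialLinearGroup ι F ≃* Matrix.ProjectiveSpecialLinearGroup ι F}
    (h : RP β) (h' : RP γ) : RP (β.trans γ) := by
  intro x
  rw [h x, h' (β x)]
  rfl

theorem Rooty.img {H : Subgroup (Matrix.ProjectiveSpecialLinearGroup ι F)} (hH : Rooty H)
    {β : Matrix.ProjectiveSpecialLinearGroup ι F ≃* Matrix.ProjectiveSpecialLinearGroup ι F}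
    (hβ : RP β) : Rooty (img β H) := by
  intro y hy
  rw [mem_img] at hy
  obtain ⟨x, hx, rfl⟩ := hy
  rcases hH x hx with rfl | h
  · left
    exact map_one β
  · right
    exact (hβ x).mp h

def IsA (M : Subgroup (Matrix.ProjectiveSpecialLinearGroup ι F)) : Prop :=
  ∃ a : ι → F, a ≠ 0 ∧ M = Ab a

def IsB (M : Subgroup (Matrix.ProjectiveSpecialLinearGroup ι F)) : Prop :=
  ∃ φ : ι → F, φ ≠ 0 ∧ M = Bb φ

def IsM (M : Subgroup (Matrix.ProjectiveSpecialLinearGroup ι F)) : Prop := IsA M ∨ IsB M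

theorem IsM.rooty {M : Subgroup (Matrix.ProjectiveSpecialLinearGroup ι F)} (h : IsM M) :
    Rooty M := by
  rcases h with ⟨a, ha, rfl⟩ | ⟨φ, hφ, rfl⟩
  · exact Ab_rooty a ha
  · exact Bb_rooty φ hφ

theorem not_isA_isB (h3 : 3 ≤ Fintype.card ι) {M : Subgroup (Matrix.ProjectiveSpecialLinearGroup ι F)}
    (hA : IsA M) (hB : IsB M) : False := by
  obtain ⟨a, ha, rfl⟩ := hA
  obtain ⟨φ, hφ, h⟩ := hB
  exact Ab_ne_Bb h3 a φ ha hφ h

theorem isM_le (h3 : 3 ≤ Fintype.card ι) {M N : Subgroup (Matrix.ProjectiveSpecialLinearGroup ι F)}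
    (hM : IsM M) (hN : IsM N) (h : M ≤ N) : M = N := by
  have h2 : 2 ≤ Fintype.card ι := by omega
  rcases hM with ⟨a, ha, rfl⟩ | ⟨φ, hφ, rfl⟩ <;> rcases hN with ⟨b, hb, rfl⟩ | ⟨ψ, hψ, rfl⟩
  · exact Ab_eq_of_par (Ab_le_Ab_imp h2 a b ha h)
  · exact absurd h (not_Ab_le_Bb h3 a ψ ha hψ)
  · exact absurd h (not_Bb_le_Ab h3 b φ hb hφ)
  · exact Bb_eq_of_par (Bb_le_Bb_imp h2 φ ψ hφ h)

theorem rooty_le_isM (h3 : 3 ≤ Fintype.card ι)
    (H : Subgroup (Matrix.ProjectiveSpecialLinearGroup ι F)) (hH : Rooty H) :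
    ∃ M, IsM M ∧ H ≤ M := by
  rcases rooty_le h3 H hH with ⟨a, ha, h⟩ | ⟨φ, hφ, h⟩
  · exact ⟨_, Or.inl ⟨a, ha, rfl⟩, h⟩
  · exact ⟨_, Or.inr ⟨φ, hφ, rfl⟩, h⟩

theorem isM_img (h3 : 3 ≤ Fintype.card ι)
    (β : Matrix.ProjectiveSpecialLinearGroup ι F ≃* Matrix.ProjectiveSpecialLinearGroup ι F)
    (hβ : RP β) {M : Subgroup (Matrix.ProjectiveSpecialLinearGroup ι F)} (hM : IsM M) :
    IsM (img β M) := by
  obtain ⟨M', hM', h1⟩ := rooty_le_isM h3 _ (hM.rooty.img hβ)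
  obtain ⟨M'', hM'', h2⟩ := rooty_le_isM h3 _ (hM'.rooty.img hβ.symm)
  have h3' : M ≤ img β.symm M' := by
    have := img_mono β.symm h1
    rwa [img_symm_img] at this
  have h4 : M = M'' := isM_le h3 hM hM'' (h3'.trans h2)
  have h5 : img β.symm M' = M := le_antisymm (h4 ▸ h2) h3'
  have h6 : M' = img β M := by rw [← h5, img_img_symm]
  rw [← h6]
  exact hM'

theorem isA_inf (h2 : 2 ≤ Fintype.card ι) {M N : Subgroup (Matrix.ProjectiveSpecialLinearGroup ι F)}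
    (hM : IsA M) (hN : IsA N) (hne : M ≠ N) : M ⊓ N = ⊥ := by
  obtain ⟨a, ha, rfl⟩ := hM
  obtain ⟨b, hb, rfl⟩ := hN
  apply Ab_inf_Ab h2 a b ha
  intro hp
  exact hne (Ab_eq_of_par hp)

theorem isB_inf (h2 : 2 ≤ Fintype.card ι) {M N : Subgroup (Matrix.ProjectiveSpecialLinearGroup ι F)}
    (hM : IsB M) (hN : IsB N) (hne : M ≠ N) : M ⊓ N = ⊥ := by
  obtain ⟨a, ha, rfl⟩ := hM
  obtain ⟨b, hb, rfl⟩ := hN
  apply Bb_inf_Bb h2 a b ha
  intro hp
  exact hne (Bb_eq_of_par hp)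

theorem opp_type (h2 : 2 ≤ Fintype.card ι) {M N : Subgroup (Matrix.ProjectiveSpecialLinearGroup ι F)}
    (hM : IsM M) (hN : IsM N) (hne : M ≠ N) (hadj : M ⊓ N ≠ ⊥) :
    (IsA M ∧ IsB N) ∨ (IsB M ∧ IsA N) := by
  rcases hM with hM | hM <;> rcases hN with hN | hN
  · exact absurd (isA_inf h2 hM hN hne) hadj
  · exact Or.inl ⟨hM, hN⟩
  · exact Or.inr ⟨hM, hN⟩
  · exact absurd (isB_inf h2 hM hN hne) hadj

theorem adj_img (h3 : 3 ≤ Fintype.card ι)
    (β : Matrix.ProjectiveSpecialLinearGroup ι F ≃* Matrix.ProjectiveSpecialLinearGroup ι F)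
    (hβ : RP β) (a φ : ι → F) (ha : a ≠ 0) (hφ : φ ≠ 0) (h : φ ⬝ᵥ a = 0) :
    (IsA (img β (Ab a)) ∧ IsB (img β (Bb φ))) ∨ (IsB (img β (Ab a)) ∧ IsA (img β (Bb φ))) := by
  have h2 : 2 ≤ Fintype.card ι := by omega
  apply opp_type h2 (isM_img h3 β hβ (Or.inl ⟨a, ha, rfl⟩)) (isM_img h3 β hβ (Or.inr ⟨φ, hφ, rfl⟩))
  · intro he
    exact Ab_ne_Bb h3 a φ ha hφ (img_injective β he)
  · rw [← img_inf, Ne, img_eq_bot_iff, Ab_inf_Bb_of_eq h2 a φ ha hφ h]
    exact Rb_ne_bot h2 _ ha hφ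

/-- type preserving -/
def TP (β : Matrix.ProjectiveSpecialLinearGroup ι F ≃* Matrix.ProjectiveSpecialLinearGroup ι F) :
    Prop := (∀ a : ι → F, a ≠ 0 → IsA (img β (Ab a))) ∧ (∀ φ : ι → F, φ ≠ 0 → IsB (img β (Bb φ)))

/-- type reversing -/
def TR (β : Matrix.ProjectiveSpecialLinearGroup ι F ≃* Matrix.ProjectiveSpecialLinearGroup ι F) :
    Prop := (∀ a : ι → F, a ≠ 0 → IsB (img β (Ab a))) ∧ (∀ φ : ι → F, φ ≠ 0 → IsA (img β (Bb φ)))

theorem type_dichotomy (h3 : 3 ≤ Fintype.card ι)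
    (β : Matrix.ProjectiveSpecialLinearGroup ι F ≃* Matrix.ProjectiveSpecialLinearGroup ι F)
    (hβ : RP β) : TP β ∨ TR β := by
  have h2 : 2 ≤ Fintype.card ι := by omega
  obtain ⟨a₀, ha₀⟩ := exists_vec_ne_zero (F := F) h2
  rcases isM_img h3 β hβ (Or.inl ⟨a₀, ha₀, rfl⟩) with h0 | h0
  · left
    have hA : ∀ a : ι → F, a ≠ 0 → IsA (img β (Ab a)) := by
      intro a ha
      obtain ⟨φ, hφ, e1, e2⟩ := exists_form2 h3 a₀ a
      have hN : IsB (img β (Bb φ)) := by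
        rcases adj_img h3 β hβ a₀ φ ha₀ hφ e1 with h | h
        · exact h.2
        · exact absurd h.1 (fun hb => not_isA_isB h3 h0 hb)
      rcases adj_img h3 β hβ a φ ha hφ e2 with h | h
      · exact h.1
      · exact absurd hN (fun hb => not_isA_isB h3 h.2 hb)
    refine ⟨hA, ?_⟩
    intro φ hφ
    obtain ⟨a, ha, e⟩ := exists_ker1 h2 φ
    rcases adj_img h3 β hβ a φ ha hφ e with h | h
    · exact h.2
    · exact absurd h.1 (fun hb => not_isA_isB h3 (hA a ha) hb)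
  · right
    have hA : ∀ a : ι → F, a ≠ 0 → IsB (img β (Ab a)) := by
      intro a ha
      obtain ⟨φ, hφ, e1, e2⟩ := exists_form2 h3 a₀ a
      have hN : IsA (img β (Bb φ)) := by
        rcases adj_img h3 β hβ a₀ φ ha₀ hφ e1 with h | h
        · exact absurd h0 (fun hb => not_isA_isB h3 h.1 hb)
        · exact h.2
      rcases adj_img h3 β hβ a φ ha hφ e2 with h | h
      · exact absurd h.2 (fun hb => not_isA_isB h3 hN hb)
      · exact h.1
    refine ⟨hA, ?_⟩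
    intro φ hφ
    obtain ⟨a, ha, e⟩ := exists_ker1 h2 φ
    rcases adj_img h3 β hβ a φ ha hφ e with h | h
    · exact absurd (hA a ha) (fun hb => not_isA_isB h3 h.1 hb)
    · exact h.2

end Cfsg.Agent.Lib.Helper6.AutPSL
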