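import Mathlib
import Cfsg.Prelude.Def_LieTypeDatum
import Cfsg.Prelude.Def_StandardType
import Cfsg.Agent.Lib.Helper6.AutPSL2

/-!
# The standard automorphisms of `SL_n(F)` and `PSL_n(F)`
-/

set_option autoImplicit false
set_option linter.unusedSectionVars false
set_option linter.unusedSimpArgs false

namespace Cfsg.Agent.Lib.Helper6.AutPSL

open Matrix Cfsg.Agent.Lib.Helper6.SLRoot

variable {ι : Type*} [Fintype ι] [DecidableEq ι] {F : Type*} [Field F]

theorem gl_mul_inv (g : GL ι F) : g.1 * (g⁻¹).1 = 1 := by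
  rw [← Units.val_mul, mul_inv_cancel, Units.val_one]

theorem gl_inv_mul (g : GL ι F) : (g⁻¹).1 * g.1 = 1 := by
  rw [← Units.val_mul, inv_mul_cancel, Units.val_one]

/-- conjugation by `g ∈ GL` as a map of `SL` -/
def cGfun (g : GL ι F) (s : Matrix.SpecialLinearGroup ι F) : Matrix.SpecialLinearGroup ι F :=
  ⟨g.1 * s.1 * (g⁻¹).1, by
    rw [det_mul, det_mul, s.2, mul_one, ← det_mul, gl_mul_inv, det_one]⟩

theorem cGfun_val (g : GL ι F) (s : Matrix.SpecialLinearGroup ι F) :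
    (cGfun g s).1 = g.1 * s.1 * (g⁻¹).1 := rfl

theorem cGfun_mul (g h : GL ι F) (s : Matrix.SpecialLinearGroup ι F) :
    cGfun (g * h) s = cGfun g (cGfun h s) := by
  apply Subtype.ext
  rw [cGfun_val, cGfun_val, cGfun_val, _root_.mul_inv_rev, Units.val_mul, Units.val_mul]
  simp only [mul_assoc]

theorem cGfun_one (s : Matrix.SpecialLinearGroup ι F) : cGfun (1 : GL ι F) s = s := by
  apply Subtype.ext
  rw [cGfun_val, inv_one, Units.val_one, one_mul, mul_one]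

/-- conjugation by `g ∈ GL` as an automorphism of `SL` -/
def cGequiv (g : GL ι F) : MulAut (Matrix.SpecialLinearGroup ι F) where
  toFun := cGfun g
  invFun := cGfun g⁻¹
  left_inv s := by rw [← cGfun_mul, inv_mul_cancel, cGfun_one]
  right_inv s := by rw [← cGfun_mul, mul_inv_cancel, cGfun_one]
  map_mul' s t := by
    apply Subtype.ext
    rw [Matrix.SpecialLinearGroup.coe_mul, cGfun_val, cGfun_val, cGfun_val,
      Matrix.SpecialLinearGroup.coe_mul]
    calc g.1 * (s.1 * t.1) * (g⁻¹).1 = g.1 * s.1 * (1 : Matrix ι ι F) * t.1 * (g⁻¹).1 := by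
          rw [mul_one]; simp only [mul_assoc]
      _ = g.1 * s.1 * (g⁻¹).1 * (g.1 * t.1 * (g⁻¹).1) := by
          rw [← gl_inv_mul g]; simp only [mul_assoc]

/-- `GL` acts on `SL` by conjugation -/
def cG : GL ι F →* MulAut (Matrix.SpecialLinearGroup ι F) where
  toFun := cGequiv
  map_one' := by
    ext s : 1
    exact cGfun_one s
  map_mul' g h := by
    ext s : 1
    exact cGfun_mul g h s

theorem cG_val (g : GL ι F) (s : Matrix.SpecialLinearGroup ι F) :
    (cG g s).1 = g.1 * s.1 * (g⁻¹).1 := rfl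

/-- the action of `GL` on incident pairs -/
def gP (g : GL ι F) (P : PH ι F) : PH ι F where
  u := g.1 *ᵥ P.u
  φ := P.φ ᵥ* (g⁻¹).1
  inc := by
    rw [← dotProduct_mulVec, mulVec_mulVec, gl_inv_mul, one_mulVec, P.inc]

theorem cG_tv (g : GL ι F) (P : PH ι F) (c : F) : cG g (tv P c) = tv (gP g P) c := by
  apply sl_ext
  intro x
  rw [cG_val, ← mulVec_mulVec, ← mulVec_mulVec, tv_apply, tv_apply, mulVec_add, mulVec_mulVec,
    gl_mul_inv, one_mulVec, mulVec_smul]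
  congr 3
  change _ = (P.φ ᵥ* (g⁻¹).1) ⬝ᵥ x
  rw [dotProduct_mulVec]

/-- the field automorphism -/
def fA (σ : F ≃+* F) : MulAut (Matrix.SpecialLinearGroup ι F) where
  toFun := Matrix.SpecialLinearGroup.map (σ : F →+* F)
  invFun := Matrix.SpecialLinearGroup.map (σ.symm : F →+* F)
  left_inv s := by
    apply Subtype.ext
    ext i j
    simp
  right_inv s := by
    apply Subtype.ext
    ext i j
    simp
  map_mul' s t := map_mul _ s t

theorem fA_val (σ : F ≃+* F) (s : Matrix.SpecialLinearGroup ι F) :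
    (fA σ s).1 = s.1.map σ := rfl

def sP (σ : F ≃+* F) (P : PH ι F) : PH ι F where
  u := σ ∘ P.u
  φ := σ ∘ P.φ
  inc := by
    have := RingHom.map_dotProduct (σ : F →+* F) P.φ P.u
    rw [P.inc, map_zero] at this
    exact this.symm

theorem fA_tv (σ : F ≃+* F) (P : PH ι F) (c : F) : fA σ (tv P c) = tv (sP σ P) (σ c) := by
  apply Subtype.ext
  rw [fA_val]
  change (tvm P.u P.φ c).map σ = tvm (σ ∘ P.u) (σ ∘ P.φ) (σ c)
  ext i j
  unfold tvm
  simp only [Matrix.map_apply, Matrix.add_apply, Matrix.smul_apply, Matrix.vecMulVec_apply,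
    smul_eq_mul, Matrix.one_apply, map_add, map_mul, Function.comp_apply]
  split_ifs <;> simp

/-- inverse transpose -/
def tAfun (s : Matrix.SpecialLinearGroup ι F) : Matrix.SpecialLinearGroup ι F :=
  (s⁻¹).transpose

theorem tAfun_val (s : Matrix.SpecialLinearGroup ι F) : (tAfun s).1 = ((s⁻¹).1)ᵀ := rfl

theorem tAfun_mul (s t : Matrix.SpecialLinearGroup ι F) : tAfun (s * t) = tAfun s * tAfun t := by
  apply Subtype.ext
  rw [Matrix.SpecialLinearGroup.coe_mul, tAfun_val, tAfun_val, tAfun_val, _root_.mul_inv_rev,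
    Matrix.SpecialLinearGroup.coe_mul, Matrix.transpose_mul]

theorem tAfun_tAfun (s : Matrix.SpecialLinearGroup ι F) : tAfun (tAfun s) = s := by
  have h1 : tAfun s * s.transpose = 1 := by
    apply Subtype.ext
    rw [Matrix.SpecialLinearGroup.coe_mul, tAfun_val]
    change ((s⁻¹).1)ᵀ * (s.1)ᵀ = 1
    rw [← Matrix.transpose_mul, ← Matrix.SpecialLinearGroup.coe_mul, mul_inv_cancel,
      Matrix.SpecialLinearGroup.coe_one, Matrix.transpose_one]
  have h2 : (tAfun s)⁻¹ = s.transpose := inv_eq_of_mul_eq_one_right h1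
  apply Subtype.ext
  rw [tAfun_val, h2]
  change ((s.1)ᵀ)ᵀ = s.1
  rw [Matrix.transpose_transpose]

def tA : MulAut (Matrix.SpecialLinearGroup ι F) where
  toFun := tAfun
  invFun := tAfun
  left_inv := tAfun_tAfun
  right_inv := tAfun_tAfun
  map_mul' := tAfun_mul

theorem tA_val (s : Matrix.SpecialLinearGroup ι F) : (tA s).1 = ((s⁻¹).1)ᵀ := rfl

/-- the dual pair -/
def dP (P : PH ι F) : PH ι F where
  u := P.φ
  φ := P.u
  inc := by rw [dotProduct_comm, P.inc]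

theorem tA_tv (P : PH ι F) (c : F) : tA (tv P c) = tv (dP P) (-c) := by
  apply Subtype.ext
  rw [tA_val, tv_inv]
  change (tvm P.u P.φ (-c))ᵀ = tvm P.φ P.u (-c)
  unfold tvm
  rw [Matrix.transpose_add, Matrix.transpose_one, Matrix.transpose_smul, Matrix.transpose_vecMulVec]

/-! ### The induced automorphisms of `PSL` -/

/-- inner-diagonal automorphisms -/
noncomputable def cP : GL ι F →* MulAut (Matrix.ProjectiveSpecialLinearGroup ι F) :=
  (AutInduced.autQuot (Subgroup.center (Matrix.SpecialLinearGroup ι F))).comp cG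

theorem cP_mk (g : GL ι F) (s : Matrix.SpecialLinearGroup ι F) : cP g (pm s) = pm (cG g s) :=
  AutInduced.autQuot_mk _ _ _

noncomputable def fP (σ : F ≃+* F) : MulAut (Matrix.ProjectiveSpecialLinearGroup ι F) :=
  AutInduced.autQuot (Subgroup.center (Matrix.SpecialLinearGroup ι F)) (fA σ)

theorem fP_mk (σ : F ≃+* F) (s : Matrix.SpecialLinearGroup ι F) : fP σ (pm s) = pm (fA σ s) :=
  AutInduced.autQuot_mk _ _ _

noncomputable def tP : MulAut (Matrix.ProjectiveSpecialLinearGroup ι F) :=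
  AutInduced.autQuot (Subgroup.center (Matrix.SpecialLinearGroup ι F)) tA

theorem tP_mk (s : Matrix.SpecialLinearGroup ι F) : (tP (pm s) : Matrix.ProjectiveSpecialLinearGroup ι F) = pm (tA s) :=
  AutInduced.autQuot_mk _ _ _

theorem tP_tP (x : Matrix.ProjectiveSpecialLinearGroup ι F) : tP (tP x) = x := by
  obtain ⟨s, rfl⟩ := pm_surjective x
  rw [tP_mk, tP_mk]
  congr 1
  exact tAfun_tAfun s

theorem cP_tv (g : GL ι F) (P : PH ι F) (c : F) : cP g (pm (tv P c)) = pm (tv (gP g P) c) := by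
  rw [cP_mk, cG_tv]

theorem fP_tv (σ : F ≃+* F) (P : PH ι F) (c : F) :
    fP σ (pm (tv P c)) = pm (tv (sP σ P) (σ c)) := by
  rw [fP_mk, fA_tv]

theorem tP_tv (P : PH ι F) (c : F) :
    (tP (pm (tv P c)) : Matrix.ProjectiveSpecialLinearGroup ι F) = pm (tv (dP P) (-c)) := by
  rw [tP_mk, tA_tv]

/-! ### Images of the distinguished subgroups -/

theorem img_cP_Ab (g : GL ι F) (a : ι → F) : img (cP g) (Ab a) = Ab (g.1 *ᵥ a) := by
  have key : ∀ (g : GL ι F) (a : ι → F), img (cP g) (Ab a) ≤ Ab (g.1 *ᵥ a) := by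
    intro g a y hy
    rw [mem_img] at hy
    obtain ⟨x, hx, rfl⟩ := hy
    rw [mem_Ab_iff] at hx
    obtain ⟨φ, h, rfl⟩ := hx
    rw [cP_tv, mem_Ab_iff]
    exact ⟨_, (gP g ⟨a, φ, h⟩).inc, rfl⟩
  apply le_antisymm (key g a)
  have h1 := img_mono (cP g) (key g⁻¹ (g.1 *ᵥ a))
  rw [mulVec_mulVec, gl_inv_mul, one_mulVec] at h1
  have h2 : img (cP g) (img (cP g⁻¹) (Ab (g.1 *ᵥ a))) = Ab (g.1 *ᵥ a) := by
    rw [map_inv]
    exact img_img_symm (cP g) _
  rwa [h2] at h1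

theorem img_cP_Bb (g : GL ι F) (φ : ι → F) : img (cP g) (Bb φ) = Bb (φ ᵥ* (g⁻¹).1) := by
  have key : ∀ (g : GL ι F) (φ : ι → F), img (cP g) (Bb φ) ≤ Bb (φ ᵥ* (g⁻¹).1) := by
    intro g φ y hy
    rw [mem_img] at hy
    obtain ⟨x, hx, rfl⟩ := hy
    rw [mem_Bb_iff] at hx
    obtain ⟨a, h, rfl⟩ := hx
    rw [cP_tv, mem_Bb_iff]
    exact ⟨_, (gP g ⟨a, φ, h⟩).inc, rfl⟩
  apply le_antisymm (key g φ)
  have h1 := img_mono (cP g) (key g⁻¹ (φ ᵥ* (g⁻¹).1))
  rw [inv_inv, vecMul_vecMul, gl_inv_mul, vecMul_one] at h1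
  have h2 : img (cP g) (img (cP g⁻¹) (Bb (φ ᵥ* (g⁻¹).1))) = Bb (φ ᵥ* (g⁻¹).1) := by
    rw [map_inv]
    exact img_img_symm (cP g) _
  rwa [h2] at h1

theorem img_cP_Rb (g : GL ι F) (P : PH ι F) : img (cP g) (Rb P) = Rb (gP g P) := by
  ext y
  rw [mem_img, mem_Rb_iff]
  constructor
  · rintro ⟨x, hx, rfl⟩
    rw [mem_Rb_iff] at hx
    obtain ⟨c, rfl⟩ := hx
    exact ⟨c, cP_tv g P c⟩
  · rintro ⟨c, rfl⟩
    exact ⟨_, (mem_Rb_iff _ _).mpr ⟨c, rfl⟩, cP_tv g P c⟩

theorem img_tP_Ab (a : ι → F) : img tP (Ab a) = Bb a := by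
  ext y
  rw [mem_img, mem_Bb_iff]
  constructor
  · rintro ⟨x, hx, rfl⟩
    rw [mem_Ab_iff] at hx
    obtain ⟨φ, h, rfl⟩ := hx
    refine ⟨-φ, by rw [dotProduct_neg, dotProduct_comm, h, neg_zero], ?_⟩
    rw [tP_tv]
    congr 1
    apply tv_eq_of
    intro w
    change (-1 * (a ⬝ᵥ w)) • φ = (1 * (a ⬝ᵥ w)) • (-φ)
    module
  · rintro ⟨b, h, rfl⟩
    have hb : (-b) ⬝ᵥ a = 0 := by rw [neg_dotProduct, dotProduct_comm, h, neg_zero]
    refine ⟨pm (tv ⟨a, -b, hb⟩ 1), (mem_Ab_iff _ _).mpr ⟨_, hb, rfl⟩, ?_⟩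
    rw [tP_tv]
    congr 1
    apply tv_eq_of
    intro w
    change (-1 * (a ⬝ᵥ w)) • (-b) = (1 * (a ⬝ᵥ w)) • b
    module

theorem img_tP_Bb (φ : ι → F) : img tP (Bb φ) = Ab φ := by
  have h1 : img tP (img tP (Ab φ)) = Ab φ := by
    ext x
    rw [mem_img', mem_img']
    have : (tP : Matrix.ProjectiveSpecialLinearGroup ι F ≃* _).symm = tP := by
      ext y
      rw [MulEquiv.symm_apply_eq, tP_tP]
    rw [this, tP_tP]
  rw [← img_tP_Ab, h1]

/-! ### The Prelude predicates -/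

theorem isInnerDiag_cP {n : ℕ} (g : GL (Fin n) F) : Cfsg.IsInnerDiagonalAutPSL (cP g) := by
  refine ⟨g, fun s s' h => ?_⟩
  change cP g (pm s) = pm s'
  rw [cP_mk]
  congr 1
  apply Subtype.ext
  rw [cG_val, h]

theorem isStdField_fP {n : ℕ} (σ : F ≃+* F) :
    Cfsg.IsStdFieldAutPSL σ (fP σ : MulAut (Matrix.ProjectiveSpecialLinearGroup (Fin n) F)) := by
  intro s s' h
  change fP σ (pm s) = pm s'
  rw [fP_mk]
  congr 1
  apply Subtype.ext
  rw [fA_val, h]

theorem isInvTranspose_tP {n : ℕ} :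
    Cfsg.IsInverseTransposeAutPSL (tP : MulAut (Matrix.ProjectiveSpecialLinearGroup (Fin n) F)) := by
  intro s s' h
  change tP (pm s) = pm s'
  rw [tP_mk]
  congr 1
  apply Subtype.ext
  rw [tA_val, h]

theorem isInducedBySemilinear {n : ℕ} (g : GL (Fin n) F) (σ : F ≃+* F) :
    Cfsg.IsInducedBySemilinearPSL g σ
      (cP g * fP σ : MulAut (Matrix.ProjectiveSpecialLinearGroup (Fin n) F)) := by
  intro s s' h
  change cP g (fP σ (pm s)) = pm s'
  rw [fP_mk, cP_mk]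
  congr 1
  apply Subtype.ext
  rw [cG_val, fA_val, h]

end Cfsg.Agent.Lib.Helper6.AutPSL
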