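import Mathlib
import Cfsg.Agent.Lib.Helper6.AutPSL3
import Cfsg.Agent.Lib.Helper15.SLNormal

/-!
# Automorphisms of `PSL_n(F)`, `n ≥ 3`: the frame argument
-/

set_option autoImplicit false
set_option linter.unusedSectionVars false
set_option linter.unusedSimpArgs false
set_option linter.unusedVariables false

namespace Cfsg.Agent.Lib.Helper6.AutPSL

open Matrix Cfsg.Agent.Lib.Helper6.SLRoot

variable {ι : Type*} [Fintype ι] [DecidableEq ι] {F : Type*} [Field F]

theorem exists_third (h3 : 3 ≤ Fintype.card ι) (a c : ι) : ∃ l : ι, l ≠ a ∧ l ≠ c := by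
  by_contra h
  push Not at h
  have h1 : (Finset.univ : Finset ι) ⊆ {a, c} := by
    intro l _
    by_cases hl : l = a
    · simp [hl]
    · simp [h l hl]
  have h2 := Finset.card_le_card h1
  rw [Finset.card_univ] at h2
  have h3' : ({a, c} : Finset ι).card ≤ 2 := Finset.card_le_two
  omega

/-- the algebra behind the normalisation -/
theorem sigma_structure (h3 : 3 ≤ Fintype.card ι) (σ : ι → ι → F → F)
    (hadd : ∀ i j, i ≠ j → ∀ t u, σ i j (t + u) = σ i j t + σ i j u)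
    (hmul : ∀ i j l, i ≠ j → j ≠ l → i ≠ l → ∀ t u, σ i l (t * u) = σ i j t * σ j l u)
    (hne : ∀ i j, i ≠ j → σ i j 1 ≠ 0) :
    ∃ (d : ι → F) (τ : F →+* F), (∀ i, d i ≠ 0) ∧
      ∀ i j, i ≠ j → ∀ t, σ i j t = d i * (d j)⁻¹ * τ t := by
  have hlam : ∀ i j l, i ≠ j → j ≠ l → i ≠ l → σ i l 1 = σ i j 1 * σ j l 1 := by
    intro i j l hij hjl hil
    have := hmul i j l hij hjl hil 1 1
    rwa [one_mul] at this
  have rowrule : ∀ i j l, i ≠ j → i ≠ l → ∀ t, σ i l t / σ i l 1 = σ i j t / σ i j 1 := by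
    intro i j l hij hil t
    by_cases hjl : j = l
    · subst hjl; rfl
    have h1 := hmul i j l hij hjl hil t 1
    rw [mul_one] at h1
    rw [h1, hlam i j l hij hjl hil]
    have := hne i j hij
    have := hne j l hjl
    field_simp
  have colrule : ∀ i j l, i ≠ l → j ≠ l → ∀ t, σ i l t / σ i l 1 = σ j l t / σ j l 1 := by
    intro i j l hil hjl t
    by_cases hij : i = j
    · subst hij; rfl
    have h1 := hmul i j l hij hjl hil 1 t
    rw [one_mul] at h1
    rw [h1, hlam i j l hij hjl hil]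
    have := hne i j hij
    have := hne j l hjl
    field_simp
  have alleq : ∀ a b c d, a ≠ b → c ≠ d → ∀ t, σ a b t / σ a b 1 = σ c d t / σ c d 1 := by
    intro a b c d hab hcd t
    by_cases had : a = d
    · subst had
      obtain ⟨l, hla, hlc⟩ := exists_third h3 a c
      rw [rowrule a l b hla.symm hab t, colrule a c l hla.symm hlc.symm t,
        ← rowrule c a l hcd hlc.symm t]
    · rw [rowrule a d b had hab t, colrule a c d had hcd t]
  have hcard : 1 < Fintype.card ι := by omega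
  obtain ⟨i₀, i₁, h01⟩ := Fintype.exists_pair_of_one_lt_card hcard
  have hzero : ∀ i j, i ≠ j → σ i j 0 = 0 := by
    intro i j hij
    have := hadd i j hij 0 0
    rw [add_zero] at this
    exact left_eq_add.mp this
  obtain ⟨l₀, hl0, hl1⟩ := exists_third h3 i₀ i₁
  let τ : F →+* F :=
    { toFun := fun t => σ i₀ i₁ t / σ i₀ i₁ 1
      map_one' := div_self (hne i₀ i₁ h01)
      map_mul' := by
        intro t u
        have h1 := hmul i₀ i₁ l₀ h01 hl1.symm hl0.symm t u
        have h2 := alleq i₀ l₀ i₀ i₁ hl0.symm h01 (t * u)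
        have h3 := alleq i₁ l₀ i₀ i₁ hl1.symm h01 u
        have h4 := hlam i₀ i₁ l₀ h01 hl1.symm hl0.symm
        have n1 := hne i₀ i₁ h01
        have n2 := hne i₁ l₀ hl1.symm
        have n3 := hne i₀ l₀ hl0.symm
        change σ i₀ i₁ (t * u) / σ i₀ i₁ 1 = σ i₀ i₁ t / σ i₀ i₁ 1 * (σ i₀ i₁ u / σ i₀ i₁ 1)
        rw [← h2, ← h3, h1, h4]
        field_simp
      map_zero' := by
        change σ i₀ i₁ 0 / σ i₀ i₁ 1 = 0
        rw [hzero i₀ i₁ h01, zero_div]
      map_add' := by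
        intro t u
        change σ i₀ i₁ (t + u) / σ i₀ i₁ 1 = σ i₀ i₁ t / σ i₀ i₁ 1 + σ i₀ i₁ u / σ i₀ i₁ 1
        rw [hadd i₀ i₁ h01, add_div] }
  have hτ : ∀ t, τ t = σ i₀ i₁ t / σ i₀ i₁ 1 := fun t => rfl
  refine ⟨fun i => if i = i₀ then 1 else σ i i₀ 1, τ, ?_, ?_⟩
  · intro i
    by_cases hi : i = i₀
    · simp [hi]
    · simp only [if_neg hi]
      exact hne i i₀ hi
  · intro i j hij t
    have h1 : σ i j t = σ i j 1 * τ t := by
      rw [hτ, ← alleq i j i₀ i₁ hij h01 t]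
      have := hne i j hij
      field_simp
    rw [h1]
    congr 1
    by_cases hi : i = i₀
    · subst hi
      have hj : j ≠ i := hij.symm
      simp only [if_pos rfl, if_neg hj, one_mul]
      obtain ⟨l, hli, hlj⟩ := exists_third h3 i j
      have e1 := hlam i j l hij hlj.symm hli.symm
      have e2 := hlam j i l hj hli.symm hlj.symm
      have n1 := hne i l hli.symm
      have n2 := hne j i hj
      have h5 : σ i j 1 * σ j i 1 = 1 := by
        have : σ i l 1 * (σ i j 1 * σ j i 1) = σ i l 1 * 1 := by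
          rw [mul_one]
          conv_rhs => rw [e1, e2]
          ring
        exact mul_left_cancel₀ n1 this
      field_simp
      exact h5
    · by_cases hj : j = i₀
      · subst hj
        simp [hi]
      · simp only [if_neg hi, if_neg hj]
        have e1 := hlam i j i₀ hij hj hi
        have n2 := hne j i₀ hj
        rw [e1]
        field_simp


theorem tv_inj (h2 : 2 ≤ Fintype.card ι) (P : PH ι F) (hu : P.u ≠ 0) (hφ : P.φ ≠ 0) {t s : F}
    (h : (pm (tv P t) : Matrix.ProjectiveSpecialLinearGroup ι F) = pm (tv P s)) : t = s := by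
  obtain ⟨w, hw, hw0⟩ := exists_ker1 h2 P.φ
  have h1 : tv P t = tv P s := eq_of_mk_eq _ P s w hw (tv_fix P t w hw0) h
  have h2' : tv P (t - s) = 1 := by
    rw [sub_eq_add_neg, ← tv_mul, ← tv_inv, h1, mul_inv_cancel]
  exact sub_eq_zero.mp ((tv_eq_one_iff P hu hφ _).mp h2')

theorem img_mul' {G : Type*} [Group G] (a b : MulAut G) (H : Subgroup G) :
    img (a * b) H = img a (img b H) := by
  ext x
  rw [mem_img, mem_img]
  constructor
  · rintro ⟨y, hy, rfl⟩
    exact ⟨b y, mem_img_of b H hy, rfl⟩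
  · rintro ⟨z, hz, rfl⟩
    rw [mem_img] at hz
    obtain ⟨y, hy, rfl⟩ := hz
    exact ⟨y, hy, rfl⟩

theorem img_inv_img {G : Type*} [Group G] (a : MulAut G) (H : Subgroup G) :
    img a⁻¹ (img a H) = H := by
  rw [← img_mul', inv_mul_cancel]
  ext x
  rw [mem_img]
  constructor
  · rintro ⟨y, hy, rfl⟩
    exact hy
  · intro hx
    exact ⟨x, hx, rfl⟩

theorem sP_Pij (τ : F ≃+* F) (i j : ι) (hij : i ≠ j) : sP τ (Pij F i j hij) = Pij F i j hij := by
  unfold sP Pij
  congr 1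
  · funext k
    simp only [Function.comp_apply, Pi.single_apply]
    split_ifs <;> simp
  · funext k
    simp only [Function.comp_apply, Pi.single_apply]
    split_ifs <;> simp

/-- the diagonal matrix in `GL` -/
def diagGL (d : ι → F) (hd : ∀ i, d i ≠ 0) : GL ι F :=
  ⟨Matrix.diagonal d, Matrix.diagonal (fun i => (d i)⁻¹), by
    rw [Matrix.diagonal_mul_diagonal]
    have : (fun i => d i * (d i)⁻¹) = fun _ => (1 : F) := by
      funext i
      exact mul_inv_cancel₀ (hd i)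
    rw [this, Matrix.diagonal_one], by
    rw [Matrix.diagonal_mul_diagonal]
    have : (fun i => (d i)⁻¹ * d i) = fun _ => (1 : F) := by
      funext i
      exact inv_mul_cancel₀ (hd i)
    rw [this, Matrix.diagonal_one]⟩

theorem diagGL_val (d : ι → F) (hd : ∀ i, d i ≠ 0) : (diagGL d hd).1 = Matrix.diagonal d := rfl

theorem diagGL_inv_val (d : ι → F) (hd : ∀ i, d i ≠ 0) :
    ((diagGL d hd)⁻¹).1 = Matrix.diagonal (fun i => (d i)⁻¹) := rfl

theorem tv_gP_diag (d : ι → F) (hd : ∀ i, d i ≠ 0) (i j : ι) (hij : i ≠ j) (c : F) :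
    tv (gP (diagGL d hd) (Pij F i j hij)) c = tv (Pij F i j hij) (d i * (d j)⁻¹ * c) := by
  apply tv_eq_of
  intro w
  have hu : (gP (diagGL d hd) (Pij F i j hij)).u = d i • Pi.single i 1 := by
    change Matrix.diagonal d *ᵥ Pi.single i 1 = _
    funext k
    rw [Matrix.mulVec_diagonal, Pi.smul_apply, Pi.single_apply]
    split_ifs with h
    · subst h; simp
    · simp
  have hφ : (gP (diagGL d hd) (Pij F i j hij)).φ = (d j)⁻¹ • Pi.single j 1 := by
    change Pi.single j 1 ᵥ* Matrix.diagonal (fun i => (d i)⁻¹) = _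
    funext k
    rw [Matrix.vecMul_diagonal, Pi.smul_apply, Pi.single_apply]
    split_ifs with h
    · subst h; simp
    · simp
  rw [hu, hφ]
  change (c * (((d j)⁻¹ • Pi.single j 1) ⬝ᵥ w)) • d i • Pi.single i 1 =
    (d i * (d j)⁻¹ * c * (Pi.single j 1 ⬝ᵥ w)) • Pi.single i 1
  rw [smul_dotProduct, smul_smul, smul_eq_mul]
  congr 1
  ring

theorem gen_eq (h2 : 2 ≤ Fintype.card ι)
    (β γ : Matrix.ProjectiveSpecialLinearGroup ι F ≃* Matrix.ProjectiveSpecialLinearGroup ι F)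
    (h : ∀ (i j : ι) (hij : i ≠ j) (t : F),
      β (pm (tv (Pij F i j hij) t)) = γ (pm (tv (Pij F i j hij) t))) : β = γ := by
  have : Nontrivial ι := Fintype.one_lt_card_iff_nontrivial.mp (by omega)
  ext y
  obtain ⟨s, rfl⟩ := pm_surjective y
  refine Cfsg.Agent.Lib.Helper15.SLn_transvection_induction
    (fun s => β (pm s) = γ (pm s)) ?_ ?_ s
  · intro i j hij c
    have : Matrix.SpecialLinearGroup.transvection hij c = tv (Pij F i j hij) c :=
      Subtype.ext (transvection_eq_tv i j hij c)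
    change β (pm (Matrix.SpecialLinearGroup.transvection hij c)) = _
    rw [this]
    exact h i j hij c
  · intro A B hA hB
    change β (pm (A * B)) = γ (pm (A * B))
    rw [map_mul, map_mul, map_mul, hA, hB]

theorem stageF (h3 : 3 ≤ Fintype.card ι) [Finite F]
    (β₁ : MulAut (Matrix.ProjectiveSpecialLinearGroup ι F))
    (hfix : ∀ (i j : ι) (hij : i ≠ j), img β₁ (Rb (Pij F i j hij)) = Rb (Pij F i j hij)) :
    ∃ (D : GL ι F) (τ : F ≃+* F), β₁ = cP D * fP τ := by
  have h2 : 2 ≤ Fintype.card ι := by omega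
  have ex : ∀ (i j : ι) (hij : i ≠ j) (t : F), ∃ s : F,
      β₁ (pm (tv (Pij F i j hij) t)) = pm (tv (Pij F i j hij) s) := by
    intro i j hij t
    have := mem_img_of β₁ (Rb (Pij F i j hij)) ((mem_Rb_iff _ _).mpr ⟨t, rfl⟩)
    rw [hfix] at this
    exact (mem_Rb_iff _ _).mp this
  choose σ₀ hσ₀ using ex
  let σ : ι → ι → F → F := fun i j t => if h : i ≠ j then σ₀ i j h t else t
  have hσ : ∀ (i j : ι) (hij : i ≠ j) (t : F),
      β₁ (pm (tv (Pij F i j hij) t)) = pm (tv (Pij F i j hij) (σ i j t)) := by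
    intro i j hij t
    simp only [σ, dif_pos hij]
    exact hσ₀ i j hij t
  have hadd : ∀ i j, i ≠ j → ∀ t u, σ i j (t + u) = σ i j t + σ i j u := by
    intro i j hij t u
    apply tv_inj h2 (Pij F i j hij) (Pij_u_ne _ _ _) (Pij_φ_ne _ _ _)
    rw [← hσ, ← tv_mul, ← tv_mul, map_mul, map_mul, map_mul, hσ, hσ]
  have hmul : ∀ i j l, i ≠ j → j ≠ l → i ≠ l → ∀ t u, σ i l (t * u) = σ i j t * σ j l u := by
    intro i j l hij hjl hil t u
    apply tv_inj h2 (Pij F i l hil) (Pij_u_ne _ _ _) (Pij_φ_ne _ _ _)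
    have hc : ∀ c d : F, tv (Pij F i j hij) c * tv (Pij F j l hjl) d * (tv (Pij F i j hij) c)⁻¹ *
        (tv (Pij F j l hjl) d)⁻¹ = tv (Pij F i l hil) (c * d) := by
      intro c d
      have h1 : (Pij F j l hjl).φ ⬝ᵥ (Pij F i j hij).u = 0 := by
        rw [Pij_dot, if_neg hil.symm]
      have := tv_commutator (Pij F i j hij) (Pij F j l hjl) (Pij F i l hil) h1 rfl rfl c d
      rw [Pij_dot, if_pos rfl, mul_one] at this
      exact this
    rw [← hσ, ← hc t u, ← hc (σ i j t) (σ j l u)]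
    simp only [map_mul, map_inv, hσ]
  have hne : ∀ i j, i ≠ j → σ i j 1 ≠ 0 := by
    intro i j hij h0
    have h1 := hσ i j hij 1
    rw [h0, tv_zero, map_one] at h1
    have h4 : (pm (tv (Pij F i j hij) 1) : Matrix.ProjectiveSpecialLinearGroup ι F) = 1 := by
      apply (MulEquiv.map_eq_one_iff β₁).mp h1
    exact mk_tv_ne_one h2 _ (Pij_u_ne _ _ _) (Pij_φ_ne _ _ _) h4
  obtain ⟨d, τ, hd, hστ⟩ := sigma_structure h3 σ hadd hmul hne
  have hτinj : Function.Injective τ := τ.injective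
  let τ' : F ≃+* F := RingEquiv.ofBijective τ ⟨hτinj, Finite.surjective_of_injective hτinj⟩
  refine ⟨diagGL d hd, τ', ?_⟩
  apply gen_eq h2
  intro i j hij t
  rw [hσ, MulAut.mul_apply, fP_tv, cP_tv, sP_Pij, tv_gP_diag, hστ i j hij]
  rfl


theorem single_ne_zero' (i : ι) : (Pi.single i 1 : ι → F) ≠ 0 := by
  intro h
  have := congrFun h i
  simp at this

theorem TP.symm' (h3 : 3 ≤ Fintype.card ι)
    {β : Matrix.ProjectiveSpecialLinearGroup ι F ≃* Matrix.ProjectiveSpecialLinearGroup ι F}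
    (hβ : RP β) (hTP : TP β) : TP β.symm := by
  have h2 : 2 ≤ Fintype.card ι := by omega
  rcases type_dichotomy h3 β.symm hβ.symm with h | h
  · exact h
  · exfalso
    obtain ⟨a₀, ha₀⟩ := exists_vec_ne_zero (F := F) h2
    obtain ⟨b, hb, hbe⟩ := hTP.1 a₀ ha₀
    have := h.1 b hb
    rw [← hbe, img_symm_img] at this
    exact not_isA_isB h3 ⟨a₀, ha₀, rfl⟩ this

theorem TP_of_isA (h3 : 3 ≤ Fintype.card ι)
    {β : Matrix.ProjectiveSpecialLinearGroup ι F ≃* Matrix.ProjectiveSpecialLinearGroup ι F}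
    (hβ : RP β) (a : ι → F) (ha : a ≠ 0) (hA : IsA (img β (Ab a))) : TP β := by
  rcases type_dichotomy h3 β hβ with h | h
  · exact h
  · exact absurd (h.1 a ha) (fun hb => not_isA_isB h3 hA hb)

theorem exists_frame (h3 : 3 ≤ Fintype.card ι)
    (β : Matrix.ProjectiveSpecialLinearGroup ι F ≃* Matrix.ProjectiveSpecialLinearGroup ι F)
    (hβ : RP β) (hTP : TP β) :
    ∃ g : GL ι F, ∀ i : ι, img β (Ab (Pi.single i 1)) = Ab (g.1 *ᵥ Pi.single i 1) := by
  have h2 : 2 ≤ Fintype.card ι := by omega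
  have ex : ∀ i : ι, ∃ b : ι → F, b ≠ 0 ∧ img β (Ab (Pi.single i 1)) = Ab b :=
    fun i => hTP.1 _ (single_ne_zero' i)
  choose b hb0 hb using ex
  set M : Matrix ι ι F := Matrix.of (fun r c => b c r) with hMdef
  have hM : ∀ i, M *ᵥ Pi.single i 1 = b i := by
    intro i
    funext r
    rw [Matrix.mulVec, dotProduct_single, mul_one]
    rfl
  have hdet : M.det ≠ 0 := by
    intro h0
    obtain ⟨ψ, hψ, hψM⟩ := Matrix.exists_vecMul_eq_zero_iff.mpr h0
    have hψb : ∀ i, ψ ⬝ᵥ b i = 0 := by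
      intro i
      have := congrFun hψM i
      exact this
    have TPs := TP.symm' h3 hβ hTP
    obtain ⟨φ, hφ, hφe⟩ := TPs.2 ψ hψ
    apply hφ
    funext i
    by_contra hne
    have hne' : φ ⬝ᵥ Pi.single i 1 ≠ 0 := by
      rwa [dotProduct_single, mul_one]
    have e1 := Ab_inf_Bb_of_ne h2 (Pi.single i 1) φ (single_ne_zero' i) hne'
    have e2 : img β (Ab (Pi.single i 1) ⊓ Bb φ) = Rb ⟨b i, ψ, hψb i⟩ := by
      rw [img_inf, hb i, ← hφe, img_img_symm, Ab_inf_Bb_of_eq h2 _ _ (hb0 i) hψ (hψb i)]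
    rw [e1, img_bot] at e2
    exact Rb_ne_bot h2 _ (hb0 i) hψ e2.symm
  refine ⟨Matrix.GeneralLinearGroup.mkOfDetNeZero M hdet, fun i => ?_⟩
  rw [hb i]
  congr 1
  exact (hM i).symm

theorem fix_of_frame (h3 : 3 ≤ Fintype.card ι)
    (β₁ : Matrix.ProjectiveSpecialLinearGroup ι F ≃* Matrix.ProjectiveSpecialLinearGroup ι F)
    (hβ₁ : RP β₁) (hA : ∀ i : ι, img β₁ (Ab (Pi.single i 1)) = Ab (Pi.single i (1 : F))) :
    ∀ (i j : ι) (hij : i ≠ j), img β₁ (Rb (Pij F i j hij)) = Rb (Pij F i j hij) := by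
  have h2 : 2 ≤ Fintype.card ι := by omega
  have hTP : ∀ i : ι, TP β₁ := fun i =>
    TP_of_isA h3 hβ₁ (Pi.single i 1) (single_ne_zero' i)
      ⟨Pi.single i 1, single_ne_zero' i, hA i⟩
  have hB : ∀ j : ι, img β₁ (Bb (Pi.single j 1)) = Bb (Pi.single j (1 : F)) := by
    intro j
    obtain ⟨ψ, hψ, hψe⟩ := (hTP j).2 (Pi.single j 1) (single_ne_zero' j)
    have hz : ∀ i, i ≠ j → ψ i = 0 := by
      intro i hij
      by_contra hne
      have hne' : ψ ⬝ᵥ Pi.single i 1 ≠ 0 := by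
        rwa [dotProduct_single, mul_one]
      have e1 := Ab_inf_Bb_of_ne h2 (Pi.single i 1) ψ (single_ne_zero' i) hne'
      rw [← hA i, ← hψe, ← img_inf, img_eq_bot_iff,
        Ab_inf_Bb_of_eq h2 _ _ (single_ne_zero' i) (single_ne_zero' j) (Pij F i j hij).inc] at e1
      exact Rb_ne_bot h2 _ (single_ne_zero' i) (single_ne_zero' j) e1
    have hψj : ψ j ≠ 0 := by
      intro h0
      apply hψ
      funext i
      by_cases hij : i = j
      · rw [hij, h0]; rfl
      · exact hz i hij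
    have hpar : Par (Pi.single j (1 : F)) ψ := by
      refine ⟨ψ j, hψj, ?_⟩
      funext i
      rw [Pi.smul_apply, Pi.single_apply, smul_eq_mul]
      by_cases hij : i = j
      · rw [if_pos hij, mul_one, hij]
      · rw [if_neg hij, mul_zero, hz i hij]
    rw [hψe]
    exact (Bb_eq_of_par hpar).symm
  intro i j hij
  have e : Rb (Pij F i j hij) = Ab (Pi.single i 1) ⊓ Bb (Pi.single j 1) :=
    (Ab_inf_Bb_of_eq h2 _ _ (single_ne_zero' i) (single_ne_zero' j) (Pij F i j hij).inc).symm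
  rw [e, img_inf, hA i, hB j]

theorem tP_mul_tP : (tP * tP : MulAut (Matrix.ProjectiveSpecialLinearGroup ι F)) = 1 := by
  ext x
  rw [MulAut.mul_apply, tP_tP]
  rfl

theorem main3_TP (h3 : 3 ≤ Fintype.card ι) [Finite F]
    (hall : ∀ γ : MulAut (Matrix.ProjectiveSpecialLinearGroup ι F), RP γ)
    (β : MulAut (Matrix.ProjectiveSpecialLinearGroup ι F)) (hTP : TP β) :
    ∃ (g : GL ι F) (τ : F ≃+* F), β = cP g * fP τ := by
  obtain ⟨g, hg⟩ := exists_frame h3 β (hall β) hTP
  have hA : ∀ i : ι, img ((cP g)⁻¹ * β) (Ab (Pi.single i 1)) = Ab (Pi.single i (1 : F)) := by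
    intro i
    rw [img_mul', hg i, ← img_cP_Ab, img_inv_img]
  have hfix := fix_of_frame h3 _ (hall ((cP g)⁻¹ * β)) hA
  obtain ⟨D, τ, h⟩ := stageF h3 _ hfix
  refine ⟨g * D, τ, ?_⟩
  rw [map_mul, mul_assoc, ← h, mul_inv_cancel_left]

theorem main3 (h3 : 3 ≤ Fintype.card ι) [Finite F]
    (hall : ∀ γ : MulAut (Matrix.ProjectiveSpecialLinearGroup ι F), RP γ)
    (β : MulAut (Matrix.ProjectiveSpecialLinearGroup ι F)) :
    ∃ (g : GL ι F) (τ : F ≃+* F) (γ : MulAut (Matrix.ProjectiveSpecialLinearGroup ι F)),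
      (γ = 1 ∨ γ = tP) ∧ β = cP g * fP τ * γ := by
  rcases type_dichotomy h3 β (hall β) with h | h
  · obtain ⟨g, τ, e⟩ := main3_TP h3 hall β h
    exact ⟨g, τ, 1, Or.inl rfl, by rw [mul_one, e]⟩
  · have hTP : TP (β * tP) := by
      constructor
      · intro a ha
        rw [img_mul', img_tP_Ab]
        exact h.2 a ha
      · intro φ hφ
        rw [img_mul', img_tP_Bb]
        exact h.1 φ hφ
    obtain ⟨g, τ, e⟩ := main3_TP h3 hall (β * tP) hTP
    refine ⟨g, τ, tP, Or.inr rfl, ?_⟩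
    rw [← e, mul_assoc, tP_mul_tP, mul_one]

end Cfsg.Agent.Lib.Helper6.AutPSL
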