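import Mathlib
import Cfsg.Agent.Lib.Helper6.AutPSL4
import Cfsg.Agent.S0242

/-!
# The unitriangular Sylow subgroup of `SL_n(F)` and the root subgroup at its centre
-/

set_option autoImplicit false
set_option linter.unusedSectionVars false
set_option linter.unusedSimpArgs false
set_option linter.unusedVariables false

namespace Cfsg.Agent.Lib.Helper6.AutPSL

open Matrix Cfsg.Agent.Lib.Helper6.SLRoot

variable {n : ℕ} {F : Type*} [Field F]

/-- upper unitriangular matrices -/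
def IsUT (M : Matrix (Fin n) (Fin n) F) : Prop :=
  (∀ i j, j < i → M i j = 0) ∧ ∀ i, M i i = 1

theorem IsUT.one : IsUT (1 : Matrix (Fin n) (Fin n) F) := by
  refine ⟨fun i j hji => ?_, fun i => ?_⟩
  · rw [Matrix.one_apply, if_neg (ne_of_gt hji)]
  · rw [Matrix.one_apply, if_pos rfl]

theorem IsUT.mul {M N : Matrix (Fin n) (Fin n) F} (hM : IsUT M) (hN : IsUT N) : IsUT (M * N) := by
  refine ⟨fun i j hji => ?_, fun i => ?_⟩
  · rw [Matrix.mul_apply]
    apply Finset.sum_eq_zero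
    intro k _
    by_cases hk : k < i
    · rw [hM.1 i k hk, zero_mul]
    · rw [hN.1 k j (lt_of_lt_of_le hji (not_lt.mp hk)), mul_zero]
  · rw [Matrix.mul_apply, Finset.sum_eq_single i]
    · rw [hM.2, hN.2, mul_one]
    · intro k _ hki
      rcases lt_or_gt_of_ne hki with h | h
      · rw [hM.1 i k h, zero_mul]
      · rw [hN.1 k i h, mul_zero]
    · intro h
      exact absurd (Finset.mem_univ i) h

theorem IsUT.pow {M : Matrix (Fin n) (Fin n) F} (hM : IsUT M) (k : ℕ) : IsUT (M ^ k) := by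
  induction k with
  | zero => rw [pow_zero]; exact IsUT.one
  | succ k ih => rw [pow_succ]; exact ih.mul hM

/-- the unitriangular subgroup -/
def UT (n : ℕ) (F : Type*) [Field F] [Finite F] :
    Subgroup (Matrix.SpecialLinearGroup (Fin n) F) where
  carrier := {s | IsUT s.1}
  mul_mem' := by
    intro a b ha hb
    exact IsUT.mul ha hb
  one_mem' := IsUT.one
  inv_mem' := by
    intro x hx
    have hpos := orderOf_pos x
    obtain ⟨k, hk⟩ : ∃ k, orderOf x = k + 1 := ⟨orderOf x - 1, by omega⟩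
    have h1 : x ^ k * x = 1 := by rw [← pow_succ, ← hk, pow_orderOf_eq_one]
    have h2 : x⁻¹ = x ^ k := (eq_inv_of_mul_eq_one_left h1).symm
    change IsUT (x⁻¹).1
    rw [h2]
    rw [Matrix.SpecialLinearGroup.coe_pow]
    exact IsUT.pow hx k

theorem mem_UT_iff [Finite F] (s : Matrix.SpecialLinearGroup (Fin n) F) :
    s ∈ UT n F ↔ IsUT s.1 := Iff.rfl

/-- the matrix of a function on the strictly upper triangular positions -/
def utMat (f : {p : Fin n × Fin n // p.1 < p.2} → F) : Matrix (Fin n) (Fin n) F :=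
  fun i j => if h : i < j then f ⟨(i, j), h⟩ else if i = j then 1 else 0

theorem utMat_isUT (f : {p : Fin n × Fin n // p.1 < p.2} → F) : IsUT (utMat f) := by
  refine ⟨fun i j hji => ?_, fun i => ?_⟩
  · unfold utMat
    rw [dif_neg (not_lt.mpr hji.le), if_neg (ne_of_gt hji)]
  · unfold utMat
    rw [dif_neg (lt_irrefl i), if_pos rfl]

theorem IsUT.det {M : Matrix (Fin n) (Fin n) F} (hM : IsUT M) : M.det = 1 := by
  rw [Matrix.det_of_isUpperTriangular (fun i j h => hM.1 i j h)]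
  simp only [hM.2, Finset.prod_const_one]

/-- the parametrisation of the unitriangular subgroup -/
def utEquiv [Finite F] : UT n F ≃ ({p : Fin n × Fin n // p.1 < p.2} → F) where
  toFun s := fun p => s.1.1 p.1.1 p.1.2
  invFun f := ⟨⟨utMat f, (utMat_isUT f).det⟩, utMat_isUT f⟩
  left_inv s := by
    apply Subtype.ext
    apply Subtype.ext
    ext i j
    change utMat (fun p : {p : Fin n × Fin n // p.1 < p.2} => s.1.1 p.1.1 p.1.2) i j = s.1.1 i j
    unfold utMat
    by_cases h : i < j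
    · rw [dif_pos h]
    · rw [dif_neg h]
      by_cases h' : i = j
      · rw [if_pos h', h']
        exact (s.2.2 j).symm
      · rw [if_neg h']
        exact (s.2.1 i j (lt_of_le_of_ne (not_lt.mp h) (Ne.symm h'))).symm
  right_inv f := by
    funext p
    change utMat f p.1.1 p.1.2 = f p
    unfold utMat
    rw [dif_pos p.2]

theorem card_pairs (n : ℕ) :
    Fintype.card {p : Fin n × Fin n // p.1 < p.2} = ∑ i ∈ Finset.range n, i := by
  rw [Fintype.card_subtype]
  have h1 : (Finset.univ.filter (fun p : Fin n × Fin n => p.1 < p.2)) =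
      (Finset.univ : Finset (Fin n)).biUnion (fun j => (Finset.Iio j).map
        ⟨fun i => (i, j), fun a b h => (Prod.ext_iff.mp h).1⟩) := by
    ext p
    simp only [Finset.mem_filter, Finset.mem_univ, true_and, Finset.mem_biUnion, Finset.mem_map,
      Finset.mem_Iio, Function.Embedding.coeFn_mk]
    constructor
    · intro h
      exact ⟨p.2, p.1, h, rfl⟩
    · rintro ⟨j, i, h, rfl⟩
      exact h
  rw [h1, Finset.card_biUnion]
  · simp only [Finset.card_map, Fin.card_Iio]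
    exact Fin.sum_univ_eq_sum_range (fun i => i) n
  · intro a _ b _ hab
    rw [Function.onFun, Finset.disjoint_left]
    intro p hp hp'
    simp only [Finset.mem_map, Finset.mem_Iio, Function.Embedding.coeFn_mk] at hp hp'
    obtain ⟨i, _, rfl⟩ := hp
    obtain ⟨i', _, h⟩ := hp'
    exact hab (Prod.ext_iff.mp h).2.symm

theorem card_UT [Fintype F] :
    Nat.card (UT n F) = Fintype.card F ^ (∑ i ∈ Finset.range n, i) := by
  classical
  rw [Nat.card_congr utEquiv, Nat.card_eq_fintype_card, Fintype.card_fun, card_pairs]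


theorem isPGroup_UT [Fintype F] {p f : ℕ} [Fact p.Prime] (hF : Fintype.card F = p ^ f) :
    IsPGroup p (UT n F) := by
  apply IsPGroup.of_card (n := f * ∑ i ∈ Finset.range n, i)
  rw [card_UT, hF, pow_mul]

theorem not_dvd_index_UT [Fintype F] {p f : ℕ} [Fact p.Prime] (hF : Fintype.card F = p ^ f)
    (hf : 1 ≤ f) (hn : 1 ≤ n) : ¬ p ∣ (UT n F).index := by
  have hp := (Fact.out : p.Prime)
  set q := Fintype.card F with hq
  have hq1 : 1 ≤ q := Fintype.card_pos
  have hpq : p ∣ q := by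
    rw [hF]
    exact dvd_pow_self p (by omega)
  have h1 : (q - 1) * Nat.card (Matrix.SpecialLinearGroup (Fin n) F) =
      ∏ i : Fin n, (q ^ n - q ^ (i : ℕ)) := Cfsg.Agent.S0242.result (F := F) rfl n hn
  have h2 : Nat.card (UT n F) * (UT n F).index = Nat.card (Matrix.SpecialLinearGroup (Fin n) F) :=
    Subgroup.card_mul_index _
  have h3 : ∏ i : Fin n, (q ^ n - q ^ (i : ℕ)) =
      q ^ (∑ i ∈ Finset.range n, i) * ∏ i : Fin n, (q ^ (n - (i : ℕ)) - 1) := by
    have e1 : ∀ i : Fin n, q ^ n - q ^ (i : ℕ) = q ^ (i : ℕ) * (q ^ (n - (i : ℕ)) - 1) := by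
      intro i
      have hi : (i : ℕ) + (n - (i : ℕ)) = n := by omega
      rw [Nat.mul_sub, mul_one, ← pow_add, hi]
    rw [Finset.prod_congr rfl (fun i _ => e1 i), Finset.prod_mul_distrib,
      Finset.prod_pow_eq_pow_sum, Fin.sum_univ_eq_sum_range (fun i => i) n]
  rw [← h2, card_UT, h3] at h1
  have h4 : (q - 1) * (UT n F).index = ∏ i : Fin n, (q ^ (n - (i : ℕ)) - 1) := by
    have hpos : 0 < q ^ (∑ i ∈ Finset.range n, i) := pow_pos hq1 _
    apply Nat.eq_of_mul_eq_mul_left hpos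
    rw [← h1]
    ring
  intro hdvd
  have h5 : p ∣ ∏ i : Fin n, (q ^ (n - (i : ℕ)) - 1) := by
    rw [← h4]
    exact Dvd.dvd.mul_left hdvd _
  obtain ⟨i, -, hi⟩ := (Prime.dvd_finset_prod_iff hp.prime _).mp h5
  have hk : 1 ≤ n - (i : ℕ) := by have := i.2; omega
  have h6 : p ∣ q ^ (n - (i : ℕ)) := Dvd.dvd.trans hpq (dvd_pow_self q (by omega))
  have h7 : 1 ≤ q ^ (n - (i : ℕ)) := Nat.one_le_pow _ _ hq1
  have h8 : p ∣ 1 := by
    have := (Nat.dvd_sub h6 hi)
    rwa [Nat.sub_sub_self h7] at this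
  exact hp.one_lt.ne' (Nat.dvd_one.mp h8)

/-- the first and last indices -/
def i0 (hn : 2 ≤ n) : Fin n := ⟨0, by omega⟩
def il (hn : 2 ≤ n) : Fin n := ⟨n - 1, by omega⟩

theorem i0_le (hn : 2 ≤ n) (i : Fin n) : i0 hn ≤ i := by
  rw [Fin.le_def]; exact Nat.zero_le _

theorem le_il (hn : 2 ≤ n) (i : Fin n) : i ≤ il hn := by
  rw [Fin.le_def]; have := i.2; change (i : ℕ) ≤ n - 1; omega

theorem i0_lt_il (hn : 2 ≤ n) : i0 hn < il hn := by
  rw [Fin.lt_def]; change 0 < n - 1; omega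

theorem i0_ne_il (hn : 2 ≤ n) : i0 hn ≠ il hn := ne_of_lt (i0_lt_il hn)

/-- the distinguished incident pair -/
def P0 (hn : 2 ≤ n) : PH (Fin n) F := Pij F (i0 hn) (il hn) (i0_ne_il hn)

theorem tv_Pij_val (i j : Fin n) (hij : i ≠ j) (c : F) (r s : Fin n) :
    (tv (Pij F i j hij) c).1 r s = (if r = s then 1 else 0) + (if r = i ∧ s = j then c else 0) := by
  change tvm (Pi.single i 1) (Pi.single j 1) c r s = _
  unfold tvm
  rw [Matrix.add_apply, Matrix.one_apply, Matrix.smul_apply, Matrix.vecMulVec_apply,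
    Pi.single_apply, Pi.single_apply, smul_eq_mul]
  congr 1
  by_cases h1 : r = i <;> by_cases h2 : s = j <;> simp [h1, h2]

theorem tv_Pij_mem_UT [Finite F] (i j : Fin n) (hij : i < j) (c : F) :
    tv (Pij F i j (ne_of_lt hij)) c ∈ UT n F := by
  rw [mem_UT_iff]
  refine ⟨fun r s hsr => ?_, fun r => ?_⟩
  · rw [tv_Pij_val, if_neg (ne_of_gt hsr), if_neg, add_zero]
    rintro ⟨rfl, rfl⟩
    exact absurd hij (not_lt.mpr hsr.le)
  · rw [tv_Pij_val, if_pos rfl, if_neg, add_zero]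
    rintro ⟨rfl, h⟩
    exact (ne_of_lt hij) h

theorem UT_col0 [Finite F] (hn : 2 ≤ n) (u : Matrix.SpecialLinearGroup (Fin n) F)
    (hu : u ∈ UT n F) : u.1 *ᵥ Pi.single (i0 hn) 1 = Pi.single (i0 hn) 1 := by
  funext r
  rw [Matrix.mulVec, dotProduct_single, mul_one, Pi.single_apply]
  by_cases h : r = i0 hn
  · rw [if_pos h, h]
    exact hu.2 _
  · rw [if_neg h]
    exact hu.1 r (i0 hn) (lt_of_le_of_ne (i0_le hn r) (Ne.symm h))

theorem UT_rowl [Finite F] (hn : 2 ≤ n) (u : Matrix.SpecialLinearGroup (Fin n) F)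
    (hu : u ∈ UT n F) : Pi.single (il hn) 1 ᵥ* u.1 = Pi.single (il hn) 1 := by
  funext s
  rw [Matrix.vecMul, single_dotProduct, one_mul, Pi.single_apply]
  by_cases h : s = il hn
  · rw [if_pos h, h]
    exact hu.2 _
  · rw [if_neg h]
    exact hu.1 (il hn) s (lt_of_le_of_ne (le_il hn s) h)

theorem comm_of_pm_comm [Finite F] (hn : 2 ≤ n) (z u : Matrix.SpecialLinearGroup (Fin n) F)
    (hz : z ∈ UT n F) (hu : u ∈ UT n F) (h : pm z * pm u = pm u * pm z) : z * u = u * z := by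
  obtain ⟨ζ, hζ⟩ := mk_eq_imp (z * u) (u * z) (by rw [map_mul, map_mul, h])
  have h1 := hζ (Pi.single (i0 hn) 1)
  rw [SLRoot.mul_apply, SLRoot.mul_apply, UT_col0 hn z hz, UT_col0 hn u hu, UT_col0 hn z hz] at h1
  have h2 := congrFun h1 (i0 hn)
  rw [Pi.smul_apply, Pi.single_eq_same, smul_eq_mul, mul_one] at h2
  apply sl_ext
  intro w
  rw [hζ w, ← h2, one_smul]

theorem col_of_comm {ι : Type*} [Fintype ι] [DecidableEq ι] (z : Matrix.SpecialLinearGroup ι F)
    (P : PH ι F) (hu : P.u ≠ 0) (hφ : P.φ ≠ 0) (h : z * tv P 1 = tv P 1 * z) :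
    ∃ c : F, c ≠ 0 ∧ z.1 *ᵥ P.u = c • P.u ∧ P.φ ᵥ* z.1 = c • P.φ := by
  have h1 : tv P 1 = tv (conjP z P) 1 := by
    rw [← conj_tv, h, mul_inv_cancel_right]
  obtain ⟨c, hc, e1, e2⟩ := tv_eq_imp P (conjP z P) hu hφ h1
  refine ⟨c, hc, e1, ?_⟩
  change P.φ = c • (P.φ ᵥ* (z⁻¹).1) at e2
  conv_lhs => rw [e2]
  rw [Matrix.smul_vecMul, row_inv']

theorem central_UT [Finite F] (hn : 2 ≤ n) (z : Matrix.SpecialLinearGroup (Fin n) F)
    (hz : z ∈ UT n F) (hcomm : ∀ u ∈ UT n F, z * u = u * z) : ∃ c : F, z = tv (P0 hn) c := by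
  have key : ∀ i j : Fin n, i < j →
      (∀ r, z.1 r i = if r = i then 1 else 0) ∧ (∀ s, z.1 j s = if s = j then 1 else 0) := by
    intro i j hij
    obtain ⟨c, hc, e1, e2⟩ := col_of_comm z (Pij F i j (ne_of_lt hij)) (Pij_u_ne _ _ _)
      (Pij_φ_ne _ _ _) (hcomm _ (tv_Pij_mem_UT i j hij 1))
    change z.1 *ᵥ Pi.single i 1 = c • Pi.single i 1 at e1
    change Pi.single j 1 ᵥ* z.1 = c • Pi.single j 1 at e2
    have hc1 : c = 1 := by
      have := congrFun e1 i
      rw [Matrix.mulVec, dotProduct_single, mul_one, Pi.smul_apply, Pi.single_eq_same, smul_eq_mul,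
        mul_one, hz.2] at this
      exact this.symm
    subst hc1
    constructor
    · intro r
      have := congrFun e1 r
      rw [Matrix.mulVec, dotProduct_single, mul_one, one_smul, Pi.single_apply] at this
      exact this
    · intro s
      have := congrFun e2 s
      rw [Matrix.vecMul, single_dotProduct, one_mul, one_smul, Pi.single_apply] at this
      exact this
  refine ⟨z.1 (i0 hn) (il hn), ?_⟩
  apply Subtype.ext
  ext r s
  change z.1 r s = (tv (Pij F (i0 hn) (il hn) (i0_ne_il hn)) _).1 r s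
  rw [tv_Pij_val]
  by_cases hs : s = il hn
  · by_cases hr : r = i0 hn
    · rw [hr, hs, if_neg (i0_ne_il hn), if_pos ⟨rfl, rfl⟩, zero_add]
    · have hr' : i0 hn < r := lt_of_le_of_ne (i0_le hn r) (Ne.symm hr)
      have e1 : (if r = i0 hn ∧ s = il hn then z.1 (i0 hn) (il hn) else 0) = 0 :=
        if_neg (fun h => hr h.1)
      rw [e1, add_zero, (key (i0 hn) r hr').2 s]
      by_cases hrs : r = s
      · rw [if_pos hrs, if_pos hrs.symm]
      · rw [if_neg hrs, if_neg (Ne.symm hrs)]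
  · have hs' : s < il hn := lt_of_le_of_ne (le_il hn s) hs
    have e1 : (if r = i0 hn ∧ s = il hn then z.1 (i0 hn) (il hn) else 0) = 0 :=
      if_neg (fun h => hs h.2)
    rw [e1, add_zero, (key s (il hn) hs').1 r]

theorem comm_tvP0 [Finite F] (hn : 2 ≤ n) (u : Matrix.SpecialLinearGroup (Fin n) F)
    (hu : u ∈ UT n F) (c : F) : u * tv (P0 hn) c = tv (P0 hn) c * u := by
  have h1 : u * tv (P0 hn) c * u⁻¹ = tv (P0 hn) c := by
    rw [conj_tv]
    apply tv_eq_of
    intro w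
    have e1 : (conjP u (P0 hn)).u = (P0 hn).u := UT_col0 hn u hu
    have e2 : (conjP u (P0 hn)).φ = (P0 hn).φ := UT_rowl hn u⁻¹ (inv_mem hu)
    rw [e1, e2]
  calc u * tv (P0 hn) c = u * tv (P0 hn) c * u⁻¹ * u := by group
    _ = tv (P0 hn) c * u := by rw [h1]

theorem central_iff [Finite F] (hn : 2 ≤ n) (x : Matrix.ProjectiveSpecialLinearGroup (Fin n) F) :
    (x ∈ (UT n F).map pm ∧ ∀ y ∈ (UT n F).map pm, x * y = y * x) ↔ x ∈ Rb (P0 hn) := by
  constructor
  · rintro ⟨hx, hcomm⟩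
    obtain ⟨z, hz, rfl⟩ := Subgroup.mem_map.mp hx
    have h1 : ∀ u ∈ UT n F, z * u = u * z := by
      intro u hu
      exact comm_of_pm_comm hn z u hz hu (hcomm _ (Subgroup.mem_map_of_mem _ hu))
    obtain ⟨c, rfl⟩ := central_UT hn z hz h1
    exact (mem_Rb_iff _ _).mpr ⟨c, rfl⟩
  · intro hx
    obtain ⟨c, rfl⟩ := (mem_Rb_iff _ _).mp hx
    refine ⟨Subgroup.mem_map_of_mem _ (tv_Pij_mem_UT _ _ (i0_lt_il hn) c), ?_⟩
    intro y hy
    obtain ⟨u, hu, rfl⟩ := Subgroup.mem_map.mp hy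
    rw [← map_mul, ← map_mul, comm_tvP0 hn u hu c]

theorem img_conj_Rb {ι : Type*} [Fintype ι] [DecidableEq ι] (s : Matrix.SpecialLinearGroup ι F)
    (P : PH ι F) : img (MulAut.conj (pm s)) (Rb P) = Rb (conjP s P) := by
  ext y
  rw [mem_img, mem_Rb_iff]
  constructor
  · rintro ⟨x, hx, rfl⟩
    obtain ⟨c, rfl⟩ := (mem_Rb_iff _ _).mp hx
    refine ⟨c, ?_⟩
    rw [MulAut.conj_apply, ← conj_tv, map_mul, map_mul, map_inv]
  · rintro ⟨c, rfl⟩
    refine ⟨pm (tv P c), (mem_Rb_iff _ _).mpr ⟨c, rfl⟩, ?_⟩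
    rw [MulAut.conj_apply, ← conj_tv, map_mul, map_mul, map_inv]

theorem central_img [Finite F] (hn : 2 ≤ n)
    (θ : MulAut (Matrix.ProjectiveSpecialLinearGroup (Fin n) F))
    (hθ : img θ ((UT n F).map pm) = (UT n F).map pm) :
    img θ (Rb (P0 hn)) ≤ Rb (P0 hn) := by
  intro y hy
  obtain ⟨x, hx, rfl⟩ := (mem_img _ _ _).mp hy
  rw [← central_iff hn] at hx ⊢
  refine ⟨?_, ?_⟩
  · rw [← hθ]
    exact mem_img_of θ _ hx.1
  · intro y hy
    rw [← hθ] at hy
    obtain ⟨y', hy', rfl⟩ := (mem_img _ _ _).mp hy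
    rw [← map_mul, ← map_mul, hx.2 y' hy']

theorem sylow_conj [Fintype F] {p f : ℕ} [Fact p.Prime] (hF : Fintype.card F = p ^ f)
    (hf : 1 ≤ f) (hn : 2 ≤ n) (γ : MulAut (Matrix.ProjectiveSpecialLinearGroup (Fin n) F)) :
    ∃ g : Matrix.ProjectiveSpecialLinearGroup (Fin n) F,
      img (MulAut.conj g * γ) ((UT n F).map pm) = (UT n F).map pm := by
  classical
  let S : Sylow p (Matrix.SpecialLinearGroup (Fin n) F) :=
    IsPGroup.toSylow (isPGroup_UT hF) (not_dvd_index_UT hF hf (by omega))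
  let Sb : Sylow p (Matrix.ProjectiveSpecialLinearGroup (Fin n) F) :=
    S.mapSurjective pm_surjective
  have hSb : (Sb : Subgroup _) = (UT n F).map pm := by
    rw [Sylow.coe_mapSurjective]
    rfl
  obtain ⟨g, hg⟩ := MulAction.exists_smul_eq (Matrix.ProjectiveSpecialLinearGroup (Fin n) F)
    (γ • Sb) Sb
  refine ⟨g, ?_⟩
  have key : ∀ x, x ∈ (Sb : Subgroup _) ↔ γ⁻¹ ((MulAut.conj g)⁻¹ x) ∈ (Sb : Subgroup _) := by
    intro x
    conv_lhs => rw [← hg]
    rw [Sylow.smul_def, Sylow.pointwise_smul_def, Subgroup.mem_pointwise_smul_iff_inv_smul_mem,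
      Sylow.pointwise_smul_def, Subgroup.mem_pointwise_smul_iff_inv_smul_mem]
    rfl
  rw [← hSb]
  ext x
  rw [mem_img', key x]
  rfl

theorem sylow_center [Fintype F] {p f : ℕ} [Fact p.Prime] (hF : Fintype.card F = p ^ f)
    (hf : 1 ≤ f) (hn : 2 ≤ n) (γ : MulAut (Matrix.ProjectiveSpecialLinearGroup (Fin n) F)) :
    ∃ Q : PH (Fin n) F, Q.u ≠ 0 ∧ Q.φ ≠ 0 ∧ img γ (Rb (P0 hn)) = Rb Q := by
  obtain ⟨g, hθ⟩ := sylow_conj hF hf hn γ
  set θ := MulAut.conj g * γ with hθdef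
  have h1 : img θ (Rb (P0 hn)) = Rb (P0 hn) := by
    apply le_antisymm (central_img hn θ hθ)
    have hθ' : img θ⁻¹ ((UT n F).map pm) = (UT n F).map pm := by
      conv_lhs => rw [← hθ]
      exact img_inv_img θ _
    have := img_mono θ (central_img hn θ⁻¹ hθ')
    have e : img θ (img θ⁻¹ (Rb (P0 hn))) = Rb (P0 hn) := by
      have := img_inv_img θ⁻¹ (Rb (P0 hn))
      rwa [inv_inv] at this
    rwa [e] at this
  obtain ⟨g', rfl⟩ := pm_surjective g
  have h2 : γ = MulAut.conj (pm g'⁻¹) * θ := by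
    rw [hθdef, ← mul_assoc, ← map_mul, ← map_mul, inv_mul_cancel, map_one, map_one, one_mul]
  refine ⟨conjP g'⁻¹ (P0 hn), conjP_u_ne _ _ (Pij_u_ne _ _ _), conjP_φ_ne _ _ (Pij_φ_ne _ _ _), ?_⟩
  rw [h2, img_mul', h1, img_conj_Rb]

end Cfsg.Agent.Lib.Helper6.AutPSL
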