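import Mathlib
import Cfsg.Agent.Lib.Helper6.AutPSL5

/-!
# Every automorphism of `PSL_n(F)` preserves root elements; the case `n ≥ 3`
-/

set_option autoImplicit false
set_option linter.unusedSectionVars false
set_option linter.unusedSimpArgs false
set_option linter.unusedVariables false

namespace Cfsg.Agent.Lib.Helper6.AutPSL

open Matrix Cfsg.Agent.Lib.Helper6.SLRoot Cfsg.Agent.H26

variable {F : Type*} [Field F]

theorem RE_tv {ι : Type*} [Fintype ι] [DecidableEq ι] (P : PH ι F) (hu : P.u ≠ 0) (hφ : P.φ ≠ 0)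
    (c : F) (hc : c ≠ 0) : RE (pm (tv P c)) := by
  refine ⟨⟨c • P.u, P.φ, by rw [dotProduct_smul, P.inc, smul_zero]⟩, smul_ne_zero hc hu, hφ, ?_⟩
  congr 1
  apply tv_eq_of
  intro w
  simp only [smul_smul, one_mul]
  rw [mul_comm]

theorem exists_conj_flag (m : ℕ) (P P' : PH (Fin (m + 3)) F) (hu : P.u ≠ 0) (hφ : P.φ ≠ 0)
    (hu' : P'.u ≠ 0) (hφ' : P'.φ ≠ 0) :
    ∃ h : Matrix.SpecialLinearGroup (Fin (m + 3)) F, Tg P' = Tg (conjP h P) := by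
  obtain ⟨g₁, h1⟩ := Tg_mem_Sg P hu hφ
  obtain ⟨g₂, h2⟩ := Tg_mem_Sg P' hu' hφ'
  refine ⟨g₂ * g₁⁻¹, ?_⟩
  rw [← conjBy_Tg, h1, conjBy_conjBy, inv_mul_cancel_right, h2]

theorem re_map [Fintype F] {p f : ℕ} [Fact p.Prime] (hF : Fintype.card F = p ^ f)
    (hf : 1 ≤ f) (m : ℕ) (γ : MulAut (Matrix.ProjectiveSpecialLinearGroup (Fin (m + 3)) F))
    (x : Matrix.ProjectiveSpecialLinearGroup (Fin (m + 3)) F) (hx : RE x) : RE (γ x) := by
  have hn : 2 ≤ m + 3 := by omega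
  have h2 : 2 ≤ Fintype.card (Fin (m + 3)) := by rw [Fintype.card_fin]; omega
  obtain ⟨P, hu, hφ, rfl⟩ := hx
  obtain ⟨h, hh⟩ := exists_conj_flag m (P0 hn) P (Pij_u_ne _ _ _) (Pij_φ_ne _ _ _) hu hφ
  have h1 : tv P 1 ∈ Tg (conjP h (P0 hn)) := hh ▸ tv_mem P 1
  obtain ⟨c, hc⟩ := h1
  rw [← conj_tv] at hc
  have hc0 : c ≠ 0 := by
    rintro rfl
    rw [tv_zero, mul_one, mul_inv_cancel] at hc
    exact one_ne_zero ((tv_eq_one_iff P hu hφ 1).mp hc)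
  obtain ⟨Q, hQu, hQφ, hQ⟩ := sylow_center hF hf hn γ
  have h3 : γ (pm (tv (P0 hn) c)) ∈ Rb Q := by
    rw [← hQ]
    exact mem_img_of γ _ ((mem_Rb_iff _ _).mpr ⟨c, rfl⟩)
  obtain ⟨c', hc'⟩ := (mem_Rb_iff _ _).mp h3
  have hc'0 : c' ≠ 0 := by
    rintro rfl
    rw [tv_zero, map_one] at hc'
    have := (MulEquiv.map_eq_one_iff γ).mp hc'
    exact (RE_tv (P0 hn) (Pij_u_ne _ _ _) (Pij_φ_ne _ _ _) c hc0).ne_one h2 this
  rw [hc, map_mul, map_mul, map_inv, map_mul, map_mul, map_inv, hc']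
  exact (RE_tv Q hQu hQφ c' hc'0).conj _

theorem rp_all [Fintype F] {p f : ℕ} [Fact p.Prime] (hF : Fintype.card F = p ^ f)
    (hf : 1 ≤ f) (m : ℕ) (γ : MulAut (Matrix.ProjectiveSpecialLinearGroup (Fin (m + 3)) F)) :
    RP γ := by
  intro x
  constructor
  · exact re_map hF hf m γ x
  · intro h
    have := re_map hF hf m γ⁻¹ _ h
    rwa [MulAut.inv_apply_self] at this

theorem aut_psl_ge3 [Fintype F] {p f : ℕ} [Fact p.Prime] (hF : Fintype.card F = p ^ f)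
    (hf : 1 ≤ f) (m : ℕ) (β : MulAut (Matrix.ProjectiveSpecialLinearGroup (Fin (m + 3)) F)) :
    ∃ (g : GL (Fin (m + 3)) F) (τ : F ≃+* F)
      (γ : MulAut (Matrix.ProjectiveSpecialLinearGroup (Fin (m + 3)) F)),
      (γ = 1 ∨ γ = tP) ∧ β = cP g * fP τ * γ := by
  have h3 : 3 ≤ Fintype.card (Fin (m + 3)) := by rw [Fintype.card_fin]; omega
  exact main3 h3 (rp_all hF hf m) β

end Cfsg.Agent.Lib.Helper6.AutPSL
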