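import Mathlib
import Cfsg.Agent.Lib.Helper6.AutPSL6

/-!
# Automorphisms of `PSL_2(F)`
-/

set_option autoImplicit false
set_option linter.unusedSectionVars false
set_option linter.unusedSimpArgs false
set_option linter.unusedVariables false

namespace Cfsg.Agent.Lib.Helper6.AutPSL

open Matrix Cfsg.Agent.Lib.Helper6.SLRoot Cfsg.Agent.H26

variable {F : Type*} [Field F]

theorem ne01' : (0 : Fin 2) ≠ 1 := by decide
theorem ne10' : (1 : Fin 2) ≠ 0 := by decide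

/-- the two standard pairs -/
def P01 : PH (Fin 2) F := Pij F (0 : Fin 2) 1 ne01'
def P10 : PH (Fin 2) F := Pij F (1 : Fin 2) 0 ne10'

theorem P01_u : (P01 : PH (Fin 2) F).u = Pi.single 0 1 := rfl
theorem P01_φ : (P01 : PH (Fin 2) F).φ = Pi.single 1 1 := rfl
theorem P10_u : (P10 : PH (Fin 2) F).u = Pi.single 1 1 := rfl
theorem P10_φ : (P10 : PH (Fin 2) F).φ = Pi.single 0 1 := rfl

theorem P01_u_ne : (P01 : PH (Fin 2) F).u ≠ 0 := Pij_u_ne _ _ _
theorem P01_φ_ne : (P01 : PH (Fin 2) F).φ ≠ 0 := Pij_φ_ne _ _ _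
theorem P10_u_ne : (P10 : PH (Fin 2) F).u ≠ 0 := Pij_u_ne _ _ _
theorem P10_φ_ne : (P10 : PH (Fin 2) F).φ ≠ 0 := Pij_φ_ne _ _ _

theorem card_fin2 : 2 ≤ Fintype.card (Fin 2) := by rw [Fintype.card_fin]

theorem par_of_dot_zero (a φ ψ : Fin 2 → F) (ha : a ≠ 0) (hφ : φ ≠ 0) (hψ : ψ ≠ 0)
    (h1 : φ ⬝ᵥ a = 0) (h2 : ψ ⬝ᵥ a = 0) : Par φ ψ := by
  rw [dotProduct, Fin.sum_univ_two] at h1 h2
  have hD : ψ 0 * φ 1 - ψ 1 * φ 0 = 0 := by
    by_contra hD
    apply ha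
    have e0 : (ψ 0 * φ 1 - ψ 1 * φ 0) * a 0 = 0 := by linear_combination φ 1 * h2 - ψ 1 * h1
    have e1 : (ψ 0 * φ 1 - ψ 1 * φ 0) * a 1 = 0 := by linear_combination ψ 0 * h1 - φ 0 * h2
    funext i
    fin_cases i
    · exact (mul_eq_zero.mp e0).resolve_left hD
    · exact (mul_eq_zero.mp e1).resolve_left hD
  rcases dep_or_indep ψ φ hφ with ⟨c, hc⟩ | ⟨i, j, hij⟩
  · refine ⟨c, ?_, hc⟩
    rintro rfl
    rw [zero_smul] at hc
    exact hψ hc
  · exfalso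
    have all : ∀ i j : Fin 2, ψ i * φ j - ψ j * φ i = 0 := by
      intro i j
      fin_cases i <;> fin_cases j
      · exact sub_self _
      · exact hD
      · have : ψ 1 * φ 0 - ψ 0 * φ 1 = 0 := by linear_combination -hD
        exact this
      · exact sub_self _
    exact hij (all i j)

theorem Rb_eq_of_par_u (P Q : PH (Fin 2) F) (hPu : P.u ≠ 0) (hPφ : P.φ ≠ 0) (hQφ : Q.φ ≠ 0)
    (h : Par P.u Q.u) : Rb P = Rb Q := by
  obtain ⟨c, hc, hu⟩ := h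
  have h1 : Q.φ ⬝ᵥ P.u = 0 := by
    have := Q.inc
    rw [hu, dotProduct_smul, smul_eq_mul] at this
    exact (mul_eq_zero.mp this).resolve_left hc
  obtain ⟨d, hd, hφ⟩ := par_of_dot_zero P.u P.φ Q.φ hPu hPφ hQφ P.inc h1
  unfold Rb
  rw [Tg_eq_of_smul P Q c d hc hd hu hφ]

theorem tv01_val (t : F) : (tv (P01 : PH (Fin 2) F) t).1 = !![1, t; 0, 1] := by
  ext r s
  unfold P01
  rw [tv_Pij_val]
  fin_cases r <;> fin_cases s <;> simp

theorem tv10_val (t : F) : (tv (P10 : PH (Fin 2) F) t).1 = !![1, 0; t, 1] := by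
  ext r s
  unfold P10
  rw [tv_Pij_val]
  fin_cases r <;> fin_cases s <;> simp

/-- the elements `x₀₁(t) x₁₀(s) x₀₁(t)` -/
def W (t s : F) : Matrix.SpecialLinearGroup (Fin 2) F := tv P01 t * tv P10 s * tv P01 t

theorem W_val (t s : F) : (W t s).1 = !![1 + t * s, t + (1 + t * s) * t; s, s * t + 1] := by
  unfold W
  rw [Matrix.SpecialLinearGroup.coe_mul, Matrix.SpecialLinearGroup.coe_mul, tv01_val, tv10_val]
  simp only [Matrix.mul_fin_two]
  congr 1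
  simp only [Matrix.vecCons_inj, and_true]
  refine ⟨⟨?_, ?_⟩, ⟨?_, ?_⟩⟩ <;> ring

theorem W_e0 (t s : F) :
    (W t s).1 *ᵥ Pi.single 0 1 = (1 + s * t) • Pi.single 0 1 + s • Pi.single 1 1 := by
  rw [W_val]
  funext r
  fin_cases r
  · simp [Matrix.mulVec, dotProduct, Fin.sum_univ_two]
    ring
  · simp [Matrix.mulVec, dotProduct, Fin.sum_univ_two]

theorem tv_smul_u {ι : Type*} [Fintype ι] [DecidableEq ι] (P : PH ι F) (c : F) :
    tv P c = tv ⟨c • P.u, P.φ, by rw [dotProduct_smul, P.inc, smul_zero]⟩ 1 := by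
  apply tv_eq_of
  intro w
  simp only [smul_smul, one_mul]
  rw [mul_comm]

theorem conjW_iff (t s : F) :
    img (MulAut.conj (pm (W t s))) (Rb (P01 : PH (Fin 2) F)) = Rb P10 ↔ 1 + s * t = 0 := by
  rw [img_conj_Rb]
  constructor
  · intro h
    have h1 : pm (tv (P10 : PH (Fin 2) F) 1) ∈ Rb (conjP (W t s) P01) := by
      rw [h]
      exact (mem_Rb_iff _ _).mpr ⟨1, rfl⟩
    obtain ⟨c, hc⟩ := (mem_Rb_iff _ _).mp h1
    rw [tv_smul_u _ c] at hc
    obtain ⟨c', hc', e1, -⟩ := mk_tv_eq_imp card_fin2 _ _ P10_u_ne P10_φ_ne hc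
    change c • ((W t s).1 *ᵥ Pi.single 0 1) = c' • Pi.single 1 1 at e1
    rw [W_e0] at e1
    have e2 := congrFun e1 0
    simp at e2
    rcases e2 with e2 | e2
    · subst e2
      have e3 := congrFun e1 1
      simp at e3
      exact absurd e3.symm hc'
    · exact e2
  · intro h
    have hs : s ≠ 0 := by
      rintro rfl
      rw [zero_mul, add_zero] at h
      exact one_ne_zero h
    symm
    have hu : (conjP (W t s) (P01 : PH (Fin 2) F)).u = s • Pi.single 1 1 := by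
      change (W t s).1 *ᵥ Pi.single 0 1 = _
      rw [W_e0, h, zero_smul, zero_add]
    apply Rb_eq_of_par_u _ _ P10_u_ne P10_φ_ne (conjP_φ_ne _ _ P01_φ_ne)
    exact ⟨s, hs, hu⟩

theorem img_conj_comm {G : Type*} [Group G] (γ : MulAut G) (g : G) (H : Subgroup G) :
    img γ (img (MulAut.conj g) H) = img (MulAut.conj (γ g)) (img γ H) := by
  ext y
  rw [mem_img, mem_img]
  constructor
  · rintro ⟨z, hz, rfl⟩
    obtain ⟨x, hx, hxz⟩ := (mem_img _ _ _).mp hz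
    subst hxz
    refine ⟨γ x, mem_img_of γ H hx, ?_⟩
    rw [MulAut.conj_apply, MulAut.conj_apply, map_mul, map_mul, map_inv]
  · rintro ⟨z, hz, rfl⟩
    obtain ⟨x, hx, hxz⟩ := (mem_img _ _ _).mp hz
    subst hxz
    refine ⟨MulAut.conj g x, mem_img_of _ H hx, ?_⟩
    rw [MulAut.conj_apply, MulAut.conj_apply, map_mul, map_mul, map_inv]

theorem s2_01 [Fintype F] {p f : ℕ} [Fact p.Prime] (hF : Fintype.card F = p ^ f) (hf : 1 ≤ f)
    (γ : MulAut (Matrix.ProjectiveSpecialLinearGroup (Fin 2) F)) :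
    ∃ Q : PH (Fin 2) F, Q.u ≠ 0 ∧ Q.φ ≠ 0 ∧ img γ (Rb P01) = Rb Q :=
  sylow_center hF hf (le_refl 2) γ

theorem s2_10 [Fintype F] {p f : ℕ} [Fact p.Prime] (hF : Fintype.card F = p ^ f) (hf : 1 ≤ f)
    (γ : MulAut (Matrix.ProjectiveSpecialLinearGroup (Fin 2) F)) :
    ∃ Q : PH (Fin 2) F, Q.u ≠ 0 ∧ Q.φ ≠ 0 ∧ img γ (Rb P10) = Rb Q := by
  obtain ⟨Q, hu, hφ, hQ⟩ := s2_01 hF hf γ
  have h1 : img (MulAut.conj (pm (W (1 : F) (-1)))) (Rb (P01 : PH (Fin 2) F)) = Rb P10 :=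
    (conjW_iff 1 (-1)).mpr (by ring)
  obtain ⟨s', hs'⟩ := pm_surjective (γ (pm (W (1 : F) (-1))))
  refine ⟨conjP s' Q, conjP_u_ne _ _ hu, conjP_φ_ne _ _ hφ, ?_⟩
  rw [← h1, img_conj_comm, hQ, ← hs', img_conj_Rb]

theorem gP_u_ne {ι : Type*} [Fintype ι] [DecidableEq ι] (g : GL ι F) (P : PH ι F) (hu : P.u ≠ 0) :
    (gP g P).u ≠ 0 := by
  intro h
  apply hu
  change g.1 *ᵥ P.u = 0 at h
  have := congrArg (fun v => (g⁻¹).1 *ᵥ v) h
  simp only [mulVec_mulVec, gl_inv_mul, one_mulVec, mulVec_zero] at this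
  exact this

theorem gP_φ_ne {ι : Type*} [Fintype ι] [DecidableEq ι] (g : GL ι F) (P : PH ι F) (hφ : P.φ ≠ 0) :
    (gP g P).φ ≠ 0 := by
  intro h
  apply hφ
  change P.φ ᵥ* (g⁻¹).1 = 0 at h
  have := congrArg (fun v => v ᵥ* g.1) h
  simp only [vecMul_vecMul, gl_inv_mul, vecMul_one, zero_vecMul] at this
  exact this

theorem Rb01_ne_Rb10 : Rb (P01 : PH (Fin 2) F) ≠ Rb P10 := by
  intro h
  have h1 : pm (tv (P01 : PH (Fin 2) F) 1) ∈ Rb (P10 : PH (Fin 2) F) := by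
    rw [← h]
    exact (mem_Rb_iff _ _).mpr ⟨1, rfl⟩
  obtain ⟨c, hc⟩ := (mem_Rb_iff _ _).mp h1
  rw [tv_smul_u _ c] at hc
  obtain ⟨c', hc', e1, -⟩ := mk_tv_eq_imp card_fin2 _ _ P01_u_ne P01_φ_ne hc
  change c • Pi.single 1 1 = c' • Pi.single 0 1 at e1
  have e2 := congrFun e1 0
  simp at e2
  exact hc' e2.symm

theorem frame2 [Fintype F] {p f : ℕ} [Fact p.Prime] (hF : Fintype.card F = p ^ f) (hf : 1 ≤ f)
    (β : MulAut (Matrix.ProjectiveSpecialLinearGroup (Fin 2) F)) :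
    ∃ g : GL (Fin 2) F, img ((cP g)⁻¹ * β) (Rb P01) = Rb P01 ∧
      img ((cP g)⁻¹ * β) (Rb P10) = Rb P10 := by
  obtain ⟨Q₀, hu₀, hφ₀, hQ₀⟩ := s2_01 hF hf β
  obtain ⟨Q₁, hu₁, hφ₁, hQ₁⟩ := s2_10 hF hf β
  set M : Matrix (Fin 2) (Fin 2) F := Matrix.of (fun r c => (![Q₀.u, Q₁.u] : Fin 2 → Fin 2 → F) c r)
    with hMdef
  have hM0 : M *ᵥ Pi.single 0 1 = Q₀.u := by
    funext r
    rw [Matrix.mulVec, dotProduct_single, mul_one]
    rfl
  have hM1 : M *ᵥ Pi.single 1 1 = Q₁.u := by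
    funext r
    rw [Matrix.mulVec, dotProduct_single, mul_one]
    rfl
  have hdet : M.det ≠ 0 := by
    intro h0
    obtain ⟨ψ, hψ, hψM⟩ := Matrix.exists_vecMul_eq_zero_iff.mpr h0
    have e0 : ψ ⬝ᵥ Q₀.u = 0 := congrFun hψM 0
    have e1 : ψ ⬝ᵥ Q₁.u = 0 := congrFun hψM 1
    rw [dotProduct_comm] at e0 e1
    have hpar : Par Q₀.u Q₁.u := par_of_dot_zero ψ Q₀.u Q₁.u hψ hu₀ hu₁ e0 e1
    have := Rb_eq_of_par_u Q₀ Q₁ hu₀ hφ₀ hφ₁ hpar
    rw [← hQ₀, ← hQ₁] at this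
    exact Rb01_ne_Rb10 (img_injective β this)
  set g : GL (Fin 2) F := Matrix.GeneralLinearGroup.mkOfDetNeZero M hdet with hg
  have hgM : g.1 = M := rfl
  refine ⟨g, ?_, ?_⟩
  · rw [img_mul', hQ₀, ← map_inv, img_cP_Rb]
    apply Rb_eq_of_par_u _ _ (gP_u_ne _ _ hu₀) (gP_φ_ne _ _ hφ₀) P01_φ_ne
    have : (gP g⁻¹ Q₀).u = (P01 : PH (Fin 2) F).u := by
      change (g⁻¹).1 *ᵥ Q₀.u = Pi.single 0 1
      rw [← hM0, ← hgM, mulVec_mulVec, gl_inv_mul, one_mulVec]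
    rw [this]
    exact Par.refl _
  · rw [img_mul', hQ₁, ← map_inv, img_cP_Rb]
    apply Rb_eq_of_par_u _ _ (gP_u_ne _ _ hu₁) (gP_φ_ne _ _ hφ₁) P10_φ_ne
    have : (gP g⁻¹ Q₁).u = (P10 : PH (Fin 2) F).u := by
      change (g⁻¹).1 *ᵥ Q₁.u = Pi.single 1 1
      rw [← hM1, ← hgM, mulVec_mulVec, gl_inv_mul, one_mulVec]
    rw [this]
    exact Par.refl _


/-! ### The algebra for `n = 2` -/

theorem sigma2_structure [Finite F] (σ σ' : F → F)
    (hadd : ∀ t u, σ (t + u) = σ t + σ u) (hadd' : ∀ t u, σ' (t + u) = σ' t + σ' u)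
    (h1 : σ 1 ≠ 0)
    (K1 : ∀ t s, s * t = -1 → σ t * σ' s = -1)
    (K2 : ∀ t u, t ≠ 0 → σ (t ^ 2 * u) = (σ t / σ 1) ^ 2 * σ u) :
    ∃ (lam : F) (τ : F →+* F), lam ≠ 0 ∧ (∀ t, σ t = lam * τ t) ∧ (∀ s, σ' s = lam⁻¹ * τ s) := by
  have hσ0 : σ 0 = 0 := by
    have := hadd 0 0
    rw [add_zero] at this
    exact left_eq_add.mp this
  have hσ'0 : σ' 0 = 0 := by
    have := hadd' 0 0
    rw [add_zero] at this
    exact left_eq_add.mp this
  set lam := σ 1 with hlam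
  set ρ : F → F := fun t => σ t / lam with hρ
  have ρ0 : ρ 0 = 0 := by simp only [hρ, hσ0, zero_div]
  have ρ1 : ρ 1 = 1 := div_self h1
  have ρadd : ∀ t u, ρ (t + u) = ρ t + ρ u := by
    intro t u
    simp only [hρ, hadd, add_div]
  have ρneg : ∀ t, ρ (-t) = -ρ t := by
    intro t
    have := ρadd t (-t)
    rw [add_neg_cancel, ρ0] at this
    exact (neg_eq_of_add_eq_zero_right this.symm).symm
  have ρsq : ∀ t u, ρ (t ^ 2 * u) = ρ t ^ 2 * ρ u := by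
    intro t u
    by_cases ht : t = 0
    · subst ht
      rw [ρ0]
      simp [ρ0]
    · simp only [hρ]
      rw [K2 t u ht]
      field_simp
  have ρsq1 : ∀ t, ρ (t ^ 2) = ρ t ^ 2 := by
    intro t
    have := ρsq t 1
    rwa [mul_one, ρ1, mul_one] at this
  have good_sq : ∀ t u, ρ (t ^ 2 * u) = ρ (t ^ 2) * ρ u := by
    intro t u
    rw [ρsq, ρsq1]
  have all_good : ∀ s u, ρ (s * u) = ρ s * ρ u := by
    intro s u
    by_cases h2 : (2 : F) = 0
    · have hchar : ringChar F = 2 :=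
        CharP.ringChar_of_prime_eq_zero Nat.prime_two (by exact_mod_cast h2)
      obtain ⟨r, hr⟩ := FiniteField.isSquare_of_char_two hchar s
      rw [hr, ← sq]
      exact good_sq r u
    · have hs : s = ((s + 1) / 2) ^ 2 + -(((s - 1) / 2) ^ 2) := by
        field_simp
        ring
      rw [hs, add_mul, ρadd, ρadd, neg_mul, ρneg, ρneg, good_sq, good_sq]
      ring
  let τ : F →+* F :=
    { toFun := ρ
      map_one' := ρ1
      map_mul' := all_good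
      map_zero' := ρ0
      map_add' := ρadd }
  have hτ : ∀ t, τ t = ρ t := fun t => rfl
  refine ⟨lam, τ, h1, ?_, ?_⟩
  · intro t
    rw [hτ]
    simp only [hρ]
    field_simp
  · intro s
    by_cases hs : s = 0
    · subst hs
      rw [hσ'0, map_zero, mul_zero]
    · have e1 := K1 (-s⁻¹) s (by field_simp)
      have e2 : σ (-s⁻¹) = lam * τ (-s⁻¹) := by
        rw [hτ]
        simp only [hρ]
        field_simp
      rw [e2, map_neg, map_inv₀] at e1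
      have hτs : τ s ≠ 0 := (map_ne_zero τ).mpr hs
      field_simp at e1 ⊢
      linear_combination -e1

/-- diagonal elements of `SL_2` -/
def Dm (t : F) (ht : t ≠ 0) : Matrix.SpecialLinearGroup (Fin 2) F :=
  ⟨!![t, 0; 0, t⁻¹], by rw [Matrix.det_fin_two_of]; field_simp; ring⟩

theorem Dm_val (t : F) (ht : t ≠ 0) : (Dm t ht).1 = !![t, 0; 0, t⁻¹] := rfl

theorem W_eq_D (t : F) (ht : t ≠ 0) : W t (-t⁻¹) = Dm t ht * W 1 (-1) := by
  apply Subtype.ext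
  rw [Matrix.SpecialLinearGroup.coe_mul, W_val, W_val, Dm_val]
  simp only [Matrix.mul_fin_two]
  congr 1
  simp only [Matrix.vecCons_inj, and_true]
  refine ⟨⟨?_, ?_⟩, ⟨?_, ?_⟩⟩ <;> field_simp <;> ring

theorem D_mul_tv (t : F) (ht : t ≠ 0) (u : F) :
    Dm t ht * tv P01 u = tv P01 (t ^ 2 * u) * Dm t ht := by
  apply Subtype.ext
  rw [Matrix.SpecialLinearGroup.coe_mul, Matrix.SpecialLinearGroup.coe_mul, tv01_val, tv01_val,
    Dm_val]
  simp only [Matrix.mul_fin_two]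
  congr 1
  simp only [Matrix.vecCons_inj, and_true]
  refine ⟨⟨?_, ?_⟩, ⟨?_, ?_⟩⟩ <;> field_simp <;> ring

theorem Dm_mul_inv (a b : F) (ha : a ≠ 0) (hb : b ≠ 0) :
    Dm a ha * (Dm b hb)⁻¹ = Dm (a / b) (div_ne_zero ha hb) := by
  rw [mul_inv_eq_iff_eq_mul]
  apply Subtype.ext
  rw [Matrix.SpecialLinearGroup.coe_mul, Dm_val, Dm_val, Dm_val]
  simp only [Matrix.mul_fin_two]
  congr 1
  simp only [Matrix.vecCons_inj, and_true]
  refine ⟨⟨?_, ?_⟩, ⟨?_, ?_⟩⟩ <;> field_simp <;> ring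

theorem stageF2 [Finite F] (β₁ : MulAut (Matrix.ProjectiveSpecialLinearGroup (Fin 2) F))
    (h01 : img β₁ (Rb P01) = Rb P01) (h10 : img β₁ (Rb P10) = Rb P10) :
    ∃ (D : GL (Fin 2) F) (τ : F ≃+* F), β₁ = cP D * fP τ := by
  have ex01 : ∀ t : F, ∃ s : F, β₁ (pm (tv P01 t)) = pm (tv P01 s) := by
    intro t
    have := mem_img_of β₁ (Rb P01) ((mem_Rb_iff _ _).mpr ⟨t, rfl⟩)
    rw [h01] at this
    exact (mem_Rb_iff _ _).mp this
  have ex10 : ∀ t : F, ∃ s : F, β₁ (pm (tv P10 t)) = pm (tv P10 s) := by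
    intro t
    have := mem_img_of β₁ (Rb P10) ((mem_Rb_iff _ _).mpr ⟨t, rfl⟩)
    rw [h10] at this
    exact (mem_Rb_iff _ _).mp this
  choose σ hσ using ex01
  choose σ' hσ' using ex10
  have hadd : ∀ t u, σ (t + u) = σ t + σ u := by
    intro t u
    apply tv_inj card_fin2 P01 P01_u_ne P01_φ_ne
    rw [← hσ, ← tv_mul, ← tv_mul, map_mul, map_mul, map_mul, hσ, hσ]
  have hadd' : ∀ t u, σ' (t + u) = σ' t + σ' u := by
    intro t u
    apply tv_inj card_fin2 P10 P10_u_ne P10_φ_ne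
    rw [← hσ', ← tv_mul, ← tv_mul, map_mul, map_mul, map_mul, hσ', hσ']
  have hinj : ∀ t, σ t = 0 → t = 0 := by
    intro t h0
    have e1 := hσ t
    rw [h0, tv_zero, map_one] at e1
    have e2 := (MulEquiv.map_eq_one_iff β₁).mp e1
    apply tv_inj card_fin2 P01 P01_u_ne P01_φ_ne
    rw [e2, tv_zero, map_one]
  have hW : ∀ t s, β₁ (pm (W t s)) = pm (W (σ t) (σ' s)) := by
    intro t s
    unfold W
    simp only [map_mul, hσ, hσ']
  have K1 : ∀ t s, s * t = -1 → σ t * σ' s = -1 := by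
    intro t s hst
    have e := (conjW_iff t s).mpr (by rw [hst]; ring)
    have e2 := congrArg (img β₁) e
    rw [img_conj_comm, h01, h10, hW] at e2
    have := (conjW_iff _ _).mp e2
    linear_combination this
  have h1 : σ 1 ≠ 0 := fun h => one_ne_zero (hinj 1 h)
  have K1' : ∀ t, t ≠ 0 → σ' (-t⁻¹) = -(σ t)⁻¹ := by
    intro t ht
    have hne : σ t ≠ 0 := fun h => ht (hinj t h)
    have := K1 t (-t⁻¹) (by field_simp)
    have h3 : σ' (-t⁻¹) = (σ t)⁻¹ * (σ t * σ' (-t⁻¹)) := by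
      rw [← mul_assoc, inv_mul_cancel₀ hne, one_mul]
    rw [h3, this, mul_neg, mul_one]
  have hD : ∀ t (ht : t ≠ 0) (hne : σ t / σ 1 ≠ 0),
      β₁ (pm (Dm t ht)) = pm (Dm (σ t / σ 1) hne) := by
    intro t ht hne
    have hst : σ t ≠ 0 := fun h => ht (hinj t h)
    have e1 : Dm t ht = W t (-t⁻¹) * (W 1 (-1))⁻¹ := by
      rw [W_eq_D t ht, mul_inv_cancel_right]
    have e2 : W (1 : F) (-1) = W 1 (-(1 : F)⁻¹) := by rw [inv_one]
    rw [e1, map_mul, map_mul, map_inv, map_inv, hW, e2, hW, K1' t ht, K1' 1 one_ne_zero,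
      W_eq_D (σ t) hst, W_eq_D (σ 1) h1, ← map_inv, ← map_mul, ← Dm_mul_inv (σ t) (σ 1) hst h1]
    congr 1
    group
  have K2 : ∀ t u, t ≠ 0 → σ (t ^ 2 * u) = (σ t / σ 1) ^ 2 * σ u := by
    intro t u ht
    have hst : σ t ≠ 0 := fun h => ht (hinj t h)
    have hne : σ t / σ 1 ≠ 0 := div_ne_zero hst h1
    apply tv_inj card_fin2 P01 P01_u_ne P01_φ_ne
    have e1 := congrArg (fun x => β₁ (pm x)) (D_mul_tv t ht u)
    simp only [map_mul, hσ, hD t ht hne] at e1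
    have e2 := congrArg (fun x => (pm x : Matrix.ProjectiveSpecialLinearGroup (Fin 2) F))
      (D_mul_tv (σ t / σ 1) hne (σ u))
    simp only [map_mul] at e2
    rw [e2] at e1
    exact (mul_right_cancel e1).symm
  obtain ⟨lam, τ, hlam, hστ, hσ'τ⟩ := sigma2_structure σ σ' hadd hadd' h1 K1 K2
  have hτinj : Function.Injective τ := τ.injective
  let τ' : F ≃+* F := RingEquiv.ofBijective τ ⟨hτinj, Finite.surjective_of_injective hτinj⟩
  have hd : ∀ i : Fin 2, (![lam, 1] : Fin 2 → F) i ≠ 0 := by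
    intro i
    fin_cases i
    · exact hlam
    · exact one_ne_zero
  refine ⟨diagGL ![lam, 1] hd, τ', ?_⟩
  apply gen_eq card_fin2
  intro i j hij t
  fin_cases i <;> fin_cases j
  · exact absurd rfl hij
  · change β₁ (pm (tv P01 t)) = (cP (diagGL ![lam, 1] hd) * fP τ' : MulAut (Matrix.ProjectiveSpecialLinearGroup (Fin 2) F)) (pm (tv P01 t))
    rw [hσ, MulAut.mul_apply, fP_tv, cP_tv]
    unfold P01
    rw [sP_Pij, tv_gP_diag, hστ]
    congr 2
    simp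
    left
    rfl
  · change β₁ (pm (tv P10 t)) = (cP (diagGL ![lam, 1] hd) * fP τ' : MulAut (Matrix.ProjectiveSpecialLinearGroup (Fin 2) F)) (pm (tv P10 t))
    rw [hσ', MulAut.mul_apply, fP_tv, cP_tv]
    unfold P10
    rw [sP_Pij, tv_gP_diag, hσ'τ]
    congr 2
    simp
    left
    rfl
  · exact absurd rfl hij

theorem aut_psl_two [Fintype F] {p f : ℕ} [Fact p.Prime] (hF : Fintype.card F = p ^ f)
    (hf : 1 ≤ f) (β : MulAut (Matrix.ProjectiveSpecialLinearGroup (Fin 2) F)) :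
    ∃ (g : GL (Fin 2) F) (τ : F ≃+* F), β = cP g * fP τ := by
  obtain ⟨g, h01, h10⟩ := frame2 hF hf β
  obtain ⟨D, τ, h⟩ := stageF2 _ h01 h10
  refine ⟨g * D, τ, ?_⟩
  rw [map_mul, mul_assoc, ← h, mul_inv_cancel_left]

end Cfsg.Agent.Lib.Helper6.AutPSL
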