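import Mathlib
import Cfsg.Agent.Lib.Helper6.SUGen6

/-!
# `SU_n(q)` acts primitively on the isotropic points
-/

set_option autoImplicit false
open Cfsg
open scoped LinearAlgebra.Projectivization

namespace Cfsg.Agent.Lib.Helper6.SUG

open Matrix Module Cfsg.Agent.Lib.Helper6 Cfsg.Agent.S0779 Cfsg.Agent.S0781
open scoped Pointwise

section
variable {F : Type*} [Field F] [Fintype F] {q n : ℕ}

/-- the general unitary Siegel element `x ↦ x + h(x,u) w - h(x,w) u + b h(x,u) u` -/
def siegGm (q : ℕ) (u w : Fin n → F) (b : F) : Matrix (Fin n) (Fin n) F :=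
  P q 1 w u * (P q (-1) u w * P q b u u)

theorem siegGm_mulVec (u w : Fin n → F) (b : F) (huu : hermForm n F q u u = 0)
    (huw : hermForm n F q u w = 0) (x : Fin n → F) :
    siegGm q u w b *ᵥ x =
      x + hermForm n F q x u • w + (b * hermForm n F q x u - hermForm n F q x w) • u := by
  unfold siegGm
  rw [← mulVec_mulVec, ← mulVec_mulVec, P_mulVec, P_mulVec, P_mulVec]
  simp only [herm_add_left, herm_smul_left, huu, huw, mul_zero, add_zero]
  module

theorem siegGm_det (u w : Fin n → F) (b : F) (huu : hermForm n F q u u = 0)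
    (huw : hermForm n F q u w = 0) (hwu : hermForm n F q w u = 0) :
    (siegGm q u w b).det = 1 := by
  unfold siegGm
  rw [det_mul, det_mul, P_det, P_det, P_det, huu, huw, hwu]
  ring

theorem siegGm_pres (hF : Fintype.card F = q ^ 2) (u w : Fin n → F) (b : F)
    (huu : hermForm n F q u u = 0) (hwu : hermForm n F q w u = 0)
    (hb : b + b ^ q + hermForm n F q w w = 0) (x y : Fin n → F) :
    hermForm n F q (siegGm q u w b *ᵥ x) (siegGm q u w b *ᵥ y) = hermForm n F q x y := by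
  have huw := herm_swap_zero hF hwu
  rw [siegGm_mulVec u w b huu huw, siegGm_mulVec u w b huu huw]
  simp only [herm_add_left, herm_add_right hF, herm_smul_left, herm_smul_right, huu, huw, hwu,
    sub_pow_q hF, mul_pow, herm_conj hF]
  linear_combination (hermForm n F q x u * hermForm n F q u y) * hb

/-- the general unitary Siegel element -/
def siegG (hF : Fintype.card F = q ^ 2) (u w : Fin n → F) (b : F)
    (huu : hermForm n F q u u = 0) (hwu : hermForm n F q w u = 0)
    (hb : b + b ^ q + hermForm n F q w w = 0) : ↥(Cfsg.SU n F q) :=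
  mkSU (siegGm q u w b) (siegGm_det u w b huu (herm_swap_zero hF hwu) hwu)
    (siegGm_pres hF u w b huu hwu hb)

theorem av_siegG (hF : Fintype.card F = q ^ 2) (u w : Fin n → F) (b : F)
    (huu : hermForm n F q u u = 0) (hwu : hermForm n F q w u = 0)
    (hb : b + b ^ q + hermForm n F q w w = 0) (x : Fin n → F) :
    av (siegG hF u w b huu hwu hb) x =
      x + hermForm n F q x u • w + (b * hermForm n F q x u - hermForm n F q x w) • u :=
  siegGm_mulVec u w b huu (herm_swap_zero hF hwu) x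

/-- the stabiliser of an isotropic vector is transitive on its hyperbolic partners -/
theorem exists_fix_move_gen (hF : Fintype.card F = q ^ 2) (u v v' : Fin n → F)
    (huu : hermForm n F q u u = 0) (hvv : hermForm n F q v v = 0)
    (hv'v' : hermForm n F q v' v' = 0) (hvu : hermForm n F q v u = 1)
    (hv'u : hermForm n F q v' u = 1) :
    ∃ g : ↥(Cfsg.SU n F q), av g u = u ∧ av g v = v' := by
  have huv : hermForm n F q u v = 1 := by rw [← herm_conj hF, hvu, one_pow]
  obtain ⟨α, hα⟩ : ∃ α : F, α = hermForm n F q (v' - v) v := ⟨_, rfl⟩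
  obtain ⟨w, hw⟩ : ∃ w : Fin n → F, w = v' - v - α • u := ⟨_, rfl⟩
  have hwu : hermForm n F q w u = 0 := by
    rw [hw, herm_sub_left', herm_sub_left', herm_smul_left, huu, hvu, hv'u]
    ring
  have hwv : hermForm n F q w v = 0 := by
    rw [hw, herm_sub_left', herm_smul_left, huv, ← hα]
    ring
  have huw := herm_swap_zero hF hwu
  have hvw := herm_swap_zero hF hwv
  have hv'e : v' = v + w + α • u := by rw [hw]; abel
  have hb : α + α ^ q + hermForm n F q w w = 0 := by
    have h := hv'v'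
    rw [hv'e] at h
    simp only [herm_add_left, herm_add_right hF, herm_smul_left, herm_smul_right, huu, hvv, hvu,
      huv, hwu, huw, hwv, hvw] at h
    linear_combination h
  refine ⟨siegG hF u w α huu hwu hb, ?_, ?_⟩
  · rw [av_siegG, huu, huw]
    simp
  · rw [av_siegG, hvu, hvw, hv'e]
    module

theorem herm_rep_mk (v : Fin n → F) (hv : v ≠ 0) :
    hermForm n F q (Projectivization.mk F v hv).rep (Projectivization.mk F v hv).rep = 0 ↔
      hermForm n F q v v = 0 := by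
  obtain ⟨a, ha⟩ := Projectivization.exists_smul_eq_mk_rep F v hv
  rw [← ha, Units.smul_def, herm_smul_left, herm_smul_right]
  constructor
  · intro h
    rcases mul_eq_zero.mp h with h | h
    · exact absurd h a.ne_zero
    · rcases mul_eq_zero.mp h with h | h
      · exact absurd h (pow_ne_zero _ a.ne_zero)
      · exact h
  · intro h
    rw [h, mul_zero, mul_zero]

theorem av_ne_zero (g : ↥(Cfsg.SU n F q)) {x : Fin n → F} (hx : x ≠ 0) : av g x ≠ 0 := by
  intro h
  apply hx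
  have := av_inv_av g x
  rw [h] at this
  rw [← this]
  unfold av
  rw [mulVec_zero]

theorem smul_mk_SU (g : ↥(Cfsg.SU n F q)) (v : Fin n → F) (hv : v ≠ 0) :
    g • Projectivization.mk F v hv = Projectivization.mk F (av g v) (av_ne_zero g hv) := rfl

/-- the isotropic points -/
def isoPts (n : ℕ) (F : Type*) [Field F] [Fintype F] (q : ℕ) :
    SubMulAction ↥(Cfsg.SU n F q) (ℙ F (Fin n → F)) where
  carrier := {p | hermForm n F q p.rep p.rep = 0}
  smul_mem' := by
    intro g p hp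
    induction p using Projectivization.ind with
    | h v hv =>
      rw [Set.mem_setOf_eq, herm_rep_mk] at hp
      rw [Set.mem_setOf_eq, smul_mk_SU, herm_rep_mk, herm_av]
      exact hp

noncomputable instance (priority := 5000) instMulActionIsoPts :
    MulAction ↥(Cfsg.SU n F q) ↥(isoPts n F q) := SubMulAction.mulAction' (isoPts n F q)

noncomputable instance (priority := 5000) instSMulIsoPts :
    SMul ↥(Cfsg.SU n F q) ↥(isoPts n F q) := (instMulActionIsoPts (n := n) (F := F) (q := q)).toSMul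

/-- the isotropic point spanned by an isotropic vector -/
def ipt (u : Fin n → F) (hu0 : u ≠ 0) (hu : hermForm n F q u u = 0) : ↥(isoPts n F q) :=
  ⟨Projectivization.mk F u hu0, (herm_rep_mk u hu0).mpr hu⟩

theorem exists_ipt (x : ↥(isoPts n F q)) :
    ∃ (u : Fin n → F) (hu0 : u ≠ 0) (hu : hermForm n F q u u = 0), x = ipt u hu0 hu := by
  obtain ⟨p, hp⟩ := x
  induction p using Projectivization.ind with
  | h v hv =>
    exact ⟨v, hv, (herm_rep_mk v hv).mp hp, rfl⟩

theorem smul_ipt (g : ↥(Cfsg.SU n F q)) (u : Fin n → F) (hu0 : u ≠ 0)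
    (hu : hermForm n F q u u = 0) :
    g • ipt u hu0 hu = ipt (av g u) (av_ne_zero g hu0) (by rw [herm_av]; exact hu) := rfl

theorem ipt_eq_ipt_iff (u u' : Fin n → F) (hu0 : u ≠ 0) (hu : hermForm n F q u u = 0)
    (hu0' : u' ≠ 0) (hu' : hermForm n F q u' u' = 0) :
    ipt u hu0 hu = ipt u' hu0' hu' ↔ ∃ a : F, a • u' = u := by
  rw [← Projectivization.mk_eq_mk_iff' F u u' hu0 hu0']
  constructor
  · intro h
    exact congrArg Subtype.val h
  · intro h
    exact Subtype.ext h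

theorem ipt_congr (u u' : Fin n → F) (hu0 : u ≠ 0) (hu : hermForm n F q u u = 0) (h : u = u') :
    ipt u hu0 hu = ipt u' (h ▸ hu0) (h ▸ hu) := by
  subst h; rfl

/-- if `g` fixes `x` and `⟨x⟩, ⟨y⟩ ∈ B` then `⟨g y⟩ ∈ B` -/
theorem block_step_ipt {B : Set ↥(isoPts n F q)} (hB : MulAction.IsBlock ↥(Cfsg.SU n F q) B)
    (g : ↥(Cfsg.SU n F q)) (x y : Fin n → F) (hx0 : x ≠ 0) (hx : hermForm n F q x x = 0)
    (hy0 : y ≠ 0) (hy : hermForm n F q y y = 0) (hgx : av g x = x)
    (hxB : ipt x hx0 hx ∈ B) (hyB : ipt y hy0 hy ∈ B) :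
    ipt (av g y) (av_ne_zero g hy0) (by rw [herm_av]; exact hy) ∈ B := by
  rw [MulAction.isBlock_iff_smul_eq_of_mem] at hB
  have h1 : g • ipt x hx0 hx = ipt x hx0 hx := by
    rw [smul_ipt]
    exact (ipt_congr x _ hx0 hx hgx.symm).symm
  have h2 : g • B = B := hB hxB (by rw [h1]; exact hxB)
  have h3 : g • ipt y hy0 hy ∈ g • B := Set.smul_mem_smul_set hyB
  rw [h2, smul_ipt] at h3
  exact h3

theorem lemmaA_ipt (hF : Fintype.card F = q ^ 2)
    {B : Set ↥(isoPts n F q)} (hB : MulAction.IsBlock ↥(Cfsg.SU n F q) B)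
    (x y y' : Fin n → F) (hx0 : x ≠ 0) (hx : hermForm n F q x x = 0) (hy0 : y ≠ 0)
    (hy : hermForm n F q y y = 0) (hy0' : y' ≠ 0) (hy' : hermForm n F q y' y' = 0)
    (hxy : hermForm n F q y x ≠ 0) (hxy' : hermForm n F q y' x ≠ 0)
    (hxB : ipt x hx0 hx ∈ B) (hyB : ipt y hy0 hy ∈ B) : ipt y' hy0' hy' ∈ B := by
  obtain ⟨c, hc⟩ : ∃ c, c = hermForm n F q y x := ⟨_, rfl⟩
  obtain ⟨c', hc'⟩ : ∃ c', c' = hermForm n F q y' x := ⟨_, rfl⟩
  rw [← hc] at hxy
  rw [← hc'] at hxy'
  have h1 : hermForm n F q (c⁻¹ • y) x = 1 := by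
    rw [herm_smul_left, ← hc, inv_mul_cancel₀ hxy]
  have h1' : hermForm n F q (c'⁻¹ • y') x = 1 := by
    rw [herm_smul_left, ← hc', inv_mul_cancel₀ hxy']
  obtain ⟨g, hgx, hgy⟩ := exists_fix_move_gen hF x (c⁻¹ • y) (c'⁻¹ • y') hx
    (by rw [herm_smul_left, herm_smul_right, hy]; ring)
    (by rw [herm_smul_left, herm_smul_right, hy']; ring) h1 h1'
  have hgy2 : av g y = (c * c'⁻¹) • y' := by
    have : y = c • (c⁻¹ • y) := by rw [smul_smul, mul_inv_cancel₀ hxy, one_smul]
    rw [this, av_smul, hgy, smul_smul]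
  have := block_step_ipt hB g x y hx0 hx hy0 hy hgx hxB hyB
  convert this using 1
  rw [ipt_eq_ipt_iff]
  refine ⟨(c * c'⁻¹)⁻¹, ?_⟩
  rw [hgy2, smul_smul, inv_mul_cancel₀ (mul_ne_zero hxy (inv_ne_zero hxy')), one_smul]

/-- `SU_n(q)` acts primitively on the isotropic points -/
theorem isPreprimitive_isoPts (hF : Fintype.card F = q ^ 2) (hn : 3 ≤ n) :
    MulAction.IsPreprimitive ↥(Cfsg.SU n F q) ↥(isoPts n F q) := by
  classical
  have htrans : MulAction.IsPretransitive ↥(Cfsg.SU n F q) ↥(isoPts n F q) := by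
    constructor
    intro P P'
    obtain ⟨u, hu0, hu, rfl⟩ := exists_ipt P
    obtain ⟨u', hu0', hu', rfl⟩ := exists_ipt P'
    obtain ⟨g, -, hgu⟩ := rel_iso hF hn u u' hu0 hu0' hu hu'
    refine ⟨g, ?_⟩
    rw [smul_ipt]
    exact ipt_congr _ _ _ _ hgu
  refine { toIsPretransitive := htrans, isTrivialBlock_of_isBlock := ?_ }
  intro B hB
  by_cases hsub : B.Subsingleton
  · exact Or.inl hsub
  right
  rw [Set.not_subsingleton_iff] at hsub
  obtain ⟨P, hP, P', hP', hPP'⟩ := hsub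
  obtain ⟨x₀, hx₀0, hx₀, rfl⟩ := exists_ipt P
  obtain ⟨y₀, hy₀0, hy₀, rfl⟩ := exists_ipt P'
  -- a non-perpendicular pair in `B`
  have hpair : ∃ (x y : Fin n → F) (hx0 : x ≠ 0) (hx : hermForm n F q x x = 0) (hy0 : y ≠ 0)
      (hy : hermForm n F q y y = 0),
      hermForm n F q y x ≠ 0 ∧ ipt x hx0 hx ∈ B ∧ ipt y hy0 hy ∈ B := by
    by_cases hxy : hermForm n F q y₀ x₀ ≠ 0
    · exact ⟨x₀, y₀, hx₀0, hx₀, hy₀0, hy₀, hxy, hP, hP'⟩
    push Not at hxy
    have hx₀y₀ := herm_swap_zero hF hxy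
    -- an isotropic `u ⊥ x₀` with `h(y₀, u) ≠ 0`
    obtain ⟨v, hvx, hxv, hvv⟩ := exists_herm_partner hF x₀ hx₀0 hx₀
    obtain ⟨U, φ, hmemU, hφ⟩ := exists_perp_iso hF x₀ v hx₀ hvx hxv hvv
    obtain ⟨α, hα⟩ : ∃ α : F, α = hermForm n F q y₀ v := ⟨_, rfl⟩
    have hy₁U : y₀ - α • x₀ ∈ U := by
      rw [hmemU]
      constructor
      · rw [herm_sub_left', herm_smul_left, hxy, hx₀]; ring
      · rw [herm_sub_left', herm_smul_left, hxv, ← hα]; ring
    have hy₁0 : φ ⟨y₀ - α • x₀, hy₁U⟩ ≠ 0 := by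
      intro h
      have h2 := congrArg Subtype.val (φ.map_eq_zero_iff.mp h)
      apply hPP'
      rw [ipt_eq_ipt_iff]
      have hα0 : α ≠ 0 := by
        rintro rfl
        apply hy₀0
        have h3 : y₀ - (0 : F) • x₀ = 0 := h2
        rw [zero_smul, sub_zero] at h3
        exact h3
      refine ⟨α⁻¹, ?_⟩
      have h3 : y₀ = α • x₀ := sub_eq_zero.mp h2
      rw [h3, smul_smul, inv_mul_cancel₀ hα0, one_smul]
    have hy₁y₁ : hermForm (n - 2) F q (φ ⟨y₀ - α • x₀, hy₁U⟩) (φ ⟨y₀ - α • x₀, hy₁U⟩) = 0 := by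
      rw [hφ]
      change hermForm n F q (y₀ - α • x₀) (y₀ - α • x₀) = 0
      rw [herm_sub_left', herm_sub_right hF, herm_sub_right hF, herm_smul_left, herm_smul_left,
        herm_smul_right, herm_smul_right, hx₀, hy₀, hxy, hx₀y₀]
      ring
    obtain ⟨r, hry, hyr, hrr⟩ := exists_herm_partner hF _ hy₁0 hy₁y₁
    obtain ⟨u, hu⟩ : ∃ u : Fin n → F, u = ((φ.symm r : U) : Fin n → F) := ⟨_, rfl⟩
    have huu : hermForm n F q u u = 0 := by
      rw [hu, ← hφ, LinearEquiv.apply_symm_apply]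
      exact hrr
    have hux : hermForm n F q u x₀ = 0 := by
      rw [hu]; exact ((hmemU _).mp (φ.symm r).2).1
    have hy₀u : hermForm n F q y₀ u = 1 := by
      have h1 := hφ ⟨y₀ - α • x₀, hy₁U⟩ (φ.symm r)
      rw [LinearEquiv.apply_symm_apply, hyr] at h1
      change 1 = hermForm n F q (y₀ - α • x₀) ((φ.symm r : U) : Fin n → F) at h1
      rw [← hu, herm_sub_left', herm_smul_left, herm_swap_zero hF hux] at h1
      rw [h1]
      ring
    obtain ⟨c, hc0, hcq⟩ := exists_trace_zero hF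
    have hgx : av (tv hF u c huu hcq) x₀ = x₀ := by
      rw [av_tv, herm_swap_zero hF hux]
      simp
    have := block_step_ipt hB (tv hF u c huu hcq) x₀ y₀ hx₀0 hx₀ hy₀0 hy₀ hgx hP hP'
    refine ⟨y₀, av (tv hF u c huu hcq) y₀, hy₀0, hy₀, _, _, ?_, hP', this⟩
    rw [av_tv, hy₀u, mul_one, herm_add_left, hy₀, herm_smul_left,
      show hermForm n F q u y₀ = 1 by rw [← herm_conj hF, hy₀u, one_pow], zero_add, mul_one]
    exact hc0
  obtain ⟨x, y, hx0, hx, hy0, hy, hxy, hxB, hyB⟩ := hpair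
  rw [Set.eq_univ_iff_forall]
  intro R
  obtain ⟨z, hz0, hz, rfl⟩ := exists_ipt R
  by_cases hxz : hermForm n F q z x ≠ 0
  · exact lemmaA_ipt hF hB x y z hx0 hx hy0 hy hz0 hz hxy hxz hxB hyB
  push Not at hxz
  obtain ⟨y'', hy'', h1, h2⟩ := exists_iso_nonperp hF x z hx0 hz0 hx hz (herm_swap_zero hF hxz)
  have hy''0 : y'' ≠ 0 := by
    rintro rfl
    apply h1
    rw [herm_zero_right hF]
  have h1' : hermForm n F q y'' x ≠ 0 := by
    intro h
    exact h1 (herm_swap_zero hF h)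
  have h2' : hermForm n F q z y'' ≠ 0 := by
    intro h
    exact h2 (herm_swap_zero hF h)
  have hy''B := lemmaA_ipt hF hB x y y'' hx0 hx hy0 hy hy''0 hy'' hxy h1' hxB hyB
  exact lemmaA_ipt hF hB y'' x z hy''0 hy'' hx0 hx hz0 hz h1 h2' hy''B hxB

end

end Cfsg.Agent.Lib.Helper6.SUG
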