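import Mathlib
import Cfsg.Agent.Lib.Helper6.SUPrim

/-!
# `PSU_n(q)` is simple (`n ≥ 3`, `(n, q) ≠ (3, 2)`)
-/

set_option autoImplicit false
open Cfsg
open scoped LinearAlgebra.Projectivization

namespace Cfsg.Agent.Lib.Helper6.SUG

open Matrix Module Cfsg.Agent.Lib.Helper6 Cfsg.Agent.S0779 Cfsg.Agent.S0781
open scoped Pointwise

section
variable {F : Type*} [Field F] [Fintype F] {q n : ℕ}

theorem tv_congr (hF : Fintype.card F = q ^ 2) (v : Fin n → F) (c c' : F)
    (hvv : hermForm n F q v v = 0) (hc : c ^ q = -c) (h : c = c') :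
    tv hF v c hvv hc = tv hF v c' hvv (h ▸ hc) := by
  subst h; rfl

theorem tv_mul_tv (hF : Fintype.card F = q ^ 2) (v : Fin n → F) (c c' : F)
    (hvv : hermForm n F q v v = 0) (hc : c ^ q = -c) (hc' : c' ^ q = -c') :
    tv hF v c hvv hc * tv hF v c' hvv hc' =
      tv hF v (c + c') hvv (by rw [add_pow_q hF, hc, hc']; ring) := by
  apply ext_av
  intro x
  rw [av_mul, av_tv, av_tv, av_tv, herm_add_left, herm_smul_left, hvv]
  module

theorem tv_zero (hF : Fintype.card F = q ^ 2) (v : Fin n → F)
    (hvv : hermForm n F q v v = 0) :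
    tv hF v 0 hvv (by rw [zero_pow (q_pos hF).ne', neg_zero]) = 1 := by
  apply ext_av
  intro x
  rw [av_tv, av_one]
  simp

theorem tv_smul (hF : Fintype.card F = q ^ 2) (a : F) (v : Fin n → F) (c : F)
    (hvv : hermForm n F q v v = 0) (hc : c ^ q = -c) :
    tv hF (a • v) c (by rw [herm_smul_left, herm_smul_right, hvv]; ring) hc =
      tv hF v (a * a ^ q * c) hvv (by
        rw [mul_pow, mul_pow, pow_q_q hF, hc]; ring) := by
  apply ext_av
  intro x
  rw [av_tv, av_tv, herm_smul_right]
  module

theorem conj_tv (hF : Fintype.card F = q ^ 2) (g : ↥(Cfsg.SU n F q)) (v : Fin n → F) (c : F)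
    (hvv : hermForm n F q v v = 0) (hc : c ^ q = -c) :
    g * tv hF v c hvv hc * g⁻¹ = tv hF (av g v) c (by rw [herm_av]; exact hvv) hc := by
  apply ext_av
  intro x
  rw [av_mul, av_mul, av_tv, av_tv, av_add, av_smul, av_av_inv]
  have : hermForm n F q (av g⁻¹ x) v = hermForm n F q x (av g v) := by
    rw [← herm_av g (av g⁻¹ x) v, av_av_inv]
  rw [this]

/-- the root group of transvections with centre `u` -/
def AtvAux (hF : Fintype.card F = q ^ 2) (u : Fin n → F) (hu : hermForm n F q u u = 0) :
    Subgroup ↥(Cfsg.SU n F q) where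
  carrier := {g | ∃ (c : F) (hc : c ^ q = -c), g = tv hF u c hu hc}
  mul_mem' := by
    rintro _ _ ⟨c, hc, rfl⟩ ⟨c', hc', rfl⟩
    exact ⟨c + c', _, tv_mul_tv hF u c c' hu hc hc'⟩
  one_mem' := ⟨0, _, (tv_zero hF u hu).symm⟩
  inv_mem' := by
    rintro _ ⟨c, hc, rfl⟩
    refine ⟨-c, by rw [neg_pow_q hF, hc], ?_⟩
    apply inv_eq_of_mul_eq_one_right
    rw [tv_mul_tv, ← tv_zero hF u hu]
    exact tv_congr hF u _ _ hu _ (add_neg_cancel c)

open Classical in
/-- the root group attached to `u` (trivial if `u` is not isotropic) -/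
noncomputable def Atv (hF : Fintype.card F = q ^ 2) (u : Fin n → F) :
    Subgroup ↥(Cfsg.SU n F q) :=
  if hu : hermForm n F q u u = 0 then AtvAux hF u hu else ⊥

theorem mem_Atv (hF : Fintype.card F = q ^ 2) (u : Fin n → F) (hu : hermForm n F q u u = 0)
    (g : ↥(Cfsg.SU n F q)) :
    g ∈ Atv hF u ↔ ∃ (c : F) (hc : c ^ q = -c), g = tv hF u c hu hc := by
  unfold Atv
  rw [dif_pos hu]
  rfl

theorem Atv_smul (hF : Fintype.card F = q ^ 2) (a : F) (ha : a ≠ 0) (u : Fin n → F)
    (hu : hermForm n F q u u = 0) : Atv hF (a • u) = Atv hF u := by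
  have hau : hermForm n F q (a • u) (a • u) = 0 := by
    rw [herm_smul_left, herm_smul_right, hu]; ring
  have haq : a ^ q ≠ 0 := pow_ne_zero _ ha
  ext g
  rw [mem_Atv hF _ hau, mem_Atv hF _ hu]
  constructor
  · rintro ⟨c, hc, rfl⟩
    exact ⟨a * a ^ q * c, _, tv_smul hF a u c hu hc⟩
  · rintro ⟨c, hc, rfl⟩
    have hc' : (c / (a * a ^ q)) ^ q = -(c / (a * a ^ q)) := by
      rw [div_pow, mul_pow, pow_q_q hF, hc]
      field_simp
    refine ⟨c / (a * a ^ q), hc', ?_⟩
    rw [tv_smul hF a u _ hu hc']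
    apply tv_congr
    field_simp

theorem Atv_conj (hF : Fintype.card F = q ^ 2) (g : ↥(Cfsg.SU n F q)) (u : Fin n → F)
    (hu : hermForm n F q u u = 0) : Atv hF (av g u) = MulAut.conj g • Atv hF u := by
  have hgu : hermForm n F q (av g u) (av g u) = 0 := by rw [herm_av, hu]
  ext h
  rw [Subgroup.mem_smul_pointwise_iff_exists, mem_Atv hF _ hgu]
  constructor
  · rintro ⟨c, hc, rfl⟩
    refine ⟨tv hF u c hu hc, (mem_Atv hF u hu _).mpr ⟨c, hc, rfl⟩, ?_⟩
    rw [MulAut.smul_def, MulAut.conj_apply, conj_tv]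
  · rintro ⟨s, hs, rfl⟩
    obtain ⟨c, hc, rfl⟩ := (mem_Atv hF u hu s).mp hs
    rw [MulAut.smul_def, MulAut.conj_apply, conj_tv]
    exact ⟨c, hc, rfl⟩

/-- every generator of `TT` lies in a root group or is trivial -/
theorem tvSet_cases (hF : Fintype.card F = q ^ 2) (A : ↥(Cfsg.SU n F q))
    (hA : A ∈ tvSet n F q) :
    A = 1 ∨ ∃ (v : Fin n → F) (_ : v ≠ 0) (hvv : hermForm n F q v v = 0) (c : F)
      (hc : c ^ q = -c), A = tv hF v c hvv hc := by
  obtain ⟨v, c, hvv, hA⟩ := hA
  by_cases hv : v = 0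
  · left
    apply Subtype.ext
    apply Subtype.ext
    rw [hA, hv]
    simp [Cfsg.unitaryTransvection]
  · right
    have hpres : ∀ x y, hermForm n F q (Cfsg.unitaryTransvection n q v c *ᵥ x)
        (Cfsg.unitaryTransvection n q v c *ᵥ y) = hermForm n F q x y := by
      intro x y
      have := A.2 x y
      rw [← hA]
      exact this
    have hc : c ^ q = -c := by
      rcases (Cfsg.Agent.S0779.result hF n v hv hvv c).mp hpres with h | h
      · rw [h, zero_pow (q_pos hF).ne', neg_zero]
      · have hq1 : q = (q - 1) + 1 := by have := q_pos hF; omega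
        rw [hq1, pow_succ, h]
        ring
    refine ⟨v, hv, hvv, c, hc, ?_⟩
    apply Subtype.ext
    apply Subtype.ext
    exact hA

/-- an element of `SU` fixing every isotropic point is central -/
theorem mem_center_of_fixPts (hF : Fintype.card F = q ^ 2) (hn : 3 ≤ n)
    (h32 : ¬ (n = 3 ∧ q = 2)) (k : ↥(Cfsg.SU n F q))
    (hk : ∀ v : Fin n → F, v ≠ 0 → hermForm n F q v v = 0 → ∃ a : F, av k v = a • v) :
    k ∈ Subgroup.center ↥(Cfsg.SU n F q) := by
  rw [Subgroup.mem_center_iff]
  intro g
  have hg : g ∈ TT n F q := by rw [TT_eq_top hF n (by omega) h32]; trivial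
  have key : ∀ x ∈ TT n F q, x * k = k * x := by
    intro x hx
    unfold TT at hx
    induction hx using Subgroup.closure_induction with
    | mem A hA =>
      rcases tvSet_cases hF A hA with rfl | ⟨v, hv, hvv, c, hc, rfl⟩
      · simp
      · -- the eigenvalue of `k` on `v` has norm one
        obtain ⟨l, hl⟩ := hk v hv hvv
        obtain ⟨v', hv'v, hvv', hv'v'⟩ := exists_herm_partner hF v hv hvv
        have hv'0 : v' ≠ 0 := by
          rintro rfl
          rw [herm_zero_left] at hv'v
          exact zero_ne_one hv'v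
        obtain ⟨m, hm⟩ := hk v' hv'0 hv'v'
        obtain ⟨k₀, hk₀0, hk₀q⟩ := exists_trace_zero hF
        have hww : hermForm n F q (v + k₀ • v') (v + k₀ • v') = 0 := by
          simp only [herm_add_left, herm_add_right hF, herm_smul_left, herm_smul_right, hvv,
            hv'v', hv'v, hvv', hk₀q]
          ring
        have hw0 : v + k₀ • v' ≠ 0 := by
          intro h
          have h1 : hermForm n F q (v + k₀ • v') v = 0 := by rw [h, herm_zero_left]
          rw [herm_add_left, herm_smul_left, hvv, hv'v] at h1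
          apply hk₀0
          linear_combination h1
        obtain ⟨ν, hν⟩ := hk _ hw0 hww
        rw [av_add, av_smul, hl, hm] at hν
        have e1 : l = ν := by
          have := congrArg (fun y => hermForm n F q y v') hν
          simp only [herm_add_left, herm_smul_left, hvv', hv'v'] at this
          linear_combination this
        have e2 : m = ν := by
          have := congrArg (fun y => hermForm n F q y v) hν
          simp only [herm_add_left, herm_smul_left, hvv, hv'v] at this
          have h3 : k₀ * (m - ν) = 0 := by linear_combination this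
          rcases mul_eq_zero.mp h3 with h | h
          · exact absurd h hk₀0
          · exact sub_eq_zero.mp h
        have e3 : l * m ^ q = 1 := by
          have := herm_av k v v'
          rw [hl, hm, herm_smul_left, herm_smul_right, hvv'] at this
          linear_combination this
        have hnorm : l * l ^ q = 1 := by rw [e2, ← e1] at e3; exact e3
        have hl0 : l ≠ 0 := by
          rintro rfl
          rw [zero_mul] at hnorm
          exact zero_ne_one hnorm
        apply ext_av
        intro x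
        rw [av_mul, av_mul, av_tv, av_tv, av_add, av_smul, hl]
        have h4 : hermForm n F q (av k x) v = (l ^ q)⁻¹ * hermForm n F q x v := by
          have h5 := herm_av k x v
          rw [hl, herm_smul_right] at h5
          rw [← h5]
          field_simp
        rw [h4]
        have h6 : (l ^ q)⁻¹ = l := by
          field_simp
          rw [mul_comm]
          exact hnorm.symm
        rw [h6, smul_smul]
        congr 2
        ring
    | one => simp
    | mul a b _ _ ha hb => rw [mul_assoc, hb, ← mul_assoc, ha, mul_assoc]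
    | inv a _ ha => exact Commute.inv_left ha
  exact key g hg

/-- `SU_n(q)` is perfect -/
theorem SU_perfect (hF : Fintype.card F = q ^ 2) (hn : 3 ≤ n) (h32 : ¬ (n = 3 ∧ q = 2)) :
    commutator ↥(Cfsg.SU n F q) = ⊤ := by
  have hq := two_le_q hF
  have hn' : 4 ≤ n ∨ (n = 3 ∧ 3 ≤ q) := by
    by_cases h4 : 4 ≤ n
    · exact Or.inl h4
    · right
      have h3 : n = 3 := by omega
      refine ⟨h3, ?_⟩
      by_contra h
      exact h32 ⟨h3, by omega⟩
  rw [eq_top_iff, ← TT_eq_top hF n (by omega) h32]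
  unfold TT
  rw [Subgroup.closure_le, commutator_eq_closure]
  rintro A ⟨v, c, hvv, hA⟩
  exact Subgroup.subset_closure (Cfsg.Agent.S0781.result hF n hn' A v c hvv hA)

/-- the Iwasawa structure of `SU_n(q)` acting on the isotropic points -/
noncomputable def iwasawaSU (hF : Fintype.card F = q ^ 2) (hn : 3 ≤ n)
    (h32 : ¬ (n = 3 ∧ q = 2)) :
    MulAction.IwasawaStructure ↥(Cfsg.SU n F q) ↥(isoPts n F q) where
  T x := Atv hF x.1.rep
  is_comm x := ⟨⟨fun a b => by
    have hx : hermForm n F q x.1.rep x.1.rep = 0 := x.2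
    obtain ⟨c, hc, ha⟩ := (mem_Atv hF _ hx _).mp a.2
    obtain ⟨c', hc', hb⟩ := (mem_Atv hF _ hx _).mp b.2
    apply Subtype.ext
    change a.1 * b.1 = b.1 * a.1
    rw [ha, hb, tv_mul_tv, tv_mul_tv]
    exact tv_congr hF _ _ _ hx _ (add_comm c c')⟩⟩
  is_conj g x := by
    obtain ⟨u, hu0, hu, rfl⟩ := exists_ipt x
    rw [smul_ipt]
    obtain ⟨a, ha⟩ := Projectivization.exists_smul_eq_mk_rep F (av g u) (av_ne_zero g hu0)
    obtain ⟨b, hb⟩ := Projectivization.exists_smul_eq_mk_rep F u hu0
    have e1 : Atv hF (ipt (av g u) (av_ne_zero g hu0) (by rw [herm_av]; exact hu)).1.rep =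
        Atv hF (av g u) := by
      change Atv hF (Projectivization.mk F (av g u) _).rep = _
      rw [← ha, Units.smul_def, Atv_smul hF _ a.ne_zero _ (by rw [herm_av]; exact hu)]
    have e2 : Atv hF (ipt u hu0 hu).1.rep = Atv hF u := by
      change Atv hF (Projectivization.mk F u hu0).rep = _
      rw [← hb, Units.smul_def, Atv_smul hF _ b.ne_zero _ hu]
    rw [e1, e2, Atv_conj hF g u hu]
  is_generator := by
    rw [eq_top_iff, ← TT_eq_top hF n (by omega) h32]
    unfold TT
    rw [Subgroup.closure_le]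
    intro A hA
    rcases tvSet_cases hF A hA with rfl | ⟨v, hv, hvv, c, hc, rfl⟩
    · exact Subgroup.one_mem _
    · obtain ⟨b, hb⟩ := Projectivization.exists_smul_eq_mk_rep F v hv
      have e2 : Atv hF (ipt v hv hvv).1.rep = Atv hF v := by
        change Atv hF (Projectivization.mk F v hv).rep = _
        rw [← hb, Units.smul_def, Atv_smul hF _ b.ne_zero _ hvv]
      apply Subgroup.mem_iSup_of_mem (ipt v hv hvv)
      rw [e2, mem_Atv hF v hvv]
      exact ⟨c, hc, rfl⟩

/-- **`PSU_n(q)` is simple** for `n ≥ 3`, `(n, q) ≠ (3, 2)`. -/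
theorem PSU_isSimpleGroup (hF : Fintype.card F = q ^ 2) (hn : 3 ≤ n)
    (h32 : ¬ (n = 3 ∧ q = 2)) : IsSimpleGroup (Cfsg.PSU n F q) := by
  classical
  have hperf := SU_perfect hF hn h32
  haveI hprim := isPreprimitive_isoPts (F := F) hF hn
  haveI : Nontrivial (Cfsg.PSU n F q) := by
    by_contra hnt
    rw [not_nontrivial_iff_subsingleton] at hnt
    have hc : Subgroup.center ↥(Cfsg.SU n F q) = ⊤ := by
      rw [eq_top_iff]
      intro g _
      rw [← QuotientGroup.eq_one_iff]
      exact Subsingleton.elim _ _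
    rw [← commutator_eq_bot_iff_center_eq_top, hperf] at hc
    have hs : Subsingleton ↥(Cfsg.SU n F q) :=
      Subgroup.subsingleton_iff.mp (subsingleton_of_bot_eq_top hc.symm)
    -- two distinct isotropic points
    obtain ⟨u, hu0, huu⟩ := exists_iso_vec hF (k := n) (by omega)
    obtain ⟨v, hvu, huv, hvv⟩ := exists_herm_partner hF u hu0 huu
    have hv0 : v ≠ 0 := by
      rintro rfl
      rw [herm_zero_left] at hvu
      exact zero_ne_one hvu
    obtain ⟨g, hg⟩ := MulAction.exists_smul_eq ↥(Cfsg.SU n F q) (ipt u hu0 huu) (ipt v hv0 hvv)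
    have hg1 : g = 1 := Subsingleton.elim _ _
    rw [hg1, one_smul, ipt_eq_ipt_iff] at hg
    obtain ⟨a, ha⟩ := hg
    rw [← ha, herm_smul_left, hvv, mul_zero] at huv
    exact zero_ne_one huv
  apply IsSimpleGroup.mk
  intro K hK
  have hNn : (K.comap (QuotientGroup.mk' (Subgroup.center ↥(Cfsg.SU n F q)))).Normal :=
    hK.comap _
  by_cases hfix : MulAction.fixedPoints (K.comap (QuotientGroup.mk'
      (Subgroup.center ↥(Cfsg.SU n F q)))) ↥(isoPts n F q) = Set.univ
  · left
    have hNZ : K.comap (QuotientGroup.mk' (Subgroup.center ↥(Cfsg.SU n F q))) ≤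
        Subgroup.center ↥(Cfsg.SU n F q) := by
      intro g hg
      apply mem_center_of_fixPts hF hn h32
      intro v hv0 hv
      have hx : ipt v hv0 hv ∈ MulAction.fixedPoints (K.comap (QuotientGroup.mk'
          (Subgroup.center ↥(Cfsg.SU n F q)))) ↥(isoPts n F q) := by
        rw [hfix]
        exact Set.mem_univ _
      have h1 : g • ipt v hv0 hv = ipt v hv0 hv := hx ⟨g, hg⟩
      rw [smul_ipt, ipt_eq_ipt_iff] at h1
      obtain ⟨a, ha⟩ := h1
      exact ⟨a, ha.symm⟩
    rw [eq_bot_iff]
    intro k hk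
    obtain ⟨g, rfl⟩ := QuotientGroup.mk'_surjective
      (Subgroup.center ↥(Cfsg.SU n F q)) k
    rw [Subgroup.mem_bot]
    exact (QuotientGroup.eq_one_iff g).mpr (hNZ hk)
  · right
    have h1 := (iwasawaSU hF hn h32).commutator_le _ hfix
    rw [hperf, top_le_iff] at h1
    rw [eq_top_iff]
    intro k _
    obtain ⟨g, rfl⟩ := QuotientGroup.mk'_surjective
      (Subgroup.center ↥(Cfsg.SU n F q)) k
    have : g ∈ K.comap (QuotientGroup.mk'
        (Subgroup.center ↥(Cfsg.SU n F q))) := by
      rw [h1]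
      exact Subgroup.mem_top g
    exact this

end

end Cfsg.Agent.Lib.Helper6.SUG
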