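import Mathlib
import Cfsg.Agent.Lib.Helper6.SUSimple

/-!
# Elements `g` of `SU_n(q)` with `g - 1` of rank one are the unitary transvections
-/

set_option autoImplicit false
open Cfsg

namespace Cfsg.Agent.Lib.Helper6.SUG

open Matrix Module Cfsg.Agent.Lib.Helper6 Cfsg.Agent.S0779 Cfsg.Agent.S0781

section
variable {F : Type*} [Field F] [Fintype F] {q n : ℕ}

theorem tv_ne_one (hF : Fintype.card F = q ^ 2) (v : Fin n → F) (hv : v ≠ 0) (c : F) (hc0 : c ≠ 0)
    (hvv : hermForm n F q v v = 0) (hc : c ^ q = -c) : tv hF v c hvv hc ≠ 1 := by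
  intro h
  obtain ⟨y, hy⟩ : ∃ y, hermForm n F q y v ≠ 0 := by
    by_contra hcon
    push Not at hcon
    apply hv
    apply herm_nondeg hF
    intro y
    exact herm_swap_zero hF (hcon y)
  have h1 := av_tv hF v c hvv hc y
  rw [h, av_one] at h1
  have h2 : (c * hermForm n F q y v) • v = 0 := by
    have : y + (c * hermForm n F q y v) • v = y + 0 := by rw [← h1, add_zero]
    exact add_left_cancel this
  rcases smul_eq_zero.mp h2 with h3 | h3
  · exact mul_ne_zero hc0 hy h3
  · exact hv h3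

/-- the matrix of a non-trivial transvection minus one has rank one -/
theorem rank_tv (hF : Fintype.card F = q ^ 2) (v : Fin n → F) (hv : v ≠ 0) (c : F) (hc0 : c ≠ 0)
    (hvv : hermForm n F q v v = 0) (hc : c ^ q = -c) :
    ((tv hF v c hvv hc : Matrix.SpecialLinearGroup (Fin n) F).1 - 1).rank = 1 := by
  have hM : (tv hF v c hvv hc : Matrix.SpecialLinearGroup (Fin n) F).1 - 1 =
      Matrix.vecMulVec (c • v) (fun j => (v j) ^ q) := by
    change Cfsg.unitaryTransvection n q v c - 1 = _
    unfold Cfsg.unitaryTransvection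
    rw [add_sub_cancel_left, Matrix.smul_vecMulVec]
  rw [hM]
  apply le_antisymm (Matrix.rank_vecMulVec_le _ _)
  rw [Nat.one_le_iff_ne_zero]
  intro h0
  unfold Matrix.rank at h0
  rw [Submodule.finrank_eq_zero] at h0
  apply tv_ne_one hF v hv c hc0 hvv hc
  apply ext_av
  intro x
  have h1 : (Matrix.vecMulVec (c • v) (fun j => (v j) ^ q)).mulVecLin x ∈
      LinearMap.range (Matrix.vecMulVec (c • v) (fun j => (v j) ^ q)).mulVecLin :=
    LinearMap.mem_range_self _ x
  rw [h0, Submodule.mem_bot, Matrix.mulVecLin_apply, ← hM, Matrix.sub_mulVec, one_mulVec,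
    sub_eq_zero] at h1
  rw [av_one]
  exact h1

/-- an element `g` of `SU` with `g - 1` of rank one is a non-trivial unitary transvection -/
theorem exists_tv_of_rank_one (hF : Fintype.card F = q ^ 2) (g : ↥(Cfsg.SU n F q))
    (hr : ((g : Matrix.SpecialLinearGroup (Fin n) F).1 - 1).rank = 1) :
    ∃ (v : Fin n → F) (_ : v ≠ 0) (hvv : hermForm n F q v v = 0) (c : F) (_ : c ≠ 0)
      (hc : c ^ q = -c), g = tv hF v c hvv hc := by
  classical
  obtain ⟨M, hM⟩ : ∃ M : Matrix (Fin n) (Fin n) F,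
      M = (g : Matrix.SpecialLinearGroup (Fin n) F).1 - 1 := ⟨_, rfl⟩
  rw [← hM] at hr
  have hg : ∀ x, av g x = x + M *ᵥ x := by
    intro x
    rw [hM, Matrix.sub_mulVec, one_mulVec]
    unfold av
    abel
  unfold Matrix.rank at hr
  obtain ⟨a', ha'0, ha'⟩ := (finrank_eq_one_iff' (K := F)).mp hr
  obtain ⟨a, ha⟩ : ∃ a : Fin n → F, a = (a' : Fin n → F) := ⟨_, rfl⟩
  have ha0 : a ≠ 0 := by
    intro h
    apply ha'0
    apply Subtype.ext
    rw [← ha, h]
    rfl
  have hspan : ∀ x, ∃ c : F, c • a = M *ᵥ x := by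
    intro x
    obtain ⟨c, hc⟩ := ha' ⟨M.mulVecLin x, LinearMap.mem_range_self _ x⟩
    refine ⟨c, ?_⟩
    have := congrArg Subtype.val hc
    rw [ha]
    exact this
  obtain ⟨x₀, hx₀⟩ : ∃ x₀, M *ᵥ x₀ = a := by
    obtain ⟨x₀, hx₀⟩ := a'.2
    exact ⟨x₀, by rw [ha, ← hx₀]; rfl⟩
  obtain ⟨i, hi⟩ : ∃ i, a i ≠ 0 := by
    by_contra hcon
    push Not at hcon
    exact ha0 (funext hcon)
  obtain ⟨b, hb⟩ : ∃ b : Fin n → F, b = fun j => (M i j / a i) ^ q := ⟨_, rfl⟩
  have hφ : ∀ x, M *ᵥ x = hermForm n F q x b • a := by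
    intro x
    obtain ⟨c, hc⟩ := hspan x
    have h1 : c * a i = (M *ᵥ x) i := by
      have := congrFun hc i
      simpa using this
    have h2 : hermForm n F q x b = c := by
      have h3 : hermForm n F q x b = (M *ᵥ x) i / a i := by
        simp only [hermForm, hb, pow_q_q hF, mulVec, dotProduct, Finset.sum_div]
        apply Finset.sum_congr rfl
        intro j _
        ring
      rw [h3, ← h1]
      field_simp
    rw [h2, hc]
  have hb0 : b ≠ 0 := by
    intro h
    apply ha0
    rw [← hx₀, hφ, h, herm_zero_right hF, zero_smul]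
  obtain ⟨y₁, hy₁⟩ : ∃ y, hermForm n F q y b ≠ 0 := by
    by_contra hcon
    push Not at hcon
    apply hb0
    apply herm_nondeg hF
    intro y
    exact herm_swap_zero hF (hcon y)
  obtain ⟨y₀, hy₀⟩ : ∃ y₀, hermForm n F q y₀ b = 1 :=
    ⟨(hermForm n F q y₁ b)⁻¹ • y₁, by rw [herm_smul_left, inv_mul_cancel₀ hy₁]⟩
  obtain ⟨κ, hκ⟩ : ∃ κ : F, κ = hermForm n F q a y₀ + hermForm n F q a a := ⟨_, rfl⟩
  have hrel : ∀ x, hermForm n F q x a + κ * hermForm n F q x b = 0 := by
    intro x
    have h1 := herm_av g x y₀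
    rw [hg, hg, hφ, hφ, hy₀] at h1
    simp only [herm_add_left, herm_add_right hF, herm_smul_left, herm_smul_right, one_pow,
      one_smul] at h1
    rw [hκ]
    linear_combination h1
  have hab : a + (κ ^ q) • b = 0 := by
    apply herm_nondeg hF
    intro y
    apply herm_swap_zero hF
    rw [herm_add_right hF, herm_smul_right, pow_q_q hF]
    exact hrel y
  obtain ⟨l, hl⟩ : ∃ l : F, l = -(κ ^ q) := ⟨_, rfl⟩
  have hal : a = l • b := by
    rw [hl, neg_smul]
    exact eq_neg_of_add_eq_zero_left hab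
  have hl0 : l ≠ 0 := by
    rintro rfl
    rw [zero_smul] at hal
    exact ha0 hal
  have hmat : (g : Matrix.SpecialLinearGroup (Fin n) F).1 = Cfsg.unitaryTransvection n q b l := by
    apply mat_ext
    intro x
    have := hg x
    unfold av at this
    rw [this, hφ, hal, transvection_mulVec, smul_smul, mul_comm]
  have hbb : hermForm n F q b b = 0 := by
    have hdet := (g : Matrix.SpecialLinearGroup (Fin n) F).2
    rw [hmat] at hdet
    have h1 : (P q l b b).det = 1 + l * hermForm n F q b b := P_det l b b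
    have h2 : (P q l b b) = Cfsg.unitaryTransvection n q b l := rfl
    rw [h2, hdet] at h1
    have h3 : l * hermForm n F q b b = 0 := by linear_combination -h1
    rcases mul_eq_zero.mp h3 with h | h
    · exact absurd h hl0
    · exact h
  rcases tvSet_cases hF g ⟨b, l, hbb, hmat⟩ with h1 | ⟨v, hv, hvv, c, hc, h1⟩
  · exfalso
    apply ha0
    have := hg x₀
    rw [h1, av_one, hx₀] at this
    have h2 : x₀ + 0 = x₀ + a := by rw [add_zero]; exact this
    exact (add_left_cancel h2).symm
  · refine ⟨v, hv, hvv, c, ?_, hc, h1⟩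
    rintro rfl
    apply ha0
    have := hg x₀
    rw [h1, tv_zero, av_one, hx₀] at this
    have h2 : x₀ + 0 = x₀ + a := by rw [add_zero]; exact this
    exact (add_left_cancel h2).symm

end

end Cfsg.Agent.Lib.Helper6.SUG
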