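import Mathlib
import Cfsg.Agent.Lib.Helper6.SURankOne
import Cfsg.Agent.Lib.Helper16.SUCenter
import Cfsg.Agent.Lib.Helper6.AutPSL2
import Cfsg.Agent.Lib.Helper6.AutInduced

/-!
# Automorphisms of `PSU_n(q)`, part 1: unipotent radicals of point stabilisers and centres of
Sylow subgroups
-/

set_option autoImplicit false
set_option linter.unusedSectionVars false
set_option linter.unusedVariables false
open Cfsg

namespace Cfsg.Agent.Lib.Helper6.AutPSU

open Matrix Module Cfsg.Agent.Lib.Helper6 Cfsg.Agent.S0779 Cfsg.Agent.S0781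
open Cfsg.Agent.Lib.Helper6.SUG

section
variable {F : Type*} [Field F] [Fintype F] {q n : ℕ}

/-- projection to `PSU` -/
def pu : ↥(Cfsg.SU n F q) →* Cfsg.PSU n F q := QuotientGroup.mk' _

theorem pu_surjective : Function.Surjective (pu : ↥(Cfsg.SU n F q) →* Cfsg.PSU n F q) :=
  QuotientGroup.mk'_surjective _

theorem pu_eq_one_iff (x : ↥(Cfsg.SU n F q)) :
    pu x = 1 ↔ x ∈ Subgroup.center ↥(Cfsg.SU n F q) :=
  QuotientGroup.eq_one_iff x

theorem pu_eq_iff (x y : ↥(Cfsg.SU n F q)) :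
    pu x = pu y ↔ x⁻¹ * y ∈ Subgroup.center ↥(Cfsg.SU n F q) :=
  QuotientGroup.eq

theorem center_pow (hF : Fintype.card F = q ^ 2) (hn : 2 ≤ n) (z : ↥(Cfsg.SU n F q))
    (hz : z ∈ Subgroup.center ↥(Cfsg.SU n F q)) : z ^ (q + 1) = 1 := by
  obtain ⟨a, ha, -, hza⟩ := Cfsg.Agent.Lib.Helper16.SU_center_scalar hF hn z hz
  apply Subtype.ext
  apply Subtype.ext
  rw [Subgroup.coe_pow, Matrix.SpecialLinearGroup.coe_pow, hza, smul_pow, one_pow, ha, one_smul]
  rfl

variable {p : ℕ} [hp : Fact p.Prime] [CharP F p]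

theorem q_eq_pow (hF : Fintype.card F = q ^ 2) : ∃ m : ℕ, 1 ≤ m ∧ q = p ^ m := by
  have h0 : CharP F p := inferInstance
  obtain ⟨p', m, hp', hc, hq⟩ := exists_char_pow hF
  have hpp : p' = p := CharP.eq F hc h0
  subst hpp
  refine ⟨m, ?_, hq⟩
  by_contra h
  have hm : m = 0 := by omega
  subst hm
  have := two_le_q hF
  rw [pow_zero] at hq
  omega

theorem coprime_pow_succ (hF : Fintype.card F = q ^ 2) (k : ℕ) : Nat.Coprime (p ^ k) (q + 1) := by
  obtain ⟨m, hm, hq⟩ := q_eq_pow (p := p) hF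
  apply Nat.Coprime.pow_left
  rw [Nat.Prime.coprime_iff_not_dvd hp.out]
  intro h
  have h1 : p ∣ q := by
    rw [hq]
    exact dvd_pow_self p (by omega)
  have h2 : p ∣ 1 := (Nat.dvd_add_right h1).mp h
  exact hp.out.one_lt.ne' (Nat.dvd_one.mp h2)

theorem center_eq_one_of_pow (hF : Fintype.card F = q ^ 2) (hn : 2 ≤ n) (z : ↥(Cfsg.SU n F q))
    (hz : z ∈ Subgroup.center ↥(Cfsg.SU n F q)) (k : ℕ) (h : z ^ (p ^ k) = 1) : z = 1 := by
  have h1 : orderOf z ∣ p ^ k := orderOf_dvd_of_pow_eq_one h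
  have h2 : orderOf z ∣ q + 1 := orderOf_dvd_of_pow_eq_one (center_pow hF hn z hz)
  have h3 : orderOf z ∣ Nat.gcd (p ^ k) (q + 1) := Nat.dvd_gcd h1 h2
  rw [coprime_pow_succ (p := p) hF k] at h3
  exact orderOf_eq_one_iff.mp (Nat.dvd_one.mp h3)

/-- `p`-elements commuting modulo the centre commute -/
theorem comm_of_pu_comm (hF : Fintype.card F = q ^ 2) (hn : 2 ≤ n) (z u : ↥(Cfsg.SU n F q))
    (k : ℕ) (hu : u ^ (p ^ k) = 1) (h : pu z * pu u = pu u * pu z) : z * u = u * z := by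
  obtain ⟨c, hc⟩ : ∃ c, c = z * u * z⁻¹ * u⁻¹ := ⟨_, rfl⟩
  have hcz : c ∈ Subgroup.center ↥(Cfsg.SU n F q) := by
    rw [← pu_eq_one_iff, hc, map_mul, map_mul, map_mul, map_inv, map_inv, h]
    group
  have h1 : z * u * z⁻¹ = c * u := by rw [hc]; group
  have h2 : (z * u * z⁻¹) ^ (p ^ k) = 1 := by
    rw [conj_pow, hu, mul_one, mul_inv_cancel]
  have hcomm : Commute c u := (Subgroup.mem_center_iff.mp hcz u).symm
  rw [h1, hcomm.mul_pow, hu, mul_one] at h2
  have hc1 := center_eq_one_of_pow (p := p) hF hn c hcz k h2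
  rw [hc1, one_mul] at h1
  calc z * u = z * u * z⁻¹ * z := by group
    _ = u * z := by rw [h1]

/-- the projection is injective on `p`-elements -/
theorem eq_of_pu_eq (hF : Fintype.card F = q ^ 2) (hn : 2 ≤ n) (x y : ↥(Cfsg.SU n F q))
    (k : ℕ) (hx : x ^ (p ^ k) = 1) (hy : y ^ (p ^ k) = 1) (h : pu x = pu y) : x = y := by
  have hz : x⁻¹ * y ∈ Subgroup.center ↥(Cfsg.SU n F q) := (pu_eq_iff x y).mp h
  have hcomm : Commute x⁻¹ y := by
    have := Subgroup.mem_center_iff.mp hz x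
    -- x * (x⁻¹ * y) = x⁻¹ * y * x
    have h2 : y * x = x * y := by
      calc y * x = x * (x⁻¹ * y * x) := by group
        _ = x * (x * (x⁻¹ * y)) := by rw [this]
        _ = x * y := by group
    change x⁻¹ * y = y * x⁻¹
    calc x⁻¹ * y = x⁻¹ * (y * x) * x⁻¹ := by group
      _ = x⁻¹ * (x * y) * x⁻¹ := by rw [h2]
      _ = y * x⁻¹ := by group
  have h1 : (x⁻¹ * y) ^ (p ^ k) = 1 := by
    rw [hcomm.mul_pow, inv_pow, hx, hy, inv_one, one_mul]
  have := center_eq_one_of_pow (p := p) hF hn _ hz k h1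
  exact inv_mul_eq_one.mp this

/-- the stabiliser of a vector -/
def Fx (u : Fin n → F) : Subgroup ↥(Cfsg.SU n F q) where
  carrier := {g | av g u = u}
  mul_mem' := by
    intro a b ha hb
    change av (a * b) u = u
    rw [av_mul, hb, ha]
  one_mem' := av_one u
  inv_mem' := by
    intro a ha
    change av a⁻¹ u = u
    have := av_inv_av a u
    rw [ha] at this
    exact this

theorem mem_Fx (u : Fin n → F) (g : ↥(Cfsg.SU n F q)) : g ∈ Fx u ↔ av g u = u := Iff.rfl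

/-- the unipotent radical of the stabiliser of the isotropic point `u` -/
def Qv (u : Fin n → F) : Subgroup ↥(Cfsg.SU n F q) where
  carrier := {g | av g u = u ∧ ∀ x, hermForm n F q x u = 0 → ∃ t : F, av g x = x + t • u}
  mul_mem' := by
    rintro a b ⟨ha, ha'⟩ ⟨hb, hb'⟩
    refine ⟨?_, ?_⟩
    · rw [av_mul, hb, ha]
    · intro x hx
      obtain ⟨t, ht⟩ := hb' x hx
      obtain ⟨s, hs⟩ := ha' x hx
      refine ⟨s + t, ?_⟩
      rw [av_mul, ht, av_add, av_smul, ha, hs]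
      module
  one_mem' := ⟨av_one u, fun x _ => ⟨0, by rw [av_one]; simp⟩⟩
  inv_mem' := by
    rintro a ⟨ha, ha'⟩
    have hau : av a⁻¹ u = u := by
      have := av_inv_av a u
      rw [ha] at this
      exact this
    refine ⟨hau, ?_⟩
    intro x hx
    obtain ⟨t, ht⟩ := ha' x hx
    refine ⟨-t, ?_⟩
    have := av_inv_av a x
    rw [ht, av_add, av_smul, hau] at this
    rw [eq_sub_of_add_eq this]
    module

theorem mem_Qv (u : Fin n → F) (g : ↥(Cfsg.SU n F q)) :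
    g ∈ Qv u ↔ av g u = u ∧ ∀ x, hermForm n F q x u = 0 → ∃ t : F, av g x = x + t • u := Iff.rfl

theorem Qv_le_Fx (u : Fin n → F) : Qv u ≤ (Fx u : Subgroup ↥(Cfsg.SU n F q)) :=
  fun g hg => hg.1

theorem herm_av_left (g : ↥(Cfsg.SU n F q)) (x y : Fin n → F) :
    hermForm n F q (av g x) y = hermForm n F q x (av g⁻¹ y) := by
  conv_lhs => rw [← av_av_inv g y]
  rw [herm_av]

theorem herm_av_right (g : ↥(Cfsg.SU n F q)) (x y : Fin n → F) :
    hermForm n F q x (av g y) = hermForm n F q (av g⁻¹ x) y := by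
  conv_lhs => rw [← av_av_inv g x]
  rw [herm_av]

/-- elements fixing the point `⟨u⟩` normalise `Qv u` -/
theorem Qv_conj (u : Fin n → F) (k : ↥(Cfsg.SU n F q)) (a : F) (ha : a ≠ 0)
    (hk : av k u = a • u) (g : ↥(Cfsg.SU n F q)) (hg : g ∈ Qv u) : k * g * k⁻¹ ∈ Qv u := by
  have hk' : av k⁻¹ u = a⁻¹ • u := by
    have := av_inv_av k u
    rw [hk, av_smul] at this
    calc av k⁻¹ u = a⁻¹ • (a • av k⁻¹ u) := by rw [smul_smul, inv_mul_cancel₀ ha, one_smul]
      _ = a⁻¹ • u := by rw [this]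
  refine ⟨?_, ?_⟩
  · rw [av_mul, av_mul, hk', av_smul, hg.1, av_smul, hk, smul_smul, inv_mul_cancel₀ ha, one_smul]
  · intro x hx
    have hx' : hermForm n F q (av k⁻¹ x) u = 0 := by
      rw [herm_av_left, inv_inv, hk, herm_smul_right, hx, mul_zero]
    obtain ⟨t, ht⟩ := hg.2 _ hx'
    refine ⟨t * a, ?_⟩
    rw [av_mul, av_mul, ht, av_add, av_smul, av_av_inv, hk, smul_smul]

theorem Fx_le_normalizer_Qv (u : Fin n → F) :
    (Fx u : Subgroup ↥(Cfsg.SU n F q)) ≤
      Subgroup.normalizer ((Qv u : Subgroup ↥(Cfsg.SU n F q)) : Set ↥(Cfsg.SU n F q)) := by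
  intro k hk
  rw [Subgroup.mem_normalizer_iff]
  intro g
  have hk1 : av k u = (1 : F) • u := by rw [one_smul]; exact hk
  have hk2 : av k⁻¹ u = (1 : F) • u := by rw [one_smul]; exact (Fx u).inv_mem hk
  constructor
  · intro hg
    exact Qv_conj u k 1 one_ne_zero hk1 g hg
  · intro hg
    have := Qv_conj u k⁻¹ 1 one_ne_zero hk2 _ hg
    rw [inv_inv] at this
    have e : k⁻¹ * (k * g * k⁻¹) * k = g := by group
    rwa [e] at this

theorem tv_mem_Qv (hF : Fintype.card F = q ^ 2) (u : Fin n → F) (c : F)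
    (hu : hermForm n F q u u = 0) (hc : c ^ q = -c) : tv hF u c hu hc ∈ Qv u := by
  refine ⟨?_, ?_⟩
  · rw [av_tv, hu, mul_zero, zero_smul, add_zero]
  · intro x hx
    exact ⟨0, by rw [av_tv, hx, mul_zero]⟩

theorem Atv_le_Qv (hF : Fintype.card F = q ^ 2) (u : Fin n → F)
    (hu : hermForm n F q u u = 0) : Atv hF u ≤ Qv u := by
  intro g hg
  obtain ⟨c, hc, rfl⟩ := (mem_Atv hF u hu g).mp hg
  exact tv_mem_Qv hF u c hu hc

theorem siegG_mem_Qv (hF : Fintype.card F = q ^ 2) (u w : Fin n → F) (b : F)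
    (hu : hermForm n F q u u = 0) (hwu : hermForm n F q w u = 0)
    (hb : b + b ^ q + hermForm n F q w w = 0) : siegG hF u w b hu hwu hb ∈ Qv u := by
  have huw := herm_swap_zero hF hwu
  refine ⟨?_, ?_⟩
  · rw [av_siegG, hu, huw]
    simp
  · intro x hx
    refine ⟨-hermForm n F q x w, ?_⟩
    rw [av_siegG, hx]
    simp

end

end Cfsg.Agent.Lib.Helper6.AutPSU
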