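import Mathlib
import Cfsg.Agent.Lib.Helper6.AutPSU1
import Cfsg.Agent.Lib.Helper6.UnitaryCount

/-!
# Automorphisms of `PSU_n(q)`, part 2: the centre of a Sylow `p`-subgroup of `SU_n(q)` is a group
of unitary transvections
-/

set_option autoImplicit false
set_option linter.unusedSectionVars false
set_option linter.unusedVariables false
open Cfsg

namespace Cfsg.Agent.Lib.Helper6.AutPSU

open Matrix Module Cfsg.Agent.Lib.Helper6 Cfsg.Agent.S0779 Cfsg.Agent.S0781
open Cfsg.Agent.Lib.Helper6.SUG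

section
variable {F : Type*} [Field F] [Fintype F] {q n : ℕ}

theorem exists_not_fixed (hF : Fintype.card F = q ^ 2) : ∃ l : F, l ^ q ≠ l := by
  by_contra hcon
  push Not at hcon
  exact conjQ_ne_id hF (RingHom.ext fun a => by rw [conjQ_apply, hcon]; rfl)

theorem exists_trace_eq (hF : Fintype.card F = q ^ 2) (a : F) (ha : a ^ q = a) :
    ∃ t : F, t + t ^ q = a := by
  obtain ⟨t, ht⟩ := exists_trace (conjQ hF) (conjQ_ne_id hF) (conjQ_conjQ hF) a
    (by rw [conjQ_apply, ha])
  exact ⟨t, by rw [← ht, conjQ_apply]⟩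

/-- a valid second parameter for the Siegel element with vector `w` -/
theorem exists_siegel_param (hF : Fintype.card F = q ^ 2) (w : Fin n → F) :
    ∃ b : F, b + b ^ q + hermForm n F q w w = 0 := by
  obtain ⟨t, ht⟩ := exists_trace_eq hF (-hermForm n F q w w)
    (by rw [neg_pow_q hF, herm_self_fixed hF])
  exact ⟨t, by rw [ht]; ring⟩

/-- decomposition of a vector along an isotropic vector with a partner -/
theorem decomp_partner (u u' x : Fin n → F) (hu'u : hermForm n F q u' u = 1) :
    hermForm n F q (x - hermForm n F q x u • u') u = 0 := by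
  rw [herm_sub_left', herm_smul_left, hu'u]
  ring

/-- an element fixing `u` and commuting with all Siegel elements at `u` is a transvection -/
theorem mem_Atv_of_comm (hF : Fintype.card F = q ^ 2) (u : Fin n → F) (hu0 : u ≠ 0)
    (hu : hermForm n F q u u = 0) (z : ↥(Cfsg.SU n F q)) (hz : av z u = u)
    (hcomm : ∀ (w : Fin n → F) (b : F) (hwu : hermForm n F q w u = 0)
      (hb : b + b ^ q + hermForm n F q w w = 0),
      z * siegG hF u w b hu hwu hb = siegG hF u w b hu hwu hb * z) : z ∈ Atv hF u := by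
  obtain ⟨u', hu'u, huu', hu'u'⟩ := exists_herm_partner hF u hu0 hu
  obtain ⟨d, hd⟩ : ∃ d, d = av z u' - u' := ⟨_, rfl⟩
  have hzu' : av z u' = u' + d := by rw [hd]; abel
  have hdu : hermForm n F q d u = 0 := by
    rw [hd, herm_sub_left', hu'u]
    have : hermForm n F q (av z u') u = hermForm n F q (av z u') (av z u) := by rw [hz]
    rw [this, herm_av, hu'u, sub_self]
  -- action on vectors perpendicular to `u`
  have key : ∀ w : Fin n → F, hermForm n F q w u = 0 → av z w = w - hermForm n F q d w • u := by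
    intro w hwu
    obtain ⟨b, hb⟩ := exists_siegel_param hF w
    have huw := herm_swap_zero hF hwu
    have h1 := congrArg (fun g => av g u') (hcomm w b hwu hb)
    simp only [av_mul] at h1
    rw [av_siegG, av_siegG, hu'u, av_add, av_add, av_smul, av_smul, hz, hzu', herm_add_left,
      hu'u, hdu, herm_add_left] at h1
    -- h1 : u' + d + 1 • av z w + (b*1 - h(u',w)) • u = u' + d + (1+0) • w + (b*(1+0) - (h(u',w)+h(d,w))) • u
    have h2 : av z w = w - hermForm n F q d w • u := by
      have h3 : av z w + (b - hermForm n F q u' w) • u =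
          w + (b - (hermForm n F q u' w + hermForm n F q d w)) • u := by
        have h4 := h1
        simp only [one_smul, mul_one, add_zero] at h4
        have h5 : u' + d + av z w + (b - hermForm n F q u' w) • u =
            u' + d + (av z w + (b - hermForm n F q u' w) • u) := by abel
        have h6 : u' + d + w + (b - (hermForm n F q u' w + hermForm n F q d w)) • u =
            u' + d + (w + (b - (hermForm n F q u' w + hermForm n F q d w)) • u) := by abel
        rw [h5, h6] at h4
        exact add_left_cancel h4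
      have h7 : av z w = w + (b - (hermForm n F q u' w + hermForm n F q d w)) • u -
          (b - hermForm n F q u' w) • u := eq_sub_of_add_eq h3
      rw [h7]
      module
    exact h2
  -- `h(d, w) = 0` for `w ⊥ u`
  have hdw : ∀ w : Fin n → F, hermForm n F q w u = 0 → hermForm n F q d w = 0 := by
    intro w hwu
    obtain ⟨l, hl⟩ := exists_not_fixed hF
    have h1 := key (l • w) (by rw [herm_smul_left, hwu, mul_zero])
    rw [av_smul, key w hwu, herm_smul_right] at h1
    have h2 : ((l ^ q - l) * hermForm n F q d w) • u = 0 := by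
      have : l • (w - hermForm n F q d w • u) - (l • w - (l ^ q * hermForm n F q d w) • u) = 0 :=
        sub_eq_zero.mpr h1
      rw [← this]
      module
    rcases smul_eq_zero.mp h2 with h | h
    · rcases mul_eq_zero.mp h with h | h
      · exact absurd (sub_eq_zero.mp h) hl
      · exact h
    · exact absurd h hu0
  have hfix : ∀ w : Fin n → F, hermForm n F q w u = 0 → av z w = w := by
    intro w hwu
    rw [key w hwu, hdw w hwu, zero_smul, sub_zero]
  -- `d` is a multiple of `u`
  obtain ⟨c, hc⟩ : ∃ c, c = hermForm n F q d u' := ⟨_, rfl⟩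
  have hdc : d = c • u := by
    have h0 : d - c • u = 0 := by
      apply herm_nondeg hF
      intro x
      have hx : x = (x - hermForm n F q x u • u') + hermForm n F q x u • u' := by abel
      have hy := decomp_partner u u' x hu'u
      rw [hx, herm_add_right hF, herm_smul_right, herm_sub_left', herm_sub_left', herm_smul_left,
        herm_smul_left, hdw _ hy, herm_swap_zero hF hy, ← hc, huu']
      ring
    exact sub_eq_zero.mp h0
  have hcq : c ^ q = -c := by
    have h1 : hermForm n F q (av z u') (av z u') = 0 := by rw [herm_av, hu'u']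
    rw [hzu', hdc] at h1
    simp only [herm_add_left, herm_add_right hF, herm_smul_left, herm_smul_right, hu, hu'u',
      hu'u, huu'] at h1
    linear_combination h1
  rw [mem_Atv hF u hu]
  refine ⟨c, hcq, ?_⟩
  apply ext_av
  intro x
  have hx : x = (x - hermForm n F q x u • u') + hermForm n F q x u • u' := by abel
  have hy := decomp_partner u u' x hu'u
  rw [av_tv]
  conv_lhs => rw [hx]
  rw [av_add, av_smul, hfix _ hy, hzu', hdc]
  module

variable {p : ℕ} [hp : Fact p.Prime] [CharP F p]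

/-- the elements of `Qv u` are `p`-elements -/
theorem Qv_pow (hF : Fintype.card F = q ^ 2) (hn : 1 ≤ n) (u : Fin n → F)
    (g : ↥(Cfsg.SU n F q)) (hg : g ∈ Qv u) : g ^ (p ^ 2) = 1 := by
  haveI : Nonempty (Fin n) := ⟨⟨0, by omega⟩⟩
  haveI : CharP (Matrix (Fin n) (Fin n) F) p := Matrix.charP p
  obtain ⟨M, hM⟩ : ∃ M : Matrix (Fin n) (Fin n) F,
      M = (g : Matrix.SpecialLinearGroup (Fin n) F).1 := ⟨_, rfl⟩
  have hMv : ∀ x, M *ᵥ x = av g x := fun x => by rw [hM]; rfl
  have hN : ∀ x, (M - 1) *ᵥ x = av g x - x := by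
    intro x
    rw [Matrix.sub_mulVec, one_mulVec, hMv]
  have hperp : ∀ x, hermForm n F q (av g x - x) u = 0 := by
    intro x
    rw [herm_sub_left']
    have : hermForm n F q (av g x) u = hermForm n F q (av g x) (av g u) := by rw [hg.1]
    rw [this, herm_av, sub_self]
  have hN3 : (M - 1) ^ 3 = 0 := by
    apply mat_ext
    intro x
    rw [pow_succ, pow_succ, pow_one, ← mulVec_mulVec, ← mulVec_mulVec, zero_mulVec, hN x]
    obtain ⟨t, ht⟩ := hg.2 _ (hperp x)
    rw [hN (av g x - x), ht, add_sub_cancel_left, mulVec_smul, hN u, hg.1, sub_self, smul_zero]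
  have h1 : M ^ (p ^ 2) = 1 := by
    have h2 : M = (M - 1) + 1 := by abel
    rw [h2, add_pow_char_pow_of_commute p 2 (Commute.one_right _), one_pow]
    have h3 : 3 ≤ p ^ 2 := by
      have := hp.out.two_le
      nlinarith
    have h4 : (M - 1) ^ (p ^ 2) = (M - 1) ^ 3 * (M - 1) ^ (p ^ 2 - 3) := by
      rw [← pow_add]
      congr 1
      omega
    rw [h4, hN3, zero_mul, zero_add]
  apply Subtype.ext
  apply Subtype.ext
  rw [Subgroup.coe_pow, Matrix.SpecialLinearGroup.coe_pow, ← hM, h1]
  rfl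

theorem isPGroup_Qv (hF : Fintype.card F = q ^ 2) (hn : 1 ≤ n) (u : Fin n → F) :
    IsPGroup p (Qv u : Subgroup ↥(Cfsg.SU n F q)) := by
  intro g
  refine ⟨2, ?_⟩
  apply Subtype.ext
  rw [Subgroup.coe_pow]
  exact Qv_pow (p := p) hF hn u g.1 g.2

/-- the set of non-zero isotropic vectors -/
abbrev IsoV (n : ℕ) (F : Type*) [Field F] (q : ℕ) : Type _ :=
  {v : Fin n → F // v ≠ 0 ∧ hermForm n F q v v = 0}

instance instMulActionIsoV : MulAction ↥(Cfsg.SU n F q) (IsoV n F q) where
  smul g v := ⟨av g v.1, av_ne_zero g v.2.1, by rw [herm_av]; exact v.2.2⟩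
  one_smul v := Subtype.ext (av_one _)
  mul_smul g h v := Subtype.ext (av_mul g h _)

theorem smul_IsoV_val (g : ↥(Cfsg.SU n F q)) (v : IsoV n F q) : (g • v).1 = av g v.1 := rfl

theorem not_dvd_isoNZ (hF : Fintype.card F = q ^ 2) (hn : 2 ≤ n) : ¬ p ∣ isoNZ n F q := by
  obtain ⟨m, hm, hq⟩ := q_eq_pow (p := p) hF
  have hpq : p ∣ q := by rw [hq]; exact dvd_pow_self p (by omega)
  have h1 := isoCount_formula hF n
  rw [normCount_zero_eq hF] at h1
  obtain ⟨k, rfl⟩ : ∃ k, n = k + 2 := ⟨n - 2, by omega⟩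
  have hq0 : (q : ℤ) ≠ 0 := by
    have := q_pos hF
    exact_mod_cast this.ne'
  have h2 : ((isoNZ (k + 2) F q + 1 : ℕ) : ℤ) =
      (q : ℤ) * ((q : ℤ) ^ (2 * k + 2) + (-1) ^ (k + 2) * ((q : ℤ) - 1) * (q : ℤ) ^ k) := by
    apply mul_left_cancel₀ hq0
    rw [h1]
    ring
  intro hdvd
  have h3 : (p : ℤ) ∣ ((isoNZ (k + 2) F q + 1 : ℕ) : ℤ) := by
    rw [h2]
    exact Dvd.dvd.mul_right (by exact_mod_cast hpq) _
  have h4 : p ∣ isoNZ (k + 2) F q + 1 := by exact_mod_cast h3
  have h5 : p ∣ 1 := (Nat.dvd_add_right hdvd).mp h4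
  exact hp.out.one_lt.ne' (Nat.dvd_one.mp h5)

/-- a `p`-subgroup of `SU_n(q)` fixes a non-zero isotropic vector -/
theorem exists_fixed_iso (hF : Fintype.card F = q ^ 2) (hn : 2 ≤ n)
    (U : Subgroup ↥(Cfsg.SU n F q)) (hU : IsPGroup p U) :
    ∃ u : Fin n → F, u ≠ 0 ∧ hermForm n F q u u = 0 ∧ ∀ g ∈ U, av g u = u := by
  have h1 : ¬ p ∣ Nat.card (IsoV n F q) := not_dvd_isoNZ (p := p) hF hn
  obtain ⟨v, hv⟩ := hU.nonempty_fixed_point_of_prime_not_dvd_card (IsoV n F q) h1
  refine ⟨v.1, v.2.1, v.2.2, ?_⟩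
  intro g hg
  have := hv ⟨g, hg⟩
  exact congrArg Subtype.val this

/-- a Sylow `p`-subgroup fixing the isotropic vector `u` contains `Qv u` -/
theorem Qv_le_sylow (hF : Fintype.card F = q ^ 2) (hn : 1 ≤ n) (u : Fin n → F)
    (S : Sylow p ↥(Cfsg.SU n F q)) (hS : ∀ g ∈ S, av g u = u) :
    Qv u ≤ (S : Subgroup ↥(Cfsg.SU n F q)) := by
  have h1 : (S : Subgroup ↥(Cfsg.SU n F q)) ≤
      Subgroup.normalizer ((Qv u : Subgroup ↥(Cfsg.SU n F q)) : Set ↥(Cfsg.SU n F q)) :=
    fun g hg => Fx_le_normalizer_Qv u (hS g hg)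
  have h2 : IsPGroup p ((S : Subgroup ↥(Cfsg.SU n F q)) ⊔ Qv u : Subgroup ↥(Cfsg.SU n F q)) :=
    IsPGroup.to_sup_of_normal_right' S.2 (isPGroup_Qv (p := p) hF hn u) h1
  have h3 := S.is_maximal' h2 le_sup_left
  rw [← h3]
  exact le_sup_right

/-- the centre of a Sylow `p`-subgroup fixing the isotropic vector `u` is the group of
transvections with centre `u` -/
theorem sylow_center (hF : Fintype.card F = q ^ 2) (hn : 1 ≤ n) (u : Fin n → F) (hu0 : u ≠ 0)
    (hu : hermForm n F q u u = 0)
    (S : Sylow p ↥(Cfsg.SU n F q)) (hS : ∀ g ∈ S, av g u = u) (z : ↥(Cfsg.SU n F q)) :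
    (z ∈ S ∧ ∀ y ∈ S, z * y = y * z) ↔ z ∈ Atv hF u := by
  have hQ := Qv_le_sylow (p := p) hF hn u S hS
  constructor
  · rintro ⟨hz, hcomm⟩
    apply mem_Atv_of_comm hF u hu0 hu z (hS z hz)
    intro w b hwu hb
    exact hcomm _ (hQ (siegG_mem_Qv hF u w b hu hwu hb))
  · intro hz
    refine ⟨hQ (Atv_le_Qv hF u hu hz), ?_⟩
    intro y hy
    obtain ⟨c, hc, rfl⟩ := (mem_Atv hF u hu z).mp hz
    have h1 := conj_tv hF y u c hu hc
    have h2 : tv hF (av y u) c (by rw [herm_av]; exact hu) hc = tv hF u c hu hc := by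
      apply ext_av
      intro x
      rw [av_tv, av_tv, hS y hy]
    rw [h2] at h1
    calc tv hF u c hu hc * y = y * tv hF u c hu hc * y⁻¹ * y := by rw [h1]
      _ = y * tv hF u c hu hc := by group

end

end Cfsg.Agent.Lib.Helper6.AutPSU
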