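import Mathlib
import Cfsg.Agent.Lib.Helper6.AutPSU2
import Cfsg.Agent.Lib.Helper6.AutPSL7

/-!
# Automorphisms of `PSU_n(q)`, part 3: automorphisms permute the root subgroups
-/

set_option autoImplicit false
set_option linter.unusedSectionVars false
set_option linter.unusedVariables false
open Cfsg

namespace Cfsg.Agent.Lib.Helper6.AutPSU

open Matrix Module Cfsg.Agent.Lib.Helper6 Cfsg.Agent.S0779 Cfsg.Agent.S0781
open Cfsg.Agent.Lib.Helper6.SUG
open Cfsg.Agent.Lib.Helper6.AutPSL (img mem_img mem_img' img_symm_img img_img_symm img_mono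
  img_inf img_injective img_mul' img_inv_img img_conj_comm mem_img_of)
open scoped Pointwise

section
variable {F : Type*} [Field F] [Fintype F] {q n : ℕ}

/-- the root subgroup of `PSU` attached to the isotropic vector `u` -/
noncomputable def Rb (hF : Fintype.card F = q ^ 2) (u : Fin n → F) : Subgroup (Cfsg.PSU n F q) :=
  (Atv hF u).map pu

theorem mem_Rb (hF : Fintype.card F = q ^ 2) (u : Fin n → F) (hu : hermForm n F q u u = 0)
    (x : Cfsg.PSU n F q) :
    x ∈ Rb hF u ↔ ∃ (c : F) (hc : c ^ q = -c), x = pu (tv hF u c hu hc) := by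
  unfold Rb
  rw [Subgroup.mem_map]
  constructor
  · rintro ⟨g, hg, rfl⟩
    obtain ⟨c, hc, rfl⟩ := (mem_Atv hF u hu g).mp hg
    exact ⟨c, hc, rfl⟩
  · rintro ⟨c, hc, rfl⟩
    exact ⟨_, (mem_Atv hF u hu _).mpr ⟨c, hc, rfl⟩, rfl⟩

theorem Rb_smul (hF : Fintype.card F = q ^ 2) (a : F) (ha : a ≠ 0) (u : Fin n → F)
    (hu : hermForm n F q u u = 0) : Rb hF (a • u) = Rb hF u := by
  unfold Rb
  rw [Atv_smul hF a ha u hu]

theorem img_conj_Rb (hF : Fintype.card F = q ^ 2) (g : ↥(Cfsg.SU n F q)) (u : Fin n → F)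
    (hu : hermForm n F q u u = 0) :
    img (MulAut.conj (pu g)) (Rb hF u) = Rb hF (av g u) := by
  have hgu : hermForm n F q (av g u) (av g u) = 0 := by rw [herm_av, hu]
  ext y
  rw [mem_img, mem_Rb hF _ hgu]
  constructor
  · rintro ⟨x, hx, rfl⟩
    obtain ⟨c, hc, rfl⟩ := (mem_Rb hF u hu x).mp hx
    refine ⟨c, hc, ?_⟩
    rw [MulAut.conj_apply, ← conj_tv, map_mul, map_mul, map_inv]
  · rintro ⟨c, hc, rfl⟩
    refine ⟨pu (tv hF u c hu hc), (mem_Rb hF u hu _).mpr ⟨c, hc, rfl⟩, ?_⟩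
    rw [MulAut.conj_apply, ← conj_tv, map_mul, map_mul, map_inv]

theorem exists_herm_ne (hF : Fintype.card F = q ^ 2) (u : Fin n → F) (hu0 : u ≠ 0) :
    ∃ y, hermForm n F q y u ≠ 0 := by
  by_contra hcon
  push Not at hcon
  apply hu0
  apply herm_nondeg hF
  intro y
  exact herm_swap_zero hF (hcon y)

theorem tv_eq_imp (hF : Fintype.card F = q ^ 2) (u u' : Fin n → F) (hu0 : u ≠ 0)
    (hu : hermForm n F q u u = 0) (hu' : hermForm n F q u' u' = 0) (c c' : F)
    (hc : c ^ q = -c) (hc' : c' ^ q = -c') (hc0 : c ≠ 0)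
    (h : tv hF u c hu hc = tv hF u' c' hu' hc') : ∃ a : F, a ≠ 0 ∧ u = a • u' := by
  obtain ⟨y, hy⟩ := exists_herm_ne hF u hu0
  have h1 := congrArg (fun g => av g y) h
  simp only [av_tv] at h1
  have h2 : (c * hermForm n F q y u) • u = (c' * hermForm n F q y u') • u' := add_left_cancel h1
  have h3 : c * hermForm n F q y u ≠ 0 := mul_ne_zero hc0 hy
  refine ⟨(c * hermForm n F q y u)⁻¹ * (c' * hermForm n F q y u'), ?_, ?_⟩
  · intro h0
    rw [mul_eq_zero] at h0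
    rcases h0 with h0 | h0
    · exact h3 (inv_eq_zero.mp h0)
    · rw [h0, zero_smul] at h2
      rcases smul_eq_zero.mp h2 with h4 | h4
      · exact h3 h4
      · exact hu0 h4
  · rw [← smul_smul, ← h2, smul_smul, inv_mul_cancel₀ h3, one_smul]

variable {p : ℕ} [hp : Fact p.Prime] [CharP F p]

theorem tv_pow (hF : Fintype.card F = q ^ 2) (hn : 1 ≤ n) (u : Fin n → F) (c : F)
    (hu : hermForm n F q u u = 0) (hc : c ^ q = -c) : (tv hF u c hu hc) ^ (p ^ 2) = 1 :=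
  Qv_pow (p := p) hF hn u _ (tv_mem_Qv hF u c hu hc)

theorem Rb_le_imp (p : ℕ) [hp : Fact p.Prime] [CharP F p] (hF : Fintype.card F = q ^ 2) (hn : 2 ≤ n) (u u' : Fin n → F) (hu0 : u ≠ 0)
    (hu : hermForm n F q u u = 0) (hu' : hermForm n F q u' u' = 0)
    (h : Rb hF u ≤ Rb hF u') : ∃ a : F, a ≠ 0 ∧ u = a • u' := by
  obtain ⟨c, hc0, hc⟩ := exists_trace_zero hF
  have h1 : pu (tv hF u c hu hc) ∈ Rb hF u' := h ((mem_Rb hF u hu _).mpr ⟨c, hc, rfl⟩)
  obtain ⟨c', hc', h2⟩ := (mem_Rb hF u' hu' _).mp h1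
  have h3 := eq_of_pu_eq (p := p) hF hn _ _ 2 (tv_pow (p := p) hF (by omega) u c hu hc)
    (tv_pow (p := p) hF (by omega) u' c' hu' hc') h2
  exact tv_eq_imp hF u u' hu0 hu hu' c c' hc hc' hc0 h3

theorem tv_comm_of_perp (hF : Fintype.card F = q ^ 2) (u u' : Fin n → F)
    (hu : hermForm n F q u u = 0) (hu' : hermForm n F q u' u' = 0)
    (h : hermForm n F q u' u = 0) (c c' : F) (hc : c ^ q = -c) (hc' : c' ^ q = -c') :
    tv hF u c hu hc * tv hF u' c' hu' hc' = tv hF u' c' hu' hc' * tv hF u c hu hc := by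
  have h' := herm_swap_zero hF h
  apply ext_av
  intro x
  simp only [av_mul, av_tv, herm_add_left, herm_smul_left, h, h', mul_zero, add_zero]
  abel

theorem Rb_comm_iff (p : ℕ) [hp : Fact p.Prime] [CharP F p] (hF : Fintype.card F = q ^ 2) (hn : 2 ≤ n) (u u' : Fin n → F) (hu0 : u ≠ 0)
    (hu'0 : u' ≠ 0) (hu : hermForm n F q u u = 0) (hu' : hermForm n F q u' u' = 0) :
    (∀ x ∈ Rb hF u, ∀ y ∈ Rb hF u', x * y = y * x) ↔ hermForm n F q u' u = 0 := by
  constructor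
  · intro h
    by_contra hne
    obtain ⟨c, hc0, hc⟩ := exists_trace_zero hF
    have h1 := h _ ((mem_Rb hF u hu _).mpr ⟨c, hc, rfl⟩) _ ((mem_Rb hF u' hu' _).mpr ⟨c, hc, rfl⟩)
    have h2 := comm_of_pu_comm (p := p) hF hn _ _ 2 (tv_pow (p := p) hF (by omega) u' c hu' hc) h1
    have h3 := conj_tv hF (tv hF u c hu hc) u' c hu' hc
    rw [h2, mul_inv_cancel_right] at h3
    obtain ⟨a, ha, h4⟩ := tv_eq_imp hF u' _ hu'0 hu' _ c c hc hc hc0 h3
    rw [av_tv] at h4
    -- u' = a • (u' + (c * h(u',u)) • u)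
    have h5 : hermForm n F q u' u = a * hermForm n F q u' u := by
      conv_lhs => rw [h4]
      rw [herm_smul_left, herm_add_left, herm_smul_left, hu, mul_zero, add_zero]
    have ha1 : a = 1 := by
      have : (1 - a) * hermForm n F q u' u = 0 := by linear_combination h5
      rcases mul_eq_zero.mp this with h6 | h6
      · exact (sub_eq_zero.mp h6).symm
      · exact absurd h6 hne
    rw [ha1, one_smul] at h4
    have h6 : (c * hermForm n F q u' u) • u = 0 := by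
      have : u' + (c * hermForm n F q u' u) • u = u' + 0 := by rw [add_zero]; exact h4.symm
      exact add_left_cancel this
    rcases smul_eq_zero.mp h6 with h7 | h7
    · exact mul_ne_zero hc0 hne h7
    · exact hu0 h7
  · intro h x hx y hy
    obtain ⟨c, hc, rfl⟩ := (mem_Rb hF u hu x).mp hx
    obtain ⟨c', hc', rfl⟩ := (mem_Rb hF u' hu' y).mp hy
    rw [← map_mul, ← map_mul, tv_comm_of_perp hF u u' hu hu' h c c' hc hc']

end

section cen
variable {G : Type*} [Group G]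

/-- the centre of a subgroup, as a subgroup of the ambient group -/
def cen (H : Subgroup G) : Subgroup G := H ⊓ Subgroup.centralizer (H : Set G)

theorem mem_cen (H : Subgroup G) (x : G) : x ∈ cen H ↔ x ∈ H ∧ ∀ y ∈ H, y * x = x * y := by
  unfold cen
  rw [Subgroup.mem_inf, Subgroup.mem_centralizer_iff]
  rfl

theorem img_cen (γ : MulAut G) (H : Subgroup G) : img γ (cen H) = cen (img γ H) := by
  ext x
  rw [mem_img', mem_cen, mem_cen, mem_img']
  constructor
  · rintro ⟨h1, h2⟩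
    refine ⟨h1, ?_⟩
    intro y hy
    rw [mem_img'] at hy
    have := h2 _ hy
    rw [← map_mul, ← map_mul] at this
    exact (MulEquiv.injective _) this
  · rintro ⟨h1, h2⟩
    refine ⟨h1, ?_⟩
    intro y hy
    have := h2 (γ y) (mem_img_of γ H hy)
    have h3 := congrArg (MulEquiv.symm γ) this
    rw [map_mul, map_mul, MulEquiv.symm_apply_apply] at h3
    exact h3

end cen

section
variable {F : Type*} [Field F] [Fintype F] {q n : ℕ}
variable {p : ℕ} [hp : Fact p.Prime] [CharP F p]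

theorem sylow_pow (S : Sylow p ↥(Cfsg.SU n F q)) (y : ↥(Cfsg.SU n F q)) (hy : y ∈ S) :
    ∃ k : ℕ, y ^ (p ^ k) = 1 := by
  obtain ⟨k, hk⟩ := S.2 ⟨y, hy⟩
  refine ⟨k, ?_⟩
  have := congrArg Subtype.val hk
  rwa [Subgroup.coe_pow] at this

/-- the centre of the image of a Sylow subgroup fixing `u` is the root subgroup `Rb u` -/
theorem cen_sylow_map (hF : Fintype.card F = q ^ 2) (hn : 2 ≤ n) (u : Fin n → F) (hu0 : u ≠ 0)
    (hu : hermForm n F q u u = 0)
    (S : Sylow p ↥(Cfsg.SU n F q)) (hS : ∀ g ∈ S, av g u = u) :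
    cen ((S : Subgroup ↥(Cfsg.SU n F q)).map pu) = Rb hF u := by
  ext x
  rw [mem_cen]
  constructor
  · rintro ⟨hx, hcomm⟩
    obtain ⟨z, hz, rfl⟩ := Subgroup.mem_map.mp hx
    have h1 : ∀ y ∈ S, z * y = y * z := by
      intro y hy
      obtain ⟨k, hk⟩ := sylow_pow S y hy
      exact comm_of_pu_comm (p := p) hF hn z y k hk (hcomm _ (Subgroup.mem_map_of_mem _ hy)).symm
    have h2 := (sylow_center (p := p) hF (by omega) u hu0 hu S hS z).mp ⟨hz, h1⟩
    exact Subgroup.mem_map_of_mem _ h2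
  · intro hx
    obtain ⟨z, hz, rfl⟩ := Subgroup.mem_map.mp hx
    obtain ⟨h1, h2⟩ := (sylow_center (p := p) hF (by omega) u hu0 hu S hS z).mpr hz
    refine ⟨Subgroup.mem_map_of_mem _ h1, ?_⟩
    intro y hy
    obtain ⟨y', hy', rfl⟩ := Subgroup.mem_map.mp hy
    rw [← map_mul, ← map_mul, h2 y' hy']

/-- every Sylow `p`-subgroup of `PSU` is the image of a Sylow `p`-subgroup of `SU` -/
theorem exists_sylow_rep (Sb : Sylow p (Cfsg.PSU n F q)) :
    ∃ S : Sylow p ↥(Cfsg.SU n F q),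
      (Sb : Subgroup (Cfsg.PSU n F q)) = (S : Subgroup ↥(Cfsg.SU n F q)).map pu := by
  classical
  let S0 : Sylow p ↥(Cfsg.SU n F q) := default
  let Sb0 : Sylow p (Cfsg.PSU n F q) := S0.mapSurjective pu_surjective
  have hSb0 : (Sb0 : Subgroup _) = (S0 : Subgroup ↥(Cfsg.SU n F q)).map pu := by
    rw [Sylow.coe_mapSurjective]
  obtain ⟨gb, hgb⟩ := MulAction.exists_smul_eq (Cfsg.PSU n F q) Sb0 Sb
  obtain ⟨g, rfl⟩ := pu_surjective gb
  refine ⟨g • S0, ?_⟩
  rw [← hgb]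
  ext x
  rw [Sylow.smul_def, Sylow.pointwise_smul_def, Subgroup.mem_pointwise_smul_iff_inv_smul_mem, hSb0,
    Subgroup.mem_map, Subgroup.mem_map]
  constructor
  · rintro ⟨s, hs, hsx⟩
    refine ⟨g * s * g⁻¹, ?_, ?_⟩
    · rw [Sylow.smul_def, Sylow.pointwise_smul_def, Subgroup.mem_pointwise_smul_iff_inv_smul_mem]
      change (MulAut.conj g)⁻¹ (g * s * g⁻¹) ∈ S0
      rw [← map_inv, MulAut.conj_apply]
      have : g⁻¹ * (g * s * g⁻¹) * g⁻¹⁻¹ = s := by group
      rw [this]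
      exact hs
    · rw [map_mul, map_mul, map_inv, hsx]
      change pu g * ((MulAut.conj (pu g))⁻¹ x) * (pu g)⁻¹ = x
      rw [← map_inv, MulAut.conj_apply]
      group
  · rintro ⟨s, hs, rfl⟩
    rw [Sylow.smul_def, Sylow.pointwise_smul_def, Subgroup.mem_pointwise_smul_iff_inv_smul_mem] at hs
    refine ⟨(MulAut.conj g)⁻¹ s, hs, ?_⟩
    change _ = (MulAut.conj (pu g))⁻¹ (pu s)
    rw [← map_inv, ← map_inv, MulAut.conj_apply, MulAut.conj_apply, map_mul, map_mul]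
    simp only [map_inv]

/-- some Sylow `p`-subgroup fixes a given isotropic vector -/
theorem exists_sylow_fixing (hF : Fintype.card F = q ^ 2) (hn : 3 ≤ n) (u : Fin n → F)
    (hu0 : u ≠ 0) (hu : hermForm n F q u u = 0) :
    ∃ S : Sylow p ↥(Cfsg.SU n F q), ∀ g ∈ S, av g u = u := by
  classical
  let S0 : Sylow p ↥(Cfsg.SU n F q) := default
  have hn2 : 2 ≤ n := by omega
  obtain ⟨u₀, hu₀0, hu₀, hS0⟩ := exists_fixed_iso (p := p) hF hn2 S0 S0.2
  obtain ⟨t, -, ht⟩ := rel_iso hF hn u₀ u hu₀0 hu0 hu₀ hu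
  refine ⟨t • S0, ?_⟩
  intro g hg
  rw [Sylow.smul_def] at hg
  change g ∈ ((MulAut.conj t • S0 : Sylow p ↥(Cfsg.SU n F q)) : Subgroup ↥(Cfsg.SU n F q)) at hg
  rw [Sylow.pointwise_smul_def, Subgroup.mem_pointwise_smul_iff_inv_smul_mem] at hg
  change (MulAut.conj t)⁻¹ g ∈ S0 at hg
  rw [← map_inv, MulAut.conj_apply, inv_inv] at hg
  have h1 := hS0 _ hg
  rw [av_mul, av_mul, ht] at h1
  have h2 := congrArg (av t) h1
  rw [av_av_inv, ht] at h2
  exact h2

/-- automorphisms of `PSU` permute the root subgroups -/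
theorem root_perm (p : ℕ) [Fact p.Prime] [CharP F p] (hF : Fintype.card F = q ^ 2) (hn : 3 ≤ n)
    (γ : MulAut (Cfsg.PSU n F q))
    (u : Fin n → F) (hu0 : u ≠ 0) (hu : hermForm n F q u u = 0) :
    ∃ u' : Fin n → F, u' ≠ 0 ∧ hermForm n F q u' u' = 0 ∧ img γ (Rb hF u) = Rb hF u' := by
  classical
  have hn2 : 2 ≤ n := by omega
  obtain ⟨S, hS⟩ := exists_sylow_fixing (p := p) hF hn u hu0 hu
  let Sb : Sylow p (Cfsg.PSU n F q) := S.mapSurjective pu_surjective
  have hSb : (Sb : Subgroup _) = (S : Subgroup ↥(Cfsg.SU n F q)).map pu := by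
    rw [Sylow.coe_mapSurjective]
  obtain ⟨S', hS'⟩ := exists_sylow_rep (γ • Sb)
  obtain ⟨u', hu'0, hu', hS'u⟩ := exists_fixed_iso (p := p) hF hn2 S' S'.2
  refine ⟨u', hu'0, hu', ?_⟩
  have h1 : img γ ((S : Subgroup ↥(Cfsg.SU n F q)).map pu) =
      (S' : Subgroup ↥(Cfsg.SU n F q)).map pu := by
    rw [← hS', ← hSb]
    ext x
    rw [mem_img', Sylow.pointwise_smul_def, Subgroup.mem_pointwise_smul_iff_inv_smul_mem]
    rfl
  rw [← cen_sylow_map (p := p) hF hn2 u hu0 hu S hS, img_cen, h1,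
    cen_sylow_map (p := p) hF hn2 u' hu'0 hu' S' hS'u]

end

end Cfsg.Agent.Lib.Helper6.AutPSU
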