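import Mathlib
import Cfsg.Agent.Lib.Helper6.AutPSU3

/-!
# Automorphisms of `PSU_n(q)`, part 4: coordinates on the unipotent radical `Qv e` relative to a
hyperbolic pair `(e, f)`
-/

set_option autoImplicit false
set_option linter.unusedSectionVars false
set_option linter.unusedVariables false
open Cfsg

namespace Cfsg.Agent.Lib.Helper6.AutPSU

open Matrix Module Cfsg.Agent.Lib.Helper6 Cfsg.Agent.S0779 Cfsg.Agent.S0781
open Cfsg.Agent.Lib.Helper6.SUG

/-- a hyperbolic pair -/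
structure HPair (n : ℕ) (F : Type*) [Field F] (q : ℕ) where
  e : Fin n → F
  f : Fin n → F
  hee : hermForm n F q e e = 0
  hff : hermForm n F q f f = 0
  hef : hermForm n F q e f = 1
  hfe : hermForm n F q f e = 1

section
variable {F : Type*} [Field F] [Fintype F] {q n : ℕ}

namespace HPair

variable (P : HPair n F q)

/-- the swapped pair -/
def swap : HPair n F q where
  e := P.f
  f := P.e
  hee := P.hff
  hff := P.hee
  hef := P.hfe
  hfe := P.hef

theorem e_ne : P.e ≠ 0 := by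
  intro h
  have := P.hef
  rw [h, herm_zero_left] at this
  exact zero_ne_one this

theorem f_ne : P.f ≠ 0 := P.swap.e_ne

/-- membership in the orthogonal complement of the pair -/
def W (x : Fin n → F) : Prop := hermForm n F q x P.e = 0 ∧ hermForm n F q x P.f = 0

/-- projection to the complement -/
def proj (x : Fin n → F) : Fin n → F :=
  x - hermForm n F q x P.f • P.e - hermForm n F q x P.e • P.f

theorem decomp (x : Fin n → F) :
    x = hermForm n F q x P.f • P.e + hermForm n F q x P.e • P.f + P.proj x := by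
  unfold proj
  abel

theorem proj_W (x : Fin n → F) : P.W (P.proj x) := by
  unfold proj
  constructor
  · rw [herm_sub_left', herm_sub_left', herm_smul_left, herm_smul_left, P.hee, P.hfe]; ring
  · rw [herm_sub_left', herm_sub_left', herm_smul_left, herm_smul_left, P.hff, P.hef]; ring

theorem proj_of_W {x : Fin n → F} (hx : P.W x) : P.proj x = x := by
  unfold proj
  rw [hx.1, hx.2]
  simp

theorem W_zero (hF : Fintype.card F = q ^ 2) : P.W 0 := ⟨herm_zero_left _, herm_zero_left _⟩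

theorem W_add {x y : Fin n → F} (hx : P.W x) (hy : P.W y) : P.W (x + y) :=
  ⟨by rw [herm_add_left, hx.1, hy.1, add_zero], by rw [herm_add_left, hx.2, hy.2, add_zero]⟩

theorem W_smul (a : F) {x : Fin n → F} (hx : P.W x) : P.W (a • x) :=
  ⟨by rw [herm_smul_left, hx.1, mul_zero], by rw [herm_smul_left, hx.2, mul_zero]⟩

theorem W_neg {x : Fin n → F} (hx : P.W x) : P.W (-x) := by
  have := P.W_smul (-1) hx
  rwa [neg_one_smul] at this

theorem W_sub {x y : Fin n → F} (hx : P.W x) (hy : P.W y) : P.W (x - y) := by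
  rw [sub_eq_add_neg]
  exact P.W_add hx (P.W_neg hy)

theorem W_swap (hF : Fintype.card F = q ^ 2) {x : Fin n → F} (hx : P.W x) :
    hermForm n F q P.e x = 0 ∧ hermForm n F q P.f x = 0 :=
  ⟨herm_swap_zero hF hx.1, herm_swap_zero hF hx.2⟩

/-- a vector of the complement perpendicular to the complement is zero -/
theorem W_nondeg (hF : Fintype.card F = q ^ 2) {x : Fin n → F} (hx : P.W x)
    (h : ∀ y, P.W y → hermForm n F q x y = 0) : x = 0 := by
  apply herm_nondeg hF
  intro y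
  rw [P.decomp y, herm_add_right hF, herm_add_right hF, herm_smul_right, herm_smul_right,
    (P.W_swap hF hx).1 |> herm_swap_zero hF, (P.W_swap hF hx).2 |> herm_swap_zero hF,
    h _ (P.proj_W y)]
  ring

end HPair

/-- existence of a hyperbolic pair -/
theorem exists_hpair (hF : Fintype.card F = q ^ 2) (hn : 2 ≤ n) : Nonempty (HPair n F q) := by
  obtain ⟨u, hu0, hu⟩ := exists_iso_vec hF (k := n) hn
  obtain ⟨u', hu'u, huu', hu'u'⟩ := exists_herm_partner hF u hu0 hu
  exact ⟨⟨u, u', hu, hu'u', huu', hu'u⟩⟩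

variable (P : HPair n F q)

/-- the Siegel element of `Qv e` with parameters `(w, b)` -/
def sg (hF : Fintype.card F = q ^ 2) (w : Fin n → F) (b : F) (hw : P.W w)
    (hb : b + b ^ q + hermForm n F q w w = 0) : ↥(Cfsg.SU n F q) :=
  siegG hF P.e w b P.hee hw.1 hb

theorem av_sg (hF : Fintype.card F = q ^ 2) (w : Fin n → F) (b : F) (hw : P.W w)
    (hb : b + b ^ q + hermForm n F q w w = 0) (x : Fin n → F) :
    av (sg P hF w b hw hb) x =
      x + hermForm n F q x P.e • w + (b * hermForm n F q x P.e - hermForm n F q x w) • P.e :=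
  av_siegG hF P.e w b P.hee hw.1 hb x

theorem sg_mem (hF : Fintype.card F = q ^ 2) (w : Fin n → F) (b : F) (hw : P.W w)
    (hb : b + b ^ q + hermForm n F q w w = 0) : sg P hF w b hw hb ∈ Qv P.e :=
  siegG_mem_Qv hF P.e w b P.hee hw.1 hb

theorem av_sg_f (hF : Fintype.card F = q ^ 2) (w : Fin n → F) (b : F) (hw : P.W w)
    (hb : b + b ^ q + hermForm n F q w w = 0) :
    av (sg P hF w b hw hb) P.f = P.f + w + b • P.e := by
  rw [av_sg, P.hfe, (P.W_swap hF hw).2]
  module

/-- the `W`-coordinate of an element of `Qv e` -/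
def wc (g : ↥(Cfsg.SU n F q)) : Fin n → F :=
  av g P.f - P.f - hermForm n F q (av g P.f) P.f • P.e

/-- the `e`-coordinate of an element of `Qv e` -/
def bc (g : ↥(Cfsg.SU n F q)) : F := hermForm n F q (av g P.f) P.f

theorem av_f_eq (g : ↥(Cfsg.SU n F q)) : av g P.f = P.f + wc P g + bc P g • P.e := by
  unfold wc bc
  abel

theorem wc_W (g : ↥(Cfsg.SU n F q)) (hg : av g P.e = P.e) : P.W (wc P g) := by
  have h1 : hermForm n F q (av g P.f) P.e = 1 := by
    have : hermForm n F q (av g P.f) P.e = hermForm n F q (av g P.f) (av g P.e) := by rw [hg]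
    rw [this, herm_av, P.hfe]
  unfold wc
  constructor
  · rw [herm_sub_left', herm_sub_left', herm_smul_left, P.hee, h1, P.hfe]; ring
  · rw [herm_sub_left', herm_sub_left', herm_smul_left, P.hef, P.hff]; ring

theorem bc_rel (hF : Fintype.card F = q ^ 2) (g : ↥(Cfsg.SU n F q)) (hg : av g P.e = P.e) :
    bc P g + bc P g ^ q + hermForm n F q (wc P g) (wc P g) = 0 := by
  have hw := wc_W P g hg
  have hw' := P.W_swap hF hw
  have h1 : hermForm n F q (av g P.f) (av g P.f) = 0 := by rw [herm_av, P.hff]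
  rw [av_f_eq P g] at h1
  simp only [herm_add_left, herm_add_right hF, herm_smul_left, herm_smul_right, P.hee, P.hff,
    P.hef, P.hfe, hw.1, hw.2, hw'.1, hw'.2] at h1
  linear_combination h1

theorem wc_sg (hF : Fintype.card F = q ^ 2) (w : Fin n → F) (b : F) (hw : P.W w)
    (hb : b + b ^ q + hermForm n F q w w = 0) : wc P (sg P hF w b hw hb) = w := by
  unfold wc
  rw [av_sg_f, herm_add_left, herm_add_left, herm_smul_left, P.hff, hw.2, P.hef]
  module

theorem bc_sg (hF : Fintype.card F = q ^ 2) (w : Fin n → F) (b : F) (hw : P.W w)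
    (hb : b + b ^ q + hermForm n F q w w = 0) : bc P (sg P hF w b hw hb) = b := by
  unfold bc
  rw [av_sg_f, herm_add_left, herm_add_left, herm_smul_left, P.hff, hw.2, P.hef]
  ring

/-- an element of `Qv e` fixing `f` is trivial -/
theorem Qv_eq_one (hF : Fintype.card F = q ^ 2) (k : ↥(Cfsg.SU n F q)) (hk : k ∈ Qv P.e)
    (hkf : av k P.f = P.f) : k = 1 := by
  apply ext_av
  intro x
  rw [av_one]
  have hW : ∀ y, P.W y → av k y = y := by
    intro y hy
    obtain ⟨t, ht⟩ := hk.2 y hy.1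
    have h1 : hermForm n F q (av k y) (av k P.f) = 0 := by rw [herm_av, hy.2]
    rw [hkf, ht, herm_add_left, herm_smul_left, hy.2, P.hef] at h1
    have ht0 : t = 0 := by linear_combination h1
    rw [ht, ht0, zero_smul, add_zero]
  conv_lhs => rw [P.decomp x]
  rw [av_add, av_add, av_smul, av_smul, hk.1, hkf, hW _ (P.proj_W x)]
  exact (P.decomp x).symm

/-- elements of `Qv e` are determined by the image of `f` -/
theorem Qv_ext (hF : Fintype.card F = q ^ 2) (g g' : ↥(Cfsg.SU n F q)) (hg : g ∈ Qv P.e)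
    (hg' : g' ∈ Qv P.e) (h : av g P.f = av g' P.f) : g = g' := by
  have h1 : g⁻¹ * g' ∈ Qv P.e := (Qv P.e).mul_mem ((Qv P.e).inv_mem hg) hg'
  have h2 : av (g⁻¹ * g') P.f = P.f := by
    rw [av_mul, ← h, av_inv_av]
  have := Qv_eq_one P hF _ h1 h2
  exact inv_mul_eq_one.mp this

theorem Qv_ext' (hF : Fintype.card F = q ^ 2) (g g' : ↥(Cfsg.SU n F q)) (hg : g ∈ Qv P.e)
    (hg' : g' ∈ Qv P.e) (hw : wc P g = wc P g') (hb : bc P g = bc P g') : g = g' := by
  apply Qv_ext P hF g g' hg hg'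
  rw [av_f_eq P g, av_f_eq P g', hw, hb]

/-- every element of `Qv e` is a Siegel element -/
theorem Qv_eq_sg (hF : Fintype.card F = q ^ 2) (g : ↥(Cfsg.SU n F q)) (hg : g ∈ Qv P.e) :
    g = sg P hF (wc P g) (bc P g) (wc_W P g hg.1) (bc_rel P hF g hg.1) := by
  apply Qv_ext' P hF g _ hg (sg_mem P hF _ _ _ _)
  · rw [wc_sg]
  · rw [bc_sg]

/-- the action of an element of `Qv e` in terms of its coordinates -/
theorem av_Qv (hF : Fintype.card F = q ^ 2) (g : ↥(Cfsg.SU n F q)) (hg : g ∈ Qv P.e)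
    (x : Fin n → F) :
    av g x = x + hermForm n F q x P.e • wc P g +
      (bc P g * hermForm n F q x P.e - hermForm n F q x (wc P g)) • P.e := by
  conv_lhs => rw [Qv_eq_sg P hF g hg]
  rw [av_sg]

theorem wc_bc_of (g : ↥(Cfsg.SU n F q)) (w : Fin n → F) (b : F) (hw : P.W w)
    (h : av g P.f = P.f + w + b • P.e) : wc P g = w ∧ bc P g = b := by
  have h1 : hermForm n F q (av g P.f) P.f = b := by
    rw [h, herm_add_left, herm_add_left, herm_smul_left, P.hff, hw.2, P.hef]
    ring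
  constructor
  · unfold wc
    rw [h1, h]
    module
  · exact h1

theorem av_mul_f (hF : Fintype.card F = q ^ 2) (g g' : ↥(Cfsg.SU n F q)) (hg : g ∈ Qv P.e)
    (hg' : g' ∈ Qv P.e) : av (g * g') P.f = P.f + (wc P g + wc P g') +
      (bc P g + bc P g' - hermForm n F q (wc P g') (wc P g)) • P.e := by
  have hw' := wc_W P g' hg'.1
  rw [av_mul, av_f_eq P g', av_add, av_add, av_smul, hg.1, av_f_eq P g, av_Qv P hF g hg (wc P g'),
    hw'.1]
  module

theorem wc_mul (hF : Fintype.card F = q ^ 2) (g g' : ↥(Cfsg.SU n F q)) (hg : g ∈ Qv P.e)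
    (hg' : g' ∈ Qv P.e) : wc P (g * g') = wc P g + wc P g' :=
  (wc_bc_of P (g * g') _ _ (P.W_add (wc_W P g hg.1) (wc_W P g' hg'.1))
    (av_mul_f P hF g g' hg hg')).1

theorem bc_mul (hF : Fintype.card F = q ^ 2) (g g' : ↥(Cfsg.SU n F q)) (hg : g ∈ Qv P.e)
    (hg' : g' ∈ Qv P.e) :
    bc P (g * g') = bc P g + bc P g' - hermForm n F q (wc P g') (wc P g) :=
  (wc_bc_of P (g * g') _ _ (P.W_add (wc_W P g hg.1) (wc_W P g' hg'.1))
    (av_mul_f P hF g g' hg hg')).2

theorem wc_one : wc P (1 : ↥(Cfsg.SU n F q)) = 0 := by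
  unfold wc
  rw [av_one, P.hff]
  simp

theorem wc_inv (hF : Fintype.card F = q ^ 2) (g : ↥(Cfsg.SU n F q)) (hg : g ∈ Qv P.e) :
    wc P g⁻¹ = -wc P g := by
  have := wc_mul P hF g g⁻¹ hg ((Qv P.e).inv_mem hg)
  rw [mul_inv_cancel, wc_one] at this
  exact (neg_eq_of_add_eq_zero_right this.symm).symm

theorem wc_tv (hF : Fintype.card F = q ^ 2) (c : F) (hc : c ^ q = -c) :
    wc P (tv hF P.e c P.hee hc) = 0 := by
  unfold wc
  rw [av_tv, P.hfe, herm_add_left, herm_smul_left, P.hff, P.hef]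
  module

theorem bc_tv (hF : Fintype.card F = q ^ 2) (c : F) (hc : c ^ q = -c) :
    bc P (tv hF P.e c P.hee hc) = c := by
  unfold bc
  rw [av_tv, P.hfe, herm_add_left, herm_smul_left, P.hff, P.hef]
  ring

/-- elements of `Qv e` with trivial `W`-coordinate are transvections -/
theorem mem_Atv_of_wc (hF : Fintype.card F = q ^ 2) (g : ↥(Cfsg.SU n F q)) (hg : g ∈ Qv P.e)
    (h : wc P g = 0) : g ∈ Atv hF P.e := by
  have hb := bc_rel P hF g hg.1
  rw [h, herm_zero_left, add_zero] at hb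
  have hc : bc P g ^ q = -bc P g := by linear_combination hb
  rw [mem_Atv hF P.e P.hee]
  refine ⟨bc P g, hc, ?_⟩
  apply Qv_ext' P hF g _ hg (tv_mem_Qv hF P.e _ P.hee hc)
  · rw [h, wc_tv]
  · rw [bc_tv]

/-- the commutator relation in `Qv e` -/
theorem Qv_comm (hF : Fintype.card F = q ^ 2) (g g' : ↥(Cfsg.SU n F q)) (hg : g ∈ Qv P.e)
    (hg' : g' ∈ Qv P.e) (c : F) (hc : c ^ q = -c)
    (h : c = hermForm n F q (wc P g) (wc P g') - hermForm n F q (wc P g') (wc P g)) :
    g * g' = g' * g * tv hF P.e c P.hee hc := by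
  have ht := tv_mem_Qv hF P.e c P.hee hc
  apply Qv_ext' P hF _ _ ((Qv P.e).mul_mem hg hg')
    ((Qv P.e).mul_mem ((Qv P.e).mul_mem hg' hg) ht)
  · rw [wc_mul P hF _ _ hg hg', wc_mul P hF _ _ ((Qv P.e).mul_mem hg' hg) ht,
      wc_mul P hF _ _ hg' hg, wc_tv]
    abel
  · rw [bc_mul P hF _ _ hg hg', bc_mul P hF _ _ ((Qv P.e).mul_mem hg' hg) ht,
      bc_mul P hF _ _ hg' hg, wc_tv, bc_tv, herm_zero_left, h]
    ring

/-- the stabiliser of the two points of the pair -/
def Kp : Subgroup ↥(Cfsg.SU n F q) where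
  carrier := {k | (∃ a : F, av k P.e = a • P.e) ∧ ∃ a : F, av k P.f = a • P.f}
  mul_mem' := by
    rintro k k' ⟨⟨a, ha⟩, ⟨b, hb⟩⟩ ⟨⟨a', ha'⟩, ⟨b', hb'⟩⟩
    refine ⟨⟨a' * a, ?_⟩, ⟨b' * b, ?_⟩⟩
    · rw [av_mul, ha', av_smul, ha, smul_smul]
    · rw [av_mul, hb', av_smul, hb, smul_smul]
  one_mem' := ⟨⟨1, by rw [av_one, one_smul]⟩, ⟨1, by rw [av_one, one_smul]⟩⟩
  inv_mem' := by
    rintro k ⟨⟨a, ha⟩, ⟨b, hb⟩⟩
    have ha0 : a ≠ 0 := by
      rintro rfl
      rw [zero_smul] at ha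
      exact av_ne_zero k P.e_ne ha
    have hb0 : b ≠ 0 := by
      rintro rfl
      rw [zero_smul] at hb
      exact av_ne_zero k P.f_ne hb
    refine ⟨⟨a⁻¹, ?_⟩, ⟨b⁻¹, ?_⟩⟩
    · have := av_inv_av k P.e
      rw [ha, av_smul] at this
      calc av k⁻¹ P.e = a⁻¹ • (a • av k⁻¹ P.e) := by rw [smul_smul, inv_mul_cancel₀ ha0, one_smul]
        _ = a⁻¹ • P.e := by rw [this]
    · have := av_inv_av k P.f
      rw [hb, av_smul] at this
      calc av k⁻¹ P.f = b⁻¹ • (b • av k⁻¹ P.f) := by rw [smul_smul, inv_mul_cancel₀ hb0, one_smul]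
        _ = b⁻¹ • P.f := by rw [this]

/-- the eigenvalue of an element of `Kp` on `e` -/
def le (k : ↥(Cfsg.SU n F q)) : F := hermForm n F q (av k P.e) P.f

/-- the eigenvalue of an element of `Kp` on `f` -/
def lf (k : ↥(Cfsg.SU n F q)) : F := hermForm n F q (av k P.f) P.e

theorem Kp_e (k : ↥(Cfsg.SU n F q)) (hk : k ∈ Kp P) : av k P.e = le P k • P.e := by
  obtain ⟨a, ha⟩ := hk.1
  unfold le
  rw [ha, herm_smul_left, P.hef, mul_one]

theorem Kp_f (k : ↥(Cfsg.SU n F q)) (hk : k ∈ Kp P) : av k P.f = lf P k • P.f := by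
  obtain ⟨a, ha⟩ := hk.2
  unfold lf
  rw [ha, herm_smul_left, P.hfe, mul_one]

theorem le_lf (k : ↥(Cfsg.SU n F q)) (hk : k ∈ Kp P) : le P k * lf P k ^ q = 1 := by
  have h1 : hermForm n F q (av k P.e) (av k P.f) = 1 := by rw [herm_av, P.hef]
  rw [Kp_e P k hk, Kp_f P k hk, herm_smul_left, herm_smul_right, P.hef, mul_one] at h1
  exact h1

theorem lf_ne (hF : Fintype.card F = q ^ 2) (k : ↥(Cfsg.SU n F q)) (hk : k ∈ Kp P) :
    lf P k ≠ 0 := by
  intro h
  have := le_lf P k hk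
  rw [h, zero_pow (q_pos hF).ne', mul_zero] at this
  exact zero_ne_one this

theorem le_ne (k : ↥(Cfsg.SU n F q)) (hk : k ∈ Kp P) : le P k ≠ 0 := by
  intro h
  have := le_lf P k hk
  rw [h, zero_mul] at this
  exact zero_ne_one this

end

end Cfsg.Agent.Lib.Helper6.AutPSU
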