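import Mathlib
import Cfsg.Agent.Lib.Helper6.AutPSU4

/-!
# Automorphisms of `PSU_n(q)`, part 5: geometry of the complement of a hyperbolic pair and
torus-like elements of the Levi factor
-/

set_option autoImplicit false
set_option linter.unusedSectionVars false
set_option linter.unusedVariables false
open Cfsg

namespace Cfsg.Agent.Lib.Helper6.AutPSU

open Matrix Module Cfsg.Agent.Lib.Helper6 Cfsg.Agent.S0779 Cfsg.Agent.S0781
open Cfsg.Agent.Lib.Helper6.SUG

section
variable {F : Type*} [Field F] [Fintype F] {q n : ℕ}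

/-! ### torus-like matrices -/

/-- the matrix scaling `e` by `l`, `f` by `m`, identity on the complement -/
def hdm (R : HPair n F q) (l m : F) : Matrix (Fin n) (Fin n) F :=
  Bm q 1 (l - 1) (m - 1) R.e R.f

theorem hdm_mulVec (R : HPair n F q) (l m : F) (x : Fin n → F) :
    hdm R l m *ᵥ x = x + ((m - 1) * hermForm n F q x R.e) • R.f +
      ((l - 1) * hermForm n F q x R.f) • R.e := by
  unfold hdm
  rw [Bm_mulVec _ _ _ _ _ x R.hff, one_smul]

theorem hdm_det (R : HPair n F q) (l m : F) : (hdm R l m).det = l * m := by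
  unfold hdm
  rw [Bm_det _ _ _ _ _ R.hef R.hfe, one_pow, one_mul]
  ring

theorem hdm_pres (hF : Fintype.card F = q ^ 2) (R : HPair n F q) (l m : F) (h : l * m ^ q = 1)
    (x y : Fin n → F) :
    hermForm n F q (hdm R l m *ᵥ x) (hdm R l m *ᵥ y) = hermForm n F q x y := by
  have h' : l ^ q * m = 1 := by
    have := congrArg (fun t => t ^ q) h
    simp only [mul_pow, pow_q_q hF, one_pow] at this
    exact this
  unfold hdm
  apply Bm_pres hF 1 (l - 1) (m - 1) R.e R.f R.hee R.hff R.hef R.hfe (by rw [one_pow, mul_one])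
  · rw [sub_pow_q hF, one_pow]
    linear_combination h'
  · rw [sub_pow_q hF, one_pow]
    linear_combination h

/-- the quasi-reflection matrix `x ↦ x + a h(x,w) w` -/
def qrm (q : ℕ) (w : Fin n → F) (a : F) : Matrix (Fin n) (Fin n) F := P q a w w

theorem qrm_mulVec (w : Fin n → F) (a : F) (x : Fin n → F) :
    qrm q w a *ᵥ x = x + (a * hermForm n F q x w) • w := P_mulVec a w w x

theorem qrm_det (w : Fin n → F) (a : F) : (qrm q w a).det = 1 + a * hermForm n F q w w :=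
  P_det a w w

theorem qrm_pres (hF : Fintype.card F = q ^ 2) (w : Fin n → F) (a : F)
    (h : a + a ^ q + a * a ^ q * hermForm n F q w w = 0) (x y : Fin n → F) :
    hermForm n F q (qrm q w a *ᵥ x) (qrm q w a *ᵥ y) = hermForm n F q x y := by
  rw [qrm_mulVec, qrm_mulVec]
  simp only [herm_add_left, herm_add_right hF, herm_smul_left, herm_smul_right, mul_pow,
    herm_conj hF]
  linear_combination (hermForm n F q x w * hermForm n F q w y) * h

variable (P : HPair n F q)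

/-- `kE r`: `e ↦ r e`, `f ↦ r⁻¹ f`, identity on the complement, for `r` in the fixed field -/
def kE (hF : Fintype.card F = q ^ 2) (r : F) (hr0 : r ≠ 0) (hr : r ^ q = r) : ↥(Cfsg.SU n F q) :=
  mkSU (hdm P r r⁻¹) (by rw [hdm_det, mul_inv_cancel₀ hr0])
    (hdm_pres hF P r r⁻¹ (by rw [inv_pow, hr, mul_inv_cancel₀ hr0]))

theorem av_kE (hF : Fintype.card F = q ^ 2) (r : F) (hr0 : r ≠ 0) (hr : r ^ q = r)
    (x : Fin n → F) :
    av (kE P hF r hr0 hr) x = x + ((r⁻¹ - 1) * hermForm n F q x P.e) • P.f +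
      ((r - 1) * hermForm n F q x P.f) • P.e := hdm_mulVec P r r⁻¹ x

theorem av_kE_e (hF : Fintype.card F = q ^ 2) (r : F) (hr0 : r ≠ 0) (hr : r ^ q = r) :
    av (kE P hF r hr0 hr) P.e = r • P.e := by
  rw [av_kE, P.hee, P.hef]
  module

theorem av_kE_f (hF : Fintype.card F = q ^ 2) (r : F) (hr0 : r ≠ 0) (hr : r ^ q = r) :
    av (kE P hF r hr0 hr) P.f = r⁻¹ • P.f := by
  rw [av_kE, P.hff, P.hfe]
  module

theorem av_kE_W (hF : Fintype.card F = q ^ 2) (r : F) (hr0 : r ≠ 0) (hr : r ^ q = r)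
    (x : Fin n → F) (hx : P.W x) : av (kE P hF r hr0 hr) x = x := by
  rw [av_kE, hx.1, hx.2]
  simp

theorem kE_mem (hF : Fintype.card F = q ^ 2) (r : F) (hr0 : r ≠ 0) (hr : r ^ q = r) :
    kE P hF r hr0 hr ∈ Kp P :=
  ⟨⟨r, av_kE_e P hF r hr0 hr⟩, ⟨r⁻¹, av_kE_f P hF r hr0 hr⟩⟩

/-- the action of the Levi factor on the complement, normalised -/
def rho (k : ↥(Cfsg.SU n F q)) (w : Fin n → F) : Fin n → F := (lf P k)⁻¹ • av k w

theorem lf_kE (hF : Fintype.card F = q ^ 2) (r : F) (hr0 : r ≠ 0) (hr : r ^ q = r) :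
    lf P (kE P hF r hr0 hr) = r⁻¹ := by
  unfold lf
  rw [av_kE_f, herm_smul_left, P.hfe, mul_one]

theorem rho_kE (hF : Fintype.card F = q ^ 2) (r : F) (hr0 : r ≠ 0) (hr : r ^ q = r)
    (x : Fin n → F) (hx : P.W x) : rho P (kE P hF r hr0 hr) x = r • x := by
  unfold rho
  rw [lf_kE, inv_inv, av_kE_W P hF r hr0 hr x hx]

/-- transvections with centre in the complement lie in the Levi factor -/
theorem tv_mem_Kp (hF : Fintype.card F = q ^ 2) (u : Fin n → F) (hu : hermForm n F q u u = 0)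
    (huW : P.W u) (c : F) (hc : c ^ q = -c) : tv hF u c hu hc ∈ Kp P := by
  have h := P.W_swap hF huW
  refine ⟨⟨1, ?_⟩, ⟨1, ?_⟩⟩
  · rw [av_tv, h.1, mul_zero, zero_smul, add_zero, one_smul]
  · rw [av_tv, h.2, mul_zero, zero_smul, add_zero, one_smul]

theorem lf_tv (hF : Fintype.card F = q ^ 2) (u : Fin n → F) (hu : hermForm n F q u u = 0)
    (huW : P.W u) (c : F) (hc : c ^ q = -c) : lf P (tv hF u c hu hc) = 1 := by
  have h := P.W_swap hF huW
  unfold lf
  rw [av_tv, h.2, mul_zero, zero_smul, add_zero, P.hfe]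

theorem le_tv (hF : Fintype.card F = q ^ 2) (u : Fin n → F) (hu : hermForm n F q u u = 0)
    (huW : P.W u) (c : F) (hc : c ^ q = -c) : le P (tv hF u c hu hc) = 1 := by
  have h := P.W_swap hF huW
  unfold le
  rw [av_tv, h.1, mul_zero, zero_smul, add_zero, P.hef]

theorem rho_tv (hF : Fintype.card F = q ^ 2) (u : Fin n → F) (hu : hermForm n F q u u = 0)
    (huW : P.W u) (c : F) (hc : c ^ q = -c) (x : Fin n → F) :
    rho P (tv hF u c hu hc) x = x + (c * hermForm n F q x u) • u := by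
  unfold rho
  rw [lf_tv P hF u hu huW, inv_one, one_smul, av_tv]

/-- `kU l`: `e ↦ l⁻¹ e`, `f ↦ l^q f`, `u ↦ l u`, `u' ↦ l^{-q} u'` for a hyperbolic pair `(u, u')`
in the complement -/
def kU (hF : Fintype.card F = q ^ 2) (R : HPair n F q) (l : F) (hl0 : l ≠ 0) :
    ↥(Cfsg.SU n F q) :=
  mkSU (hdm P l⁻¹ (l ^ q) * hdm R l (l ^ q)⁻¹)
    (by
      rw [det_mul, hdm_det, hdm_det]
      have : l ^ q ≠ 0 := pow_ne_zero _ hl0
      field_simp)
    (by
      intro x y
      rw [← mulVec_mulVec, ← mulVec_mulVec,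
        hdm_pres hF P l⁻¹ (l ^ q) (by rw [pow_q_q hF, inv_mul_cancel₀ hl0]),
        hdm_pres hF R l (l ^ q)⁻¹ (by rw [inv_pow, pow_q_q hF, mul_inv_cancel₀ hl0])])

theorem av_kU (hF : Fintype.card F = q ^ 2) (R : HPair n F q) (l : F) (hl0 : l ≠ 0)
    (x : Fin n → F) :
    av (kU P hF R l hl0) x = hdm P l⁻¹ (l ^ q) *ᵥ (hdm R l (l ^ q)⁻¹ *ᵥ x) := by
  unfold av kU mkSU
  rw [mulVec_mulVec]

theorem av_kU_e (hF : Fintype.card F = q ^ 2) (R : HPair n F q) (hRe : P.W R.e) (hRf : P.W R.f)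
    (l : F) (hl0 : l ≠ 0) : av (kU P hF R l hl0) P.e = l⁻¹ • P.e := by
  have h1 := P.W_swap hF hRe
  have h2 := P.W_swap hF hRf
  rw [av_kU, hdm_mulVec R, h1.1, h2.1, mul_zero, mul_zero, zero_smul, zero_smul, add_zero, add_zero,
    hdm_mulVec P, P.hee, P.hef]
  module

theorem av_kU_f (hF : Fintype.card F = q ^ 2) (R : HPair n F q) (hRe : P.W R.e) (hRf : P.W R.f)
    (l : F) (hl0 : l ≠ 0) : av (kU P hF R l hl0) P.f = (l ^ q) • P.f := by
  have h1 := P.W_swap hF hRe
  have h2 := P.W_swap hF hRf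
  rw [av_kU, hdm_mulVec R, h1.2, h2.2, mul_zero, mul_zero, zero_smul, zero_smul, add_zero, add_zero,
    hdm_mulVec P, P.hff, P.hfe]
  module

theorem av_kU_u (hF : Fintype.card F = q ^ 2) (R : HPair n F q) (hRe : P.W R.e) (hRf : P.W R.f)
    (l : F) (hl0 : l ≠ 0) : av (kU P hF R l hl0) R.e = l • R.e := by
  rw [av_kU, hdm_mulVec R, R.hee, R.hef, hdm_mulVec P]
  simp only [herm_add_left, herm_smul_left, hRe.1, hRe.2, hRf.1, hRf.2]
  module

theorem kU_mem (hF : Fintype.card F = q ^ 2) (R : HPair n F q) (hRe : P.W R.e) (hRf : P.W R.f)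
    (l : F) (hl0 : l ≠ 0) : kU P hF R l hl0 ∈ Kp P :=
  ⟨⟨l⁻¹, av_kU_e P hF R hRe hRf l hl0⟩, ⟨l ^ q, av_kU_f P hF R hRe hRf l hl0⟩⟩

theorem lf_kU (hF : Fintype.card F = q ^ 2) (R : HPair n F q) (hRe : P.W R.e) (hRf : P.W R.f)
    (l : F) (hl0 : l ≠ 0) : lf P (kU P hF R l hl0) = l ^ q := by
  unfold lf
  rw [av_kU_f P hF R hRe hRf, herm_smul_left, P.hfe, mul_one]

theorem rho_kU_u (hF : Fintype.card F = q ^ 2) (R : HPair n F q) (hRe : P.W R.e) (hRf : P.W R.f)
    (l : F) (hl0 : l ≠ 0) : rho P (kU P hF R l hl0) R.e = (l / l ^ q) • R.e := by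
  unfold rho
  rw [lf_kU P hF R hRe hRf, av_kU_u P hF R hRe hRf, smul_smul]
  congr 1
  rw [div_eq_mul_inv, mul_comm]

/-- `kW l`: `e ↦ l e`, `f ↦ l^{-q} f`, `w ↦ l^{q-1} w` for an anisotropic `w` of the
complement -/
def kW (hF : Fintype.card F = q ^ 2) (w : Fin n → F) (hww : hermForm n F q w w ≠ 0) (l : F)
    (hl0 : l ≠ 0) : ↥(Cfsg.SU n F q) :=
  mkSU (hdm P l (l ^ q)⁻¹ * qrm q w ((l ^ q / l - 1) / hermForm n F q w w))
    (by
      rw [det_mul, hdm_det, qrm_det]
      have : l ^ q ≠ 0 := pow_ne_zero _ hl0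
      field_simp
      ring)
    (by
      intro x y
      have hlq : l ^ q ≠ 0 := pow_ne_zero _ hl0
      rw [← mulVec_mulVec, ← mulVec_mulVec,
        hdm_pres hF P l (l ^ q)⁻¹ (by rw [inv_pow, pow_q_q hF, mul_inv_cancel₀ hl0]),
        qrm_pres hF w]
      have hN : (hermForm n F q w w) ^ q = hermForm n F q w w := herm_self_fixed hF w
      rw [div_pow, sub_pow_q hF, div_pow, pow_q_q hF, one_pow, hN]
      field_simp
      ring)

theorem av_kW (hF : Fintype.card F = q ^ 2) (w : Fin n → F) (hww : hermForm n F q w w ≠ 0) (l : F)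
    (hl0 : l ≠ 0) (x : Fin n → F) :
    av (kW P hF w hww l hl0) x =
      hdm P l (l ^ q)⁻¹ *ᵥ (qrm q w ((l ^ q / l - 1) / hermForm n F q w w) *ᵥ x) := by
  unfold av kW mkSU
  rw [mulVec_mulVec]

theorem av_kW_e (hF : Fintype.card F = q ^ 2) (w : Fin n → F) (hw : P.W w)
    (hww : hermForm n F q w w ≠ 0) (l : F) (hl0 : l ≠ 0) :
    av (kW P hF w hww l hl0) P.e = l • P.e := by
  have h1 := P.W_swap hF hw
  rw [av_kW, qrm_mulVec, h1.1, mul_zero, zero_smul, add_zero, hdm_mulVec, P.hee, P.hef]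
  module

theorem av_kW_f (hF : Fintype.card F = q ^ 2) (w : Fin n → F) (hw : P.W w)
    (hww : hermForm n F q w w ≠ 0) (l : F) (hl0 : l ≠ 0) :
    av (kW P hF w hww l hl0) P.f = (l ^ q)⁻¹ • P.f := by
  have h1 := P.W_swap hF hw
  rw [av_kW, qrm_mulVec, h1.2, mul_zero, zero_smul, add_zero, hdm_mulVec, P.hff, P.hfe]
  module

theorem av_kW_w (hF : Fintype.card F = q ^ 2) (w : Fin n → F) (hw : P.W w)
    (hww : hermForm n F q w w ≠ 0) (l : F) (hl0 : l ≠ 0) :
    av (kW P hF w hww l hl0) w = (l ^ q / l) • w := by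
  rw [av_kW, qrm_mulVec, hdm_mulVec]
  simp only [herm_add_left, herm_smul_left, hw.1, hw.2]
  have : (l ^ q / l - 1) / hermForm n F q w w * hermForm n F q w w = l ^ q / l - 1 := by
    field_simp
  rw [this]
  module

theorem kW_mem (hF : Fintype.card F = q ^ 2) (w : Fin n → F) (hw : P.W w)
    (hww : hermForm n F q w w ≠ 0) (l : F) (hl0 : l ≠ 0) : kW P hF w hww l hl0 ∈ Kp P :=
  ⟨⟨l, av_kW_e P hF w hw hww l hl0⟩, ⟨(l ^ q)⁻¹, av_kW_f P hF w hw hww l hl0⟩⟩

theorem lf_kW (hF : Fintype.card F = q ^ 2) (w : Fin n → F) (hw : P.W w)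
    (hww : hermForm n F q w w ≠ 0) (l : F) (hl0 : l ≠ 0) :
    lf P (kW P hF w hww l hl0) = (l ^ q)⁻¹ := by
  unfold lf
  rw [av_kW_f P hF w hw, herm_smul_left, P.hfe, mul_one]

theorem le_kW (hF : Fintype.card F = q ^ 2) (w : Fin n → F) (hw : P.W w)
    (hww : hermForm n F q w w ≠ 0) (l : F) (hl0 : l ≠ 0) :
    le P (kW P hF w hww l hl0) = l := by
  unfold le
  rw [av_kW_e P hF w hw, herm_smul_left, P.hef, mul_one]

theorem rho_kW_w (hF : Fintype.card F = q ^ 2) (w : Fin n → F) (hw : P.W w)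
    (hww : hermForm n F q w w ≠ 0) (l : F) (hl0 : l ≠ 0) :
    rho P (kW P hF w hww l hl0) w = (l ^ q * l ^ q / l) • w := by
  unfold rho
  rw [lf_kW P hF w hw, inv_inv, av_kW_w P hF w hw, smul_smul]
  congr 1
  ring

/-! ### geometry of the complement -/

/-- a hyperbolic partner inside the complement -/
theorem exists_partner_W (hF : Fintype.card F = q ^ 2) (u : Fin n → F) (hu0 : u ≠ 0)
    (hu : hermForm n F q u u = 0) (huW : P.W u) :
    ∃ R : HPair n F q, R.e = u ∧ P.W R.f := by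
  obtain ⟨u'', hu''u, huu'', -⟩ := exists_herm_partner hF u hu0 hu
  have hs := P.W_swap hF huW
  obtain ⟨u₀, hu₀⟩ : ∃ u₀, u₀ = P.proj u'' := ⟨_, rfl⟩
  have hu₀W : P.W u₀ := by rw [hu₀]; exact P.proj_W u''
  have h1 : hermForm n F q u₀ u = 1 := by
    rw [hu₀]
    unfold HPair.proj
    rw [herm_sub_left', herm_sub_left', herm_smul_left, herm_smul_left, hs.1, hs.2, hu''u]
    ring
  have h1' : hermForm n F q u u₀ = 1 := by rw [← herm_conj hF, h1, one_pow]
  obtain ⟨t, ht⟩ := exists_siegel_param hF u₀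
  refine ⟨⟨u, u₀ + t • u, hu, ?_, ?_, ?_⟩, rfl, P.W_add hu₀W (P.W_smul t huW)⟩
  · simp only [herm_add_left, herm_add_right hF, herm_smul_left, herm_smul_right, hu, h1, h1']
    linear_combination ht
  · rw [herm_add_right hF, herm_smul_right, hu, h1']
    ring
  · rw [herm_add_left, herm_smul_left, hu, h1]
    ring

/-- the complement, as a submodule, with its isometry to a standard space -/
theorem exists_W_iso (hF : Fintype.card F = q ^ 2) :
    ∃ (U : Submodule F (Fin n → F)) (φ : U ≃ₗ[F] (Fin (n - 2) → F)),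
      (∀ y, y ∈ U ↔ P.W y) ∧
      ∀ a b : U, hermForm (n - 2) F q (φ a) (φ b) =
        hermForm n F q (a : Fin n → F) (b : Fin n → F) :=
  exists_perp_iso hF P.e P.f P.hee P.hfe P.hef P.hff

/-- isotropic vectors exist in the complement in dimension at least four -/
theorem exists_iso_W (hF : Fintype.card F = q ^ 2) (hn : 4 ≤ n) :
    ∃ u : Fin n → F, u ≠ 0 ∧ hermForm n F q u u = 0 ∧ P.W u := by
  obtain ⟨U, φ, hU, hφ⟩ := exists_W_iso P hF
  obtain ⟨z, hz0, hzz⟩ := exists_iso_vec hF (k := n - 2) (by omega)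
  refine ⟨(φ.symm z : Fin n → F), ?_, ?_, (hU _).mp (φ.symm z).2⟩
  · intro h
    apply hz0
    have : φ.symm z = 0 := Subtype.ext h
    rw [← φ.apply_symm_apply z, this, map_zero]
  · rw [← hφ, φ.apply_symm_apply, hzz]

/-- a hyperbolic pair inside the complement in dimension at least four -/
theorem exists_pair_W (hF : Fintype.card F = q ^ 2) (hn : 4 ≤ n) :
    ∃ R : HPair n F q, P.W R.e ∧ P.W R.f := by
  obtain ⟨u, hu0, hu, huW⟩ := exists_iso_W P hF hn
  obtain ⟨R, hRe, hRf⟩ := exists_partner_W P hF u hu0 hu huW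
  exact ⟨R, hRe ▸ huW, hRf⟩

/-- in dimension three the complement is an anisotropic line -/
theorem exists_gen_W (hF : Fintype.card F = q ^ 2) (hn : n = 3) :
    ∃ w : Fin n → F, P.W w ∧ hermForm n F q w w = 1 ∧ ∀ x, P.W x → ∃ a : F, x = a • w := by
  obtain ⟨U, φ, hU, hφ⟩ := exists_W_iso P hF
  subst hn
  obtain ⟨w, hw⟩ : ∃ w : U, w = φ.symm (fun _ => 1) := ⟨_, rfl⟩
  refine ⟨(w : Fin 3 → F), (hU _).mp w.2, ?_, ?_⟩
  · rw [← hφ, hw, φ.apply_symm_apply]
    simp [hermForm]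
  · intro x hx
    refine ⟨φ ⟨x, (hU x).mpr hx⟩ 0, ?_⟩
    have h1 : (⟨x, (hU x).mpr hx⟩ : U) = (φ ⟨x, (hU x).mpr hx⟩ 0) • w := by
      apply φ.injective
      rw [map_smul, hw, φ.apply_symm_apply]
      funext i
      have hi : i = 0 := by
        apply Fin.ext
        have := i.2
        simp only [Fin.coe_ofNat_eq_mod]
        omega
      rw [hi]
      simp
    exact congrArg Subtype.val h1

/-- the complement is non-zero in dimension at least three -/
theorem exists_ne_W (hF : Fintype.card F = q ^ 2) (hn : 3 ≤ n) :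
    ∃ w : Fin n → F, P.W w ∧ w ≠ 0 := by
  obtain ⟨U, φ, hU, hφ⟩ := exists_W_iso P hF
  obtain ⟨w, hw⟩ : ∃ w : U, w = φ.symm (fun _ => 1) := ⟨_, rfl⟩
  refine ⟨(w : Fin n → F), (hU _).mp w.2, ?_⟩
  intro h
  have h0 : w = 0 := Subtype.ext h
  have h1 : φ w = fun _ => 1 := by rw [hw, φ.apply_symm_apply]
  rw [h0, map_zero] at h1
  have := congrFun h1 ⟨0, by omega⟩
  simp at this

/-- cardinality of the complement -/
theorem card_W (hF : Fintype.card F = q ^ 2) :
    Nat.card {w : Fin n → F // P.W w} = (q ^ 2) ^ (n - 2) := by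
  obtain ⟨U, φ, hU, hφ⟩ := exists_W_iso P hF
  have e1 : {w : Fin n → F // P.W w} ≃ U :=
    { toFun := fun w => ⟨w.1, (hU _).mpr w.2⟩
      invFun := fun w => ⟨w.1, (hU _).mp w.2⟩
      left_inv := fun w => rfl
      right_inv := fun w => rfl }
  rw [Nat.card_congr e1, Nat.card_congr φ.toEquiv, Nat.card_eq_fintype_card, Fintype.card_pi]
  simp [hF]

/-- decomposition of a vector of the complement relative to a hyperbolic pair of the
complement -/
theorem proj_W_W (R : HPair n F q) (hRe : P.W R.e) (hRf : P.W R.f) (x : Fin n → F) (hx : P.W x) :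
    P.W (R.proj x) := by
  unfold HPair.proj
  exact P.W_sub (P.W_sub hx (P.W_smul _ hRe)) (P.W_smul _ hRf)

/-- an isotropic vector `u' + w + b u` built from a vector perpendicular to the pair -/
theorem iso_of_perp (hF : Fintype.card F = q ^ 2) (R : HPair n F q) (w : Fin n → F)
    (hw : R.W w) (b : F) (hb : b + b ^ q + hermForm n F q w w = 0) :
    hermForm n F q (R.f + w + b • R.e) (R.f + w + b • R.e) = 0 := by
  have h := R.W_swap hF hw
  simp only [herm_add_left, herm_add_right hF, herm_smul_left, herm_smul_right, R.hee, R.hff,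
    R.hef, R.hfe, hw.1, hw.2, h.1, h.2]
  linear_combination hb

end

end Cfsg.Agent.Lib.Helper6.AutPSU
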