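import Mathlib
import Cfsg.Agent.Lib.Helper6.AutPSU5

/-!
# Automorphisms of `PSU_n(q)`, part 6: additive maps of the complement commuting with the Levi
factor are scalars
-/

set_option autoImplicit false
set_option linter.unusedSectionVars false
set_option linter.unusedVariables false
open Cfsg

namespace Cfsg.Agent.Lib.Helper6.AutPSU

open Matrix Module Cfsg.Agent.Lib.Helper6 Cfsg.Agent.S0779 Cfsg.Agent.S0781
open Cfsg.Agent.Lib.Helper6.SUG

section
variable {F : Type*} [Field F] [Fintype F] {q n : ℕ}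

/-- decomposition of an element over the fixed field -/
theorem decomp_Fq (hF : Fintype.card F = q ^ 2) (ν : F) (hν : ν ^ q ≠ ν) (a : F) :
    ∃ r₁ r₂ : F, r₁ ^ q = r₁ ∧ r₂ ^ q = r₂ ∧ a = r₁ + r₂ * ν := by
  have hd : ν - ν ^ q ≠ 0 := fun h => hν (sub_eq_zero.mp h).symm
  have hd' : ν ^ q - ν ≠ 0 := fun h => hν (sub_eq_zero.mp h)
  obtain ⟨r₂, hr₂⟩ : ∃ r₂, r₂ = (a - a ^ q) / (ν - ν ^ q) := ⟨_, rfl⟩
  have h2 : r₂ ^ q = r₂ := by
    rw [hr₂, div_pow, sub_pow_q hF, sub_pow_q hF, pow_q_q hF, pow_q_q hF]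
    field_simp
    ring
  have h3 : r₂ * (ν - ν ^ q) = a - a ^ q := by
    rw [hr₂]
    field_simp
  refine ⟨a - r₂ * ν, r₂, ?_, h2, by ring⟩
  rw [sub_pow_q hF, mul_pow, h2]
  linear_combination h3

/-- a norm-one element outside the fixed field, of the form `l / l ^ q` -/
theorem exists_nu (hF : Fintype.card F = q ^ 2) :
    ∃ l : F, l ≠ 0 ∧ (l / l ^ q) ^ q ≠ l / l ^ q := by
  obtain ⟨ζ, hζ⟩ := exists_prim_root hF
  have hq := two_le_q hF
  have h1 : (ζ : F) ^ (q + 1) = 1 := by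
    rw [← Units.val_pow_eq_pow_val, hζ.pow_eq_one, Units.val_one]
  have hζ0 : (ζ : F) ≠ 0 := ζ.ne_zero
  have h2 : (ζ : F) ^ 2 ≠ 1 := by
    intro h
    have h3 : ζ ^ 2 = 1 := Units.ext (by rw [Units.val_pow_eq_pow_val, h, Units.val_one])
    have := hζ.dvd_of_pow_eq_one 2 h3
    have := Nat.le_of_dvd (by norm_num) this
    omega
  have hζq : (ζ : F) * (ζ : F) ^ q = 1 := by rw [← pow_succ']; exact h1
  obtain ⟨b, hb0, hb⟩ := hilbert90 (conjQ hF) (conjQ_ne_id hF) (conjQ_conjQ hF) (ζ : F)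
    (by rw [conjQ_apply]; exact hζq)
  rw [conjQ_apply] at hb
  have hbq : b ^ q ≠ 0 := pow_ne_zero _ hb0
  have h4 : b / b ^ q = (ζ : F) := by
    rw [div_eq_iff hbq]
    exact hb
  refine ⟨b, hb0, ?_⟩
  rw [h4]
  intro h
  apply h2
  rw [pow_two]
  calc (ζ : F) * (ζ : F) = (ζ : F) * (ζ : F) ^ q := by rw [h]
    _ = 1 := hζq

/-- an element `l ^ q * l ^ q / l` outside the fixed field, for `q > 2` -/
theorem exists_s (hF : Fintype.card F = q ^ 2) (hq3 : 3 ≤ q) :
    ∃ l : F, l ≠ 0 ∧ (l ^ q * l ^ q / l) ^ q ≠ l ^ q * l ^ q / l := by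
  classical
  obtain ⟨γ, hγ⟩ := IsCyclic.exists_generator (α := Fˣ)
  have hord : orderOf γ = q ^ 2 - 1 := by
    rw [orderOf_eq_card_of_forall_mem_zpowers hγ, Nat.card_eq_fintype_card, Fintype.card_units, hF]
  have hγ0 : (γ : F) ≠ 0 := γ.ne_zero
  refine ⟨(γ : F), hγ0, ?_⟩
  intro h
  have hγq : (γ : F) ^ q ≠ 0 := pow_ne_zero _ hγ0
  rw [div_pow, mul_pow, pow_q_q hF] at h
  have h1 : (γ : F) ^ 3 = ((γ : F) ^ q) ^ 3 := by
    field_simp at h
    linear_combination h
  have h2 : (γ : F) ^ (3 * q) = (γ : F) ^ 3 := by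
    rw [h1, ← pow_mul, mul_comm]
  have h3 : (γ : F) ^ (3 * q - 3) = 1 := by
    have h4 : (γ : F) ^ (3 * q) = (γ : F) ^ (3 * q - 3) * (γ : F) ^ 3 := by
      rw [← pow_add]
      congr 1
      omega
    rw [h4] at h2
    have h5 : (γ : F) ^ 3 ≠ 0 := pow_ne_zero _ hγ0
    have : ((γ : F) ^ (3 * q - 3) - 1) * (γ : F) ^ 3 = 0 := by linear_combination h2
    rcases mul_eq_zero.mp this with h6 | h6
    · exact sub_eq_zero.mp h6
    · exact absurd h6 h5
  have h4 : γ ^ (3 * q - 3) = 1 := Units.ext (by rw [Units.val_pow_eq_pow_val, h3, Units.val_one])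
  have h5 : q ^ 2 - 1 ∣ 3 * q - 3 := by
    rw [← hord]
    exact orderOf_dvd_of_pow_eq_one h4
  have h6 : q ^ 2 - 1 = (q - 1) * (q + 1) := by
    obtain ⟨r, rfl⟩ : ∃ r, q = r + 1 := ⟨q - 1, by omega⟩
    simp only [Nat.add_sub_cancel]
    ring_nf
    omega
  have h7 : 3 * q - 3 = (q - 1) * 3 := by omega
  rw [h6, h7] at h5
  have h8 : q + 1 ∣ 3 := Nat.dvd_of_mul_dvd_mul_left (by omega) h5
  have := Nat.le_of_dvd (by norm_num) h8
  omega

variable (P : HPair n F q)

theorem rho_smul (k : ↥(Cfsg.SU n F q)) (a : F) (w : Fin n → F) :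
    rho P k (a • w) = a • rho P k w := by
  unfold rho
  rw [av_smul, smul_comm]

theorem rho_add (k : ↥(Cfsg.SU n F q)) (w w' : Fin n → F) :
    rho P k (w + w') = rho P k w + rho P k w' := by
  unfold rho
  rw [av_add, smul_add]

/-- the Levi factor preserves the complement -/
theorem av_Kp_W (hF : Fintype.card F = q ^ 2) (k : ↥(Cfsg.SU n F q)) (hk : k ∈ Kp P)
    (w : Fin n → F) (hw : P.W w) : P.W (av k w) := by
  have hk' := (Kp P).inv_mem hk
  constructor
  · rw [herm_av_left, Kp_e P _ hk', herm_smul_right, hw.1, mul_zero]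
  · rw [herm_av_left, Kp_f P _ hk', herm_smul_right, hw.2, mul_zero]

theorem rho_W (hF : Fintype.card F = q ^ 2) (k : ↥(Cfsg.SU n F q)) (hk : k ∈ Kp P)
    (w : Fin n → F) (hw : P.W w) : P.W (rho P k w) :=
  P.W_smul _ (av_Kp_W P hF k hk w hw)

section cent
variable (T : (Fin n → F) → (Fin n → F))
  (hTW : ∀ w, P.W w → P.W (T w))
  (hadd : ∀ w w', P.W w → P.W w' → T (w + w') = T w + T w')
  (hcomm : ∀ k ∈ Kp P, ∀ w, P.W w → T (rho P k w) = rho P k (T w))

include hadd in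
theorem T_zero (hF : Fintype.card F = q ^ 2) : T 0 = 0 := by
  have := hadd 0 0 (P.W_zero hF) (P.W_zero hF)
  rw [add_zero] at this
  exact left_eq_add.mp this

include hTW hadd hcomm in
theorem T_fixed_smul (hF : Fintype.card F = q ^ 2) (r : F) (hr : r ^ q = r) (w : Fin n → F)
    (hw : P.W w) : T (r • w) = r • T w := by
  by_cases hr0 : r = 0
  · rw [hr0, zero_smul, zero_smul, T_zero P T hadd hF]
  · have := hcomm _ (kE_mem P hF r hr0 hr) w hw
    rw [rho_kE P hF r hr0 hr w hw, rho_kE P hF r hr0 hr _ (hTW w hw)] at this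
    exact this

include hTW hadd hcomm in
/-- homogeneity along a vector from homogeneity for the fixed field and one more scalar -/
theorem T_homog (hF : Fintype.card F = q ^ 2) (u : Fin n → F) (hu : P.W u) (ν : F)
    (hν : ν ^ q ≠ ν) (hTν : ∀ a : F, T ((ν * a) • u) = ν • T (a • u)) (a : F) :
    T (a • u) = a • T u := by
  obtain ⟨r₁, r₂, h1, h2, rfl⟩ := decomp_Fq hF ν hν a
  have e1 : (r₁ + r₂ * ν) • u = r₁ • u + (ν * r₂) • u := by module
  rw [e1, hadd _ _ (P.W_smul _ hu) (P.W_smul _ hu), T_fixed_smul P T hTW hadd hcomm hF r₁ h1 u hu,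
    hTν, T_fixed_smul P T hTW hadd hcomm hF r₂ h2 u hu]
  module

include hTW hadd hcomm in
/-- `T` is homogeneous on isotropic lines of the complement -/
theorem T_iso (hF : Fintype.card F = q ^ 2) (u : Fin n → F) (hu0 : u ≠ 0)
    (hu : hermForm n F q u u = 0) (huW : P.W u) :
    ∃ c : F, ∀ a : F, T (a • u) = (a * c) • u := by
  obtain ⟨R, hRe, hRf⟩ := exists_partner_W P hF u hu0 hu huW
  subst hRe
  obtain ⟨θ, hθ0, hθ⟩ := exists_trace_zero hF
  -- `T` preserves the line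
  have hline : ∀ a : F, ∃ t : F, T (a • R.e) = t • R.e := by
    intro a
    obtain ⟨x, hx⟩ : ∃ x, x = (a / θ) • R.f := ⟨_, rfl⟩
    have hxW : P.W x := by rw [hx]; exact P.W_smul _ hRf
    have h1 := hcomm _ (tv_mem_Kp P hF R.e hu huW θ hθ) x hxW
    rw [rho_tv P hF R.e hu huW, rho_tv P hF R.e hu huW] at h1
    have h2 : θ * hermForm n F q x R.e = a := by
      rw [hx, herm_smul_left, R.hfe]
      field_simp
    rw [h2, hadd _ _ hxW (P.W_smul _ huW)] at h1
    exact ⟨θ * hermForm n F q (T x) R.e, add_left_cancel h1⟩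
  obtain ⟨l, hl0, hl⟩ := exists_nu hF
  have hTν : ∀ a : F, T ((l / l ^ q * a) • R.e) = (l / l ^ q) • T (a • R.e) := by
    intro a
    obtain ⟨t, ht⟩ := hline a
    have h1 := hcomm _ (kU_mem P hF R huW hRf l hl0) (a • R.e) (P.W_smul _ huW)
    rw [rho_smul, rho_kU_u P hF R huW hRf, ht, rho_smul, rho_kU_u P hF R huW hRf, smul_smul,
      smul_smul] at h1
    rw [mul_comm, h1, ht, smul_smul, mul_comm]
  obtain ⟨c, hc⟩ := hline 1
  rw [one_smul] at hc
  refine ⟨c, fun a => ?_⟩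
  rw [T_homog P T hTW hadd hcomm hF R.e huW _ hl hTν a, hc, smul_smul]

include hTW hadd hcomm in
/-- the scalars of `T` on two non-perpendicular isotropic lines agree -/
theorem T_coef_eq (hF : Fintype.card F = q ^ 2) (y₁ y₂ : Fin n → F) (h1W : P.W y₁) (h2W : P.W y₂)
    (h11 : hermForm n F q y₁ y₁ = 0) (h22 : hermForm n F q y₂ y₂ = 0)
    (h12 : hermForm n F q y₁ y₂ ≠ 0) (c₁ c₂ : F)
    (hc₁ : ∀ a : F, T (a • y₁) = (a * c₁) • y₁) (hc₂ : ∀ a : F, T (a • y₂) = (a * c₂) • y₂) :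
    c₁ = c₂ := by
  obtain ⟨θ, hθ0, hθ⟩ := exists_trace_zero hF
  obtain ⟨t, ht⟩ : ∃ t, t = hermForm n F q y₁ y₂ := ⟨_, rfl⟩
  rw [← ht] at h12
  have h21 : hermForm n F q y₂ y₁ = t ^ q := by rw [ht, herm_conj hF]
  have htq : t ^ q ≠ 0 := pow_ne_zero _ h12
  obtain ⟨s, hs⟩ : ∃ s, s = θ / t ^ q := ⟨_, rfl⟩
  have hs0 : s ≠ 0 := by rw [hs]; exact div_ne_zero hθ0 htq
  have hsq : s ^ q = -θ / t := by rw [hs, div_pow, hθ, pow_q_q hF]
  obtain ⟨z, hz⟩ : ∃ z, z = y₁ + s • y₂ := ⟨_, rfl⟩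
  have hzW : P.W z := by rw [hz]; exact P.W_add h1W (P.W_smul _ h2W)
  have hzz : hermForm n F q z z = 0 := by
    rw [hz]
    simp only [herm_add_left, herm_add_right hF, herm_smul_left, herm_smul_right, h11, h22, ← ht,
      h21, hsq]
    rw [hs]
    field_simp
    ring
  have hz0 : z ≠ 0 := by
    intro h0
    have : hermForm n F q z y₂ = 0 := by rw [h0, herm_zero_left]
    rw [hz, herm_add_left, herm_smul_left, h22, ← ht] at this
    apply h12
    linear_combination this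
  obtain ⟨cz, hcz⟩ := T_iso P T hTW hadd hcomm hF z hz0 hzz hzW
  have e1 : T z = c₁ • y₁ + (s * c₂) • y₂ := by
    rw [hz, hadd _ _ h1W (P.W_smul _ h2W), hc₂ s]
    have := hc₁ 1
    rw [one_smul, one_mul] at this
    rw [this]
  have e2 : T z = cz • y₁ + (cz * s) • y₂ := by
    have := hcz 1
    rw [one_smul, one_mul] at this
    rw [this, hz]
    module
  have e3 : c₁ • y₁ + (s * c₂) • y₂ = cz • y₁ + (cz * s) • y₂ := by rw [← e1, e2]
  have e4 := congrArg (fun v => hermForm n F q v y₂) e3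
  simp only [herm_add_left, herm_smul_left, h22, ← ht, mul_zero, add_zero] at e4
  have e5 := congrArg (fun v => hermForm n F q v y₁) e3
  simp only [herm_add_left, herm_smul_left, h11, h21, mul_zero, zero_add] at e5
  have hc1z : c₁ = cz := mul_right_cancel₀ h12 e4
  have hc2z : c₂ = cz := by
    have : s * c₂ = cz * s := mul_right_cancel₀ htq e5
    have h' : s * c₂ = s * cz := by rw [this]; ring
    exact mul_left_cancel₀ hs0 h'
  rw [hc1z, hc2z]

include hTW hadd hcomm in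
/-- an additive map of the complement commuting with the Levi factor is a scalar -/
theorem cent_scalar (hF : Fintype.card F = q ^ 2) (hn : 3 ≤ n) (h32 : ¬ (n = 3 ∧ q = 2)) :
    ∃ c : F, ∀ w, P.W w → T w = c • w := by
  by_cases hn4 : 4 ≤ n
  · obtain ⟨R, hRe, hRf⟩ := exists_pair_W P hF hn4
    obtain ⟨c, hc⟩ := T_iso P T hTW hadd hcomm hF R.e R.e_ne R.hee hRe
    obtain ⟨c', hc'⟩ := T_iso P T hTW hadd hcomm hF R.f R.f_ne R.hff hRf
    have hcc' : c = c' := T_coef_eq P T hTW hadd hcomm hF R.e R.f hRe hRf R.hee R.hff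
      (by rw [R.hef]; exact one_ne_zero) c c' hc hc'
    subst hcc'
    refine ⟨c, ?_⟩
    -- vectors perpendicular to the pair
    have key : ∀ w₂, P.W w₂ → R.W w₂ → T w₂ = c • w₂ := by
      intro w₂ hw₂ hw₂R
      obtain ⟨b, hb⟩ := exists_siegel_param hF w₂
      obtain ⟨y, hy⟩ : ∃ y, y = R.f + w₂ + b • R.e := ⟨_, rfl⟩
      have hyy : hermForm n F q y y = 0 := by rw [hy]; exact iso_of_perp hF R w₂ hw₂R b hb
      have hyW : P.W y := by rw [hy]; exact P.W_add (P.W_add hRf hw₂) (P.W_smul _ hRe)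
      have hey : hermForm n F q R.e y = 1 := by
        rw [hy, herm_add_right hF, herm_add_right hF, herm_smul_right, R.hee, R.hef,
          (R.W_swap hF hw₂R).1]
        ring
      have hy0 : y ≠ 0 := by
        intro h0
        rw [h0, herm_zero_right hF] at hey
        exact zero_ne_one hey
      obtain ⟨cy, hcy⟩ := T_iso P T hTW hadd hcomm hF y hy0 hyy hyW
      have hcy' : c = cy := T_coef_eq P T hTW hadd hcomm hF R.e y hRe hyW R.hee hyy
        (by rw [hey]; exact one_ne_zero) c cy hc hcy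
      subst hcy'
      have e1 : T y = c • y := by
        have := hcy 1
        rwa [one_smul, one_mul] at this
      have e2 : T y = c • R.f + T w₂ + (b * c) • R.e := by
        rw [hy, hadd _ _ (P.W_add hRf hw₂) (P.W_smul _ hRe), hadd _ _ hRf hw₂, hc b]
        have := hc' 1
        rw [one_smul, one_mul] at this
        rw [this]
      have e3 : T w₂ = c • y - c • R.f - (b * c) • R.e := by
        rw [← e1, e2]
        abel
      rw [e3, hy]
      module
    intro w hw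
    have hd := R.decomp w
    have hpW := proj_W_W P R hRe hRf w hw
    have hpR := R.proj_W w
    conv_lhs => rw [hd]
    rw [hadd _ _ (P.W_add (P.W_smul _ hRe) (P.W_smul _ hRf)) hpW,
      hadd _ _ (P.W_smul _ hRe) (P.W_smul _ hRf), hc, hc', key _ hpW hpR]
    conv_rhs => rw [hd]
    module
  · have hn3 : n = 3 := by omega
    have hq3 : 3 ≤ q := by
      have := two_le_q hF
      by_contra h
      exact h32 ⟨hn3, by omega⟩
    obtain ⟨w, hwW, hww, hgen⟩ := exists_gen_W P hF hn3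
    have hww0 : hermForm n F q w w ≠ 0 := by rw [hww]; exact one_ne_zero
    obtain ⟨l, hl0, hl⟩ := exists_s hF hq3
    have hTν : ∀ a : F, T ((l ^ q * l ^ q / l * a) • w) = (l ^ q * l ^ q / l) • T (a • w) := by
      intro a
      obtain ⟨t, ht⟩ := hgen _ (hTW _ (P.W_smul a hwW))
      have h1 := hcomm _ (kW_mem P hF w hwW hww0 l hl0) (a • w) (P.W_smul _ hwW)
      rw [rho_smul, rho_kW_w P hF w hwW hww0, ht, rho_smul, rho_kW_w P hF w hwW hww0, smul_smul,
        smul_smul] at h1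
      rw [mul_comm, h1, ht, smul_smul, mul_comm]
    obtain ⟨c, hc⟩ := hgen _ (hTW _ hwW)
    refine ⟨c, ?_⟩
    intro x hx
    obtain ⟨a, rfl⟩ := hgen x hx
    rw [T_homog P T hTW hadd hcomm hF w hwW _ hl hTν a, hc, smul_smul, smul_smul, mul_comm]

end cent

end

end Cfsg.Agent.Lib.Helper6.AutPSU
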