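import Mathlib
import Cfsg.Agent.Lib.Helper6.AutPSU6

/-!
# Automorphisms of `PSU_n(q)`, part 7: the unipotent radical of a point stabiliser is its largest
normal `p`-subgroup
-/

set_option autoImplicit false
set_option linter.unusedSectionVars false
set_option linter.unusedVariables false
open Cfsg

namespace Cfsg.Agent.Lib.Helper6.AutPSU

open Matrix Module Cfsg.Agent.Lib.Helper6 Cfsg.Agent.S0779 Cfsg.Agent.S0781
open Cfsg.Agent.Lib.Helper6.SUG Cfsg.Agent.Lib.Helper6.AutPSL
open scoped Pointwise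

section
variable {F : Type*} [Field F] [Fintype F] {q n : ℕ}
variable (P : HPair n F q)

theorem proj_add (x y : Fin n → F) : P.proj (x + y) = P.proj x + P.proj y := by
  unfold HPair.proj
  rw [herm_add_left, herm_add_left]
  module

theorem proj_smul (a : F) (x : Fin n → F) : P.proj (a • x) = a • P.proj x := by
  unfold HPair.proj
  rw [herm_smul_left, herm_smul_left]
  module

theorem proj_e : P.proj P.e = 0 := by
  unfold HPair.proj
  rw [P.hee, P.hef]
  module

theorem proj_f : P.proj P.f = 0 := by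
  unfold HPair.proj
  rw [P.hff, P.hfe]
  module

/-- for `n ≥ 4` the complement is spanned by its isotropic vectors -/
theorem W_span_iso (hF : Fintype.card F = q ^ 2) (hn4 : 4 ≤ n) (U : (Fin n → F) → Prop)
    (hadd : ∀ x y, U x → U y → U (x + y)) (hsmul : ∀ (a : F) x, U x → U (a • x))
    (hiso : ∀ u, P.W u → hermForm n F q u u = 0 → U u) : ∀ y, P.W y → U y := by
  intro y hy
  obtain ⟨R, hRe, hRf⟩ := exists_pair_W P hF hn4
  have hd := R.decomp y
  have hpW := proj_W_W P R hRe hRf y hy
  have hpR := R.proj_W y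
  obtain ⟨b, hb⟩ := exists_siegel_param hF (R.proj y)
  obtain ⟨z, hz⟩ : ∃ z, z = R.f + R.proj y + b • R.e := ⟨_, rfl⟩
  have hzz : hermForm n F q z z = 0 := by rw [hz]; exact iso_of_perp hF R _ hpR b hb
  have hzW : P.W z := by rw [hz]; exact P.W_add (P.W_add hRf hpW) (P.W_smul _ hRe)
  have e1 : y = (hermForm n F q y R.f - b) • R.e + ((hermForm n F q y R.e - 1) • R.f + z) := by
    rw [hz]
    conv_lhs => rw [hd]
    module
  rw [e1]
  exact hadd _ _ (hsmul _ _ (hiso _ hRe R.hee)) (hadd _ _ (hsmul _ _ (hiso _ hRf R.hff))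
    (hiso _ hzW hzz))

variable {p : ℕ} [hp : Fact p.Prime] [CharP F p]

theorem av_pow_smul (g : ↥(Cfsg.SU n F q)) (u : Fin n → F) (a : F) (h : av g u = a • u) (m : ℕ) :
    av (g ^ m) u = a ^ m • u := by
  induction m with
  | zero => rw [pow_zero, pow_zero, av_one, one_smul]
  | succ k ih => rw [pow_succ, av_mul, h, av_smul, ih, smul_smul, pow_succ, mul_comm]

/-- a `p`-element fixing an isotropic point fixes the vector -/
theorem fix_of_pow (g : ↥(Cfsg.SU n F q)) (u : Fin n → F) (hu0 : u ≠ 0) (a : F)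
    (h : av g u = a • u) (k : ℕ) (hk : g ^ (p ^ k) = 1) : av g u = u := by
  have h1 := av_pow_smul g u a h (p ^ k)
  rw [hk, av_one] at h1
  have h2 : a ^ (p ^ k) = 1 := by
    have h3 : (a ^ (p ^ k) - 1) • u = 0 := by rw [sub_smul, one_smul, ← h1, sub_self]
    rcases smul_eq_zero.mp h3 with h4 | h4
    · exact sub_eq_zero.mp h4
    · exact absurd h4 hu0
  have h3 : (a - 1) ^ (p ^ k) = 0 := by rw [sub_pow_char_pow, h2, one_pow, sub_self]
  have h4 : a = 1 := sub_eq_zero.mp ((pow_eq_zero_iff (pow_ne_zero k hp.out.ne_zero)).mp h3)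
  rw [h, h4, one_smul]

theorem exists_pow_of_mem (N : Subgroup ↥(Cfsg.SU n F q)) (hN : IsPGroup p N)
    (y : ↥(Cfsg.SU n F q)) (hy : y ∈ N) : ∃ k : ℕ, y ^ (p ^ k) = 1 := by
  obtain ⟨k, hk⟩ := hN ⟨y, hy⟩
  refine ⟨k, ?_⟩
  have := congrArg Subtype.val hk
  rwa [Subgroup.coe_pow] at this

/-- decomposition of the image of a vector of the complement under an element fixing `e` -/
theorem av_W_decomp (g : ↥(Cfsg.SU n F q)) (hg : av g P.e = P.e) (w : Fin n → F) (hw : P.W w) :
    av g w = P.proj (av g w) + hermForm n F q (av g w) P.f • P.e := by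
  have h1 : hermForm n F q (av g w) P.e = 0 := by
    have : hermForm n F q (av g w) P.e = hermForm n F q (av g w) (av g P.e) := by rw [hg]
    rw [this, herm_av, hw.1]
  conv_lhs => rw [P.decomp (av g w), h1]
  module

theorem proj_av_add (g : ↥(Cfsg.SU n F q)) (hg : av g P.e = P.e) (x : Fin n → F) (t : F) :
    P.proj (av g (x + t • P.e)) = P.proj (av g x) := by
  rw [av_add, av_smul, hg, proj_add, proj_smul, proj_e, smul_zero, add_zero]

/-- **a normal `p`-subgroup of the stabiliser of the isotropic point `e` lies in `Qv e`** -/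
theorem Op_le_Qv (hF : Fintype.card F = q ^ 2) (hn : 3 ≤ n) (N : Subgroup ↥(Cfsg.SU n F q))
    (hN : IsPGroup p N) (hNe : ∀ g ∈ N, ∃ a : F, av g P.e = a • P.e)
    (hnorm : ∀ b : ↥(Cfsg.SU n F q), av b P.e = P.e → ∀ g ∈ N, b * g * b⁻¹ ∈ N) :
    N ≤ Qv P.e := by
  classical
  have hfix : ∀ g ∈ N, av g P.e = P.e := by
    intro g hg
    obtain ⟨a, ha⟩ := hNe g hg
    obtain ⟨k, hk⟩ := exists_pow_of_mem (p := p) N hN g hg
    exact fix_of_pow (p := p) g P.e P.e_ne a ha k hk
  -- the action on the complement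
  let act : MulAction ↥N {w : Fin n → F // P.W w} :=
    { smul := fun g w => ⟨P.proj (av g.1 w.1), P.proj_W _⟩
      one_smul := fun w => Subtype.ext (by
        change P.proj (av (1 : ↥(Cfsg.SU n F q)) w.1) = w.1
        rw [av_one, P.proj_of_W w.2])
      mul_smul := fun g g' w => Subtype.ext (by
        change P.proj (av (g.1 * g'.1) w.1) = P.proj (av g.1 (P.proj (av g'.1 w.1)))
        rw [av_mul]
        conv_lhs => rw [av_W_decomp P g'.1 (hfix _ g'.2) w.1 w.2]
        rw [proj_av_add P g.1 (hfix _ g.2)]) }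
  have hsm : ∀ (g : ↥N) (w : {w : Fin n → F // P.W w}), (g • w).1 = P.proj (av g.1 w.1) :=
    fun g w => rfl
  have : Finite {w : Fin n → F // P.W w} := inferInstance
  have hcard : p ∣ Nat.card {w : Fin n → F // P.W w} := by
    rw [card_W P hF]
    obtain ⟨m, hm, hq⟩ := q_eq_pow (p := p) hF
    rw [hq, ← pow_mul, ← pow_mul]
    apply dvd_pow_self
    have : 1 ≤ n - 2 := by omega
    positivity
  have h0 : (⟨0, P.W_zero hF⟩ : {w : Fin n → F // P.W w}) ∈
      MulAction.fixedPoints ↥N {w : Fin n → F // P.W w} := by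
    intro g
    apply Subtype.ext
    rw [hsm]
    change P.proj (av g.1 0) = 0
    have : av g.1 (0 : Fin n → F) = 0 := by
      have := av_smul g.1 (0 : F) (0 : Fin n → F)
      rwa [zero_smul, zero_smul] at this
    rw [this]
    exact P.proj_of_W (P.W_zero hF)
  obtain ⟨w₁, hw₁, hw₁0⟩ := hN.exists_fixed_point_of_prime_dvd_card_of_fixed_point _ hcard h0
  -- the fixed space
  obtain ⟨U, hU⟩ : ∃ U : (Fin n → F) → Prop,
      U = fun w => P.W w ∧ ∀ g ∈ N, ∃ t : F, av g w = w + t • P.e := ⟨_, rfl⟩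
  have hUadd : ∀ x y, U x → U y → U (x + y) := by
    intro x y hx hy
    rw [hU] at hx hy ⊢
    refine ⟨P.W_add hx.1 hy.1, fun g hg => ?_⟩
    obtain ⟨t, ht⟩ := hx.2 g hg
    obtain ⟨s, hs⟩ := hy.2 g hg
    exact ⟨t + s, by rw [av_add, ht, hs]; module⟩
  have hUsmul : ∀ (a : F) x, U x → U (a • x) := by
    intro a x hx
    rw [hU] at hx ⊢
    refine ⟨P.W_smul a hx.1, fun g hg => ?_⟩
    obtain ⟨t, ht⟩ := hx.2 g hg
    exact ⟨a * t, by rw [av_smul, ht]; module⟩
  have hUw₁ : U w₁.1 := by
    rw [hU]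
    refine ⟨w₁.2, fun g hg => ?_⟩
    have h1 := congrArg Subtype.val (hw₁ ⟨g, hg⟩)
    rw [hsm] at h1
    change P.proj (av g w₁.1) = w₁.1 at h1
    refine ⟨hermForm n F q (av g w₁.1) P.f, ?_⟩
    conv_lhs => rw [av_W_decomp P g (hfix g hg) w₁.1 w₁.2, h1]
  have hw₁ne : w₁.1 ≠ 0 := by
    intro h
    apply hw₁0
    apply Subtype.ext
    exact h.symm
  -- invariance under the transvections of the Levi factor
  have hUtv : ∀ (w u : Fin n → F), U w → P.W u → hermForm n F q u u = 0 →
      hermForm n F q w u ≠ 0 → U u := by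
    intro w u hw huW hu hwu
    obtain ⟨c, hc0, hc⟩ := exists_trace_zero hF
    obtain ⟨t, ht⟩ : ∃ t, t = tv hF u c hu hc := ⟨_, rfl⟩
    have hte : av t P.e = P.e := by
      rw [ht, av_tv, (P.W_swap hF huW).1, mul_zero, zero_smul, add_zero]
    have hte' : av t⁻¹ P.e = P.e := by
      have := av_inv_av t P.e
      rwa [hte] at this
    have h1 : U (av t w) := by
      rw [hU] at hw ⊢
      refine ⟨?_, fun g hg => ?_⟩
      · rw [ht, av_tv]
        exact P.W_add hw.1 (P.W_smul _ huW)
      · have h2 := hnorm t⁻¹ hte' g hg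
        rw [inv_inv] at h2
        obtain ⟨s, hs⟩ := hw.2 _ h2
        refine ⟨s, ?_⟩
        have h3 : av g (av t w) = av t (av (t⁻¹ * g * t) w) := by
          rw [← av_mul, ← av_mul]
          congr 1
          group
        rw [h3, hs, av_add, av_smul, hte]
    have h2 : (c * hermForm n F q w u) • u = av t w + (-1 : F) • w := by
      rw [ht, av_tv]
      module
    have h3 : U ((c * hermForm n F q w u) • u) := by
      rw [h2]
      exact hUadd _ _ h1 (hUsmul _ _ hw)
    have h4 := hUsmul (c * hermForm n F q w u)⁻¹ _ h3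
    rwa [smul_smul, inv_mul_cancel₀ (mul_ne_zero hc0 hwu), one_smul] at h4
  -- the fixed space is everything
  have hUall : ∀ w, P.W w → U w := by
    by_cases hn4 : 4 ≤ n
    · -- an isotropic vector in `U`
      have hex : ∃ u₁, P.W u₁ ∧ hermForm n F q u₁ u₁ = 0 ∧ hermForm n F q w₁.1 u₁ ≠ 0 := by
        by_contra hcon
        push Not at hcon
        apply hw₁ne
        apply P.W_nondeg hF w₁.2
        apply W_span_iso P hF hn4 (fun y => hermForm n F q w₁.1 y = 0)
        · intro x y hx hy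
          rw [herm_add_right hF, hx, hy, add_zero]
        · intro a x hx
          rw [herm_smul_right, hx, mul_zero]
        · intro u huW hu
          exact hcon u huW hu
      obtain ⟨u₁, hu₁W, hu₁, hwu₁⟩ := hex
      have hUu₁ : U u₁ := hUtv _ _ hUw₁ hu₁W hu₁ hwu₁
      have hu₁0 : u₁ ≠ 0 := by
        intro h
        rw [h, herm_zero_right hF] at hwu₁
        exact hwu₁ rfl
      obtain ⟨R, hRe, hRf⟩ := exists_partner_W P hF u₁ hu₁0 hu₁ hu₁W
      subst hRe
      have hUf : U R.f := hUtv _ _ hUu₁ hRf R.hff (by rw [R.hef]; exact one_ne_zero)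
      apply W_span_iso P hF hn4 U hUadd hUsmul
      intro u huW hu
      by_cases h1 : hermForm n F q R.e u = 0
      · by_cases h2 : hermForm n F q R.f u = 0
        · -- `u` is perpendicular to the pair
          have h1' := herm_swap_zero hF h1
          have h2' := herm_swap_zero hF h2
          have hz : U (R.f + u) := by
            apply hUtv _ _ hUu₁ (P.W_add hRf huW)
            · simp only [herm_add_left, herm_add_right hF, R.hff, hu, h2, h2', add_zero]
            · rw [herm_add_right hF, R.hef, h1, add_zero]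
              exact one_ne_zero
          have : u = (R.f + u) + (-1 : F) • R.f := by module
          rw [this]
          exact hUadd _ _ hz (hUsmul _ _ hUf)
        · exact hUtv _ _ hUf huW hu h2
      · exact hUtv _ _ hUu₁ huW hu h1
    · have hn3 : n = 3 := by omega
      obtain ⟨w₀, hw₀W, hw₀, hgen⟩ := exists_gen_W P hF hn3
      obtain ⟨a₁, ha₁⟩ := hgen _ w₁.2
      have ha₁0 : a₁ ≠ 0 := by
        intro h
        rw [h, zero_smul] at ha₁
        exact hw₁ne ha₁
      have hUw₀ : U w₀ := by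
        have := hUsmul a₁⁻¹ _ hUw₁
        rwa [ha₁, smul_smul, inv_mul_cancel₀ ha₁0, one_smul] at this
      intro w hw
      obtain ⟨a, rfl⟩ := hgen w hw
      exact hUsmul _ _ hUw₀
  -- conclusion
  intro g hg
  refine ⟨hfix g hg, ?_⟩
  intro x hx
  have hpx := hUall _ (P.proj_W x)
  rw [hU] at hpx
  obtain ⟨t, ht⟩ := hpx.2 g hg
  refine ⟨t, ?_⟩
  have hd := P.decomp x
  rw [hx, zero_smul, add_zero] at hd
  conv_lhs => rw [hd]
  rw [av_add, av_smul, hfix g hg, ht]
  conv_rhs => rw [hd]
  module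

end

end Cfsg.Agent.Lib.Helper6.AutPSU
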