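import Mathlib
import Cfsg.Agent.Lib.Helper6.AutPSU7

/-!
# Automorphisms of `PSU_n(q)`, part 8: automorphisms fixing a root subgroup fix the image of the
unipotent radical
-/

set_option autoImplicit false
set_option linter.unusedSectionVars false
set_option linter.unusedVariables false
open Cfsg

namespace Cfsg.Agent.Lib.Helper6.AutPSU

open Matrix Module Cfsg.Agent.Lib.Helper6 Cfsg.Agent.S0779 Cfsg.Agent.S0781
open Cfsg.Agent.Lib.Helper6.SUG Cfsg.Agent.Lib.Helper6.AutPSL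
open scoped Pointwise

section
variable {F : Type*} [Field F] [Fintype F] {q n : ℕ}

/-- the image in `PSU` of the unipotent radical -/
noncomputable def Qb (u : Fin n → F) : Subgroup (Cfsg.PSU n F q) := (Qv u).map pu

variable {p : ℕ} [hp : Fact p.Prime] [CharP F p]

theorem exists_lift_pgroup (M : Subgroup (Cfsg.PSU n F q)) (hM : IsPGroup p M) :
    ∃ N : Subgroup ↥(Cfsg.SU n F q), IsPGroup p N ∧ N.map pu = M := by
  obtain ⟨Sb, hSb⟩ := hM.exists_le_sylow
  obtain ⟨S, hS⟩ := exists_sylow_rep Sb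
  refine ⟨(S : Subgroup ↥(Cfsg.SU n F q)) ⊓ M.comap pu, S.2.to_le inf_le_left, ?_⟩
  ext x
  rw [Subgroup.mem_map]
  constructor
  · rintro ⟨g, hg, rfl⟩
    exact (Subgroup.mem_inf.mp hg).2
  · intro hx
    have h1 : x ∈ (Sb : Subgroup (Cfsg.PSU n F q)) := hSb hx
    rw [hS, Subgroup.mem_map] at h1
    obtain ⟨g, hg, rfl⟩ := h1
    exact ⟨g, Subgroup.mem_inf.mpr ⟨hg, hx⟩, rfl⟩

theorem isPGroup_img {G : Type*} [Group G] (γ : G ≃* G) (H : Subgroup G) (hH : IsPGroup p H) :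
    IsPGroup p (img γ H) := by
  unfold img
  exact hH.map _

theorem isPGroup_Qb (hF : Fintype.card F = q ^ 2) (hn : 1 ≤ n) (u : Fin n → F) :
    IsPGroup p (Qb u : Subgroup (Cfsg.PSU n F q)) := by
  unfold Qb
  exact (isPGroup_Qv (p := p) hF hn u).map _

/-- an element normalising the root subgroup of `u` fixes the point `u` -/
theorem point_of_norm (p : ℕ) [hp : Fact p.Prime] [CharP F p] (hF : Fintype.card F = q ^ 2)
    (hn : 2 ≤ n) (u : Fin n → F) (hu0 : u ≠ 0)
    (hu : hermForm n F q u u = 0) (g : ↥(Cfsg.SU n F q))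
    (h : img (MulAut.conj (pu g)) (Rb hF u) = Rb hF u) : ∃ a : F, a ≠ 0 ∧ av g u = a • u := by
  rw [img_conj_Rb hF g u hu] at h
  exact Rb_le_imp p hF hn (av g u) u (av_ne_zero g hu0) (by rw [herm_av]; exact hu) hu
    (le_of_eq h)

variable (P : HPair n F q)

/-- a normal `p`-subgroup of the normaliser of a root subgroup lies in `Qb` -/
theorem Op_le_Qb (hF : Fintype.card F = q ^ 2) (hn : 3 ≤ n) (M : Subgroup (Cfsg.PSU n F q))
    (hM : IsPGroup p M)
    (hM1 : ∀ x ∈ M, img (MulAut.conj x) (Rb hF P.e) = Rb hF P.e)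
    (hM2 : ∀ b : ↥(Cfsg.SU n F q), av b P.e = P.e → ∀ x ∈ M, pu b * x * (pu b)⁻¹ ∈ M) :
    M ≤ Qb P.e := by
  obtain ⟨N, hN, hNM⟩ := exists_lift_pgroup (p := p) M hM
  have h1 : N ≤ Qv P.e := by
    apply Op_le_Qv (p := p) P hF hn N hN
    · intro g hg
      have h2 : pu g ∈ M := by rw [← hNM]; exact Subgroup.mem_map_of_mem _ hg
      obtain ⟨a, -, ha⟩ := point_of_norm p hF (by omega) P.e P.e_ne P.hee g (hM1 _ h2)
      exact ⟨a, ha⟩
    · intro b hb g hg
      have h2 : pu g ∈ M := by rw [← hNM]; exact Subgroup.mem_map_of_mem _ hg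
      have h3 := hM2 b hb _ h2
      rw [← hNM, Subgroup.mem_map] at h3
      obtain ⟨g', hg', hgg'⟩ := h3
      obtain ⟨k, hk⟩ := exists_pow_of_mem (p := p) N hN g hg
      obtain ⟨k', hk'⟩ := exists_pow_of_mem (p := p) N hN g' hg'
      have e1 : g' ^ (p ^ (k + k')) = 1 := by
        rw [pow_add, mul_comm, pow_mul, hk', one_pow]
      have e2 : (b * g * b⁻¹) ^ (p ^ (k + k')) = 1 := by
        rw [conj_pow, pow_add, pow_mul, hk, one_pow, mul_one, mul_inv_cancel]
      have e3 : pu g' = pu (b * g * b⁻¹) := by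
        rw [hgg', map_mul, map_mul, map_inv]
      have := eq_of_pu_eq (p := p) hF (by omega) _ _ _ e1 e2 e3
      rw [← this]
      exact hg'
  rw [← hNM]
  exact Subgroup.map_mono h1

/-- elements normalising the root subgroup normalise the image of the unipotent radical -/
theorem conj_mem_Qb (p : ℕ) [hp : Fact p.Prime] [CharP F p] (hF : Fintype.card F = q ^ 2)
    (hn : 2 ≤ n) (y : Cfsg.PSU n F q)
    (hy : img (MulAut.conj y) (Rb hF P.e) = Rb hF P.e) (x : Cfsg.PSU n F q) (hx : x ∈ Qb P.e) :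
    y * x * y⁻¹ ∈ Qb P.e := by
  obtain ⟨b, rfl⟩ := pu_surjective y
  obtain ⟨a, ha0, ha⟩ := point_of_norm p hF hn P.e P.e_ne P.hee b hy
  unfold Qb at hx ⊢
  rw [Subgroup.mem_map] at hx ⊢
  obtain ⟨g, hg, rfl⟩ := hx
  refine ⟨b * g * b⁻¹, Qv_conj P.e b a ha0 ha g hg, ?_⟩
  rw [map_mul, map_mul, map_inv]

theorem Qb_norm_Rb (hF : Fintype.card F = q ^ 2) (x : Cfsg.PSU n F q) (hx : x ∈ Qb P.e) :
    img (MulAut.conj x) (Rb hF P.e) = Rb hF P.e := by
  unfold Qb at hx
  rw [Subgroup.mem_map] at hx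
  obtain ⟨g, hg, rfl⟩ := hx
  rw [img_conj_Rb hF g P.e P.hee, hg.1]

theorem img_conj_symm {G : Type*} [Group G] (β : MulAut G) (z : G) (H : Subgroup G)
    (hH : img β H = H) (hz : img (MulAut.conj z) H = H) :
    img (MulAut.conj (β.symm z)) H = H := by
  have h1 : img β.symm H = H := by
    conv_lhs => rw [← hH]
    exact img_symm_img β H
  have h2 := img_conj_comm β.symm z H
  rw [hz, h1] at h2
  exact h2.symm

theorem img_Qb_le (p : ℕ) [hp : Fact p.Prime] [CharP F p] (hF : Fintype.card F = q ^ 2) (hn : 3 ≤ n) (β : MulAut (Cfsg.PSU n F q))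
    (hβ : img β (Rb hF P.e) = Rb hF P.e) : img β (Qb P.e) ≤ Qb P.e := by
  apply Op_le_Qb (p := p) P hF hn _ (isPGroup_img β _ (isPGroup_Qb (p := p) hF (by omega) P.e))
  · intro x hx
    obtain ⟨y, hy, rfl⟩ := (mem_img _ _ _).mp hx
    have h1 := img_conj_comm β y (Rb hF P.e)
    rw [Qb_norm_Rb P hF y hy, hβ] at h1
    exact h1.symm
  · intro b hb x hx
    obtain ⟨y, hy, rfl⟩ := (mem_img _ _ _).mp hx
    have h1 : img (MulAut.conj (pu b)) (Rb hF P.e) = Rb hF P.e := by
      rw [img_conj_Rb hF b P.e P.hee, hb]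
    have h2 := img_conj_symm β (pu b) (Rb hF P.e) hβ h1
    have h3 := conj_mem_Qb P p hF (by omega) _ h2 y hy
    have h4 := mem_img_of β _ h3
    rw [map_mul, map_mul, map_inv, MulEquiv.apply_symm_apply] at h4
    exact h4

/-- **an automorphism fixing the root subgroup of `e` fixes the image of the unipotent radical** -/
theorem img_Qb (p : ℕ) [hp : Fact p.Prime] [CharP F p] (hF : Fintype.card F = q ^ 2) (hn : 3 ≤ n) (β : MulAut (Cfsg.PSU n F q))
    (hβ : img β (Rb hF P.e) = Rb hF P.e) : img β (Qb P.e) = Qb P.e := by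
  apply le_antisymm (img_Qb_le P p hF hn β hβ)
  have h1 : img β.symm (Rb hF P.e) = Rb hF P.e := by
    conv_lhs => rw [← hβ]
    exact img_symm_img β _
  have h2 := img_Qb_le P p hF hn β.symm h1
  have h3 := img_mono β h2
  rwa [img_img_symm] at h3

end

end Cfsg.Agent.Lib.Helper6.AutPSU
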