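import Mathlib
import Cfsg.Agent.Lib.Helper6.AutOrt2
import Cfsg.Agent.Lib.Helper6.AutPSL7
import Cfsg.Agent.Lib.Helper6.AutPSU8

/-!
# Automorphisms of orthogonal groups, part 3: singular lines, long root subgroups, centres of
Sylow subgroups
-/

set_option autoImplicit false
set_option linter.unusedSectionVars false
set_option linter.unusedVariables false

open Cfsg Matrix QuadraticMap

namespace Cfsg.Agent.Lib.Helper6.AutOrt

open Cfsg.Agent.Lib.Helper6 Cfsg.Agent.Lib.Helper15 Cfsg.Agent.Lib.Helper6.AutPSL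

variable {F : Type*} [Field F] [Fintype F] {ι : Type} [Fintype ι] [DecidableEq ι]

/-- a totally singular line with a basis -/
structure Ln (Q : QuadraticForm F (ι → F)) where
  p : ι → F
  r : ι → F
  hp : Q p = 0
  hr : Q r = 0
  hpr : polar (⇑Q) p r = 0
  hp0 : p ≠ 0
  hind : ∀ c : F, r ≠ c • p

variable {Q : QuadraticForm F (ι → F)}

theorem Ln.hrp (L : Ln Q) : polar (⇑Q) L.r L.p = 0 := by rw [polar_comm, L.hpr]

theorem Ln.hpp (L : Ln Q) : polar (⇑Q) L.p L.p = 0 := B_self_of_sing L.hp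

theorem Ln.hrr (L : Ln Q) : polar (⇑Q) L.r L.r = 0 := B_self_of_sing L.hr

theorem Ln.hr0 (L : Ln Q) : L.r ≠ 0 := by
  intro h
  exact L.hind 0 (by rw [h, zero_smul])

theorem Ln.hpt (L : Ln Q) (t : F) : polar (⇑Q) L.p (t • L.r) = 0 := by
  rw [polar_smul_right, L.hpr, smul_zero]

/-- independence of the basis -/
theorem Ln.indep (L : Ln Q) {a b : F} (h : a • L.p + b • L.r = 0) : a = 0 ∧ b = 0 := by
  have hb : b = 0 := by
    by_contra hb
    apply L.hind (-a / b)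
    have e : b • L.r = -(a • L.p) := eq_neg_of_add_eq_zero_right h
    have e2 : L.r = b⁻¹ • (b • L.r) := by rw [smul_smul, inv_mul_cancel₀ hb, one_smul]
    rw [e2, e, smul_neg, smul_smul, neg_div, neg_smul]
    congr 2
    field_simp
  subst hb
  rw [zero_smul, add_zero] at h
  rcases smul_eq_zero.mp h with h | h
  · exact ⟨h, rfl⟩
  · exact absurd h L.hp0

/-- the image of a line -/
def Ln.map (g : ↥(Cfsg.Omega F ⇑Q)) (L : Ln Q) : Ln Q where
  p := av g L.p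
  r := av g L.r
  hp := by rw [Q_av, L.hp]
  hr := by rw [Q_av, L.hr]
  hpr := by rw [B_av, L.hpr]
  hp0 := av_ne_zero g L.hp0
  hind := by
    intro c h
    apply L.hind c
    have := congrArg (av g⁻¹) h
    rwa [av_smul, av_inv_av, av_inv_av] at this

/-- the line with the basis vectors exchanged -/
def Ln.swap (L : Ln Q) : Ln Q where
  p := L.r
  r := L.p
  hp := L.hr
  hr := L.hp
  hpr := L.hrp
  hp0 := L.hr0
  hind := by
    intro c h
    have h1 := L.indep (a := 1) (b := -c) (by rw [one_smul, h]; module)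
    exact one_ne_zero h1.1

section std
variable [hS : Std Q]

/-- the long root subgroup of a line -/
def Xr (L : Ln Q) : Subgroup ↥(Cfsg.Omega F ⇑Q) where
  carrier := {g | ∃ t : F, g = sg Q L.p (t • L.r)}
  one_mem' := ⟨0, by rw [zero_smul, sg_zero]⟩
  mul_mem' := by
    rintro _ _ ⟨s, rfl⟩ ⟨t, rfl⟩
    exact ⟨s + t, by rw [sg_mul L.hp (L.hpt s) (L.hpt t), add_smul]⟩
  inv_mem' := by
    rintro _ ⟨s, rfl⟩
    exact ⟨-s, by rw [sg_inv L.hp (L.hpt s), neg_smul]⟩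

theorem mem_Xr (L : Ln Q) (g : ↥(Cfsg.Omega F ⇑Q)) : g ∈ Xr L ↔ ∃ t : F, g = sg Q L.p (t • L.r) :=
  Iff.rfl

theorem sg_mem_Xr (L : Ln Q) (t : F) : sg Q L.p (t • L.r) ∈ Xr L := ⟨t, rfl⟩

theorem Xr_le_Qv (L : Ln Q) : Xr L ≤ Qv Q L.p := by
  rintro _ ⟨t, rfl⟩
  exact sg_mem_Qv L.hp (L.hpt t)

theorem sg_swap (L : Ln Q) (t : F) : sg Q L.r (t • L.p) = sg Q L.p ((-t) • L.r) := by
  rw [sg_symm (u := L.p) (w := (-t) • L.r) L.hp (by rw [Q_smul, L.hr, mul_zero]) (L.hpt (-t)),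
    sg_smul_left (-t) L.hr (by rw [polar_neg_right, L.hrp, neg_zero])]
  congr 1
  module

theorem Xr_swap (L : Ln Q) : Xr L.swap = Xr L := by
  ext g
  rw [mem_Xr, mem_Xr]
  constructor
  · rintro ⟨t, rfl⟩
    exact ⟨-t, sg_swap L t⟩
  · rintro ⟨t, rfl⟩
    refine ⟨-t, ?_⟩
    change _ = sg Q L.r ((-t) • L.p)
    rw [sg_swap L (-t), neg_neg]

/-- conjugating a root subgroup -/
theorem conj_mem_Xr (g : ↥(Cfsg.Omega F ⇑Q)) (L : Ln Q) (x : ↥(Cfsg.Omega F ⇑Q)) (hx : x ∈ Xr L) :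
    g * x * g⁻¹ ∈ Xr (L.map g) := by
  obtain ⟨t, rfl⟩ := hx
  refine ⟨t, ?_⟩
  rw [conj_sg g L.hp (L.hpt t), av_smul]
  rfl

theorem Xr_pow (p : ℕ) [CharP F p] (L : Ln Q) (x : ↥(Cfsg.Omega F ⇑Q)) (hx : x ∈ Xr L) :
    x ^ (p ^ 1) = 1 := by
  obtain ⟨t, rfl⟩ := hx
  exact sg_pow_char' p L.hp (L.hpt t)

/-- the elements `sg r y` with `y ⟂ p, r` -/
def Aw (L : Ln Q) : Subgroup ↥(Cfsg.Omega F ⇑Q) where
  carrier := {g | ∃ y, polar (⇑Q) L.p y = 0 ∧ polar (⇑Q) L.r y = 0 ∧ g = sg Q L.r y}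
  one_mem' := ⟨0, by simp, by simp, by rw [sg_zero]⟩
  mul_mem' := by
    rintro _ _ ⟨y, h1, h2, rfl⟩ ⟨y', h1', h2', rfl⟩
    exact ⟨y + y', by rw [polar_add_right, h1, h1', add_zero],
      by rw [polar_add_right, h2, h2', add_zero], sg_mul L.hr h2 h2'⟩
  inv_mem' := by
    rintro _ ⟨y, h1, h2, rfl⟩
    exact ⟨-y, by rw [polar_neg_right, h1, neg_zero], by rw [polar_neg_right, h2, neg_zero],
      sg_inv L.hr h2⟩

theorem av_Aw_p (L : Ln Q) {y : ι → F} (h1 : polar (⇑Q) L.p y = 0) (h2 : polar (⇑Q) L.r y = 0) :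
    av (sg Q L.r y) L.p = L.p := by
  rw [av_sg L.hr h2, L.hrp, polar_comm (⇑Q) y L.p, h1]
  simp

theorem isPGroup_Aw (p : ℕ) [Fact p.Prime] [CharP F p] (L : Ln Q) : IsPGroup p (Aw L) := by
  intro g
  refine ⟨1, ?_⟩
  apply Subtype.ext
  rw [Subgroup.coe_pow]
  obtain ⟨y, h1, h2, hg⟩ := g.2
  rw [hg]
  exact sg_pow_char' p L.hr h2

/-- a hyperbolic pair perpendicular to a line -/
theorem exists_hyp_perp_line (L : Ln Q) :
    ∃ y t : ι → F, Q y = 0 ∧ Q t = 0 ∧ polar (⇑Q) y t = 1 ∧ polar (⇑Q) L.p y = 0 ∧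
      polar (⇑Q) L.r y = 0 ∧ polar (⇑Q) L.p t = 0 ∧ polar (⇑Q) L.r t = 0 := by
  obtain ⟨f, hf, hpf⟩ := exists_partner L.p L.hp0 L.hp
  have hfp : polar (⇑Q) f L.p = 1 := by rw [polar_comm, hpf]
  have hnd := nondegenerate_perpPair Q hS.nondeg L.p f hf L.hp hpf
  have hdim := finrank_perpPair Q L.p f hf L.hp hpf
  rw [Module.finrank_fintype_fun_eq_card] at hdim
  have h7 := hS.seven
  set r' : ι → F := L.r - polar (⇑Q) f L.r • L.p with hr'
  have hr'mem : r' ∈ perpPair Q L.p f := by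
    rw [mem_perpPair]
    constructor
    · rw [hr', polar_sub_right, polar_smul_right, L.hpr, L.hpp]; simp
    · rw [hr', polar_sub_right, polar_smul_right, hfp]; simp
  have hr'0 : (⟨r', hr'mem⟩ : perpPair Q L.p f) ≠ 0 := by
    intro h
    have h1 : r' = 0 := congrArg Subtype.val h
    rw [hr', sub_eq_zero] at h1
    exact L.hind _ h1
  have hQr' : (Q.comp (perpPair Q L.p f).subtype) ⟨r', hr'mem⟩ = 0 := by
    change Q r' = 0
    rw [hr', Q_sub, Q_smul, L.hr, L.hp, polar_smul_right, L.hrp]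
    simp
  obtain ⟨z, y, hz, hy, hzy, hrz, hry⟩ := exists_hyp_pair_perp (Q.comp (perpPair Q L.p f).subtype) hnd
    (by omega) ⟨r', hr'mem⟩ hr'0 hQr'
  obtain ⟨hz1, hz2⟩ := (mem_perpPair Q L.p f z).mp z.2
  obtain ⟨hy1, hy2⟩ := (mem_perpPair Q L.p f y).mp y.2
  rw [polar_comp_subtype] at hzy hrz hry
  change polar (⇑Q) r' (z : ι → F) = 0 at hrz
  change polar (⇑Q) r' (y : ι → F) = 0 at hry
  have hrz' : polar (⇑Q) L.r (z : ι → F) = 0 := by
    rw [hr', polar_sub_left, polar_smul_left, hz1] at hrz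
    simpa using hrz
  have hry' : polar (⇑Q) L.r (y : ι → F) = 0 := by
    rw [hr', polar_sub_left, polar_smul_left, hy1] at hry
    simpa using hry
  exact ⟨(z : ι → F), (y : ι → F), by simpa using hz, by simpa using hy, hzy, hz1, hrz', hy1, hry'⟩

/-- a vector of `p^⊥` moved only along `p` by all of `Aw L` lies on the line -/
theorem mem_line_of_Aw_fix (L : Ln Q) (x : ι → F)
    (h : ∀ y, polar (⇑Q) L.p y = 0 → polar (⇑Q) L.r y = 0 →
      ∃ c : F, av (sg Q L.r y) x = x + c • L.p) :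
    ∃ c d : F, x = c • L.p + d • L.r := by
  obtain ⟨y₀, t₀, hy₀, ht₀, hyt, hpy, hry, hpt, hrt⟩ := exists_hyp_perp_line L
  have key : ∀ y, polar (⇑Q) L.p y = 0 → polar (⇑Q) L.r y = 0 →
      ∃ c : F, (polar (⇑Q) y x - Q y * polar (⇑Q) L.r x) • L.r + (-(polar (⇑Q) L.r x)) • y = c • L.p := by
    intro y h1 h2
    obtain ⟨c, hc⟩ := h y h1 h2
    refine ⟨c, ?_⟩
    rw [av_sg L.hr h2] at hc
    have e : (polar (⇑Q) y x - Q y * polar (⇑Q) L.r x) • L.r + (-(polar (⇑Q) L.r x)) • y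
        = (x + (polar (⇑Q) y x - Q y * polar (⇑Q) L.r x) • L.r + (-(polar (⇑Q) L.r x)) • y) - x := by
      abel
    rw [e, hc]; abel
  have hrx : polar (⇑Q) L.r x = 0 := by
    obtain ⟨c, hc⟩ := key y₀ hpy hry
    have h1 := congrArg (fun v => polar (⇑Q) v t₀) hc
    simp only [polar_add_left, polar_smul_left, hrt, hyt, hpt, smul_eq_mul, mul_zero, zero_add,
      mul_one] at h1
    linear_combination -h1
  apply mem_span_of_perp_perp2 (Q := Q) L.hp0 L.hind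
  intro y h1 h2
  obtain ⟨c, hc⟩ := key y h1 h2
  rw [hrx, mul_zero, sub_zero, neg_zero, zero_smul, add_zero] at hc
  by_contra hne
  have hne' : polar (⇑Q) y x ≠ 0 := by rwa [polar_comm] at hne
  apply L.hind ((polar (⇑Q) y x)⁻¹ * c)
  rw [← smul_smul, ← hc, smul_smul, inv_mul_cancel₀ hne', one_smul]

variable {p : ℕ} [hp : Fact p.Prime] [CharP F p]

/-- every long root subgroup is the centre of a Sylow `p`-subgroup -/
theorem exists_sylow_cen (L : Ln Q) :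
    ∃ S : Sylow p ↥(Cfsg.Omega F ⇑Q),
      AutPSU.cen (S : Subgroup ↥(Cfsg.Omega F ⇑Q)) = Xr L := by
  have h5 := five_le Q
  have hnorm : Aw L ≤ Subgroup.normalizer ((Qv Q L.p : Subgroup _) : Set _) := by
    rintro g ⟨y, h1, h2, rfl⟩
    apply mem_normalizer_of_conj
    · intro h hh
      exact conj_mem_Qv_of_stab _ L.hp0 L.hp 1 one_ne_zero (by rw [av_Aw_p L h1 h2, one_smul]) h hh
    · intro h hh
      have := conj_mem_Qv_of_stab (sg Q L.r y)⁻¹ L.hp0 L.hp 1 one_ne_zero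
        (by rw [fix_inv (av_Aw_p L h1 h2), one_smul]) h hh
      rwa [inv_inv] at this
  have hR : IsPGroup p (Aw L ⊔ Qv Q L.p : Subgroup _) :=
    IsPGroup.to_sup_of_normal_right' (isPGroup_Aw p L) (isPGroup_Qv p L.hp0 L.hp) hnorm
  obtain ⟨S, hRS⟩ := hR.exists_le_sylow
  have hQS : Qv Q L.p ≤ (S : Subgroup _) := le_trans le_sup_right hRS
  have hAS : Aw L ≤ (S : Subgroup _) := le_trans le_sup_left hRS
  -- `S` fixes `p`
  obtain ⟨v', hv'0, hv', hSv'⟩ := exists_fixed_sing (p := p) (Q := Q) (le_trans (by norm_num) h5) (S : Subgroup _) S.2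
  obtain ⟨c, hc⟩ := fixed_of_Qv L.hp0 L.hp (fun g hg => hSv' g (hQS hg))
  have hc0 : c ≠ 0 := by
    rintro rfl
    rw [zero_smul] at hc
    exact hv'0 hc
  have hSp : ∀ g ∈ S, av g L.p = L.p := by
    intro g hg
    have h1 := hSv' g hg
    rw [hc, av_smul] at h1
    have := congrArg (fun x => c⁻¹ • x) h1
    simpa [smul_smul, inv_mul_cancel₀ hc0] using this
  -- `S` stabilises the line
  obtain ⟨f, hf, hpf⟩ := exists_partner L.p L.hp0 L.hp
  obtain ⟨w, hw0, hw, hpw, hfw, hSw⟩ := exists_fixed_line (p := p) h5 (S : Subgroup _) S.2 L.p f L.hp hpf hSp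
  obtain ⟨c₁, d, hcd⟩ := mem_line_of_Aw_fix L w (fun y h1 h2 =>
    hSw _ (hAS ⟨y, h1, h2, rfl⟩))
  have hd0 : d ≠ 0 := by
    rintro rfl
    rw [zero_smul, add_zero] at hcd
    rw [hcd, polar_smul_right, polar_comm, hpf, smul_eq_mul, mul_one] at hfw
    rw [hfw, zero_smul] at hcd
    exact hw0 hcd
  have hSr : ∀ g ∈ S, ∃ c : F, av g L.r = L.r + c • L.p := by
    intro g hg
    obtain ⟨c₂, hc₂⟩ := hSw g hg
    refine ⟨d⁻¹ * c₂, ?_⟩
    rw [hcd, av_add, av_smul, av_smul, hSp g hg] at hc₂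
    have h1 : d • av g L.r = d • L.r + c₂ • L.p := by
      have e : d • av g L.r = (c₁ • L.p + d • av g L.r) - c₁ • L.p := by abel
      rw [e, hc₂]; abel
    have h2 := congrArg (fun x => d⁻¹ • x) h1
    simp only [smul_add, smul_smul, inv_mul_cancel₀ hd0, one_smul] at h2
    exact h2
  refine ⟨S, ?_⟩
  ext z
  rw [AutPSU.mem_cen]
  constructor
  · rintro ⟨hzS, hzc⟩
    have hzQ : z ∈ Qv Q L.p := by
      apply mem_Qv_of_comm L.hp0 L.hp z (hSp z hzS)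
      intro y hy
      exact (hzc _ (hQS (sg_mem_Qv L.hp hy))).symm
    obtain ⟨a, ha, rfl⟩ := exists_sg_of_mem_Qv L.hp0 L.hp z hzQ
    obtain ⟨c₃, d₃, hcd₃⟩ := mem_line_of_Aw_fix L a (by
      intro y h1 h2
      have h3 := conj_sg (sg Q L.r y) L.hp ha
      have h4 := hzc _ (hAS ⟨y, h1, h2, rfl⟩)
      rw [h4, mul_inv_cancel_right, av_Aw_p L h1 h2] at h3
      exact sg_eq_sg L.hp0 L.hp ha (by rw [← av_Aw_p L h1 h2, B_av, ha]) h3)
    refine ⟨d₃, ?_⟩
    rw [hcd₃, add_comm, sg_add_smul c₃ L.hp (L.hpt d₃)]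
  · rintro ⟨t, rfl⟩
    refine ⟨hQS (sg_mem_Qv L.hp (L.hpt t)), ?_⟩
    intro g hg
    obtain ⟨c₄, hc₄⟩ := hSr g hg
    have h1 := conj_sg g L.hp (L.hpt t)
    rw [hSp g hg, av_smul, hc₄, smul_add, smul_smul, sg_add_smul (t * c₄) L.hp (L.hpt t)] at h1
    calc g * sg Q L.p (t • L.r) = g * sg Q L.p (t • L.r) * g⁻¹ * g := by group
      _ = sg Q L.p (t • L.r) * g := by rw [h1]

end std

end Cfsg.Agent.Lib.Helper6.AutOrt
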