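import Mathlib
import Cfsg.Agent.Lib.Helper6.AutOrt3

/-!
# Automorphisms of orthogonal groups, part 4: automorphisms of `PΩ` permute the long root subgroups
-/

set_option autoImplicit false
set_option linter.unusedSectionVars false
set_option linter.unusedVariables false

open Cfsg Matrix QuadraticMap

namespace Cfsg.Agent.Lib.Helper6.AutOrt

open Cfsg.Agent.Lib.Helper6 Cfsg.Agent.Lib.Helper15 Cfsg.Agent.Lib.Helper6.AutPSL

variable {F : Type*} [Field F] [Fintype F] {ι : Type} [Fintype ι] [DecidableEq ι]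
variable {Q : QuadraticForm F (ι → F)} [hS : Std Q]

/-- the image of a root subgroup in `PΩ` -/
noncomputable def Rb (L : Ln Q) : Subgroup (Cfsg.POmega F ⇑Q) := (Xr L).map pu

theorem mem_Rb (L : Ln Q) (x : Cfsg.POmega F ⇑Q) :
    x ∈ Rb L ↔ ∃ t : F, x = pu (sg Q L.p (t • L.r)) := by
  unfold Rb
  rw [Subgroup.mem_map]
  constructor
  · rintro ⟨g, ⟨t, rfl⟩, rfl⟩
    exact ⟨t, rfl⟩
  · rintro ⟨t, rfl⟩
    exact ⟨_, ⟨t, rfl⟩, rfl⟩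

theorem pu_sg_mem_Rb (L : Ln Q) (t : F) : pu (sg Q L.p (t • L.r)) ∈ Rb L :=
  (mem_Rb L _).mpr ⟨t, rfl⟩

theorem Rb_swap (L : Ln Q) : Rb L.swap = Rb L := by
  unfold Rb
  rw [Xr_swap]

/-- the image of `Q_u` in `PΩ` -/
noncomputable def Qb (u : ι → F) : Subgroup (Cfsg.POmega F ⇑Q) := (Qv Q u).map pu

theorem mem_Qb {u : ι → F} (hu0 : u ≠ 0) (hu : Q u = 0) (x : Cfsg.POmega F ⇑Q) :
    x ∈ Qb (Q := Q) u ↔ ∃ w, polar (⇑Q) u w = 0 ∧ x = pu (sg Q u w) := by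
  unfold Qb
  rw [Subgroup.mem_map]
  constructor
  · rintro ⟨g, hg, rfl⟩
    obtain ⟨w, hw, rfl⟩ := exists_sg_of_mem_Qv hu0 hu g hg
    exact ⟨w, hw, rfl⟩
  · rintro ⟨w, hw, rfl⟩
    exact ⟨_, sg_mem_Qv hu hw, rfl⟩

theorem Rb_le_Qb (L : Ln Q) : Rb L ≤ Qb (Q := Q) L.p := Subgroup.map_mono (Xr_le_Qv L)

theorem img_conj_Xr (g : ↥(Cfsg.Omega F ⇑Q)) (L : Ln Q) :
    img (MulAut.conj g) (Xr L) = Xr (L.map g) := by
  ext x
  rw [mem_img]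
  constructor
  · rintro ⟨y, hy, rfl⟩
    rw [MulAut.conj_apply]
    exact conj_mem_Xr g L y hy
  · rintro ⟨t, rfl⟩
    refine ⟨sg Q L.p (t • L.r), sg_mem_Xr L t, ?_⟩
    rw [MulAut.conj_apply, conj_sg g L.hp (L.hpt t), av_smul]
    rfl

theorem img_conj_Rb (g : ↥(Cfsg.Omega F ⇑Q)) (L : Ln Q) :
    img (MulAut.conj (pu g)) (Rb L) = Rb (L.map g) := by
  unfold Rb
  rw [← img_conj_Xr g L]
  ext x
  rw [mem_img, Subgroup.mem_map]
  constructor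
  · rintro ⟨y, hy, rfl⟩
    obtain ⟨z, hz, rfl⟩ := Subgroup.mem_map.mp hy
    refine ⟨g * z * g⁻¹, (mem_img _ _ _).mpr ⟨z, hz, by rw [MulAut.conj_apply]⟩, ?_⟩
    rw [MulAut.conj_apply, map_mul, map_mul, map_inv]
  · rintro ⟨y, hy, rfl⟩
    obtain ⟨z, hz, rfl⟩ := (mem_img _ _ _).mp hy
    refine ⟨pu z, Subgroup.mem_map_of_mem _ hz, ?_⟩
    rw [MulAut.conj_apply, MulAut.conj_apply, map_mul, map_mul, map_inv]

theorem img_conj_Qb (g : ↥(Cfsg.Omega F ⇑Q)) {u : ι → F} (hu0 : u ≠ 0) (hu : Q u = 0) :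
    img (MulAut.conj (pu g)) (Qb (Q := Q) u) = Qb (av g u) := by
  ext x
  rw [mem_img, mem_Qb (av_ne_zero g hu0) (by rw [Q_av, hu])]
  constructor
  · rintro ⟨y, hy, rfl⟩
    obtain ⟨w, hw, rfl⟩ := (mem_Qb hu0 hu y).mp hy
    refine ⟨av g w, by rw [B_av, hw], ?_⟩
    rw [MulAut.conj_apply, ← map_inv, ← map_mul, ← map_mul, conj_sg g hu hw]
  · rintro ⟨w, hw, rfl⟩
    refine ⟨pu (sg Q u (av g⁻¹ w)), (mem_Qb hu0 hu _).mpr ⟨av g⁻¹ w, ?_, rfl⟩, ?_⟩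
    · rw [← B_av g, av_av_inv, hw]
    · rw [MulAut.conj_apply, ← map_inv, ← map_mul, ← map_mul, conj_sg g hu
        (by rw [← B_av g, av_av_inv, hw]), av_av_inv]

variable {p : ℕ} [hp : Fact p.Prime] [CharP F p]

theorem isPGroup_Qb (p : ℕ) [Fact p.Prime] [CharP F p] {u : ι → F} (hu0 : u ≠ 0) (hu : Q u = 0) :
    IsPGroup p (Qb (Q := Q) u) := by
  unfold Qb
  exact (isPGroup_Qv p hu0 hu).map _

theorem sylow_pow (S : Sylow p ↥(Cfsg.Omega F ⇑Q)) (y : ↥(Cfsg.Omega F ⇑Q)) (hy : y ∈ S) :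
    ∃ k : ℕ, y ^ (p ^ k) = 1 := by
  obtain ⟨k, hk⟩ := S.2 ⟨y, hy⟩
  refine ⟨k, ?_⟩
  have := congrArg Subtype.val hk
  rwa [Subgroup.coe_pow] at this

/-- the centre of the image of a Sylow subgroup -/
theorem cen_sylow_map (S : Sylow p ↥(Cfsg.Omega F ⇑Q)) :
    AutPSU.cen ((S : Subgroup ↥(Cfsg.Omega F ⇑Q)).map pu) =
      (AutPSU.cen (S : Subgroup ↥(Cfsg.Omega F ⇑Q))).map pu := by
  ext x
  rw [AutPSU.mem_cen, Subgroup.mem_map]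
  constructor
  · rintro ⟨hx, hcomm⟩
    obtain ⟨z, hz, rfl⟩ := Subgroup.mem_map.mp hx
    refine ⟨z, (AutPSU.mem_cen _ z).mpr ⟨hz, ?_⟩, rfl⟩
    intro y hy
    obtain ⟨k, hk⟩ := sylow_pow S y hy
    exact (comm_of_pu_comm (p := p) z y k hk (hcomm _ (Subgroup.mem_map_of_mem _ hy)).symm).symm
  · rintro ⟨z, hz', rfl⟩
    have hz := (AutPSU.mem_cen _ z).mp hz'
    refine ⟨Subgroup.mem_map_of_mem _ hz.1, ?_⟩
    intro y hy
    obtain ⟨y', hy', rfl⟩ := Subgroup.mem_map.mp hy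
    rw [← map_mul, ← map_mul, hz.2 y' hy']

theorem img_sylow' {G : Type*} [Group G] (γ : MulAut G) (Sb : Sylow p G) :
    img γ (Sb : Subgroup G) = ((γ • Sb : Sylow p G) : Subgroup G) := by
  ext x
  rw [mem_img', Sylow.pointwise_smul_def, Subgroup.mem_pointwise_smul_iff_inv_smul_mem]
  rfl

/-- every Sylow `p`-subgroup of `PΩ` is the image of a Sylow `p`-subgroup of `Ω` -/
theorem exists_sylow_rep (Sb : Sylow p (Cfsg.POmega F ⇑Q)) :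
    ∃ S : Sylow p ↥(Cfsg.Omega F ⇑Q),
      (Sb : Subgroup (Cfsg.POmega F ⇑Q)) = (S : Subgroup ↥(Cfsg.Omega F ⇑Q)).map pu := by
  classical
  let S0 : Sylow p ↥(Cfsg.Omega F ⇑Q) := default
  let Sb0 : Sylow p (Cfsg.POmega F ⇑Q) := S0.mapSurjective pu_surjective
  have hSb0 : (Sb0 : Subgroup _) = (S0 : Subgroup ↥(Cfsg.Omega F ⇑Q)).map pu := by
    rw [Sylow.coe_mapSurjective]
  obtain ⟨gb, hgb⟩ := MulAction.exists_smul_eq (Cfsg.POmega F ⇑Q) Sb0 Sb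
  obtain ⟨g, rfl⟩ := pu_surjective gb
  refine ⟨g • S0, ?_⟩
  rw [← hgb, Sylow.smul_def, Sylow.smul_def, ← img_sylow', ← img_sylow', hSb0]
  ext x
  rw [mem_img, Subgroup.mem_map]
  constructor
  · rintro ⟨y, hy, rfl⟩
    obtain ⟨z, hz, rfl⟩ := Subgroup.mem_map.mp hy
    refine ⟨g * z * g⁻¹, (mem_img _ _ _).mpr ⟨z, hz, by rw [MulAut.conj_apply]⟩, ?_⟩
    rw [MulAut.conj_apply, map_mul, map_mul, map_inv]
  · rintro ⟨y, hy, rfl⟩
    obtain ⟨z, hz, rfl⟩ := (mem_img _ _ _).mp hy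
    refine ⟨pu z, Subgroup.mem_map_of_mem _ hz, ?_⟩
    rw [MulAut.conj_apply, MulAut.conj_apply, map_mul, map_mul, map_inv]

/-- automorphisms of `PΩ` permute the long root subgroups -/
theorem root_perm (p : ℕ) [hp : Fact p.Prime] [CharP F p] (β : MulAut (Cfsg.POmega F ⇑Q))
    (L : Ln Q) : ∃ L' : Ln Q, img β (Rb L) = Rb L' := by
  classical
  obtain ⟨S, hS⟩ := exists_sylow_cen (p := p) L
  let Sb : Sylow p (Cfsg.POmega F ⇑Q) := S.mapSurjective pu_surjective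
  have hSb : (Sb : Subgroup _) = (S : Subgroup ↥(Cfsg.Omega F ⇑Q)).map pu := by
    rw [Sylow.coe_mapSurjective]
  obtain ⟨S', hS'⟩ := exists_sylow_rep (β • Sb)
  obtain ⟨g, hg⟩ := MulAction.exists_smul_eq ↥(Cfsg.Omega F ⇑Q) S S'
  refine ⟨L.map g, ?_⟩
  have h1 : img β ((S : Subgroup ↥(Cfsg.Omega F ⇑Q)).map pu) =
      (S' : Subgroup ↥(Cfsg.Omega F ⇑Q)).map pu := by
    rw [← hS', ← hSb, img_sylow']
  have h2 : AutPSU.cen (S' : Subgroup ↥(Cfsg.Omega F ⇑Q)) = Xr (L.map g) := by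
    rw [← hg, Sylow.smul_def, ← img_sylow', ← AutPSU.img_cen, hS, img_conj_Xr]
  unfold Rb
  rw [← hS, ← cen_sylow_map, AutPSU.img_cen, h1, cen_sylow_map, h2]

end Cfsg.Agent.Lib.Helper6.AutOrt
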