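import Mathlib
import Cfsg.Agent.Lib.Helper6.SLRoot2

/-!
# Rank one pairs of transvection subgroups of `SL_n(k)` are images of `SL₂(k)`
-/

set_option autoImplicit false
open Cfsg

namespace Cfsg.Agent.Lib.Helper6.SLRoot

open Matrix Cfsg.Agent.Lib.Helper6 Cfsg.Agent.H26

variable {ι : Type*} [Fintype ι] [DecidableEq ι] {k : Type*} [Field k]

theorem not_rankOne_of_orth (P Q : PH ι k) (hu : P.u ≠ 0) (hφ : P.φ ≠ 0)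
    (h1 : Q.φ ⬝ᵥ P.u = 0) : ¬ IsRankOnePair (Tg P) (Tg Q) := by
  intro h
  have ha1 : tv P 1 ≠ 1 := fun h' => one_ne_zero ((tv_eq_one_iff P hu hφ 1).mp h')
  obtain ⟨b, ⟨d, rfl⟩, -, hconj⟩ := h.cond_left (tv P 1) (tv_mem P 1) ha1
  rw [conjBy_Tg, conjBy_Tg] at hconj
  have e1 : (conjP (tv Q d)⁻¹ P).u = P.u := by
    change ((tv Q d)⁻¹).1 *ᵥ P.u = P.u
    rw [tv_inv, tv_apply, h1, mul_zero, zero_smul, add_zero]
  have e2 : (conjP (tv Q d)⁻¹ P).φ = P.φ + (d * (P.φ ⬝ᵥ Q.u)) • Q.φ := by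
    change P.φ ᵥ* ((tv Q d)⁻¹⁻¹).1 = _
    rw [inv_inv, row_tv]
  have e3 : (conjP (tv P 1)⁻¹ Q).φ = Q.φ := by
    change Q.φ ᵥ* ((tv P 1)⁻¹⁻¹).1 = _
    rw [inv_inv, row_tv, h1, mul_zero, zero_smul, add_zero]
  have e4 : (conjP (tv P 1)⁻¹ Q).u = Q.u + (-1 * (P.φ ⬝ᵥ Q.u)) • P.u := by
    change ((tv P 1)⁻¹).1 *ᵥ Q.u = _
    rw [tv_inv, tv_apply]
  have hm : tv (conjP (tv Q d)⁻¹ P) 1 ∈ Tg (conjP (tv P 1)⁻¹ Q) := hconj ▸ tv_mem _ 1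
  obtain ⟨e, he⟩ := hm
  have h4 : (tv (conjP (tv Q d)⁻¹ P) 1).1 *ᵥ Q.u = (tv (conjP (tv P 1)⁻¹ Q) e).1 *ᵥ Q.u := by rw [he]
  rw [tv_apply, tv_apply, e1, e2, e3, Q.inc, add_dotProduct, smul_dotProduct, Q.inc, smul_zero,
    add_zero, mul_zero, zero_smul, add_zero, one_mul] at h4
  have h5 : (P.φ ⬝ᵥ Q.u) • P.u = 0 := by
    have := congrArg (fun y => y - Q.u) h4
    simpa using this
  have hβ : P.φ ⬝ᵥ Q.u = 0 := by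
    rcases smul_eq_zero.mp h5 with h6 | h6
    · exact h6
    · exact absurd h6 hu
  apply h.ne
  rw [← Tg_eq_of_smul P (conjP (tv Q d)⁻¹ P) 1 1 one_ne_zero one_ne_zero (by rw [e1, one_smul])
    (by rw [e2, hβ, mul_zero, zero_smul, add_zero, one_smul]),
    ← Tg_eq_of_smul Q (conjP (tv P 1)⁻¹ Q) 1 1 one_ne_zero one_ne_zero
      (by rw [e4, hβ, mul_zero, zero_smul, add_zero, one_smul]) (by rw [e3, one_smul])]
  exact hconj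

theorem form_ne_of_rankOne (P Q : PH ι k) (hu : P.u ≠ 0) (hφ : P.φ ≠ 0) (hv : Q.u ≠ 0)
    (hψ : Q.φ ≠ 0) (h : IsRankOnePair (Tg P) (Tg Q)) : Q.φ ⬝ᵥ P.u ≠ 0 ∧ P.φ ⬝ᵥ Q.u ≠ 0 := by
  constructor
  · intro h1
    exact not_rankOne_of_orth P Q hu hφ h1 h
  · intro h2
    exact not_rankOne_of_orth Q P hv hψ h2 (RankOnePair_symm h)

/-! ### The embedding of `SL₂` -/

/-- the `n × 2` matrix with columns `u`, `v` -/
def Pm (u v : ι → k) : Matrix ι (Fin 2) k := (Matrix.of ![u, v])ᵀ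

/-- the `2 × n` matrix with rows `ψ`, `φ` -/
def Qm (ψ φ : ι → k) : Matrix (Fin 2) ι k := Matrix.of ![ψ, φ]

theorem Qm_mul_Pm (u v ψ φ : ι → k) (h1 : ψ ⬝ᵥ u = 1) (h2 : ψ ⬝ᵥ v = 0) (h3 : φ ⬝ᵥ u = 0)
    (h4 : φ ⬝ᵥ v = 1) : Qm ψ φ * Pm u v = 1 := by
  ext a b
  rw [Matrix.mul_apply']
  fin_cases a <;> fin_cases b
  · change ψ ⬝ᵥ u = _
    rw [h1]; rfl
  · change ψ ⬝ᵥ v = _
    rw [h2]; rfl
  · change φ ⬝ᵥ u = _
    rw [h3]; rfl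
  · change φ ⬝ᵥ v = _
    rw [h4]; rfl

/-- the matrix `1 + P (M - 1) Q` -/
def phiM (u v ψ φ : ι → k) (M : Matrix (Fin 2) (Fin 2) k) : Matrix ι ι k :=
  1 + Pm u v * ((M - 1) * Qm ψ φ)

theorem phiM_one (u v ψ φ : ι → k) : phiM u v ψ φ 1 = 1 := by
  unfold phiM
  rw [sub_self, Matrix.zero_mul, Matrix.mul_zero, add_zero]

theorem phiM_mul (u v ψ φ : ι → k) (hQP : Qm ψ φ * Pm u v = 1) (M N : Matrix (Fin 2) (Fin 2) k) :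
    phiM u v ψ φ (M * N) = phiM u v ψ φ M * phiM u v ψ φ N := by
  unfold phiM
  have h1 : Pm u v * ((M - 1) * Qm ψ φ) * (Pm u v * ((N - 1) * Qm ψ φ)) =
      Pm u v * ((M - 1) * (N - 1) * Qm ψ φ) := by
    calc Pm u v * ((M - 1) * Qm ψ φ) * (Pm u v * ((N - 1) * Qm ψ φ))
        = Pm u v * ((M - 1) * (Qm ψ φ * Pm u v) * ((N - 1) * Qm ψ φ)) := by
          simp only [Matrix.mul_assoc]
      _ = Pm u v * ((M - 1) * (N - 1) * Qm ψ φ) := by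
          rw [hQP, Matrix.mul_one]
          simp only [Matrix.mul_assoc]
  have h2 : M * N - 1 = (M - 1) + (N - 1) + (M - 1) * (N - 1) := by noncomm_ring
  rw [Matrix.add_mul, Matrix.mul_add, Matrix.mul_add, Matrix.one_mul, Matrix.mul_one, Matrix.one_mul,
    h1, h2, Matrix.add_mul, Matrix.add_mul, Matrix.mul_add, Matrix.mul_add]
  abel

theorem det_phiM (u v ψ φ : ι → k) (hQP : Qm ψ φ * Pm u v = 1) (M : Matrix (Fin 2) (Fin 2) k) :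
    (phiM u v ψ φ M).det = M.det := by
  unfold phiM
  rw [Matrix.det_one_add_mul_comm, Matrix.mul_assoc, hQP, Matrix.mul_one, add_sub_cancel]

theorem phiM_uM (u v ψ φ : ι → k) (b : k) : phiM u v ψ φ (uM b).1 = tvm u φ b := by
  unfold phiM tvm
  congr 1
  ext i j
  rw [Matrix.mul_apply, Fin.sum_univ_two, Matrix.mul_apply, Matrix.mul_apply, Fin.sum_univ_two,
    Fin.sum_univ_two]
  simp only [Matrix.sub_apply, uM_00, uM_01, uM_10, uM_11, Matrix.one_apply_eq, Matrix.smul_apply,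
    Matrix.vecMulVec_apply, smul_eq_mul]
  rw [Matrix.one_apply_ne (show (0 : Fin 2) ≠ 1 by decide),
    Matrix.one_apply_ne (show (1 : Fin 2) ≠ 0 by decide)]
  change u i * ((1 - 1) * ψ j + (b - 0) * φ j) + v i * ((0 - 0) * ψ j + (1 - 1) * φ j) = _
  ring

theorem phiM_lM (u v ψ φ : ι → k) (c : k) : phiM u v ψ φ (lM c).1 = tvm v ψ c := by
  unfold phiM tvm
  congr 1
  ext i j
  rw [Matrix.mul_apply, Fin.sum_univ_two, Matrix.mul_apply, Matrix.mul_apply, Fin.sum_univ_two,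
    Fin.sum_univ_two]
  simp only [Matrix.sub_apply, lM_00, lM_01, lM_10, lM_11, Matrix.one_apply_eq, Matrix.smul_apply,
    Matrix.vecMulVec_apply, smul_eq_mul]
  rw [Matrix.one_apply_ne (show (0 : Fin 2) ≠ 1 by decide),
    Matrix.one_apply_ne (show (1 : Fin 2) ≠ 0 by decide)]
  change u i * ((1 - 1) * ψ j + (0 - 0) * φ j) + v i * ((c - 0) * ψ j + (1 - 1) * φ j) = _
  ring


/-- the homomorphism `SL₂(k) → SL_n(k)` attached to two pairs in general position -/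
def phi (P Q : PH ι k) (h1 : Q.φ ⬝ᵥ P.u = 1) (h2 : P.φ ⬝ᵥ Q.u = 1) :
    Matrix.SpecialLinearGroup (Fin 2) k →* Matrix.SpecialLinearGroup ι k where
  toFun M := ⟨phiM P.u Q.u Q.φ P.φ M.1, by
    rw [det_phiM _ _ _ _ (Qm_mul_Pm _ _ _ _ h1 Q.inc P.inc h2), M.2]⟩
  map_one' := Subtype.ext (by
    change phiM P.u Q.u Q.φ P.φ (1 : Matrix.SpecialLinearGroup (Fin 2) k).1 = 1
    rw [Matrix.SpecialLinearGroup.coe_one, phiM_one])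
  map_mul' M N := Subtype.ext (by
    change phiM P.u Q.u Q.φ P.φ (M * N).1 = phiM P.u Q.u Q.φ P.φ M.1 * phiM P.u Q.u Q.φ P.φ N.1
    rw [Matrix.SpecialLinearGroup.coe_mul, phiM_mul _ _ _ _ (Qm_mul_Pm _ _ _ _ h1 Q.inc P.inc h2)])

theorem phi_val (P Q : PH ι k) (h1 : Q.φ ⬝ᵥ P.u = 1) (h2 : P.φ ⬝ᵥ Q.u = 1)
    (M : Matrix.SpecialLinearGroup (Fin 2) k) :
    (phi P Q h1 h2 M).1 = phiM P.u Q.u Q.φ P.φ M.1 := rfl

theorem phi_uM (P Q : PH ι k) (h1 : Q.φ ⬝ᵥ P.u = 1) (h2 : P.φ ⬝ᵥ Q.u = 1) (b : k) :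
    phi P Q h1 h2 (uM b) = tv P b := by
  apply Subtype.ext
  rw [phi_val, phiM_uM]
  rfl

theorem phi_lM (P Q : PH ι k) (h1 : Q.φ ⬝ᵥ P.u = 1) (h2 : P.φ ⬝ᵥ Q.u = 1) (c : k) :
    phi P Q h1 h2 (lM c) = tv Q c := by
  apply Subtype.ext
  rw [phi_val, phiM_lM]
  rfl

theorem phi_ker (P Q : PH ι k) (h1 : Q.φ ⬝ᵥ P.u = 1) (h2 : P.φ ⬝ᵥ Q.u = 1) :
    (phi P Q h1 h2).ker = ⊥ := by
  rw [eq_bot_iff]
  intro M hM
  rw [MonoidHom.mem_ker] at hM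
  have hQP := Qm_mul_Pm _ _ _ _ h1 Q.inc P.inc h2
  have h3 : phiM P.u Q.u Q.φ P.φ M.1 = 1 := by
    rw [← phi_val P Q h1 h2, hM, Matrix.SpecialLinearGroup.coe_one]
  unfold phiM at h3
  have h4 : Pm P.u Q.u * ((M.1 - 1) * Qm Q.φ P.φ) = 0 := by
    have := congrArg (fun X => X - 1) h3
    simpa using this
  have h5 : M.1 - 1 = 0 := by
    calc M.1 - 1 = (Qm Q.φ P.φ * Pm P.u Q.u) * (M.1 - 1) * (Qm Q.φ P.φ * Pm P.u Q.u) := by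
          rw [hQP, Matrix.one_mul, Matrix.mul_one]
      _ = Qm Q.φ P.φ * (Pm P.u Q.u * ((M.1 - 1) * Qm Q.φ P.φ)) * Pm P.u Q.u := by
          simp only [Matrix.mul_assoc]
      _ = 0 := by rw [h4, Matrix.mul_zero, Matrix.zero_mul]
  rw [Subgroup.mem_bot]
  apply Subtype.ext
  rw [Matrix.SpecialLinearGroup.coe_one]
  exact sub_eq_zero.mp h5

theorem map_upper (P Q : PH ι k) (h1 : Q.φ ⬝ᵥ P.u = 1) (h2 : P.φ ⬝ᵥ Q.u = 1) :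
    (upperUnipotentSL2 k).map (phi P Q h1 h2) = Tg P := by
  ext x
  rw [Subgroup.mem_map, mem_Tg_iff]
  constructor
  · rintro ⟨g, hg, rfl⟩
    rw [eq_uM_of_mem hg, phi_uM]
    exact ⟨_, rfl⟩
  · rintro ⟨c, rfl⟩
    exact ⟨uM c, uM_mem _, phi_uM P Q h1 h2 c⟩

theorem map_lower (P Q : PH ι k) (h1 : Q.φ ⬝ᵥ P.u = 1) (h2 : P.φ ⬝ᵥ Q.u = 1) :
    (lowerUnipotentSL2 k).map (phi P Q h1 h2) = Tg Q := by
  ext x
  rw [Subgroup.mem_map, mem_Tg_iff]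
  constructor
  · rintro ⟨g, hg, rfl⟩
    rw [eq_lM_of_mem hg, phi_lM]
    exact ⟨_, rfl⟩
  · rintro ⟨c, rfl⟩
    exact ⟨lM c, lM_mem _, phi_lM P Q h1 h2 c⟩

theorem psl2_of_normalized (P Q : PH ι k) (h1 : Q.φ ⬝ᵥ P.u = 1) (h2 : P.φ ⬝ᵥ Q.u = 1) :
    IsPSL2PairOver k (Tg P) (Tg Q) := by
  refine ⟨phi P Q h1 h2, ?_, ?_, map_upper P Q h1 h2, map_lower P Q h1 h2⟩
  · rw [MonoidHom.range_eq_map, ← lower_sup_upper, Subgroup.map_sup, map_upper, map_lower, sup_comm]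
  · rw [phi_ker]
    exact bot_le

theorem psl2 (P Q : PH ι k) (h1 : Q.φ ⬝ᵥ P.u ≠ 0) (h2 : P.φ ⬝ᵥ Q.u ≠ 0) :
    IsPSL2PairOver k (Tg P) (Tg Q) := by
  let P' : PH ι k := ⟨P.u, (P.φ ⬝ᵥ Q.u)⁻¹ • P.φ, by rw [smul_dotProduct, P.inc, smul_zero]⟩
  let Q' : PH ι k := ⟨Q.u, (Q.φ ⬝ᵥ P.u)⁻¹ • Q.φ, by rw [smul_dotProduct, Q.inc, smul_zero]⟩
  have e1 : Q'.φ ⬝ᵥ P'.u = 1 := by
    change ((Q.φ ⬝ᵥ P.u)⁻¹ • Q.φ) ⬝ᵥ P.u = 1
    rw [smul_dotProduct, smul_eq_mul, inv_mul_cancel₀ h1]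
  have e2 : P'.φ ⬝ᵥ Q'.u = 1 := by
    change ((P.φ ⬝ᵥ Q.u)⁻¹ • P.φ) ⬝ᵥ Q.u = 1
    rw [smul_dotProduct, smul_eq_mul, inv_mul_cancel₀ h2]
  have := psl2_of_normalized P' Q' e1 e2
  rwa [Tg_eq_of_smul P P' 1 (P.φ ⬝ᵥ Q.u)⁻¹ one_ne_zero (inv_ne_zero h2) (by rw [one_smul]) rfl,
    Tg_eq_of_smul Q Q' 1 (Q.φ ⬝ᵥ P.u)⁻¹ one_ne_zero (inv_ne_zero h1) (by rw [one_smul]) rfl] at this

theorem Sg_kroot {n : ℕ} : IsKRootSubgroupSet k (Sg n k) := by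
  refine ⟨Sg_rootSet, ?_⟩
  intro A hA B hB h
  obtain ⟨P, hu, hφ, rfl⟩ := exists_flag A hA
  obtain ⟨Q, hv, hψ, rfl⟩ := exists_flag B hB
  obtain ⟨h1, h2⟩ := form_ne_of_rankOne P Q hu hφ hv hψ h
  exact psl2 P Q h1 h2

theorem Sg_all (n : ℕ) : IsRootSubgroupClass (Sg n k) ∧ IsNondegenerateRootSet (Sg n k) ∧
    IsKRootSubgroupSet k (Sg n k) ∧ IsConnectedFamily (FAdj (Sg n k)) (Sg n k) :=
  ⟨⟨Sg_rootSet, Sg_conjClass⟩, Sg_nondegenerate, Sg_kroot, Sg_connected⟩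

end Cfsg.Agent.Lib.Helper6.SLRoot
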