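import Mathlib
import Cfsg.Prelude.Def_RootSubgroups
import Cfsg.Prelude.Def_Classical
import Cfsg.Agent.Lib.Helper6.Siegel
import Cfsg.Agent.H26.RootSub

/-!
# Siegel transvection groups of singular lines (generic quadratic form)

For a pair `(p, r)` of mutually orthogonal singular vectors, `tau L t : x ↦ x + t (B(r,x) p - B(p,x) r)`.
-/

set_option autoImplicit false
open Cfsg Matrix QuadraticMap

namespace Cfsg.Agent.Lib.Helper6.SgRoot

open Cfsg.Agent.Lib.Helper6 Cfsg.Agent.H26

variable {F : Type*} [Field F] {ι : Type} [Fintype ι] [DecidableEq ι]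

/-- a pair of mutually orthogonal singular vectors -/
structure SP (Q : QuadraticForm F (ι → F)) where
  p : ι → F
  r : ι → F
  hp : Q p = 0
  hr : Q r = 0
  hpr : polar (⇑Q) p r = 0

variable {Q : QuadraticForm F (ι → F)}

theorem SP.ext' {L M : SP Q} (h1 : L.p = M.p) (h2 : L.r = M.r) : L = M := by
  cases L; cases M
  simp only at h1 h2
  subst h1; subst h2; rfl

theorem SP.hrp (L : SP Q) : polar (⇑Q) L.r L.p = 0 := by rw [polar_comm, L.hpr]

theorem SP.hpp (L : SP Q) : polar (⇑Q) L.p L.p = 0 := by rw [polar_self, L.hp, smul_zero]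

theorem SP.hrr (L : SP Q) : polar (⇑Q) L.r L.r = 0 := by rw [polar_self, L.hr, smul_zero]

/-- the Siegel transvection -/
def tau (L : SP Q) (t : F) : ↥(Cfsg.isometryGroup F ⇑Q) :=
  siegIso Q L.p (t • L.r) L.hp (by rw [polar_smul_right, L.hpr, smul_zero])

theorem gact_tau (L : SP Q) (t : F) (x : ι → F) :
    gact Q (tau L t) x = x + t • (polar (⇑Q) L.r x • L.p - polar (⇑Q) L.p x • L.r) := by
  unfold tau
  rw [gact_siegIso, Q_smul, L.hr, polar_smul_left]
  simp only [smul_eq_mul, mul_zero, zero_mul, sub_zero]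
  module

theorem siegIso_congr2 (u u' w w' : ι → F) (hu : Q u = 0) (huw : polar (⇑Q) u w = 0)
    (hu' : Q u' = 0) (huw' : polar (⇑Q) u' w' = 0) (h1 : u = u') (h2 : w = w') :
    siegIso Q u w hu huw = siegIso Q u' w' hu' huw' := by
  subst h1; subst h2; rfl

theorem tau_mul (L : SP Q) (s t : F) : tau L s * tau L t = tau L (s + t) := by
  unfold tau
  rw [siegIso_mul]
  exact siegIso_congr2 _ _ _ _ _ _ _ _ rfl (by rw [add_smul])

theorem tau_zero (L : SP Q) : tau L 0 = 1 := by
  unfold tau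
  rw [siegIso_congr2 L.p L.p (0 • L.r) 0 L.hp _ L.hp (by simp) rfl (zero_smul _ _)]
  exact siegIso_zero Q L.p L.hp

theorem tau_inv (L : SP Q) (t : F) : (tau L t)⁻¹ = tau L (-t) := by
  apply inv_eq_of_mul_eq_one_right
  rw [tau_mul, add_neg_cancel, tau_zero]

/-- the Siegel transvection group of the pair -/
def T (L : SP Q) : Subgroup ↥(Cfsg.isometryGroup F ⇑Q) where
  carrier := {g | ∃ t, g = tau L t}
  mul_mem' := by
    rintro _ _ ⟨s, rfl⟩ ⟨t, rfl⟩
    exact ⟨s + t, tau_mul L s t⟩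
  one_mem' := ⟨0, (tau_zero L).symm⟩
  inv_mem' := by
    rintro _ ⟨t, rfl⟩
    exact ⟨-t, tau_inv L t⟩

theorem mem_T_iff (L : SP Q) (g : ↥(Cfsg.isometryGroup F ⇑Q)) : g ∈ T L ↔ ∃ t, g = tau L t := Iff.rfl

theorem tau_mem (L : SP Q) (t : F) : tau L t ∈ T L := ⟨t, rfl⟩

theorem T_comm (L : SP Q) : IsMulCommutative (T L) := by
  refine ⟨⟨fun a b => ?_⟩⟩
  obtain ⟨s, hs⟩ := a.2
  obtain ⟨t, ht⟩ := b.2
  apply Subtype.ext
  change a.1 * b.1 = b.1 * a.1
  rw [hs, ht, tau_mul, tau_mul, add_comm]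

/-- image of a pair under an isometry -/
def SP.map (g : ↥(Cfsg.isometryGroup F ⇑Q)) (L : SP Q) : SP Q where
  p := gact Q g L.p
  r := gact Q g L.r
  hp := by rw [Q_gact, L.hp]
  hr := by rw [Q_gact, L.hr]
  hpr := by rw [polar_gact, L.hpr]

theorem conj_tau (g : ↥(Cfsg.isometryGroup F ⇑Q)) (L : SP Q) (t : F) :
    g * tau L t * g⁻¹ = tau (L.map g) t := by
  unfold tau
  rw [conj_siegIso]
  exact siegIso_congr2 _ _ _ _ _ _ _ _ rfl (gact_smul Q g t L.r)

theorem conjBy_T (g : ↥(Cfsg.isometryGroup F ⇑Q)) (L : SP Q) : conjBy (T L) g = T (L.map g) := by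
  ext x
  rw [mem_conjBy, mem_T_iff, mem_T_iff]
  constructor
  · rintro ⟨t, ht⟩
    refine ⟨t, ?_⟩
    rw [← conj_tau, ← ht]
    group
  · rintro ⟨t, rfl⟩
    refine ⟨t, ?_⟩
    rw [← conj_tau]
    group

/-- change of basis of the line -/
def SP.chg (L : SP Q) (a b c d : F) : SP Q where
  p := a • L.p + b • L.r
  r := c • L.p + d • L.r
  hp := by
    rw [Q_add, Q_smul, Q_smul, L.hp, L.hr, polar_smul_left, polar_smul_right, L.hpr]
    simp
  hr := by
    rw [Q_add, Q_smul, Q_smul, L.hp, L.hr, polar_smul_left, polar_smul_right, L.hpr]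
    simp
  hpr := by
    simp only [polar_add_left, polar_add_right, polar_smul_left, polar_smul_right, L.hpr, L.hrp,
      L.hpp, L.hrr, smul_zero, add_zero]

theorem tau_chg (L : SP Q) (a b c d t : F) :
    tau (L.chg a b c d) t = tau L ((a * d - b * c) * t) := by
  apply iso_ext_gact
  intro x
  rw [gact_tau, gact_tau]
  change x + t • (polar (⇑Q) (c • L.p + d • L.r) x • (a • L.p + b • L.r)
    - polar (⇑Q) (a • L.p + b • L.r) x • (c • L.p + d • L.r)) = _
  simp only [polar_add_left, polar_smul_left, smul_eq_mul]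
  module

theorem T_chg (L : SP Q) (a b c d : F) (h : a * d - b * c ≠ 0) : T (L.chg a b c d) = T L := by
  ext g
  rw [mem_T_iff, mem_T_iff]
  constructor
  · rintro ⟨t, rfl⟩
    exact ⟨_, tau_chg L a b c d t⟩
  · rintro ⟨t, rfl⟩
    refine ⟨(a * d - b * c)⁻¹ * t, ?_⟩
    rw [tau_chg, ← mul_assoc, mul_inv_cancel₀ h, one_mul]

/-- the swapped pair -/
def SP.swap (L : SP Q) : SP Q := ⟨L.r, L.p, L.hr, L.hp, L.hrp⟩

theorem tau_swap (L : SP Q) (t : F) : tau L.swap t = tau L (-t) := by
  apply iso_ext_gact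
  intro x
  rw [gact_tau, gact_tau]
  change x + t • (polar (⇑Q) L.p x • L.r - polar (⇑Q) L.r x • L.p) = _
  module

theorem T_swap (L : SP Q) : T L.swap = T L := by
  ext g
  rw [mem_T_iff, mem_T_iff]
  constructor
  · rintro ⟨t, rfl⟩
    exact ⟨_, tau_swap L t⟩
  · rintro ⟨t, rfl⟩
    exact ⟨-t, by rw [tau_swap, neg_neg]⟩

/-- pairs with vanishing Gram matrix commute -/
theorem tau_comm_of_orth (L M : SP Q) (h1 : polar (⇑Q) L.p M.p = 0) (h2 : polar (⇑Q) L.p M.r = 0)
    (h3 : polar (⇑Q) L.r M.p = 0) (h4 : polar (⇑Q) L.r M.r = 0) (s t : F) :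
    tau L s * tau M t = tau M t * tau L s := by
  have hmap : M.map (tau L s) = M := by
    apply SP.ext'
    · change gact Q (tau L s) M.p = M.p
      rw [gact_tau, h1, h3]
      simp
    · change gact Q (tau L s) M.r = M.r
      rw [gact_tau, h2, h4]
      simp
  have := conj_tau (tau L s) M t
  rw [hmap] at this
  calc tau L s * tau M t = (tau L s * tau M t * (tau L s)⁻¹) * tau L s := by group
    _ = tau M t * tau L s := by rw [this]

/-- pairs sharing (up to a scalar) the first vector commute -/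
theorem tau_comm_of_smul (L M : SP Q) (c : F) (hc : c ≠ 0) (h : M.p = c • L.p) (s t : F) :
    tau L s * tau M t = tau M t * tau L s := by
  obtain ⟨p', r', hp', hr', hpr'⟩ := M
  simp only at h
  subst h
  have h0 : polar (⇑Q) L.p r' = 0 := by
    rw [polar_smul_left, smul_eq_mul] at hpr'
    rcases mul_eq_zero.mp hpr' with h | h
    · exact absurd h hc
    · exact h
  have e : tau (⟨c • L.p, r', hp', hr', hpr'⟩ : SP Q) t =
      siegIso Q L.p (c • (t • r')) L.hp (by
        rw [polar_smul_right, polar_smul_right, h0, smul_zero, smul_zero]) := by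
    unfold tau
    exact siegIso_smul_left Q c L.p (t • r') L.hp (by rw [polar_smul_right, h0, smul_zero])
  rw [e]
  unfold tau
  rw [siegIso_mul, siegIso_mul]
  exact siegIso_congr2 _ _ _ _ _ _ _ _ rfl (add_comm _ _)

/-- the commutator formula in adapted position -/
theorem comm_formula (L M N : SP Q) (h1 : polar (⇑Q) L.p M.p = 0) (h2 : polar (⇑Q) L.p M.r = 0)
    (h3 : polar (⇑Q) L.r M.p = 0) (hNp : N.p = M.p) (hNr : N.r = L.p) (s t : F) :
    tau L s * tau M t * (tau L s)⁻¹ * (tau M t)⁻¹ = tau N (s * t * polar (⇑Q) L.r M.r) := by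
  have hp : gact Q (tau L s) M.p = M.p := by
    rw [gact_tau, h1, h3]
    simp
  have hr : gact Q (tau L s) M.r = M.r + (s * polar (⇑Q) L.r M.r) • L.p := by
    rw [gact_tau, h2]
    module
  have e1 : tau L s * tau M t * (tau L s)⁻¹ = tau M t * tau N (s * t * polar (⇑Q) L.r M.r) := by
    rw [conj_tau]
    obtain ⟨np, nr, hnp, hnr, hnpr⟩ := N
    simp only at hNp hNr
    subst hNp; subst hNr
    unfold tau
    rw [siegIso_mul]
    apply siegIso_congr2
    · exact hp
    · change t • gact Q (tau L s) M.r = _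
      rw [hr]
      module
  rw [e1]
  have e2 : tau M t * tau N (s * t * polar (⇑Q) L.r M.r) =
      tau N (s * t * polar (⇑Q) L.r M.r) * tau M t := by
    apply tau_comm_of_orth
    · rw [hNp]; exact M.hpp
    · rw [hNr, polar_comm]; exact h1
    · rw [hNp]; exact M.hrp
    · rw [hNr, polar_comm]; exact h2
  rw [e2]
  group

end Cfsg.Agent.Lib.Helper6.SgRoot
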