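import Mathlib
import Cfsg.Agent.Lib.Helper6.SgRoot1

/-!
# Pairs of Siegel transvection groups: commutator case, rank one case, adapted bases
-/

set_option autoImplicit false
open Cfsg Matrix QuadraticMap

namespace Cfsg.Agent.Lib.Helper6.SgRoot

open Cfsg.Agent.Lib.Helper6 Cfsg.Agent.H26

/-! ### abstract lemmas -/

section abstract
variable {G : Type*} [Group G]

theorem not_rankOne_of_comm {A B : Subgroup G} (hA : A ≠ ⊥) (h : ⁅A, B⁆ = ⊥) : ¬ IsRankOnePair A B := by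
  intro hr
  obtain ⟨a, ha1⟩ := (Subgroup.ne_bot_iff_exists_ne_one).mp hA
  obtain ⟨a, ha⟩ := a
  have ha1' : a ≠ 1 := fun h0 => ha1 (Subtype.ext h0)
  obtain ⟨b, hb, hb1, hconj⟩ := hr.cond_left a ha ha1'
  have e1 : conjBy A b⁻¹ = A := by
    apply conjBy_eq_self_of_commute
    intro c hc
    have := commute_of_commutator_eq_bot h hc (Subgroup.inv_mem _ hb)
    exact this.symm
  have e2 : conjBy B a⁻¹ = B := by
    apply conjBy_eq_self_of_commute
    intro c hc
    exact commute_of_commutator_eq_bot h (Subgroup.inv_mem _ ha) hc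
  rw [e1, e2] at hconj
  exact hr.ne hconj

theorem not_rankOne_of_central {A B : Subgroup G} (hA : IsMulCommutative A) (hB : IsMulCommutative B)
    (hcent : ∀ c ∈ ⁅A, B⁆, ∀ x ∈ A ⊔ B, c * x = x * c) (hne : ⁅A, B⁆ ≠ ⊥) : ¬ IsRankOnePair A B := by
  intro hr
  have hex : ∃ a ∈ A, ∃ b' ∈ B, a * b' ≠ b' * a := by
    by_contra hcon
    push Not at hcon
    exact hne (commutator_eq_bot_of_commute hcon)
  obtain ⟨a, ha, b', hb', hab⟩ := hex
  have ha1 : a ≠ 1 := by
    rintro rfl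
    exact hab (by rw [one_mul, mul_one])
  obtain ⟨b, hb, hb1, hconj⟩ := hr.cond_left a ha ha1
  have hy : a⁻¹ * b' * a ∈ conjBy B a⁻¹ := by
    rw [mem_conjBy]
    have : (a⁻¹)⁻¹ * (a⁻¹ * b' * a) * a⁻¹ = b' := by group
    rw [this]
    exact hb'
  rw [← hconj, mem_conjBy] at hy
  set x := (b⁻¹)⁻¹ * (a⁻¹ * b' * a) * b⁻¹ with hx
  set c₁ := a⁻¹ * b' * (a⁻¹)⁻¹ * b'⁻¹ with hc₁
  have hc₁mem : c₁ ∈ ⁅A, B⁆ := by
    have := Subgroup.commutator_mem_commutator (Subgroup.inv_mem _ ha) hb'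
    rwa [commutatorElement_def] at this
  have hbb' : b * b' = b' * b := commute_of_isMulCommutative hB hb hb'
  have hcb : c₁ * b = b * c₁ := hcent c₁ hc₁mem b (Subgroup.mem_sup_right hb)
  have hca : c₁ * a = a * c₁ := hcent c₁ hc₁mem a (Subgroup.mem_sup_left ha)
  have hxeq : x = c₁ * b' := by
    calc x = b * (c₁ * b') * b⁻¹ := by rw [hx, hc₁]; group
      _ = (b * c₁) * b' * b⁻¹ := by group
      _ = (c₁ * b) * b' * b⁻¹ := by rw [hcb]
      _ = c₁ * (b * b') * b⁻¹ := by group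
      _ = c₁ * (b' * b) * b⁻¹ := by rw [hbb']
      _ = c₁ * b' := by group
  have hax : a * x = x * a := commute_of_isMulCommutative hA ha hy
  apply hab
  have e : b' = c₁⁻¹ * x := by rw [hxeq]; group
  calc a * b' = a * (c₁⁻¹ * x) := by rw [← e]
    _ = c₁⁻¹ * (c₁ * a) * c₁⁻¹ * x := by group
    _ = c₁⁻¹ * (a * c₁) * c₁⁻¹ * x := by rw [hca]
    _ = c₁⁻¹ * (a * x) := by group
    _ = c₁⁻¹ * (x * a) := by rw [hax]
    _ = (c₁⁻¹ * x) * a := by group
    _ = b' * a := by rw [← e]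

end abstract

variable {F : Type*} [Field F] {ι : Type} [Fintype ι] [DecidableEq ι]
variable {Q : QuadraticForm F (ι → F)}

/-! ### the commutator case -/

theorem commutator_eq_T (L M N : SP Q) (h1 : polar (⇑Q) L.p M.p = 0) (h2 : polar (⇑Q) L.p M.r = 0)
    (h3 : polar (⇑Q) L.r M.p = 0) (h4 : polar (⇑Q) L.r M.r ≠ 0) (hNp : N.p = M.p) (hNr : N.r = L.p) :
    ⁅T L, T M⁆ = T N := by
  apply le_antisymm
  · rw [Subgroup.commutator_le]
    rintro _ ⟨s, rfl⟩ _ ⟨t, rfl⟩
    rw [commutatorElement_def, comm_formula L M N h1 h2 h3 hNp hNr]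
    exact tau_mem _ _
  · rintro _ ⟨e, rfl⟩
    have h5 := Subgroup.commutator_mem_commutator (tau_mem L (e / polar (⇑Q) L.r M.r)) (tau_mem M 1)
    rw [commutatorElement_def, comm_formula L M N h1 h2 h3 hNp hNr] at h5
    convert h5 using 2
    field_simp

theorem tau_eq_one_of_zero (L : SP Q) {t : F} (h : t = 0) : tau L t = 1 := by
  rw [h, tau_zero]

theorem rootCommCase (S : Set (Subgroup ↥(Cfsg.isometryGroup F ⇑Q))) (L M N : SP Q)
    (h1 : polar (⇑Q) L.p M.p = 0) (h2 : polar (⇑Q) L.p M.r = 0)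
    (h3 : polar (⇑Q) L.r M.p = 0) (h4 : polar (⇑Q) L.r M.r ≠ 0) (hNp : N.p = M.p) (hNr : N.r = L.p)
    (hN : T N ∈ S) : RootCommutatorCase S (T L) (T M) := by
  have hcomm := commutator_eq_T L M N h1 h2 h3 h4 hNp hNr
  refine ⟨hcomm ▸ hN, ?_, ?_, ?_⟩
  · rw [hcomm]
    rintro _ ⟨e, rfl⟩ x hx
    have hle : T L ⊔ T M ≤ Subgroup.centralizer {tau N e} := by
      rw [sup_le_iff]
      constructor
      · rintro _ ⟨c, rfl⟩
        rw [Subgroup.mem_centralizer_iff]
        intro y hy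
        rw [Set.mem_singleton_iff.mp hy]
        apply tau_comm_of_orth
        · rw [hNp, polar_comm]; exact h1
        · rw [hNp, polar_comm]; exact h3
        · rw [hNr]; exact L.hpp
        · rw [hNr]; exact L.hpr
      · rintro _ ⟨d, rfl⟩
        rw [Subgroup.mem_centralizer_iff]
        intro y hy
        rw [Set.mem_singleton_iff.mp hy]
        apply tau_comm_of_orth
        · rw [hNp]; exact M.hpp
        · rw [hNp]; exact M.hpr
        · rw [hNr]; exact h1
        · rw [hNr]; exact h2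
    have := hle hx
    rw [Subgroup.mem_centralizer_iff] at this
    exact this _ rfl
  · rintro _ ⟨c, rfl⟩ hc1
    have hc : c ≠ 0 := fun hc => hc1 (tau_eq_one_of_zero L hc)
    rw [hcomm]
    have hset : (fun b => tau L c * b * (tau L c)⁻¹ * b⁻¹) '' (T M : Set ↥(Cfsg.isometryGroup F ⇑Q))
        = (T N : Set ↥(Cfsg.isometryGroup F ⇑Q)) := by
      ext x
      constructor
      · rintro ⟨_, ⟨d, rfl⟩, rfl⟩
        change tau L c * tau M d * (tau L c)⁻¹ * (tau M d)⁻¹ ∈ T N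
        rw [comm_formula L M N h1 h2 h3 hNp hNr]
        exact tau_mem _ _
      · rintro ⟨e, rfl⟩
        refine ⟨tau M (e / (c * polar (⇑Q) L.r M.r)), tau_mem _ _, ?_⟩
        change tau L c * tau M _ * (tau L c)⁻¹ * (tau M _)⁻¹ = _
        rw [comm_formula L M N h1 h2 h3 hNp hNr]
        congr 1
        field_simp
    rw [hset, Subgroup.closure_eq]
  · rintro _ ⟨d, rfl⟩ hd1
    have hd : d ≠ 0 := fun hd => hd1 (tau_eq_one_of_zero M hd)
    rw [hcomm]
    have hset : (fun a => a * tau M d * a⁻¹ * (tau M d)⁻¹) '' (T L : Set ↥(Cfsg.isometryGroup F ⇑Q))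
        = (T N : Set ↥(Cfsg.isometryGroup F ⇑Q)) := by
      ext x
      constructor
      · rintro ⟨_, ⟨c, rfl⟩, rfl⟩
        change tau L c * tau M d * (tau L c)⁻¹ * (tau M d)⁻¹ ∈ T N
        rw [comm_formula L M N h1 h2 h3 hNp hNr]
        exact tau_mem _ _
      · rintro ⟨e, rfl⟩
        refine ⟨tau L (e / (d * polar (⇑Q) L.r M.r)), tau_mem _ _, ?_⟩
        change tau L _ * tau M d * (tau L _)⁻¹ * (tau M d)⁻¹ = _
        rw [comm_formula L M N h1 h2 h3 hNp hNr]
        congr 1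
        field_simp
    rw [hset, Subgroup.closure_eq]

/-! ### the rank one case in normalized position -/

/-- normalized position of two pairs: Gram matrix `(0, 1; -1, 0)` -/
structure Nrm (L M : SP Q) : Prop where
  g1 : polar (⇑Q) L.p M.p = 0
  g2 : polar (⇑Q) L.p M.r = 1
  g3 : polar (⇑Q) L.r M.p = -1
  g4 : polar (⇑Q) L.r M.r = 0

theorem Nrm.g1' {L M : SP Q} (h : Nrm L M) : polar (⇑Q) M.p L.p = 0 := by rw [polar_comm, h.g1]
theorem Nrm.g2' {L M : SP Q} (h : Nrm L M) : polar (⇑Q) M.r L.p = 1 := by rw [polar_comm, h.g2]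
theorem Nrm.g3' {L M : SP Q} (h : Nrm L M) : polar (⇑Q) M.p L.r = -1 := by rw [polar_comm, h.g3]
theorem Nrm.g4' {L M : SP Q} (h : Nrm L M) : polar (⇑Q) M.r L.r = 0 := by rw [polar_comm, h.g4]

theorem Nrm.Lp_ne {L M : SP Q} (h : Nrm L M) : L.p ≠ 0 := by
  intro h0
  have := h.g2
  rw [h0, polar_zero_left] at this
  exact zero_ne_one this

theorem Nrm.Mp_ne {L M : SP Q} (h : Nrm L M) : M.p ≠ 0 := by
  intro h0
  have := h.g3
  rw [h0, polar_zero_right] at this
  have : (1 : F) = 0 := by linear_combination this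
  exact one_ne_zero this

theorem gact_tau_inv_Mp {L M : SP Q} (h : Nrm L M) (t : F) :
    gact Q (tau L t)⁻¹ M.p = M.p + t • L.p := by
  rw [tau_inv, gact_tau, h.g1, h.g3]
  module

theorem gact_tau_inv_Mr {L M : SP Q} (h : Nrm L M) (t : F) :
    gact Q (tau L t)⁻¹ M.r = M.r + t • L.r := by
  rw [tau_inv, gact_tau, h.g2, h.g4]
  module

theorem gact_tau_inv_Lp {L M : SP Q} (h : Nrm L M) (s : F) :
    gact Q (tau M s)⁻¹ L.p = L.p - s • M.p := by
  rw [tau_inv, gact_tau, h.g1', h.g2']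
  module

theorem gact_tau_inv_Lr {L M : SP Q} (h : Nrm L M) (s : F) :
    gact Q (tau M s)⁻¹ L.r = L.r - s • M.r := by
  rw [tau_inv, gact_tau, h.g3', h.g4']
  module

theorem conj_eq_norm {L M : SP Q} (h : Nrm L M) (s t : F) (hst : s * t = -1) :
    conjBy (T L) (tau M s)⁻¹ = conjBy (T M) (tau L t)⁻¹ := by
  rw [conjBy_T, conjBy_T]
  have ht : t ≠ 0 := by
    rintro rfl
    rw [mul_zero] at hst
    have : (1 : F) = 0 := by linear_combination hst
    exact one_ne_zero this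
  have e : M.map (tau L t)⁻¹ = (L.map (tau M s)⁻¹).chg t 0 0 t := by
    apply SP.ext'
    · change gact Q (tau L t)⁻¹ M.p = t • gact Q (tau M s)⁻¹ L.p + (0 : F) • gact Q (tau M s)⁻¹ L.r
      rw [gact_tau_inv_Mp h, gact_tau_inv_Lp h, zero_smul, add_zero, smul_sub, smul_smul]
      have : t * s = -1 := by rw [mul_comm]; exact hst
      rw [this]
      module
    · change gact Q (tau L t)⁻¹ M.r = (0 : F) • gact Q (tau M s)⁻¹ L.p + t • gact Q (tau M s)⁻¹ L.r
      rw [gact_tau_inv_Mr h, gact_tau_inv_Lr h, zero_smul, zero_add, smul_sub, smul_smul]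
      have : t * s = -1 := by rw [mul_comm]; exact hst
      rw [this]
      module
  rw [e, T_chg]
  rw [mul_zero, sub_zero]
  exact mul_ne_zero ht ht

theorem tau_L_ne_one {L M : SP Q} (h : Nrm L M) {t : F} (ht : t ≠ 0) : tau L t ≠ 1 := by
  intro h1
  have := congrArg (fun g => gact Q g M.p) h1
  simp only [gact_one] at this
  rw [gact_tau, h.g3, h.g1] at this
  have e : t • L.p = 0 := by
    have e2 : M.p + t • ((-1 : F) • L.p - (0 : F) • L.r) - M.p = 0 := by rw [this, sub_self]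
    have e3 : M.p + t • ((-1 : F) • L.p - (0 : F) • L.r) - M.p = -(t • L.p) := by module
    rw [e3] at e2
    exact neg_eq_zero.mp e2
  rcases smul_eq_zero.mp e with h0 | h0
  · exact ht h0
  · exact h.Lp_ne h0

theorem tau_M_ne_one {L M : SP Q} (h : Nrm L M) {s : F} (hs : s ≠ 0) : tau M s ≠ 1 := by
  intro h1
  have := congrArg (fun g => gact Q g L.p) h1
  simp only [gact_one] at this
  rw [gact_tau, h.g2', h.g1'] at this
  have e : s • M.p = 0 := by
    have e2 : L.p + s • ((1 : F) • M.p - (0 : F) • M.r) - L.p = 0 := by rw [this, sub_self]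
    have e3 : L.p + s • ((1 : F) • M.p - (0 : F) • M.r) - L.p = s • M.p := by module
    rw [e3] at e2
    exact e2
  rcases smul_eq_zero.mp e with h0 | h0
  · exact hs h0
  · exact h.Mp_ne h0

theorem T_ne_norm {L M : SP Q} (h : Nrm L M) : T L ≠ T M := by
  intro heq
  have h1 : tau L 1 ∈ T M := heq ▸ tau_mem L 1
  obtain ⟨s, hs⟩ := h1
  have e1 := congrArg (fun g => gact Q g L.p) hs
  rw [gact_tau, gact_tau, L.hrp, L.hpp, h.g2', h.g1'] at e1
  have e : s • M.p = 0 := by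
    have e2 : L.p + s • ((1 : F) • M.p - (0 : F) • M.r) - L.p = s • M.p := by module
    rw [← e2, ← e1]
    module
  have hs0 : s = 0 := by
    rcases smul_eq_zero.mp e with h0 | h0
    · exact h0
    · exact absurd h0 h.Mp_ne
  rw [hs0, tau_zero] at hs
  exact tau_L_ne_one h one_ne_zero hs

theorem rankOnePair_norm {L M : SP Q} (h : Nrm L M) : IsRankOnePair (T L) (T M) := by
  refine ⟨T_ne_norm h, ?_, ?_, ?_, ?_⟩
  · exact ⟨⟨1, Subgroup.upperCentralSeries_one_eq_top_iff.mpr (T_comm L)⟩⟩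
  · exact ⟨⟨1, Subgroup.upperCentralSeries_one_eq_top_iff.mpr (T_comm M)⟩⟩
  · rintro _ ⟨t, rfl⟩ ht1
    have ht : t ≠ 0 := fun h0 => ht1 (tau_eq_one_of_zero L h0)
    refine ⟨tau M (-t⁻¹), tau_mem _ _, tau_M_ne_one h (neg_ne_zero.mpr (inv_ne_zero ht)), ?_⟩
    apply conj_eq_norm h
    rw [neg_mul, inv_mul_cancel₀ ht]
  · rintro _ ⟨s, rfl⟩ hs1
    have hs : s ≠ 0 := fun h0 => hs1 (tau_eq_one_of_zero M h0)
    refine ⟨tau L (-s⁻¹), tau_mem _ _, tau_L_ne_one h (neg_ne_zero.mpr (inv_ne_zero hs)), ?_⟩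
    symm
    apply conj_eq_norm h
    rw [mul_neg, mul_inv_cancel₀ hs]

/-! ### independence -/

theorem indep_chg (L : SP Q) (hL : LinearIndependent F ![L.p, L.r]) (a b c d : F)
    (h : a * d - b * c ≠ 0) : LinearIndependent F ![(L.chg a b c d).p, (L.chg a b c d).r] := by
  rw [LinearIndependent.pair_iff] at hL ⊢
  intro s t hst
  change s • (a • L.p + b • L.r) + t • (c • L.p + d • L.r) = 0 at hst
  have h1 := hL (s * a + t * c) (s * b + t * d) (by rw [← hst]; module)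
  obtain ⟨e1, e2⟩ := h1
  constructor
  · have : s * (a * d - b * c) = 0 := by linear_combination d * e1 - c * e2
    rcases mul_eq_zero.mp this with h0 | h0
    · exact h0
    · exact absurd h0 h
  · have : t * (a * d - b * c) = 0 := by linear_combination a * e2 - b * e1
    rcases mul_eq_zero.mp this with h0 | h0
    · exact h0
    · exact absurd h0 h

theorem indep_swap (L : SP Q) (hL : LinearIndependent F ![L.p, L.r]) :
    LinearIndependent F ![L.swap.p, L.swap.r] := by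
  rw [LinearIndependent.pair_iff] at hL ⊢
  intro s t hst
  change s • L.r + t • L.p = 0 at hst
  have := hL t s (by rw [← hst]; module)
  exact ⟨this.2, this.1⟩

theorem indep_map (g : ↥(Cfsg.isometryGroup F ⇑Q)) (L : SP Q) (hL : LinearIndependent F ![L.p, L.r]) :
    LinearIndependent F ![(L.map g).p, (L.map g).r] := by
  rw [LinearIndependent.pair_iff] at hL ⊢
  intro s t hst
  change s • gact Q g L.p + t • gact Q g L.r = 0 at hst
  rw [← gact_smul, ← gact_smul, ← gact_add, gact_eq_zero_iff] at hst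
  exact hL s t hst

/-! ### adapted bases -/

theorem adapted_of_d (L M : SP Q) (hL : LinearIndependent F ![L.p, L.r])
    (hM : LinearIndependent F ![M.p, M.r])
    (hdet : polar (⇑Q) L.p M.p * polar (⇑Q) L.r M.r - polar (⇑Q) L.p M.r * polar (⇑Q) L.r M.p = 0)
    (hd : polar (⇑Q) L.r M.r ≠ 0) :
    ∃ L₁ M₁ : SP Q, T L₁ = T L ∧ T M₁ = T M ∧ LinearIndependent F ![L₁.p, L₁.r] ∧
      LinearIndependent F ![M₁.p, M₁.r] ∧ polar (⇑Q) L₁.p M₁.p = 0 ∧ polar (⇑Q) L₁.p M₁.r = 0 ∧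
      polar (⇑Q) L₁.r M₁.p = 0 ∧ polar (⇑Q) L₁.r M₁.r ≠ 0 := by
  set a := polar (⇑Q) L.p M.p with ha
  set b := polar (⇑Q) L.p M.r with hb
  set c := polar (⇑Q) L.r M.p with hc
  set d := polar (⇑Q) L.r M.r with hd'
  have hone : ∀ x : F, (1 : F) * 1 - x * 0 ≠ 0 := by
    intro x
    rw [mul_zero, sub_zero, mul_one]
    exact one_ne_zero
  refine ⟨L.chg 1 (-b / d) 0 1, M.chg 1 (-c / d) 0 1, T_chg _ _ _ _ _ (hone _), T_chg _ _ _ _ _ (hone _),
    indep_chg L hL _ _ _ _ (hone _), indep_chg M hM _ _ _ _ (hone _), ?_, ?_, ?_, ?_⟩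
  · change polar (⇑Q) ((1 : F) • L.p + (-b / d) • L.r) ((1 : F) • M.p + (-c / d) • M.r) = 0
    simp only [polar_add_left, polar_add_right, polar_smul_left, polar_smul_right, smul_eq_mul,
      ← ha, ← hb, ← hc, ← hd']
    field_simp
    linear_combination hdet
  · change polar (⇑Q) ((1 : F) • L.p + (-b / d) • L.r) ((0 : F) • M.p + (1 : F) • M.r) = 0
    simp only [polar_add_left, polar_add_right, polar_smul_left, polar_smul_right, smul_eq_mul,
      ← ha, ← hb, ← hc, ← hd']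
    field_simp
    ring
  · change polar (⇑Q) ((0 : F) • L.p + (1 : F) • L.r) ((1 : F) • M.p + (-c / d) • M.r) = 0
    simp only [polar_add_left, polar_add_right, polar_smul_left, polar_smul_right, smul_eq_mul,
      ← ha, ← hb, ← hc, ← hd']
    field_simp
    ring
  · change polar (⇑Q) ((0 : F) • L.p + (1 : F) • L.r) ((0 : F) • M.p + (1 : F) • M.r) ≠ 0
    simp only [polar_add_left, polar_add_right, polar_smul_left, polar_smul_right, smul_eq_mul,
      ← ha, ← hb, ← hc, ← hd']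
    simpa using hd

theorem exists_adapted (L M : SP Q) (hL : LinearIndependent F ![L.p, L.r])
    (hM : LinearIndependent F ![M.p, M.r])
    (hdet : polar (⇑Q) L.p M.p * polar (⇑Q) L.r M.r - polar (⇑Q) L.p M.r * polar (⇑Q) L.r M.p = 0)
    (hne : ¬ (polar (⇑Q) L.p M.p = 0 ∧ polar (⇑Q) L.p M.r = 0 ∧ polar (⇑Q) L.r M.p = 0 ∧
      polar (⇑Q) L.r M.r = 0)) :
    ∃ L₁ M₁ : SP Q, T L₁ = T L ∧ T M₁ = T M ∧ LinearIndependent F ![L₁.p, L₁.r] ∧
      LinearIndependent F ![M₁.p, M₁.r] ∧ polar (⇑Q) L₁.p M₁.p = 0 ∧ polar (⇑Q) L₁.p M₁.r = 0 ∧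
      polar (⇑Q) L₁.r M₁.p = 0 ∧ polar (⇑Q) L₁.r M₁.r ≠ 0 := by
  by_cases hd : polar (⇑Q) L.r M.r ≠ 0
  · exact adapted_of_d L M hL hM hdet hd
  push Not at hd
  by_cases hc : polar (⇑Q) L.r M.p ≠ 0
  · obtain ⟨L₁, M₁, h1, h2, h3⟩ := adapted_of_d L M.swap hL (indep_swap M hM)
      (by change polar (⇑Q) L.p M.r * polar (⇑Q) L.r M.p - polar (⇑Q) L.p M.p * polar (⇑Q) L.r M.r = 0
          linear_combination -hdet) hc
    exact ⟨L₁, M₁, h1, by rw [h2, T_swap], h3⟩
  push Not at hc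
  by_cases hb : polar (⇑Q) L.p M.r ≠ 0
  · obtain ⟨L₁, M₁, h1, h2, h3⟩ := adapted_of_d L.swap M (indep_swap L hL) hM
      (by change polar (⇑Q) L.r M.p * polar (⇑Q) L.p M.r - polar (⇑Q) L.r M.r * polar (⇑Q) L.p M.p = 0
          linear_combination -hdet) hb
    exact ⟨L₁, M₁, by rw [h1, T_swap], h2, h3⟩
  push Not at hb
  have ha : polar (⇑Q) L.p M.p ≠ 0 := fun ha => hne ⟨ha, hb, hc, hd⟩
  obtain ⟨L₁, M₁, h1, h2, h3⟩ := adapted_of_d L.swap M.swap (indep_swap L hL) (indep_swap M hM)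
      (by change polar (⇑Q) L.r M.r * polar (⇑Q) L.p M.p - polar (⇑Q) L.r M.p * polar (⇑Q) L.p M.r = 0
          linear_combination hdet) ha
  exact ⟨L₁, M₁, by rw [h1, T_swap], by rw [h2, T_swap], h3⟩

/-- normalizing the second pair when the Gram matrix is invertible -/
theorem exists_nrm (L M : SP Q) (hM : LinearIndependent F ![M.p, M.r])
    (hdet : polar (⇑Q) L.p M.p * polar (⇑Q) L.r M.r - polar (⇑Q) L.p M.r * polar (⇑Q) L.r M.p ≠ 0) :
    ∃ M₁ : SP Q, T M₁ = T M ∧ LinearIndependent F ![M₁.p, M₁.r] ∧ Nrm L M₁ := by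
  set a := polar (⇑Q) L.p M.p with ha
  set b := polar (⇑Q) L.p M.r with hb
  set c := polar (⇑Q) L.r M.p with hc
  set d := polar (⇑Q) L.r M.r with hd'
  set Δ := a * d - b * c with hΔ
  have hdd : (b / Δ) * (-c / Δ) - (-a / Δ) * (d / Δ) ≠ 0 := by
    have : (b / Δ) * (-c / Δ) - (-a / Δ) * (d / Δ) = Δ⁻¹ := by
      field_simp
      rw [hΔ]; ring
    rw [this]
    exact inv_ne_zero hdet
  refine ⟨M.chg (b / Δ) (-a / Δ) (d / Δ) (-c / Δ), T_chg _ _ _ _ _ hdd, indep_chg M hM _ _ _ _ hdd, ?_, ?_, ?_, ?_⟩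
  · change polar (⇑Q) L.p ((b / Δ) • M.p + (-a / Δ) • M.r) = 0
    simp only [polar_add_right, polar_smul_right, smul_eq_mul, ← ha, ← hb]
    field_simp
    ring
  · change polar (⇑Q) L.p ((d / Δ) • M.p + (-c / Δ) • M.r) = 1
    simp only [polar_add_right, polar_smul_right, smul_eq_mul, ← ha, ← hb]
    field_simp
    rw [hΔ]; ring
  · change polar (⇑Q) L.r ((b / Δ) • M.p + (-a / Δ) • M.r) = -1
    simp only [polar_add_right, polar_smul_right, smul_eq_mul, ← hc, ← hd']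
    field_simp
    rw [hΔ]; ring
  · change polar (⇑Q) L.r ((d / Δ) • M.p + (-c / Δ) • M.r) = 0
    simp only [polar_add_right, polar_smul_right, smul_eq_mul, ← hc, ← hd']
    field_simp
    ring

end Cfsg.Agent.Lib.Helper6.SgRoot
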