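import Mathlib
import Cfsg.Agent.Lib.Helper6.SgRoot2
import Cfsg.Agent.Lib.Helper6.SLRoot3

/-!
# A rank one pair of Siegel transvection groups is an image of `SL₂`
-/

set_option autoImplicit false
open Cfsg Matrix QuadraticMap

namespace Cfsg.Agent.Lib.Helper6.SgRoot

open Cfsg.Agent.Lib.Helper6 Cfsg.Agent.H26

variable {F : Type*} [Field F] {ι : Type} [Fintype ι] [DecidableEq ι]
variable {Q : QuadraticForm F (ι → F)}

theorem Qm_mul_Pm_zero (u v ψ φ : ι → F) (h1 : ψ ⬝ᵥ u = 0) (h2 : ψ ⬝ᵥ v = 0) (h3 : φ ⬝ᵥ u = 0)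
    (h4 : φ ⬝ᵥ v = 0) : SLRoot.Qm ψ φ * SLRoot.Pm u v = 0 := by
  ext a b
  rw [Matrix.mul_apply']
  fin_cases a <;> fin_cases b
  · change ψ ⬝ᵥ u = _
    rw [h1]; rfl
  · change ψ ⬝ᵥ v = _
    rw [h2]; rfl
  · change φ ⬝ᵥ u = _
    rw [h3]; rfl
  · change φ ⬝ᵥ v = _
    rw [h4]; rfl

theorem phiM_mulVec (u v ψ φ : ι → F) (M : Matrix (Fin 2) (Fin 2) F) (x : ι → F) :
    SLRoot.phiM u v ψ φ M *ᵥ x = x + ((M 0 0 - 1) * (ψ ⬝ᵥ x) + M 0 1 * (φ ⬝ᵥ x)) • u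
      + (M 1 0 * (ψ ⬝ᵥ x) + (M 1 1 - 1) * (φ ⬝ᵥ x)) • v := by
  unfold SLRoot.phiM
  rw [Matrix.add_mulVec, Matrix.one_mulVec, ← Matrix.mulVec_mulVec, ← Matrix.mulVec_mulVec]
  have h1 : SLRoot.Qm ψ φ *ᵥ x = ![ψ ⬝ᵥ x, φ ⬝ᵥ x] := by
    ext a
    fin_cases a <;> rfl
  rw [h1]
  have h2 : ∀ y : Fin 2 → F, SLRoot.Pm u v *ᵥ y = y 0 • u + y 1 • v := by
    intro y
    ext i
    simp only [Matrix.mulVec, dotProduct, Fin.sum_univ_two, Pi.add_apply, Pi.smul_apply, smul_eq_mul]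
    change u i * y 0 + v i * y 1 = _
    ring
  rw [h2]
  have h3 : ∀ a b : F, (M - 1) *ᵥ ![a, b] =
      ![(M 0 0 - 1) * a + M 0 1 * b, M 1 0 * a + (M 1 1 - 1) * b] := by
    intro a b
    ext i
    fin_cases i
    · simp [Matrix.mulVec, dotProduct, Fin.sum_univ_two]
    · simp [Matrix.mulVec, dotProduct, Fin.sum_univ_two]
  rw [h3]
  simp only [Matrix.cons_val_zero, Matrix.cons_val_one]
  rw [add_assoc]

/-- the matrix of the `SL₂`-action attached to two pairs in normalized position -/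
def Phi (L M : SP Q) (g : Matrix (Fin 2) (Fin 2) F) : Matrix ι ι F :=
  SLRoot.phiM L.p M.p (Cfsg.polarVec ⇑Q M.r) (-Cfsg.polarVec ⇑Q L.r) g
    + SLRoot.phiM L.r M.r (-Cfsg.polarVec ⇑Q M.p) (Cfsg.polarVec ⇑Q L.p) g - 1

theorem hQP1 {L M : SP Q} (h : Nrm L M) :
    SLRoot.Qm (Cfsg.polarVec ⇑Q M.r) (-Cfsg.polarVec ⇑Q L.r) * SLRoot.Pm L.p M.p = 1 := by
  apply SLRoot.Qm_mul_Pm
  · rw [polarVec_dot, h.g2']
  · rw [polarVec_dot, M.hrp]
  · rw [neg_dotProduct, polarVec_dot, L.hrp, neg_zero]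
  · rw [neg_dotProduct, polarVec_dot, h.g3, neg_neg]

theorem hQP2 {L M : SP Q} (h : Nrm L M) :
    SLRoot.Qm (-Cfsg.polarVec ⇑Q M.p) (Cfsg.polarVec ⇑Q L.p) * SLRoot.Pm L.r M.r = 1 := by
  apply SLRoot.Qm_mul_Pm
  · rw [neg_dotProduct, polarVec_dot, h.g3', neg_neg]
  · rw [neg_dotProduct, polarVec_dot, M.hpr, neg_zero]
  · rw [polarVec_dot, L.hpr]
  · rw [polarVec_dot, h.g2]

theorem hZ12 {L M : SP Q} (h : Nrm L M) :
    SLRoot.Qm (Cfsg.polarVec ⇑Q M.r) (-Cfsg.polarVec ⇑Q L.r) * SLRoot.Pm L.r M.r = 0 := by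
  apply Qm_mul_Pm_zero
  · rw [polarVec_dot, h.g4']
  · rw [polarVec_dot, M.hrr]
  · rw [neg_dotProduct, polarVec_dot, L.hrr, neg_zero]
  · rw [neg_dotProduct, polarVec_dot, h.g4, neg_zero]

theorem hZ21 {L M : SP Q} (h : Nrm L M) :
    SLRoot.Qm (-Cfsg.polarVec ⇑Q M.p) (Cfsg.polarVec ⇑Q L.p) * SLRoot.Pm L.p M.p = 0 := by
  apply Qm_mul_Pm_zero
  · rw [neg_dotProduct, polarVec_dot, h.g1', neg_zero]
  · rw [neg_dotProduct, polarVec_dot, M.hpp, neg_zero]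
  · rw [polarVec_dot, L.hpp]
  · rw [polarVec_dot, h.g1]

theorem Phi_one (L M : SP Q) : Phi L M 1 = 1 := by
  unfold Phi
  rw [SLRoot.phiM_one, SLRoot.phiM_one, add_sub_cancel_right]

theorem phiM_sub_one (u v ψ φ : ι → F) (g : Matrix (Fin 2) (Fin 2) F) :
    SLRoot.phiM u v ψ φ g - 1 = SLRoot.Pm u v * ((g - 1) * SLRoot.Qm ψ φ) := by
  unfold SLRoot.phiM
  rw [add_sub_cancel_left]

theorem Phi_mul {L M : SP Q} (h : Nrm L M) (g g' : Matrix (Fin 2) (Fin 2) F) :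
    Phi L M (g * g') = Phi L M g * Phi L M g' := by
  unfold Phi
  have e1 := SLRoot.phiM_mul L.p M.p (Cfsg.polarVec ⇑Q M.r) (-Cfsg.polarVec ⇑Q L.r) (hQP1 h) g g'
  have e2 := SLRoot.phiM_mul L.r M.r (-Cfsg.polarVec ⇑Q M.p) (Cfsg.polarVec ⇑Q L.p) (hQP2 h) g g'
  set A := SLRoot.phiM L.p M.p (Cfsg.polarVec ⇑Q M.r) (-Cfsg.polarVec ⇑Q L.r) g with hA
  set A' := SLRoot.phiM L.p M.p (Cfsg.polarVec ⇑Q M.r) (-Cfsg.polarVec ⇑Q L.r) g' with hA'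
  set B := SLRoot.phiM L.r M.r (-Cfsg.polarVec ⇑Q M.p) (Cfsg.polarVec ⇑Q L.p) g with hB
  set B' := SLRoot.phiM L.r M.r (-Cfsg.polarVec ⇑Q M.p) (Cfsg.polarVec ⇑Q L.p) g' with hB'
  have c1 : (A - 1) * (B' - 1) = 0 := by
    rw [hA, hB', phiM_sub_one, phiM_sub_one]
    simp only [Matrix.mul_assoc]
    rw [← Matrix.mul_assoc (SLRoot.Qm (Cfsg.polarVec ⇑Q M.r) (-Cfsg.polarVec ⇑Q L.r)) (SLRoot.Pm L.r M.r),
      hZ12 h]
    simp
  have c2 : (B - 1) * (A' - 1) = 0 := by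
    rw [hB, hA', phiM_sub_one, phiM_sub_one]
    simp only [Matrix.mul_assoc]
    rw [← Matrix.mul_assoc (SLRoot.Qm (-Cfsg.polarVec ⇑Q M.p) (Cfsg.polarVec ⇑Q L.p)) (SLRoot.Pm L.p M.p),
      hZ21 h]
    simp
  have e3 : (A + B - 1) * (A' + B' - 1) = A * A' + B * B' - 1 + (A - 1) * (B' - 1) + (B - 1) * (A' - 1) := by
    noncomm_ring
  rw [e3, c1, c2, add_zero, add_zero, e1, e2]

theorem Phi_mulVec (L M : SP Q) (g : Matrix (Fin 2) (Fin 2) F) (x : ι → F) :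
    Phi L M g *ᵥ x = x
      + ((g 0 0 - 1) * polar (⇑Q) M.r x + g 0 1 * (-polar (⇑Q) L.r x)) • L.p
      + (g 1 0 * polar (⇑Q) M.r x + (g 1 1 - 1) * (-polar (⇑Q) L.r x)) • M.p
      + ((g 0 0 - 1) * (-polar (⇑Q) M.p x) + g 0 1 * polar (⇑Q) L.p x) • L.r
      + (g 1 0 * (-polar (⇑Q) M.p x) + (g 1 1 - 1) * polar (⇑Q) L.p x) • M.r := by
  unfold Phi
  rw [Matrix.sub_mulVec, Matrix.add_mulVec, Matrix.one_mulVec, phiM_mulVec, phiM_mulVec,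
    neg_dotProduct, neg_dotProduct, polarVec_dot, polarVec_dot, polarVec_dot, polarVec_dot]
  module

theorem Q_lin4 (e₁ e₂ e₃ e₄ : ι → F) (c₁ c₂ c₃ c₄ : F) :
    Q (c₁ • e₁ + c₂ • e₂ + c₃ • e₃ + c₄ • e₄) =
      c₁ * c₁ * Q e₁ + c₂ * c₂ * Q e₂ + c₃ * c₃ * Q e₃ + c₄ * c₄ * Q e₄
      + c₁ * c₂ * polar (⇑Q) e₁ e₂ + c₁ * c₃ * polar (⇑Q) e₁ e₃ + c₁ * c₄ * polar (⇑Q) e₁ e₄
      + c₂ * c₃ * polar (⇑Q) e₂ e₃ + c₂ * c₄ * polar (⇑Q) e₂ e₄ + c₃ * c₄ * polar (⇑Q) e₃ e₄ := by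
  rw [Q_add, Q_add, Q_add, Q_smul, Q_smul, Q_smul, Q_smul]
  simp only [polar_add_left, polar_smul_left, polar_smul_right, smul_eq_mul]
  ring

theorem Phi_form {L M : SP Q} (h : Nrm L M) (g : Matrix (Fin 2) (Fin 2) F)
    (hdet : g 0 0 * g 1 1 - g 0 1 * g 1 0 = 1) (x : ι → F) : Q (Phi L M g *ᵥ x) = Q x := by
  rw [Phi_mulVec]
  set k₁ := polar (⇑Q) M.r x with hk₁
  set k₂ := polar (⇑Q) L.r x with hk₂
  set k₃ := polar (⇑Q) M.p x with hk₃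
  set k₄ := polar (⇑Q) L.p x with hk₄
  set α := (g 0 0 - 1) * k₁ + g 0 1 * (-k₂) with hα
  set β := g 1 0 * k₁ + (g 1 1 - 1) * (-k₂) with hβ
  set γ := (g 0 0 - 1) * (-k₃) + g 0 1 * k₄ with hγ
  set δ := g 1 0 * (-k₃) + (g 1 1 - 1) * k₄ with hδ
  have e : x + α • L.p + β • M.p + γ • L.r + δ • M.r = x + (α • L.p + β • M.p + γ • L.r + δ • M.r) := by
    abel
  rw [e, Q_add, Q_lin4, L.hp, M.hp, L.hr, M.hr, h.g1, L.hpr, h.g2, h.g3', M.hpr, h.g4]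
  simp only [polar_add_right, polar_smul_right, smul_eq_mul]
  rw [polar_comm (⇑Q) x L.p, polar_comm (⇑Q) x M.p, polar_comm (⇑Q) x L.r, polar_comm (⇑Q) x M.r,
    ← hk₁, ← hk₂, ← hk₃, ← hk₄]
  rw [hα, hβ, hγ, hδ]
  linear_combination (k₁ * k₄ - k₂ * k₃) * hdet

/-- the homomorphism `SL₂(F) → O(Q)` attached to two pairs in normalized position -/
def phi {L M : SP Q} (h : Nrm L M) :
    Matrix.SpecialLinearGroup (Fin 2) F →* ↥(Cfsg.isometryGroup F ⇑Q) where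
  toFun g := mkIso Q (Phi L M g.1) (Phi L M (g⁻¹).1)
    (by rw [← Phi_mul h, ← Matrix.SpecialLinearGroup.coe_mul, mul_inv_cancel,
      Matrix.SpecialLinearGroup.coe_one, Phi_one])
    (by rw [← Phi_mul h, ← Matrix.SpecialLinearGroup.coe_mul, inv_mul_cancel,
      Matrix.SpecialLinearGroup.coe_one, Phi_one])
    (Phi_form h g.1 (sl2_det g))
  map_one' := by
    apply iso_ext_gact
    intro x
    rw [gact_mkIso, gact_one, Matrix.SpecialLinearGroup.coe_one, Phi_one, Matrix.one_mulVec]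
  map_mul' g g' := by
    apply iso_ext_gact
    intro x
    rw [gact_mul, gact_mkIso, gact_mkIso, gact_mkIso, Matrix.SpecialLinearGroup.coe_mul, Phi_mul h,
      Matrix.mulVec_mulVec]

theorem gact_phi {L M : SP Q} (h : Nrm L M) (g : Matrix.SpecialLinearGroup (Fin 2) F) (x : ι → F) :
    gact Q (phi h g) x = Phi L M g.1 *ᵥ x := rfl

theorem phi_uM {L M : SP Q} (h : Nrm L M) (b : F) : phi h (uM b) = tau L (-b) := by
  apply iso_ext_gact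
  intro x
  rw [gact_phi, Phi_mulVec, gact_tau]
  simp only [uM_00, uM_01, uM_10, uM_11]
  module

theorem phi_lM {L M : SP Q} (h : Nrm L M) (c : F) : phi h (lM c) = tau M c := by
  apply iso_ext_gact
  intro x
  rw [gact_phi, Phi_mulVec, gact_tau]
  simp only [lM_00, lM_01, lM_10, lM_11]
  module

theorem phi_ker {L M : SP Q} (h : Nrm L M) : (phi h).ker = ⊥ := by
  rw [eq_bot_iff]
  intro g hg
  rw [MonoidHom.mem_ker] at hg
  rw [Subgroup.mem_bot]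
  have e1 := congrArg (fun y => gact Q y L.p) hg
  have e2 := congrArg (fun y => gact Q y M.p) hg
  simp only [gact_one] at e1 e2
  rw [gact_phi, Phi_mulVec, h.g2', L.hrp, h.g1', L.hpp] at e1
  rw [gact_phi, Phi_mulVec, M.hrp, h.g3, M.hpp, h.g1] at e2
  -- extract coefficients by pairing
  have f1 := congrArg (fun y => polar (⇑Q) M.r y) e1
  have f2 := congrArg (fun y => polar (⇑Q) L.r y) e1
  have f3 := congrArg (fun y => polar (⇑Q) M.r y) e2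
  have f4 := congrArg (fun y => polar (⇑Q) L.r y) e2
  simp only [polar_add_right, polar_smul_right, smul_eq_mul, h.g2', M.hrp, h.g4', M.hrr, L.hrp, h.g3,
    L.hrr, h.g4] at f1 f2 f3 f4
  apply sl2_ext
  · rw [Matrix.SpecialLinearGroup.coe_one, Matrix.one_apply_eq]
    linear_combination f1
  · rw [Matrix.SpecialLinearGroup.coe_one, Matrix.one_apply_ne (by decide)]
    linear_combination f3
  · rw [Matrix.SpecialLinearGroup.coe_one, Matrix.one_apply_ne (by decide)]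
    linear_combination -f2
  · rw [Matrix.SpecialLinearGroup.coe_one, Matrix.one_apply_eq]
    linear_combination -f4

theorem map_upper {L M : SP Q} (h : Nrm L M) : (upperUnipotentSL2 F).map (phi h) = T L := by
  ext x
  rw [Subgroup.mem_map, mem_T_iff]
  constructor
  · rintro ⟨g, hg, rfl⟩
    rw [eq_uM_of_mem hg, phi_uM]
    exact ⟨_, rfl⟩
  · rintro ⟨c, rfl⟩
    exact ⟨uM (-c), uM_mem _, by rw [phi_uM, neg_neg]⟩

theorem map_lower {L M : SP Q} (h : Nrm L M) : (lowerUnipotentSL2 F).map (phi h) = T M := by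
  ext x
  rw [Subgroup.mem_map, mem_T_iff]
  constructor
  · rintro ⟨g, hg, rfl⟩
    rw [eq_lM_of_mem hg, phi_lM]
    exact ⟨_, rfl⟩
  · rintro ⟨c, rfl⟩
    exact ⟨lM c, lM_mem _, phi_lM h c⟩

theorem psl2_norm {L M : SP Q} (h : Nrm L M) : IsPSL2PairOver F (T L) (T M) := by
  refine ⟨phi h, ?_, ?_, map_upper h, map_lower h⟩
  · rw [MonoidHom.range_eq_map, ← lower_sup_upper, Subgroup.map_sup, map_upper, map_lower, sup_comm]
  · rw [phi_ker]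
    exact bot_le

end Cfsg.Agent.Lib.Helper6.SgRoot
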