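import Mathlib
import Cfsg.Agent.Lib.Helper6.SgRoot3
import Cfsg.Agent.Lib.Helper6.Hyperbolic

/-!
# The set of Siegel transvection groups: identification and pair trichotomy
-/

set_option autoImplicit false
open Cfsg Matrix QuadraticMap

namespace Cfsg.Agent.Lib.Helper6.SgRoot

open Cfsg.Agent.Lib.Helper6 Cfsg.Agent.H26

variable {F : Type*} [Field F] {ι : Type} [Fintype ι] [DecidableEq ι]
variable {Q : QuadraticForm F (ι → F)}

/-- the isometries fixing `⟨p, r⟩^⊥` pointwise -/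
def Fx (Q : QuadraticForm F (ι → F)) (p r : ι → F) : Set ↥(Cfsg.isometryGroup F ⇑Q) :=
  {σ | ∀ v : ι → F, Q (v + p) - Q v - Q p = 0 → Q (v + r) - Q v - Q r = 0 →
    ((σ : Matrix.GeneralLinearGroup ι F) : Matrix ι ι F) *ᵥ v = v}

theorem mem_Fx_iff (p r : ι → F) (σ : ↥(Cfsg.isometryGroup F ⇑Q)) :
    σ ∈ Fx Q p r ↔ ∀ v, polar (⇑Q) v p = 0 → polar (⇑Q) v r = 0 → gact Q σ v = v := Iff.rfl

theorem tau_mem_Fx (L : SP Q) (t : F) : tau L t ∈ Fx Q L.p L.r := by
  rw [mem_Fx_iff]
  intro v h1 h2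
  rw [gact_tau, polar_comm (⇑Q) L.r v, polar_comm (⇑Q) L.p v, h1, h2]
  simp

theorem nondeg_left (hQ : (polarBilin Q).Nondegenerate) (x : ι → F)
    (h : ∀ y, polar (⇑Q) x y = 0) : x = 0 := hQ.1 x h

theorem Fx_subset_T (hQ : (polarBilin Q).Nondegenerate) (L : SP Q)
    (hL : LinearIndependent F ![L.p, L.r]) (σ : ↥(Cfsg.isometryGroup F ⇑Q))
    (hσ : σ ∈ Fx Q L.p L.r) : σ ∈ T L := by
  rw [mem_Fx_iff] at hσ
  have hLi := LinearIndependent.pair_iff.mp hL
  -- dual vectors
  have hp_notin : L.p ∉ Submodule.span F {L.r} := by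
    intro h
    obtain ⟨c, hc⟩ := Submodule.mem_span_singleton.mp h
    have := hLi 1 (-c) (by rw [← hc]; module)
    exact one_ne_zero this.1
  obtain ⟨ps, hps, hpps, hps'⟩ := exists_partner Q hQ (Submodule.span F {L.r}) L.p hp_notin L.hp (by
    intro z hz
    obtain ⟨c, rfl⟩ := Submodule.mem_span_singleton.mp hz
    rw [polar_smul_left, L.hrp, smul_zero])
  have hrps : polar (⇑Q) L.r ps = 0 := hps' L.r (Submodule.mem_span_singleton_self _)
  have hr_notin : L.r ∉ Submodule.span F {L.p, ps} := by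
    intro h
    obtain ⟨a, b, hab⟩ := Submodule.mem_span_pair.mp h
    have e1 := congrArg (fun y => polar (⇑Q) L.p y) hab
    simp only [polar_add_right, polar_smul_right, smul_eq_mul, L.hpp, hpps, L.hpr, mul_zero, zero_add,
      mul_one] at e1
    rw [e1, zero_smul, add_zero] at hab
    have := hLi a (-1) (by rw [hab]; module)
    have h2 : (-1 : F) = 0 := this.2
    exact one_ne_zero (neg_eq_zero.mp h2)
  obtain ⟨rs, hrs, hrrs, hrs'⟩ := exists_partner Q hQ (Submodule.span F {L.p, ps}) L.r hr_notin L.hr (by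
    intro z hz
    obtain ⟨a, b, rfl⟩ := Submodule.mem_span_pair.mp hz
    rw [polar_add_left, polar_smul_left, polar_smul_left, L.hpr, polar_comm, hrps]
    simp)
  have hprs : polar (⇑Q) L.p rs = 0 := hrs' L.p (Submodule.subset_span (by simp))
  have hpsrs : polar (⇑Q) ps rs = 0 := hrs' ps (Submodule.subset_span (by simp))
  -- the displacement vectors
  set a := gact Q σ ps - ps with ha
  set b := gact Q σ rs - rs with hb
  have hrefl : (polarBilin Q).IsRefl := by
    intro x y hxy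
    change polar (⇑Q) y x = 0
    rw [polar_comm]
    exact hxy
  have hspan : ∀ w : ι → F, (∀ y, polar (⇑Q) L.p y = 0 → polar (⇑Q) L.r y = 0 → polar (⇑Q) y w = 0) →
      w ∈ Submodule.span F {L.p, L.r} := by
    intro w hw
    rw [← LinearMap.BilinForm.orthogonal_orthogonal hQ hrefl (Submodule.span F {L.p, L.r})]
    rw [mem_orth_iff]
    intro y hy
    rw [mem_orth_iff] at hy
    exact hw y (hy _ (Submodule.subset_span (by simp))) (hy _ (Submodule.subset_span (by simp)))
  have hfix : ∀ y, polar (⇑Q) L.p y = 0 → polar (⇑Q) L.r y = 0 → gact Q σ y = y := by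
    intro y h1 h2
    exact hσ y (by rw [polar_comm]; exact h1) (by rw [polar_comm]; exact h2)
  have ha_mem : a ∈ Submodule.span F {L.p, L.r} := by
    apply hspan
    intro y h1 h2
    rw [ha, polar_sub_right]
    have : polar (⇑Q) y (gact Q σ ps) = polar (⇑Q) y ps := by
      conv_lhs => rw [← hfix y h1 h2]
      rw [polar_gact]
    rw [this, sub_self]
  have hb_mem : b ∈ Submodule.span F {L.p, L.r} := by
    apply hspan
    intro y h1 h2
    rw [hb, polar_sub_right]
    have : polar (⇑Q) y (gact Q σ rs) = polar (⇑Q) y rs := by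
      conv_lhs => rw [← hfix y h1 h2]
      rw [polar_gact]
    rw [this, sub_self]
  obtain ⟨a₁, a₂, haeq⟩ := Submodule.mem_span_pair.mp ha_mem
  obtain ⟨b₁, b₂, hbeq⟩ := Submodule.mem_span_pair.mp hb_mem
  have hσps : gact Q σ ps = ps + (a₁ • L.p + a₂ • L.r) := by rw [haeq, ha]; abel
  have hσrs : gact Q σ rs = rs + (b₁ • L.p + b₂ • L.r) := by rw [hbeq, hb]; abel
  -- constraints
  have c1 : a₁ = 0 := by
    have h1 : Q (gact Q σ ps) = Q ps := Q_gact Q σ ps
    rw [hσps, Q_add, Q_add, Q_smul, Q_smul, L.hp, L.hr] at h1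
    simp only [polar_add_right, polar_smul_right, polar_smul_left, smul_eq_mul, L.hpr,
      polar_comm (⇑Q) ps L.p, polar_comm (⇑Q) ps L.r, hpps, hrps, hps] at h1
    linear_combination h1
  have c2 : b₂ = 0 := by
    have h1 : Q (gact Q σ rs) = Q rs := Q_gact Q σ rs
    rw [hσrs, Q_add, Q_add, Q_smul, Q_smul, L.hp, L.hr] at h1
    simp only [polar_add_right, polar_smul_right, polar_smul_left, smul_eq_mul, L.hpr,
      polar_comm (⇑Q) rs L.p, polar_comm (⇑Q) rs L.r, hprs, hrrs, hrs] at h1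
    linear_combination h1
  have c3 : b₁ + a₂ = 0 := by
    have h1 : polar (⇑Q) (gact Q σ ps) (gact Q σ rs) = polar (⇑Q) ps rs := polar_gact Q σ ps rs
    rw [hσps, hσrs] at h1
    simp only [polar_add_right, polar_add_left, polar_smul_right, polar_smul_left, smul_eq_mul, L.hpr,
      L.hrp, L.hpp, L.hrr, polar_comm (⇑Q) ps L.p, polar_comm (⇑Q) ps L.r, hpps, hrps, hprs, hrrs,
      hpsrs] at h1
    linear_combination h1
  refine ⟨-a₂, ?_⟩
  apply iso_ext_gact
  intro x
  rw [gact_tau]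
  set x' := x - polar (⇑Q) L.p x • ps - polar (⇑Q) L.r x • rs with hx'
  have hx'fix : gact Q σ x' = x' := by
    apply hfix
    · rw [hx', polar_sub_right, polar_sub_right, polar_smul_right, polar_smul_right, hpps, hprs]
      simp
    · rw [hx', polar_sub_right, polar_sub_right, polar_smul_right, polar_smul_right, hrps, hrrs]
      simp
  have hxdec : x = x' + polar (⇑Q) L.p x • ps + polar (⇑Q) L.r x • rs := by rw [hx']; abel
  conv_lhs => rw [hxdec]
  rw [gact_add, gact_add, gact_smul, gact_smul, hx'fix, hσps, hσrs, c1, c2]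
  have hb₁ : b₁ = -a₂ := by linear_combination c3
  rw [hb₁, hx']
  module

theorem closure_Fx (hQ : (polarBilin Q).Nondegenerate) (L : SP Q)
    (hL : LinearIndependent F ![L.p, L.r]) : Subgroup.closure (Fx Q L.p L.r) = T L := by
  apply le_antisymm
  · rw [Subgroup.closure_le]
    intro σ hσ
    exact Fx_subset_T hQ L hL σ hσ
  · rintro _ ⟨t, rfl⟩
    exact Subgroup.subset_closure (tau_mem_Fx L t)

theorem tau_eq_one_iff (hQ : (polarBilin Q).Nondegenerate) (L : SP Q)
    (hL : LinearIndependent F ![L.p, L.r]) (t : F) : tau L t = 1 ↔ t = 0 := by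
  constructor
  · intro h
    by_contra ht
    have hLi := LinearIndependent.pair_iff.mp hL
    have hr0 : L.r = 0 := by
      apply nondeg_left hQ
      intro y
      have e := congrArg (fun g => gact Q g y) h
      simp only [gact_one] at e
      rw [gact_tau] at e
      have e2 : t • (polar (⇑Q) L.r y • L.p - polar (⇑Q) L.p y • L.r) = 0 := by
        have : y + t • (polar (⇑Q) L.r y • L.p - polar (⇑Q) L.p y • L.r) - y = 0 := by rw [e, sub_self]
        rw [← this]
        abel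
      rcases smul_eq_zero.mp e2 with h0 | h0
      · exact absurd h0 ht
      · exact (hLi (polar (⇑Q) L.r y) (-polar (⇑Q) L.p y) (by rw [← h0]; module)).1
    have := hLi 0 1 (by rw [hr0]; simp)
    exact one_ne_zero this.2
  · intro h
    rw [h, tau_zero]

theorem T_ne_bot (hQ : (polarBilin Q).Nondegenerate) (L : SP Q)
    (hL : LinearIndependent F ![L.p, L.r]) : T L ≠ ⊥ := by
  intro h
  have h1 : tau L 1 ∈ T L := tau_mem L 1
  rw [h, Subgroup.mem_bot, tau_eq_one_iff hQ L hL] at h1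
  exact one_ne_zero h1

/-- the set of Siegel transvection groups of singular lines -/
def Sig (Q : QuadraticForm F (ι → F)) : Set (Subgroup ↥(Cfsg.isometryGroup F ⇑Q)) :=
  {A | ∃ L : SP Q, LinearIndependent F ![L.p, L.r] ∧ A = T L}

theorem T_mem_Sig (L : SP Q) (hL : LinearIndependent F ![L.p, L.r]) : T L ∈ Sig Q := ⟨L, hL, rfl⟩

/-- the set in the form of the statement -/
theorem Sig_eq (hQ : (polarBilin Q).Nondegenerate) :
    {A : Subgroup ↥(Cfsg.isometryGroup F ⇑Q) | ∃ p r : ι → F, LinearIndependent F ![p, r] ∧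
      Q p = 0 ∧ Q r = 0 ∧ Q (p + r) = 0 ∧ A = Subgroup.closure (Fx Q p r)} = Sig Q := by
  ext A
  constructor
  · rintro ⟨p, r, hli, hp, hr, hpr, rfl⟩
    have hpr' : polar (⇑Q) p r = 0 := by
      unfold polar
      rw [hpr, hp, hr]
      simp
    refine ⟨⟨p, r, hp, hr, hpr'⟩, hli, ?_⟩
    exact closure_Fx hQ ⟨p, r, hp, hr, hpr'⟩ hli
  · rintro ⟨L, hL, rfl⟩
    refine ⟨L.p, L.r, hL, L.hp, L.hr, ?_, (closure_Fx hQ L hL).symm⟩
    rw [Q_add, L.hp, L.hr, L.hpr]
    simp

/-- pairs with invertible Gram matrix -/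
theorem adj_of_det (L M : SP Q) (hM : LinearIndependent F ![M.p, M.r])
    (hdet : polar (⇑Q) L.p M.p * polar (⇑Q) L.r M.r - polar (⇑Q) L.p M.r * polar (⇑Q) L.r M.p ≠ 0) :
    IsRankOnePair (T L) (T M) ∧ IsPSL2PairOver F (T L) (T M) := by
  obtain ⟨M₁, hT, -, hn⟩ := exists_nrm L M hM hdet
  rw [← hT]
  exact ⟨rankOnePair_norm hn, psl2_norm hn⟩

theorem adj_of_det_symm (L M : SP Q) (hL : LinearIndependent F ![L.p, L.r])
    (hdet : polar (⇑Q) L.p M.p * polar (⇑Q) L.r M.r - polar (⇑Q) L.p M.r * polar (⇑Q) L.r M.p ≠ 0) :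
    IsRankOnePair (T M) (T L) := by
  refine (adj_of_det M L hL ?_).1
  rw [polar_comm (⇑Q) M.p L.p, polar_comm (⇑Q) M.r L.r, polar_comm (⇑Q) M.p L.r, polar_comm (⇑Q) M.r L.p]
  intro h
  apply hdet
  linear_combination h

/-- the trichotomy for two Siegel transvection groups -/
theorem pair_cases (hQ : (polarBilin Q).Nondegenerate) (L M : SP Q)
    (hL : LinearIndependent F ![L.p, L.r]) (hM : LinearIndependent F ![M.p, M.r]) :
    ⁅T L, T M⁆ = ⊥ ∨ (IsRankOnePair (T L) (T M) ∧ IsPSL2PairOver F (T L) (T M)) ∨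
      (RootCommutatorCase (Sig Q) (T L) (T M) ∧ ¬ IsRankOnePair (T L) (T M)) := by
  by_cases hdet : polar (⇑Q) L.p M.p * polar (⇑Q) L.r M.r - polar (⇑Q) L.p M.r * polar (⇑Q) L.r M.p ≠ 0
  · exact Or.inr (Or.inl (adj_of_det L M hM hdet))
  push Not at hdet
  by_cases hz : polar (⇑Q) L.p M.p = 0 ∧ polar (⇑Q) L.p M.r = 0 ∧ polar (⇑Q) L.r M.p = 0 ∧
      polar (⇑Q) L.r M.r = 0
  · left
    apply commutator_eq_bot_of_commute
    rintro _ ⟨s, rfl⟩ _ ⟨t, rfl⟩
    exact tau_comm_of_orth L M hz.1 hz.2.1 hz.2.2.1 hz.2.2.2 s t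
  obtain ⟨L₁, M₁, hTL, hTM, hL₁, hM₁, g1, g2, g3, g4⟩ := exists_adapted L M hL hM hdet hz
  rw [← hTL, ← hTM]
  have hL₁i := LinearIndependent.pair_iff.mp hL₁
  have hM₁i := LinearIndependent.pair_iff.mp hM₁
  have hLp : L₁.p ≠ 0 := by
    intro h0
    have := hL₁i 1 0 (by rw [h0]; simp)
    exact one_ne_zero this.1
  have hMp : M₁.p ≠ 0 := by
    intro h0
    have := hM₁i 1 0 (by rw [h0]; simp)
    exact one_ne_zero this.1
  let N : SP Q := ⟨M₁.p, L₁.p, M₁.hp, L₁.hp, by rw [polar_comm]; exact g1⟩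
  by_cases hN : LinearIndependent F ![N.p, N.r]
  · right; right
    have hcase := rootCommCase (Sig Q) L₁ M₁ N g1 g2 g3 g4 rfl rfl (T_mem_Sig N hN)
    refine ⟨hcase, ?_⟩
    apply not_rankOne_of_central (T_comm L₁) (T_comm M₁) hcase.2.1
    rw [commutator_eq_T L₁ M₁ N g1 g2 g3 g4 rfl rfl]
    exact T_ne_bot hQ N hN
  · left
    rw [LinearIndependent.pair_iff] at hN
    push Not at hN
    obtain ⟨s, t, hst, hne⟩ := hN
    change s • M₁.p + t • L₁.p = 0 at hst
    have hs : s ≠ 0 := by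
      intro hs0
      rw [hs0, zero_smul, zero_add] at hst
      rcases smul_eq_zero.mp hst with h0 | h0
      · exact hne hs0 h0
      · exact hLp h0
    have ht : t ≠ 0 := by
      intro ht0
      rw [ht0, zero_smul, add_zero] at hst
      rcases smul_eq_zero.mp hst with h0 | h0
      · exact hs h0
      · exact hMp h0
    have hMp' : M₁.p = (-t / s) • L₁.p := by
      have e : s • M₁.p = -(t • L₁.p) := eq_neg_of_add_eq_zero_left hst
      have e2 : M₁.p = s⁻¹ • (s • M₁.p) := by rw [smul_smul, inv_mul_cancel₀ hs, one_smul]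
      rw [e2, e, smul_neg, smul_smul, neg_div, neg_smul]
      congr 2
      field_simp
    apply commutator_eq_bot_of_commute
    rintro _ ⟨a, rfl⟩ _ ⟨b, rfl⟩
    exact tau_comm_of_smul L₁ M₁ (-t / s) (div_ne_zero (neg_ne_zero.mpr ht) hs) hMp' a b

end Cfsg.Agent.Lib.Helper6.SgRoot
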