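import Mathlib
import Cfsg.Agent.Lib.Helper6.SgRoot4

/-!
# Connectedness of the graph of rank one pairs of Siegel transvection groups
-/

set_option autoImplicit false
open Cfsg Matrix QuadraticMap

namespace Cfsg.Agent.Lib.Helper6.SgRoot

open Cfsg.Agent.Lib.Helper6 Cfsg.Agent.H26

variable {F : Type*} [Field F] {ι : Type} [Fintype ι] [DecidableEq ι]
variable {Q : QuadraticForm F (ι → F)}

omit [Fintype ι] [DecidableEq ι] in
theorem indep_of_notin (p a : ι → F) (hp : p ≠ 0) (ha : ∀ c : F, a ≠ c • p) :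
    LinearIndependent F ![p, a] := by
  rw [LinearIndependent.pair_iff]
  intro s t hst
  have ht : t = 0 := by
    by_contra ht
    apply ha (-s / t)
    have e : t • a = -(s • p) := eq_neg_of_add_eq_zero_right hst
    have e2 : a = t⁻¹ • (t • a) := by rw [smul_smul, inv_mul_cancel₀ ht, one_smul]
    rw [e2, e, smul_neg, smul_smul, neg_div, neg_smul]
    congr 2
    field_simp
  rw [ht, zero_smul, add_zero] at hst
  rcases smul_eq_zero.mp hst with h0 | h0
  · exact ⟨h0, ht⟩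
  · exact absurd h0 hp

omit [Fintype ι] [DecidableEq ι] in
theorem indep_of_notin' (p a : ι → F) (hp : p ≠ 0) (ha : ∀ c : F, a ≠ c • p) :
    LinearIndependent F ![a, p] := by
  have h := indep_of_notin p a hp ha
  rw [LinearIndependent.pair_iff] at h ⊢
  intro s t hst
  have := h t s (by rw [← hst]; module)
  exact ⟨this.2, this.1⟩

theorem fadj_of_det (L M : SP Q) (hL : LinearIndependent F ![L.p, L.r])
    (hM : LinearIndependent F ![M.p, M.r])
    (hdet : polar (⇑Q) L.p M.p * polar (⇑Q) L.r M.r - polar (⇑Q) L.p M.r * polar (⇑Q) L.r M.p ≠ 0) :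
    FAdj (Sig Q) (T L) (T M) :=
  ⟨T_mem_Sig L hL, T_mem_Sig M hM, (adj_of_det L M hM hdet).1⟩

theorem fadj_of_det_symm (L M : SP Q) (hL : LinearIndependent F ![L.p, L.r])
    (hM : LinearIndependent F ![M.p, M.r])
    (hdet : polar (⇑Q) L.p M.p * polar (⇑Q) L.r M.r - polar (⇑Q) L.p M.r * polar (⇑Q) L.r M.p ≠ 0) :
    FAdj (Sig Q) (T M) (T L) :=
  ⟨T_mem_Sig M hM, T_mem_Sig L hL, adj_of_det_symm L M hL hdet⟩

theorem conn_of_common (L₁ L₂ M : SP Q) (h1 : LinearIndependent F ![L₁.p, L₁.r])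
    (h2 : LinearIndependent F ![L₂.p, L₂.r]) (hM : LinearIndependent F ![M.p, M.r])
    (hd1 : polar (⇑Q) L₁.p M.p * polar (⇑Q) L₁.r M.r - polar (⇑Q) L₁.p M.r * polar (⇑Q) L₁.r M.p ≠ 0)
    (hd2 : polar (⇑Q) L₂.p M.p * polar (⇑Q) L₂.r M.r - polar (⇑Q) L₂.p M.r * polar (⇑Q) L₂.r M.p ≠ 0) :
    Relation.ReflTransGen (FAdj (Sig Q)) (T L₁) (T L₂) :=
  Relation.ReflTransGen.tail (Relation.ReflTransGen.single (fadj_of_det L₁ M h1 hM hd1))
    (fadj_of_det_symm L₂ M h2 hM hd2)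

/-- a common opposite line for two lines through a point spanning a singular plane -/
theorem common_opp (hQ : (polarBilin Q).Nondegenerate) (L₁ L₂ : SP Q) (hp : L₂.p = L₁.p)
    (h12 : polar (⇑Q) L₁.r L₂.r = 0) (hp0 : L₁.p ≠ 0)
    (hn1 : L₁.r ∉ Submodule.span F {L₁.p, L₂.r}) (hn2 : L₂.r ∉ Submodule.span F {L₁.p, L₁.r}) :
    ∃ M : SP Q, LinearIndependent F ![M.p, M.r] ∧
      polar (⇑Q) L₁.p M.p * polar (⇑Q) L₁.r M.r - polar (⇑Q) L₁.p M.r * polar (⇑Q) L₁.r M.p ≠ 0 ∧
      polar (⇑Q) L₂.p M.p * polar (⇑Q) L₂.r M.r - polar (⇑Q) L₂.p M.r * polar (⇑Q) L₂.r M.p ≠ 0 := by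
  have hpr2 : polar (⇑Q) L₁.p L₂.r = 0 := by rw [← hp]; exact L₂.hpr
  obtain ⟨s₁, hs₁, h11, hs₁'⟩ := exists_partner Q hQ (Submodule.span F {L₁.p, L₂.r}) L₁.r hn1 L₁.hr (by
    intro z hz
    obtain ⟨a, b, rfl⟩ := Submodule.mem_span_pair.mp hz
    rw [polar_add_left, polar_smul_left, polar_smul_left, L₁.hpr, polar_comm (⇑Q) L₂.r, h12]
    simp)
  have hps₁ : polar (⇑Q) L₁.p s₁ = 0 := hs₁' _ (Submodule.subset_span (by simp))
  have hr2s₁ : polar (⇑Q) L₂.r s₁ = 0 := hs₁' _ (Submodule.subset_span (by simp))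
  obtain ⟨s₂, hs₂, h22, hs₂'⟩ := exists_partner Q hQ (Submodule.span F {L₁.p, L₁.r}) L₂.r hn2 L₂.hr (by
    intro z hz
    obtain ⟨a, b, rfl⟩ := Submodule.mem_span_pair.mp hz
    rw [polar_add_left, polar_smul_left, polar_smul_left, hpr2, h12]
    simp)
  have hps₂ : polar (⇑Q) L₁.p s₂ = 0 := hs₂' _ (Submodule.subset_span (by simp))
  have hr1s₂ : polar (⇑Q) L₁.r s₂ = 0 := hs₂' _ (Submodule.subset_span (by simp))
  set e := polar (⇑Q) s₁ s₂ with he
  set v := s₁ + s₂ - e • L₁.r with hv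
  have hQv : Q v = 0 := by
    rw [hv, Q_sub, Q_add, Q_smul, hs₁, hs₂, L₁.hr, polar_smul_right, polar_add_left,
      polar_comm (⇑Q) s₁ L₁.r, polar_comm (⇑Q) s₂ L₁.r, h11, hr1s₂, ← he]
    simp
  have hpv : polar (⇑Q) L₁.p v = 0 := by
    rw [hv, polar_sub_right, polar_add_right, polar_smul_right, hps₁, hps₂, L₁.hpr]
    simp
  have hr1v : polar (⇑Q) L₁.r v = 1 := by
    rw [hv, polar_sub_right, polar_add_right, polar_smul_right, h11, hr1s₂, L₁.hrr]
    simp
  have hr2v : polar (⇑Q) L₂.r v = 1 := by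
    rw [hv, polar_sub_right, polar_add_right, polar_smul_right, hr2s₁, h22, polar_comm (⇑Q) L₂.r L₁.r, h12]
    simp
  have hp_notin : L₁.p ∉ Submodule.span F {v} := by
    intro h
    obtain ⟨c, hc⟩ := Submodule.mem_span_singleton.mp h
    have e1 := congrArg (fun y => polar (⇑Q) L₁.r y) hc
    simp only [polar_smul_right, hr1v, L₁.hrp, smul_eq_mul, mul_one] at e1
    rw [e1, zero_smul] at hc
    exact hp0 hc.symm
  obtain ⟨u, hu, hpu, hu'⟩ := exists_partner Q hQ (Submodule.span F {v}) L₁.p hp_notin L₁.hp (by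
    intro z hz
    obtain ⟨c, rfl⟩ := Submodule.mem_span_singleton.mp hz
    rw [polar_smul_left, polar_comm, hpv, smul_zero])
  have hvu : polar (⇑Q) v u = 0 := hu' v (Submodule.mem_span_singleton_self v)
  refine ⟨⟨u, v, hu, hQv, by rw [polar_comm]; exact hvu⟩, ?_, ?_, ?_⟩
  · rw [LinearIndependent.pair_iff]
    intro s t hst
    change s • u + t • v = 0 at hst
    have e1 := congrArg (fun y => polar (⇑Q) L₁.p y) hst
    simp only [polar_add_right, polar_smul_right, smul_eq_mul, hpu, hpv, polar_zero_right, mul_one,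
      mul_zero, add_zero] at e1
    have e2 := congrArg (fun y => polar (⇑Q) L₁.r y) hst
    simp only [polar_add_right, polar_smul_right, smul_eq_mul, hr1v, polar_zero_right, mul_one, e1,
      zero_mul, zero_add] at e2
    exact ⟨e1, e2⟩
  · change polar (⇑Q) L₁.p u * polar (⇑Q) L₁.r v - polar (⇑Q) L₁.p v * polar (⇑Q) L₁.r u ≠ 0
    rw [hpu, hr1v, hpv]
    simp
  · change polar (⇑Q) L₂.p u * polar (⇑Q) L₂.r v - polar (⇑Q) L₂.p v * polar (⇑Q) L₂.r u ≠ 0
    rw [hp, hpu, hr2v, hpv]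
    simp

theorem Lp_ne_zero (L : SP Q) (hL : LinearIndependent F ![L.p, L.r]) : L.p ≠ 0 := by
  intro h0
  have := (LinearIndependent.pair_iff.mp hL) 1 0 (by rw [h0]; simp)
  exact one_ne_zero this.1

theorem Lr_ne_smul (L : SP Q) (hL : LinearIndependent F ![L.p, L.r]) (c : F) : L.r ≠ c • L.p := by
  intro h0
  have := (LinearIndependent.pair_iff.mp hL) c (-1) (by rw [h0]; module)
  have h2 : (-1 : F) = 0 := this.2
  exact one_ne_zero (neg_eq_zero.mp h2)

/-- two lines through a common point with orthogonal second vectors -/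
theorem conn_share_orth (hQ : (polarBilin Q).Nondegenerate) (L₁ L₂ : SP Q)
    (h1 : LinearIndependent F ![L₁.p, L₁.r]) (h2 : LinearIndependent F ![L₂.p, L₂.r])
    (hp : L₂.p = L₁.p) (h12 : polar (⇑Q) L₁.r L₂.r = 0) :
    Relation.ReflTransGen (FAdj (Sig Q)) (T L₁) (T L₂) := by
  by_cases hmem : L₂.r ∈ Submodule.span F {L₁.p, L₁.r}
  · obtain ⟨a, b, hab⟩ := Submodule.mem_span_pair.mp hmem
    have hb : b ≠ 0 := by
      intro hb0
      rw [hb0, zero_smul, add_zero] at hab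
      apply Lr_ne_smul L₂ h2 a
      rw [hp, hab]
    have e : L₂ = L₁.chg 1 0 a b := by
      apply SP.ext'
      · change L₂.p = (1 : F) • L₁.p + (0 : F) • L₁.r
        rw [hp]; module
      · change L₂.r = a • L₁.p + b • L₁.r
        rw [hab]
    have hT : T L₂ = T L₁ := by
      rw [e]
      apply T_chg
      rw [one_mul, zero_mul, sub_zero]
      exact hb
    rw [hT]
  · have hn1 : L₁.r ∉ Submodule.span F {L₁.p, L₂.r} := by
      intro h
      obtain ⟨a, b, hab⟩ := Submodule.mem_span_pair.mp h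
      by_cases hb : b = 0
      · rw [hb, zero_smul, add_zero] at hab
        exact Lr_ne_smul L₁ h1 a hab.symm
      · apply hmem
        rw [Submodule.mem_span_pair]
        refine ⟨-a / b, b⁻¹, ?_⟩
        rw [← hab, smul_add, smul_smul, smul_smul, inv_mul_cancel₀ hb, one_smul]
        have : -a / b + b⁻¹ * a = 0 := by field_simp; ring
        rw [← add_assoc, ← add_smul, this, zero_smul, zero_add]
    obtain ⟨M, hM, hd1, hd2⟩ := common_opp hQ L₁ L₂ hp h12 (Lp_ne_zero L₁ h1) hn1 hmem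
    exact conn_of_common L₁ L₂ M h1 h2 hM hd1 hd2

/-- the extension hypothesis: a totally singular subspace of dimension at most two is not maximal -/
def HExt (Q : QuadraticForm F (ι → F)) : Prop :=
  ∀ p p' : ι → F, Q p = 0 → Q p' = 0 → polar (⇑Q) p p' = 0 →
    ∃ a, a ∉ Submodule.span F {p, p'} ∧ Q a = 0 ∧ polar (⇑Q) p a = 0 ∧ polar (⇑Q) p' a = 0

/-- two lines through a common point -/
theorem conn_share (hQ : (polarBilin Q).Nondegenerate) (hext : HExt Q) (L₁ L₂ : SP Q)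
    (h1 : LinearIndependent F ![L₁.p, L₁.r]) (h2 : LinearIndependent F ![L₂.p, L₂.r])
    (hp : L₂.p = L₁.p) : Relation.ReflTransGen (FAdj (Sig Q)) (T L₁) (T L₂) := by
  by_cases h12 : polar (⇑Q) L₁.r L₂.r = 0
  · exact conn_share_orth hQ L₁ L₂ h1 h2 hp h12
  obtain ⟨a, ha, hQa, hpa, hra⟩ := hext L₁.p L₁.r L₁.hp L₁.hr L₁.hpr
  set c := polar (⇑Q) a L₂.r / polar (⇑Q) L₁.r L₂.r with hc
  set x := a - c • L₁.r with hx
  have hQx : Q x = 0 := by
    rw [hx, Q_sub, Q_smul, hQa, L₁.hr, polar_smul_right, polar_comm (⇑Q) a L₁.r, hra]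
    simp
  have hpx : polar (⇑Q) L₁.p x = 0 := by
    rw [hx, polar_sub_right, polar_smul_right, hpa, L₁.hpr]
    simp
  have hxne : ∀ d : F, x ≠ d • L₁.p := by
    intro d hd
    apply ha
    rw [Submodule.mem_span_pair]
    refine ⟨d, c, ?_⟩
    rw [← hd, hx]
    abel
  let X : SP Q := ⟨L₁.p, x, L₁.hp, hQx, hpx⟩
  have hX : LinearIndependent F ![X.p, X.r] := indep_of_notin L₁.p x (Lp_ne_zero L₁ h1) hxne
  have e1 : polar (⇑Q) L₁.r X.r = 0 := by
    change polar (⇑Q) L₁.r (a - c • L₁.r) = 0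
    rw [polar_sub_right, polar_smul_right, hra, L₁.hrr]
    simp
  have e2 : polar (⇑Q) X.r L₂.r = 0 := by
    change polar (⇑Q) (a - c • L₁.r) L₂.r = 0
    rw [polar_sub_left, polar_smul_left, hc, smul_eq_mul, div_mul_cancel₀ _ h12, sub_self]
  exact Relation.ReflTransGen.trans (conn_share_orth hQ L₁ X h1 hX rfl e1)
    (conn_share_orth hQ X L₂ hX h2 hp e2)

theorem mem_span_pair_self_of_smul (p a : ι → F) (c : F) (h : a = c • p) (p' : ι → F) :
    a ∈ Submodule.span F {p, p'} := by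
  rw [Submodule.mem_span_pair]
  exact ⟨c, 0, by rw [h]; simp⟩

/-- any two Siegel transvection groups are connected -/
theorem conn_all (hQ : (polarBilin Q).Nondegenerate) (hext : HExt Q) (L L' : SP Q)
    (hL : LinearIndependent F ![L.p, L.r]) (hL' : LinearIndependent F ![L'.p, L'.r]) :
    Relation.ReflTransGen (FAdj (Sig Q)) (T L) (T L') := by
  have hp0 := Lp_ne_zero L hL
  have hp0' := Lp_ne_zero L' hL'
  -- find a suitable intermediate singular vector
  have hz : ∃ z : ι → F, Q z = 0 ∧ polar (⇑Q) L.p z = 0 ∧ polar (⇑Q) L'.p z = 0 ∧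
      (∀ d : F, z ≠ d • L.p) ∧ (∀ d : F, z ≠ d • L'.p) := by
    by_cases hpp : polar (⇑Q) L.p L'.p = 0
    · obtain ⟨a, ha, hQa, hpa, hpa'⟩ := hext L.p L'.p L.hp L'.hp hpp
      refine ⟨a, hQa, hpa, hpa', ?_, ?_⟩
      · intro d hd
        exact ha (mem_span_pair_self_of_smul L.p a d hd L'.p)
      · intro d hd
        apply ha
        rw [Submodule.mem_span_pair]
        exact ⟨0, d, by rw [hd]; simp⟩
    · obtain ⟨a, ha, hQa, hpa, -⟩ := hext L.p L.p L.hp L.hp L.hpp
      set c := polar (⇑Q) L'.p a / polar (⇑Q) L'.p L.p with hc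
      have hpp' : polar (⇑Q) L'.p L.p ≠ 0 := by rw [polar_comm]; exact hpp
      refine ⟨a - c • L.p, ?_, ?_, ?_, ?_, ?_⟩
      · rw [Q_sub, Q_smul, hQa, L.hp, polar_smul_right, polar_comm (⇑Q) a L.p, hpa]
        simp
      · rw [polar_sub_right, polar_smul_right, hpa, L.hpp]
        simp
      · rw [polar_sub_right, polar_smul_right, hc, smul_eq_mul, div_mul_cancel₀ _ hpp', sub_self]
      · intro d hd
        apply ha
        apply mem_span_pair_self_of_smul L.p a (d + c)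
        rw [add_smul, ← hd]
        abel
      · intro d hd
        have e1 := congrArg (fun y => polar (⇑Q) L.p y) hd
        simp only [polar_sub_right, polar_smul_right, hpa, L.hpp, smul_eq_mul, mul_zero, sub_zero] at e1
        have hd0 : d = 0 := by
          rcases mul_eq_zero.mp e1.symm with h0 | h0
          · exact h0
          · exact absurd h0 hpp
        rw [hd0, zero_smul] at hd
        apply ha
        apply mem_span_pair_self_of_smul L.p a c
        exact sub_eq_zero.mp hd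
  obtain ⟨z, hQz, hpz, hpz', hz1, hz2⟩ := hz
  let Z₁ : SP Q := ⟨L.p, z, L.hp, hQz, hpz⟩
  let Z₂ : SP Q := ⟨z, L'.p, hQz, L'.hp, by rw [polar_comm]; exact hpz'⟩
  have hZ₁ : LinearIndependent F ![Z₁.p, Z₁.r] := indep_of_notin L.p z hp0 hz1
  have hZ₂ : LinearIndependent F ![Z₂.p, Z₂.r] := indep_of_notin' L'.p z hp0' hz2
  have c1 := conn_share hQ hext L Z₁ hL hZ₁ rfl
  have c2 := conn_share hQ hext Z₁.swap Z₂ (indep_swap Z₁ hZ₁) hZ₂ rfl
  have c3 := conn_share hQ hext Z₂.swap L' (indep_swap Z₂ hZ₂) hL' rfl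
  rw [T_swap] at c2 c3
  exact Relation.ReflTransGen.trans c1 (Relation.ReflTransGen.trans c2 c3)

theorem Sig_connected (hQ : (polarBilin Q).Nondegenerate) (hext : HExt Q) :
    IsConnectedFamily (FAdj (Sig Q)) (Sig Q) := by
  rintro _ ⟨L, hL, rfl⟩ _ ⟨L', hL', rfl⟩
  exact conn_all hQ hext L L' hL hL'

end Cfsg.Agent.Lib.Helper6.SgRoot
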