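import Mathlib
import Cfsg.Agent.Lib.Helper6.AutOrt4
import Cfsg.Agent.Lib.Helper6.SgRoot5

/-!
# Automorphisms of orthogonal groups, part 5: dual vectors, change of basis on a line,
classification of commuting pairs of long root subgroups
-/

set_option autoImplicit false
set_option linter.unusedSectionVars false
set_option linter.unusedVariables false

open Cfsg Matrix QuadraticMap

namespace Cfsg.Agent.Lib.Helper6.AutOrt

open Cfsg.Agent.Lib.Helper6 Cfsg.Agent.Lib.Helper15 Cfsg.Agent.Lib.Helper6.AutPSL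
open Cfsg.Agent.Lib.Helper6.SgRoot Cfsg.Agent.H26

variable {F : Type*} [Field F] [Fintype F] {ι : Type} [Fintype ι] [DecidableEq ι]
variable {Q : QuadraticForm F (ι → F)} [hS : Std Q]

/-- prescribed polar values against a linearly independent family -/
theorem exists_polar_fam {k : ℕ} (v : Fin k → ι → F) (hv : LinearIndependent F v) (c : Fin k → F) :
    ∃ x : ι → F, ∀ i, polar (⇑Q) (v i) x = c i := by
  classical
  have hB : (polarBilin Q).Nondegenerate := hS.nondeg
  have hs : LinearIndepOn F id (Set.range v) := hv.linearIndepOn_id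
  let b := Module.Basis.extend hs
  haveI : Finite ↥(hs.extend (Set.subset_univ _)) := Module.Finite.finite_basis b
  let d := LinearMap.BilinForm.dualBasis (polarBilin Q) hB b
  let idx : Fin k → ↥(hs.extend (Set.subset_univ _)) :=
    fun i => ⟨v i, hs.subset_extend _ (Set.mem_range_self i)⟩
  have hidx : Function.Injective idx := by
    intro i j hij
    exact hv.injective (congrArg Subtype.val hij)
  have hbj : ∀ j, b (idx j) = v j := fun j => Module.Basis.extend_apply_self hs _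
  refine ⟨∑ i, c i • d (idx i), fun j => ?_⟩
  rw [polar_comm]
  change polarBilin Q (∑ i, c i • d (idx i)) (v j) = c j
  rw [map_sum, LinearMap.sum_apply, Finset.sum_eq_single j]
  · rw [map_smul, LinearMap.smul_apply, ← hbj j,
      LinearMap.BilinForm.apply_dualBasis_left hB b, if_pos rfl, smul_eq_mul, mul_one]
  · intro i _ hij
    rw [map_smul, LinearMap.smul_apply, ← hbj j,
      LinearMap.BilinForm.apply_dualBasis_left hB b, if_neg (fun e => hij (hidx e).symm),
      smul_zero]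
  · intro h
    exact absurd (Finset.mem_univ j) h

/-! ### bridge to the older library -/

/-- the underlying pair -/
def Ln.toSP (L : Ln Q) : SP Q := ⟨L.p, L.r, L.hp, L.hr, L.hpr⟩

theorem Ln.linInd (L : Ln Q) : LinearIndependent F ![L.p, L.r] := by
  rw [LinearIndependent.pair_iff]
  intro s t hst
  exact L.indep hst

/-- a line from an independent pair -/
def ofSP (M : SP Q) (hM : LinearIndependent F ![M.p, M.r]) : Ln Q where
  p := M.p
  r := M.r
  hp := M.hp
  hr := M.hr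
  hpr := M.hpr
  hp0 := Lp_ne_zero M hM
  hind := Lr_ne_smul M hM

theorem sg_val_tau (L : Ln Q) (t : F) : (sg Q L.p (t • L.r)).1 = tau L.toSP t := by
  rw [sg_val L.hp (L.hpt t)]
  rfl

theorem mem_Xr_iff_T (L : Ln Q) (x : ↥(Cfsg.Omega F ⇑Q)) : x ∈ Xr L ↔ x.1 ∈ T L.toSP := by
  rw [mem_Xr, mem_T_iff]
  constructor
  · rintro ⟨t, rfl⟩
    exact ⟨t, sg_val_tau L t⟩
  · rintro ⟨t, ht⟩
    exact ⟨t, Subtype.ext (by rw [ht, sg_val_tau])⟩

theorem Xr_eq_of_T (L K : Ln Q) (h : T L.toSP = T K.toSP) : Xr L = Xr K := by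
  ext x
  rw [mem_Xr_iff_T, mem_Xr_iff_T, h]

theorem toSP_ofSP (M : SP Q) (hM : LinearIndependent F ![M.p, M.r]) : (ofSP M hM).toSP = M := rfl

/-! ### change of basis -/

theorem sg_chg (L : Ln Q) (a b c d : F) :
    sg Q (a • L.p + b • L.r) (c • L.p + d • L.r) = sg Q L.p ((a * d - b * c) • L.r) := by
  have hu : Q (a • L.p + b • L.r) = 0 := by
    rw [Q_add, Q_smul, Q_smul, L.hp, L.hr, polar_smul_left, polar_smul_right, L.hpr]
    simp
  have huw : polar (⇑Q) (a • L.p + b • L.r) (c • L.p + d • L.r) = 0 := by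
    simp only [polar_add_left, polar_add_right, polar_smul_left, polar_smul_right, L.hpr, L.hrp,
      L.hpp, L.hrr, smul_eq_mul, mul_zero, add_zero]
  have hw : Q (c • L.p + d • L.r) = 0 := by
    rw [Q_add, Q_smul, Q_smul, L.hp, L.hr, polar_smul_left, polar_smul_right, L.hpr]
    simp
  apply ext_av
  intro x
  rw [av_sg hu huw, av_sg L.hp (L.hpt _), hw, Q_smul, L.hr]
  simp only [polar_add_left, polar_smul_left, smul_eq_mul, mul_zero, zero_mul, sub_zero]
  module

/-- change of basis on a line -/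
def Ln.chg (L : Ln Q) (a b c d : F) (h : a * d - b * c ≠ 0) : Ln Q where
  p := a • L.p + b • L.r
  r := c • L.p + d • L.r
  hp := by
    rw [Q_add, Q_smul, Q_smul, L.hp, L.hr, polar_smul_left, polar_smul_right, L.hpr]
    simp
  hr := by
    rw [Q_add, Q_smul, Q_smul, L.hp, L.hr, polar_smul_left, polar_smul_right, L.hpr]
    simp
  hpr := by
    simp only [polar_add_left, polar_add_right, polar_smul_left, polar_smul_right, L.hpr, L.hrp,
      L.hpp, L.hrr, smul_eq_mul, mul_zero, add_zero]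
  hp0 := by
    intro h0
    obtain ⟨ha, hb⟩ := L.indep h0
    apply h
    rw [ha, hb]; ring
  hind := by
    intro e he
    have h1 : (c - e * a) • L.p + (d - e * b) • L.r = 0 := by
      have : c • L.p + d • L.r - e • (a • L.p + b • L.r) = 0 := sub_eq_zero.mpr he
      rw [← this]; module
    obtain ⟨h2, h3⟩ := L.indep h1
    apply h
    have hc : c = e * a := by linear_combination h2
    have hd : d = e * b := by linear_combination h3
    rw [hc, hd]; ring

theorem Xr_chg (L : Ln Q) (a b c d : F) (h : a * d - b * c ≠ 0) : Xr (L.chg a b c d h) = Xr L := by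
  ext x
  rw [mem_Xr, mem_Xr]
  constructor
  · rintro ⟨t, rfl⟩
    refine ⟨t * (a * d - b * c), ?_⟩
    change sg Q (a • L.p + b • L.r) (t • (c • L.p + d • L.r)) = _
    have e : t • (c • L.p + d • L.r) = (t * c) • L.p + (t * d) • L.r := by module
    rw [e, sg_chg]
    congr 2
    ring
  · rintro ⟨t, rfl⟩
    refine ⟨t / (a * d - b * c), ?_⟩
    change _ = sg Q (a • L.p + b • L.r) ((t / (a * d - b * c)) • (c • L.p + d • L.r))
    have e : (t / (a * d - b * c)) • (c • L.p + d • L.r) =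
        ((t / (a * d - b * c)) * c) • L.p + ((t / (a * d - b * c)) * d) • L.r := by module
    rw [e, sg_chg]
    congr 2
    field_simp

theorem Rb_chg (L : Ln Q) (a b c d : F) (h : a * d - b * c ≠ 0) : Rb (L.chg a b c d h) = Rb L := by
  unfold Rb
  rw [Xr_chg]

/-- scaling the second vector -/
def Ln.scl (L : Ln Q) (d : F) (hd : d ≠ 0) : Ln Q := L.chg 1 0 0 d (by simpa using hd)

theorem Ln.scl_p (L : Ln Q) (d : F) (hd : d ≠ 0) : (L.scl d hd).p = L.p := by
  change (1 : F) • L.p + (0 : F) • L.r = L.p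
  module

theorem Ln.scl_r (L : Ln Q) (d : F) (hd : d ≠ 0) : (L.scl d hd).r = d • L.r := by
  change (0 : F) • L.p + d • L.r = d • L.r
  module

/-! ### root elements determine their line -/

/-- the action of a root element -/
theorem av_root (L : Ln Q) (t : F) (x : ι → F) :
    av (sg Q L.p (t • L.r)) x = x + t • (polar (⇑Q) L.r x • L.p - polar (⇑Q) L.p x • L.r) := by
  rw [av_sg L.hp (L.hpt t), Q_smul, L.hr, polar_smul_left]
  simp only [smul_eq_mul, mul_zero, zero_mul, sub_zero]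
  module

theorem root_ne_one (L : Ln Q) {t : F} (ht : t ≠ 0) : sg Q L.p (t • L.r) ≠ 1 := by
  intro h
  obtain ⟨c, hc⟩ := sg_eq_one L.hp0 L.hp (L.hpt t) h
  apply L.hind (t⁻¹ * c)
  rw [← smul_smul, ← hc, smul_smul, inv_mul_cancel₀ ht, one_smul]

/-- if a non-trivial root element of `N` lies in the root group of `L`, the lines agree -/
theorem Xr_eq_of_common (L N : Ln Q) (s t : F) (hs : s ≠ 0)
    (h : sg Q N.p (s • N.r) = sg Q L.p (t • L.r)) : Xr N = Xr L := by
  have ht : t ≠ 0 := by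
    rintro rfl
    rw [zero_smul, sg_zero] at h
    exact root_ne_one N hs h
  have key : ∀ x, s • (polar (⇑Q) N.r x • N.p - polar (⇑Q) N.p x • N.r)
      = t • (polar (⇑Q) L.r x • L.p - polar (⇑Q) L.p x • L.r) := by
    intro x
    have h1 := congrArg (fun g => av g x) h
    simp only [av_root] at h1
    exact add_left_cancel h1
  obtain ⟨x₁, hx₁, hx₁'⟩ := exists_polar_values Q hS.nondeg N.p N.r N.hp0 N.hind 0 1
  obtain ⟨x₂, hx₂, hx₂'⟩ := exists_polar_values Q hS.nondeg N.p N.r N.hp0 N.hind 1 0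
  have h1 := key x₁
  rw [hx₁, hx₁'] at h1
  have h2 := key x₂
  rw [hx₂, hx₂'] at h2
  have hNp : N.p = (s⁻¹ * t * polar (⇑Q) L.r x₁) • L.p + (-(s⁻¹ * t * polar (⇑Q) L.p x₁)) • L.r := by
    have e : N.p = s⁻¹ • (s • ((1 : F) • N.p - (0 : F) • N.r)) := by
      rw [smul_smul, inv_mul_cancel₀ hs]; module
    rw [e, h1]; module
  have hNr : N.r = (-(s⁻¹ * t * polar (⇑Q) L.r x₂)) • L.p + (s⁻¹ * t * polar (⇑Q) L.p x₂) • L.r := by
    have e : N.r = (-s⁻¹) • (s • ((0 : F) • N.p - (1 : F) • N.r)) := by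
      rw [smul_smul, neg_mul, inv_mul_cancel₀ hs]; module
    rw [e, h2]; module
  set a := s⁻¹ * t * polar (⇑Q) L.r x₁ with ha
  set b := -(s⁻¹ * t * polar (⇑Q) L.p x₁) with hb
  set c := -(s⁻¹ * t * polar (⇑Q) L.r x₂) with hc
  set d := s⁻¹ * t * polar (⇑Q) L.p x₂ with hd
  have hdet : a * d - b * c ≠ 0 := by
    intro h0
    -- then `N.p`, `N.r` are dependent
    have h3 : d • N.p + (-b) • N.r = 0 := by
      rw [hNp, hNr]
      have e : d • (a • L.p + b • L.r) + (-b) • (c • L.p + d • L.r) = (a * d - b * c) • L.p := by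
        module
      rw [e, h0, zero_smul]
    have h4 : (-c) • N.p + a • N.r = 0 := by
      rw [hNp, hNr]
      have e : (-c) • (a • L.p + b • L.r) + a • (c • L.p + d • L.r) = (a * d - b * c) • L.r := by
        module
      rw [e, h0, zero_smul]
    obtain ⟨h5, h6⟩ := N.indep h3
    obtain ⟨h7, h8⟩ := N.indep h4
    have hb0 : b = 0 := by linear_combination -h6
    have hc0 : c = 0 := by linear_combination -h7
    rw [h8, hb0] at hNp
    rw [zero_smul, zero_smul, add_zero] at hNp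
    exact N.hp0 hNp
  have hN : Xr N = Xr (L.chg a b c d hdet) := by
    ext x
    rw [mem_Xr, mem_Xr]
    change (∃ t', x = sg Q N.p (t' • N.r)) ↔ ∃ t', x = sg Q (a • L.p + b • L.r) (t' • (c • L.p + d • L.r))
    rw [← hNp, ← hNr]
  rw [hN, Xr_chg]

/-! ### commuting pairs -/

/-- classification of commuting pairs of long root subgroups -/
theorem comm_cases (L K : Ln Q)
    (h : ∀ s t : F, sg Q L.p (s • L.r) * sg Q K.p (t • K.r) = sg Q K.p (t • K.r) * sg Q L.p (s • L.r)) :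
    (polar (⇑Q) L.p K.p = 0 ∧ polar (⇑Q) L.p K.r = 0 ∧ polar (⇑Q) L.r K.p = 0 ∧
      polar (⇑Q) L.r K.r = 0) ∨
    ∃ L₁ K₁ : Ln Q, Xr L₁ = Xr L ∧ Xr K₁ = Xr K ∧ K₁.p = L₁.p ∧ polar (⇑Q) L₁.r K₁.r = 1 := by
  have hcomm : ⁅T L.toSP, T K.toSP⁆ = ⊥ := by
    apply commutator_eq_bot_of_commute
    rintro _ ⟨s, rfl⟩ _ ⟨t, rfl⟩
    have := congrArg Subtype.val (h s t)
    rw [Subgroup.coe_mul, Subgroup.coe_mul, sg_val_tau, sg_val_tau] at this
    exact this
  by_cases hdet : polar (⇑Q) L.toSP.p K.toSP.p * polar (⇑Q) L.toSP.r K.toSP.r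
      - polar (⇑Q) L.toSP.p K.toSP.r * polar (⇑Q) L.toSP.r K.toSP.p ≠ 0
  · exfalso
    have h1 := (adj_of_det L.toSP K.toSP K.linInd hdet).1
    exact not_rankOne_of_comm (T_ne_bot hS.nondeg L.toSP L.linInd) hcomm h1
  push Not at hdet
  by_cases hz : polar (⇑Q) L.toSP.p K.toSP.p = 0 ∧ polar (⇑Q) L.toSP.p K.toSP.r = 0 ∧
      polar (⇑Q) L.toSP.r K.toSP.p = 0 ∧ polar (⇑Q) L.toSP.r K.toSP.r = 0
  · left; exact hz
  right
  obtain ⟨L₁, M₁, hTL, hTM, hL₁, hM₁, g1, g2, g3, g4⟩ :=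
    exists_adapted L.toSP K.toSP L.linInd K.linInd hdet hz
  let N : SP Q := ⟨M₁.p, L₁.p, M₁.hp, L₁.hp, by rw [polar_comm]; exact g1⟩
  have hN : ¬ LinearIndependent F ![N.p, N.r] := by
    intro hN
    have h1 := commutator_eq_T L₁ M₁ N g1 g2 g3 g4 rfl rfl
    rw [hTL, hTM, hcomm] at h1
    exact T_ne_bot hS.nondeg N hN h1.symm
  rw [LinearIndependent.pair_iff] at hN
  push Not at hN
  obtain ⟨s, t, hst, hne⟩ := hN
  change s • M₁.p + t • L₁.p = 0 at hst
  have hLp : L₁.p ≠ 0 := Lp_ne_zero L₁ hL₁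
  have hMp : M₁.p ≠ 0 := Lp_ne_zero M₁ hM₁
  have hs : s ≠ 0 := by
    intro hs0
    rw [hs0, zero_smul, zero_add] at hst
    rcases smul_eq_zero.mp hst with h0 | h0
    · exact hne hs0 h0
    · exact hLp h0
  have ht : t ≠ 0 := by
    intro ht0
    rw [ht0, zero_smul, add_zero] at hst
    rcases smul_eq_zero.mp hst with h0 | h0
    · exact hs h0
    · exact hMp h0
  have hMp' : M₁.p = (-t / s) • L₁.p := by
    have e : s • M₁.p = -(t • L₁.p) := eq_neg_of_add_eq_zero_left hst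
    have e2 : M₁.p = s⁻¹ • (s • M₁.p) := by rw [smul_smul, inv_mul_cancel₀ hs, one_smul]
    rw [e2, e, smul_neg, smul_smul, neg_div, neg_smul]
    congr 2
    field_simp
  have hc0 : (-t / s) ≠ 0 := div_ne_zero (neg_ne_zero.mpr ht) hs
  set c := -t / s with hc
  -- the two lines in `Ln` form
  let L₂ : Ln Q := ofSP L₁ hL₁
  let K₂ : Ln Q := ofSP M₁ hM₁
  have hXL : Xr L₂ = Xr L := Xr_eq_of_T _ _ (by rw [toSP_ofSP]; exact hTL)
  have hXK : Xr K₂ = Xr K := Xr_eq_of_T _ _ (by rw [toSP_ofSP]; exact hTM)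
  -- rescale `K₂` so that its first vector is `L₂.p` and the product is `1`
  have hg4 : polar (⇑Q) L₂.r K₂.r ≠ 0 := g4
  set e := polar (⇑Q) L₂.r K₂.r with he
  -- K₃ = (c⁻¹ • K₂.p, e⁻¹ • K₂.r)
  have hdet3 : c⁻¹ * e⁻¹ - 0 * 0 ≠ 0 := by
    rw [mul_zero, sub_zero]
    exact mul_ne_zero (inv_ne_zero hc0) (inv_ne_zero hg4)
  refine ⟨L₂, K₂.chg c⁻¹ 0 0 e⁻¹ hdet3, hXL, by rw [Xr_chg, hXK], ?_, ?_⟩
  · change c⁻¹ • K₂.p + (0 : F) • K₂.r = L₂.p
    change c⁻¹ • M₁.p + (0 : F) • M₁.r = L₁.p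
    rw [hMp', smul_smul, inv_mul_cancel₀ hc0]
    module
  · change polar (⇑Q) L₂.r ((0 : F) • K₂.p + e⁻¹ • K₂.r) = 1
    rw [polar_add_right, polar_smul_right, polar_smul_right, ← he]
    simp only [smul_eq_mul, zero_mul, zero_add]
    exact inv_mul_cancel₀ hg4

end Cfsg.Agent.Lib.Helper6.AutOrt
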