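import Mathlib
import Cfsg.Agent.Lib.Helper6.AutPSL7

/-!
# Automorphisms of orthogonal groups, part 6: abstract constructions from a class of subgroups
-/

set_option autoImplicit false
set_option linter.unusedSectionVars false
set_option linter.unusedVariables false

namespace Cfsg.Agent.Lib.Helper6.AutOrt

open Cfsg.Agent.Lib.Helper6.AutPSL

variable {G : Type*} [Group G] (X : Set (Subgroup G))

/-- two commuting members of `X` whose join contains a third member -/
def Cop (A B : Subgroup G) : Prop :=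
  A ≠ B ∧ (∀ a ∈ A, ∀ b ∈ B, a * b = b * a) ∧ ∃ C ∈ X, C ≠ A ∧ C ≠ B ∧ C ≤ A ⊔ B

/-- the subgroup generated by the members of `X` equal to `A` or related to it by `Cop` -/
def UU (A : Subgroup G) : Subgroup G :=
  Subgroup.closure {g | ∃ C ∈ X, (C = A ∨ Cop X A C) ∧ g ∈ C}

/-- the centraliser of `B` in `UU A` -/
def CU (A B : Subgroup G) : Subgroup G := UU X A ⊓ Subgroup.centralizer (B : Set G)

/-- the relation singling out pairs of lines through a common point -/
def IsM (A B : Subgroup G) : Prop :=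
  A ≠ B ∧ (∀ a ∈ A, ∀ b ∈ B, a * b = b * a) ∧ ¬ Cop X A B ∧
    ∀ x ∈ CU X A B, ∀ y ∈ CU X A B, x * y = y * x

/-- the point subgroup of a pair -/
def Pt (A B : Subgroup G) : Subgroup G := CU X A B ⊔ CU X B A

variable {X}

theorem mem_UU_of_mem {A C : Subgroup G} (hC : C ∈ X) (h : C = A ∨ Cop X A C) {g : G} (hg : g ∈ C) :
    g ∈ UU X A := Subgroup.subset_closure ⟨C, hC, h, hg⟩

theorem UU_le {A H : Subgroup G} (h : ∀ C ∈ X, (C = A ∨ Cop X A C) → C ≤ H) : UU X A ≤ H := by
  unfold UU
  rw [Subgroup.closure_le]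
  rintro g ⟨C, hC, hCA, hg⟩
  exact h C hC hCA hg

theorem mem_CU (A B : Subgroup G) (x : G) :
    x ∈ CU X A B ↔ x ∈ UU X A ∧ ∀ b ∈ B, b * x = x * b := by
  unfold CU
  rw [Subgroup.mem_inf, Subgroup.mem_centralizer_iff]
  rfl

section inv
variable (hX : ∀ (γ : MulAut G), ∀ C ∈ X, img γ C ∈ X)
include hX

theorem Cop_img (β : MulAut G) {A B : Subgroup G} (h : Cop X A B) : Cop X (img β A) (img β B) := by
  obtain ⟨hne, hcomm, C, hC, hCA, hCB, hle⟩ := h
  refine ⟨fun e => hne (img_injective β e), ?_, img β C, hX β C hC,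
    fun e => hCA (img_injective β e), fun e => hCB (img_injective β e), ?_⟩
  · intro a ha b hb
    obtain ⟨a', ha', rfl⟩ := (mem_img _ _ _).mp ha
    obtain ⟨b', hb', rfl⟩ := (mem_img _ _ _).mp hb
    rw [← map_mul, ← map_mul, hcomm a' ha' b' hb']
  · have : img β (A ⊔ B) = img β A ⊔ img β B := Subgroup.map_sup A B _
    rw [← this]
    exact img_mono β hle

theorem Cop_img_iff (β : MulAut G) (A B : Subgroup G) :
    Cop X (img β A) (img β B) ↔ Cop X A B := by
  constructor
  · intro h
    have := Cop_img hX β.symm h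
    rwa [img_symm_img, img_symm_img] at this
  · exact Cop_img hX β

theorem img_UU_le (β : MulAut G) (A : Subgroup G) : img β (UU X A) ≤ UU X (img β A) := by
  unfold UU img
  rw [MonoidHom.map_closure, Subgroup.closure_le]
  rintro _ ⟨g, ⟨C, hC, hCA, hg⟩, rfl⟩
  apply Subgroup.subset_closure
  refine ⟨img β C, hX β C hC, ?_, mem_img_of β C hg⟩
  rcases hCA with rfl | h
  · left; rfl
  · right; exact Cop_img hX β h

theorem img_UU (β : MulAut G) (A : Subgroup G) : img β (UU X A) = UU X (img β A) := by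
  apply le_antisymm (img_UU_le hX β A)
  have h := img_UU_le hX β.symm (img β A)
  rw [img_symm_img] at h
  have h2 := img_mono β h
  rwa [img_img_symm] at h2

omit hX in
theorem img_centralizer (β : MulAut G) (B : Subgroup G) :
    img β (Subgroup.centralizer (B : Set G)) = Subgroup.centralizer ((img β B : Subgroup G) : Set G) := by
  ext x
  rw [mem_img', Subgroup.mem_centralizer_iff, Subgroup.mem_centralizer_iff]
  constructor
  · intro h y hy
    obtain ⟨b, hb, rfl⟩ := (mem_img _ _ _).mp hy
    have := congrArg β (h b hb)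
    rwa [map_mul, map_mul, MulEquiv.apply_symm_apply] at this
  · intro h b hb
    have := h (β b) (mem_img_of β B hb)
    apply β.injective
    rwa [map_mul, map_mul, MulEquiv.apply_symm_apply]

theorem img_CU (β : MulAut G) (A B : Subgroup G) :
    img β (CU X A B) = CU X (img β A) (img β B) := by
  unfold CU
  rw [img_inf, img_UU hX, img_centralizer]

theorem IsM_img (β : MulAut G) {A B : Subgroup G} (h : IsM X A B) : IsM X (img β A) (img β B) := by
  obtain ⟨hne, hcomm, hcop, hab⟩ := h
  refine ⟨fun e => hne (img_injective β e), ?_, fun hc => hcop ((Cop_img_iff hX β A B).mp hc), ?_⟩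
  · intro a ha b hb
    obtain ⟨a', ha', rfl⟩ := (mem_img _ _ _).mp ha
    obtain ⟨b', hb', rfl⟩ := (mem_img _ _ _).mp hb
    rw [← map_mul, ← map_mul, hcomm a' ha' b' hb']
  · rw [← img_CU hX]
    intro x hx y hy
    obtain ⟨x', hx', rfl⟩ := (mem_img _ _ _).mp hx
    obtain ⟨y', hy', rfl⟩ := (mem_img _ _ _).mp hy
    rw [← map_mul, ← map_mul, hab x' hx' y' hy']

theorem img_Pt (β : MulAut G) (A B : Subgroup G) :
    img β (Pt X A B) = Pt X (img β A) (img β B) := by
  unfold Pt
  rw [← img_CU hX, ← img_CU hX]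
  exact Subgroup.map_sup _ _ _

end inv

end Cfsg.Agent.Lib.Helper6.AutOrt
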