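import Mathlib
import Cfsg.Agent.Lib.Helper6.AutOrt5
import Cfsg.Agent.Lib.Helper6.AutOrt6

/-!
# Automorphisms of orthogonal groups, part 7: coplanar lines and the subgroup `UU` of a long
root subgroup
-/

set_option autoImplicit false
set_option linter.unusedSectionVars false
set_option linter.unusedVariables false

open Cfsg Matrix QuadraticMap

namespace Cfsg.Agent.Lib.Helper6.AutOrt

open Cfsg.Agent.Lib.Helper6 Cfsg.Agent.Lib.Helper15 Cfsg.Agent.Lib.Helper6.AutPSL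

/-- the join of two elementwise commuting subgroups is their product -/
theorem mem_sup_of_comm {G : Type*} [Group G] {A B : Subgroup G}
    (h : ∀ a ∈ A, ∀ b ∈ B, a * b = b * a) {x : G} (hx : x ∈ A ⊔ B) :
    ∃ a ∈ A, ∃ b ∈ B, x = a * b := by
  let S : Subgroup G :=
    { carrier := {x | ∃ a ∈ A, ∃ b ∈ B, x = a * b}
      one_mem' := ⟨1, A.one_mem, 1, B.one_mem, by rw [mul_one]⟩
      mul_mem' := by
        rintro _ _ ⟨a, ha, b, hb, rfl⟩ ⟨a', ha', b', hb', rfl⟩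
        refine ⟨a * a', A.mul_mem ha ha', b * b', B.mul_mem hb hb', ?_⟩
        calc a * b * (a' * b') = a * (b * a') * b' := by group
          _ = a * (a' * b) * b' := by rw [h a' ha' b hb]
          _ = a * a' * (b * b') := by group
      inv_mem' := by
        rintro _ ⟨a, ha, b, hb, rfl⟩
        refine ⟨a⁻¹, A.inv_mem ha, b⁻¹, B.inv_mem hb, ?_⟩
        rw [_root_.mul_inv_rev]
        have := h a⁻¹ (A.inv_mem ha) b⁻¹ (B.inv_mem hb)
        exact this.symm }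
  have hA : A ≤ S := fun a ha => ⟨a, ha, 1, B.one_mem, by rw [mul_one]⟩
  have hB : B ≤ S := fun b hb => ⟨1, A.one_mem, b, hb, by rw [one_mul]⟩
  exact (sup_le hA hB) hx

variable {F : Type*} [Field F] [Fintype F] {ι : Type} [Fintype ι] [DecidableEq ι]
variable {Q : QuadraticForm F (ι → F)} [hS : Std Q]

variable (Q) in
/-- the set of long root subgroups of `PΩ` -/
def RS : Set (Subgroup (Cfsg.POmega F ⇑Q)) := {A | ∃ L : Ln Q, A = Rb L}

theorem Rb_mem_RS (L : Ln Q) : Rb L ∈ RS Q := ⟨L, rfl⟩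

theorem RS_inv (p : ℕ) [Fact p.Prime] [CharP F p] (γ : MulAut (Cfsg.POmega F ⇑Q)) :
    ∀ C ∈ RS Q, img γ C ∈ RS Q := by
  rintro _ ⟨L, rfl⟩
  obtain ⟨L', hL'⟩ := root_perm p γ L
  exact ⟨L', hL'⟩

variable {p : ℕ} [hp : Fact p.Prime] [CharP F p]

/-- the explicit unipotent radical of the stabiliser of a line -/
def UL (L : Ln Q) : Subgroup ↥(Cfsg.Omega F ⇑Q) where
  carrier := {g | av g L.p = L.p ∧ av g L.r = L.r ∧
    ∀ z, polar (⇑Q) L.p z = 0 → polar (⇑Q) L.r z = 0 → ∃ a b : F, av g z = z + a • L.p + b • L.r}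
  one_mem' := ⟨av_one _, av_one _, fun z _ _ => ⟨0, 0, by rw [av_one]; module⟩⟩
  mul_mem' := by
    rintro g h ⟨hg1, hg2, hg3⟩ ⟨hh1, hh2, hh3⟩
    refine ⟨by rw [av_mul, hh1, hg1], by rw [av_mul, hh2, hg2], fun z hz1 hz2 => ?_⟩
    obtain ⟨a, b, hab⟩ := hh3 z hz1 hz2
    obtain ⟨a', b', hab'⟩ := hg3 z hz1 hz2
    refine ⟨a' + a, b' + b, ?_⟩
    rw [av_mul, hab, av_add, av_add, av_smul, av_smul, hg1, hg2, hab']
    module
  inv_mem' := by
    rintro g ⟨hg1, hg2, hg3⟩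
    refine ⟨fix_inv hg1, fix_inv hg2, fun z hz1 hz2 => ?_⟩
    obtain ⟨a, b, hab⟩ := hg3 z hz1 hz2
    refine ⟨-a, -b, ?_⟩
    have := av_inv_av g z
    rw [hab, av_add, av_add, av_smul, av_smul, fix_inv hg1, fix_inv hg2] at this
    have e : av g⁻¹ z = (av g⁻¹ z + a • L.p + b • L.r) - a • L.p - b • L.r := by abel
    rw [e, this]; module

theorem mem_UL (L : Ln Q) (g : ↥(Cfsg.Omega F ⇑Q)) : g ∈ UL L ↔ av g L.p = L.p ∧ av g L.r = L.r ∧
    ∀ z, polar (⇑Q) L.p z = 0 → polar (⇑Q) L.r z = 0 → ∃ a b : F, av g z = z + a • L.p + b • L.r :=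
  Iff.rfl

theorem root_pow (L : Ln Q) (t : F) : (sg Q L.p (t • L.r)) ^ (p ^ 1) = 1 :=
  sg_pow_char' p L.hp (L.hpt t)

/-- commuting in `PΩ` and in `Ω` -/
theorem comm_of_Rb_comm (p : ℕ) [hp : Fact p.Prime] [CharP F p] (L K : Ln Q) (h : ∀ a ∈ Rb L, ∀ b ∈ Rb K, a * b = b * a) (s t : F) :
    sg Q L.p (s • L.r) * sg Q K.p (t • K.r) = sg Q K.p (t • K.r) * sg Q L.p (s • L.r) :=
  comm_of_pu_comm (p := p) _ _ 1 (root_pow K t) (h _ (pu_sg_mem_Rb L s) _ (pu_sg_mem_Rb K t))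

theorem Rb_eq_of_common (p : ℕ) [hp : Fact p.Prime] [CharP F p] (L N : Ln Q) (s : F) (hs : s ≠ 0) (h : pu (sg Q N.p (s • N.r)) ∈ Rb L) :
    Rb N = Rb L := by
  obtain ⟨t, ht⟩ := (mem_Rb L _).mp h
  have h1 := eq_of_pu_eq (p := p) _ _ 1 (root_pow N s) (root_pow L t) ht
  unfold Rb
  rw [Xr_eq_of_common L N s t hs h1]

/-- lines through a common point spanning a totally singular plane give `Cop` -/
theorem cop_of_geom (p : ℕ) [hp : Fact p.Prime] [CharP F p] (L K : Ln Q) (hKp : K.p = L.p) (hrr : polar (⇑Q) L.r K.r = 0)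
    (hne : ∀ a b : F, K.r ≠ a • L.p + b • L.r) : Cop (RS Q) (Rb L) (Rb K) := by
  have hpK : polar (⇑Q) L.p K.r = 0 := by rw [← hKp]; exact K.hpr
  let N : Ln Q :=
    { p := L.p
      r := L.r + K.r
      hp := L.hp
      hr := by rw [Q_add, L.hr, K.hr, hrr]; simp
      hpr := by rw [polar_add_right, L.hpr, hpK, add_zero]
      hp0 := L.hp0
      hind := by
        intro c hc
        apply hne c (-1)
        have : K.r = (L.r + K.r) - L.r := by abel
        rw [this, hc]; module }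
  have hNp : N.p = L.p := rfl
  have hNr : N.r = L.r + K.r := rfl
  refine ⟨?_, ?_, Rb N, Rb_mem_RS N, ?_, ?_, ?_⟩
  · intro e
    have h1 : pu (sg Q K.p ((1 : F) • K.r)) ∈ Rb L := by rw [e]; exact pu_sg_mem_Rb K 1
    obtain ⟨t, ht⟩ := (mem_Rb L _).mp h1
    have h2 := eq_of_pu_eq (p := p) _ _ 1 (root_pow K 1) (root_pow L t) ht
    rw [hKp] at h2
    obtain ⟨c, hc⟩ := sg_eq_sg L.hp0 L.hp (by rw [polar_smul_right, hpK, smul_zero]) (L.hpt t) h2
    apply hne (-c) t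
    have : K.r = (1 : F) • K.r + c • L.p - c • L.p := by module
    rw [this, ← hc]; module
  · intro a ha b hb
    obtain ⟨s, rfl⟩ := (mem_Rb L _).mp ha
    obtain ⟨t, rfl⟩ := (mem_Rb K _).mp hb
    rw [← map_mul, ← map_mul, hKp, sg_comm L.hp (L.hpt s) (by rw [polar_smul_right, hpK, smul_zero])]
  · intro e
    have h1 : pu (sg Q N.p ((1 : F) • N.r)) ∈ Rb L := by rw [← e]; exact pu_sg_mem_Rb N 1
    obtain ⟨t, ht⟩ := (mem_Rb L _).mp h1
    have h2 := eq_of_pu_eq (p := p) _ _ 1 (root_pow N 1) (root_pow L t) ht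
    rw [hNp, hNr] at h2
    obtain ⟨c, hc⟩ := sg_eq_sg L.hp0 L.hp (by
      rw [polar_smul_right, polar_add_right, L.hpr, hpK]; simp) (L.hpt t) h2
    apply hne (-c) (t - 1)
    have : K.r = ((1 : F) • (L.r + K.r) + c • L.p) - c • L.p - L.r := by module
    rw [this, ← hc]; module
  · intro e
    have h1 : pu (sg Q N.p ((1 : F) • N.r)) ∈ Rb K := by rw [← e]; exact pu_sg_mem_Rb N 1
    obtain ⟨t, ht⟩ := (mem_Rb K _).mp h1
    have h2 := eq_of_pu_eq (p := p) _ _ 1 (root_pow N 1) (root_pow K t) ht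
    rw [hNp, hNr, hKp] at h2
    obtain ⟨c, hc⟩ := sg_eq_sg L.hp0 L.hp (by
      rw [polar_smul_right, polar_add_right, L.hpr, hpK]; simp)
      (by rw [polar_smul_right, hpK, smul_zero]) h2
    -- t • K.r = (L.r + K.r) + c • L.p
    by_cases ht1 : t = 1
    · apply L.hind (-c)
      have : L.r = ((1 : F) • (L.r + K.r) + c • L.p) - c • L.p - K.r := by module
      rw [this, ← hc, ht1]; module
    · have ht1' : t - 1 ≠ 0 := sub_ne_zero.mpr ht1
      apply hne ((t - 1)⁻¹ * c) ((t - 1)⁻¹)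
      have e1 : (t - 1) • K.r = L.r + c • L.p := by
        have : (t - 1) • K.r = t • K.r - K.r := by module
        rw [this, hc]; module
      have e2 : K.r = (t - 1)⁻¹ • ((t - 1) • K.r) := by
        rw [smul_smul, inv_mul_cancel₀ ht1', one_smul]
      rw [e2, e1]; module
  · intro x hx
    obtain ⟨t, rfl⟩ := (mem_Rb N _).mp hx
    rw [hNp, hNr, smul_add, ← sg_mul L.hp (L.hpt t) (by rw [polar_smul_right, hpK, smul_zero]),
      map_mul]
    apply Subgroup.mul_mem_sup (pu_sg_mem_Rb L t)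
    rw [← hKp]
    exact pu_sg_mem_Rb K t

/-- a root element which is a Siegel element `sg u w` has `w` singular -/
theorem sing_of_root_eq (N : Ln Q) (s : F) {u w : ι → F} (hu0 : u ≠ 0) (hu : Q u = 0)
    (huw : polar (⇑Q) u w = 0) (h : sg Q N.p (s • N.r) = sg Q u w) : Q w = 0 := by
  obtain ⟨f, hf, huf⟩ := exists_partner u hu0 hu
  have h1 := congrArg (fun g => av g f) h
  simp only [av_root, av_sg hu huw, huf] at h1
  have h2 : s • (polar (⇑Q) N.r f • N.p - polar (⇑Q) N.p f • N.r)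
      = (polar (⇑Q) w f - Q w * 1) • u + (-(1 : F)) • w := by
    have e : s • (polar (⇑Q) N.r f • N.p - polar (⇑Q) N.p f • N.r)
        = (f + s • (polar (⇑Q) N.r f • N.p - polar (⇑Q) N.p f • N.r)) - f := by abel
    rw [e, h1]; abel
  have h3 := congrArg Q h2
  have hl : Q (s • (polar (⇑Q) N.r f • N.p - polar (⇑Q) N.p f • N.r)) = 0 := by
    rw [Q_smul, Q_sub, Q_smul, Q_smul, N.hp, N.hr, polar_smul_left, polar_smul_right, N.hpr]
    simp
  have hr : Q ((polar (⇑Q) w f - Q w * 1) • u + (-(1 : F)) • w) = Q w := by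
    rw [Q_add, Q_smul, Q_smul, hu, polar_smul_left, polar_smul_right, huw]
    simp
  rw [hl, hr] at h3
  exact h3.symm

/-- the configuration of two lines through a common point which are not perpendicular admits
no third root subgroup in the join -/
theorem no_third_M (p : ℕ) [hp : Fact p.Prime] [CharP F p] (L₁ K₁ N : Ln Q) (hKp : K₁.p = L₁.p) (hxy : polar (⇑Q) L₁.r K₁.r = 1)
    (hle : Rb N ≤ Rb L₁ ⊔ Rb K₁) : Rb N = Rb L₁ ∨ Rb N = Rb K₁ := by
  have hpK : polar (⇑Q) L₁.p K₁.r = 0 := by rw [← hKp]; exact K₁.hpr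
  have hcomm : ∀ a ∈ Rb L₁, ∀ b ∈ Rb K₁, a * b = b * a := by
    intro a ha b hb
    obtain ⟨s, rfl⟩ := (mem_Rb L₁ _).mp ha
    obtain ⟨t, rfl⟩ := (mem_Rb K₁ _).mp hb
    rw [← map_mul, ← map_mul, hKp,
      sg_comm L₁.hp (L₁.hpt s) (by rw [polar_smul_right, hpK, smul_zero])]
  obtain ⟨a, ha, b, hb, hab⟩ := mem_sup_of_comm hcomm (hle (pu_sg_mem_Rb N 1))
  obtain ⟨s, rfl⟩ := (mem_Rb L₁ _).mp ha
  obtain ⟨t, rfl⟩ := (mem_Rb K₁ _).mp hb
  have hpt : polar (⇑Q) L₁.p (t • K₁.r) = 0 := by rw [polar_smul_right, hpK, smul_zero]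
  rw [hKp, ← map_mul, sg_mul L₁.hp (L₁.hpt s) hpt] at hab
  have hpst : polar (⇑Q) L₁.p (s • L₁.r + t • K₁.r) = 0 := by
    rw [polar_add_right, L₁.hpt s, hpt, add_zero]
  have h1 := eq_of_pu_eq (p := p) _ _ 1 (root_pow N 1) (sg_pow_char' p L₁.hp hpst) hab
  have h2 := sing_of_root_eq N 1 L₁.hp0 L₁.hp hpst h1
  rw [Q_add, Q_smul, Q_smul, L₁.hr, K₁.hr, polar_smul_left, polar_smul_right, hxy] at h2
  have hst : s * t = 0 := by
    simp only [smul_eq_mul, mul_zero, mul_one, zero_add] at h2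
    linear_combination h2
  rcases mul_eq_zero.mp hst with h0 | h0
  · right
    rw [h0, zero_smul, zero_add] at hab
    apply Rb_eq_of_common p K₁ N 1 one_ne_zero
    rw [hab, ← hKp]
    exact pu_sg_mem_Rb K₁ t
  · left
    rw [h0, zero_smul, add_zero] at hab
    apply Rb_eq_of_common p L₁ N 1 one_ne_zero
    rw [hab]
    exact pu_sg_mem_Rb L₁ s

/-- two perpendicular disjoint lines admit no third root subgroup in the join -/
theorem no_third_P (p : ℕ) [hp : Fact p.Prime] [CharP F p] (L K N : Ln Q) (h1 : polar (⇑Q) L.p K.p = 0) (h2 : polar (⇑Q) L.p K.r = 0)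
    (h3 : polar (⇑Q) L.r K.p = 0) (h4 : polar (⇑Q) L.r K.r = 0)
    (hli : LinearIndependent F ![L.p, L.r, K.p, K.r])
    (hle : Rb N ≤ Rb L ⊔ Rb K) : Rb N = Rb L ∨ Rb N = Rb K := by
  have hcomm0 : ∀ s t : F, sg Q L.p (s • L.r) * sg Q K.p (t • K.r) =
      sg Q K.p (t • K.r) * sg Q L.p (s • L.r) := by
    intro s t
    have hc := conj_sg (sg Q L.p (s • L.r)) K.hp (K.hpt t)
    rw [av_root, av_smul, av_root, h1, h2, h3, h4] at hc
    simp only [zero_smul, sub_self, smul_zero, add_zero] at hc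
    calc sg Q L.p (s • L.r) * sg Q K.p (t • K.r)
        = sg Q L.p (s • L.r) * sg Q K.p (t • K.r) * (sg Q L.p (s • L.r))⁻¹ * sg Q L.p (s • L.r) := by
          group
      _ = sg Q K.p (t • K.r) * sg Q L.p (s • L.r) := by rw [hc]
  have hcomm : ∀ a ∈ Rb L, ∀ b ∈ Rb K, a * b = b * a := by
    intro a ha b hb
    obtain ⟨s, rfl⟩ := (mem_Rb L _).mp ha
    obtain ⟨t, rfl⟩ := (mem_Rb K _).mp hb
    rw [← map_mul, ← map_mul, hcomm0]
  obtain ⟨a, ha, b, hb, hab⟩ := mem_sup_of_comm hcomm (hle (pu_sg_mem_Rb N 1))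
  obtain ⟨s, rfl⟩ := (mem_Rb L _).mp ha
  obtain ⟨t, rfl⟩ := (mem_Rb K _).mp hb
  by_cases hs0 : s = 0
  · right
    rw [hs0, zero_smul, sg_zero, map_one, one_mul] at hab
    apply Rb_eq_of_common p K N 1 one_ne_zero
    rw [hab]
    exact pu_sg_mem_Rb K t
  by_cases ht0 : t = 0
  · left
    rw [ht0, zero_smul, sg_zero, map_one, mul_one] at hab
    apply Rb_eq_of_common p L N 1 one_ne_zero
    rw [hab]
    exact pu_sg_mem_Rb L s
  exfalso
  rw [← map_mul] at hab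
  have hpw : (sg Q L.p (s • L.r) * sg Q K.p (t • K.r)) ^ (p ^ 1) = 1 := by
    rw [(show Commute (sg Q L.p (s • L.r)) (sg Q K.p (t • K.r)) from hcomm0 s t).mul_pow,
      root_pow, root_pow, one_mul]
  have h5 := eq_of_pu_eq (p := p) _ _ 1 (root_pow N 1) hpw hab
  have key : ∀ z, polar (⇑Q) N.r z • N.p - polar (⇑Q) N.p z • N.r =
      s • (polar (⇑Q) L.r z • L.p - polar (⇑Q) L.p z • L.r)
        + t • (polar (⇑Q) K.r z • K.p - polar (⇑Q) K.p z • K.r) := by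
    intro z
    have h6 := congrArg (fun g => av g z) h5
    simp only [av_mul, av_root] at h6
    simp only [polar_add_right, polar_smul_right, polar_sub_right, h1, h2, h3, h4, smul_eq_mul,
      mul_zero, sub_zero, add_zero] at h6
    have e : polar (⇑Q) N.r z • N.p - polar (⇑Q) N.p z • N.r
        = (z + (1 : F) • (polar (⇑Q) N.r z • N.p - polar (⇑Q) N.p z • N.r)) - z := by module
    rw [e, h6]; module
  obtain ⟨z₁, hz₁⟩ := exists_polar_fam (Q := Q) ![L.p, L.r, K.p, K.r] hli ![0, 1, 0, 0]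
  obtain ⟨z₂, hz₂⟩ := exists_polar_fam (Q := Q) ![L.p, L.r, K.p, K.r] hli ![1, 0, 0, 0]
  obtain ⟨z₃, hz₃⟩ := exists_polar_fam (Q := Q) ![L.p, L.r, K.p, K.r] hli ![0, 0, 0, 1]
  have k1 := key z₁
  have k2 := key z₂
  have k3 := key z₃
  have e10 := hz₁ 0; have e11 := hz₁ 1; have e12 := hz₁ 2; have e13 := hz₁ 3
  have e20 := hz₂ 0; have e21 := hz₂ 1; have e22 := hz₂ 2; have e23 := hz₂ 3
  have e30 := hz₃ 0; have e31 := hz₃ 1; have e32 := hz₃ 2; have e33 := hz₃ 3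
  simp only [Matrix.cons_val_zero, Matrix.cons_val_one, Matrix.cons_val] at e10 e11 e12 e13 e20 e21 e22 e23 e30 e31 e32 e33
  rw [e10, e11, e12, e13] at k1
  rw [e20, e21, e22, e23] at k2
  rw [e30, e31, e32, e33] at k3
  -- `s • L.p`, `-s • L.r`, `t • K.p` lie in the span of `N.p`, `N.r`
  set α₁ := polar (⇑Q) N.r z₁ with hα₁
  set β₁ := polar (⇑Q) N.p z₁ with hβ₁
  set α₂ := polar (⇑Q) N.r z₂ with hα₂
  set β₂ := polar (⇑Q) N.p z₂ with hβ₂
  set α₃ := polar (⇑Q) N.r z₃ with hα₃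
  set β₃ := polar (⇑Q) N.p z₃ with hβ₃
  have hp1 : s • L.p = α₁ • N.p - β₁ • N.r := by rw [k1]; module
  have hp2 : s • L.r = -(α₂ • N.p - β₂ • N.r) := by rw [k2]; module
  have hp3 : t • K.p = α₃ • N.p - β₃ • N.r := by rw [k3]; module
  have hrel : (α₂ * β₃ - α₃ * β₂) • (s • L.p) + (α₁ * β₃ - α₃ * β₁) • (s • L.r)
      + (α₁ * β₂ - α₂ * β₁) • (t • K.p) = 0 := by
    rw [hp1, hp2, hp3]; module
  have hli' := Fintype.linearIndependent_iff.mp hli
    ![(α₂ * β₃ - α₃ * β₂) * s, (α₁ * β₃ - α₃ * β₁) * s, (α₁ * β₂ - α₂ * β₁) * t, 0] (by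
      rw [Fin.sum_univ_four]
      simp only [Matrix.cons_val_zero, Matrix.cons_val_one, Matrix.cons_val]
      rw [← hrel]; module)
  have hm3 := hli' 2
  simp only [Matrix.cons_val] at hm3
  have hm3' : α₁ * β₂ - α₂ * β₁ = 0 := by
    rcases mul_eq_zero.mp hm3 with h | h
    · exact h
    · exact absurd h ht0
  -- then `L.p`, `L.r` are dependent
  have hd1 : (α₂ * s) • L.p + (α₁ * s) • L.r = 0 := by
    have : (α₂ * s) • L.p + (α₁ * s) • L.r = α₂ • (s • L.p) + α₁ • (s • L.r) := by module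
    rw [this, hp1, hp2]
    have e : α₂ • (α₁ • N.p - β₁ • N.r) + α₁ • -(α₂ • N.p - β₂ • N.r)
        = (α₁ * β₂ - α₂ * β₁) • N.r := by module
    rw [e, hm3', zero_smul]
  have hd2 : (β₂ * s) • L.p + (β₁ * s) • L.r = 0 := by
    have : (β₂ * s) • L.p + (β₁ * s) • L.r = β₂ • (s • L.p) + β₁ • (s • L.r) := by module
    rw [this, hp1, hp2]
    have e : β₂ • (α₁ • N.p - β₁ • N.r) + β₁ • -(α₂ • N.p - β₂ • N.r)
        = (α₁ * β₂ - α₂ * β₁) • N.p := by module
    rw [e, hm3', zero_smul]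
  obtain ⟨hA2, hA1⟩ := L.indep hd1
  obtain ⟨hB2, hB1⟩ := L.indep hd2
  have hα1 : α₁ = 0 := by
    rcases mul_eq_zero.mp hA1 with h | h
    · exact h
    · exact absurd h hs0
  have hβ1 : β₁ = 0 := by
    rcases mul_eq_zero.mp hB1 with h | h
    · exact h
    · exact absurd h hs0
  rw [hα1, hβ1, zero_smul, zero_smul, sub_zero] at hp1
  rcases smul_eq_zero.mp hp1 with h | h
  · exact hs0 h
  · exact L.hp0 h

end Cfsg.Agent.Lib.Helper6.AutOrt
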