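import Mathlib
import Cfsg.Agent.Lib.Helper6.AutOrt7

/-!
# Automorphisms of orthogonal groups, part 8: the geometric meaning of `Cop`, bounds for `UU`
-/

set_option autoImplicit false
set_option linter.unusedSectionVars false
set_option linter.unusedVariables false

open Cfsg Matrix QuadraticMap

namespace Cfsg.Agent.Lib.Helper6.AutOrt

open Cfsg.Agent.Lib.Helper6 Cfsg.Agent.Lib.Helper15 Cfsg.Agent.Lib.Helper6.AutPSL

variable {F : Type*} [Field F] [Fintype F] {ι : Type} [Fintype ι] [DecidableEq ι]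
variable {Q : QuadraticForm F (ι → F)} [hS : Std Q]

theorem Rb_eq_of_Xr {L K : Ln Q} (h : Xr L = Xr K) : Rb L = Rb K := by
  unfold Rb
  rw [h]

/-- four pairwise perpendicular vectors of two lines which are dependent: a common point -/
theorem exists_common_of_dep (L K : Ln Q) (hli : ¬ LinearIndependent F ![L.p, L.r, K.p, K.r]) :
    ∃ a b c d : F, (a ≠ 0 ∨ b ≠ 0) ∧ a • L.p + b • L.r = c • K.p + d • K.r := by
  rw [Fintype.not_linearIndependent_iff] at hli
  obtain ⟨g, hg, i, hi⟩ := hli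
  rw [Fin.sum_univ_four] at hg
  simp only [Matrix.cons_val_zero, Matrix.cons_val_one, Matrix.cons_val] at hg
  refine ⟨g 0, g 1, -g 2, -g 3, ?_, ?_⟩
  · by_contra hcon
    push Not at hcon
    obtain ⟨h0, h1⟩ := hcon
    rw [h0, h1, zero_smul, zero_smul, zero_add, zero_add] at hg
    obtain ⟨h2, h3⟩ := K.indep hg
    fin_cases i
    · exact hi h0
    · exact hi h1
    · exact hi h2
    · exact hi h3
  · have : g 0 • L.p + g 1 • L.r = (g 0 • L.p + g 1 • L.r + g 2 • K.p + g 3 • K.r)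
        - g 2 • K.p - g 3 • K.r := by abel
    rw [this, hg]; module

/-- the geometric meaning of `Cop` -/
theorem geom_of_cop (p : ℕ) [hp : Fact p.Prime] [CharP F p] (L K : Ln Q)
    (h : Cop (RS Q) (Rb L) (Rb K)) :
    (polar (⇑Q) L.p K.p = 0 ∧ polar (⇑Q) L.p K.r = 0 ∧ polar (⇑Q) L.r K.p = 0 ∧
      polar (⇑Q) L.r K.r = 0) ∧
    ∃ a b c d : F, (a ≠ 0 ∨ b ≠ 0) ∧ a • L.p + b • L.r = c • K.p + d • K.r := by
  obtain ⟨hne, hcomm, C, ⟨N, rfl⟩, hCA, hCB, hle⟩ := h
  rcases comm_cases L K (comm_of_Rb_comm p L K hcomm) with hO | ⟨L₁, K₁, hXL, hXK, hKp, hxy⟩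
  · refine ⟨hO, ?_⟩
    by_cases hli : LinearIndependent F ![L.p, L.r, K.p, K.r]
    · exfalso
      rcases no_third_P p L K N hO.1 hO.2.1 hO.2.2.1 hO.2.2.2 hli hle with h1 | h1
      · exact hCA h1
      · exact hCB h1
    · exact exists_common_of_dep L K hli
  · exfalso
    have h1 : Rb L₁ = Rb L := Rb_eq_of_Xr hXL
    have h2 : Rb K₁ = Rb K := Rb_eq_of_Xr hXK
    rw [← h1, ← h2] at hle
    rw [← h1] at hCA
    rw [← h2] at hCB
    rcases no_third_M p L₁ K₁ N hKp hxy hle with h3 | h3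
    · exact hCA h3
    · exact hCB h3

/-- the root subgroup of a line perpendicular to `L` and meeting it lies in `UL L` -/
theorem Xr_le_UL_of_geom (L K : Ln Q)
    (hO : polar (⇑Q) L.p K.p = 0 ∧ polar (⇑Q) L.p K.r = 0 ∧ polar (⇑Q) L.r K.p = 0 ∧
      polar (⇑Q) L.r K.r = 0)
    (a b c d : F) (hab : a ≠ 0 ∨ b ≠ 0) (hcommon : a • L.p + b • L.r = c • K.p + d • K.r) :
    Xr K ≤ UL L := by
  obtain ⟨h1, h2, h3, h4⟩ := hO
  rintro _ ⟨t, rfl⟩
  have hu0 : a • L.p + b • L.r ≠ 0 := by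
    intro h0
    obtain ⟨ha, hb⟩ := L.indep h0
    rcases hab with h | h
    · exact h ha
    · exact h hb
  refine ⟨?_, ?_, ?_⟩
  · rw [av_root, polar_comm (⇑Q) K.r L.p, polar_comm (⇑Q) K.p L.p, h1, h2]
    simp
  · rw [av_root, polar_comm (⇑Q) K.r L.r, polar_comm (⇑Q) K.p L.r, h3, h4]
    simp
  · intro z hz1 hz2
    have hz : c * polar (⇑Q) K.p z + d * polar (⇑Q) K.r z = 0 := by
      have e1 : polar (⇑Q) (a • L.p + b • L.r) z = 0 := by
        rw [polar_add_left, polar_smul_left, polar_smul_left, hz1, hz2]; simp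
      rw [hcommon, polar_add_left, polar_smul_left, polar_smul_left] at e1
      simpa using e1
    rw [av_root]
    by_cases hc : c = 0
    · have hd : d ≠ 0 := by
        intro hd
        apply hu0
        rw [hcommon, hc, hd, zero_smul, zero_smul, add_zero]
      rw [hc, zero_mul, zero_add] at hz
      have hz' : polar (⇑Q) K.r z = 0 := by
        rcases mul_eq_zero.mp hz with h | h
        · exact absurd h hd
        · exact h
      refine ⟨-(t * polar (⇑Q) K.p z / d) * a, -(t * polar (⇑Q) K.p z / d) * b, ?_⟩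
      have e : K.r = d⁻¹ • (a • L.p + b • L.r) := by
        rw [hcommon, hc, zero_smul, zero_add, smul_smul, inv_mul_cancel₀ hd, one_smul]
      rw [hz', zero_smul, zero_sub]
      conv_lhs => rw [e]
      rw [div_eq_mul_inv]
      module
    · have hz' : polar (⇑Q) K.p z = -(d / c) * polar (⇑Q) K.r z := by
        field_simp
        linear_combination hz
      refine ⟨(t * polar (⇑Q) K.r z / c) * a, (t * polar (⇑Q) K.r z / c) * b, ?_⟩
      have e : K.p = c⁻¹ • (a • L.p + b • L.r) - (d / c) • K.r := by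
        rw [hcommon, smul_add, smul_smul, smul_smul, inv_mul_cancel₀ hc, one_smul, div_eq_mul_inv,
          mul_comm d c⁻¹]
        abel
      rw [hz']
      conv_lhs => rw [e]
      rw [div_eq_mul_inv, div_eq_mul_inv]
      module

theorem Xr_self_le_UL (L : Ln Q) : Xr L ≤ UL L :=
  Xr_le_UL_of_geom L L ⟨L.hpp, L.hpr, L.hrp, L.hrr⟩ 1 0 1 0 (Or.inl one_ne_zero) rfl

/-- the upper bound for `UU` -/
theorem UU_le_UL (p : ℕ) [hp : Fact p.Prime] [CharP F p] (L : Ln Q) :
    UU (RS Q) (Rb L) ≤ (UL L).map pu := by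
  apply UU_le
  rintro C ⟨K, rfl⟩ hCK
  rcases hCK with h | h
  · rw [h]
    exact Subgroup.map_mono (Xr_self_le_UL L)
  · obtain ⟨hO, a, b, c, d, hab, hcommon⟩ := geom_of_cop p L K h
    exact Subgroup.map_mono (Xr_le_UL_of_geom L K hO a b c d hab hcommon)

/-- singular vectors perpendicular to the line give elements of `UU` -/
theorem pu_sg_sing_mem_UU (p : ℕ) [hp : Fact p.Prime] [CharP F p] (L : Ln Q) (s : ι → F)
    (hs : Q s = 0) (hps : polar (⇑Q) L.p s = 0) (hrs : polar (⇑Q) L.r s = 0) :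
    pu (sg Q L.p s) ∈ UU (RS Q) (Rb L) := by
  by_cases hspan : ∃ a b : F, s = a • L.p + b • L.r
  · obtain ⟨a, b, rfl⟩ := hspan
    rw [add_comm, sg_add_smul a L.hp (L.hpt b)]
    exact mem_UU_of_mem (Rb_mem_RS L) (Or.inl rfl) (pu_sg_mem_Rb L b)
  · push Not at hspan
    let K : Ln Q :=
      { p := L.p
        r := s
        hp := L.hp
        hr := hs
        hpr := hps
        hp0 := L.hp0
        hind := by
          intro c hc
          apply hspan c 0
          rw [hc]; module }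
    have hcop := cop_of_geom p L K rfl hrs hspan
    have h1 := pu_sg_mem_Rb K 1
    change pu (sg Q L.p ((1 : F) • s)) ∈ Rb K at h1
    rw [one_smul] at h1
    exact mem_UU_of_mem (Rb_mem_RS K) (Or.inr hcop) h1

/-- all Siegel elements `sg p y` with `y ⟂ L` lie in `UU` -/
theorem pu_sg_mem_UU (p : ℕ) [hp : Fact p.Prime] [CharP F p] (L : Ln Q) (y : ι → F)
    (hpy : polar (⇑Q) L.p y = 0) (hry : polar (⇑Q) L.r y = 0) :
    pu (sg Q L.p y) ∈ UU (RS Q) (Rb L) := by
  obtain ⟨a, b, ha, hb, hab, hpa, hra, hpb, hrb⟩ := exists_hyp_perp_line L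
  have hba : polar (⇑Q) b a = 1 := by rw [polar_comm, hab]
  have haa : polar (⇑Q) a a = 0 := B_self_of_sing ha
  have hbb : polar (⇑Q) b b = 0 := B_self_of_sing hb
  set α := polar (⇑Q) b y with hα
  set β := polar (⇑Q) a y with hβ
  obtain ⟨z₀, hz₀⟩ : ∃ z₀, z₀ = y - α • a - β • b := ⟨_, rfl⟩
  have hz₀a : polar (⇑Q) a z₀ = 0 := by
    rw [hz₀, polar_sub_right, polar_sub_right, polar_smul_right, polar_smul_right, haa, hab, ← hβ]
    simp
  have hz₀b : polar (⇑Q) b z₀ = 0 := by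
    rw [hz₀, polar_sub_right, polar_sub_right, polar_smul_right, polar_smul_right, hbb, hba, ← hα]
    simp
  have hpz₀ : polar (⇑Q) L.p z₀ = 0 := by
    rw [hz₀, polar_sub_right, polar_sub_right, polar_smul_right, polar_smul_right, hpy, hpa, hpb]
    simp
  have hrz₀ : polar (⇑Q) L.r z₀ = 0 := by
    rw [hz₀, polar_sub_right, polar_sub_right, polar_smul_right, polar_smul_right, hry, hra, hrb]
    simp
  obtain ⟨s₁, hs₁⟩ : ∃ s₁, s₁ = z₀ - Q z₀ • a + b := ⟨_, rfl⟩
  have hQs₁ : Q s₁ = 0 := by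
    rw [hs₁, Q_add, Q_sub, Q_smul, ha, hb, polar_smul_right, polar_sub_left, polar_smul_left,
      polar_comm (⇑Q) z₀ a, polar_comm (⇑Q) z₀ b, hz₀a, hz₀b, hab]
    simp
  have hps₁ : polar (⇑Q) L.p s₁ = 0 := by
    rw [hs₁, polar_add_right, polar_sub_right, polar_smul_right, hpz₀, hpa, hpb]; simp
  have hrs₁ : polar (⇑Q) L.r s₁ = 0 := by
    rw [hs₁, polar_add_right, polar_sub_right, polar_smul_right, hrz₀, hra, hrb]; simp
  have hy : y = (α + Q z₀) • a + ((β - 1) • b + s₁) := by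
    rw [hs₁, hz₀]; module
  have h1 := pu_sg_sing_mem_UU p L ((α + Q z₀) • a) (by rw [Q_smul, ha, mul_zero])
    (by rw [polar_smul_right, hpa, smul_zero]) (by rw [polar_smul_right, hra, smul_zero])
  have h2 := pu_sg_sing_mem_UU p L ((β - 1) • b) (by rw [Q_smul, hb, mul_zero])
    (by rw [polar_smul_right, hpb, smul_zero]) (by rw [polar_smul_right, hrb, smul_zero])
  have h3 := pu_sg_sing_mem_UU p L s₁ hQs₁ hps₁ hrs₁
  have hp2 : polar (⇑Q) L.p ((β - 1) • b + s₁) = 0 := by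
    rw [polar_add_right, polar_smul_right, hpb, hps₁]; simp
  rw [hy, ← sg_mul L.hp (by rw [polar_smul_right, hpa, smul_zero]) hp2,
    ← sg_mul L.hp (by rw [polar_smul_right, hpb, smul_zero]) hps₁, map_mul, map_mul]
  exact Subgroup.mul_mem _ h1 (Subgroup.mul_mem _ h2 h3)

theorem pu_sg_mem_UU' (p : ℕ) [hp : Fact p.Prime] [CharP F p] (L : Ln Q) (y : ι → F)
    (hpy : polar (⇑Q) L.p y = 0) (hry : polar (⇑Q) L.r y = 0) :
    pu (sg Q L.r y) ∈ UU (RS Q) (Rb L) := by
  have := pu_sg_mem_UU p L.swap y hry hpy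
  rwa [Rb_swap] at this

end Cfsg.Agent.Lib.Helper6.AutOrt
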