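import Mathlib
import Cfsg.Agent.Lib.Helper6.AutOrt8

/-!
# Automorphisms of orthogonal groups, part 9: automorphisms permute the subgroups `Q_u`
-/

set_option autoImplicit false
set_option linter.unusedSectionVars false
set_option linter.unusedVariables false

open Cfsg Matrix QuadraticMap

namespace Cfsg.Agent.Lib.Helper6.AutOrt

open Cfsg.Agent.Lib.Helper6 Cfsg.Agent.Lib.Helper15 Cfsg.Agent.Lib.Helper6.AutPSL

variable {F : Type*} [Field F] [Fintype F] {ι : Type} [Fintype ι] [DecidableEq ι]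
variable {Q : QuadraticForm F (ι → F)} [hS : Std Q]

variable (Q) in
/-- totally singular 4-spaces are not maximal totally singular modulo themselves -/
def HP : Prop := ∀ a b c d : ι → F, polar (⇑Q) a c = 0 → polar (⇑Q) a d = 0 → polar (⇑Q) b c = 0 →
  polar (⇑Q) b d = 0 → Q a = 0 → Q b = 0 → Q c = 0 → Q d = 0 → polar (⇑Q) a b = 0 →
  polar (⇑Q) c d = 0 → LinearIndependent F ![a, b, c, d] →
  ∃ y y' : ι → F, polar (⇑Q) a y = 0 ∧ polar (⇑Q) b y = 0 ∧ polar (⇑Q) c y = 0 ∧ polar (⇑Q) d y = 0 ∧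
    polar (⇑Q) a y' = 0 ∧ polar (⇑Q) b y' = 0 ∧ polar (⇑Q) c y' = 0 ∧ polar (⇑Q) d y' = 0 ∧
    polar (⇑Q) y y' ≠ 0

section
variable (p : ℕ) [hp : Fact p.Prime] [hcp : CharP F p]
include hp hcp

/-- elements of `CU` for two lines through `u` which are not perpendicular -/
theorem mem_AL_of_CU (L K : Ln Q) (hKp : K.p = L.p) (hxy : polar (⇑Q) L.r K.r = 1)
    (g : Cfsg.POmega F ⇑Q) (hg : g ∈ CU (RS Q) (Rb L) (Rb K)) :
    ∃ w, polar (⇑Q) L.p w = 0 ∧ polar (⇑Q) L.r w = 0 ∧ g = pu (sg Q L.p w) := by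
  have hpK : polar (⇑Q) L.p K.r = 0 := by rw [← hKp]; exact K.hpr
  obtain ⟨hgU, hgc⟩ := (mem_CU _ _ _).mp hg
  obtain ⟨h, hh, rfl⟩ := Subgroup.mem_map.mp (UU_le_UL p L hgU)
  obtain ⟨hh1, hh2, hh3⟩ := hh
  have hc1 : h * sg Q K.p ((1 : F) • K.r) = sg Q K.p ((1 : F) • K.r) * h :=
    comm_of_pu_comm (p := p) h _ 1 (root_pow K 1) (hgc _ (pu_sg_mem_Rb K 1)).symm
  rw [one_smul, hKp] at hc1
  have hc2 := conj_sg h L.hp hpK
  rw [hc1, mul_inv_cancel_right, hh1] at hc2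
  obtain ⟨c, hc⟩ := sg_eq_sg L.hp0 L.hp hpK (by rw [← hh1, B_av, hpK]) hc2
  -- `h ∈ Q_u`
  have hQ : h ∈ Qv Q L.p := by
    refine ⟨hh1, fun z hz => ?_⟩
    have hz1 : polar (⇑Q) L.p (z - polar (⇑Q) L.r z • K.r) = 0 := by
      rw [polar_sub_right, polar_smul_right, hz, hpK]; simp
    have hz2 : polar (⇑Q) L.r (z - polar (⇑Q) L.r z • K.r) = 0 := by
      rw [polar_sub_right, polar_smul_right, hxy]; simp
    obtain ⟨a, b, hab⟩ := hh3 _ hz1 hz2
    have hb : b = 0 := by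
      have h1 := B_av h (z - polar (⇑Q) L.r z • K.r) K.r
      rw [hab, hc] at h1
      simp only [polar_add_left, polar_add_right, polar_smul_left, polar_smul_right, hpK, L.hpp,
        L.hrp, hxy, smul_eq_mul, mul_zero, add_zero, mul_one] at h1
      have hz1' : polar (⇑Q) (z - polar (⇑Q) L.r z • K.r) L.p = 0 := by rw [polar_comm]; exact hz1
      rw [hz1'] at h1
      linear_combination h1
    refine ⟨a + polar (⇑Q) L.r z * c, ?_⟩
    have e : z = (z - polar (⇑Q) L.r z • K.r) + polar (⇑Q) L.r z • K.r := by abel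
    conv_lhs => rw [e]
    rw [av_add, av_smul, hab, hc, hb]
    module
  obtain ⟨w, hw, rfl⟩ := exists_sg_of_mem_Qv L.hp0 L.hp h hQ
  refine ⟨w, hw, ?_, rfl⟩
  rw [av_sg L.hp hw, L.hpr] at hh2
  have h1 : (polar (⇑Q) w L.r) • L.p = 0 := by
    have e : (polar (⇑Q) w L.r) • L.p
        = (L.r + (polar (⇑Q) w L.r - Q w * 0) • L.p + (-(0 : F)) • w) - L.r := by module
    rw [e, hh2, sub_self]
  rcases smul_eq_zero.mp h1 with h2 | h2
  · rw [polar_comm]; exact h2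
  · exact absurd h2 L.hp0

theorem CU_of_AL (L K : Ln Q) (hKp : K.p = L.p) (w : ι → F) (hpw : polar (⇑Q) L.p w = 0)
    (hrw : polar (⇑Q) L.r w = 0) : pu (sg Q L.p w) ∈ CU (RS Q) (Rb L) (Rb K) := by
  have hpK : polar (⇑Q) L.p K.r = 0 := by rw [← hKp]; exact K.hpr
  rw [mem_CU]
  refine ⟨pu_sg_mem_UU p L w hpw hrw, ?_⟩
  intro b hb
  obtain ⟨t, rfl⟩ := (mem_Rb K _).mp hb
  rw [← map_mul, ← map_mul, hKp, sg_comm L.hp (by rw [polar_smul_right, hpK, smul_zero]) hpw]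

theorem IsM_geom (L K : Ln Q) (hKp : K.p = L.p) (hxy : polar (⇑Q) L.r K.r = 1) :
    IsM (RS Q) (Rb L) (Rb K) := by
  have hpK : polar (⇑Q) L.p K.r = 0 := by rw [← hKp]; exact K.hpr
  refine ⟨?_, ?_, ?_, ?_⟩
  · intro e
    have h1 : pu (sg Q K.p ((1 : F) • K.r)) ∈ Rb L := by rw [e]; exact pu_sg_mem_Rb K 1
    obtain ⟨t, ht⟩ := (mem_Rb L _).mp h1
    have h2 := eq_of_pu_eq (p := p) _ _ 1 (root_pow K 1) (root_pow L t) ht
    rw [hKp] at h2
    obtain ⟨c, hc⟩ := sg_eq_sg L.hp0 L.hp (by rw [polar_smul_right, hpK, smul_zero]) (L.hpt t) h2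
    have h3 := congrArg (fun v => polar (⇑Q) L.r v) hc
    simp only [polar_add_right, polar_smul_right, L.hrr, L.hrp, hxy, smul_eq_mul, mul_zero, mul_one,
      add_zero] at h3
    exact zero_ne_one h3
  · intro a ha b hb
    obtain ⟨s, rfl⟩ := (mem_Rb L _).mp ha
    obtain ⟨t, rfl⟩ := (mem_Rb K _).mp hb
    rw [← map_mul, ← map_mul, hKp,
      sg_comm L.hp (L.hpt s) (by rw [polar_smul_right, hpK, smul_zero])]
  · intro hcop
    have := (geom_of_cop p L K hcop).1.2.2.2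
    rw [hxy] at this
    exact one_ne_zero this
  · intro x hx y hy
    obtain ⟨w, hw1, hw2, rfl⟩ := mem_AL_of_CU p L K hKp hxy x hx
    obtain ⟨w', hw1', hw2', rfl⟩ := mem_AL_of_CU p L K hKp hxy y hy
    rw [← map_mul, ← map_mul, sg_comm L.hp hw1 hw1']

theorem Pt_geom (L K : Ln Q) (hKp : K.p = L.p) (hxy : polar (⇑Q) L.r K.r = 1) :
    Pt (RS Q) (Rb L) (Rb K) = Qb (Q := Q) L.p := by
  have hpK : polar (⇑Q) L.p K.r = 0 := by rw [← hKp]; exact K.hpr
  have hyx : polar (⇑Q) K.r L.r = 1 := by rw [polar_comm, hxy]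
  unfold Pt
  apply le_antisymm
  · apply sup_le
    · intro g hg
      obtain ⟨w, hw1, hw2, rfl⟩ := mem_AL_of_CU p L K hKp hxy g hg
      exact (mem_Qb L.hp0 L.hp _).mpr ⟨w, hw1, rfl⟩
    · intro g hg
      obtain ⟨w, hw1, hw2, rfl⟩ := mem_AL_of_CU p K L hKp.symm hyx g hg
      rw [hKp] at hw1 ⊢
      exact (mem_Qb L.hp0 L.hp _).mpr ⟨w, hw1, rfl⟩
  · intro g hg
    obtain ⟨w, hw, rfl⟩ := (mem_Qb L.hp0 L.hp g).mp hg
    have hw1 : polar (⇑Q) L.p (w - polar (⇑Q) L.r w • K.r) = 0 := by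
      rw [polar_sub_right, polar_smul_right, hw, hpK]; simp
    have hw2 : polar (⇑Q) L.r (w - polar (⇑Q) L.r w • K.r) = 0 := by
      rw [polar_sub_right, polar_smul_right, hxy]; simp
    have hw3 : polar (⇑Q) K.p (polar (⇑Q) L.r w • K.r) = 0 := by
      rw [polar_smul_right, K.hpr, smul_zero]
    have hw4 : polar (⇑Q) K.r (polar (⇑Q) L.r w • K.r) = 0 := by
      rw [polar_smul_right, K.hrr, smul_zero]
    have h1 := CU_of_AL p L K hKp _ hw1 hw2
    have h2 := CU_of_AL p K L hKp.symm _ hw3 hw4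
    rw [hKp] at h2
    have e : w = (w - polar (⇑Q) L.r w • K.r) + polar (⇑Q) L.r w • K.r := by abel
    rw [e, ← sg_mul L.hp hw1 (by rw [← hKp]; exact hw3), map_mul]
    exact Subgroup.mul_mem_sup h1 h2

/-- perpendicular disjoint lines: the centraliser is not abelian -/
theorem not_abelian_P (hP : HP Q) (L K : Ln Q) (h1 : polar (⇑Q) L.p K.p = 0)
    (h2 : polar (⇑Q) L.p K.r = 0) (h3 : polar (⇑Q) L.r K.p = 0) (h4 : polar (⇑Q) L.r K.r = 0)
    (hli : LinearIndependent F ![L.p, L.r, K.p, K.r]) :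
    ¬ ∀ x ∈ CU (RS Q) (Rb L) (Rb K), ∀ y ∈ CU (RS Q) (Rb L) (Rb K), x * y = y * x := by
  intro hab
  obtain ⟨y, y', hy1, hy2, hy3, hy4, hy1', hy2', hy3', hy4', hyy⟩ :=
    hP L.p L.r K.p K.r h1 h2 h3 h4 L.hp L.hr K.hp K.hr L.hpr K.hpr hli
  have hyK : ∀ (u y : ι → F) (hu : Q u = 0) (huy : polar (⇑Q) u y = 0)
      (huKp : polar (⇑Q) u K.p = 0) (huKr : polar (⇑Q) u K.r = 0)
      (hyKp : polar (⇑Q) K.p y = 0) (hyKr : polar (⇑Q) K.r y = 0) (t : F),
      pu (sg Q K.p (t • K.r)) * pu (sg Q u y) = pu (sg Q u y) * pu (sg Q K.p (t • K.r)) := by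
    intro u y hu huy huKp huKr hyKp hyKr t
    have hc := conj_sg (sg Q u y) K.hp (K.hpt t)
    rw [av_smul, av_sg hu huy, av_sg hu huy, huKp, huKr, polar_comm (⇑Q) y K.p, hyKp,
      polar_comm (⇑Q) y K.r, hyKr] at hc
    simp only [mul_zero, sub_self, zero_smul, add_zero, neg_zero] at hc
    rw [← map_mul, ← map_mul]
    congr 1
    calc sg Q K.p (t • K.r) * sg Q u y = (sg Q u y * sg Q K.p (t • K.r) * (sg Q u y)⁻¹) * sg Q u y := by
          rw [hc]
      _ = sg Q u y * sg Q K.p (t • K.r) := by group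
  have hg1 : pu (sg Q L.p y) ∈ CU (RS Q) (Rb L) (Rb K) := by
    rw [mem_CU]
    refine ⟨pu_sg_mem_UU p L y hy1 hy2, ?_⟩
    intro b hb
    obtain ⟨t, rfl⟩ := (mem_Rb K _).mp hb
    exact hyK L.p y L.hp hy1 h1 h2 hy3 hy4 t
  have hg2 : pu (sg Q L.r y') ∈ CU (RS Q) (Rb L) (Rb K) := by
    rw [mem_CU]
    refine ⟨pu_sg_mem_UU' p L y' hy1' hy2', ?_⟩
    intro b hb
    obtain ⟨t, rfl⟩ := (mem_Rb K _).mp hb
    exact hyK L.r y' L.hr hy2' h3 h4 hy3' hy4' t
  have hcomm := comm_of_pu_comm (p := p) (sg Q L.p y) (sg Q L.r y') 1 (sg_pow_char' p L.hr hy2')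
    (hab _ hg1 _ hg2)
  have hc := conj_sg (sg Q L.p y) L.hr hy2'
  rw [hcomm, mul_inv_cancel_right, av_sg L.hp hy1, av_sg L.hp hy1, L.hpr, polar_comm (⇑Q) y L.r,
    hy2, hy1'] at hc
  simp only [mul_zero, sub_self, zero_smul, add_zero, neg_zero, sub_zero] at hc
  obtain ⟨c, hc'⟩ := sg_eq_sg L.hr0 L.hr hy2' (by
    rw [polar_add_right, hy2', polar_smul_right, L.hrp]; simp) hc
  have h5 : (polar (⇑Q) y y') • L.p + (-c) • L.r = 0 := by
    have e : (polar (⇑Q) y y') • L.p + (-c) • L.r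
        = (y' + polar (⇑Q) y y' • L.p) - y' - c • L.r := by module
    rw [e, hc']; module
  exact hyy (L.indep h5).1

/-- a line through a prescribed point of itself -/
theorem exists_chg_first (L : Ln Q) (a b : F) (hab : a ≠ 0 ∨ b ≠ 0) :
    ∃ L' : Ln Q, Rb L' = Rb L ∧ L'.p = a • L.p + b • L.r ∧ (L'.r = L.r ∨ L'.r = L.p) := by
  by_cases ha : a = 0
  · have hb : b ≠ 0 := by
      rcases hab with h | h
      · exact absurd ha h
      · exact h
    have hdet : a * 0 - b * 1 ≠ 0 := by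
      rw [mul_zero, mul_one, zero_sub]; exact neg_ne_zero.mpr hb
    refine ⟨L.chg a b 1 0 hdet, Rb_chg L _ _ _ _ hdet, rfl, Or.inr ?_⟩
    change (1 : F) • L.p + (0 : F) • L.r = L.p
    module
  · have hdet : a * 1 - b * 0 ≠ 0 := by
      rw [mul_one, mul_zero, sub_zero]; exact ha
    refine ⟨L.chg a b 0 1 hdet, Rb_chg L _ _ _ _ hdet, rfl, Or.inl ?_⟩
    change (0 : F) • L.p + (1 : F) • L.r = L.r
    module

/-- perpendicular lines with a common point: equal or `Cop` -/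
theorem eq_or_cop_of_geom (L K : Ln Q)
    (hO : polar (⇑Q) L.p K.p = 0 ∧ polar (⇑Q) L.p K.r = 0 ∧ polar (⇑Q) L.r K.p = 0 ∧
      polar (⇑Q) L.r K.r = 0)
    (a b c d : F) (hab : a ≠ 0 ∨ b ≠ 0) (hcommon : a • L.p + b • L.r = c • K.p + d • K.r) :
    Rb L = Rb K ∨ Cop (RS Q) (Rb L) (Rb K) := by
  obtain ⟨h1, h2, h3, h4⟩ := hO
  have hu0 : a • L.p + b • L.r ≠ 0 := by
    intro h0
    obtain ⟨ha, hb⟩ := L.indep h0
    rcases hab with h | h
    · exact h ha
    · exact h hb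
  have hcd : c ≠ 0 ∨ d ≠ 0 := by
    by_contra hcon
    push Not at hcon
    apply hu0
    rw [hcommon, hcon.1, hcon.2, zero_smul, zero_smul, add_zero]
  obtain ⟨L', hL', hL'p, hL'r⟩ := exists_chg_first p L a b hab
  obtain ⟨K', hK', hK'p, hK'r⟩ := exists_chg_first p K c d hcd
  have hKp : K'.p = L'.p := by rw [hK'p, hL'p, hcommon]
  have hrr : polar (⇑Q) L'.r K'.r = 0 := by
    rcases hL'r with e1 | e1 <;> rcases hK'r with e2 | e2 <;> rw [e1, e2] <;> assumption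
  rw [← hL', ← hK']
  by_cases hspan : ∃ e f : F, K'.r = e • L'.p + f • L'.r
  · left
    obtain ⟨e, f, hef⟩ := hspan
    symm
    apply Rb_eq_of_common p L' K' 1 one_ne_zero
    rw [one_smul, hKp, hef, add_comm, sg_add_smul e L'.hp (L'.hpt f)]
    exact pu_sg_mem_Rb L' f
  · right
    push Not at hspan
    exact cop_of_geom p L' K' hKp hrr hspan

/-- automorphisms of `PΩ` permute the subgroups `Q_u` -/
theorem img_Qb (hP : HP Q) (β : MulAut (Cfsg.POmega F ⇑Q)) (u : ι → F) (hu0 : u ≠ 0) (hu : Q u = 0) :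
    ∃ u' : ι → F, u' ≠ 0 ∧ Q u' = 0 ∧ img β (Qb (Q := Q) u) = Qb u' := by
  have hfin : 5 ≤ Module.finrank F (ι → F) := by
    rw [Module.finrank_fintype_fun_eq_card]; exact five_le Q
  obtain ⟨x, y, hx, hy, hxy, hux, huy⟩ := exists_hyp_pair_perp Q hS.nondeg hfin u hu0 hu
  let L : Ln Q :=
    { p := u, r := x, hp := hu, hr := hx, hpr := hux, hp0 := hu0
      hind := by
        intro c hc
        have := hxy
        rw [hc, polar_smul_left, huy] at this
        simp at this }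
  let K : Ln Q :=
    { p := u, r := y, hp := hu, hr := hy, hpr := huy, hp0 := hu0
      hind := by
        intro c hc
        have := hxy
        rw [hc, polar_smul_right, polar_comm (⇑Q) x u, hux] at this
        simp at this }
  have hM := IsM_geom p L K rfl hxy
  have hPt := Pt_geom p L K rfl hxy
  have hX := RS_inv (Q := Q) p
  obtain ⟨L', hL'⟩ := root_perm p β L
  obtain ⟨K', hK'⟩ := root_perm p β K
  have hM' := IsM_img hX β hM
  rw [hL', hK'] at hM'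
  have hPt' := img_Pt hX β (Rb L) (Rb K)
  rw [hPt, hL', hK'] at hPt'
  change img β (Qb u) = _ at hPt'
  obtain ⟨hne, hcomm, hncop, hab⟩ := hM'
  rcases comm_cases L' K' (comm_of_Rb_comm p L' K' hcomm) with hO | ⟨L₁, K₁, hXL, hXK, hKp, hxy'⟩
  · exfalso
    by_cases hli : LinearIndependent F ![L'.p, L'.r, K'.p, K'.r]
    · exact not_abelian_P p hP L' K' hO.1 hO.2.1 hO.2.2.1 hO.2.2.2 hli hab
    · obtain ⟨a, b, c, d, hab', hcommon⟩ := exists_common_of_dep L' K' hli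
      rcases eq_or_cop_of_geom p L' K' hO a b c d hab' hcommon with h | h
      · exact hne h
      · exact hncop h
  · refine ⟨L₁.p, L₁.hp0, L₁.hp, ?_⟩
    rw [hPt', ← Rb_eq_of_Xr hXL, ← Rb_eq_of_Xr hXK]
    exact Pt_geom p L₁ K₁ hKp hxy'

end

end Cfsg.Agent.Lib.Helper6.AutOrt
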