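import Mathlib
import Cfsg.Agent.Lib.Helper6.AutOrt9

/-!
# Automorphisms of orthogonal groups, part 10: normalisation at a hyperbolic pair and the
induced map on the complement
-/

set_option autoImplicit false
set_option linter.unusedSectionVars false
set_option linter.unusedVariables false

open Cfsg Matrix QuadraticMap

namespace Cfsg.Agent.Lib.Helper6.AutOrt

open Cfsg.Agent.Lib.Helper6 Cfsg.Agent.Lib.Helper15 Cfsg.Agent.Lib.Helper6.AutPSL

variable {F : Type*} [Field F] [Fintype F] {ι : Type} [Fintype ι] [DecidableEq ι]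

/-- a hyperbolic pair -/
structure HPr (Q : QuadraticForm F (ι → F)) where
  e : ι → F
  f : ι → F
  he : Q e = 0
  hf : Q f = 0
  hef : polar (⇑Q) e f = 1

variable {Q : QuadraticForm F (ι → F)}

theorem HPr.hfe (P : HPr Q) : polar (⇑Q) P.f P.e = 1 := by rw [polar_comm, P.hef]

/-- the pair with the roles exchanged -/
def HPr.swap (P : HPr Q) : HPr Q := ⟨P.f, P.e, P.hf, P.he, P.hfe⟩

theorem HPr.e_ne (P : HPr Q) : P.e ≠ 0 := by
  intro h
  have := P.hef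
  rw [h, polar_zero_left] at this
  exact zero_ne_one this

theorem HPr.f_ne (P : HPr Q) : P.f ≠ 0 := P.swap.e_ne

/-- the complement of the pair -/
def HPr.W (P : HPr Q) (w : ι → F) : Prop := polar (⇑Q) P.e w = 0 ∧ polar (⇑Q) P.f w = 0

theorem HPr.W_zero (P : HPr Q) : P.W 0 := ⟨polar_zero_right _ _, polar_zero_right _ _⟩

theorem HPr.W_add (P : HPr Q) {w w' : ι → F} (h : P.W w) (h' : P.W w') : P.W (w + w') :=
  ⟨by rw [polar_add_right, h.1, h'.1, add_zero], by rw [polar_add_right, h.2, h'.2, add_zero]⟩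

theorem HPr.W_smul (P : HPr Q) (c : F) {w : ι → F} (h : P.W w) : P.W (c • w) :=
  ⟨by rw [polar_smul_right, h.1, smul_zero], by rw [polar_smul_right, h.2, smul_zero]⟩

theorem HPr.W_neg (P : HPr Q) {w : ι → F} (h : P.W w) : P.W (-w) :=
  ⟨by rw [polar_neg_right, h.1, neg_zero], by rw [polar_neg_right, h.2, neg_zero]⟩

theorem HPr.W_sub (P : HPr Q) {w w' : ι → F} (h : P.W w) (h' : P.W w') : P.W (w - w') :=
  ⟨by rw [polar_sub_right, h.1, h'.1, sub_zero], by rw [polar_sub_right, h.2, h'.2, sub_zero]⟩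

theorem HPr.W_swap (P : HPr Q) (w : ι → F) : P.swap.W w ↔ P.W w := and_comm

/-- projection to the complement along `e` -/
theorem HPr.proj_W (P : HPr Q) {w : ι → F} (hw : polar (⇑Q) P.e w = 0) :
    P.W (w - polar (⇑Q) P.f w • P.e) := by
  constructor
  · rw [polar_sub_right, polar_smul_right, hw, B_self_of_sing P.he]; simp
  · rw [polar_sub_right, polar_smul_right, P.hfe]; simp

theorem HPr.W_inter (P : HPr Q) {w : ι → F} (hw : P.W w) (c : F) (h : w = c • P.e) : w = 0 := by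
  have h2 := hw.2
  rw [h, polar_smul_right, P.hfe, smul_eq_mul, mul_one] at h2
  rw [h, h2, zero_smul]

/-- the line through `e` and a singular vector of the complement -/
def HPr.ln (P : HPr Q) (w : ι → F) (hw : P.W w) (hw0 : w ≠ 0) (hQw : Q w = 0) : Ln Q where
  p := P.e
  r := w
  hp := P.he
  hr := hQw
  hpr := hw.1
  hp0 := P.e_ne
  hind := fun c hc => hw0 (P.W_inter hw c hc)

section std
variable [hS : Std Q] (p : ℕ) [hp : Fact p.Prime] [hcp : CharP F p]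
include hp hcp

theorem pu_root_ne_one (L : Ln Q) {t : F} (ht : t ≠ 0) : pu (sg Q L.p (t • L.r)) ≠ 1 := by
  intro h
  have h1 := (pu_eq_one_iff _).mp h
  exact root_ne_one L ht (center_eq_one_of_pow (p := p) _ h1 1 (root_pow L t))

theorem pu_sg_eq_one {u w : ι → F} (hu0 : u ≠ 0) (hu : Q u = 0) (huw : polar (⇑Q) u w = 0)
    (h : pu (sg Q u w) = 1) : ∃ c : F, w = c • u := by
  have h1 := (pu_eq_one_iff _).mp h
  exact sg_eq_one hu0 hu huw (center_eq_one_of_pow (p := p) _ h1 1 (sg_pow_char' p hu huw))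

/-- the groups `Q_e`, `Q_f` of a hyperbolic pair meet trivially -/
theorem Qb_inf_hyp (P : HPr Q) : Qb (Q := Q) P.e ⊓ Qb P.f = ⊥ := by
  rw [eq_bot_iff]
  intro x hx
  obtain ⟨hx1, hx2⟩ := Subgroup.mem_inf.mp hx
  obtain ⟨g, hg, rfl⟩ := Subgroup.mem_map.mp hx1
  obtain ⟨g', hg', hgg'⟩ := Subgroup.mem_map.mp hx2
  have h1 : g' = g := eq_of_pu_eq (p := p) g' g 1 (Qv_pow p P.f_ne P.hf g' hg')
    (Qv_pow p P.e_ne P.he g hg) hgg'
  subst h1
  have h2 : g' = 1 := eq_one_of_mem_Qv_fix P.hef g' hg hg'.1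
  rw [Subgroup.mem_bot, h2, map_one]

/-- the groups `Q_u`, `Q_v` of perpendicular singular vectors meet non-trivially -/
theorem Qb_inf_ne_bot {u v : ι → F} (hu0 : u ≠ 0) (hv0 : v ≠ 0) (hu : Q u = 0) (hv : Q v = 0)
    (huv : polar (⇑Q) u v = 0) : Qb (Q := Q) u ⊓ Qb v ≠ ⊥ := by
  have hfin : 5 ≤ Module.finrank F (ι → F) := by
    rw [Module.finrank_fintype_fun_eq_card]; exact five_le Q
  by_cases hind : ∀ c : F, v ≠ c • u
  · let L : Ln Q := ⟨u, v, hu, hv, huv, hu0, hind⟩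
    intro h
    have h1 : pu (sg Q u ((1 : F) • v)) ∈ Qb (Q := Q) u ⊓ Qb v := by
      refine Subgroup.mem_inf.mpr ⟨Rb_le_Qb L (pu_sg_mem_Rb L 1), ?_⟩
      rw [one_smul, sg_symm hu hv huv]
      exact Subgroup.mem_map_of_mem _
        (sg_mem_Qv hv (by rw [polar_neg_right, polar_comm, huv, neg_zero]))
    rw [h, Subgroup.mem_bot] at h1
    exact pu_root_ne_one p L one_ne_zero h1
  · push Not at hind
    obtain ⟨c, hc⟩ := hind
    have hc0 : c ≠ 0 := by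
      rintro rfl
      rw [zero_smul] at hc
      exact hv0 hc
    have hQ : Qb (Q := Q) v = Qb u := by
      unfold Qb
      rw [hc, Qv_smul c hc0]
    rw [hQ, inf_idem]
    obtain ⟨x, y, hx, hy, hxy, hux, huy⟩ := exists_hyp_pair_perp Q hS.nondeg hfin u hu0 hu
    let L : Ln Q :=
      { p := u, r := x, hp := hu, hr := hx, hpr := hux, hp0 := hu0
        hind := by
          intro c hc
          have := hxy
          rw [hc, polar_smul_left, huy] at this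
          simp at this }
    intro h
    have h1 : pu (sg Q u ((1 : F) • x)) ∈ Qb (Q := Q) u := Rb_le_Qb L (pu_sg_mem_Rb L 1)
    rw [h, Subgroup.mem_bot] at h1
    exact pu_root_ne_one p L one_ne_zero h1

/-- after composing with an inner automorphism, the groups `Q_e` and `Q_f` are normalised -/
theorem exists_normalise (hP : HP Q) (P : HPr Q) (β : MulAut (Cfsg.POmega F ⇑Q)) :
    ∃ g : ↥(Cfsg.Omega F ⇑Q), img (MulAut.conj (pu g) * β) (Qb (Q := Q) P.e) = Qb P.e ∧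
      img (MulAut.conj (pu g) * β) (Qb (Q := Q) P.f) = Qb P.f := by
  obtain ⟨e', he'0, he', hβe⟩ := img_Qb p hP β P.e P.e_ne P.he
  obtain ⟨f', hf'0, hf', hβf⟩ := img_Qb p hP β P.f P.f_ne P.hf
  have hne : polar (⇑Q) e' f' ≠ 0 := by
    intro h0
    have h1 := Qb_inf_ne_bot p he'0 hf'0 he' hf' h0
    rw [← hβe, ← hβf, ← img_inf, Qb_inf_hyp p P, img_bot] at h1
    exact h1 rfl
  obtain ⟨g₁, hg₁, hg₁e⟩ := exists_Sg_move Q hS.nondeg (five_le Q) e' P.e he'0 P.e_ne he' P.he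
  rw [Sg_eq_Omega Q hS.nondeg (five_le Q)] at hg₁
  obtain ⟨k₁, hk₁⟩ : ∃ k₁ : ↥(Cfsg.Omega F ⇑Q), k₁ = ⟨g₁, hg₁⟩ := ⟨_, rfl⟩
  have hk₁e : av k₁ e' = P.e := by rw [hk₁]; exact hg₁e
  obtain ⟨c, hc⟩ : ∃ c, c = polar (⇑Q) P.e (av k₁ f') := ⟨_, rfl⟩
  have hc0 : c ≠ 0 := by rw [hc, ← hk₁e, B_av]; exact hne
  obtain ⟨f₂, hf₂⟩ : ∃ f₂, f₂ = c⁻¹ • av k₁ f' := ⟨_, rfl⟩
  have hQf₂ : Q f₂ = 0 := by rw [hf₂, Q_smul, Q_av, hf', mul_zero]
  have hef₂ : polar (⇑Q) P.e f₂ = 1 := by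
    rw [hf₂, polar_smul_right, ← hc, smul_eq_mul, inv_mul_cancel₀ hc0]
  obtain ⟨w, huw, hwe, hwf⟩ := exists_sieg_move_partner Q P.e f₂ P.f P.he hQf₂ P.hf hef₂ P.hef
  obtain ⟨k₂, hk₂⟩ : ∃ k₂ : ↥(Cfsg.Omega F ⇑Q), k₂ = sg Q P.e w := ⟨_, rfl⟩
  have hk₂e : av k₂ P.e = P.e := by
    rw [hk₂]; unfold av; rw [sg_val P.he huw]; exact hwe
  have hk₂f : av k₂ f₂ = P.f := by
    rw [hk₂]; unfold av; rw [sg_val P.he huw]; exact hwf
  refine ⟨k₂ * k₁, ?_, ?_⟩
  · rw [img_mul', hβe, img_conj_Qb _ he'0 he', av_mul, hk₁e, hk₂e]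
  · rw [img_mul', hβf, img_conj_Qb _ hf'0 hf', av_mul]
    have h1 : av k₁ f' = c • f₂ := by rw [hf₂, smul_smul, mul_inv_cancel₀ hc0, one_smul]
    rw [h1, av_smul, hk₂f]
    unfold Qb
    rw [Qv_smul c hc0]

end std

open Classical in
/-- the map induced on the complement by an automorphism normalising `Q_e` -/
noncomputable def TT [hS : Std Q] (P : HPr Q) (β : MulAut (Cfsg.POmega F ⇑Q)) (w : ι → F) : ι → F :=
  if h : ∃ w', P.W w' ∧ β (pu (sg Q P.e w)) = pu (sg Q P.e w') then Classical.choose h else 0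

section TT
variable [hS : Std Q] (p : ℕ) [hp : Fact p.Prime] [hcp : CharP F p]
  (P : HPr Q) (β : MulAut (Cfsg.POmega F ⇑Q)) (hβe : img β (Qb (Q := Q) P.e) = Qb P.e)
include hp hcp hβe

theorem exists_TT (w : ι → F) (hw : polar (⇑Q) P.e w = 0) :
    ∃ w', P.W w' ∧ β (pu (sg Q P.e w)) = pu (sg Q P.e w') := by
  have h1 : β (pu (sg Q P.e w)) ∈ img β (Qb (Q := Q) P.e) :=
    mem_img_of β _ (Subgroup.mem_map_of_mem _ (sg_mem_Qv P.he hw))
  rw [hβe, mem_Qb P.e_ne P.he] at h1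
  obtain ⟨w'', hw'', h2⟩ := h1
  refine ⟨w'' - polar (⇑Q) P.f w'' • P.e, P.proj_W hw'', ?_⟩
  rw [h2, sub_eq_add_neg, ← neg_smul, sg_add_smul _ P.he hw'']

theorem TT_spec (w : ι → F) (hw : polar (⇑Q) P.e w = 0) :
    P.W (TT P β w) ∧ β (pu (sg Q P.e w)) = pu (sg Q P.e (TT P β w)) := by
  unfold TT
  rw [dif_pos (exists_TT p P β hβe w hw)]
  exact Classical.choose_spec (exists_TT p P β hβe w hw)

theorem TT_unique (w w' : ι → F) (hw : polar (⇑Q) P.e w = 0) (hw' : P.W w')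
    (h : β (pu (sg Q P.e w)) = pu (sg Q P.e w')) : TT P β w = w' := by
  obtain ⟨h1, h2⟩ := TT_spec p P β hβe w hw
  rw [h] at h2
  have h3 := eq_of_pu_eq (p := p) _ _ 1 (sg_pow_char' p P.he hw'.1) (sg_pow_char' p P.he h1.1) h2
  obtain ⟨c, hc⟩ := sg_eq_sg P.e_ne P.he hw'.1 h1.1 h3
  have h4 := h1.2
  rw [hc, polar_add_right, hw'.2, polar_smul_right, P.hfe, smul_eq_mul, mul_one, zero_add] at h4
  rw [hc, h4, zero_smul, add_zero]

theorem TT_add (w₁ w₂ : ι → F) (h₁ : polar (⇑Q) P.e w₁ = 0) (h₂ : polar (⇑Q) P.e w₂ = 0) :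
    TT P β (w₁ + w₂) = TT P β w₁ + TT P β w₂ := by
  obtain ⟨a1, a2⟩ := TT_spec p P β hβe w₁ h₁
  obtain ⟨b1, b2⟩ := TT_spec p P β hβe w₂ h₂
  apply TT_unique p P β hβe _ _ (by rw [polar_add_right, h₁, h₂, add_zero]) (P.W_add a1 b1)
  rw [← sg_mul P.he h₁ h₂, map_mul, map_mul, a2, b2, ← map_mul, sg_mul P.he a1.1 b1.1]

theorem TT_zero : TT P β 0 = 0 := by
  have := TT_add p P β hβe 0 0 (polar_zero_right _ _) (polar_zero_right _ _)
  rw [add_zero] at this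
  exact left_eq_add.mp this

theorem TT_ne_zero (w : ι → F) (hw : P.W w) (hw0 : w ≠ 0) : TT P β w ≠ 0 := by
  intro h
  obtain ⟨a1, a2⟩ := TT_spec p P β hβe w hw.1
  rw [h, sg_zero, map_one] at a2
  have h1 : pu (sg Q P.e w) = 1 := by
    have := congrArg β.symm a2
    rwa [MulEquiv.symm_apply_apply, map_one] at this
  obtain ⟨c, hc⟩ := pu_sg_eq_one p P.e_ne P.he hw.1 h1
  exact hw0 (P.W_inter hw c hc)

theorem img_symm_Qb : img β.symm (Qb (Q := Q) P.e) = Qb P.e := by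
  have := img_symm_img β (Qb (Q := Q) P.e)
  rw [hβe] at this
  exact this

theorem TT_symm (w : ι → F) (hw : P.W w) : TT P β.symm (TT P β w) = w := by
  obtain ⟨a1, a2⟩ := TT_spec p P β hβe w hw.1
  apply TT_unique p P β.symm (img_symm_Qb p P β hβe) _ _ a1.1 hw
  rw [← a2, MulEquiv.symm_apply_apply]

/-- singular vectors go to singular vectors -/
theorem TT_sing (w : ι → F) (hw : P.W w) (hQw : Q w = 0) : Q (TT P β w) = 0 := by
  by_cases hw0 : w = 0
  · rw [hw0, TT_zero p P β hβe, map_zero]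
  obtain ⟨a1, a2⟩ := TT_spec p P β hβe w hw.1
  obtain ⟨L', hL'⟩ := root_perm p β (P.ln w hw hw0 hQw)
  have h1 : β (pu (sg Q P.e ((1 : F) • w))) ∈ Rb L' := by
    rw [← hL']
    exact mem_img_of β _ (pu_sg_mem_Rb (P.ln w hw hw0 hQw) 1)
  rw [one_smul, a2] at h1
  obtain ⟨s, hs⟩ := (mem_Rb L' _).mp h1
  have h2 := eq_of_pu_eq (p := p) _ _ 1 (sg_pow_char' p P.he a1.1) (root_pow L' s) hs
  exact sing_of_root_eq L' s P.e_ne P.he a1.1 h2.symm

/-- singular points go to singular points -/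
theorem TT_line (w : ι → F) (hw : P.W w) (hQw : Q w = 0) (c : F) :
    ∃ d : F, TT P β (c • w) = d • TT P β w := by
  by_cases hw0 : w = 0
  · refine ⟨0, ?_⟩
    rw [hw0, smul_zero, TT_zero p P β hβe, smul_zero]
  obtain ⟨a1, a2⟩ := TT_spec p P β hβe w hw.1
  obtain ⟨L', hL'⟩ := root_perm p β (P.ln w hw hw0 hQw)
  have hT0 := TT_ne_zero p P β hβe w hw hw0
  have hTs := TT_sing p P β hβe w hw hQw
  have h1 : pu (sg Q P.e ((1 : F) • TT P β w)) ∈ Rb L' := by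
    rw [← hL', one_smul, ← a2]
    have := mem_img_of β _ (pu_sg_mem_Rb (P.ln w hw hw0 hQw) 1)
    rwa [one_smul] at this
  have h2 := Rb_eq_of_common p L' (P.ln (TT P β w) a1 hT0 hTs) 1 one_ne_zero h1
  have h3 : β (pu (sg Q P.e (c • w))) ∈ Rb (P.ln (TT P β w) a1 hT0 hTs) := by
    rw [h2, ← hL']
    exact mem_img_of β _ (pu_sg_mem_Rb (P.ln w hw hw0 hQw) c)
  obtain ⟨d, hd⟩ := (mem_Rb _ _).mp h3
  exact ⟨d, TT_unique p P β hβe _ _ (P.W_smul c hw).1 (P.W_smul d a1) hd⟩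

end TT

end Cfsg.Agent.Lib.Helper6.AutOrt
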