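import Mathlib
import Cfsg.Agent.Lib.Helper6.SiegelPerfect

/-!
# Automorphisms of orthogonal groups, part 11: additive bijections of a quadratic space over a
finite field which preserve the singular points are semisimilarities
-/

set_option autoImplicit false
set_option linter.unusedSectionVars false
set_option linter.unusedVariables false

open QuadraticMap Module

namespace Cfsg.Agent.Lib.Helper6.AutOrt

open Cfsg.Agent.Lib.Helper6 Cfsg.Agent.Lib.Helper15

variable {F V : Type*} [Field F] [Fintype F] [AddCommGroup V] [Module F V] [FiniteDimensional F V]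

/-- an additive bijection (with its inverse) preserving the singular points -/
structure SPres (Q : QuadraticForm F V) (T T' : V → V) : Prop where
  add : ∀ x y, T (x + y) = T x + T y
  add' : ∀ x y, T' (x + y) = T' x + T' y
  TT' : ∀ x, T (T' x) = x
  T'T : ∀ x, T' (T x) = x
  sing : ∀ u, Q u = 0 → Q (T u) = 0
  sing' : ∀ u, Q u = 0 → Q (T' u) = 0
  line : ∀ u, Q u = 0 → ∀ c : F, ∃ d : F, T (c • u) = d • T u
  line' : ∀ u, Q u = 0 → ∀ c : F, ∃ d : F, T' (c • u) = d • T' u

theorem indep_aux {x y : V} (hx : x ≠ 0) (hy : ∀ c : F, y ≠ c • x) {a b : F}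
    (hab : a • x + b • y = 0) : a = 0 ∧ b = 0 := by
  have hb : b = 0 := by
    by_contra hb
    apply hy (-a / b)
    have e : b • y = -(a • x) := eq_neg_of_add_eq_zero_right hab
    have e2 : y = b⁻¹ • (b • y) := by rw [smul_smul, inv_mul_cancel₀ hb, one_smul]
    rw [e2, e, smul_neg, smul_smul, neg_div, neg_smul]
    congr 2
    field_simp
  subst hb
  rw [zero_smul, add_zero] at hab
  rcases smul_eq_zero.mp hab with h | h
  · exact ⟨h, rfl⟩
  · exact absurd h hx

theorem qadd (Q : QuadraticForm F V) (x y : V) : Q (x + y) = Q x + Q y + polar (⇑Q) x y := by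
  unfold polar; ring

theorem qsmul (Q : QuadraticForm F V) (a : F) (x : V) : Q (a • x) = a * a * Q x := by
  rw [QuadraticMap.map_smul, smul_eq_mul]

theorem qsub (Q : QuadraticForm F V) (x y : V) : Q (x - y) = Q x + Q y - polar (⇑Q) x y := by
  rw [sub_eq_add_neg, qadd, QuadraticMap.map_neg, polar_neg_right]; ring

theorem qsmul_sing (Q : QuadraticForm F V) {u : V} (hu : Q u = 0) (c : F) : Q (c • u) = 0 := by
  rw [QuadraticMap.map_smul, hu, smul_zero]

theorem bself_sing (Q : QuadraticForm F V) {u : V} (hu : Q u = 0) : polar (⇑Q) u u = 0 := by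
  rw [polar_self, hu, smul_zero]

/-- adding a combination of a hyperbolic pair to make a vector singular -/
theorem exists_sing_add (Q : QuadraticForm F V) {z y : V} (hz : Q z = 0) (hy : Q y = 0)
    (hzy : polar (⇑Q) z y = 1) (x : V) : ∃ a b : F, Q (x + a • z + b • y) = 0 := by
  refine ⟨1 - polar (⇑Q) x y, polar (⇑Q) x y * polar (⇑Q) x z - polar (⇑Q) x z - Q x, ?_⟩
  simp only [qadd, qsmul, polar_add_left, polar_add_right,
    polar_smul_left, polar_smul_right, hz, hy, hzy, smul_eq_mul]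
  ring

/-- induction over sums of singular vectors -/
theorem sing_induction (Q : QuadraticForm F V) (hQ : (polarBilin Q).Nondegenerate)
    (h5 : 5 ≤ finrank F V) {P : V → Prop} (h0 : ∀ s, Q s = 0 → P s)
    (hadd : ∀ x y, P x → P y → P (x + y)) (x : V) : P x := by
  obtain ⟨z, hz0, hz, -, -⟩ := exists_singular_perp Q h5 0 0
  obtain ⟨y, hy, hzy⟩ := exists_hyperbolic_partner Q hQ z hz0 hz
  obtain ⟨a, b, hab⟩ := exists_sing_add Q hz hy hzy x
  have e : x = (x + a • z + b • y) + (-a) • z + (-b) • y := by module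
  rw [e]
  exact hadd _ _ (hadd _ _ (h0 _ hab) (h0 _ (qsmul_sing Q hz _))) (h0 _ (qsmul_sing Q hy _))

/-- induction over sums of singular vectors perpendicular to a singular vector -/
theorem sing_induction_perp (Q : QuadraticForm F V) (hQ : (polarBilin Q).Nondegenerate)
    (h5 : 5 ≤ finrank F V) (u : V) (hu0 : u ≠ 0) (hu : Q u = 0) {P : V → Prop}
    (h0 : ∀ s, Q s = 0 → polar (⇑Q) u s = 0 → P s)
    (hadd : ∀ x y, P x → P y → P (x + y)) (x : V) (hx : polar (⇑Q) u x = 0) : P x := by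
  obtain ⟨z, y, hz, hy, hzy, huz, huy⟩ := exists_hyp_pair_perp Q hQ h5 u hu0 hu
  obtain ⟨a, b, hab⟩ := exists_sing_add Q hz hy hzy x
  have e : x = (x + a • z + b • y) + (-a) • z + (-b) • y := by module
  rw [e]
  refine hadd _ _ (hadd _ _ (h0 _ hab ?_) (h0 _ (qsmul_sing Q hz _) ?_))
    (h0 _ (qsmul_sing Q hy _) ?_)
  · rw [polar_add_right, polar_add_right, polar_smul_right, polar_smul_right, hx, huz, huy]
    simp
  · rw [polar_smul_right, huz, smul_zero]
  · rw [polar_smul_right, huy, smul_zero]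

namespace SPres

variable {Q : QuadraticForm F V} {T T' : V → V} (h : SPres Q T T')
include h

theorem symm : SPres Q T' T := ⟨h.add', h.add, h.T'T, h.TT', h.sing', h.sing, h.line', h.line⟩

theorem zero : T 0 = 0 := by
  have := h.add 0 0
  rw [add_zero] at this
  exact left_eq_add.mp this

theorem neg (x : V) : T (-x) = -T x := by
  have := h.add x (-x)
  rw [add_neg_cancel, h.zero] at this
  exact eq_neg_of_add_eq_zero_right this.symm

theorem sub (x y : V) : T (x - y) = T x - T y := by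
  rw [sub_eq_add_neg, h.add, h.neg, ← sub_eq_add_neg]

theorem inj {x y : V} (hxy : T x = T y) : x = y := by
  rw [← h.T'T x, hxy, h.T'T]

theorem ne_zero {x : V} (hx : x ≠ 0) : T x ≠ 0 := fun h0 => hx (h.inj (h0.trans h.zero.symm))

theorem perp_sing {u u' : V} (hu : Q u = 0) (hu' : Q u' = 0) (huu' : polar (⇑Q) u u' = 0) :
    polar (⇑Q) (T u) (T u') = 0 := by
  have h1 : Q (u + u') = 0 := by rw [qadd, hu, hu', huu']; simp
  have h2 := h.sing _ h1
  rw [h.add, qadd, h.sing u hu, h.sing u' hu'] at h2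
  simpa using h2

theorem not_mul {u u' : V} (hu : Q u = 0) (hind : ∀ c : F, u' ≠ c • u) :
    ∀ c : F, T u' ≠ c • T u := by
  intro c hc
  obtain ⟨d, hd⟩ := h.line' (T u) (h.sing u hu) c
  rw [← hc, h.T'T, h.T'T] at hd
  exact hind d hd

theorem scal_eq_perp {u u' : V} (hu : Q u = 0) (hu' : Q u' = 0) (huu' : polar (⇑Q) u u' = 0)
    (hu0 : u ≠ 0) (hind : ∀ c : F, u' ≠ c • u) (c d d' : F) (hd : T (c • u) = d • T u)
    (hd' : T (c • u') = d' • T u') : d = d' := by
  have h1 : Q (u + u') = 0 := by rw [qadd, hu, hu', huu']; simp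
  obtain ⟨d'', hd''⟩ := h.line (u + u') h1 c
  rw [smul_add, h.add, h.add, hd, hd'] at hd''
  have h2 : (d - d'') • T u + (d' - d'') • T u' = 0 := by
    have e : (d - d'') • T u + (d' - d'') • T u' = (d • T u + d' • T u') - d'' • (T u + T u') := by
      module
    rw [e, hd'', sub_self]
  obtain ⟨h3, h4⟩ := indep_aux (h.ne_zero hu0) (h.not_mul hu hind) h2
  rw [sub_eq_zero.mp h3, sub_eq_zero.mp h4]

theorem scal_eq_nonperp (h5 : 5 ≤ finrank F V) {u u' : V} (hu : Q u = 0) (hu' : Q u' = 0)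
    (huu' : polar (⇑Q) u u' ≠ 0) (c d d' : F) (hd : T (c • u) = d • T u)
    (hd' : T (c • u') = d' • T u') : d = d' := by
  obtain ⟨z, hz0, hz, huz, hu'z⟩ := exists_singular_perp Q h5 u u'
  obtain ⟨dz, hdz⟩ := h.line z hz c
  have hu0 : u ≠ 0 := by
    rintro rfl
    exact huu' (polar_zero_left _ _)
  have hu'0 : u' ≠ 0 := by
    rintro rfl
    exact huu' (polar_zero_right _ _)
  have hind : ∀ c' : F, z ≠ c' • u := by
    intro c' hc'
    rw [hc', polar_smul_right, polar_comm, smul_eq_mul] at hu'z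
    rcases mul_eq_zero.mp hu'z with h0 | h0
    · rw [h0, zero_smul] at hc'
      exact hz0 hc'
    · exact huu' h0
  have hind' : ∀ c' : F, z ≠ c' • u' := by
    intro c' hc'
    rw [hc', polar_smul_right, smul_eq_mul] at huz
    rcases mul_eq_zero.mp huz with h0 | h0
    · rw [h0, zero_smul] at hc'
      exact hz0 hc'
    · exact huu' h0
  rw [h.scal_eq_perp hu hz huz hu0 hind c d dz hd hdz,
    h.scal_eq_perp hu' hz hu'z hu'0 hind' c d' dz hd' hdz]

theorem scal_eq (hQ : (polarBilin Q).Nondegenerate) (h5 : 5 ≤ finrank F V) {u u' : V}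
    (hu : Q u = 0) (hu' : Q u' = 0) (hu0 : u ≠ 0) (hu'0 : u' ≠ 0) (c d d' : F)
    (hd : T (c • u) = d • T u) (hd' : T (c • u') = d' • T u') : d = d' := by
  by_cases huu' : polar (⇑Q) u u' = 0
  · by_cases hind : ∀ c : F, u' ≠ c • u
    · exact h.scal_eq_perp hu hu' huu' hu0 hind c d d' hd hd'
    · push Not at hind
      obtain ⟨a, ha⟩ := hind
      have ha0 : a ≠ 0 := by
        rintro rfl
        rw [zero_smul] at ha
        exact hu'0 ha
      obtain ⟨v, hv, huv⟩ := exists_hyperbolic_partner Q hQ u hu0 hu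
      obtain ⟨dv, hdv⟩ := h.line v hv c
      have h1 : polar (⇑Q) u v ≠ 0 := by rw [huv]; exact one_ne_zero
      have h2 : polar (⇑Q) u' v ≠ 0 := by
        rw [ha, polar_smul_left, huv, smul_eq_mul, mul_one]; exact ha0
      rw [h.scal_eq_nonperp h5 hu hv h1 c d dv hd hdv, h.scal_eq_nonperp h5 hu' hv h2 c d' dv hd' hdv]
  · exact h.scal_eq_nonperp h5 hu hu' huu' c d d' hd hd'

theorem exists_sigma0 (hQ : (polarBilin Q).Nondegenerate) (h5 : 5 ≤ finrank F V) :
    ∃ s : F → F, ∀ u, Q u = 0 → ∀ c, T (c • u) = s c • T u := by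
  obtain ⟨u₀, hu₀0, hu₀, -, -⟩ := exists_singular_perp Q h5 0 0
  choose s hs using h.line u₀ hu₀
  refine ⟨s, fun u hu c => ?_⟩
  by_cases hu0 : u = 0
  · rw [hu0, smul_zero, h.zero, smul_zero]
  obtain ⟨d, hd⟩ := h.line u hu c
  rw [hd, h.scal_eq hQ h5 hu hu₀ hu0 hu₀0 c d (s c) hd (hs c)]

/-- the map is semilinear -/
theorem exists_sigma (hQ : (polarBilin Q).Nondegenerate) (h5 : 5 ≤ finrank F V) :
    ∃ σ : F ≃+* F, ∀ (c : F) (x : V), T (c • x) = σ c • T x := by
  obtain ⟨σ₀, hσ₀⟩ := h.exists_sigma0 hQ h5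
  obtain ⟨u₀, hu₀0, hu₀, -, -⟩ := exists_singular_perp Q h5 0 0
  have hT0 := h.ne_zero hu₀0
  have hinj : ∀ a b : F, a • T u₀ = b • T u₀ → a = b := by
    intro a b hab
    have h1 : (a - b) • T u₀ = 0 := by rw [sub_smul, hab, sub_self]
    rcases smul_eq_zero.mp h1 with h2 | h2
    · exact sub_eq_zero.mp h2
    · exact absurd h2 hT0
  have hadd : ∀ c d, σ₀ (c + d) = σ₀ c + σ₀ d := by
    intro c d
    apply hinj
    rw [← hσ₀ _ hu₀, add_smul, add_smul, h.add, hσ₀ _ hu₀, hσ₀ _ hu₀]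
  have hmul : ∀ c d, σ₀ (c * d) = σ₀ c * σ₀ d := by
    intro c d
    apply hinj
    rw [← hσ₀ _ hu₀, mul_smul, hσ₀ _ (qsmul_sing Q hu₀ d), hσ₀ _ hu₀, smul_smul]
  have hone : σ₀ 1 = 1 := by
    apply hinj
    rw [← hσ₀ _ hu₀, one_smul, one_smul]
  have hzero : σ₀ 0 = 0 := by
    have := hadd 0 0
    rw [add_zero] at this
    exact left_eq_add.mp this
  let σh : F →+* F :=
    { toFun := σ₀
      map_one' := hone
      map_mul' := hmul
      map_zero' := hzero
      map_add' := hadd }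
  have hbij : Function.Bijective σh :=
    ⟨σh.injective, Finite.injective_iff_surjective.mp σh.injective⟩
  refine ⟨RingEquiv.ofBijective σh hbij, ?_⟩
  intro c x
  change T (c • x) = σ₀ c • T x
  refine sing_induction Q hQ h5 (P := fun x => T (c • x) = σ₀ c • T x) (fun s hs => hσ₀ s hs c) ?_ x
  intro x y hx hy
  rw [smul_add, h.add, hx, hy, h.add, smul_add]

/-- perpendicularity to a singular vector is preserved -/
theorem perp_of_sing (hQ : (polarBilin Q).Nondegenerate) (h5 : 5 ≤ finrank F V) {u : V}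
    (hu : Q u = 0) (x : V) (hx : polar (⇑Q) u x = 0) : polar (⇑Q) (T u) (T x) = 0 := by
  by_cases hu0 : u = 0
  · rw [hu0, h.zero, polar_zero_left]
  refine sing_induction_perp Q hQ h5 u hu0 hu (P := fun x => polar (⇑Q) (T u) (T x) = 0)
    (fun s hs hus => h.perp_sing hu hs hus) ?_ x hx
  intro x y hx hy
  rw [h.add, polar_add_right, hx, hy, add_zero]

/-- **additive bijections preserving the singular points are semisimilarities** -/
theorem exists_semisim (hQ : (polarBilin Q).Nondegenerate) (h5 : 5 ≤ finrank F V) :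
    ∃ (σ : F ≃+* F) (ν : F), ν ≠ 0 ∧ (∀ (c : F) (x : V), T (c • x) = σ c • T x) ∧
      (∀ x y : V, polar (⇑Q) (T x) (T y) = ν * σ (polar (⇑Q) x y)) ∧
      (∀ x : V, Q (T x) = ν * σ (Q x)) := by
  obtain ⟨σ, hσ⟩ := h.exists_sigma hQ h5
  -- the multiplier at a singular vector
  have hnu : ∀ u : V, Q u = 0 → u ≠ 0 → ∃ ν : F, ∀ x, polar (⇑Q) (T u) (T x) = ν * σ (polar (⇑Q) u x) := by
    intro u hu hu0
    obtain ⟨v, hv, huv⟩ := exists_hyperbolic_partner Q hQ u hu0 hu
    refine ⟨polar (⇑Q) (T u) (T v), fun x => ?_⟩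
    have h1 : polar (⇑Q) u (x - polar (⇑Q) u x • v) = 0 := by
      rw [polar_sub_right, polar_smul_right, huv]; simp
    have h2 := h.perp_of_sing hQ h5 hu _ h1
    rw [h.sub, hσ, polar_sub_right, polar_smul_right, smul_eq_mul, sub_eq_zero] at h2
    rw [h2, mul_comm]
  obtain ⟨u₀, hu₀0, hu₀, -, -⟩ := exists_singular_perp Q h5 0 0
  obtain ⟨ν, hν⟩ := hnu u₀ hu₀ hu₀0
  -- independence of the singular vector
  have hnu_eq : ∀ u u' : V, Q u = 0 → Q u' = 0 → polar (⇑Q) u u' ≠ 0 → ∀ ν₁ ν₂ : F,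
      (∀ x, polar (⇑Q) (T u) (T x) = ν₁ * σ (polar (⇑Q) u x)) →
      (∀ x, polar (⇑Q) (T u') (T x) = ν₂ * σ (polar (⇑Q) u' x)) → ν₁ = ν₂ := by
    intro u u' hu hu' huu' ν₁ ν₂ h1 h2
    have e1 := h1 u'
    have e2 := h2 u
    rw [polar_comm, polar_comm (⇑Q) u' u, e1] at e2
    have h3 : σ (polar (⇑Q) u u') ≠ 0 := by
      intro h0
      exact huu' ((map_eq_zero σ).mp h0)
    exact mul_right_cancel₀ h3 e2
  have hnu_all : ∀ u : V, Q u = 0 → ∀ x, polar (⇑Q) (T u) (T x) = ν * σ (polar (⇑Q) u x) := by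
    intro u hu x
    by_cases hu0 : u = 0
    · rw [hu0, h.zero, polar_zero_left, polar_zero_left, map_zero, mul_zero]
    obtain ⟨ν', hν'⟩ := hnu u hu hu0
    rw [hν']
    congr 1
    by_cases huu : polar (⇑Q) u u₀ = 0
    · -- find a singular vector not perpendicular to both
      obtain ⟨w, hw, h1, h2⟩ : ∃ w, Q w = 0 ∧ polar (⇑Q) u w ≠ 0 ∧ polar (⇑Q) u₀ w ≠ 0 := by
        by_cases hind : ∀ c : F, u₀ ≠ c • u
        · obtain ⟨w₀, hw1, hw2⟩ := exists_polar_values Q hQ u u₀ hu0 hind 1 1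
          refine ⟨w₀ - Q w₀ • u, ?_, ?_, ?_⟩
          · rw [qsub, qsmul, hu, polar_smul_right, polar_comm, hw1]
            simp
          · rw [polar_sub_right, polar_smul_right, bself_sing Q hu, hw1]; simp
          · rw [polar_sub_right, polar_smul_right, polar_comm (⇑Q) u₀ u, huu, hw2]; simp
        · push Not at hind
          obtain ⟨a, ha⟩ := hind
          have ha0 : a ≠ 0 := by
            rintro rfl
            rw [zero_smul] at ha
            exact hu₀0 ha
          obtain ⟨v, hv, huv⟩ := exists_hyperbolic_partner Q hQ u hu0 hu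
          refine ⟨v, hv, by rw [huv]; exact one_ne_zero, ?_⟩
          rw [ha, polar_smul_left, huv, smul_eq_mul, mul_one]; exact ha0
      obtain ⟨νw, hνw⟩ := hnu w hw (by rintro rfl; exact h1 (polar_zero_right _ _))
      rw [hnu_eq u w hu hw h1 ν' νw hν' hνw, hnu_eq u₀ w hu₀ hw h2 ν νw hν hνw]
    · exact hnu_eq u u₀ hu hu₀ huu ν' ν hν' hν
  have hB : ∀ x y : V, polar (⇑Q) (T x) (T y) = ν * σ (polar (⇑Q) x y) := by
    intro x y
    refine sing_induction Q hQ h5 (P := fun x => polar (⇑Q) (T x) (T y) = ν * σ (polar (⇑Q) x y))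
      (fun s hs => hnu_all s hs y) ?_ x
    intro a b ha hb
    rw [h.add, polar_add_left, ha, hb, polar_add_left, map_add, mul_add]
  have hν0 : ν ≠ 0 := by
    rintro rfl
    obtain ⟨v, hv, huv⟩ := exists_hyperbolic_partner Q hQ u₀ hu₀0 hu₀
    have := hB (T' u₀) (T' v)
    rw [h.TT', h.TT', huv, zero_mul] at this
    exact one_ne_zero this
  refine ⟨σ, ν, hν0, hσ, hB, ?_⟩
  intro x
  refine sing_induction Q hQ h5 (P := fun x => Q (T x) = ν * σ (Q x)) ?_ ?_ x
  · intro s hs
    rw [h.sing s hs, hs, map_zero, mul_zero]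
  · intro a b ha hb
    rw [h.add, qadd, ha, hb, hB, qadd, map_add, map_add]
    ring

end SPres

end Cfsg.Agent.Lib.Helper6.AutOrt
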