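import Mathlib
import Cfsg.Agent.Lib.Helper6.AutOrt10
import Cfsg.Agent.Lib.Helper6.AutOrt11

/-!
# Automorphisms of orthogonal groups, part 12: the induced map on the complement is a
semisimilarity
-/

set_option autoImplicit false
set_option linter.unusedSectionVars false
set_option linter.unusedVariables false

open Cfsg Matrix QuadraticMap Module

namespace Cfsg.Agent.Lib.Helper6.AutOrt

open Cfsg.Agent.Lib.Helper6 Cfsg.Agent.Lib.Helper15 Cfsg.Agent.Lib.Helper6.AutPSL

section generic
variable {F V : Type*} [Field F] [Fintype F] [AddCommGroup V] [Module F V] [FiniteDimensional F V]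

/-- the non-zero singular vectors are connected by the relation of being perpendicular and
independent -/
theorem sing_connected (Q : QuadraticForm F V) (hQ : (polarBilin Q).Nondegenerate)
    (h5 : 5 ≤ finrank F V) (R : V → V → Prop) (hsymm : ∀ a b, R a b → R b a)
    (htrans : ∀ a b c, b ≠ 0 → R a b → R b c → R a c)
    (hperp : ∀ u u', Q u = 0 → Q u' = 0 → polar (⇑Q) u u' = 0 → u ≠ 0 → (∀ c : F, u' ≠ c • u) →
      R u u') :
    ∀ u u', Q u = 0 → Q u' = 0 → u ≠ 0 → u' ≠ 0 → R u u' := by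
  have hnonperp : ∀ u u', Q u = 0 → Q u' = 0 → polar (⇑Q) u u' ≠ 0 → R u u' := by
    intro u u' hu hu' huu'
    obtain ⟨z, hz0, hz, huz, hu'z⟩ := exists_singular_perp Q h5 u u'
    have hu0 : u ≠ 0 := by
      rintro rfl
      exact huu' (polar_zero_left _ _)
    have hu'0 : u' ≠ 0 := by
      rintro rfl
      exact huu' (polar_zero_right _ _)
    have hind : ∀ c' : F, z ≠ c' • u := by
      intro c' hc'
      rw [hc', polar_smul_right, polar_comm, smul_eq_mul] at hu'z
      rcases mul_eq_zero.mp hu'z with h0 | h0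
      · rw [h0, zero_smul] at hc'
        exact hz0 hc'
      · exact huu' h0
    have hind' : ∀ c' : F, z ≠ c' • u' := by
      intro c' hc'
      rw [hc', polar_smul_right, smul_eq_mul] at huz
      rcases mul_eq_zero.mp huz with h0 | h0
      · rw [h0, zero_smul] at hc'
        exact hz0 hc'
      · exact huu' h0
    exact htrans u z u' hz0 (hperp u z hu hz huz hu0 hind)
      (hsymm _ _ (hperp u' z hu' hz hu'z hu'0 hind'))
  intro u u' hu hu' hu0 hu'0
  by_cases huu' : polar (⇑Q) u u' = 0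
  · by_cases hind : ∀ c : F, u' ≠ c • u
    · exact hperp u u' hu hu' huu' hu0 hind
    · push Not at hind
      obtain ⟨a, ha⟩ := hind
      have ha0 : a ≠ 0 := by
        rintro rfl
        rw [zero_smul] at ha
        exact hu'0 ha
      obtain ⟨v, hv, huv⟩ := exists_hyperbolic_partner Q hQ u hu0 hu
      have h1 : polar (⇑Q) u v ≠ 0 := by rw [huv]; exact one_ne_zero
      have h2 : polar (⇑Q) u' v ≠ 0 := by
        rw [ha, polar_smul_left, huv, smul_eq_mul, mul_one]; exact ha0
      have hv0 : v ≠ 0 := by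
        rintro rfl
        exact h1 (polar_zero_right _ _)
      exact htrans u v u' hv0 (hnonperp u v hu hv h1) (hsymm _ _ (hnonperp u' v hu' hv h2))
  · exact hnonperp u u' hu hu' huu'

/-- an additive map fixing all singular points is a scalar -/
theorem scalar_of_fix_sing (Q : QuadraticForm F V) (hQ : (polarBilin Q).Nondegenerate)
    (h5 : 5 ≤ finrank F V) (T : V → V) (hadd : ∀ x y, T (x + y) = T x + T y)
    (hfix : ∀ u, Q u = 0 → ∃ d : F, T u = d • u) : ∃ d : F, ∀ x, T x = d • x := by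
  obtain ⟨u₀, hu₀0, hu₀, -, -⟩ := exists_singular_perp Q h5 0 0
  obtain ⟨d₀, hd₀⟩ := hfix u₀ hu₀
  have hT0 : T 0 = 0 := by
    have := hadd 0 0
    rw [add_zero] at this
    exact left_eq_add.mp this
  have key := sing_connected Q hQ h5 (fun u u' => ∃ d : F, T u = d • u ∧ T u' = d • u')
    (fun a b ⟨d, h1, h2⟩ => ⟨d, h2, h1⟩)
    (by
      rintro a b c hb ⟨d₁, h1, h2⟩ ⟨d₂, h3, h4⟩
      have h5 : (d₁ - d₂) • b = 0 := by rw [sub_smul, ← h2, ← h3, sub_self]
      rcases smul_eq_zero.mp h5 with h6 | h6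
      · refine ⟨d₁, h1, ?_⟩
        rw [h4, sub_eq_zero.mp h6]
      · exact absurd h6 hb)
    (by
      intro u u' hu hu' huu' hu0 hind
      obtain ⟨d, hd⟩ := hfix u hu
      obtain ⟨d', hd'⟩ := hfix u' hu'
      have h1 : Q (u + u') = 0 := by rw [qadd, hu, hu', huu']; simp
      obtain ⟨d'', hd''⟩ := hfix (u + u') h1
      rw [hadd, hd, hd'] at hd''
      have h2 : (d - d'') • u + (d' - d'') • u' = 0 := by
        have e : (d - d'') • u + (d' - d'') • u' = (d • u + d' • u') - d'' • (u + u') := by module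
        rw [e, hd'', sub_self]
      obtain ⟨h3, h4⟩ := indep_aux hu0 hind h2
      refine ⟨d, hd, ?_⟩
      rw [hd', sub_eq_zero.mp h4, ← sub_eq_zero.mp h3])
  refine ⟨d₀, fun x => ?_⟩
  refine sing_induction Q hQ h5 (P := fun x => T x = d₀ • x) ?_ ?_ x
  · intro s hs
    by_cases hs0 : s = 0
    · rw [hs0, hT0, smul_zero]
    obtain ⟨d, h1, h2⟩ := key u₀ s hu₀ hs hu₀0 hs0
    have h3 : (d - d₀) • u₀ = 0 := by rw [sub_smul, ← h1, ← hd₀, sub_self]
    rcases smul_eq_zero.mp h3 with h4 | h4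
    · rw [h2, sub_eq_zero.mp h4]
    · exact absurd h4 hu₀0
  · intro a b ha hb
    rw [hadd, ha, hb, smul_add]

end generic

variable {F : Type*} [Field F] [Fintype F] {ι : Type} [Fintype ι] [DecidableEq ι]
variable {Q : QuadraticForm F (ι → F)} [hS : Std Q]

/-- the complement of a hyperbolic pair as a submodule -/
abbrev HPr.Wm (P : HPr Q) : Submodule F (ι → F) := perpPair Q P.e P.f

/-- the quadratic form on the complement -/
abbrev HPr.QW (P : HPr Q) : QuadraticForm F ↥P.Wm := Q.comp P.Wm.subtype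

theorem HPr.mem_Wm (P : HPr Q) (w : ι → F) : w ∈ P.Wm ↔ P.W w := mem_perpPair Q P.e P.f w

theorem HPr.QW_nondeg (P : HPr Q) : (polarBilin P.QW).Nondegenerate :=
  nondegenerate_perpPair Q hS.nondeg P.e P.f P.hf P.he P.hef

theorem HPr.finrank_Wm (P : HPr Q) : 5 ≤ finrank F ↥P.Wm := by
  have h1 := finrank_perpPair Q P.e P.f P.hf P.he P.hef
  rw [Module.finrank_fintype_fun_eq_card] at h1
  have h2 := hS.seven
  change 5 ≤ finrank F ↥(perpPair Q P.e P.f)
  omega

section
variable (p : ℕ) [hp : Fact p.Prime] [hcp : CharP F p]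
  (P : HPr Q) (β : MulAut (Cfsg.POmega F ⇑Q)) (hβe : img β (Qb (Q := Q) P.e) = Qb P.e)
include hp hcp hβe

/-- **the induced map on the complement is a semisimilarity** -/
theorem exists_semisim_TT :
    ∃ (σ : F ≃+* F) (ν : F), ν ≠ 0 ∧
      (∀ (c : F) (w : ι → F), P.W w → TT P β (c • w) = σ c • TT P β w) ∧
      (∀ w w' : ι → F, P.W w → P.W w' →
        polar (⇑Q) (TT P β w) (TT P β w') = ν * σ (polar (⇑Q) w w')) ∧
      (∀ w : ι → F, P.W w → Q (TT P β w) = ν * σ (Q w)) := by
  have hβe' := img_symm_Qb p P β hβe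
  have hW : ∀ w : ↥P.Wm, TT P β w.1 ∈ P.Wm := fun w =>
    (P.mem_Wm _).mpr (TT_spec p P β hβe w.1 ((P.mem_Wm _).mp w.2).1).1
  have hW' : ∀ w : ↥P.Wm, TT P β.symm w.1 ∈ P.Wm := fun w =>
    (P.mem_Wm _).mpr (TT_spec p P β.symm hβe' w.1 ((P.mem_Wm _).mp w.2).1).1
  obtain ⟨T, hT⟩ : ∃ T : ↥P.Wm → ↥P.Wm, ∀ w, (T w : ι → F) = TT P β w.1 :=
    ⟨fun w => ⟨_, hW w⟩, fun w => rfl⟩
  obtain ⟨T', hT'⟩ : ∃ T' : ↥P.Wm → ↥P.Wm, ∀ w, (T' w : ι → F) = TT P β.symm w.1 :=
    ⟨fun w => ⟨_, hW' w⟩, fun w => rfl⟩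
  have hmem : ∀ w : ↥P.Wm, P.W w.1 := fun w => (P.mem_Wm _).mp w.2
  have hSP : SPres P.QW T T' :=
    { add := by
        intro x y
        apply Subtype.ext
        rw [Submodule.coe_add, hT, hT, hT, Submodule.coe_add]
        exact TT_add p P β hβe _ _ (hmem x).1 (hmem y).1
      add' := by
        intro x y
        apply Subtype.ext
        rw [Submodule.coe_add, hT', hT', hT', Submodule.coe_add]
        exact TT_add p P β.symm hβe' _ _ (hmem x).1 (hmem y).1
      TT' := by
        intro x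
        apply Subtype.ext
        rw [hT, hT']
        have := TT_symm p P β.symm hβe' x.1 (hmem x)
        rwa [MulEquiv.symm_symm] at this
      T'T := by
        intro x
        apply Subtype.ext
        rw [hT', hT]
        exact TT_symm p P β hβe x.1 (hmem x)
      sing := by
        intro u hu
        change Q ((T u : ↥P.Wm) : ι → F) = 0
        rw [hT]
        exact TT_sing p P β hβe u.1 (hmem u) hu
      sing' := by
        intro u hu
        change Q ((T' u : ↥P.Wm) : ι → F) = 0
        rw [hT']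
        exact TT_sing p P β.symm hβe' u.1 (hmem u) hu
      line := by
        intro u hu c
        obtain ⟨d, hd⟩ := TT_line p P β hβe u.1 (hmem u) hu c
        refine ⟨d, ?_⟩
        apply Subtype.ext
        rw [hT, Submodule.coe_smul, Submodule.coe_smul, hT]
        exact hd
      line' := by
        intro u hu c
        obtain ⟨d, hd⟩ := TT_line p P β.symm hβe' u.1 (hmem u) hu c
        refine ⟨d, ?_⟩
        apply Subtype.ext
        rw [hT', Submodule.coe_smul, Submodule.coe_smul, hT']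
        exact hd }
  obtain ⟨σ, ν, hν, h1, h2, h3⟩ := hSP.exists_semisim P.QW_nondeg P.finrank_Wm
  refine ⟨σ, ν, hν, ?_, ?_, ?_⟩
  · intro c w hw
    have := congrArg Subtype.val (h1 c ⟨w, (P.mem_Wm w).mpr hw⟩)
    rw [hT, Submodule.coe_smul, Submodule.coe_smul, hT] at this
    exact this
  · intro w w' hw hw'
    have := h2 ⟨w, (P.mem_Wm w).mpr hw⟩ ⟨w', (P.mem_Wm w').mpr hw'⟩
    rw [polar_comp_subtype, polar_comp_subtype, hT, hT] at this
    exact this
  · intro w hw
    have := h3 ⟨w, (P.mem_Wm w).mpr hw⟩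
    change Q ((T _ : ↥P.Wm) : ι → F) = ν * σ (Q w) at this
    rw [hT] at this
    exact this

end

end Cfsg.Agent.Lib.Helper6.AutOrt
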