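import Mathlib
import Cfsg.Agent.Lib.Helper6.AutOrt12
import Cfsg.Agent.Lib.Helper6.AutInduced

/-!
# Automorphisms of orthogonal groups, part 13: semisimilarities and the automorphisms of `PΩ`
they induce
-/

set_option autoImplicit false
set_option linter.unusedSectionVars false
set_option linter.unusedVariables false

open Cfsg Matrix QuadraticMap Module

namespace Cfsg.Agent.Lib.Helper6.AutOrt

open Cfsg.Agent.Lib.Helper6 Cfsg.Agent.Lib.Helper15 Cfsg.Agent.Lib.Helper6.AutPSL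

variable {F : Type*} [Field F] [Fintype F] {ι : Type} [Fintype ι] [DecidableEq ι]

/-- semilinear similarities of a quadratic form -/
structure SemiSimO (Q : QuadraticForm F (ι → F)) where
  S : (ι → F) → (ι → F)
  σ : F ≃+* F
  ν : F
  hν : ν ≠ 0
  add : ∀ x y, S (x + y) = S x + S y
  smul : ∀ (a : F) x, S (a • x) = σ a • S x
  form : ∀ x, Q (S x) = ν * σ (Q x)

theorem map_mulVec_apply' (σ : F ≃+* F) (M : Matrix ι ι F) (x : ι → F) :
    M.map σ *ᵥ (fun i => σ (x i)) = fun i => σ ((M *ᵥ x) i) := by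
  funext i
  have := RingHom.map_mulVec (σ : F →+* F) M x i
  exact this.symm

namespace SemiSimO

variable {Q : QuadraticForm F (ι → F)} (Φ : SemiSimO Q)

theorem polar_S (x y : ι → F) :
    polar (⇑Q) (Φ.S x) (Φ.S y) = Φ.ν * Φ.σ (polar (⇑Q) x y) := by
  unfold polar
  rw [← Φ.add, Φ.form, Φ.form, Φ.form, map_sub, map_sub]
  ring

/-- the linear map `S ∘ σ⁻¹` -/
def lin : (ι → F) →ₗ[F] (ι → F) where
  toFun x := Φ.S (fun i => Φ.σ.symm (x i))
  map_add' x y := by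
    have : (fun i => Φ.σ.symm ((x + y) i)) =
        (fun i => Φ.σ.symm (x i)) + (fun i => Φ.σ.symm (y i)) := by
      funext i
      simp
    rw [this, Φ.add]
  map_smul' a x := by
    have : (fun i => Φ.σ.symm ((a • x) i)) = Φ.σ.symm a • (fun i => Φ.σ.symm (x i)) := by
      funext i
      simp
    rw [this, Φ.smul]
    simp

/-- the matrix of `S ∘ σ⁻¹` -/
def mat : Matrix ι ι F := LinearMap.toMatrix' Φ.lin

theorem mat_mulVec (x : ι → F) : Φ.mat *ᵥ x = Φ.S (fun i => Φ.σ.symm (x i)) :=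
  LinearMap.toMatrix'_mulVec _ _

theorem mat_mulVec' (y : ι → F) : Φ.mat *ᵥ (fun i => Φ.σ (y i)) = Φ.S y := by
  rw [mat_mulVec]
  congr 1
  funext i
  simp

theorem S_zero : Φ.S 0 = 0 := by
  have := Φ.smul 0 0
  rwa [zero_smul, map_zero, zero_smul] at this

theorem S_sub (x y : ι → F) : Φ.S (x - y) = Φ.S x - Φ.S y := by
  have h1 : x - y = x + (-1 : F) • y := by module
  rw [h1, Φ.add, Φ.smul, map_neg, map_one]
  module

section std
variable [hS : Std Q]

theorem S_injective : Function.Injective Φ.S := by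
  intro x y hxy
  have h1 : Φ.S (x - y) = 0 := by rw [S_sub, hxy, sub_self]
  have h2 : x - y = 0 := by
    apply B_nondeg (Q := Q)
    intro z
    have := Φ.polar_S (x - y) z
    rw [h1, polar_zero_left] at this
    rcases mul_eq_zero.mp this.symm with h | h
    · exact absurd h Φ.hν
    · exact (map_eq_zero_iff _ Φ.σ.injective).mp h
  exact sub_eq_zero.mp h2

theorem S_surjective : Function.Surjective Φ.S :=
  Finite.injective_iff_surjective.mp Φ.S_injective

theorem exists_gl : ∃ g : GL ι F, g.1 = Φ.mat := by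
  have hunit : IsUnit Φ.mat := by
    rw [← Matrix.mulVec_injective_iff_isUnit]
    intro x y hxy
    rw [mat_mulVec, mat_mulVec] at hxy
    have h1 := Φ.S_injective hxy
    funext i
    have h2 := congrFun h1 i
    exact Φ.σ.symm.injective h2
  exact ⟨hunit.unit, IsUnit.unit_spec hunit⟩

/-- the matrix attached to the semilinear similarity -/
noncomputable def gl : GL ι F := Classical.choose Φ.exists_gl

theorem gl_val : Φ.gl.1 = Φ.mat := Classical.choose_spec Φ.exists_gl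

theorem isSemi : Cfsg.IsSemisimilarityPair (⇑Q) Φ.gl Φ.σ := by
  refine ⟨Units.mk0 Φ.ν Φ.hν, fun v => ?_⟩
  have h1 : (Φ.gl : Matrix ι ι F) = Φ.mat := Φ.gl_val
  rw [h1, mat_mulVec', Φ.form]
  rfl

/-- the matrix of the conjugate of an isometry -/
noncomputable def cmat (s : ↥(Cfsg.isometryGroup F ⇑Q)) : Matrix ι ι F :=
  Φ.gl.1 * ((s.1 : GL ι F) : Matrix ι ι F).map Φ.σ * (Φ.gl⁻¹).1

theorem cmat_mulVec_S (s : ↥(Cfsg.isometryGroup F ⇑Q)) (y : ι → F) :
    Φ.cmat s *ᵥ (Φ.S y) = Φ.S (gact Q s y) := by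
  have h2 : (Φ.gl⁻¹).1 *ᵥ (Φ.S y) = fun i => Φ.σ (y i) := by
    rw [← mat_mulVec' Φ y, ← gl_val, mulVec_mulVec, gl_inv_mul, one_mulVec]
  unfold cmat
  rw [← mulVec_mulVec, ← mulVec_mulVec, h2, map_mulVec_apply', gl_val, mat_mulVec']
  rfl

theorem cmat_mul (s t : ↥(Cfsg.isometryGroup F ⇑Q)) : Φ.cmat (s * t) = Φ.cmat s * Φ.cmat t := by
  apply matrix_ext_mulVec
  intro x
  obtain ⟨y, rfl⟩ := Φ.S_surjective x
  rw [cmat_mulVec_S, ← mulVec_mulVec, cmat_mulVec_S, cmat_mulVec_S, gact_mul]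

theorem cmat_one : Φ.cmat (1 : ↥(Cfsg.isometryGroup F ⇑Q)) = 1 := by
  apply matrix_ext_mulVec
  intro x
  obtain ⟨y, rfl⟩ := Φ.S_surjective x
  rw [cmat_mulVec_S, gact_one, one_mulVec]

/-- the conjugate of an isometry by the semilinear similarity -/
noncomputable def cIsoFun (s : ↥(Cfsg.isometryGroup F ⇑Q)) : ↥(Cfsg.isometryGroup F ⇑Q) :=
  mkIso Q (Φ.cmat s) (Φ.cmat s⁻¹)
    (by rw [← cmat_mul, mul_inv_cancel, cmat_one])
    (by rw [← cmat_mul, inv_mul_cancel, cmat_one])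
    (fun x => by
      obtain ⟨y, rfl⟩ := Φ.S_surjective x
      rw [cmat_mulVec_S, Φ.form, Q_gact, ← Φ.form])

theorem cIsoFun_val (s : ↥(Cfsg.isometryGroup F ⇑Q)) :
    ((Φ.cIsoFun s).1 : Matrix ι ι F) = Φ.cmat s := rfl

theorem gact_cIsoFun (s : ↥(Cfsg.isometryGroup F ⇑Q)) (y : ι → F) :
    gact Q (Φ.cIsoFun s) (Φ.S y) = Φ.S (gact Q s y) := Φ.cmat_mulVec_S s y

/-- conjugation by the semilinear similarity as an endomorphism of the isometry group -/
noncomputable def cHom : ↥(Cfsg.isometryGroup F ⇑Q) →* ↥(Cfsg.isometryGroup F ⇑Q) where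
  toFun := Φ.cIsoFun
  map_one' := by
    apply Subtype.ext
    apply Units.ext
    exact Φ.cmat_one
  map_mul' s t := by
    apply Subtype.ext
    apply Units.ext
    exact Φ.cmat_mul s t

theorem cHom_injective : Function.Injective Φ.cHom := by
  intro s t hst
  apply iso_ext_gact
  intro y
  apply Φ.S_injective
  have h1 := Φ.gact_cIsoFun s y
  have h2 := Φ.gact_cIsoFun t y
  have h3 : Φ.cIsoFun s = Φ.cIsoFun t := hst
  rw [← h1, ← h2, h3]

/-- conjugation by the semilinear similarity as an automorphism of the isometry group -/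
noncomputable def cIso : MulAut ↥(Cfsg.isometryGroup F ⇑Q) :=
  MulEquiv.ofBijective Φ.cHom
    ⟨Φ.cHom_injective, Finite.injective_iff_surjective.mp Φ.cHom_injective⟩

theorem cIso_apply (s : ↥(Cfsg.isometryGroup F ⇑Q)) : Φ.cIso s = Φ.cIsoFun s := rfl

/-- the induced automorphism of `Ω` -/
noncomputable def cOm : MulAut ↥(Cfsg.Omega F ⇑Q) :=
  MulAut.characteristic (Cfsg.Omega F ⇑Q) Φ.cIso

theorem cOm_val (s : ↥(Cfsg.Omega F ⇑Q)) : (Φ.cOm s).1 = Φ.cIsoFun s.1 := rfl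

/-- the induced automorphism of `PΩ` -/
noncomputable def gam : MulAut (Cfsg.POmega F ⇑Q) :=
  AutInduced.autQuot (Subgroup.center ↥(Cfsg.Omega F ⇑Q)) Φ.cOm

theorem gam_pu (s : ↥(Cfsg.Omega F ⇑Q)) : Φ.gam (pu s) = pu (Φ.cOm s) :=
  AutInduced.autQuot_mk _ _ _

theorem av_cOm (s : ↥(Cfsg.Omega F ⇑Q)) (y : ι → F) :
    av (Φ.cOm s) (Φ.S y) = Φ.S (av s y) := Φ.cmat_mulVec_S s.1 y

theorem gam_eq_of (s s' : ↥(Cfsg.Omega F ⇑Q)) (h : ∀ y, av s' (Φ.S y) = Φ.S (av s y)) :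
    Φ.gam (pu s) = pu s' := by
  rw [gam_pu]
  congr 1
  apply ext_av
  intro x
  obtain ⟨y, rfl⟩ := Φ.S_surjective x
  rw [av_cOm, h]

theorem gam_mem : Φ.gam ∈ Cfsg.gammaPOmega F ⇑Q := by
  refine Subgroup.subset_closure ⟨Φ.gl, Φ.σ, Φ.isSemi, ?_⟩
  intro s s' h
  change Φ.gam (pu s) = pu s'
  rw [gam_pu]
  congr 1
  apply Subtype.ext
  apply Subtype.ext
  apply Units.ext
  rw [h]
  rfl

/-- the image of a Siegel element -/
theorem gam_sg {u w : ι → F} (hu : Q u = 0) (huw : polar (⇑Q) u w = 0) :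
    Φ.gam (pu (sg Q u w)) = pu (sg Q (Φ.S u) (Φ.ν⁻¹ • Φ.S w)) := by
  have hSu : Q (Φ.S u) = 0 := by rw [Φ.form, hu, map_zero, mul_zero]
  have hSuw : polar (⇑Q) (Φ.S u) (Φ.ν⁻¹ • Φ.S w) = 0 := by
    rw [polar_smul_right, Φ.polar_S, huw, map_zero, mul_zero, smul_zero]
  apply Φ.gam_eq_of
  intro y
  rw [av_sg hSu hSuw, av_sg hu huw, Φ.add, Φ.add, Φ.smul, Φ.smul, polar_smul_left, Q_smul,
    Φ.polar_S, Φ.polar_S, Φ.form, map_sub, map_mul, map_neg]
  have hν := Φ.hν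
  have e1 : Φ.ν⁻¹ • (Φ.ν * Φ.σ (polar (⇑Q) w y)) -
      Φ.ν⁻¹ * Φ.ν⁻¹ * (Φ.ν * Φ.σ (Q w)) * (Φ.ν * Φ.σ (polar (⇑Q) u y)) =
      Φ.σ (polar (⇑Q) w y) - Φ.σ (Q w) * Φ.σ (polar (⇑Q) u y) := by
    rw [smul_eq_mul]
    field_simp
  rw [e1, smul_smul]
  congr 2
  field_simp

end std

end SemiSimO

/-- the component of a vector in the complement of a hyperbolic pair -/
def HPr.wc {Q : QuadraticForm F (ι → F)} (P : HPr Q) (x : ι → F) : ι → F :=
  x - polar (⇑Q) x P.f • P.e - polar (⇑Q) x P.e • P.f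

section wc
variable {Q : QuadraticForm F (ι → F)} (P : HPr Q)

theorem HPr.wc_W (x : ι → F) : P.W (P.wc x) := by
  unfold HPr.wc
  constructor
  · rw [polar_sub_right, polar_sub_right, polar_smul_right, polar_smul_right, B_self_of_sing P.he,
      P.hef, polar_comm (⇑Q) P.e x]
    simp
  · rw [polar_sub_right, polar_sub_right, polar_smul_right, polar_smul_right, B_self_of_sing P.hf,
      P.hfe, polar_comm (⇑Q) P.f x]
    simp

theorem HPr.wc_add (x y : ι → F) : P.wc (x + y) = P.wc x + P.wc y := by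
  unfold HPr.wc
  rw [polar_add_left, polar_add_left]
  module

theorem HPr.wc_smul (c : F) (x : ι → F) : P.wc (c • x) = c • P.wc x := by
  unfold HPr.wc
  rw [polar_smul_left, polar_smul_left]
  simp only [smul_eq_mul]
  module

theorem HPr.wc_of_W {w : ι → F} (hw : P.W w) : P.wc w = w := by
  unfold HPr.wc
  rw [polar_comm (⇑Q) w P.f, polar_comm (⇑Q) w P.e, hw.1, hw.2]
  simp

theorem HPr.wc_e : P.wc P.e = 0 := by
  unfold HPr.wc
  rw [P.hef, B_self_of_sing P.he]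
  simp

theorem HPr.wc_f : P.wc P.f = 0 := by
  unfold HPr.wc
  rw [P.hfe, B_self_of_sing P.hf]
  simp

theorem HPr.decomp (x : ι → F) :
    x = polar (⇑Q) x P.f • P.e + polar (⇑Q) x P.e • P.f + P.wc x := by
  unfold HPr.wc
  module

theorem HPr.Q_decomp (a b : F) {w : ι → F} (hw : P.W w) :
    Q (a • P.e + b • P.f + w) = a * b + Q w := by
  rw [Q_add, Q_add, Q_smul, Q_smul, P.he, P.hf, polar_add_left, polar_smul_left, polar_smul_left,
    polar_smul_left, polar_smul_right, P.hef, hw.1, hw.2]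
  simp

end wc

section mk
variable {Q : QuadraticForm F (ι → F)} (P : HPr Q) (T : (ι → F) → (ι → F)) (σ : F ≃+* F) (ν : F)
  (hν : ν ≠ 0) (hTW : ∀ w, P.W w → P.W (T w))
  (hTadd : ∀ w w', P.W w → P.W w' → T (w + w') = T w + T w')
  (hσ : ∀ (c : F) w, P.W w → T (c • w) = σ c • T w)
  (hform : ∀ w, P.W w → Q (T w) = ν * σ (Q w))

/-- the semilinear similarity extending a semilinear similarity of the complement -/
noncomputable def mkSemi : SemiSimO Q where
  S x := (ν * σ (polar (⇑Q) x P.f)) • P.e + σ (polar (⇑Q) x P.e) • P.f + T (P.wc x)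
  σ := σ
  ν := ν
  hν := hν
  add x y := by
    rw [polar_add_left, polar_add_left, map_add, map_add, P.wc_add,
      hTadd _ _ (P.wc_W x) (P.wc_W y)]
    module
  smul a x := by
    rw [polar_smul_left, polar_smul_left, P.wc_smul, hσ _ _ (P.wc_W x), smul_eq_mul, smul_eq_mul,
      map_mul, map_mul]
    module
  form x := by
    rw [P.Q_decomp _ _ (hTW _ (P.wc_W x)), hform _ (P.wc_W x)]
    conv_rhs => rw [P.decomp x, P.Q_decomp _ _ (P.wc_W x)]
    rw [map_add, map_mul]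
    ring

theorem mkSemi_S (x : ι → F) : (mkSemi P T σ ν hν hTW hTadd hσ hform).S x =
    (ν * σ (polar (⇑Q) x P.f)) • P.e + σ (polar (⇑Q) x P.e) • P.f + T (P.wc x) := rfl

include hTadd in
theorem T_zero_of_add : T 0 = 0 := by
  have := hTadd 0 0 P.W_zero P.W_zero
  rw [add_zero] at this
  exact left_eq_add.mp this

theorem mkSemi_e : (mkSemi P T σ ν hν hTW hTadd hσ hform).S P.e = ν • P.e := by
  rw [mkSemi_S, P.hef, B_self_of_sing P.he, P.wc_e, T_zero_of_add P T hTadd]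
  simp

theorem mkSemi_f : (mkSemi P T σ ν hν hTW hTadd hσ hform).S P.f = P.f := by
  rw [mkSemi_S, P.hfe, B_self_of_sing P.hf, P.wc_f, T_zero_of_add P T hTadd]
  simp

theorem mkSemi_W (w : ι → F) (hw : P.W w) :
    (mkSemi P T σ ν hν hTW hTadd hσ hform).S w = T w := by
  rw [mkSemi_S, polar_comm (⇑Q) w P.f, polar_comm (⇑Q) w P.e, hw.1, hw.2, P.wc_of_W hw]
  simp

variable [hS : Std Q]

theorem gam_sg_e (w : ι → F) (hw : P.W w) :
    (mkSemi P T σ ν hν hTW hTadd hσ hform).gam (pu (sg Q P.e w)) = pu (sg Q P.e (T w)) := by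
  rw [SemiSimO.gam_sg _ P.he hw.1, mkSemi_e, mkSemi_W _ _ _ _ _ _ _ _ _ _ hw]
  change pu (sg Q (ν • P.e) (ν⁻¹ • T w)) = _
  rw [sg_smul_left ν P.he (by rw [polar_smul_right, (hTW w hw).1, smul_zero]), smul_smul,
    mul_inv_cancel₀ hν, one_smul]

theorem gam_sg_f (w : ι → F) (hw : P.W w) :
    (mkSemi P T σ ν hν hTW hTadd hσ hform).gam (pu (sg Q P.f w)) = pu (sg Q P.f (ν⁻¹ • T w)) := by
  rw [SemiSimO.gam_sg _ P.hf hw.2, mkSemi_f, mkSemi_W _ _ _ _ _ _ _ _ _ _ hw]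
  rfl

end mk

end Cfsg.Agent.Lib.Helper6.AutOrt
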