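import Mathlib
import Cfsg.Agent.Lib.Helper6.AutOrt13

/-!
# Automorphisms of orthogonal groups, part 14: the groups `Q_u` determine their points,
commutation between `Q_e` and `Q_f`, and generation of `Ω` by `Q_e` and `Q_f`
-/

set_option autoImplicit false
set_option linter.unusedSectionVars false
set_option linter.unusedVariables false

open Cfsg Matrix QuadraticMap Module

namespace Cfsg.Agent.Lib.Helper6.AutOrt

open Cfsg.Agent.Lib.Helper6 Cfsg.Agent.Lib.Helper15 Cfsg.Agent.Lib.Helper6.AutPSL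

variable {F : Type*} [Field F] [Fintype F] {ι : Type} [Fintype ι] [DecidableEq ι]
variable {Q : QuadraticForm F (ι → F)} [hS : Std Q]

theorem av_sg_sing {u w : ι → F} (hu : Q u = 0) (hw : Q w = 0) (huw : polar (⇑Q) u w = 0)
    (x : ι → F) : av (sg Q u w) x = x + polar (⇑Q) w x • u - polar (⇑Q) u x • w := by
  rw [av_sg hu huw, hw]
  module

section char
variable (p : ℕ) [hp : Fact p.Prime] [hcp : CharP F p]
include hp hcp

/-- the group `Q_u` determines the point `u` -/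
theorem eq_smul_of_Qb_eq {u u' : ι → F} (hu0 : u ≠ 0) (hu'0 : u' ≠ 0) (hu : Q u = 0)
    (hu' : Q u' = 0) (h : Qb (Q := Q) u = Qb u') : ∃ c : F, u' = c • u := by
  by_cases hB : polar (⇑Q) u u' = 0
  · by_contra hcon
    push Not at hcon
    obtain ⟨x, hx1, hx2⟩ := exists_polar_values Q hS.nondeg u u' hu0 hcon 0 1
    have h1 : pu (sg Q u x) ∈ Qb (Q := Q) u' := by
      rw [← h]
      exact Subgroup.mem_map_of_mem _ (sg_mem_Qv hu hx1)
    obtain ⟨g', hg', hgg'⟩ := Subgroup.mem_map.mp h1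
    have h2 : g' = sg Q u x := eq_of_pu_eq (p := p) _ _ 1 (Qv_pow p hu'0 hu' g' hg')
      (sg_pow_char' p hu hx1) hgg'
    rw [h2] at hg'
    have h3 := hg'.1
    rw [av_sg hu hx1, hB, polar_comm, hx2] at h3
    have h4 : u = 0 := by
      have e : u = (u' + (1 - Q x * 0) • u + (-(0 : F)) • x) - u' := by module
      rw [e, h3, sub_self]
    exact hu0 h4
  · exfalso
    let P' : HPr Q := ⟨u, (polar (⇑Q) u u')⁻¹ • u', hu, by rw [Q_smul, hu', mul_zero],
      by rw [polar_smul_right, smul_eq_mul, inv_mul_cancel₀ hB]⟩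
    have h1 := Qb_inf_hyp p P'
    have h2 : Qb (Q := Q) P'.f = Qb u' := by
      unfold Qb
      exact congrArg _ (Qv_smul _ (inv_ne_zero hB) u')
    change Qb (Q := Q) u ⊓ Qb P'.f = ⊥ at h1
    rw [h2, ← h, inf_idem] at h1
    have h3 := Qb_inf_ne_bot p hu0 hu0 hu hu (B_self_of_sing hu)
    rw [inf_idem] at h3
    exact h3 h1

end char

/-- elements of `Q_f` commuting with a long root element of `Q_e` -/
theorem smul_of_comm_ef (P : HPr Q) {w w' : ι → F} (hw : P.W w) (hw0 : w ≠ 0) (hQw : Q w = 0)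
    (hw' : P.W w') (h : sg Q P.e w * sg Q P.f w' = sg Q P.f w' * sg Q P.e w) :
    ∃ c : F, w' = c • w := by
  obtain ⟨y, hy, hwy⟩ := exists_partner w hw0 hQw
  obtain ⟨z, hz⟩ : ∃ z, z = P.wc y := ⟨_, rfl⟩
  have hzW : P.W z := by rw [hz]; exact P.wc_W y
  have hwe : polar (⇑Q) w P.e = 0 := by rw [polar_comm, hw.1]
  have hwf : polar (⇑Q) w P.f = 0 := by rw [polar_comm, hw.2]
  have hwz : polar (⇑Q) w z = 1 := by
    rw [hz]
    unfold HPr.wc
    rw [polar_sub_right, polar_sub_right, polar_smul_right, polar_smul_right, hwe, hwf, hwy]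
    simp
  have h1 := congrArg (fun g => av g z) h
  simp only [av_mul] at h1
  have e1 : av (sg Q P.e w) z = z + P.e := by
    rw [av_sg_sing P.he hQw hw.1, hwz, hzW.1]; module
  have e2 : av (sg Q P.f w') z = z + polar (⇑Q) w' z • P.f := by
    rw [av_sg P.hf hw'.2, hzW.2]; module
  have e3 : av (sg Q P.e w) P.f = P.f - w := by
    rw [av_sg_sing P.he hQw hw.1, hwf, P.hef]; module
  have e4 : av (sg Q P.f w') P.e = P.e - Q w' • P.f - w' := by
    rw [av_sg P.hf hw'.2, P.hfe, polar_comm (⇑Q) w' P.e, hw'.1]; module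
  rw [e2, e1, av_add, av_add, e1, e2, av_smul, e3, e4] at h1
  have h2 : w' = polar (⇑Q) w' z • w - Q w' • P.f := by
    have e : w' - (polar (⇑Q) w' z • w - Q w' • P.f) =
        (z + P.e + polar (⇑Q) w' z • (P.f - w)) -
          (z + polar (⇑Q) w' z • P.f + (P.e - Q w' • P.f - w')) := by module
    rw [h1, sub_self] at e
    exact sub_eq_zero.mp e
  have h3 : Q w' = 0 := by
    have := hw'.1
    rw [h2, polar_sub_right, polar_smul_right, polar_smul_right, hw.1, P.hef] at this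
    simpa using this
  rw [h3, zero_smul, sub_zero] at h2
  exact ⟨_, h2⟩

/-- long root elements of `Q_e` and `Q_f` with the same vector commute -/
theorem sg_ef_comm (P : HPr Q) {w : ι → F} (hw : P.W w) (hQw : Q w = 0) (t : F) :
    sg Q P.e w * sg Q P.f (t • w) = sg Q P.f (t • w) * sg Q P.e w := by
  have hQt : Q (t • w) = 0 := by rw [Q_smul, hQw, mul_zero]
  have hft : polar (⇑Q) P.f (t • w) = 0 := by rw [polar_smul_right, hw.2, smul_zero]
  have hwe : polar (⇑Q) w P.e = 0 := by rw [polar_comm, hw.1]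
  have hwf : polar (⇑Q) w P.f = 0 := by rw [polar_comm, hw.2]
  have hww : polar (⇑Q) w w = 0 := B_self_of_sing hQw
  have a1 : ∀ x, av (sg Q P.e w) x = x + polar (⇑Q) w x • P.e - polar (⇑Q) P.e x • w :=
    av_sg_sing P.he hQw hw.1
  have a2 : ∀ x, av (sg Q P.f (t • w)) x =
      x + (t * polar (⇑Q) w x) • P.f - (t * polar (⇑Q) P.f x) • w := by
    intro x
    rw [av_sg_sing P.hf hQt hft, polar_smul_left, smul_eq_mul]
    module
  apply ext_av
  intro x
  rw [av_mul, av_mul, a2 x, a1 x, a1, a2]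
  simp only [polar_add_right, polar_sub_right, polar_smul_right, smul_eq_mul, hw.1, hw.2, P.hef,
    P.hfe, B_self_of_sing P.he, B_self_of_sing P.hf, hwe, hwf, hww]
  module

section gen

theorem Qv_le_of_conj (H : Subgroup ↥(Cfsg.Omega F ⇑Q)) (k : ↥(Cfsg.Omega F ⇑Q)) (hk : k ∈ H)
    {u : ι → F} (hu0 : u ≠ 0) (hu : Q u = 0) (hQ : Qv Q u ≤ H) : Qv Q (av k u) ≤ H := by
  intro g hg
  have h1 := conj_mem_Qv k⁻¹ (av_ne_zero k hu0) (by rw [Q_av, hu]) g hg
  rw [av_inv_av, inv_inv] at h1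
  have h2 := H.mul_mem (H.mul_mem hk (hQ h1)) (H.inv_mem hk)
  have e : k * (k⁻¹ * g * k) * k⁻¹ = g := by group
  rwa [e] at h2

theorem Qv_le_of_opp (H : Subgroup ↥(Cfsg.Omega F ⇑Q)) (P' : HPr Q) (he : Qv Q P'.e ≤ H)
    (hf : Qv Q P'.f ≤ H) {u : ι → F} (hu : Q u = 0) (hB : polar (⇑Q) P'.e u ≠ 0) :
    Qv Q u ≤ H := by
  obtain ⟨c, hc⟩ : ∃ c, c = polar (⇑Q) P'.e u := ⟨_, rfl⟩
  have hc0 : c ≠ 0 := by rw [hc]; exact hB
  have hu' : Q (c⁻¹ • u) = 0 := by rw [Q_smul, hu, mul_zero]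
  have heu' : polar (⇑Q) P'.e (c⁻¹ • u) = 1 := by
    rw [polar_smul_right, ← hc, smul_eq_mul, inv_mul_cancel₀ hc0]
  obtain ⟨w, huw, hwe, hwf⟩ :=
    exists_sieg_move_partner Q P'.e P'.f (c⁻¹ • u) P'.he P'.hf hu' P'.hef heu'
  have hk : sg Q P'.e w ∈ H := he (sg_mem_Qv P'.he huw)
  have h1 : av (sg Q P'.e w) P'.f = c⁻¹ • u := by
    unfold av
    rw [sg_val P'.he huw]
    exact hwf
  have h2 := Qv_le_of_conj H _ hk P'.f_ne P'.hf hf
  rw [h1, Qv_smul _ (inv_ne_zero hc0)] at h2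
  exact h2

/-- `Ω` is generated by `Q_e` and `Q_f` -/
theorem gen_top (P : HPr Q) (H : Subgroup ↥(Cfsg.Omega F ⇑Q)) (hQe : Qv Q P.e ≤ H)
    (hQf : Qv Q P.f ≤ H) : H = ⊤ := by
  have hall : ∀ u : ι → F, u ≠ 0 → Q u = 0 → Qv Q u ≤ H := by
    intro u hu0 hu
    by_cases hB : polar (⇑Q) P.e u = 0
    · by_cases hind : ∀ c : F, u ≠ c • P.e
      · obtain ⟨x, hx1, hx2⟩ := exists_polar_values Q hS.nondeg P.e u P.e_ne hind 1 1
        obtain ⟨u₂, hu₂⟩ : ∃ u₂, u₂ = x - Q x • P.e := ⟨_, rfl⟩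
        have hQu₂ : Q u₂ = 0 := by
          rw [hu₂, Q_sub, Q_smul, P.he, polar_smul_right, polar_comm, hx1]; simp
        have heu₂ : polar (⇑Q) P.e u₂ = 1 := by
          rw [hu₂, polar_sub_right, polar_smul_right, B_self_of_sing P.he, hx1]; simp
        have huu₂ : polar (⇑Q) u u₂ = 1 := by
          rw [hu₂, polar_sub_right, polar_smul_right, polar_comm (⇑Q) u P.e, hB, hx2]; simp
        have h1 : Qv Q u₂ ≤ H :=
          Qv_le_of_opp H P hQe hQf hQu₂ (by rw [heu₂]; exact one_ne_zero)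
        let P' : HPr Q := ⟨u₂, P.e, hQu₂, P.he, by rw [polar_comm, heu₂]⟩
        refine Qv_le_of_opp H P' h1 hQe hu ?_
        change polar (⇑Q) u₂ u ≠ 0
        rw [polar_comm, huu₂]
        exact one_ne_zero
      · push Not at hind
        obtain ⟨c, hc⟩ := hind
        have hc0 : c ≠ 0 := by
          rintro rfl
          rw [zero_smul] at hc
          exact hu0 hc
        rw [hc, Qv_smul c hc0]
        exact hQe
    · exact Qv_le_of_opp H P hQe hQf hu hB
  rw [eq_top_iff]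
  intro g _
  have hg : g.1 ∈ Sg Q := by
    rw [Sg_eq_Omega Q hS.nondeg (five_le Q)]
    exact g.2
  have key : ∀ x, x ∈ Sg Q → ∃ h : x ∈ Cfsg.Omega F ⇑Q, (⟨x, h⟩ : ↥(Cfsg.Omega F ⇑Q)) ∈ H := by
    intro x hx
    unfold Sg at hx
    induction hx using Subgroup.closure_induction with
    | mem x hx =>
      obtain ⟨u, w, hu, huw, rfl⟩ := hx
      refine ⟨siegIso_mem_Omega Q hS.nondeg (five_le Q) u w hu huw, ?_⟩
      have e : (⟨siegIso Q u w hu huw, siegIso_mem_Omega Q hS.nondeg (five_le Q) u w hu huw⟩ :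
          ↥(Cfsg.Omega F ⇑Q)) = sg Q u w := Subtype.ext (sg_val hu huw).symm
      rw [e]
      by_cases hu0 : u = 0
      · subst hu0
        have : sg Q (0 : ι → F) w = 1 := by
          apply ext_av
          intro x
          rw [av_sg hu huw, av_one]
          simp
        rw [this]
        exact H.one_mem
      · exact hall u hu0 hu (sg_mem_Qv hu huw)
    | one => exact ⟨Subgroup.one_mem _, H.one_mem⟩
    | mul x y hx hy ihx ihy =>
      obtain ⟨h1, h2⟩ := ihx
      obtain ⟨h3, h4⟩ := ihy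
      exact ⟨Subgroup.mul_mem _ h1 h3, H.mul_mem h2 h4⟩
    | inv x hx ih =>
      obtain ⟨h1, h2⟩ := ih
      exact ⟨Subgroup.inv_mem _ h1, H.inv_mem h2⟩
  obtain ⟨h1, h2⟩ := key g.1 hg
  exact h2

end gen

end Cfsg.Agent.Lib.Helper6.AutOrt
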