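import Mathlib
import Cfsg.Agent.Lib.Helper6.AutOrt14

/-!
# Automorphisms of orthogonal groups, part 15: rigidity and the main theorem
`Aut(PΩ) = PΓO`
-/

set_option autoImplicit false
set_option linter.unusedSectionVars false
set_option linter.unusedVariables false

open Cfsg Matrix QuadraticMap Module

namespace Cfsg.Agent.Lib.Helper6.AutOrt

open Cfsg.Agent.Lib.Helper6 Cfsg.Agent.Lib.Helper15 Cfsg.Agent.Lib.Helper6.AutPSL

variable {F : Type*} [Field F] [Fintype F] {ι : Type} [Fintype ι] [DecidableEq ι]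
variable {Q : QuadraticForm F (ι → F)} [hS : Std Q]

theorem img_eq_of_le'' {G : Type*} [Group G] [Finite G] (γ : MulAut G) (H : Subgroup G)
    (h : img γ H ≤ H) : img γ H = H := by
  apply Subgroup.eq_of_le_of_card_ge h
  unfold img
  rw [Subgroup.card_map_of_injective (MulEquiv.injective γ)]

/-- the image of `e` under the Weyl-type element -/
theorem av_weyl (P : HPr Q) {b : ι → F} (hb : P.W b) (s : F) :
    av (sg Q P.e b * sg Q P.f (s • b) * sg Q P.e b) P.e =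
      ((1 - s * Q b) ^ 2) • P.e + (s * (s * Q b - 1)) • b - (s * s * Q b) • P.f := by
  have hbe : polar (⇑Q) b P.e = 0 := by rw [polar_comm, hb.1]
  have hbf : polar (⇑Q) b P.f = 0 := by rw [polar_comm, hb.2]
  have hbb : polar (⇑Q) b b = 2 * Q b := by
    rw [polar_self]
    simp
  have hfs : polar (⇑Q) P.f (s • b) = 0 := by rw [polar_smul_right, hb.2, smul_zero]
  have e1 : av (sg Q P.e b) P.e = P.e := by
    rw [av_sg P.he hb.1, B_self_of_sing P.he, hbe]; module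
  have e2 : av (sg Q P.f (s • b)) P.e = P.e - (s * s * Q b) • P.f - s • b := by
    rw [av_sg P.hf hfs, P.hfe, polar_smul_left, hbe, Q_smul]; module
  have e3 : av (sg Q P.e b) P.f = P.f - Q b • P.e - b := by
    rw [av_sg P.he hb.1, P.hef, hbf]; module
  have e4 : av (sg Q P.e b) b = b + (2 * Q b) • P.e := by
    rw [av_sg P.he hb.1, hb.1, hbb]; module
  rw [av_mul, av_mul, e1, e2, av_sub, av_sub, av_smul, av_smul, e1, e3, e4]
  module

/-- the subgroup of `Ω` fixed by an automorphism of `PΩ` -/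
def fixSub (β : MulAut (Cfsg.POmega F ⇑Q)) : Subgroup ↥(Cfsg.Omega F ⇑Q) where
  carrier := {g | β (pu g) = pu g}
  one_mem' := by
    change β (pu 1) = pu 1
    rw [map_one, map_one]
  mul_mem' := by
    intro a b ha hb
    change β (pu (a * b)) = pu (a * b)
    rw [map_mul, map_mul, ha, hb]
  inv_mem' := by
    intro a ha
    change β (pu a⁻¹) = pu a⁻¹
    rw [map_inv, map_inv, ha]

theorem mem_fixSub (β : MulAut (Cfsg.POmega F ⇑Q)) (g : ↥(Cfsg.Omega F ⇑Q)) :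
    g ∈ fixSub β ↔ β (pu g) = pu g := Iff.rfl

section rigid
variable (p : ℕ) [hp : Fact p.Prime] [hcp : CharP F p]
  (P : HPr Q) (β : MulAut (Cfsg.POmega F ⇑Q))
  (hfix : ∀ x ∈ Qb (Q := Q) P.e, β x = x) (hβf : img β (Qb (Q := Q) P.f) = Qb P.f)
include hp hcp hfix hβf

theorem TT_swap_fix_sing (w : ι → F) (hw : P.W w) (hQw : Q w = 0) :
    ∃ c : F, TT P.swap β w = c • w := by
  have hβf' : img β (Qb (Q := Q) P.swap.e) = Qb P.swap.e := hβf
  by_cases hw0 : w = 0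
  · exact ⟨0, by rw [hw0, TT_zero p P.swap β hβf', smul_zero]⟩
  have hw' : P.swap.W w := (P.W_swap w).mpr hw
  obtain ⟨a1, a2⟩ := TT_spec p P.swap β hβf' w hw'.1
  change β (pu (sg Q P.f w)) = pu (sg Q P.f (TT P.swap β w)) at a2
  have h1 : β (pu (sg Q P.e w)) = pu (sg Q P.e w) :=
    hfix _ (Subgroup.mem_map_of_mem _ (sg_mem_Qv P.he hw.1))
  have h2 := congrArg (fun g => pu g) (sg_ef_comm P hw hQw 1)
  rw [one_smul] at h2
  simp only [map_mul] at h2
  have h3 := congrArg β h2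
  rw [map_mul, map_mul, h1, a2] at h3
  have hfT : polar (⇑Q) P.f (TT P.swap β w) = 0 := a1.1
  have h4 := comm_of_pu_comm (p := p) (sg Q P.e w) (sg Q P.f (TT P.swap β w)) 1
    (sg_pow_char' p P.hf hfT) h3
  exact smul_of_comm_ef P hw hw0 hQw ((P.W_swap _).mp a1) h4

theorem exists_scalar_swap : ∃ d : F, ∀ w, P.W w → TT P.swap β w = d • w := by
  have hβf' : img β (Qb (Q := Q) P.swap.e) = Qb P.swap.e := hβf
  have hmem : ∀ w : ↥P.Wm, P.W w.1 := fun w => (P.mem_Wm _).mp w.2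
  have hmem' : ∀ w : ↥P.Wm, P.swap.W w.1 := fun w => (P.W_swap _).mpr (hmem w)
  have hW : ∀ w : ↥P.Wm, TT P.swap β w.1 ∈ P.Wm := fun w =>
    (P.mem_Wm _).mpr ((P.W_swap _).mp (TT_spec p P.swap β hβf' w.1 (hmem' w).1).1)
  obtain ⟨T, hT⟩ : ∃ T : ↥P.Wm → ↥P.Wm, ∀ w, (T w : ι → F) = TT P.swap β w.1 :=
    ⟨fun w => ⟨_, hW w⟩, fun w => rfl⟩
  obtain ⟨d, hd⟩ := scalar_of_fix_sing P.QW P.QW_nondeg P.finrank_Wm T
    (by
      intro x y
      apply Subtype.ext
      rw [Submodule.coe_add, hT, hT, hT, Submodule.coe_add]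
      exact TT_add p P.swap β hβf' _ _ (hmem' x).1 (hmem' y).1)
    (by
      intro u hu
      obtain ⟨c, hc⟩ := TT_swap_fix_sing p P β hfix hβf u.1 (hmem u) hu
      refine ⟨c, ?_⟩
      apply Subtype.ext
      rw [hT, Submodule.coe_smul]
      exact hc)
  refine ⟨d, fun w hw => ?_⟩
  have := congrArg Subtype.val (hd ⟨w, (P.mem_Wm w).mpr hw⟩)
  rw [hT, Submodule.coe_smul] at this
  exact this

theorem img_fix_Qe : img β (Qb (Q := Q) P.e) = Qb P.e := by
  ext x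
  rw [mem_img]
  constructor
  · rintro ⟨y, hy, rfl⟩
    rw [hfix y hy]
    exact hy
  · intro hx
    exact ⟨x, hx, hfix x hx⟩

theorem scalar_swap_eq_one (d : F) (hd : ∀ w, P.W w → TT P.swap β w = d • w) : d = 1 := by
  have hβf' : img β (Qb (Q := Q) P.swap.e) = Qb P.swap.e := hβf
  have hfin : 5 ≤ Module.finrank F (ι → F) := by
    rw [Module.finrank_fintype_fun_eq_card]; exact five_le Q
  obtain ⟨b, hb1, hb2, hb3⟩ := exists_nonsingular_perp Q hS.nondeg hfin P.e P.f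
  have hb : P.W b := ⟨hb1, hb2⟩
  obtain ⟨t, ht⟩ : ∃ t, t = (Q b)⁻¹ := ⟨_, rfl⟩
  have htb : t * Q b = 1 := by rw [ht, inv_mul_cancel₀ hb3]
  have ht0 : t ≠ 0 := by rw [ht]; exact inv_ne_zero hb3
  obtain ⟨n, hn⟩ : ∃ n, n = sg Q P.e b * sg Q P.f (t • b) * sg Q P.e b := ⟨_, rfl⟩
  obtain ⟨n', hn'⟩ : ∃ n', n' = sg Q P.e b * sg Q P.f ((d * t) • b) * sg Q P.e b := ⟨_, rfl⟩
  have hne : av n P.e = (-t) • P.f := by
    rw [hn, av_weyl P hb, htb]
    have e : t * t * Q b = t := by rw [mul_assoc, htb, mul_one]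
    rw [e]
    module
  have hβn : β (pu n) = pu n' := by
    have hbs : P.swap.W (t • b) := (P.W_swap _).mpr (P.W_smul t hb)
    have a2 := (TT_spec p P.swap β hβf' (t • b) hbs.1).2
    change β (pu (sg Q P.f (t • b))) = pu (sg Q P.f (TT P.swap β (t • b))) at a2
    rw [hd _ (P.W_smul t hb), smul_smul] at a2
    have h1 : β (pu (sg Q P.e b)) = pu (sg Q P.e b) :=
      hfix _ (Subgroup.mem_map_of_mem _ (sg_mem_Qv P.he hb.1))
    rw [hn, hn', map_mul, map_mul, map_mul, map_mul, h1, a2, map_mul, map_mul]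
  have h1 : img (MulAut.conj (pu n)) (Qb (Q := Q) P.e) = Qb P.f := by
    rw [img_conj_Qb n P.e_ne P.he, hne]
    unfold Qb
    rw [Qv_smul _ (neg_ne_zero.mpr ht0)]
  have h2 := img_conj_comm β (pu n) (Qb (Q := Q) P.e)
  rw [h1, hβf, img_fix_Qe p P β hfix hβf, hβn, img_conj_Qb n' P.e_ne P.he] at h2
  obtain ⟨c, hc⟩ := eq_smul_of_Qb_eq p P.f_ne (av_ne_zero n' P.e_ne) P.hf
    (by rw [Q_av, P.he]) h2
  have h3 : polar (⇑Q) P.f (av n' P.e) = polar (⇑Q) P.f (c • P.f) := congrArg (fun x => polar (⇑Q) P.f x) hc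
  rw [hn', av_weyl P hb, polar_smul_right, B_self_of_sing P.hf, polar_sub_right, polar_add_right,
    polar_smul_right, polar_smul_right, polar_smul_right, P.hfe, hb.2, B_self_of_sing P.hf] at h3
  simp only [smul_eq_mul, mul_zero, add_zero, sub_zero, mul_one] at h3
  have h4 : 1 - d * t * Q b = 0 := by
    rcases pow_eq_zero_iff (two_ne_zero) |>.mp h3 with h
    exact h
  rw [mul_assoc, htb, mul_one] at h4
  exact (sub_eq_zero.mp h4).symm

/-- **rigidity**: an automorphism fixing `Q_e` pointwise and normalising `Q_f` is trivial -/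
theorem rigid : β = 1 := by
  have hβf' : img β (Qb (Q := Q) P.swap.e) = Qb P.swap.e := hβf
  obtain ⟨d, hd⟩ := exists_scalar_swap p P β hfix hβf
  have hd1 := scalar_swap_eq_one p P β hfix hβf d hd
  have hQe : Qv Q P.e ≤ fixSub β := by
    intro g hg
    exact hfix _ (Subgroup.mem_map_of_mem _ hg)
  have hQf : Qv Q P.f ≤ fixSub β := by
    intro g hg
    obtain ⟨w'', hw'', rfl⟩ := exists_sg_of_mem_Qv P.f_ne P.hf g hg
    have hwW : P.swap.W (w'' - polar (⇑Q) P.e w'' • P.f) := P.swap.proj_W hw''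
    have e : sg Q P.f w'' = sg Q P.f (w'' - polar (⇑Q) P.e w'' • P.f) := by
      rw [sub_eq_add_neg, ← neg_smul, sg_add_smul _ P.hf hw'']
    rw [e, mem_fixSub]
    have a2 := (TT_spec p P.swap β hβf' _ hwW.1).2
    change β (pu (sg Q P.f _)) = pu (sg Q P.f (TT P.swap β _)) at a2
    rw [a2, hd _ ((P.W_swap _).mp hwW), hd1, one_smul]
  have htop := gen_top P (fixSub β) hQe hQf
  ext x
  obtain ⟨g, rfl⟩ := pu_surjective x
  have hg : g ∈ fixSub β := by rw [htop]; exact Subgroup.mem_top g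
  exact hg

end rigid

/-- inner automorphisms lie in `PΓO` -/
theorem conj_mem_gamma (g : ↥(Cfsg.Omega F ⇑Q)) :
    MulAut.conj (pu g) ∈ Cfsg.gammaPOmega F ⇑Q := by
  refine Subgroup.subset_closure ⟨g.1.1, RingEquiv.refl F, ⟨1, fun v => ?_⟩, ?_⟩
  · have := Q_gact Q g.1 v
    simpa [gact_def] using this
  · intro s s' h
    change MulAut.conj (pu g) (pu s) = pu s'
    rw [MulAut.conj_apply, ← map_mul, ← map_inv, ← map_mul]
    congr 1
    apply Subtype.ext
    apply Subtype.ext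
    apply Units.ext
    rw [h]
    have : (((s : ↥(Cfsg.isometryGroup F ⇑Q)) : GL ι F) : Matrix ι ι F).map (RingEquiv.refl F) =
        (((s : ↥(Cfsg.isometryGroup F ⇑Q)) : GL ι F) : Matrix ι ι F) := by
      ext i j
      rfl
    rw [this]
    rfl

/-- **`Aut(PΩ(Q)) = PΓO(Q)`** -/
theorem gamma_eq_top (p : ℕ) [hp : Fact p.Prime] [hcp : CharP F p] (hP : HP Q) :
    Cfsg.gammaPOmega F ⇑Q = ⊤ := by
  rw [eq_top_iff]
  intro β₀ _
  have hfin : 5 ≤ Module.finrank F (ι → F) := by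
    rw [Module.finrank_fintype_fun_eq_card]; exact five_le Q
  obtain ⟨e, he0, he, -, -⟩ := exists_singular_perp Q hfin 0 0
  obtain ⟨f, hf, hef⟩ := exists_partner e he0 he
  obtain ⟨P, hP'⟩ : ∃ P : HPr Q, P = ⟨e, f, he, hf, hef⟩ := ⟨_, rfl⟩
  obtain ⟨g, hge, hgf⟩ := exists_normalise p hP P β₀
  obtain ⟨β, hβ⟩ : ∃ β, β = MulAut.conj (pu g) * β₀ := ⟨_, rfl⟩
  rw [← hβ] at hge hgf
  obtain ⟨σ, ν, hν, h1, h2, h3⟩ := exists_semisim_TT p P β hge
  obtain ⟨Φ, hΦ⟩ : ∃ Φ, Φ = mkSemi P (TT P β) σ ν hν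
      (fun w hw => (TT_spec p P β hge w hw.1).1)
      (fun w w' hw hw' => TT_add p P β hge w w' hw.1 hw'.1)
      (fun c w hw => h1 c w hw) (fun w hw => h3 w hw) := ⟨_, rfl⟩
  have hΦm : Φ.gam ∈ Cfsg.gammaPOmega F ⇑Q := Φ.gam_mem
  have hfix : ∀ x ∈ Qb (Q := Q) P.e, (Φ.gam⁻¹ * β) x = x := by
    intro x hx
    obtain ⟨w'', hw'', rfl⟩ := (mem_Qb P.e_ne P.he x).mp hx
    have hwW := P.proj_W hw''
    have e1 : sg Q P.e w'' = sg Q P.e (w'' - polar (⇑Q) P.f w'' • P.e) := by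
      rw [sub_eq_add_neg, ← neg_smul, sg_add_smul _ P.he hw'']
    rw [e1]
    change Φ.gam⁻¹ (β (pu _)) = _
    rw [(TT_spec p P β hge _ hwW.1).2]
    have e2 := gam_sg_e P (TT P β) σ ν hν
      (fun w hw => (TT_spec p P β hge w hw.1).1)
      (fun w w' hw hw' => TT_add p P β hge w w' hw.1 hw'.1)
      (fun c w hw => h1 c w hw) (fun w hw => h3 w hw) _ hwW
    rw [← hΦ] at e2
    rw [← e2]
    exact MulEquiv.symm_apply_apply Φ.gam _
  have h4 : img Φ.gam (Qb (Q := Q) P.f) = Qb P.f := by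
    apply img_eq_of_le''
    intro x hx
    obtain ⟨y, hy, rfl⟩ := (mem_img _ _ _).mp hx
    obtain ⟨w'', hw'', rfl⟩ := (mem_Qb P.f_ne P.hf y).mp hy
    have hwW : P.swap.W (w'' - polar (⇑Q) P.e w'' • P.f) := P.swap.proj_W hw''
    have e1 : sg Q P.f w'' = sg Q P.f (w'' - polar (⇑Q) P.e w'' • P.f) := by
      rw [sub_eq_add_neg, ← neg_smul, sg_add_smul _ P.hf hw'']
    rw [e1]
    have e2 := gam_sg_f P (TT P β) σ ν hν
      (fun w hw => (TT_spec p P β hge w hw.1).1)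
      (fun w w' hw hw' => TT_add p P β hge w w' hw.1 hw'.1)
      (fun c w hw => h1 c w hw) (fun w hw => h3 w hw) _ ((P.W_swap _).mp hwW)
    rw [← hΦ] at e2
    rw [e2]
    refine Subgroup.mem_map_of_mem _ (sg_mem_Qv P.hf ?_)
    rw [polar_smul_right, (TT_spec p P β hge _ ((P.W_swap _).mp hwW).1).1.2, smul_zero]
  have hf' : img (Φ.gam⁻¹ * β) (Qb (Q := Q) P.f) = Qb P.f := by
    rw [img_mul', hgf]
    conv_lhs => rw [← h4]
    exact img_inv_img _ _
  have hr := rigid p P (Φ.gam⁻¹ * β) hfix hf'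
  have hβΦ : β = Φ.gam := by
    have : Φ.gam * (Φ.gam⁻¹ * β) = Φ.gam * 1 := by rw [hr]
    rwa [mul_inv_cancel_left, mul_one] at this
  have hβ₀ : β₀ = (MulAut.conj (pu g))⁻¹ * β := by rw [hβ, inv_mul_cancel_left]
  rw [hβ₀, hβΦ]
  exact Subgroup.mul_mem _ (Subgroup.inv_mem _ (conj_mem_gamma g)) hΦm

end Cfsg.Agent.Lib.Helper6.AutOrt
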