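import Mathlib
import Cfsg.Agent.Lib.Helper6.AutOrt15
import Cfsg.Agent.Lib.Helper15.QuadF2b
import Cfsg.Agent.Lib.Helper15.QuadF2a
import Cfsg.Agent.Lib.Helper15.QuadCount6
import Cfsg.Agent.Lib.Helper6.OrthForms

/-!
# Automorphisms of orthogonal groups, part 16: the three families of forms
-/

set_option autoImplicit false
set_option linter.unusedSectionVars false
set_option linter.unusedVariables false

open Cfsg Matrix QuadraticMap Module

namespace Cfsg.Agent.Lib.Helper6.AutOrt

open Cfsg.Agent.Lib.Helper6 Cfsg.Agent.Lib.Helper15 Cfsg.Agent.Lib.Helper6.AutPSL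

variable {F : Type*} [Field F] [Fintype F] {ι : Type} [Fintype ι] [DecidableEq ι]

section HPgen
variable {Q : QuadraticForm F (ι → F)}

/-- the span of four pairwise perpendicular singular vectors is totally singular -/
theorem ts_span4 {a b c d : ι → F} (hac : polar (⇑Q) a c = 0) (had : polar (⇑Q) a d = 0)
    (hbc : polar (⇑Q) b c = 0) (hbd : polar (⇑Q) b d = 0) (ha : Q a = 0) (hb : Q b = 0)
    (hc : Q c = 0) (hd : Q d = 0) (hab : polar (⇑Q) a b = 0) (hcd : polar (⇑Q) c d = 0) :
    ∀ x ∈ Submodule.span F (Set.range ![a, b, c, d]), Q x = 0 := by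
  intro x hx
  obtain ⟨t, rfl⟩ := (Submodule.mem_span_range_iff_exists_fun F).mp hx
  rw [Fin.sum_univ_four]
  change Q (t 0 • a + t 1 • b + t 2 • c + t 3 • d) = 0
  simp only [Q_add, Q_smul, polar_add_left, polar_smul_left, polar_smul_right, ha, hb, hc, hd, hab,
    hac, had, hbc, hbd, hcd, smul_eq_mul, mul_zero, add_zero]

theorem mem_orth_span4 {a b c d y : ι → F} :
    y ∈ LinearMap.BilinForm.orthogonal (polarBilin Q) (Submodule.span F (Set.range ![a, b, c, d])) ↔
      polar (⇑Q) a y = 0 ∧ polar (⇑Q) b y = 0 ∧ polar (⇑Q) c y = 0 ∧ polar (⇑Q) d y = 0 := by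
  rw [LinearMap.BilinForm.mem_orthogonal_iff]
  constructor
  · intro h
    exact ⟨h a (Submodule.subset_span ⟨0, rfl⟩), h b (Submodule.subset_span ⟨1, rfl⟩),
      h c (Submodule.subset_span ⟨2, rfl⟩), h d (Submodule.subset_span ⟨3, rfl⟩)⟩
  · rintro ⟨h1, h2, h3, h4⟩ n hn
    obtain ⟨t, rfl⟩ := (Submodule.mem_span_range_iff_exists_fun F).mp hn
    rw [Fin.sum_univ_four]
    change polar (⇑Q) (t 0 • a + t 1 • b + t 2 • c + t 3 • d) y = 0
    simp only [polar_add_left, polar_smul_left, h1, h2, h3, h4, smul_eq_mul, mul_zero, add_zero]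

variable [hS : Std Q]

/-- in dimension at least nine, totally singular 4-spaces are not maximal -/
theorem HP_of_nine (h9 : 9 ≤ Fintype.card ι) : HP Q := by
  intro a b c d hac had hbc hbd ha hb hc hd hab hcd hli
  by_contra hcon
  push Not at hcon
  have hB : (polarBilin Q).Nondegenerate := hS.nondeg
  have hrefl : (polarBilin Q).IsRefl := by
    intro x y h
    rw [polarBilin_apply_apply] at h ⊢
    rw [polar_comm]
    exact h
  obtain ⟨E, hE⟩ : ∃ E, E = Submodule.span F (Set.range ![a, b, c, d]) := ⟨_, rfl⟩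
  have hfE : finrank F E = 4 := by
    rw [hE, finrank_span_eq_card hli, Fintype.card_fin]
  have hle : LinearMap.BilinForm.orthogonal (polarBilin Q) E ≤
      LinearMap.BilinForm.orthogonal (polarBilin Q)
        (LinearMap.BilinForm.orthogonal (polarBilin Q) E) := by
    intro y hy
    rw [LinearMap.BilinForm.mem_orthogonal_iff]
    intro y' hy'
    rw [hE] at hy hy'
    obtain ⟨h1, h2, h3, h4⟩ := mem_orth_span4.mp hy
    obtain ⟨h1', h2', h3', h4'⟩ := mem_orth_span4.mp hy'
    exact hcon y' y h1' h2' h3' h4' h1 h2 h3 h4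
  rw [LinearMap.BilinForm.orthogonal_orthogonal hB hrefl] at hle
  have h1 := Submodule.finrank_mono hle
  have h2 := LinearMap.BilinForm.finrank_orthogonal hB E
  rw [Module.finrank_fintype_fun_eq_card, hfE] at h2
  omega

/-- in dimension at most seven there are no totally singular 4-spaces -/
theorem HP_of_le_seven (h7 : Fintype.card ι ≤ 7) : HP Q := by
  intro a b c d hac had hbc hbd ha hb hc hd hab hcd hli
  exfalso
  have h1 := two_mul_finrank_le_of_singular Q hS.nondeg _
    (ts_span4 hac had hbc hbd ha hb hc hd hab hcd)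
  rw [finrank_span_eq_card hli, Fintype.card_fin, Module.finrank_fintype_fun_eq_card] at h1
  omega

end HPgen

section minus
variable (k : ℕ) {κ : Type} [Fintype κ] [DecidableEq κ] (T : QuadraticForm F (κ → F))

/-- the standard totally singular subspace of `Qgen` -/
def stdM : Submodule F ((Fin k ⊕ Fin k) ⊕ κ → F) :=
  Submodule.span F (Set.range fun i : Fin k =>
    (Pi.single (Sum.inl (Sum.inl i)) (1 : F) : (Fin k ⊕ Fin k) ⊕ κ → F))

theorem finrank_stdM_le : finrank F (stdM (F := F) k (κ := κ)) ≤ k := by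
  have := finrank_range_le_card (R := F) (fun i : Fin k =>
    (Pi.single (Sum.inl (Sum.inl i)) (1 : F) : (Fin k ⊕ Fin k) ⊕ κ → F))
  rw [Fintype.card_fin] at this
  exact this

theorem coord_of_orth_stdM {y : (Fin k ⊕ Fin k) ⊕ κ → F}
    (hy : y ∈ LinearMap.BilinForm.orthogonal (polarBilin (Qgen k T)) (stdM (F := F) k (κ := κ)))
    (i : Fin k) : y (Sum.inl (Sum.inr i)) = 0 := by
  have h1 := hy _ (Submodule.subset_span ⟨i, rfl⟩)
  change polar (⇑(Qgen k T)) _ y = 0 at h1
  rw [polar_Qgen] at h1
  have h0 : (fun a : κ => (Pi.single (Sum.inl (Sum.inl i)) (1 : F) :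
      (Fin k ⊕ Fin k) ⊕ κ → F) (Sum.inr a)) = 0 := by
    funext a; simp [Pi.single_apply]
  rw [h0, QuadraticMap.polar_zero_left, add_zero] at h1
  simp only [Pi.single_apply, Sum.inl.injEq, Sum.inr.injEq, reduceCtorEq, if_false, zero_mul,
    add_zero, ite_mul, one_mul] at h1
  rw [Finset.sum_ite_eq' Finset.univ i] at h1
  simpa using h1

/-- a form with anisotropic part has no totally singular subspace of more than half the
hyperbolic dimension -/
theorem no_ts_Qgen (hT : ∀ z, T z = 0 → z = 0) (hnd : (polarBilin (Qgen k T)).Nondegenerate)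
    (E : Submodule F ((Fin k ⊕ Fin k) ⊕ κ → F)) (hE : ∀ x ∈ E, Qgen k T x = 0)
    (hdim : 2 * finrank F E = finrank F ((Fin k ⊕ Fin k) ⊕ κ → F)) (hk : k < finrank F E) :
    False := by
  have hEE := orthogonal_eq_of_singular (Qgen k T) hnd E hE hdim
  obtain ⟨M, hM⟩ : ∃ M, M = stdM (F := F) k (κ := κ) := ⟨_, rfl⟩
  have hMk : finrank F M ≤ k := by rw [hM]; exact finrank_stdM_le k
  have h1 : LinearMap.BilinForm.orthogonal (polarBilin (Qgen k T)) (E ⊔ M) ≤ E ⊓ M := by
    intro x hx
    have hxE : x ∈ E := by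
      rw [← hEE]
      exact LinearMap.BilinForm.orthogonal_le le_sup_left hx
    have hxM : x ∈ LinearMap.BilinForm.orthogonal (polarBilin (Qgen k T)) M :=
      LinearMap.BilinForm.orthogonal_le le_sup_right hx
    rw [hM] at hxM
    have hc := coord_of_orth_stdM k T hxM
    have hQ := hE x hxE
    rw [Qgen_apply] at hQ
    have hs : ∑ i : Fin k, x (Sum.inl (Sum.inl i)) * x (Sum.inl (Sum.inr i)) = 0 := by
      apply Finset.sum_eq_zero
      intro i _
      rw [hc i, mul_zero]
    rw [hs, zero_add] at hQ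
    have hz := hT _ hQ
    refine Submodule.mem_inf.mpr ⟨hxE, ?_⟩
    have hx' : x = ∑ i : Fin k, x (Sum.inl (Sum.inl i)) •
        (Pi.single (Sum.inl (Sum.inl i)) (1 : F) : (Fin k ⊕ Fin k) ⊕ κ → F) := by
      funext j
      rw [Finset.sum_apply]
      simp only [Pi.smul_apply, Pi.single_apply, smul_eq_mul, mul_ite, mul_one, mul_zero]
      rcases j with (j | j) | j
      · rw [Finset.sum_eq_single j]
        · rw [if_pos rfl]
        · intro b _ hb
          rw [if_neg]
          intro h
          exact hb (Sum.inl.inj (Sum.inl.inj h)).symm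
        · intro h
          exact absurd (Finset.mem_univ j) h
      · rw [hc j]
        symm
        apply Finset.sum_eq_zero
        intro b _
        rw [if_neg]
        intro h
        simp at h
      · have := congrFun hz j
        simp only [Pi.zero_apply] at this
        rw [this]
        symm
        apply Finset.sum_eq_zero
        intro b _
        rw [if_neg]
        intro h
        simp at h
    rw [hx', hM]
    exact Submodule.sum_mem _ (fun i _ => Submodule.smul_mem _ _ (Submodule.subset_span ⟨i, rfl⟩))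
  have h2 := Submodule.finrank_mono h1
  have h3 := LinearMap.BilinForm.finrank_orthogonal hnd (E ⊔ M)
  have h4 := Submodule.finrank_sup_add_finrank_inf_eq E M
  have h5 := Submodule.finrank_le (E ⊔ M)
  omega

end minus

/-! ### The standing hypotheses for the three families -/

section odd
variable (F) (m : ℕ)

/-- the hyperbolic triple of the odd-dimensional form -/
noncomputable def oddTriple (hm : 3 ≤ m) : HypTriple (QOdd F m) where
  u i := Pi.single (Sum.inr (Sum.inl (Fin.castLE hm i))) 1
  w i := Pi.single (Sum.inr (Sum.inr (Fin.castLE hm i))) 1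
  huu i k := by
    rw [polar_QOdd]
    simp [Pi.single_apply]
  hww i k := by
    rw [polar_QOdd]
    simp [Pi.single_apply]
  huw i k := by
    rw [polar_QOdd]
    simp only [Pi.single_apply, Sum.inl.injEq, Sum.inr.injEq, reduceCtorEq, if_false, mul_zero,
      add_zero, ite_mul, one_mul, zero_mul, zero_add]
    rw [Finset.sum_ite_eq' Finset.univ (Fin.castLE hm i)]
    simp only [Finset.mem_univ, if_true]
    by_cases hik : i = k
    · rw [if_pos hik, if_pos (by rw [hik])]
    · rw [if_neg hik, if_neg (fun e => hik ((Fin.castLE_injective hm) e))]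
  hQu i := by
    rw [QOdd_apply]
    unfold Cfsg.quadFormOdd
    simp [Pi.single_apply]
  hQw i := by
    rw [QOdd_apply]
    unfold Cfsg.quadFormOdd
    simp [Pi.single_apply]

/-- the hyperbolic triple of the plus type form -/
noncomputable def plusTriple' (hm : 3 ≤ m) : HypTriple (QPlus F m) where
  u i := Pi.single (Sum.inl (Fin.castLE hm i)) 1
  w i := Pi.single (Sum.inr (Fin.castLE hm i)) 1
  huu i k := by
    rw [polar_QPlus]
    simp [Pi.single_apply]
  hww i k := by
    rw [polar_QPlus]
    simp [Pi.single_apply]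
  huw i k := by
    rw [polar_QPlus]
    simp only [Pi.single_apply, Sum.inl.injEq, Sum.inr.injEq, reduceCtorEq, if_false, mul_zero,
      add_zero, ite_mul, one_mul, zero_mul]
    rw [Finset.sum_ite_eq' Finset.univ (Fin.castLE hm i)]
    simp only [Finset.mem_univ, if_true]
    by_cases hik : i = k
    · rw [if_pos hik, if_pos (by rw [hik])]
    · rw [if_neg hik, if_neg (fun e => hik ((Fin.castLE_injective hm) e))]
  hQu i := by
    rw [QPlus_apply]
    unfold Cfsg.quadFormPlus
    simp [Pi.single_apply]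
  hQw i := by
    rw [QPlus_apply]
    unfold Cfsg.quadFormPlus
    simp [Pi.single_apply]

/-- the hyperbolic triple of the minus type form -/
noncomputable def minusTriple' (T : QuadraticForm F (Fin 2 → F)) (hk : 3 ≤ m) :
    HypTriple (Qgen m T) where
  u i := Pi.single (Sum.inl (Sum.inl (Fin.castLE hk i))) 1
  w i := Pi.single (Sum.inl (Sum.inr (Fin.castLE hk i))) 1
  huu i j := by
    rw [polar_Qgen]
    have h0 : (fun a : Fin 2 => (Pi.single (Sum.inl (Sum.inl (Fin.castLE hk i))) (1 : F) :
        (Fin m ⊕ Fin m) ⊕ Fin 2 → F) (Sum.inr a)) = 0 := by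
      funext a; simp [Pi.single_apply]
    rw [h0, QuadraticMap.polar_zero_left]
    simp [Pi.single_apply]
  hww i j := by
    rw [polar_Qgen]
    have h0 : (fun a : Fin 2 => (Pi.single (Sum.inl (Sum.inr (Fin.castLE hk i))) (1 : F) :
        (Fin m ⊕ Fin m) ⊕ Fin 2 → F) (Sum.inr a)) = 0 := by
      funext a; simp [Pi.single_apply]
    rw [h0, QuadraticMap.polar_zero_left]
    simp [Pi.single_apply]
  huw i j := by
    rw [polar_Qgen]
    have h0 : (fun a : Fin 2 => (Pi.single (Sum.inl (Sum.inl (Fin.castLE hk i))) (1 : F) :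
        (Fin m ⊕ Fin m) ⊕ Fin 2 → F) (Sum.inr a)) = 0 := by
      funext a; simp [Pi.single_apply]
    rw [h0, QuadraticMap.polar_zero_left, add_zero]
    simp only [Pi.single_apply, Sum.inl.injEq, Sum.inr.injEq, reduceCtorEq, if_false, mul_zero,
      add_zero, ite_mul, one_mul, zero_mul]
    rw [Finset.sum_ite_eq' Finset.univ (Fin.castLE hk i)]
    simp only [Finset.mem_univ, if_true]
    by_cases hij : i = j
    · rw [if_pos hij, if_pos (by rw [hij])]
    · rw [if_neg hij, if_neg (fun e => hij ((Fin.castLE_injective hk) e))]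
  hQu i := by
    rw [Qgen_apply]
    have h0 : (fun a : Fin 2 => (Pi.single (Sum.inl (Sum.inl (Fin.castLE hk i))) (1 : F) :
        (Fin m ⊕ Fin m) ⊕ Fin 2 → F) (Sum.inr a)) = 0 := by
      funext a; simp [Pi.single_apply]
    rw [h0, map_zero]
    simp [Pi.single_apply]
  hQw i := by
    rw [Qgen_apply]
    have h0 : (fun a : Fin 2 => (Pi.single (Sum.inl (Sum.inr (Fin.castLE hk i))) (1 : F) :
        (Fin m ⊕ Fin m) ⊕ Fin 2 → F) (Sum.inr a)) = 0 := by
      funext a; simp [Pi.single_apply]
    rw [h0, map_zero]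
    simp [Pi.single_apply]

end odd

theorem exists_char (F : Type*) [Field F] [Fintype F] :
    ∃ p : ℕ, Nat.Prime p ∧ CharP F p := by
  obtain ⟨p, hp⟩ := CharP.exists F
  exact ⟨p, CharP.char_is_prime F p, hp⟩

theorem two_ne_zero_of_odd (hodd : Odd (Fintype.card F)) : (2 : F) ≠ 0 := by
  intro h2
  have hF : ringChar F = 2 :=
    CharP.ringChar_of_prime_eq_zero Nat.prime_two (by exact_mod_cast h2)
  have := FiniteField.even_card_of_char_two hF
  rw [Nat.odd_iff] at hodd
  omega

/-- **`Aut(Ω_{2m+1}(q)) = PΓO_{2m+1}(q)`**, `q` odd, `m ≥ 3` -/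
theorem gamma_odd_eq_top (hodd : Odd (Fintype.card F)) {m : ℕ} (hm : 3 ≤ m) :
    Cfsg.gammaPOmega F (Cfsg.quadFormOdd m F) = ⊤ := by
  have hfun : Cfsg.quadFormOdd m F = ⇑(QOdd F m) := by
    funext v
    rw [QOdd_apply]
  rw [hfun]
  have h2 := two_ne_zero_of_odd hodd
  have hcard : Fintype.card (Unit ⊕ (Fin m ⊕ Fin m)) = 2 * m + 1 := by
    rw [Fintype.card_sum, Fintype.card_sum, Fintype.card_fin, Fintype.card_unit]; omega
  haveI : Std (QOdd F m) :=
    { nondeg := nondegenerate_QOdd F h2 m
      seven := by rw [hcard]; omega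
      triple := ⟨oddTriple F m hm⟩ }
  obtain ⟨p, hp, hcp⟩ := exists_char F
  haveI : Fact p.Prime := ⟨hp⟩
  have hP : HP (QOdd F m) := by
    by_cases h3 : m = 3
    · apply HP_of_le_seven
      rw [hcard]; omega
    · apply HP_of_nine
      rw [hcard]; omega
  exact gamma_eq_top p hP

/-- **`Aut(PΩ⁺_{2m}(q)) = PΓO⁺_{2m}(q)`**, `m ≥ 5` -/
theorem gamma_plus_eq_top {m : ℕ} (hm : 5 ≤ m) :
    Cfsg.gammaPOmega F (Cfsg.quadFormPlus m F) = ⊤ := by
  have hfun : Cfsg.quadFormPlus m F = ⇑(QPlus F m) := by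
    funext v
    rw [QPlus_apply]
  rw [hfun]
  have hcard : Fintype.card (Fin m ⊕ Fin m) = 2 * m := by
    rw [Fintype.card_sum, Fintype.card_fin]; omega
  haveI : Std (QPlus F m) :=
    { nondeg := nondegenerate_QPlus F m
      seven := by rw [hcard]; omega
      triple := ⟨plusTriple' F m (by omega)⟩ }
  obtain ⟨p, hp, hcp⟩ := exists_char F
  haveI : Fact p.Prime := ⟨hp⟩
  have hP : HP (QPlus F m) := by
    apply HP_of_nine
    rw [hcard]; omega
  exact gamma_eq_top p hP

/-- **`Aut(PΩ⁻_{2m+2}(q)) = PΓO⁻_{2m+2}(q)`**, `m ≥ 3` -/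
theorem gamma_minus_eq_top {m : ℕ} (hm : 3 ≤ m) (a b : F)
    (hab : ∀ z₁ z₂ : F, z₁ ^ 2 + a * z₁ * z₂ + b * z₂ ^ 2 = 0 → z₁ = 0 ∧ z₂ = 0) :
    Cfsg.gammaPOmega F (Cfsg.quadFormMinus m F a b) = ⊤ := by
  have hfun : Cfsg.quadFormMinus m F a b = ⇑(Qgen m (binForm a b)) := by
    funext v
    rw [Qgen_apply, binForm_apply]
    rfl
  rw [hfun]
  have hcard : Fintype.card ((Fin m ⊕ Fin m) ⊕ Fin 2) = 2 * m + 2 := by
    rw [Fintype.card_sum, Fintype.card_sum, Fintype.card_fin, Fintype.card_fin]; omega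
  have hnd := nondegenerate_Qgen m (binForm a b) (nondegenerate_binForm a b hab)
  haveI : Std (Qgen m (binForm a b)) :=
    { nondeg := hnd
      seven := by rw [hcard]; omega
      triple := ⟨minusTriple' F m (binForm a b) hm⟩ }
  obtain ⟨p, hp, hcp⟩ := exists_char F
  haveI : Fact p.Prime := ⟨hp⟩
  have hT : ∀ z : Fin 2 → F, binForm a b z = 0 → z = 0 := by
    intro z hz
    rw [binForm_apply] at hz
    obtain ⟨h0, h1⟩ := hab _ _ hz
    funext i
    fin_cases i
    · exact h0
    · exact h1
  have hP : HP (Qgen m (binForm a b)) := by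
    by_cases h3 : m = 3
    · subst h3
      intro a' b' c d hac had hbc hbd ha hb hc hd hab' hcd hli
      exfalso
      refine no_ts_Qgen 3 (binForm a b) hT hnd _
        (ts_span4 hac had hbc hbd ha hb hc hd hab' hcd) ?_ ?_
      · rw [finrank_span_eq_card hli, Fintype.card_fin, Module.finrank_fintype_fun_eq_card, hcard]
      · rw [finrank_span_eq_card hli, Fintype.card_fin]
        omega
    · apply HP_of_nine
      rw [hcard]; omega
  exact gamma_eq_top p hP

end Cfsg.Agent.Lib.Helper6.AutOrt
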