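import Mathlib
import Cfsg.Agent.Lib.Helper6.AutOrt15

/-!
# Automorphisms of orthogonal groups, part 17: the homomorphism `Aut(PΩ) → Aut(F)` and its
kernel, the image of the similarity group
-/

set_option autoImplicit false
set_option linter.unusedSectionVars false
set_option linter.unusedVariables false

open Cfsg Matrix QuadraticMap Module

namespace Cfsg.Agent.Lib.Helper6.AutOrt

open Cfsg.Agent.Lib.Helper6 Cfsg.Agent.Lib.Helper15 Cfsg.Agent.Lib.Helper6.AutPSL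

variable {F : Type*} [Field F] [Fintype F] {ι : Type} [Fintype ι] [DecidableEq ι]
variable {Q : QuadraticForm F (ι → F)} [hS : Std Q]

namespace SemiSimO

/-- the semilinear similarity of a pair -/
noncomputable def ofPair (g : GL ι F) (σ : F ≃+* F) (h : Cfsg.IsSemisimilarityPair (⇑Q) g σ) :
    SemiSimO Q where
  S x := (g : Matrix ι ι F) *ᵥ (fun i => σ (x i))
  σ := σ
  ν := ((Classical.choose h : Fˣ) : F)
  hν := Units.ne_zero _
  add x y := by
    rw [← mulVec_add]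
    congr 1
    funext i
    simp
  smul a x := by
    rw [← mulVec_smul]
    congr 1
    funext i
    simp
  form x := Classical.choose_spec h x

theorem ofPair_S (g : GL ι F) (σ : F ≃+* F) (h : Cfsg.IsSemisimilarityPair (⇑Q) g σ)
    (x : ι → F) : (ofPair g σ h).S x = (g : Matrix ι ι F) *ᵥ (fun i => σ (x i)) := rfl

theorem ofPair_gl (g : GL ι F) (σ : F ≃+* F) (h : Cfsg.IsSemisimilarityPair (⇑Q) g σ) :
    (ofPair g σ h).gl = g := by
  apply Units.ext
  rw [gl_val]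
  apply matrix_ext_mulVec
  intro x
  rw [mat_mulVec, ofPair_S]
  congr 1
  funext i
  change σ (σ.symm (x i)) = x i
  simp

/-- the automorphism attached to a semilinear similarity is induced by its pair -/
theorem gam_induced (Φ : SemiSimO Q) : Cfsg.IsInducedBySemilinearPOmega (⇑Q) Φ.gl Φ.σ Φ.gam := by
  intro s s' h
  change Φ.gam (pu s) = pu s'
  rw [gam_pu]
  congr 1
  apply Subtype.ext
  apply Subtype.ext
  apply Units.ext
  rw [h]
  rfl

theorem eq_gam_of_induced (g : GL ι F) (σ : F ≃+* F) (h : Cfsg.IsSemisimilarityPair (⇑Q) g σ)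
    (β : MulAut (Cfsg.POmega F ⇑Q)) (hβ : Cfsg.IsInducedBySemilinearPOmega (⇑Q) g σ β) :
    β = (ofPair g σ h).gam := by
  ext x
  obtain ⟨s, rfl⟩ := pu_surjective x
  rw [gam_pu]
  apply hβ s ((ofPair g σ h).cOm s)
  change (ofPair g σ h).cmat s.1 = _
  unfold cmat
  rw [ofPair_gl]
  rfl

theorem gam_eq_of_S_eq (Φ Ψ : SemiSimO Q) (h : ∀ x, Φ.S x = Ψ.S x) : Φ.gam = Ψ.gam := by
  ext x
  obtain ⟨s, rfl⟩ := pu_surjective x
  rw [Ψ.gam_pu]
  apply Φ.gam_eq_of
  intro y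
  rw [h, h, Ψ.av_cOm]

theorem gam_eq_one_of_smul (Φ : SemiSimO Q) (c : F) (h : ∀ x, Φ.S x = c • x) : Φ.gam = 1 := by
  ext x
  obtain ⟨s, rfl⟩ := pu_surjective x
  change Φ.gam (pu s) = pu s
  apply Φ.gam_eq_of
  intro y
  rw [h, h, av_smul]

/-- composition -/
def comp (Φ Ψ : SemiSimO Q) : SemiSimO Q where
  S x := Φ.S (Ψ.S x)
  σ := Ψ.σ.trans Φ.σ
  ν := Φ.ν * Φ.σ Ψ.ν
  hν := mul_ne_zero Φ.hν ((map_ne_zero _).mpr Ψ.hν)
  add x y := by rw [Ψ.add, Φ.add]
  smul a x := by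
    rw [Ψ.smul, Φ.smul]
    rfl
  form x := by
    rw [Φ.form, Ψ.form, map_mul]
    change _ = _ * Φ.σ (Ψ.σ (Q x))
    ring

theorem comp_S (Φ Ψ : SemiSimO Q) (x : ι → F) : (Φ.comp Ψ).S x = Φ.S (Ψ.S x) := rfl

theorem comp_σ (Φ Ψ : SemiSimO Q) : (Φ.comp Ψ).σ = Ψ.σ.trans Φ.σ := rfl

theorem gam_comp (Φ Ψ : SemiSimO Q) : (Φ.comp Ψ).gam = Φ.gam * Ψ.gam := by
  ext x
  obtain ⟨s, rfl⟩ := pu_surjective x
  change _ = Φ.gam (Ψ.gam (pu s))
  rw [Ψ.gam_pu, Φ.gam_pu]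
  apply (Φ.comp Ψ).gam_eq_of
  intro y
  rw [comp_S, comp_S, Φ.av_cOm, Ψ.av_cOm]

/-- the identity -/
def one (Q : QuadraticForm F (ι → F)) : SemiSimO Q where
  S x := x
  σ := RingEquiv.refl F
  ν := 1
  hν := one_ne_zero
  add x y := rfl
  smul a x := rfl
  form x := by
    rw [one_mul]
    rfl

theorem gam_one : (one Q).gam = 1 := by
  apply gam_eq_one_of_smul _ 1
  intro x
  rw [one_smul]
  rfl

/-- the inverse map -/
noncomputable def Sinv (Φ : SemiSimO Q) : (ι → F) → (ι → F) := Function.surjInv Φ.S_surjective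

theorem S_Sinv (Φ : SemiSimO Q) (x : ι → F) : Φ.S (Φ.Sinv x) = x :=
  Function.surjInv_eq Φ.S_surjective x

theorem Sinv_S (Φ : SemiSimO Q) (x : ι → F) : Φ.Sinv (Φ.S x) = x :=
  Φ.S_injective (Φ.S_Sinv _)

/-- the inverse -/
noncomputable def symm (Φ : SemiSimO Q) : SemiSimO Q where
  S := Φ.Sinv
  σ := Φ.σ.symm
  ν := Φ.σ.symm (Φ.ν⁻¹)
  hν := (map_ne_zero _).mpr (inv_ne_zero Φ.hν)
  add x y := by
    apply Φ.S_injective
    rw [Φ.add, S_Sinv, S_Sinv, S_Sinv]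
  smul a x := by
    apply Φ.S_injective
    rw [Φ.smul, S_Sinv, S_Sinv, RingEquiv.apply_symm_apply]
  form x := by
    have h1 := Φ.form (Φ.Sinv x)
    rw [S_Sinv] at h1
    rw [← map_mul, h1, ← mul_assoc, inv_mul_cancel₀ Φ.hν, one_mul, RingEquiv.symm_apply_apply]

theorem symm_S (Φ : SemiSimO Q) (x : ι → F) : Φ.symm.S x = Φ.Sinv x := rfl

theorem symm_σ (Φ : SemiSimO Q) : Φ.symm.σ = Φ.σ.symm := rfl

theorem gam_symm (Φ : SemiSimO Q) : Φ.symm.gam = Φ.gam⁻¹ := by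
  have h1 : Φ.symm.gam * Φ.gam = 1 := by
    rw [← gam_comp]
    apply gam_eq_one_of_smul _ 1
    intro x
    rw [comp_S, symm_S, Sinv_S, one_smul]
  exact eq_inv_of_mul_eq_one_left h1

/-- the semilinear similarity of an element of `Ω` -/
def ofOm (g : ↥(Cfsg.Omega F ⇑Q)) : SemiSimO Q where
  S x := av g x
  σ := RingEquiv.refl F
  ν := 1
  hν := one_ne_zero
  add x y := av_add g x y
  smul a x := av_smul g a x
  form x := by
    rw [Q_av, one_mul]
    rfl

theorem gam_ofOm (g : ↥(Cfsg.Omega F ⇑Q)) : (ofOm g).gam = MulAut.conj (pu g) := by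
  ext x
  obtain ⟨s, rfl⟩ := pu_surjective x
  rw [MulAut.conj_apply, ← map_mul, ← map_inv, ← map_mul]
  apply (ofOm g).gam_eq_of
  intro y
  change av (g * s * g⁻¹) (av g y) = av g (av s y)
  rw [av_mul, av_mul, av_inv_av]

end SemiSimO

section main
variable (p : ℕ) [hp : Fact p.Prime] [hcp : CharP F p] (hP : HP Q)
include hp hcp hP

/-- every automorphism of `PΩ` is attached to a semilinear similarity -/
theorem exists_semi (β : MulAut (Cfsg.POmega F ⇑Q)) : ∃ Φ : SemiSimO Q, Φ.gam = β := by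
  have hβ : β ∈ Cfsg.gammaPOmega F ⇑Q := by
    rw [gamma_eq_top p hP]
    exact Subgroup.mem_top β
  unfold Cfsg.gammaPOmega Cfsg.autSubgroupOf at hβ
  induction hβ using Subgroup.closure_induction with
  | mem x hx =>
    obtain ⟨g, σ, h1, h2⟩ := hx
    exact ⟨SemiSimO.ofPair g σ h1, (SemiSimO.eq_gam_of_induced g σ h1 x h2).symm⟩
  | one => exact ⟨SemiSimO.one Q, SemiSimO.gam_one⟩
  | mul x y hx hy ihx ihy =>
    obtain ⟨Φ, rfl⟩ := ihx
    obtain ⟨Ψ, rfl⟩ := ihy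
    exact ⟨Φ.comp Ψ, SemiSimO.gam_comp Φ Ψ⟩
  | inv x hx ih =>
    obtain ⟨Φ, rfl⟩ := ih
    exact ⟨Φ.symm, SemiSimO.gam_symm Φ⟩

omit hP in
/-- a semilinear similarity acting trivially on `PΩ` is a scalar -/
theorem scalar_of_gam_eq_one (Φ : SemiSimO Q) (h : Φ.gam = 1) :
    Φ.σ = RingEquiv.refl F ∧ ∃ c : F, ∀ x, Φ.S x = c • x := by
  have hfin : 5 ≤ Module.finrank F (ι → F) := by
    rw [Module.finrank_fintype_fun_eq_card]; exact five_le Q
  have hperf := Omega_perfect Q hS.nondeg (five_le Q)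
  have h1 : ∀ s : ↥(Cfsg.Omega F ⇑Q), Φ.cOm s = s := by
    apply AutInduced.eq_of_quot_trivial hperf
    intro s
    have := Φ.gam_pu s
    rw [h] at this
    exact this.symm
  have h2 : ∀ (s : ↥(Cfsg.Omega F ⇑Q)) (y : ι → F), av s (Φ.S y) = Φ.S (av s y) := by
    intro s y
    have := Φ.av_cOm s y
    rwa [h1] at this
  have h3 : ∀ u : ι → F, Q u = 0 → ∃ d : F, Φ.S u = d • u := by
    intro u hu
    by_cases hu0 : u = 0
    · exact ⟨0, by rw [hu0, Φ.S_zero, smul_zero]⟩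
    apply fixed_of_Qv hu0 hu
    intro g hg
    rw [h2, hg.1]
  obtain ⟨c, hc⟩ := scalar_of_fix_sing Q hS.nondeg hfin Φ.S Φ.add h3
  refine ⟨?_, c, hc⟩
  obtain ⟨u₀, hu₀0, -, -, -⟩ := exists_singular_perp Q hfin 0 0
  have hc0 : c ≠ 0 := by
    rintro rfl
    have h4 := hc u₀
    rw [zero_smul, ← Φ.S_zero] at h4
    exact hu₀0 (Φ.S_injective h4)
  ext a
  have h4 := Φ.smul a u₀
  rw [hc, hc, smul_smul, smul_smul] at h4
  have h5 : (c * a - Φ.σ a * c) • u₀ = 0 := by rw [sub_smul, h4, sub_self]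
  rcases smul_eq_zero.mp h5 with h6 | h6
  · have h7 : c * (a - Φ.σ a) = 0 := by linear_combination h6
    rcases mul_eq_zero.mp h7 with h8 | h8
    · exact absurd h8 hc0
    · exact (sub_eq_zero.mp h8).symm
  · exact absurd h6 hu₀0

omit hP in
/-- the field automorphism of a semilinear similarity is determined by the automorphism -/
theorem σ_eq_of_gam_eq (Φ Ψ : SemiSimO Q) (h : Φ.gam = Ψ.gam) : Φ.σ = Ψ.σ := by
  have h1 : (Φ.symm.comp Ψ).gam = 1 := by
    rw [SemiSimO.gam_comp, SemiSimO.gam_symm, h, inv_mul_cancel]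
  obtain ⟨h2, -⟩ := scalar_of_gam_eq_one p _ h1
  rw [SemiSimO.comp_σ, SemiSimO.symm_σ] at h2
  ext a
  have := congrArg (fun τ : F ≃+* F => Φ.σ (τ a)) h2
  simp only [RingEquiv.trans_apply, RingEquiv.apply_symm_apply, RingEquiv.refl_apply] at this
  exact this.symm

/-- the field automorphism attached to an automorphism of `PΩ` -/
noncomputable def psiFun (β : MulAut (Cfsg.POmega F ⇑Q)) : RingAut F :=
  (Classical.choose (exists_semi p hP β)).σ

theorem psiFun_eq (Φ : SemiSimO Q) : psiFun p hP Φ.gam = Φ.σ :=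
  σ_eq_of_gam_eq p _ _ (Classical.choose_spec (exists_semi p hP Φ.gam))

/-- **the homomorphism `Aut(PΩ) → Aut(F)`** -/
noncomputable def psiO : MulAut (Cfsg.POmega F ⇑Q) →* RingAut F where
  toFun := psiFun p hP
  map_one' := by
    rw [← SemiSimO.gam_one (Q := Q), psiFun_eq]
    rfl
  map_mul' β β' := by
    obtain ⟨Φ, rfl⟩ := exists_semi p hP β
    obtain ⟨Ψ, rfl⟩ := exists_semi p hP β'
    rw [← SemiSimO.gam_comp, psiFun_eq, psiFun_eq, psiFun_eq]
    rfl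

theorem psiO_gam (Φ : SemiSimO Q) : psiO p hP Φ.gam = Φ.σ := psiFun_eq p hP Φ

/-- the kernel is the image of the similarity group -/
theorem psiO_ker : (psiO p hP).ker = Cfsg.pgoAut F ⇑Q := by
  apply le_antisymm
  · intro β hβ
    rw [MonoidHom.mem_ker] at hβ
    obtain ⟨Φ, rfl⟩ := exists_semi p hP β
    rw [psiO_gam] at hβ
    have h1 := Φ.gam_induced
    have h2 := Φ.isSemi
    rw [hβ] at h1 h2
    refine Subgroup.subset_closure ⟨Φ.gl, ?_, h1⟩
    obtain ⟨c, hc⟩ := h2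
    exact ⟨c, fun v => hc v⟩
  · unfold Cfsg.pgoAut Cfsg.autSubgroupOf
    rw [Subgroup.closure_le]
    rintro β ⟨g, ⟨c, hc⟩, hβ⟩
    have h1 : Cfsg.IsSemisimilarityPair (⇑Q) g (RingEquiv.refl F) := ⟨c, fun v => hc v⟩
    rw [SetLike.mem_coe, MonoidHom.mem_ker, SemiSimO.eq_gam_of_induced g _ h1 β hβ, psiO_gam]
    rfl

/-- the order of `Aut(PΩ)` in terms of the image of the similarity group -/
theorem card_aut_eq (hsurj : ∀ σ : F ≃+* F, ∃ Φ : SemiSimO Q, Φ.σ = σ) :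
    Nat.card (MulAut (Cfsg.POmega F ⇑Q)) =
      Nat.card (Cfsg.pgoAut F ⇑Q) * Nat.card (RingAut F) := by
  have hs : Function.Surjective (psiO p hP) := by
    intro σ
    obtain ⟨Φ, hΦ⟩ := hsurj σ
    exact ⟨Φ.gam, by rw [psiO_gam, hΦ]⟩
  have h1 := Subgroup.card_mul_index (psiO p hP).ker
  rw [Subgroup.index_ker, MonoidHom.range_eq_top.mpr hs, Subgroup.card_top, psiO_ker] at h1
  exact h1.symm

end main

end Cfsg.Agent.Lib.Helper6.AutOrt
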