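import Mathlib
import Cfsg.Agent.Lib.Helper6.AutOrt17
import Cfsg.Agent.Lib.Helper6.SimAut

/-!
# Automorphisms of orthogonal groups, part 18: the image of the similarity group in odd
dimension, and group-theoretic splitting lemmas
-/

set_option autoImplicit false
set_option linter.unusedSectionVars false
set_option linter.unusedVariables false

open Cfsg Matrix QuadraticMap Module

namespace Cfsg.Agent.Lib.Helper6.AutOrt

open Cfsg.Agent.Lib.Helper6 Cfsg.Agent.Lib.Helper15 Cfsg.Agent.Lib.Helper6.AutInduced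
  Cfsg.Agent.Lib.Helper6.OmegaAut Cfsg.Agent.Lib.Helper6.SimAut

section grp

/-- a normal subgroup of order two is central -/
theorem central_of_card_two {G : Type*} [Group G] (K : Subgroup G) [hK : K.Normal]
    (h2 : Nat.card K = 2) (k : G) (hk : k ∈ K) (g : G) : g * k = k * g := by
  by_cases hk1 : k = 1
  · rw [hk1, mul_one, one_mul]
  haveI : Finite K := Nat.finite_of_card_ne_zero (by omega)
  haveI : Fintype K := Fintype.ofFinite K
  have hc := hK.conj_mem k hk g
  -- the conjugate is `1` or `k`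
  have h3 : ∀ x : K, x = 1 ∨ x = ⟨k, hk⟩ := by
    intro x
    by_contra hcon
    push Not at hcon
    have : 2 < Nat.card K := by
      rw [Nat.card_eq_fintype_card]
      classical
      have hsub : ({1, ⟨k, hk⟩, x} : Finset K) ⊆ Finset.univ := Finset.subset_univ _
      have hcard : ({1, ⟨k, hk⟩, x} : Finset K).card = 3 := by
        rw [Finset.card_insert_of_notMem, Finset.card_insert_of_notMem, Finset.card_singleton]
        · simp only [Finset.mem_singleton]
          exact fun h => hcon.2 h.symm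
        · simp only [Finset.mem_insert, Finset.mem_singleton, not_or]
          exact ⟨fun h => hk1 (congrArg Subtype.val h).symm, fun h => hcon.1 h.symm⟩
      have := Finset.card_le_card hsub
      rw [hcard, Finset.card_univ] at this
      omega
    omega
  rcases h3 ⟨g * k * g⁻¹, hc⟩ with h | h
  · exfalso
    have h4 : g * k * g⁻¹ = 1 := congrArg Subtype.val h
    apply hk1
    have : k = g⁻¹ * (g * k * g⁻¹) * g := by group
    rw [this, h4]
    group
  · have h4 : g * k * g⁻¹ = k := congrArg Subtype.val h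
    calc g * k = (g * k * g⁻¹) * g := by group
      _ = k * g := by rw [h4]

/-- a split extension with central kernel of order two is a direct product -/
theorem nonempty_prod_of_split {G A : Type*} [Group G] [Group A] (φ : G →* A) (s : A →* G)
    (hs : ∀ a, φ (s a) = a) (h2 : Nat.card φ.ker = 2) :
    Nonempty (G ≃* ↥φ.ker × A) := by
  have hcomm : ∀ (k : φ.ker) (g : G), g * k.1 = k.1 * g := fun k g =>
    central_of_card_two φ.ker h2 k.1 k.2 g
  let f : ↥φ.ker × A →* G :=
    { toFun := fun x => x.1.1 * s x.2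
      map_one' := by simp
      map_mul' := by
        rintro ⟨k, a⟩ ⟨k', a'⟩
        change (k * k').1 * s (a * a') = k.1 * s a * (k'.1 * s a')
        rw [map_mul, Subgroup.coe_mul]
        calc k.1 * k'.1 * (s a * s a') = k.1 * (k'.1 * s a) * s a' := by group
          _ = k.1 * (s a * k'.1) * s a' := by rw [hcomm k' (s a)]
          _ = _ := by group }
  have hf : Function.Bijective f := by
    constructor
    · rw [injective_iff_map_eq_one]
      rintro ⟨k, a⟩ h
      change k.1 * s a = 1 at h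
      have h1 := congrArg φ h
      rw [map_mul, map_one, hs, MonoidHom.mem_ker.mp k.2, one_mul] at h1
      subst h1
      rw [map_one, mul_one] at h
      exact Prod.ext (Subtype.ext h) rfl
    · intro g
      refine ⟨(⟨g * (s (φ g))⁻¹, ?_⟩, φ g), ?_⟩
      · rw [MonoidHom.mem_ker, map_mul, map_inv, hs, mul_inv_cancel]
      · change g * (s (φ g))⁻¹ * s (φ g) = g
        rw [inv_mul_cancel_right]
  exact ⟨(MulEquiv.ofBijective f hf).symm⟩

/-- the product of multiplicative copies -/
def prodMulEquiv (A B : Type*) [AddGroup A] [AddGroup B] :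
    Multiplicative A × Multiplicative B ≃* Multiplicative (A × B) where
  toFun x := Multiplicative.ofAdd (Multiplicative.toAdd x.1, Multiplicative.toAdd x.2)
  invFun x := (Multiplicative.ofAdd (Multiplicative.toAdd x).1,
    Multiplicative.ofAdd (Multiplicative.toAdd x).2)
  left_inv x := rfl
  right_inv x := rfl
  map_mul' x y := rfl

theorem card_eq_of_relIndex {G : Type*} [Group G] (H K : Subgroup G) (hHK : H ≤ K) (n : ℕ)
    (h : H.relIndex K = n) : Nat.card K = n * Nat.card H := by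
  have h1 := Subgroup.card_mul_index (H.subgroupOf K)
  rw [← Subgroup.relIndex, h] at h1
  rw [← h1, Nat.card_congr (Subgroup.subgroupOfEquivOfLe hHK).toEquiv, mul_comm]

theorem card_Inn_of_perfect_quot {S : Type*} [Group S] (hperf : commutator S = ⊤) :
    Nat.card (Cfsg.Inn (S ⧸ Subgroup.center S)) = Nat.card (S ⧸ Subgroup.center S) := by
  haveI : Group.IsPerfect S := ⟨hperf⟩
  have hc := Group.IsPerfect.center_quotient_center_eq_bot S
  have hinj : Function.Injective (MulAut.conj : (S ⧸ Subgroup.center S) →* _) := by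
    rw [injective_iff_map_eq_one]
    intro x hx
    have : x ∈ Subgroup.center (S ⧸ Subgroup.center S) := by
      rw [Subgroup.mem_center_iff]
      intro y
      have := congrArg (fun β : MulAut (S ⧸ Subgroup.center S) => β y) hx
      simp only [MulAut.conj_apply, MulAut.one_apply] at this
      calc y * x = (x * y * x⁻¹) * x := by rw [this]
        _ = x * y := by group
    rw [hc] at this
    exact Subgroup.mem_bot.mp this
  exact Nat.card_congr (Equiv.ofInjective _ hinj).symm

end grp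

section odd
variable {F : Type*} [Field F] [Fintype F] [DecidableEq F] {ι : Type} [Fintype ι] [DecidableEq ι]
  (Q : QuadraticForm F (ι → F))

theorem mem_SOGL (g : GL ι F) : g ∈ Cfsg.specialIsometryGL F ⇑Q ↔
    g ∈ Cfsg.isometryGroup F ⇑Q ∧ (g : Matrix ι ι F).det = 1 := by
  unfold Cfsg.specialIsometryGL Cfsg.Geo.specialLinear
  rw [Subgroup.mem_inf, MonoidHom.mem_ker]
  constructor
  · rintro ⟨h1, h2⟩
    refine ⟨h1, ?_⟩
    have := congrArg (fun u : Fˣ => (u : F)) h2
    simpa using this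
  · rintro ⟨h1, h2⟩
    refine ⟨h1, ?_⟩
    apply Units.ext
    simpa using h2

/-- in odd dimension a similarity is a scalar times a special isometry -/
theorem exists_SO_of_GO (hQ : (QuadraticMap.polarBilin Q).Nondegenerate)
    (hodd : Odd (Fintype.card ι)) (g : ↥(GO Q)) :
    ∃ (c : Fˣ) (g₀ : GL ι F), g₀ ∈ Cfsg.specialIsometryGL F ⇑Q ∧ (g.1 : GL ι F) = scalGL c * g₀ := by
  obtain ⟨k, hk⟩ := hodd
  obtain ⟨μ, hμ⟩ : ∃ μ : Fˣ, μ = mulr Q g := ⟨_, rfl⟩
  have hdet := det_sq_of_similarity Q hQ ((g.1 : GL ι F) : Matrix ι ι F) (μ : F) (by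
    intro v; rw [hμ]; exact mulr_spec Q g v)
  rw [hk] at hdet
  obtain ⟨D, hD⟩ : ∃ D : Fˣ, (D : F) = ((g.1 : GL ι F) : Matrix ι ι F).det :=
    ⟨Matrix.GeneralLinearGroup.det (g.1 : GL ι F), rfl⟩
  obtain ⟨c, hc⟩ : ∃ c : Fˣ, c = D * (μ ^ k)⁻¹ := ⟨_, rfl⟩
  have hcc : c * c = μ := by
    apply Units.ext
    have hμ0 : (μ : F) ≠ 0 := μ.ne_zero
    rw [hc]
    simp only [Units.val_mul, Units.val_inv_eq_inv_val, Units.val_pow_eq_pow_val]
    rw [hD]
    field_simp
    rw [hdet]
    ring
  -- the isometry `c⁻¹ g`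
  obtain ⟨g₁, hg₁⟩ : ∃ g₁ : GL ι F, g₁ = scalGL c⁻¹ * (g.1 : GL ι F) := ⟨_, rfl⟩
  have hg₁O : g₁ ∈ Cfsg.isometryGroup F ⇑Q := by
    rw [mem_isometryGroup_iff]
    intro u
    rw [hg₁, Units.val_mul, scalGL_val, ← Matrix.mulVec_mulVec, Matrix.smul_mulVec,
      Matrix.one_mulVec, Q_smul, mulr_spec, ← hμ, ← hcc]
    simp only [Units.val_mul, Units.val_inv_eq_inv_val]
    have hc0 : (c : F) ≠ 0 := c.ne_zero
    field_simp
  obtain ⟨d, hd⟩ : ∃ d : Fˣ, (d : F) = (g₁ : Matrix ι ι F).det :=
    ⟨Matrix.GeneralLinearGroup.det g₁, rfl⟩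
  have hdd : (d : F) = 1 ∨ (d : F) = -1 := by
    rw [hd]
    exact det_isometry Q hQ ⟨g₁, hg₁O⟩
  have hd2 : (d : F) * (d : F) = 1 := by
    rcases hdd with h | h <;> rw [h] <;> ring
  refine ⟨c * d⁻¹, scalGL d * g₁, ?_, ?_⟩
  · rw [mem_SOGL]
    constructor
    · apply Subgroup.mul_mem _ _ hg₁O
      rw [mem_isometryGroup_iff]
      intro u
      rw [scalGL_val, Matrix.smul_mulVec, Matrix.one_mulVec, Q_smul, hd2, one_mul]
    · rw [Units.val_mul, Matrix.det_mul, scalGL_val, Matrix.det_smul, Matrix.det_one, mul_one,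
        ← hd, hk, ← pow_succ]
      have : (d : F) ^ (2 * k + 1 + 1) = ((d : F) * (d : F)) ^ (k + 1) := by ring
      rw [this, hd2, one_pow]
  · apply Units.ext
    rw [hg₁]
    simp only [Units.val_mul, scalGL_val]
    have hc0 : (c : F) ≠ 0 := c.ne_zero
    have hd0 : (d : F) ≠ 0 := d.ne_zero
    simp only [Units.val_inv_eq_inv_val, Matrix.smul_mul, Matrix.one_mul, Matrix.mul_smul,
      smul_smul]
    have : (c : F)⁻¹ * (d : F) * ((c : F) * (d : F)⁻¹) = 1 := by field_simp
    rw [this, one_smul]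

/-- in odd dimension the image of the similarity group is the image of `SO` -/
theorem pgoAut_eq_psoAut (hQ : (QuadraticMap.polarBilin Q).Nondegenerate)
    (h5 : 5 ≤ Fintype.card ι) (hodd : Odd (Fintype.card ι)) :
    Cfsg.pgoAut F ⇑Q = Cfsg.psoAut F ⇑Q := by
  have hperf := Omega_perfect Q hQ h5
  rw [pgoAut_eq, psoAut_eq]
  apply le_antisymm
  · rintro _ ⟨b, hb, rfl⟩
    obtain ⟨c, g₀, hg₀, hbg⟩ := exists_SO_of_GO Q hQ hodd ⟨b.1, hb⟩
    have hg₀N : g₀ ∈ Subgroup.normalizer (Cfsg.isometryGroup F ⇑Q : Set (GL ι F)) :=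
      Subgroup.le_normalizer (specialIsometryGL_le _ hg₀)
    refine ⟨⟨g₀, hg₀N⟩, hg₀, ?_⟩
    have hcN : (scalGL c : GL ι F) ∈ Subgroup.normalizer (Cfsg.isometryGroup F ⇑Q : Set (GL ι F)) :=
      GO_le_normalizer Q (scalGL_mem_GO Q c)
    have hb' : b = ⟨scalGL c, hcN⟩ * ⟨g₀, hg₀N⟩ := Subtype.ext hbg
    rw [hb', map_mul]
    have h1 : Psi (Cfsg.isometryGroup F ⇑Q) ⟨scalGL c, hcN⟩ = 1 := by
      have := fGO_scalGL Q hQ h5 c
      rwa [fGO_apply] at this
    rw [h1, one_mul]
  · rintro _ ⟨b, hb, rfl⟩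
    exact ⟨b, isometryGroup_le_GO Q (specialIsometryGL_le _ hb), rfl⟩

/-- in odd dimension `SO` acts faithfully and contains `Inn` with index two -/
theorem relIndex_Inn_psoAut_of_odd (h2 : (2 : F) ≠ 0)
    (hQ : (QuadraticMap.polarBilin Q).Nondegenerate)
    (h5 : 5 ≤ Fintype.card ι) (hodd : Odd (Fintype.card ι)) (T : HypTriple Q) :
    (Cfsg.Inn (Cfsg.POmega F ⇑Q)).relIndex (Cfsg.psoAut F ⇑Q) = 2 := by
  have hperf := Omega_perfect Q hQ h5
  rw [Inn_eq, psoAut_eq, relIndex_img_eq _ _ _ (OmX_le_SO Q)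
    ((specialIsometryGL_le _).trans Subgroup.le_normalizer)]
  · exact relIndex_OmX_SO Q h2 hQ (by omega) _ (T_nonsingular Q T)
  · intro b hb hbN hΨ
    have hbO : b ∈ Cfsg.isometryGroup F ⇑Q := specialIsometryGL_le _ hb
    rw [Psi_eq_one_iff _ hperf] at hΨ
    have hz : ∀ g ∈ Cfsg.Omega F ⇑Q, g * (⟨b, hbO⟩ : ↥(Cfsg.isometryGroup F ⇑Q)) = ⟨b, hbO⟩ * g := by
      intro g hg
      apply Subtype.ext
      have := hΨ ⟨g, hg⟩
      change b * (g.1 : GL ι F) * b⁻¹ = (g.1 : GL ι F) at this
      change (g.1 : GL ι F) * b = b * (g.1 : GL ι F)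
      nth_rewrite 1 [← this]
      rw [inv_mul_cancel_right]
    obtain ⟨c, hcc, hc⟩ := centralizer_Omega' Q hQ (Or.inr (by omega)) T ⟨b, hbO⟩ hz
    change (b : Matrix ι ι F) = c • (1 : Matrix ι ι F) at hc
    have hc' : c = 1 ∨ c = -1 := by
      have : (c - 1) * (c + 1) = 0 := by linear_combination hcc
      rcases mul_eq_zero.mp this with h | h
      · left; linear_combination h
      · right; linear_combination h
    rcases hc' with rfl | rfl
    · have : b = 1 := by
        apply Units.ext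
        rw [hc, one_smul]
        rfl
      rw [this]
      exact Subgroup.one_mem _
    · exfalso
      have hdet := ((mem_SOGL Q b).mp hb).2
      rw [hc, Matrix.det_smul, Matrix.det_one, mul_one, hodd.neg_one_pow] at hdet
      apply h2
      linear_combination -hdet

theorem Inn_le_pgoAut : Cfsg.Inn (Cfsg.POmega F ⇑Q) ≤ Cfsg.pgoAut F ⇑Q := by
  rw [Inn_eq, pgoAut_eq]
  rintro _ ⟨b, hb, rfl⟩
  exact ⟨b, isometryGroup_le_GO Q (OmX_le _ hb), rfl⟩

/-- the order of the image of the similarity group in odd dimension -/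
theorem card_pgoAut_of_odd (h2 : (2 : F) ≠ 0)
    (hQ : (QuadraticMap.polarBilin Q).Nondegenerate)
    (h5 : 5 ≤ Fintype.card ι) (hodd : Odd (Fintype.card ι)) (T : HypTriple Q) :
    Nat.card (Cfsg.pgoAut F ⇑Q) = 2 * Nat.card (Cfsg.POmega F ⇑Q) := by
  have h1 := relIndex_Inn_psoAut_of_odd Q h2 hQ h5 hodd T
  rw [← pgoAut_eq_psoAut Q hQ h5 hodd] at h1
  rw [card_eq_of_relIndex _ _ (Inn_le_pgoAut Q) 2 h1]
  congr 1
  exact card_Inn_of_perfect_quot (Omega_perfect Q hQ h5)

end odd

end Cfsg.Agent.Lib.Helper6.AutOrt
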