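import Mathlib
import Cfsg.Agent.Lib.Helper6.SimAut
import Cfsg.Agent.Lib.Helper10.DihedralRecog

/-!
# `PGO`-image modulo inner automorphisms: `C₂ × C₂` or `D₈`
-/

set_option autoImplicit false
set_option linter.unusedSectionVars false
set_option linter.unusedVariables false
set_option linter.style.haveILetI false

namespace Cfsg.Agent.Lib.Helper6.SimAut

open Subgroup Matrix Cfsg.Agent.Lib.Helper6.AutInduced Cfsg.Agent.Lib.Helper6
  Cfsg.Agent.Lib.Helper6.OmegaAut

section d8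
variable {G : Type*} [Group G]

theorem eq_top_of_card_four_lt (hG : Nat.card G = 8) (H K : Subgroup G) (hH : Nat.card H = 4)
    (hHK : H ≤ K) (x : G) (hxK : x ∈ K) (hxH : x ∉ H) : K = ⊤ := by
  haveI : Finite G := Nat.finite_of_card_ne_zero (by rw [hG]; norm_num)
  apply Subgroup.eq_top_of_card_eq
  have h1 : Nat.card H ∣ Nat.card K := Subgroup.card_dvd_of_le hHK
  have h2 : Nat.card K ∣ Nat.card G := Subgroup.card_subgroup_dvd_card K
  rw [hH] at h1
  rw [hG] at h2 ⊢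
  have h3 : Nat.card K ≠ 4 := by
    intro h4
    have : H = K := Subgroup.eq_of_le_of_card_ge hHK (by rw [hH, h4])
    rw [this] at hxH
    exact hxH hxK
  have h5 : Nat.card K ≤ 8 := Nat.le_of_dvd (by norm_num) h2
  obtain ⟨k, hk⟩ := h1
  interval_cases hc : Nat.card K <;> omega

/-- a non-abelian group of order eight with two distinct involutions is dihedral -/
theorem dihedral_of_card_eight (hG : Nat.card G = 8)
    (hnc : ∃ x y : G, x * y ≠ y * x) (s₁ s₂ : G) (h12 : s₁ ≠ s₂) (h1 : s₁ ≠ 1) (h2 : s₂ ≠ 1)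
    (hs1 : s₁ * s₁ = 1) (hs2 : s₂ * s₂ = 1) : Nonempty (G ≃* DihedralGroup 4) := by
  haveI : Finite G := Nat.finite_of_card_ne_zero (by rw [hG]; norm_num)
  obtain ⟨x₀, y₀, hxy⟩ := hnc
  -- an element of order four
  have hex : ∃ r : G, r * r ≠ 1 := by
    by_contra hcon
    push Not at hcon
    apply hxy
    have e1 := hcon (x₀ * y₀)
    have e2 := hcon x₀
    have e3 := hcon y₀
    calc x₀ * y₀ = (y₀ * y₀) * (x₀ * y₀) * (x₀ * x₀) := by rw [e2, e3, one_mul, mul_one]
      _ = y₀ * (y₀ * x₀ * (y₀ * x₀)) * x₀ := by simp only [mul_assoc]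
      _ = y₀ * x₀ := by rw [hcon (y₀ * x₀), mul_one]
  obtain ⟨r, hr⟩ := hex
  have hr4 : orderOf r = 4 := by
    have hd : orderOf r ∣ 8 := hG ▸ orderOf_dvd_natCard r
    have hle : orderOf r ≤ 8 := Nat.le_of_dvd (by norm_num) hd
    have hpos : 0 < orderOf r := orderOf_pos r
    have h1' : orderOf r ≠ 1 := by
      intro h
      rw [orderOf_eq_one_iff] at h
      rw [h, mul_one] at hr
      exact hr rfl
    have h2' : orderOf r ≠ 2 := by
      intro h
      apply hr
      rw [← pow_two, ← h, pow_orderOf_eq_one]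
    have h8 : orderOf r ≠ 8 := by
      intro h
      haveI : IsCyclic G := isCyclic_of_orderOf_eq_card r (by rw [h, hG])
      exact hxy (mul_comm' x₀ y₀)
    interval_cases ho : orderOf r <;> omega
  set H := Subgroup.zpowers r with hH
  have hHcard : Nat.card H = 4 := by rw [hH, Nat.card_zpowers, hr4]
  have hidx : H.index = 2 := by
    have := Subgroup.card_mul_index H
    rw [hHcard, hG] at this
    omega
  have hnormal : H.Normal := Subgroup.normal_of_index_eq_two hidx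
  have hr2 : r ^ 2 ≠ 1 := by rw [pow_two]; exact hr
  have hr44 : r ^ 4 = 1 := by rw [← hr4, pow_orderOf_eq_one]
  -- involutions of H
  have hinvH : ∀ t ∈ H, t * t = 1 → t ≠ 1 → t = r ^ 2 := by
    intro t ht ht2 ht1
    rw [hH, ← mem_powers_iff_mem_zpowers, Submonoid.mem_powers_iff] at ht
    obtain ⟨k, rfl⟩ := ht
    rw [← pow_mod_orderOf, hr4] at ht2 ht1 ⊢
    have hk4 : k % 4 < 4 := Nat.mod_lt _ (by norm_num)
    generalize k % 4 = j at ht2 ht1 hk4 ⊢
    interval_cases j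
    · exact absurd (pow_zero r) ht1
    · rw [pow_one] at ht2
      exact absurd ht2 hr
    · rfl
    · exfalso
      rw [← pow_add] at ht2
      have : r ^ 2 = 1 := by
        calc r ^ 2 = r ^ (3 + 3) * (r ^ 4)⁻¹ := by
              rw [eq_mul_inv_iff_mul_eq, ← pow_add]
          _ = 1 := by rw [ht2, hr44, inv_one, mul_one]
      exact hr2 this
  -- one of the involutions lies outside H
  obtain ⟨s, hs2, hsH⟩ : ∃ s : G, s * s = 1 ∧ s ∉ H := by
    by_cases h : s₁ ∈ H
    · refine ⟨s₂, hs2, fun h' => h12 ?_⟩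
      rw [hinvH s₁ h hs1 h1, hinvH s₂ h' hs2 h2]
    · exact ⟨s₁, hs1, h⟩
  have hs1' : s ≠ 1 := fun h => hsH (h ▸ H.one_mem)
  have hconj := hnormal.conj_mem r (Subgroup.mem_zpowers r) s
  rw [hH, ← mem_powers_iff_mem_zpowers, Submonoid.mem_powers_iff] at hconj
  obtain ⟨k, hk⟩ := hconj
  rw [← pow_mod_orderOf, hr4] at hk
  have hk4 : k % 4 < 4 := Nat.mod_lt _ (by norm_num)
  have hr1 : r ≠ 1 := by
    rintro rfl
    exact hr (mul_one 1)
  have hinv : s * r * s⁻¹ = r⁻¹ := by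
    generalize k % 4 = j at hk hk4
    interval_cases j
    · exfalso
      rw [pow_zero] at hk
      apply hr1
      have : s * r * s⁻¹ = s * 1 * s⁻¹ := by rw [← hk]; simp
      have h3 := mul_left_cancel (mul_right_cancel this)
      exact h3
    · exfalso
      rw [pow_one] at hk
      -- s commutes with r: the centre is everything
      have hcomm : s * r = r * s := by
        rw [← mul_inv_eq_iff_eq_mul]
        exact hk.symm
      have hrc : r ∈ Subgroup.center G := by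
        have htop : Subgroup.centralizer ({r} : Set G) = ⊤ := by
          apply eq_top_of_card_four_lt hG H _ hHcard _ s _ hsH
          · rw [hH, Subgroup.zpowers_le]
            rw [Subgroup.mem_centralizer_singleton_iff]
          · rw [Subgroup.mem_centralizer_singleton_iff]
            exact hcomm
        rw [Subgroup.mem_center_iff]
        intro g
        have : g ∈ Subgroup.centralizer ({r} : Set G) := by rw [htop]; trivial
        rw [Subgroup.mem_centralizer_singleton_iff] at this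
        exact this
      have hsc : s ∈ Subgroup.center G := by
        have htop : Subgroup.centralizer ({s} : Set G) = ⊤ := by
          apply eq_top_of_card_four_lt hG H _ hHcard _ s _ hsH
          · rw [hH, Subgroup.zpowers_le]
            rw [Subgroup.mem_centralizer_singleton_iff]
            exact hcomm.symm
          · rw [Subgroup.mem_centralizer_singleton_iff]
        rw [Subgroup.mem_center_iff]
        intro g
        have : g ∈ Subgroup.centralizer ({s} : Set G) := by rw [htop]; trivial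
        rw [Subgroup.mem_centralizer_singleton_iff] at this
        exact this
      have hctop : Subgroup.center G = ⊤ := by
        apply eq_top_of_card_four_lt hG H _ hHcard _ s hsc hsH
        rw [hH, Subgroup.zpowers_le]
        exact hrc
      have : x₀ ∈ Subgroup.center G := by rw [hctop]; trivial
      exact hxy ((Subgroup.mem_center_iff.mp this y₀).symm)
    · exfalso
      have h5 : (s * r * s⁻¹) ^ 2 = 1 := by
        rw [← hk, ← pow_mul]
        exact hr44
      rw [conj_pow] at h5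
      apply hr2
      have : s * r ^ 2 * s⁻¹ = s * 1 * s⁻¹ := by rw [h5]; simp
      exact mul_left_cancel (mul_right_cancel this)
    · rw [← hk]
      apply eq_inv_of_mul_eq_one_left
      rw [← pow_succ]
      exact hr44
  obtain ⟨e⟩ := Cfsg.Agent.Lib.Helper10.nonempty_mulEquiv_dihedralGroup 4 s r hr4 hs2 hinv hsH
  have htop : Subgroup.zpowers s ⊔ Subgroup.zpowers r = ⊤ :=
    eq_top_of_card_four_lt hG H _ hHcard le_sup_right s
      (Subgroup.mem_sup_left (Subgroup.mem_zpowers s)) hsH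
  exact ⟨(Subgroup.topEquiv.symm.trans (MulEquiv.subgroupCongr htop.symm)).trans e⟩

end d8

section quotient
variable {F : Type*} [Field F] [Fintype F] [DecidableEq F] {ι : Type} [Fintype ι] [DecidableEq ι]
  (Q : QuadraticForm F (ι → F))

omit [Fintype F] [DecidableEq F] in
theorem img_mono (K L : Subgroup (GL ι F)) (h : K ≤ L) :
    img (Cfsg.isometryGroup F ⇑Q) K ≤ img (Cfsg.isometryGroup F ⇑Q) L := by
  unfold img
  apply Subgroup.map_mono
  intro x hx
  exact h hx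

theorem Inn_le_psoAut : Cfsg.Inn (Cfsg.POmega F ⇑Q) ≤ Cfsg.psoAut F ⇑Q := by
  rw [Inn_eq, psoAut_eq]
  exact img_mono Q _ _ (OmX_le_SO Q)

omit [Fintype F] [DecidableEq F] in
theorem psoAut_le_pgoAut : Cfsg.psoAut F ⇑Q ≤ Cfsg.pgoAut F ⇑Q := by
  rw [psoAut_eq, pgoAut_eq]
  exact img_mono Q _ _ ((specialIsometryGL_le _).trans (isometryGroup_le_GO Q))

/-- the index of the `PSO`-image in the `PGO`-image -/
theorem relIndex_psoAut_pgoAut (h2 : (2 : F) ≠ 0)
    (hQ : (QuadraticMap.polarBilin Q).Nondegenerate)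
    (h5 : 5 ≤ Fintype.card ι) (T : HypTriple Q) (m : ℕ) (hm : Fintype.card ι = 2 * m)
    (h : ↥(GO Q)) (hh : ¬ IsSquare (mulr Q h : F)) :
    (Cfsg.psoAut F ⇑Q).relIndex (Cfsg.pgoAut F ⇑Q) = 4 := by
  obtain ⟨φ, hφ, hker⟩ := exists_hom_pgoAut_psoAut Q h2 hQ h5 T m hm h hh
  rw [Subgroup.relIndex, ← hker, Subgroup.index_ker, MonoidHom.range_eq_top.mpr hφ,
    Subgroup.card_top]
  rw [Nat.card_eq_fintype_card]
  rfl

/-- an isometry acting trivially on `PΩ` is `±1` -/
theorem isometry_of_fGO_eq_one (hQ : (QuadraticMap.polarBilin Q).Nondegenerate)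
    (h5 : 5 ≤ Fintype.card ι) (T : HypTriple Q) (g : ↥(GO Q))
    (hg : g.1 ∈ Cfsg.isometryGroup F ⇑Q) (h1 : fGO Q g = 1) :
    (⟨g.1, hg⟩ : ↥(Cfsg.isometryGroup F ⇑Q)) = 1 ∨
      (⟨g.1, hg⟩ : ↥(Cfsg.isometryGroup F ⇑Q)) = negIso Q := by
  have hperf := Omega_perfect Q hQ h5
  rw [fGO_apply, Psi_eq_one_iff _ hperf] at h1
  have hz : ∀ k ∈ Cfsg.Omega F ⇑Q, k * (⟨g.1, hg⟩ : ↥(Cfsg.isometryGroup F ⇑Q)) = ⟨g.1, hg⟩ * k := by
    intro k hk
    apply Subtype.ext
    have := h1 ⟨k, hk⟩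
    change (g.1 : GL ι F) * (k.1 : GL ι F) * (g.1 : GL ι F)⁻¹ = (k.1 : GL ι F) at this
    change (k.1 : GL ι F) * (g.1 : GL ι F) = (g.1 : GL ι F) * (k.1 : GL ι F)
    nth_rewrite 1 [← this]
    rw [inv_mul_cancel_right]
  obtain ⟨c, hcc, hc⟩ := centralizer_Omega' Q hQ (Or.inr (by omega)) T ⟨g.1, hg⟩ hz
  change ((g.1 : GL ι F) : Matrix ι ι F) = c • (1 : Matrix ι ι F) at hc
  have hc' : c = 1 ∨ c = -1 := by
    have : (c - 1) * (c + 1) = 0 := by linear_combination hcc
    rcases mul_eq_zero.mp this with h | h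
    · left; linear_combination h
    · right; linear_combination h
  rcases hc' with rfl | rfl
  · left
    apply Subtype.ext
    apply Units.ext
    rw [hc, one_smul]
    rfl
  · right
    apply Subtype.ext
    apply Units.ext
    rw [hc, negIso_val]
    simp

/-- for an isometry `g`: the induced automorphism is inner iff `g ∈ Ω` (when `-1 ∈ Ω`) -/
theorem fGO_mem_Inn_iff (hQ : (QuadraticMap.polarBilin Q).Nondegenerate)
    (h5 : 5 ≤ Fintype.card ι) (T : HypTriple Q) (hneg : negIso Q ∈ Cfsg.Omega F ⇑Q)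
    (g : ↥(GO Q)) (hg : g.1 ∈ Cfsg.isometryGroup F ⇑Q) :
    fGO Q g ∈ Cfsg.Inn (Cfsg.POmega F ⇑Q) ↔
      (⟨g.1, hg⟩ : ↥(Cfsg.isometryGroup F ⇑Q)) ∈ Cfsg.Omega F ⇑Q := by
  rw [Inn_eq, img_eq_map Q _ ((OmX_le _).trans (isometryGroup_le_GO Q))]
  constructor
  · rintro ⟨s, hs, hsg⟩
    have hsΩ : s.1 ∈ OmX (Cfsg.isometryGroup F ⇑Q) := hs
    obtain ⟨t, ht⟩ := (mem_OmX _ _).mp hsΩ
    have hsO : s.1 ∈ Cfsg.isometryGroup F ⇑Q := OmX_le _ hsΩ
    have h1 : fGO Q (s⁻¹ * g) = 1 := by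
      rw [map_mul, map_inv, hsg, inv_mul_cancel]
    have hmem : (s⁻¹ * g).1 ∈ Cfsg.isometryGroup F ⇑Q :=
      Subgroup.mul_mem _ (Subgroup.inv_mem _ hsO) hg
    have hts : t.1 = ⟨s.1, hsO⟩ := Subtype.ext ht
    have hsmem : (⟨s.1, hsO⟩ : ↥(Cfsg.isometryGroup F ⇑Q)) ∈ Cfsg.Omega F ⇑Q := by
      rw [← hts]; exact t.2
    have hprod : (⟨g.1, hg⟩ : ↥(Cfsg.isometryGroup F ⇑Q)) =
        ⟨s.1, hsO⟩ * ⟨(s⁻¹ * g).1, hmem⟩ := by
      apply Subtype.ext
      change (g.1 : GL ι F) = (s.1 : GL ι F) * ((s.1 : GL ι F)⁻¹ * (g.1 : GL ι F))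
      rw [mul_inv_cancel_left]
    rw [hprod]
    rcases isometry_of_fGO_eq_one Q hQ h5 T (s⁻¹ * g) hmem h1 with h | h
    · rw [h, mul_one]; exact hsmem
    · rw [h]; exact Subgroup.mul_mem _ hsmem hneg
  · intro h
    exact ⟨g, (mem_OmX _ _).mpr ⟨⟨⟨g.1, hg⟩, h⟩, rfl⟩, rfl⟩

/-- **`-1 ∉ Ω`: `PGO`-image modulo `Inn(PΩ)` is `C₂ × C₂`.** -/
theorem exists_hom_pgoAut_Inn_of_notMem (h2 : (2 : F) ≠ 0)
    (hQ : (QuadraticMap.polarBilin Q).Nondegenerate)
    (h5 : 5 ≤ Fintype.card ι) (T : HypTriple Q) (m : ℕ) (hm : Fintype.card ι = 2 * m)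
    (h : ↥(GO Q)) (hh : ¬ IsSquare (mulr Q h : F)) (hneg : negIso Q ∉ Cfsg.Omega F ⇑Q) :
    ∃ φ : ↥(Cfsg.pgoAut F ⇑Q) →* Multiplicative (ZMod 2 × ZMod 2), Function.Surjective φ ∧
      φ.ker = (Cfsg.Inn (Cfsg.POmega F ⇑Q)).subgroupOf (Cfsg.pgoAut F ⇑Q) := by
  have heq : Cfsg.psoAut F ⇑Q = Cfsg.Inn (Cfsg.POmega F ⇑Q) :=
    le_antisymm (Subgroup.relIndex_eq_one.mp
      (relIndex_Inn_psoAut_of_notMem Q h2 hQ h5 ⟨m, by rw [hm]; ring⟩ T hneg)) (Inn_le_psoAut Q)
  rw [← heq]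
  exact exists_hom_pgoAut_psoAut Q h2 hQ h5 T m hm h hh

set_option maxHeartbeats 3200000 in
/-- **`-1 ∈ Ω`: `PGO`-image modulo `Inn(PΩ)` is dihedral of order eight.** -/
theorem exists_hom_pgoAut_Inn_of_mem (h2 : (2 : F) ≠ 0)
    (hQ : (QuadraticMap.polarBilin Q).Nondegenerate)
    (h5 : 5 ≤ Fintype.card ι) (T : HypTriple Q) (m : ℕ) (hm : Fintype.card ι = 2 * m)
    (h : ↥(GO Q)) (hh : ¬ IsSquare (mulr Q h : F)) (hneg : negIso Q ∈ Cfsg.Omega F ⇑Q) :
    ∃ φ : ↥(Cfsg.pgoAut F ⇑Q) →* DihedralGroup 4, Function.Surjective φ ∧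
      φ.ker = (Cfsg.Inn (Cfsg.POmega F ⇑Q)).subgroupOf (Cfsg.pgoAut F ⇑Q) := by
  have hcard2 : 2 ≤ Fintype.card ι := by omega
  set P := Cfsg.pgoAut F ⇑Q with hP
  set I := (Cfsg.Inn (Cfsg.POmega F ⇑Q)).subgroupOf P with hI
  have hmemP : ∀ g : ↥(GO Q), fGO Q g ∈ P := by
    intro g
    rw [hP, pgoAut_eq_range]
    exact ⟨g, rfl⟩
  -- the order of the quotient
  have hG : Nat.card (↥P ⧸ I) = 8 := by
    rw [← Subgroup.index_eq_card, hI]
    change (Cfsg.Inn (Cfsg.POmega F ⇑Q)).relIndex P = 8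
    rw [← Subgroup.relIndex_mul_relIndex _ _ _ (Inn_le_psoAut Q) (psoAut_le_pgoAut Q),
      relIndex_Inn_psoAut_of_mem Q h2 hQ h5 T hneg,
      relIndex_psoAut_pgoAut Q h2 hQ h5 T m hm h hh]
  set κ : ↥(GO Q) →* ↥P ⧸ I :=
    (QuotientGroup.mk' I).comp (MonoidHom.codRestrict (fGO Q) P hmemP) with hκ
  have hκ1 : ∀ g : ↥(GO Q), κ g = 1 ↔ fGO Q g ∈ Cfsg.Inn (Cfsg.POmega F ⇑Q) := by
    intro g
    rw [hκ, MonoidHom.comp_apply, QuotientGroup.mk'_apply, QuotientGroup.eq_one_iff, hI,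
      Subgroup.mem_subgroupOf]
    rfl
  -- products of reflections
  have key : ∀ (g : ↥(GO Q)) (vs : List (ι → F)), (∀ v ∈ vs, Q v ≠ 0) →
      ((g.1 : GL ι F) : Matrix ι ι F) = (vs.map (fun v => Cfsg.reflectionMatrix ⇑Q v)).prod →
      (κ g = 1 ↔ (Even vs.length ∧ IsSquare (vs.map (fun v => Q v)).prod)) := by
    intro g vs hvs hg
    obtain ⟨g', hg'⟩ := exists_of_list' Q vs hvs
    have hgO : g.1 ∈ Cfsg.isometryGroup F ⇑Q := by
      have : g.1 = g'.1 := by
        apply Units.ext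
        rw [hg, hg']
      rw [this]
      exact g'.2
    rw [hκ1, fGO_mem_Inn_iff Q hQ h5 T hneg g hgO]
    exact mem_Omega_iff_list' Q h2 hQ hcard2 ⟨g.1, hgO⟩ vs hvs hg
  have mkR : ∀ (a : ι → F), Q a ≠ 0 → ∃ r : ↥(GO Q),
      ((r.1 : GL ι F) : Matrix ι ι F) = Cfsg.reflectionMatrix ⇑Q a := by
    intro a ha
    obtain ⟨g, hg⟩ := exists_of_list' Q [a] (by
      intro w hw
      rw [List.mem_singleton] at hw
      rw [hw]; exact ha)
    rw [List.map_cons, List.map_nil, List.prod_cons, List.prod_nil, mul_one] at hg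
    exact ⟨⟨g.1, isometryGroup_le_GO Q g.2⟩, hg⟩
  set μ : F := (mulr Q h : F) with hμ
  have hμ0 : μ ≠ 0 := Units.ne_zero _
  set a := T.u 0 + T.w 0 with ha
  have hQa : Q a = 1 := by
    rw [ha, Q_add, T.hQu, T.hQw, T.huw, if_pos rfl]
    simp
  set b := T.u 0 + μ • T.w 0 with hb
  have hQb : Q b = μ := by
    rw [hb, Q_add, T.hQu, Q_smul, T.hQw, QuadraticMap.polar_smul_right, T.huw, if_pos rfl]
    simp
  set c := ((h.1 : GL ι F) : Matrix ι ι F) *ᵥ a with hc
  have hQc : Q c = μ := by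
    rw [hc, mulr_spec, hQa, mul_one]
  have hQa0 : Q a ≠ 0 := by rw [hQa]; exact one_ne_zero
  have hQb0 : Q b ≠ 0 := by rw [hQb]; exact hμ0
  have hQc0 : Q c ≠ 0 := by rw [hQc]; exact hμ0
  obtain ⟨rA, hrA⟩ := mkR a hQa0
  obtain ⟨rB, hrB⟩ := mkR b hQb0
  obtain ⟨rC, hrC⟩ := mkR c hQc0
  have hconj : h * rA * h⁻¹ = rC := by
    apply Subtype.ext
    apply Units.ext
    change ((h.1 : GL ι F) : Matrix ι ι F) * ((rA.1 : GL ι F) : Matrix ι ι F) *
      (((h.1 : GL ι F)⁻¹ : GL ι F) : Matrix ι ι F) = ((rC.1 : GL ι F) : Matrix ι ι F)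
    rw [hrA, hrC, hc]
    exact sim_conj_refl Q h a hQa0
  have hmul : ∀ (r r' : ↥(GO Q)) (x y : ι → F),
      ((r.1 : GL ι F) : Matrix ι ι F) = Cfsg.reflectionMatrix ⇑Q x →
      ((r'.1 : GL ι F) : Matrix ι ι F) = Cfsg.reflectionMatrix ⇑Q y →
      (((r * r').1 : GL ι F) : Matrix ι ι F) =
        ([x, y].map (fun v => Cfsg.reflectionMatrix ⇑Q v)).prod := by
    intro r r' x y hr hr'
    change ((r.1 : GL ι F) : Matrix ι ι F) * ((r'.1 : GL ι F) : Matrix ι ι F) = _
    rw [hr, hr', List.map_cons, List.map_cons, List.map_nil, List.prod_cons, List.prod_cons,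
      List.prod_nil, mul_one]
  have hsq : ¬ IsSquare μ := hh
  have hAA : κ rA * κ rA = 1 := by
    rw [← map_mul, key (rA * rA) [a, a] (by
      intro v hv
      simp only [List.mem_cons, List.mem_nil_iff, or_false, or_self] at hv
      rw [hv]; exact hQa0) (hmul rA rA a a hrA hrA)]
    refine ⟨⟨1, rfl⟩, ?_⟩
    simp only [List.map_cons, List.map_nil, List.prod_cons, List.prod_nil, mul_one]
    exact ⟨Q a, rfl⟩
  have hBB : κ rB * κ rB = 1 := by
    rw [← map_mul, key (rB * rB) [b, b] (by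
      intro v hv
      simp only [List.mem_cons, List.mem_nil_iff, or_false, or_self] at hv
      rw [hv]; exact hQb0) (hmul rB rB b b hrB hrB)]
    refine ⟨⟨1, rfl⟩, ?_⟩
    simp only [List.map_cons, List.map_nil, List.prod_cons, List.prod_nil, mul_one]
    exact ⟨Q b, rfl⟩
  have hone : ∀ (r : ↥(GO Q)) (x : ι → F), Q x ≠ 0 →
      ((r.1 : GL ι F) : Matrix ι ι F) = Cfsg.reflectionMatrix ⇑Q x → κ r ≠ 1 := by
    intro r x hx hr h1
    rw [key r [x] (by
      intro v hv
      rw [List.mem_singleton] at hv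
      rw [hv]; exact hx) (by
      rw [hr, List.map_cons, List.map_nil, List.prod_cons, List.prod_nil, mul_one])] at h1
    have := h1.1
    simp at this
  have hAB : κ rA ≠ κ rB := by
    intro heq
    have h1 : κ (rA * rB) = 1 := by rw [map_mul, heq, hBB]
    rw [key (rA * rB) [a, b] (by
      intro v hv
      simp only [List.mem_cons, List.mem_nil_iff, or_false] at hv
      rcases hv with rfl | rfl
      · exact hQa0
      · exact hQb0) (hmul rA rB a b hrA hrB)] at h1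
    have := h1.2
    simp only [List.map_cons, List.map_nil, List.prod_cons, List.prod_nil, mul_one, hQa, hQb,
      one_mul] at this
    exact hsq this
  have hnc : κ h * κ rA ≠ κ rA * κ h := by
    intro hcomm
    have h1 : κ rC = κ rA := by
      rw [← hconj, map_mul, map_mul, hcomm, map_inv, mul_inv_cancel_right]
    have h3 : κ (rC * rA) = 1 := by rw [map_mul, h1, hAA]
    rw [key (rC * rA) [c, a] (by
      intro v hv
      simp only [List.mem_cons, List.mem_nil_iff, or_false] at hv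
      rcases hv with rfl | rfl
      · exact hQc0
      · exact hQa0) (hmul rC rA c a hrC hrA)] at h3
    have := h3.2
    simp only [List.map_cons, List.map_nil, List.prod_cons, List.prod_nil, mul_one, hQa, hQc] at this
    exact hsq this
  obtain ⟨e⟩ := dihedral_of_card_eight hG ⟨κ h, κ rA, hnc⟩ (κ rA) (κ rB) hAB
    (hone rA a hQa0 hrA) (hone rB b hQb0 hrB) hAA hBB
  refine ⟨e.toMonoidHom.comp (QuotientGroup.mk' I), ?_, ?_⟩
  · exact e.surjective.comp (QuotientGroup.mk'_surjective I)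
  · ext x
    rw [MonoidHom.mem_ker, MonoidHom.comp_apply]
    change e (QuotientGroup.mk' I x) = 1 ↔ _
    rw [map_eq_one_iff e e.injective, QuotientGroup.mk'_apply, QuotientGroup.eq_one_iff]

end quotient

end Cfsg.Agent.Lib.Helper6.SimAut
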