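import Mathlib
import Cfsg.Agent.Lib.Helper6.SimAut2

/-!
# `Inndiag(PΩ⁺)` modulo inner automorphisms
-/

set_option autoImplicit false
set_option linter.unusedSectionVars false
set_option linter.unusedVariables false
set_option linter.style.haveILetI false

namespace Cfsg.Agent.Lib.Helper6.Inndiag

open Subgroup Matrix Cfsg.Agent.Lib.Helper6.AutInduced Cfsg.Agent.Lib.Helper6
  Cfsg.Agent.Lib.Helper6.OmegaAut Cfsg.Agent.Lib.Helper6.SimAut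

section order4
variable {A : Type*} [Group A]

theorem nonempty_equiv_zmod_of_cyclic [IsCyclic A] (n : ℕ) (hn : Nat.card A = n) :
    Nonempty (A ≃* Multiplicative (ZMod n)) := by
  subst hn
  exact ⟨(zmodCyclicMulEquiv ‹IsCyclic A›).symm⟩

theorem equiv_zmod2 (hA : Nat.card A = 2) : Nonempty (A ≃* Multiplicative (ZMod 2)) := by
  haveI : Fact (Nat.Prime 2) := ⟨Nat.prime_two⟩
  haveI : IsCyclic A := isCyclic_of_prime_card (p := 2) hA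
  exact nonempty_equiv_zmod_of_cyclic 2 hA

theorem equiv_zmod4 (hA : Nat.card A = 4) (a : A) (ha : a * a ≠ 1) :
    Nonempty (A ≃* Multiplicative (ZMod 4)) := by
  haveI : Finite A := Nat.finite_of_card_ne_zero (by omega)
  have h1 : orderOf a ∣ 4 := hA ▸ orderOf_dvd_natCard a
  have h2 : orderOf a = 4 := by
    have hle : orderOf a ≤ 4 := Nat.le_of_dvd (by norm_num) h1
    have hpos : 0 < orderOf a := orderOf_pos a
    interval_cases h : orderOf a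
    · exfalso
      apply ha
      rw [orderOf_eq_one_iff.mp h, mul_one]
    · exfalso
      apply ha
      rw [← pow_two, ← h, pow_orderOf_eq_one]
    · norm_num at h1
    · rfl
  haveI : IsCyclic A := isCyclic_of_orderOf_eq_card a (by rw [h2, hA])
  exact nonempty_equiv_zmod_of_cyclic 4 hA

theorem equiv_klein (hA : Nat.card A = 4) (a b : A) (ha : a ≠ 1) (hb : b ≠ 1) (hab : a ≠ b)
    (ha2 : a * a = 1) (hb2 : b * b = 1) : Nonempty (A ≃* Multiplicative (ZMod 2 × ZMod 2)) := by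
  classical
  haveI : Finite A := Nat.finite_of_card_ne_zero (by omega)
  haveI : Fintype A := Fintype.ofFinite A
  have hoa : orderOf a = 2 := orderOf_eq_prime (by rw [pow_two]; exact ha2) ha
  have hob : orderOf b = 2 := orderOf_eq_prime (by rw [pow_two]; exact hb2) hb
  have hnc : ¬ IsCyclic A := by
    intro hc
    have h1 := IsCyclic.card_orderOf_eq_totient (α := A) (d := 2) (by
      rw [← Nat.card_eq_fintype_card, hA]; norm_num)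
    have h2 : ({a, b} : Finset A) ⊆ Finset.univ.filter (fun x : A => orderOf x = 2) := by
      intro x hx
      rw [Finset.mem_insert, Finset.mem_singleton] at hx
      rw [Finset.mem_filter]
      rcases hx with rfl | rfl
      · exact ⟨Finset.mem_univ _, hoa⟩
      · exact ⟨Finset.mem_univ _, hob⟩
    have h3 := Finset.card_le_card h2
    rw [h1, Finset.card_pair hab] at h3
    norm_num at h3
  have hsq : ∀ x : A, x ^ 2 = 1 := by
    intro x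
    have h1 : orderOf x ∣ 4 := hA ▸ orderOf_dvd_natCard x
    have hle : orderOf x ≤ 4 := Nat.le_of_dvd (by norm_num) h1
    have hpos : 0 < orderOf x := orderOf_pos x
    interval_cases h : orderOf x
    · rw [orderOf_eq_one_iff.mp h, one_pow]
    · rw [← h, pow_orderOf_eq_one]
    · norm_num at h1
    · exfalso
      exact hnc (isCyclic_of_orderOf_eq_card x (by rw [h, hA]))
  haveI : IsKleinFour A :=
    { card_four := hA
      exponent_two := by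
        apply Nat.dvd_antisymm
        · exact Monoid.exponent_dvd_of_forall_pow_eq_one hsq
        · rw [← hoa]
          exact Monoid.order_dvd_exponent a }
  exact IsKleinFour.nonempty_mulEquiv

end order4

section quot
variable {X : Type*} [Group X]

theorem exists_hom_of_quot (P : Subgroup (MulAut X)) (I : Subgroup ↥P) [I.Normal] {C : Type*}
    [Group C] (e : Nonempty ((↥P ⧸ I) ≃* C)) :
    ∃ φ : ↥P →* C, Function.Surjective φ ∧ φ.ker = I := by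
  obtain ⟨e⟩ := e
  refine ⟨e.toMonoidHom.comp (QuotientGroup.mk' I), ?_, ?_⟩
  · exact e.surjective.comp (QuotientGroup.mk'_surjective I)
  · ext x
    rw [MonoidHom.mem_ker, MonoidHom.comp_apply]
    change e (QuotientGroup.mk' I x) = 1 ↔ _
    rw [map_eq_one_iff e e.injective, QuotientGroup.mk'_apply, QuotientGroup.eq_one_iff]

end quot

section main
variable {F : Type*} [Field F] [Fintype F] [DecidableEq F] {ι : Type} [Fintype ι] [DecidableEq ι]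
  (Q : QuadraticForm F (ι → F))

/-- the similarities with `det g = μ(g)^m` -/
noncomputable def KK (v₀ : ι → F) (hv₀ : Q v₀ ≠ 0) (m : ℕ) : Subgroup ↥(GO Q) := (dHom Q v₀ hv₀ m).ker

theorem mem_KK_iff (v₀ : ι → F) (hv₀ : Q v₀ ≠ 0) (m : ℕ) (g : ↥(GO Q)) :
    g ∈ KK Q v₀ hv₀ m ↔ ((g.1 : GL ι F) : Matrix ι ι F).det = (mulr Q g : F) ^ m := by
  unfold KK
  rw [MonoidHom.mem_ker, dHom_eq_one_iff]

theorem ker_theta'_le_KK (h2 : (2 : F) ≠ 0) (hQ : (QuadraticMap.polarBilin Q).Nondegenerate)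
    (v₀ : ι → F) (hv₀ : Q v₀ ≠ 0) (m : ℕ) (hm : Fintype.card ι = 2 * m) :
    (theta' Q h2 hQ v₀ hv₀ m hm).ker ≤ KK Q v₀ hv₀ m := by
  intro g hg
  rw [MonoidHom.mem_ker, theta'_eq_one_iff] at hg
  exact (mem_KK_iff Q v₀ hv₀ m g).mpr hg.2

/-- the subgroup generated by the automorphisms induced by class preserving similarities -/
theorem inndiag_eq (K : Subgroup ↥(GO Q))
    (hpsc : ∀ g : ↥(GO Q),
      Cfsg.PreservesSingularClasses ⇑Q ((g.1 : GL ι F) : Matrix ι ι F) ↔ g ∈ K) :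
    Subgroup.closure {β : MulAut (Cfsg.POmega F ⇑Q) | ∃ g : GL ι F,
      g ∈ Cfsg.Geo.quadSimilarityGroup (F := F) ⇑Q ∧
      Cfsg.PreservesSingularClasses ⇑Q (g : Matrix ι ι F) ∧
      Cfsg.IsInducedBySemilinearPOmega ⇑Q g (RingEquiv.refl F) β} = K.map (fGO Q) := by
  have hset : {β : MulAut (Cfsg.POmega F ⇑Q) | ∃ g : GL ι F,
      g ∈ Cfsg.Geo.quadSimilarityGroup (F := F) ⇑Q ∧
      Cfsg.PreservesSingularClasses ⇑Q (g : Matrix ι ι F) ∧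
      Cfsg.IsInducedBySemilinearPOmega ⇑Q g (RingEquiv.refl F) β} =
      {β | ∃ g ∈ K.map (GO Q).subtype, IsInd (Cfsg.isometryGroup F ⇑Q) g β} := by
    ext β
    constructor
    · rintro ⟨g, hg, hp, hi⟩
      exact ⟨g, ⟨⟨g, hg⟩, (hpsc _).mp hp, rfl⟩, (isInduced_iff ⇑Q g β).mp hi⟩
    · rintro ⟨g, ⟨g', hg', rfl⟩, hi⟩
      exact ⟨g'.1, g'.2, (hpsc g').mpr hg', (isInduced_iff ⇑Q _ β).mpr hi⟩
  have hle : K.map (GO Q).subtype ≤ GO Q := Subgroup.map_subtype_le K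
  rw [hset, closure_isInd _ _ (hle.trans (GO_le_normalizer Q)), img_eq_map Q _ hle]
  congr 1
  ext g
  rw [Subgroup.mem_subgroupOf, Subgroup.mem_map]
  constructor
  · rintro ⟨g', hg', h⟩
    have : g' = g := Subtype.ext h
    rw [← this]; exact hg'
  · intro h
    exact ⟨g, h, rfl⟩

theorem fGO_mem_map_iff (K : Subgroup ↥(GO Q)) (hK : (fGO Q).ker ≤ K) (g : ↥(GO Q)) :
    fGO Q g ∈ K.map (fGO Q) ↔ g ∈ K := by
  constructor
  · rintro ⟨k, hk, hkg⟩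
    have h1 : k⁻¹ * g ∈ (fGO Q).ker := by
      rw [MonoidHom.mem_ker, map_mul, map_inv, hkg, inv_mul_cancel]
    have := K.mul_mem hk (hK h1)
    rwa [mul_inv_cancel_left] at this
  · intro h
    exact ⟨g, h, rfl⟩

theorem psoAut_le_map (h2 : (2 : F) ≠ 0) (hQ : (QuadraticMap.polarBilin Q).Nondegenerate)
    (h5 : 5 ≤ Fintype.card ι) (v₀ : ι → F) (hv₀ : Q v₀ ≠ 0) (m : ℕ) (hm : Fintype.card ι = 2 * m) :
    Cfsg.psoAut F ⇑Q ≤ (KK Q v₀ hv₀ m).map (fGO Q) := by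
  rw [← map_ker_theta' Q h2 hQ h5 v₀ hv₀ m hm]
  exact Subgroup.map_mono (ker_theta'_le_KK Q h2 hQ v₀ hv₀ m hm)

theorem fGO_mem_psoAut_iff (h2 : (2 : F) ≠ 0) (hQ : (QuadraticMap.polarBilin Q).Nondegenerate)
    (h5 : 5 ≤ Fintype.card ι) (T : HypTriple Q) (v₀ : ι → F) (hv₀ : Q v₀ ≠ 0) (m : ℕ)
    (hm : Fintype.card ι = 2 * m) (g : ↥(GO Q)) :
    fGO Q g ∈ Cfsg.psoAut F ⇑Q ↔ theta' Q h2 hQ v₀ hv₀ m hm g = 1 := by
  rw [← map_ker_theta' Q h2 hQ h5 v₀ hv₀ m hm,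
    fGO_mem_map_iff Q _ (ker_fGO_le Q h2 hQ h5 T v₀ hv₀ m hm), MonoidHom.mem_ker]

/-- the index of the `PSO`-image in `Inndiag` -/
theorem relIndex_psoAut_map (h2 : (2 : F) ≠ 0) (hQ : (QuadraticMap.polarBilin Q).Nondegenerate)
    (h5 : 5 ≤ Fintype.card ι) (T : HypTriple Q) (v₀ : ι → F) (hv₀ : Q v₀ ≠ 0) (m : ℕ)
    (hm : Fintype.card ι = 2 * m) (h : ↥(GO Q)) (hh : ¬ IsSquare (mulr Q h : F))
    (hhK : h ∈ KK Q v₀ hv₀ m) :
    (Cfsg.psoAut F ⇑Q).relIndex ((KK Q v₀ hv₀ m).map (fGO Q)) = 2 := by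
  rw [← map_ker_theta' Q h2 hQ h5 v₀ hv₀ m hm,
    relIndex_map_eq (fGO Q) _ _ (ker_theta'_le_KK Q h2 hQ v₀ hv₀ m hm)
      (inf_le_right.trans (ker_fGO_le Q h2 hQ h5 T v₀ hv₀ m hm))]
  set θ₁ : ↥(GO Q) →* ℤˣ := (quadraticChar F).toUnitHom.comp (mulrHom Q v₀ hv₀) with hθ₁
  have hθ₁g : ∀ g, θ₁ g = 1 ↔ IsSquare (mulr Q g : F) := fun g => theta_fst Q h2 hQ v₀ hv₀ m hm g
  have hker : (theta' Q h2 hQ v₀ hv₀ m hm).ker = θ₁.ker ⊓ KK Q v₀ hv₀ m := by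
    ext g
    rw [MonoidHom.mem_ker, theta'_eq_one_iff, Subgroup.mem_inf, MonoidHom.mem_ker, hθ₁g, mem_KK_iff]
  rw [hker, Subgroup.inf_relIndex_right, Subgroup.relIndex_ker]
  have htop : (KK Q v₀ hv₀ m).map θ₁ = ⊤ := by
    rw [eq_top_iff]
    intro x _
    rcases Int.units_eq_one_or x with rfl | rfl
    · exact Subgroup.one_mem _
    · refine ⟨h, hhK, ?_⟩
      rcases Int.units_eq_one_or (θ₁ h) with h1 | h1
      · exact absurd ((hθ₁g h).mp h1) hh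
      · exact h1
  rw [htop, Subgroup.card_top, Nat.card_eq_fintype_card]
  rfl

theorem Inn_le_map (h2 : (2 : F) ≠ 0) (hQ : (QuadraticMap.polarBilin Q).Nondegenerate)
    (h5 : 5 ≤ Fintype.card ι) (v₀ : ι → F) (hv₀ : Q v₀ ≠ 0) (m : ℕ) (hm : Fintype.card ι = 2 * m) :
    Cfsg.Inn (Cfsg.POmega F ⇑Q) ≤ (KK Q v₀ hv₀ m).map (fGO Q) :=
  (Inn_le_psoAut Q).trans (psoAut_le_map Q h2 hQ h5 v₀ hv₀ m hm)

/-- **`-1 ∉ Ω`: `Inndiag` modulo `Inn(PΩ)` is `C₂`.** -/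
theorem inndiag_c2 (h2 : (2 : F) ≠ 0) (hQ : (QuadraticMap.polarBilin Q).Nondegenerate)
    (h5 : 5 ≤ Fintype.card ι) (T : HypTriple Q) (v₀ : ι → F) (hv₀ : Q v₀ ≠ 0) (m : ℕ)
    (hm : Fintype.card ι = 2 * m) (h : ↥(GO Q)) (hh : ¬ IsSquare (mulr Q h : F))
    (hhK : h ∈ KK Q v₀ hv₀ m) (hneg : negIso Q ∉ Cfsg.Omega F ⇑Q) :
    ∃ φ : ↥((KK Q v₀ hv₀ m).map (fGO Q)) →* Multiplicative (ZMod 2), Function.Surjective φ ∧
      φ.ker = (Cfsg.Inn (Cfsg.POmega F ⇑Q)).subgroupOf ((KK Q v₀ hv₀ m).map (fGO Q)) := by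
  set P := (KK Q v₀ hv₀ m).map (fGO Q) with hP
  set I := (Cfsg.Inn (Cfsg.POmega F ⇑Q)).subgroupOf P with hI
  have hG : Nat.card (↥P ⧸ I) = 2 := by
    rw [← Subgroup.index_eq_card, hI]
    change (Cfsg.Inn (Cfsg.POmega F ⇑Q)).relIndex P = 2
    rw [← Subgroup.relIndex_mul_relIndex _ _ _ (Inn_le_psoAut Q)
      (psoAut_le_map Q h2 hQ h5 v₀ hv₀ m hm),
      relIndex_Inn_psoAut_of_notMem Q h2 hQ h5 ⟨m, by rw [hm]; ring⟩ T hneg,
      relIndex_psoAut_map Q h2 hQ h5 T v₀ hv₀ m hm h hh hhK]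
  exact exists_hom_of_quot P I (equiv_zmod2 hG)

/-- products of reflections inducing inner automorphisms -/
theorem fGO_list_mem_Inn_iff (h2 : (2 : F) ≠ 0) (hQ : (QuadraticMap.polarBilin Q).Nondegenerate)
    (h5 : 5 ≤ Fintype.card ι) (T : HypTriple Q) (hneg : negIso Q ∈ Cfsg.Omega F ⇑Q)
    (g : ↥(GO Q)) (vs : List (ι → F)) (hvs : ∀ v ∈ vs, Q v ≠ 0)
    (hg : ((g.1 : GL ι F) : Matrix ι ι F) = (vs.map (fun v => Cfsg.reflectionMatrix ⇑Q v)).prod) :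
    fGO Q g ∈ Cfsg.Inn (Cfsg.POmega F ⇑Q) ↔
      (Even vs.length ∧ IsSquare (vs.map (fun v => Q v)).prod) := by
  obtain ⟨g', hg'⟩ := exists_of_list' Q vs hvs
  have hgO : g.1 ∈ Cfsg.isometryGroup F ⇑Q := by
    have : g.1 = g'.1 := by
      apply Units.ext
      rw [hg, hg']
    rw [this]
    exact g'.2
  rw [fGO_mem_Inn_iff Q hQ h5 T hneg g hgO]
  exact mem_Omega_iff_list' Q h2 hQ (by omega) ⟨g.1, hgO⟩ vs hvs hg

/-- the common setting of the two cases of order four -/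
theorem card_quot_four (h2 : (2 : F) ≠ 0) (hQ : (QuadraticMap.polarBilin Q).Nondegenerate)
    (h5 : 5 ≤ Fintype.card ι) (T : HypTriple Q) (v₀ : ι → F) (hv₀ : Q v₀ ≠ 0) (m : ℕ)
    (hm : Fintype.card ι = 2 * m) (h : ↥(GO Q)) (hh : ¬ IsSquare (mulr Q h : F))
    (hhK : h ∈ KK Q v₀ hv₀ m) (hneg : negIso Q ∈ Cfsg.Omega F ⇑Q) :
    Nat.card (↥((KK Q v₀ hv₀ m).map (fGO Q)) ⧸
      (Cfsg.Inn (Cfsg.POmega F ⇑Q)).subgroupOf ((KK Q v₀ hv₀ m).map (fGO Q))) = 4 := by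
  rw [← Subgroup.index_eq_card]
  change (Cfsg.Inn (Cfsg.POmega F ⇑Q)).relIndex _ = 4
  rw [← Subgroup.relIndex_mul_relIndex _ _ _ (Inn_le_psoAut Q)
    (psoAut_le_map Q h2 hQ h5 v₀ hv₀ m hm),
    relIndex_Inn_psoAut_of_mem Q h2 hQ h5 T hneg,
    relIndex_psoAut_map Q h2 hQ h5 T v₀ hv₀ m hm h hh hhK]

/-- the map from the class preserving similarities to the quotient -/
noncomputable def psi (v₀ : ι → F) (hv₀ : Q v₀ ≠ 0) (m : ℕ) :
    ↥(KK Q v₀ hv₀ m) →* ↥((KK Q v₀ hv₀ m).map (fGO Q)) ⧸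
      (Cfsg.Inn (Cfsg.POmega F ⇑Q)).subgroupOf ((KK Q v₀ hv₀ m).map (fGO Q)) :=
  (QuotientGroup.mk' _).comp (MonoidHom.codRestrict ((fGO Q).comp (KK Q v₀ hv₀ m).subtype) _
    (fun k => ⟨k.1, k.2, rfl⟩))

theorem psi_eq_one_iff (v₀ : ι → F) (hv₀ : Q v₀ ≠ 0) (m : ℕ) (k : ↥(KK Q v₀ hv₀ m)) :
    psi Q v₀ hv₀ m k = 1 ↔ fGO Q k.1 ∈ Cfsg.Inn (Cfsg.POmega F ⇑Q) := by
  unfold psi
  rw [MonoidHom.comp_apply, QuotientGroup.mk'_apply, QuotientGroup.eq_one_iff,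
    Subgroup.mem_subgroupOf]
  rfl

theorem psi_sq_iff (hQ : (QuadraticMap.polarBilin Q).Nondegenerate)
    (h5 : 5 ≤ Fintype.card ι) (T : HypTriple Q) (v₀ : ι → F) (hv₀ : Q v₀ ≠ 0) (m : ℕ)
    (h : ↥(GO Q)) (hhK : h ∈ KK Q v₀ hv₀ m) (hneg : negIso Q ∈ Cfsg.Omega F ⇑Q)
    (d : ↥(GO Q)) (hd : d.1 ∈ Cfsg.isometryGroup F ⇑Q) (c : Fˣ)
    (hhd : h * h = ⟨scalGL c, scalGL_mem_GO Q c⟩ * d) :
    psi Q v₀ hv₀ m ⟨h, hhK⟩ * psi Q v₀ hv₀ m ⟨h, hhK⟩ = 1 ↔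
      (⟨d.1, hd⟩ : ↥(Cfsg.isometryGroup F ⇑Q)) ∈ Cfsg.Omega F ⇑Q := by
  rw [← map_mul, psi_eq_one_iff]
  change fGO Q (h * h) ∈ _ ↔ _
  rw [hhd, map_mul, fGO_scalGL Q hQ h5, one_mul, fGO_mem_Inn_iff Q hQ h5 T hneg d hd]

/-- **`-1 ∈ Ω`, `h² ∉ Z·Ω`: `Inndiag` modulo `Inn(PΩ)` is `C₄`.** -/
theorem inndiag_c4 (h2 : (2 : F) ≠ 0) (hQ : (QuadraticMap.polarBilin Q).Nondegenerate)
    (h5 : 5 ≤ Fintype.card ι) (T : HypTriple Q) (v₀ : ι → F) (hv₀ : Q v₀ ≠ 0) (m : ℕ)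
    (hm : Fintype.card ι = 2 * m) (h : ↥(GO Q)) (hh : ¬ IsSquare (mulr Q h : F))
    (hhK : h ∈ KK Q v₀ hv₀ m) (hneg : negIso Q ∈ Cfsg.Omega F ⇑Q)
    (d : ↥(GO Q)) (hd : d.1 ∈ Cfsg.isometryGroup F ⇑Q) (c : Fˣ)
    (hhd : h * h = ⟨scalGL c, scalGL_mem_GO Q c⟩ * d)
    (hdΩ : (⟨d.1, hd⟩ : ↥(Cfsg.isometryGroup F ⇑Q)) ∉ Cfsg.Omega F ⇑Q) :
    ∃ φ : ↥((KK Q v₀ hv₀ m).map (fGO Q)) →* Multiplicative (ZMod 4), Function.Surjective φ ∧
      φ.ker = (Cfsg.Inn (Cfsg.POmega F ⇑Q)).subgroupOf ((KK Q v₀ hv₀ m).map (fGO Q)) := by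
  apply exists_hom_of_quot
  apply equiv_zmod4 (card_quot_four Q h2 hQ h5 T v₀ hv₀ m hm h hh hhK hneg)
    (psi Q v₀ hv₀ m ⟨h, hhK⟩)
  rw [Ne, psi_sq_iff Q hQ h5 T v₀ hv₀ m h hhK hneg d hd c hhd]
  exact hdΩ

set_option maxHeartbeats 1600000 in
/-- **`-1 ∈ Ω`, `h² ∈ Z·Ω`: `Inndiag` modulo `Inn(PΩ)` is `C₂ × C₂`.** -/
theorem inndiag_klein (h2 : (2 : F) ≠ 0) (hQ : (QuadraticMap.polarBilin Q).Nondegenerate)
    (h5 : 5 ≤ Fintype.card ι) (T : HypTriple Q) (m : ℕ)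
    (hm : Fintype.card ι = 2 * m) (h : ↥(GO Q)) (hh : ¬ IsSquare (mulr Q h : F))
    (hhK : h ∈ KK Q _ (T_nonsingular Q T) m) (hneg : negIso Q ∈ Cfsg.Omega F ⇑Q)
    (d : ↥(GO Q)) (hd : d.1 ∈ Cfsg.isometryGroup F ⇑Q) (c : Fˣ)
    (hhd : h * h = ⟨scalGL c, scalGL_mem_GO Q c⟩ * d)
    (hdΩ : (⟨d.1, hd⟩ : ↥(Cfsg.isometryGroup F ⇑Q)) ∈ Cfsg.Omega F ⇑Q) :
    ∃ φ : ↥((KK Q _ (T_nonsingular Q T) m).map (fGO Q)) →* Multiplicative (ZMod 2 × ZMod 2),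
      Function.Surjective φ ∧
      φ.ker = (Cfsg.Inn (Cfsg.POmega F ⇑Q)).subgroupOf
        ((KK Q _ (T_nonsingular Q T) m).map (fGO Q)) := by
  have hv₀ := T_nonsingular Q T
  set v₀ := T.u 0 + T.w 0 with hv₀def
  have mkR : ∀ (a : ι → F), Q a ≠ 0 → ∃ r : ↥(GO Q),
      ((r.1 : GL ι F) : Matrix ι ι F) = Cfsg.reflectionMatrix ⇑Q a := by
    intro a ha
    obtain ⟨g, hg⟩ := exists_of_list' Q [a] (by
      intro w hw
      rw [List.mem_singleton] at hw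
      rw [hw]; exact ha)
    rw [List.map_cons, List.map_nil, List.prod_cons, List.prod_nil, mul_one] at hg
    exact ⟨⟨g.1, isometryGroup_le_GO Q g.2⟩, hg⟩
  set μ : F := (mulr Q h : F) with hμ
  have hμ0 : μ ≠ 0 := Units.ne_zero _
  have hQa : Q v₀ = 1 := by
    rw [hv₀def, Q_add, T.hQu, T.hQw, T.huw, if_pos rfl]
    simp
  set b := T.u 0 + μ • T.w 0 with hb
  have hQb : Q b = μ := by
    rw [hb, Q_add, T.hQu, Q_smul, T.hQw, QuadraticMap.polar_smul_right, T.huw, if_pos rfl]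
    simp
  have hQb0 : Q b ≠ 0 := by rw [hQb]; exact hμ0
  obtain ⟨rA, hrA⟩ := mkR v₀ hv₀
  obtain ⟨rB, hrB⟩ := mkR b hQb0
  set σ : ↥(GO Q) := rA * rB with hσ
  have hσval : ((σ.1 : GL ι F) : Matrix ι ι F) =
      ([v₀, b].map (fun v => Cfsg.reflectionMatrix ⇑Q v)).prod := by
    change ((rA.1 : GL ι F) : Matrix ι ι F) * ((rB.1 : GL ι F) : Matrix ι ι F) = _
    rw [hrA, hrB, List.map_cons, List.map_cons, List.map_nil, List.prod_cons, List.prod_cons,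
      List.prod_nil, mul_one]
  have hσσval : (((σ * σ).1 : GL ι F) : Matrix ι ι F) =
      ([v₀, b, v₀, b].map (fun v => Cfsg.reflectionMatrix ⇑Q v)).prod := by
    change ((σ.1 : GL ι F) : Matrix ι ι F) * ((σ.1 : GL ι F) : Matrix ι ι F) = _
    rw [hσval]
    simp only [List.map_cons, List.map_nil, List.prod_cons, List.prod_nil, mul_one, Matrix.mul_assoc]
  have hl2 : ∀ v ∈ [v₀, b], Q v ≠ 0 := by
    intro v hv
    simp only [List.mem_cons, List.mem_nil_iff, or_false] at hv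
    rcases hv with rfl | rfl
    · exact hv₀
    · exact hQb0
  have hl4 : ∀ v ∈ [v₀, b, v₀, b], Q v ≠ 0 := by
    intro v hv
    simp only [List.mem_cons, List.mem_nil_iff, or_false] at hv
    rcases hv with rfl | rfl | rfl | rfl
    · exact hv₀
    · exact hQb0
    · exact hv₀
    · exact hQb0
  have hσO : σ.1 ∈ Cfsg.isometryGroup F ⇑Q := by
    obtain ⟨g', hg'⟩ := exists_of_list' Q [v₀, b] hl2
    have : σ.1 = g'.1 := by
      apply Units.ext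
      rw [hσval, hg']
    rw [this]
    exact g'.2
  have hσθ : theta' Q h2 hQ v₀ hv₀ m hm σ = 1 := by
    rw [theta'_eq_one_iff, mulr_of_isometry Q v₀ hv₀ σ hσO, Units.val_one, one_pow]
    refine ⟨⟨1, (mul_one 1).symm⟩, ?_⟩
    rw [hσval]
    simp only [List.map_cons, List.map_nil, List.prod_cons, List.prod_nil, mul_one, Matrix.det_mul,
      det_reflectionMatrix Q h2 v₀ hv₀, det_reflectionMatrix Q h2 b hQb0]
    ring
  have hσK : σ ∈ KK Q v₀ hv₀ m := ker_theta'_le_KK Q h2 hQ v₀ hv₀ m hm hσθ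
  have hhθ : theta' Q h2 hQ v₀ hv₀ m hm h ≠ 1 := by
    intro h1
    rw [theta'_eq_one_iff] at h1
    exact hh h1.1
  have hnotInn : ∀ g : ↥(GO Q), theta' Q h2 hQ v₀ hv₀ m hm g ≠ 1 →
      fGO Q g ∉ Cfsg.Inn (Cfsg.POmega F ⇑Q) := by
    intro g hg hmem
    exact hg ((fGO_mem_psoAut_iff Q h2 hQ h5 T v₀ hv₀ m hm g).mp (Inn_le_psoAut Q hmem))
  apply exists_hom_of_quot
  apply equiv_klein (card_quot_four Q h2 hQ h5 T v₀ hv₀ m hm h hh hhK hneg)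
    (psi Q v₀ hv₀ m ⟨h, hhK⟩) (psi Q v₀ hv₀ m ⟨σ, hσK⟩)
  · rw [Ne, psi_eq_one_iff]
    exact hnotInn h hhθ
  · rw [Ne, psi_eq_one_iff, fGO_list_mem_Inn_iff Q h2 hQ h5 T hneg σ [v₀, b] hl2 hσval]
    rintro ⟨-, hsq⟩
    simp only [List.map_cons, List.map_nil, List.prod_cons, List.prod_nil, mul_one, hQa, hQb,
      one_mul] at hsq
    exact hh hsq
  · intro heq
    have h1 : psi Q v₀ hv₀ m ⟨h, hhK⟩ * (psi Q v₀ hv₀ m ⟨σ, hσK⟩)⁻¹ = 1 := mul_inv_eq_one.mpr heq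
    rw [← map_inv, ← map_mul, psi_eq_one_iff] at h1
    change fGO Q (h * σ⁻¹) ∈ _ at h1
    apply hnotInn (h * σ⁻¹) _ h1
    rw [map_mul, map_inv, hσθ, inv_one, mul_one]
    exact hhθ
  · rw [psi_sq_iff Q hQ h5 T v₀ hv₀ m h hhK hneg d hd c hhd]
    exact hdΩ
  · rw [← map_mul, psi_eq_one_iff]
    change fGO Q (σ * σ) ∈ _
    rw [fGO_list_mem_Inn_iff Q h2 hQ h5 T hneg (σ * σ) [v₀, b, v₀, b] hl4 hσσval]
    refine ⟨⟨2, rfl⟩, ?_⟩
    simp only [List.map_cons, List.map_nil, List.prod_cons, List.prod_nil, mul_one, hQa, hQb,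
      one_mul]
    exact ⟨μ, rfl⟩

end main

end Cfsg.Agent.Lib.Helper6.Inndiag
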