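import Mathlib
import Cfsg.Agent.Lib.Helper6.AutOrt16
import Cfsg.Agent.Lib.Helper6.AutOrt18
import Cfsg.Agent.Lib.Helper6.Inndiag
import Cfsg.Agent.Lib.Helper15.Dk27

/-!
# Automorphisms of orthogonal groups, part 19: the order of `Aut(Ω_{2m+1}(q))` and its outer
automorphism group
-/

set_option autoImplicit false
set_option linter.unusedSectionVars false
set_option linter.unusedVariables false

open Cfsg Matrix QuadraticMap Module

namespace Cfsg.Agent.Lib.Helper6.AutOrt

open Cfsg.Agent.Lib.Helper6 Cfsg.Agent.Lib.Helper15 Cfsg.Agent.Lib.Helper6.AutInduced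
  Cfsg.Agent.Lib.Helper6.OmegaAut Cfsg.Agent.Lib.Helper6.SimAut

variable {F : Type*} [Field F] [Fintype F]

theorem charP_of_card_pow' {p k : ℕ} [hp : Fact p.Prime] (hF : Fintype.card F = p ^ k) :
    CharP F p := by
  obtain ⟨p', hp'⟩ := CharP.exists F
  haveI := hp'
  haveI : Fact p'.Prime := ⟨CharP.char_is_prime F p'⟩
  obtain ⟨m, -, hm⟩ := FiniteField.card F p'
  have hdvd : p' ∣ p ^ k := by
    rw [← hF, hm]
    exact dvd_pow_self p' m.ne_zero
  have h1 : p' = p :=
    (Nat.prime_dvd_prime_iff_eq (CharP.char_is_prime F p') hp.out).1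
      ((CharP.char_is_prime F p').dvd_of_dvd_pow hdvd)
  subst h1
  exact hp'

theorem card_ringAut' {p f : ℕ} [Fact p.Prime] (hF : Fintype.card F = p ^ f)
    (hf : 1 ≤ f) : Nat.card (RingAut F) = f := by
  have : CharP F p := charP_of_card_pow' hF
  obtain ⟨e⟩ := Cfsg.Agent.Lib.Helper15.Dk.exists_ringAut_mulEquiv (F := F) p f hF
  rw [Nat.card_congr e.toEquiv]
  have : NeZero f := ⟨by omega⟩
  change Nat.card (ZMod f) = f
  rw [Nat.card_eq_fintype_card, ZMod.card]

section odd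
variable (F) (m : ℕ)

/-- the field automorphisms of the odd-dimensional form -/
noncomputable def fieldOdd (σ : F ≃+* F) : SemiSimO (QOdd F m) where
  S x := fun i => σ (x i)
  σ := σ
  ν := 1
  hν := one_ne_zero
  add x y := by
    funext i
    simp
  smul a x := by
    funext i
    simp
  form x := by
    rw [one_mul, QOdd_apply, QOdd_apply]
    unfold Cfsg.quadFormOdd
    rw [map_add, map_pow, map_sum]
    congr 1
    apply Finset.sum_congr rfl
    intro i _
    rw [map_mul]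

theorem fieldOdd_σ (σ : F ≃+* F) : (fieldOdd F m σ).σ = σ := rfl

variable {F} {m}

theorem std_QOdd (h2 : (2 : F) ≠ 0) (hm : 3 ≤ m) : Std (QOdd F m) :=
  { nondeg := nondegenerate_QOdd F h2 m
    seven := by
      rw [Fintype.card_sum, Fintype.card_sum, Fintype.card_fin, Fintype.card_unit]; omega
    triple := ⟨oddTriple F m hm⟩ }

theorem card_II : Fintype.card (Unit ⊕ (Fin m ⊕ Fin m)) = 2 * m + 1 := by
  rw [Fintype.card_sum, Fintype.card_sum, Fintype.card_fin, Fintype.card_unit]; omega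

theorem HP_QOdd (h2 : (2 : F) ≠ 0) (hm : 3 ≤ m) :
    haveI := std_QOdd (F := F) h2 hm
    HP (QOdd F m) := by
  haveI := std_QOdd (F := F) h2 hm
  by_cases h3 : m = 3
  · apply HP_of_le_seven
    rw [card_II]; omega
  · apply HP_of_nine
    rw [card_II]; omega

/-- **`|Aut(Ω_{2m+1}(q))| = 2 f |Ω_{2m+1}(q)|`** -/
theorem card_aut_odd (p f : ℕ) [Fact p.Prime] (hf : 1 ≤ f) (hF : Fintype.card F = p ^ f)
    (hodd : Odd p) (hm : 3 ≤ m) :
    Nat.card (MulAut (Cfsg.POmega F (Cfsg.quadFormOdd m F))) =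
      2 * f * Nat.card (Cfsg.POmega F (Cfsg.quadFormOdd m F)) := by
  classical
  have hfun : Cfsg.quadFormOdd m F = ⇑(QOdd F m) := by
    funext v
    rw [QOdd_apply]
  rw [hfun]
  have hoddF : Odd (Fintype.card F) := by rw [hF]; exact hodd.pow
  have h2 := two_ne_zero_of_odd hoddF
  haveI := std_QOdd (F := F) h2 hm
  haveI : CharP F p := charP_of_card_pow' hF
  have hP := HP_QOdd (F := F) h2 hm
  have h1 := card_aut_eq p hP (fun σ => ⟨fieldOdd F m σ, rfl⟩)
  have h5 : 5 ≤ Fintype.card (Unit ⊕ (Fin m ⊕ Fin m)) := by rw [card_II]; omega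
  have hoddι : Odd (Fintype.card (Unit ⊕ (Fin m ⊕ Fin m))) := by
    rw [card_II]; exact ⟨m, rfl⟩
  rw [h1, card_ringAut' hF hf,
    card_pgoAut_of_odd (QOdd F m) h2 (nondegenerate_QOdd F h2 m) h5 hoddι (oddTriple F m hm)]
  ring

/-- the field automorphisms as a homomorphism -/
noncomputable def fldOdd (h2 : (2 : F) ≠ 0) (hm : 3 ≤ m) :
    RingAut F →* MulAut (Cfsg.POmega F ⇑(QOdd F m)) :=
  haveI := std_QOdd (F := F) h2 hm
  { toFun := fun σ => (fieldOdd F m σ).gam
    map_one' := by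
      apply SemiSimO.gam_eq_one_of_smul _ 1
      intro x
      rw [one_smul]
      rfl
    map_mul' := by
      intro σ τ
      rw [← SemiSimO.gam_comp]
      apply SemiSimO.gam_eq_of_S_eq
      intro x
      rfl }

/-- generic: the outer automorphism group from a split surjection with kernel of index two over
the inner automorphisms -/
theorem out_of_split {G : Type*} [Group G] [Finite (MulAut G)] {f : ℕ} (hf : 1 ≤ f)
    (ψ : MulAut G →* RingAut F) (s : RingAut F →* MulAut G) (hs : ∀ σ, ψ (s σ) = σ)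
    (hInn : Cfsg.Inn G ≤ ψ.ker) (hidx : (Cfsg.Inn G).relIndex ψ.ker = 2)
    (e : RingAut F ≃* Multiplicative (ZMod f)) :
    Nonempty (Cfsg.Out G ≃* Multiplicative (ZMod 2 × ZMod f)) := by
  let ψb : Cfsg.Out G →* RingAut F := QuotientGroup.lift (Cfsg.Inn G) ψ hInn
  let sb : RingAut F →* Cfsg.Out G := (QuotientGroup.mk' (Cfsg.Inn G)).comp s
  have hsb : ∀ σ, ψb (sb σ) = σ := fun σ => hs σ
  have hsurj : Function.Surjective ψ := fun σ => ⟨s σ, hs σ⟩
  have hsurjb : Function.Surjective ψb := fun σ => ⟨sb σ, hsb σ⟩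
  have hcardRA : Nat.card (RingAut F) = f := by
    rw [Nat.card_congr e.toEquiv]
    have : NeZero f := ⟨by omega⟩
    change Nat.card (ZMod f) = f
    rw [Nat.card_eq_fintype_card, ZMod.card]
  have hker : Nat.card ψb.ker = 2 := by
    have h1 := Subgroup.card_mul_index ψ.ker
    rw [Subgroup.index_ker, MonoidHom.range_eq_top.mpr hsurj, Subgroup.card_top] at h1
    have h2 := Subgroup.card_mul_index ψb.ker
    rw [Subgroup.index_ker, MonoidHom.range_eq_top.mpr hsurjb, Subgroup.card_top] at h2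
    have h3 := Subgroup.card_eq_card_quotient_mul_card_subgroup (Cfsg.Inn G)
    have h4 := card_eq_of_relIndex _ _ hInn 2 hidx
    have hI : 0 < Nat.card (Cfsg.Inn G) := Nat.card_pos
    rw [hcardRA] at h1 h2
    have h5 : Nat.card ψb.ker * f * Nat.card (Cfsg.Inn G) = 2 * f * Nat.card (Cfsg.Inn G) := by
      rw [h2, ← h3, ← h1, h4]
      ring
    have h6 := Nat.eq_of_mul_eq_mul_right hI h5
    exact Nat.eq_of_mul_eq_mul_right (by omega : 0 < f) h6
  obtain ⟨e1⟩ := nonempty_prod_of_split ψb sb hsb hker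
  obtain ⟨e2⟩ := Cfsg.Agent.Lib.Helper6.Inndiag.equiv_zmod2 hker
  exact ⟨(e1.trans (MulEquiv.prodCongr e2 e)).trans (prodMulEquiv (ZMod 2) (ZMod f))⟩

/-- **`Out(Ω_{2m+1}(q)) ≅ Z₂ × Z_f`** -/
theorem out_odd {p f : ℕ} [Fact p.Prime] (hf : 1 ≤ f) (hF : Fintype.card F = p ^ f)
    (hp : p ≠ 2) (hm : 3 ≤ m) :
    Nonempty (Cfsg.Out (Cfsg.POmega F (Cfsg.quadFormOdd m F)) ≃*
      Multiplicative (ZMod 2 × ZMod f)) := by
  classical
  have hfun : Cfsg.quadFormOdd m F = ⇑(QOdd F m) := by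
    funext v
    rw [QOdd_apply]
  rw [hfun]
  have hodd : Odd p := (Fact.out : p.Prime).odd_of_ne_two hp
  have hoddF : Odd (Fintype.card F) := by rw [hF]; exact hodd.pow
  have h2 := two_ne_zero_of_odd hoddF
  haveI := std_QOdd (F := F) h2 hm
  haveI : CharP F p := charP_of_card_pow' hF
  have hP := HP_QOdd (F := F) h2 hm
  have h5 : 5 ≤ Fintype.card (Unit ⊕ (Fin m ⊕ Fin m)) := by rw [card_II]; omega
  have hoddι : Odd (Fintype.card (Unit ⊕ (Fin m ⊕ Fin m))) := by
    rw [card_II]; exact ⟨m, rfl⟩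
  obtain ⟨e⟩ := Cfsg.Agent.Lib.Helper15.Dk.exists_ringAut_mulEquiv (F := F) p f hF
  have hnd := nondegenerate_QOdd F h2 m
  refine out_of_split hf (psiO p hP) (fldOdd h2 hm) (fun σ => psiO_gam p hP (fieldOdd F m σ)) ?_ ?_ e
  · rw [psiO_ker]
    exact Inn_le_pgoAut (QOdd F m)
  · rw [psiO_ker, pgoAut_eq_psoAut (QOdd F m) hnd h5 hoddι]
    exact relIndex_Inn_psoAut_of_odd (QOdd F m) h2 hnd h5 hoddι (oddTriple F m hm)

end odd

end Cfsg.Agent.Lib.Helper6.AutOrt
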