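import Mathlib
import Cfsg.Agent.Lib.Helper6.AutOrt19
import Cfsg.Agent.Lib.Helper15.QuadCount7

/-!
# Automorphisms of orthogonal groups, part 20: minus type, field semisimilarities and the
standing hypotheses
-/

set_option autoImplicit false
set_option linter.unusedSectionVars false
set_option linter.unusedVariables false

open Cfsg Matrix QuadraticMap Module

namespace Cfsg.Agent.Lib.Helper6.AutOrt

open Cfsg.Agent.Lib.Helper6 Cfsg.Agent.Lib.Helper15 Cfsg.Agent.Lib.Helper6.AutInduced
  Cfsg.Agent.Lib.Helper6.OmegaAut Cfsg.Agent.Lib.Helper6.SimAut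

variable {F : Type*} [Field F] [Fintype F]

section minus
variable (k : ℕ) (a b : F)
  (hab : ∀ z₁ z₂ : F, z₁ ^ 2 + a * z₁ * z₂ + b * z₂ ^ 2 = 0 → z₁ = 0 ∧ z₂ = 0)

include hab in
theorem aniso_map (σ : F ≃+* F) :
    ∀ z₁ z₂ : F, z₁ ^ 2 + σ a * z₁ * z₂ + σ b * z₂ ^ 2 = 0 → z₁ = 0 ∧ z₂ = 0 := by
  intro z₁ z₂ h
  have h1 := congrArg σ.symm h
  simp only [map_add, map_mul, map_pow, RingEquiv.symm_apply_apply, map_zero] at h1
  obtain ⟨h2, h3⟩ := hab _ _ h1
  exact ⟨by simpa using h2, by simpa using h3⟩

include hab in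
/-- the twisted binary form is isometric to the original one -/
theorem exists_binIso (σ : F ≃+* F) :
    ∃ L : (Fin 2 → F) →ₗ[F] (Fin 2 → F), ∀ x, binForm a b (L x) = binForm (σ a) (σ b) x := by
  classical
  apply exists_isometry_binForm (σ a) (σ b) (aniso_map a b hab σ) (binForm a b)
    (nondegenerate_binForm a b hab)
  · rw [Module.finrank_fintype_fun_eq_card, Fintype.card_fin]
  · intro c
    rw [card_binForm_value a b hab c, card_binForm_value (σ a) (σ b) (aniso_map a b hab σ) c]

include hab in
/-- every field automorphism is the companion of a semisimilarity of the minus type form -/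
theorem exists_fieldMinus (σ : F ≃+* F) :
    ∃ Φ : SemiSimO (Qgen k (binForm a b)), Φ.σ = σ ∧ Φ.ν = 1 := by
  obtain ⟨L, hL⟩ := exists_binIso a b hab σ
  refine ⟨{ S := fun x => Sum.elim (fun i => σ (x (Sum.inl i))) (L (fun j => σ (x (Sum.inr j))))
            σ := σ
            ν := 1
            hν := one_ne_zero
            add := ?_
            smul := ?_
            form := ?_ }, rfl, rfl⟩
  · intro x y
    have h1 : (fun j => σ ((x + y) (Sum.inr j))) =
        (fun j => σ (x (Sum.inr j))) + (fun j : Fin 2 => σ (y (Sum.inr j))) := by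
      funext j
      simp
    funext i
    rcases i with i | i
    · simp
    · change L (fun j => σ ((x + y) (Sum.inr j))) i = _
      rw [h1, map_add]
      rfl
  · intro c x
    have h1 : (fun j => σ ((c • x) (Sum.inr j))) =
        σ c • (fun j : Fin 2 => σ (x (Sum.inr j))) := by
      funext j
      simp
    funext i
    rcases i with i | i
    · simp
    · change L (fun j => σ ((c • x) (Sum.inr j))) i = _
      rw [h1, map_smul]
      rfl
  · intro x
    rw [one_mul, Qgen_apply, Qgen_apply]
    simp only [Sum.elim_inl, Sum.elim_inr]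
    rw [hL, map_add, map_sum, binForm_apply, binForm_apply]
    simp only [map_mul, map_add, map_pow]

end minus

section std
variable {m : ℕ} (a b : F)
  (hab : ∀ z₁ z₂ : F, z₁ ^ 2 + a * z₁ * z₂ + b * z₂ ^ 2 = 0 → z₁ = 0 ∧ z₂ = 0)

theorem card_JJ : Fintype.card ((Fin m ⊕ Fin m) ⊕ Fin 2) = 2 * m + 2 := by
  rw [Fintype.card_sum, Fintype.card_sum, Fintype.card_fin, Fintype.card_fin]; omega

include hab in
theorem std_minus (hm : 3 ≤ m) : Std (Qgen m (binForm a b)) :=
  { nondeg := nondegenerate_Qgen m (binForm a b) (nondegenerate_binForm a b hab)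
    seven := by rw [card_JJ]; omega
    triple := ⟨minusTriple' F m (binForm a b) hm⟩ }

include hab in
theorem binForm_aniso : ∀ z : Fin 2 → F, binForm a b z = 0 → z = 0 := by
  intro z hz
  rw [binForm_apply] at hz
  obtain ⟨h0, h1⟩ := hab _ _ hz
  funext i
  fin_cases i
  · exact h0
  · exact h1

include hab in
theorem HP_minus (hm : 3 ≤ m) :
    haveI := std_minus (F := F) a b hab hm
    HP (Qgen m (binForm a b)) := by
  haveI := std_minus (F := F) a b hab hm
  have hnd := nondegenerate_Qgen m (binForm a b) (nondegenerate_binForm a b hab)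
  by_cases h3 : m = 3
  · subst h3
    intro a' b' c d hac had hbc hbd ha hb hc hd hab' hcd hli
    exfalso
    refine no_ts_Qgen 3 (binForm a b) (binForm_aniso a b hab) hnd _
      (ts_span4 hac had hbc hbd ha hb hc hd hab' hcd) ?_ ?_
    · rw [finrank_span_eq_card hli, Fintype.card_fin, Module.finrank_fintype_fun_eq_card, card_JJ]
    · rw [finrank_span_eq_card hli, Fintype.card_fin]
      omega
  · apply HP_of_nine
    rw [card_JJ]; omega

end std

end Cfsg.Agent.Lib.Helper6.AutOrt
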