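import Mathlib
import Cfsg.Agent.Lib.Helper1.SubfSLDefs
import Cfsg.Agent.Lib.Helper1.SubfSLEmb
import Cfsg.Agent.Lib.Helper15.Dk21

/-!
# S5639 farm-out (architect helper1): FO-D2 `app_torus`

A subgroup of `PSL₂(F)`, `2 ≠ 0`, containing the image of a nontrivial upper unitriangular matrix
has no normal torus: a unipotent element cannot normalise a non-central torus.
-/

set_option autoImplicit false
set_option linter.unusedVariables false

namespace Cfsg.Agent.Lib.Helper6.S5639FOD2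

open Matrix Cfsg.Agent.Lib.Helper13 Cfsg.Agent.Lib.Helper1.SubfSL
open Cfsg.Agent.Lib.Helper15.Dk Cfsg.Agent.Lib.Helper14 Cfsg.Agent.Lib.Helper15

variable {F : Type*} [Field F]

/-- Cayley–Hamilton for `SL₂` -/
theorem sl2_sq (g : SpecialLinearGroup (Fin 2) F) :
    (g : Matrix (Fin 2) (Fin 2) F) * (g : Matrix (Fin 2) (Fin 2) F) =
      (g : Matrix (Fin 2) (Fin 2) F).trace • (g : Matrix (Fin 2) (Fin 2) F) - 1 := by
  have hdet := det_eq g
  ext i j
  fin_cases i <;> fin_cases j <;>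
    simp [Matrix.mul_apply, Fin.sum_univ_two, Matrix.trace_fin_two] <;>
    first | ring1 | linear_combination (-1 : F) * hdet

/-- the inverse in `SL₂` -/
theorem sl2_inv (g : SpecialLinearGroup (Fin 2) F) :
    ((g⁻¹ : SpecialLinearGroup (Fin 2) F) : Matrix (Fin 2) (Fin 2) F) =
      (g : Matrix (Fin 2) (Fin 2) F).trace • (1 : Matrix (Fin 2) (Fin 2) F) -
        (g : Matrix (Fin 2) (Fin 2) F) := by
  ext i j
  fin_cases i <;> fin_cases j <;>
    simp [inv_apply_00, inv_apply_01, inv_apply_10, inv_apply_11, Matrix.trace_fin_two]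

/-- every power of `g ∈ SL₂` is a linear combination of `1` and `g` -/
theorem sl2_zpow (g : SpecialLinearGroup (Fin 2) F) (k : ℤ) :
    ∃ s s' : F, ((g ^ k : SpecialLinearGroup (Fin 2) F) : Matrix (Fin 2) (Fin 2) F) =
      s • (1 : Matrix (Fin 2) (Fin 2) F) + s' • (g : Matrix (Fin 2) (Fin 2) F) := by
  induction k using Int.induction_on with
  | zero => exact ⟨1, 0, by simp⟩
  | succ k ih =>
    obtain ⟨s, s', h⟩ := ih
    refine ⟨-s', s + s' * (g : Matrix (Fin 2) (Fin 2) F).trace, ?_⟩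
    have e : ((g ^ ((k : ℤ) + 1) : SpecialLinearGroup (Fin 2) F) : Matrix (Fin 2) (Fin 2) F) =
        ((g ^ (k : ℤ) : SpecialLinearGroup (Fin 2) F) : Matrix (Fin 2) (Fin 2) F) *
          (g : Matrix (Fin 2) (Fin 2) F) := by
      rw [_root_.zpow_add_one]
      rfl
    rw [e, h, add_mul, smul_mul_assoc, smul_mul_assoc, one_mul, sl2_sq]
    module
  | pred k ih =>
    obtain ⟨s, s', h⟩ := ih
    refine ⟨s * (g : Matrix (Fin 2) (Fin 2) F).trace + s', -s, ?_⟩
    have e : ((g ^ (-(k : ℤ) - 1) : SpecialLinearGroup (Fin 2) F) : Matrix (Fin 2) (Fin 2) F) =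
        ((g ^ (-(k : ℤ)) : SpecialLinearGroup (Fin 2) F) : Matrix (Fin 2) (Fin 2) F) *
          ((g⁻¹ : SpecialLinearGroup (Fin 2) F) : Matrix (Fin 2) (Fin 2) F) := by
      rw [_root_.zpow_sub_one]
      rfl
    rw [e, h, sl2_inv, add_mul, smul_mul_assoc, smul_mul_assoc, one_mul, mul_sub, sl2_sq]
    simp only [mul_smul_comm, mul_one]
    module

/-- FO-D2 -/
theorem app_torus (h2 : (2 : F) ≠ 0) (κ : F) (hκ : κ ≠ 0)
    (H : Subgroup (ProjectiveSpecialLinearGroup (Fin 2) F))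
    (hu : toPSL2 F (uu κ) ∈ H) (hW : toPSL2 F Wm ∈ H) : ¬ HasNormalTorus H := by
  rintro ⟨g, hns, htr, hgH, hnorm⟩
  obtain ⟨k, hk⟩ := Subgroup.mem_zpowers_iff.mp (hnorm _ hu)
  rw [← map_zpow, ← map_inv, ← map_mul, ← map_mul] at hk
  obtain ⟨s, s', hs⟩ := sl2_zpow g k
  -- the conjugate is a combination of `1` and `g`
  have hcomb : ∃ σ σ' : F, ((uu κ * g * (uu κ)⁻¹ : SpecialLinearGroup (Fin 2) F) :
      Matrix (Fin 2) (Fin 2) F) =
      σ • (1 : Matrix (Fin 2) (Fin 2) F) + σ' • (g : Matrix (Fin 2) (Fin 2) F) := by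
    rcases (toPSL2_eq_iff h2 _ _).mp hk with h | h
    · exact ⟨s, s', by rw [h, hs]⟩
    · refine ⟨-s, -s', ?_⟩
      rw [h, SpecialLinearGroup.coe_neg, hs]
      module
  obtain ⟨σ, σ', hc⟩ := hcomb
  have hmat : ((uu κ : SpecialLinearGroup (Fin 2) F) : Matrix (Fin 2) (Fin 2) F) *
      (g : Matrix (Fin 2) (Fin 2) F) =
      (σ • (1 : Matrix (Fin 2) (Fin 2) F) + σ' • (g : Matrix (Fin 2) (Fin 2) F)) *
        ((uu κ : SpecialLinearGroup (Fin 2) F) : Matrix (Fin 2) (Fin 2) F) := by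
    have hmul : uu κ * g = (uu κ * g * (uu κ)⁻¹) * uu κ := by group
    have h3 : ((uu κ * g : SpecialLinearGroup (Fin 2) F) : Matrix (Fin 2) (Fin 2) F) =
        (((uu κ * g * (uu κ)⁻¹) * uu κ : SpecialLinearGroup (Fin 2) F) :
          Matrix (Fin 2) (Fin 2) F) := congrArg Subtype.val hmul
    have h4 : ((uu κ : SpecialLinearGroup (Fin 2) F) : Matrix (Fin 2) (Fin 2) F) *
        (g : Matrix (Fin 2) (Fin 2) F) =
        ((uu κ * g * (uu κ)⁻¹ : SpecialLinearGroup (Fin 2) F) : Matrix (Fin 2) (Fin 2) F) *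
          ((uu κ : SpecialLinearGroup (Fin 2) F) : Matrix (Fin 2) (Fin 2) F) := h3
    rw [hc] at h4
    exact h4
  have hdet := det_eq g
  have e00 := congrFun (congrFun hmat 0) 0
  have e01 := congrFun (congrFun hmat 0) 1
  have e10 := congrFun (congrFun hmat 1) 0
  have e11 := congrFun (congrFun hmat 1) 1
  simp [Matrix.mul_apply, Fin.sum_univ_two, Matrix.one_apply] at e00 e01 e10 e11
  rw [Matrix.trace_fin_two] at htr
  -- `c = 0`
  have hc0 : (g : Matrix (Fin 2) (Fin 2) F) 1 0 = 0 := by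
    by_contra hne
    have hσ' : σ' = 1 := by
      have : (σ' - 1) * (g : Matrix (Fin 2) (Fin 2) F) 1 0 = 0 := by linear_combination -e10
      rcases mul_eq_zero.mp this with h | h
      · linear_combination h
      · exact absurd h hne
    subst hσ'
    have : (2 : F) * (κ * (g : Matrix (Fin 2) (Fin 2) F) 1 0) = 0 := by
      linear_combination e00 - e11
    rcases mul_eq_zero.mp this with h | h
    · exact h2 h
    · rcases mul_eq_zero.mp h with h | h
      · exact hκ h
      · exact hne h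
  rw [hc0] at e00 e11 hdet
  have had : (g : Matrix (Fin 2) (Fin 2) F) 0 0 - (g : Matrix (Fin 2) (Fin 2) F) 1 1 ≠ 0 := by
    intro h
    apply htr
    have h' : (g : Matrix (Fin 2) (Fin 2) F) 0 0 = (g : Matrix (Fin 2) (Fin 2) F) 1 1 := by
      linear_combination h
    rw [h'] at hdet ⊢
    linear_combination 4 * hdet
  have hσ' : σ' = 1 := by
    have : (σ' - 1) * ((g : Matrix (Fin 2) (Fin 2) F) 0 0 - (g : Matrix (Fin 2) (Fin 2) F) 1 1) = 0 := by
      linear_combination e11 - e00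
    rcases mul_eq_zero.mp this with h | h
    · linear_combination h
    · exact absurd h had
  subst hσ'
  have hσ : σ = 0 := by linear_combination -e00
  subst hσ
  apply had
  have : κ * ((g : Matrix (Fin 2) (Fin 2) F) 0 0 - (g : Matrix (Fin 2) (Fin 2) F) 1 1) = 0 := by
    linear_combination -e01
  rcases mul_eq_zero.mp this with h | h
  · exact absurd h hκ
  · exact h

end Cfsg.Agent.Lib.Helper6.S5639FOD2
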