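import Mathlib
import Cfsg.Agent.Lib.Helper1.SubfSLDefs
import Cfsg.Agent.Lib.Helper1.SubfSLEmb
import Cfsg.Agent.Lib.Helper15.Dk21
import Cfsg.Agent.Lib.Helper28.S5639FOALG
import Cfsg.Agent.Lib.Helper6.S5639FOD2

/-!
# S5639 farm-out (architect helper1): FO-D3 `app_A5`

A subgroup of `PSL₂(F)` containing the images of `uu κ` and `Wm` is not isomorphic to `A₅` when
`κ` lies in no proper subfield of small degree: the element `d = uu κ * Wm` has trace `κ + 2`,
and `d² , d³, d⁵` scalar forces `κ + 2` to be a root of `X(X² - 1)(X⁴ - 3X² + 1)`.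
-/

set_option autoImplicit false
set_option linter.unusedVariables false

namespace Cfsg.Agent.Lib.Helper6.S5639FOD3

open Matrix Cfsg.Agent.Lib.Helper13 Cfsg.Agent.Lib.Helper1.SubfSL
open Cfsg.Agent.Lib.Helper15.Dk Cfsg.Agent.Lib.Helper14 Cfsg.Agent.Lib.Helper15
open Cfsg.Agent.Lib.Helper6.S5639FOD2

variable {F : Type*} [Field F]

set_option maxRecDepth 100000 in
/-- the element orders of `A₅` -/
theorem a5_orders : ∀ x : alternatingGroup (Fin 5), x ^ 2 = 1 ∨ x ^ 3 = 1 ∨ x ^ 5 = 1 := by decide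

/-- the powers `g², g³, g⁵` of `g ∈ SL₂` in terms of the trace -/
theorem sl2_pow2 (g : SpecialLinearGroup (Fin 2) F) :
    ((g ^ 2 : SpecialLinearGroup (Fin 2) F) : Matrix (Fin 2) (Fin 2) F) =
      (g : Matrix (Fin 2) (Fin 2) F).trace • (g : Matrix (Fin 2) (Fin 2) F) - 1 := by
  have e : ((g ^ 2 : SpecialLinearGroup (Fin 2) F) : Matrix (Fin 2) (Fin 2) F) =
      (g : Matrix (Fin 2) (Fin 2) F) * (g : Matrix (Fin 2) (Fin 2) F) := by
    rw [pow_two]
    rfl
  rw [e, sl2_sq]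

theorem sl2_pow3 (g : SpecialLinearGroup (Fin 2) F) :
    ((g ^ 3 : SpecialLinearGroup (Fin 2) F) : Matrix (Fin 2) (Fin 2) F) =
      ((g : Matrix (Fin 2) (Fin 2) F).trace ^ 2 - 1) • (g : Matrix (Fin 2) (Fin 2) F) -
        (g : Matrix (Fin 2) (Fin 2) F).trace • (1 : Matrix (Fin 2) (Fin 2) F) := by
  have e : ((g ^ 3 : SpecialLinearGroup (Fin 2) F) : Matrix (Fin 2) (Fin 2) F) =
      ((g ^ 2 : SpecialLinearGroup (Fin 2) F) : Matrix (Fin 2) (Fin 2) F) *
        (g : Matrix (Fin 2) (Fin 2) F) := by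
    rw [pow_succ g 2]
    rfl
  rw [e, sl2_pow2, sub_mul, smul_mul_assoc, one_mul, sl2_sq]
  module

theorem sl2_pow5 (g : SpecialLinearGroup (Fin 2) F) :
    ((g ^ 5 : SpecialLinearGroup (Fin 2) F) : Matrix (Fin 2) (Fin 2) F) =
      ((g : Matrix (Fin 2) (Fin 2) F).trace ^ 4 - 3 * (g : Matrix (Fin 2) (Fin 2) F).trace ^ 2 + 1) •
        (g : Matrix (Fin 2) (Fin 2) F) -
        ((g : Matrix (Fin 2) (Fin 2) F).trace ^ 3 - 2 * (g : Matrix (Fin 2) (Fin 2) F).trace) •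
          (1 : Matrix (Fin 2) (Fin 2) F) := by
  have e : ((g ^ 5 : SpecialLinearGroup (Fin 2) F) : Matrix (Fin 2) (Fin 2) F) =
      ((g ^ 3 : SpecialLinearGroup (Fin 2) F) : Matrix (Fin 2) (Fin 2) F) *
        ((g ^ 2 : SpecialLinearGroup (Fin 2) F) : Matrix (Fin 2) (Fin 2) F) := by
    rw [show (5 : ℕ) = 3 + 2 from rfl, pow_add]
    rfl
  rw [e, sl2_pow2, sl2_pow3]
  have hsq := sl2_sq g
  simp only [sub_mul, mul_sub, smul_mul_assoc, mul_smul_comm, one_mul, mul_one, hsq]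
  module

/-- FO-D3 -/
theorem app_A5 [Finite F] (h2 : (2 : F) ≠ 0) (K : Subfield F) (r : ℕ) (hr : r.Prime) (hr11 : 11 ≤ r)
    (hcard : Nat.card F = Nat.card K ^ r) (κ : F) (hκ : κ ∉ K)
    (H : Subgroup (ProjectiveSpecialLinearGroup (Fin 2) F))
    (hu : toPSL2 F (uu κ) ∈ H) (hW : toPSL2 F Wm ∈ H) :
    ¬ Nonempty (H ≃* alternatingGroup (Fin 5)) := by
  rintro ⟨e⟩
  obtain ⟨d, hd⟩ : ∃ d : SpecialLinearGroup (Fin 2) F, d = uu κ * Wm := ⟨_, rfl⟩
  have hdH : toPSL2 F d ∈ H := by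
    rw [hd, map_mul]
    exact H.mul_mem hu hW
  -- the entries of `d`
  have hD : (d : Matrix (Fin 2) (Fin 2) F) =
      ((uu κ : SpecialLinearGroup (Fin 2) F) : Matrix (Fin 2) (Fin 2) F) *
        ((Wm : SpecialLinearGroup (Fin 2) F) : Matrix (Fin 2) (Fin 2) F) := by
    rw [hd]
    rfl
  have hd10 : (d : Matrix (Fin 2) (Fin 2) F) 1 0 = 1 := by
    rw [hD]
    simp [Wm, Matrix.mul_apply, Fin.sum_univ_two]
  have hdtr : (d : Matrix (Fin 2) (Fin 2) F).trace = κ + 2 := by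
    rw [hD, Matrix.trace_fin_two]
    simp [Wm, Matrix.mul_apply, Fin.sum_univ_two]
  -- a power of `d` is scalar
  have hpow : ∀ m : ℕ, (e ⟨toPSL2 F d, hdH⟩) ^ m = 1 →
      ((d ^ m : SpecialLinearGroup (Fin 2) F) : Matrix (Fin 2) (Fin 2) F) 1 0 = 0 := by
    intro m hm
    rw [← map_pow, MulEquiv.map_eq_one_iff] at hm
    have h1 : (toPSL2 F d) ^ m = 1 := by
      have := congrArg Subtype.val hm
      simpa using this
    rw [← map_pow, toPSL2_eq_one_iff'] at h1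
    exact h1.2.1
  -- the trace equation
  have hτ : (κ + 2) * ((κ + 2) ^ 2 - 1) * ((κ + 2) ^ 4 - 3 * (κ + 2) ^ 2 + 1) = 0 := by
    rcases a5_orders (e ⟨toPSL2 F d, hdH⟩) with h | h | h
    · have := hpow 2 h
      rw [sl2_pow2, hdtr] at this
      simp [hd10] at this
      rw [this]
      ring
    · have := hpow 3 h
      rw [sl2_pow3, hdtr] at this
      simp [hd10] at this
      have h' : (κ + 2) ^ 2 - 1 = 0 := by linear_combination this
      rw [h']
      ring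
    · have := hpow 5 h
      rw [sl2_pow5, hdtr] at this
      simp [hd10] at this
      have h' : (κ + 2) ^ 4 - 3 * (κ + 2) ^ 2 + 1 = 0 := by linear_combination this
      rw [h']
      ring
  -- the polynomial
  obtain ⟨f, hf⟩ : ∃ f : Polynomial K, f = (Polynomial.X + 2) * ((Polynomial.X + 2) ^ 2 - 1) *
      ((Polynomial.X + 2) ^ 4 - 3 * (Polynomial.X + 2) ^ 2 + 1) := ⟨_, rfl⟩
  have hdeg : f.natDegree = 7 := by
    rw [hf]
    compute_degree!
  have hf0 : f ≠ 0 := by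
    intro h
    rw [h, Polynomial.natDegree_zero] at hdeg
    omega
  have hroot : Polynomial.aeval κ f = 0 := by
    rw [hf]
    simp only [map_mul, map_add, map_sub, map_pow, map_one, Polynomial.aeval_X, map_ofNat]
    exact hτ
  exact hκ (Cfsg.Agent.Lib.Helper28.S5639.mem_of_root K r hr hcard κ f hf0 (by omega) hroot)

end Cfsg.Agent.Lib.Helper6.S5639FOD3
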