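import Mathlib
import Cfsg.Agent.Lib.Helper1.SubfSLDefs

/-!
# S5639 farm-out (architect helper1): FO-S `H1_lt`

The subfield group is a proper subgroup of `SL_n(F)`: the transvection `1 + a e₀e₁ᵀ` with `a ∉ K`
is not of the form `l • rmat K B`.
-/

set_option autoImplicit false

namespace Cfsg.Agent.Lib.Helper6.S5639FOS

open Matrix Cfsg.Agent.Lib.Helper13 Cfsg.Agent.Lib.Helper1.SubfSL

variable {F : Type*} [Field F] {n : ℕ}

/-- FO-S -/
theorem H1_lt (hn : 2 ≤ n) (K : Subfield F) (a : F) (ha : a ∉ K) :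
    H1 K n < Cfsg.Geo.specialLinear (Fin n) F := by
  refine lt_of_le_of_ne inf_le_right ?_
  intro heq
  obtain ⟨i0, i1, h01⟩ : ∃ i0 i1 : Fin n, i0 ≠ i1 :=
    ⟨⟨0, by omega⟩, ⟨1, by omega⟩, by
      intro h
      have := congrArg Fin.val h
      simp at this⟩
  -- the transvection `1 + a e₀ e₁ᵀ`
  have hdot : (Pi.single i1 a : Fin n → F) ⬝ᵥ (Pi.single i0 1 : Fin n → F) = 0 := by
    rw [single_dotProduct, Pi.single_apply, if_neg (Ne.symm h01), mul_zero]
  obtain ⟨g, hg, hgS⟩ := exists_tvGL (Pi.single i0 1 : Fin n → F) (Pi.single i1 a) hdot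
  have hgH : g ∈ H1 K n := by rw [heq]; exact hgS
  obtain ⟨l, B, hB⟩ := exists_eq_of_mem_subfield_one K g hgH.1
  rw [hg] at hB
  have e00 := congrFun (congrFun hB i0) i0
  have e01 := congrFun (congrFun hB i0) i1
  simp only [tv, Matrix.add_apply, Matrix.one_apply, vecMulVec_apply, Pi.single_apply,
    Matrix.smul_apply, rmat, Matrix.map_apply, smul_eq_mul, if_true, if_neg h01,
    mul_zero, add_zero, zero_add, one_mul] at e00 e01
  -- `1 = l * B i0 i0`, `a = l * B i0 i1`
  have hB00 : (B i0 i0 : F) ≠ 0 := by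
    intro h
    have : K.subtype (B i0 i0) = 0 := h
    rw [this, mul_zero] at e00
    exact one_ne_zero e00
  have hl : l = (B i0 i0 : F)⁻¹ := by
    have h1 : l * (B i0 i0 : F) = 1 := e00.symm
    exact eq_inv_of_mul_eq_one_left h1
  apply ha
  have : a = (B i0 i0 : F)⁻¹ * (B i0 i1 : F) := by
    rw [← hl]
    exact e01
  rw [this]
  exact K.mul_mem (K.inv_mem (B i0 i0).2) (B i0 i1).2

end Cfsg.Agent.Lib.Helper6.S5639FOS
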