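import Mathlib
import Cfsg.Agent.Lib.Helper6.Siegel

/-!
# S5683 farm-out (architect helper1): FO-COMM `sieg_comm`

The commutator `[ρ_{u,ac}, ρ_{f,bc'}] = ρ_{u,abc'}` of Siegel transformations.
-/

set_option autoImplicit false
set_option linter.unusedVariables false

namespace Cfsg.Agent.Lib.Helper6.S5683FOCOMM

open Matrix QuadraticMap Cfsg.Agent.Lib.Helper6

variable {F : Type*} [Field F] {n : ℕ}

/-- **FO-COMM** -/
theorem sieg_comm (Q : QuadraticForm F (Fin n → F)) (u c c' f : Fin n → F) (a b : F)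
    (hu : Q u = 0) (hc : Q c = 0) (hc' : Q c' = 0) (hf : Q f = 0)
    (huc : polar (⇑Q) u c = 0) (huc' : polar (⇑Q) u c' = 0) (hcc' : polar (⇑Q) c c' = 0)
    (hcf : polar (⇑Q) c f = 1) (huf : polar (⇑Q) u f = 0) (hc'f : polar (⇑Q) c' f = 0) :
    sieg Q u (a • c) * sieg Q f (b • c') * sieg Q u (-(a • c)) * sieg Q f (-(b • c')) =
      sieg Q u ((a * b) • c') := by
  have hcu : polar (⇑Q) c u = 0 := by rw [polar_comm]; exact huc
  have hc'u : polar (⇑Q) c' u = 0 := by rw [polar_comm]; exact huc'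
  have hc'c : polar (⇑Q) c' c = 0 := by rw [polar_comm]; exact hcc'
  have hfc : polar (⇑Q) f c = 1 := by rw [polar_comm]; exact hcf
  have hfu : polar (⇑Q) f u = 0 := by rw [polar_comm]; exact huf
  have hfc' : polar (⇑Q) f c' = 0 := by rw [polar_comm]; exact hc'f
  have huu : polar (⇑Q) u u = 0 := by rw [polar_self, hu, smul_zero]
  have hcc : polar (⇑Q) c c = 0 := by rw [polar_self, hc, smul_zero]
  have hc'c' : polar (⇑Q) c' c' = 0 := by rw [polar_self, hc', smul_zero]
  have hff : polar (⇑Q) f f = 0 := by rw [polar_self, hf, smul_zero]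
  have hQac : Q (a • c) = 0 := by rw [QuadraticMap.map_smul, hc, smul_zero]
  have hQbc' : Q (b • c') = 0 := by rw [QuadraticMap.map_smul, hc', smul_zero]
  have hQabc' : Q ((a * b) • c') = 0 := by rw [QuadraticMap.map_smul, hc', smul_zero]
  have hQnac : Q (-(a • c)) = 0 := by rw [QuadraticMap.map_neg, hQac]
  have hQnbc' : Q (-(b • c')) = 0 := by rw [QuadraticMap.map_neg, hQbc']
  apply matrix_ext_mulVec
  intro x
  rw [← mulVec_mulVec, ← mulVec_mulVec, ← mulVec_mulVec]
  rw [sieg_mulVec Q f (-(b • c')) x, hQnbc']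
  rw [sieg_mulVec Q u (-(a • c)), hQnac]
  rw [sieg_mulVec Q f (b • c'), hQbc']
  rw [sieg_mulVec Q u (a • c), hQac]
  rw [sieg_mulVec Q u ((a * b) • c'), hQabc']
  simp only [polar_add_right, polar_smul_right, polar_neg_right, polar_smul_left,
    polar_neg_left, smul_eq_mul, huc, huc', hcc', hcf, huf, hc'f, hcu, hc'u, hc'c, hfc, hfu, hfc',
    huu, hcc, hc'c', hff, zero_mul, mul_zero, sub_zero, add_zero, neg_zero, mul_one,
    mul_neg]
  ext i
  simp only [Pi.add_apply, Pi.smul_apply, Pi.neg_apply, smul_eq_mul]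
  ring

end Cfsg.Agent.Lib.Helper6.S5683FOCOMM
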