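import Mathlib
import Cfsg.Agent.Lib.Helper1.OrthSubfDefs

/-!
# S5683 FO-FIX: `sieg_of_fix` (helper6, for helper1's skeleton)

`w` singular, `ρ_{w,y} ∈ M`; `c, d, d'` rational, all `⟂ w`, `c` singular, `d, d' ⟂ c`, `B(d,d') = 1`.
Then `ρ_{w, B(c,y) c} ∈ M`.
-/

set_option autoImplicit false

namespace Cfsg.Agent.Lib.Helper6.S5683FOFIX

open Matrix QuadraticMap Cfsg.Agent.Lib.Helper6 Cfsg.Agent.Lib.Helper13 Cfsg.Agent.Lib.Helper1.SubfSL
open Cfsg.Agent.Lib.Helper1.OrthSubf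

universe u
variable {F : Type u} [Field F] {n : ℕ}
variable {Q : QuadraticForm F (Fin n → F)} {K : Subfield F}

/-- the direction `τ(e) = (B(e,y) - Q(e) B(c,y)) c - B(c,y) e` -/
noncomputable def tau (Q : QuadraticForm F (Fin n → F)) (c e y : Fin n → F) : Fin n → F :=
  (polar (⇑Q) e y - Q e * polar (⇑Q) c y) • c + (-(polar (⇑Q) c y)) • e

theorem polar_w_tau (w y c e : Fin n → F)
    (hcw : polar (⇑Q) c w = 0) (hew : polar (⇑Q) e w = 0) :
    polar (⇑Q) w (tau Q c e y) = 0 := by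
  unfold tau
  rw [polar_add_right, polar_smul_right, polar_smul_right, polar_comm (⇑Q) w c, polar_comm (⇑Q) w e,
    hcw, hew]
  simp

/-- conjugating `ρ_{w,y}` by the rational `ρ_{c,e}` (which fixes `w`) and dividing by `ρ_{w,y}` -/
theorem sieg_tau_mem [Fintype F] (hQ : (polarBilin Q).Nondegenerate) (hn : 5 ≤ n) (hrat : RatQ K Q)
    (M : Subgroup (GL (Fin n) F)) (hH : H1Q K Q ≤ M) (w y : Fin n → F) (hw : Q w = 0)
    (hwy : polar (⇑Q) w y = 0) (hy : InM M (sieg Q w y)) (c e : Fin n → K)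
    (hc : Q (rvec K c) = 0) (hcw : polar (⇑Q) (rvec K c) w = 0) (hew : polar (⇑Q) (rvec K e) w = 0)
    (hce : polar (⇑Q) (rvec K c) (rvec K e) = 0) :
    InM M (sieg Q w (tau Q (rvec K c) (rvec K e) y)) := by
  have hmem : ((siegIso Q (rvec K c) (rvec K e) hc hce : ↥(Cfsg.isometryGroup F ⇑Q)) :
      GL (Fin n) F) ∈ M := by
    apply InM.mem
    have h1 : InM M (sieg Q (rvec K c) (rvec K e)) :=
      (rat_sieg_mem hQ hn hrat c e hc hce).mono hH
    exact h1
  have hconj := InM.sieg_conj (siegIso Q (rvec K c) (rvec K e) hc hce) hmem hw hwy hy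
  have hgw : gact Q (siegIso Q (rvec K c) (rvec K e) hc hce) w = w := by
    rw [gact_siegIso, hew, hcw]
    simp
  rw [hgw, gact_siegIso] at hconj
  have hneg := InM.sieg_neg hw hwy hy
  have hwt := polar_w_tau (Q := Q) w y (rvec K c) (rvec K e) hcw hew
  have hwy' : polar (⇑Q) w (-y) = 0 := by rw [polar_neg_right, hwy, neg_zero]
  have hsum : y + (polar (⇑Q) (rvec K e) y - Q (rvec K e) * polar (⇑Q) (rvec K c) y) • rvec K c +
      (-(polar (⇑Q) (rvec K c) y)) • rvec K e = y + tau Q (rvec K c) (rvec K e) y := by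
    unfold tau
    rw [add_assoc]
  rw [hsum] at hconj
  have hwyt : polar (⇑Q) w (y + tau Q (rvec K c) (rvec K e) y) = 0 := by
    rw [polar_add_right, hwy, hwt, add_zero]
  have h2 := InM.sieg_add hw hwy' hwyt hneg hconj
  rwa [neg_add_cancel_left] at h2

theorem sieg_of_fix [Fintype F] (hQ : (polarBilin Q).Nondegenerate) (hn : 5 ≤ n) (hrat : RatQ K Q)
    (M : Subgroup (GL (Fin n) F)) (hH : H1Q K Q ≤ M) (w y : Fin n → F) (hw : Q w = 0)
    (hwy : polar (⇑Q) w y = 0) (hy : InM M (sieg Q w y)) (c d d' : Fin n → K)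
    (hc : Q (rvec K c) = 0) (hcw : polar (⇑Q) (rvec K c) w = 0) (hdw : polar (⇑Q) (rvec K d) w = 0)
    (hd'w : polar (⇑Q) (rvec K d') w = 0) (hcd : polar (⇑Q) (rvec K c) (rvec K d) = 0)
    (hcd' : polar (⇑Q) (rvec K c) (rvec K d') = 0) (hdd' : polar (⇑Q) (rvec K d) (rvec K d') = 1) :
    InM M (sieg Q w (polar (⇑Q) (rvec K c) y • rvec K c)) := by
  have h1 := sieg_tau_mem hQ hn hrat M hH w y hw hwy hy c d hc hcw hdw hcd
  have h2 := sieg_tau_mem hQ hn hrat M hH w y hw hwy hy c d' hc hcw hd'w hcd'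
  have hsw : polar (⇑Q) (rvec K (d + d')) w = 0 := by
    rw [rvec_add, polar_add_left, hdw, hd'w, add_zero]
  have hcs : polar (⇑Q) (rvec K c) (rvec K (d + d')) = 0 := by
    rw [rvec_add, polar_add_right, hcd, hcd', add_zero]
  have h3 := sieg_tau_mem hQ hn hrat M hH w y hw hwy hy c (d + d') hc hcw hsw hcs
  have p1 := polar_w_tau (Q := Q) w y (rvec K c) (rvec K d) hcw hdw
  have p2 := polar_w_tau (Q := Q) w y (rvec K c) (rvec K d') hcw hd'w
  have p3 := polar_w_tau (Q := Q) w y (rvec K c) (rvec K (d + d')) hcw hsw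
  have h12 := InM.sieg_add hw p1 p2 h1 h2
  have p12 : polar (⇑Q) w (tau Q (rvec K c) (rvec K d) y + tau Q (rvec K c) (rvec K d') y) = 0 := by
    rw [polar_add_right, p1, p2, add_zero]
  have h3n := InM.sieg_neg hw p3 h3
  have p3n : polar (⇑Q) w (-(tau Q (rvec K c) (rvec K (d + d')) y)) = 0 := by
    rw [polar_neg_right, p3, neg_zero]
  have h123 := InM.sieg_add hw p12 p3n h12 h3n
  have key : tau Q (rvec K c) (rvec K d) y + tau Q (rvec K c) (rvec K d') y +
      -(tau Q (rvec K c) (rvec K (d + d')) y) = polar (⇑Q) (rvec K c) y • rvec K c := by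
    unfold tau
    rw [rvec_add, Q_add, polar_add_left, hdd']
    ext i
    simp only [Pi.add_apply, Pi.smul_apply, Pi.neg_apply, smul_eq_mul]
    ring
  rwa [key] at h123

end Cfsg.Agent.Lib.Helper6.S5683FOFIX
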