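import Mathlib
import Cfsg.Agent.Lib.Helper1.OrthSubfDefs
import Cfsg.Agent.Lib.Helper12.S5683FOG5

/-!
# S5683 FO-S: `H1Q_lt` (helper6, for helper1's skeleton)

`H1Q K Q < Ω(Q)`: the long root element `ρ_{u, a c}` (`(u,c)` a rational t.s. pair, `a ∉ K`) lies in `Ω` but is not
a scalar multiple of a rational matrix.
-/

set_option autoImplicit false

namespace Cfsg.Agent.Lib.Helper6.S5683FOS

open Matrix QuadraticMap Cfsg.Agent.Lib.Helper6 Cfsg.Agent.Lib.Helper13 Cfsg.Agent.Lib.Helper1.SubfSL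
open Cfsg.Agent.Lib.Helper1.OrthSubf

universe u
variable {F : Type u} [Field F] {n : ℕ}
variable {Q : QuadraticForm F (Fin n → F)} {K : Subfield F}
  {B₀ : (Fin n → K) →ₗ[K] (Fin n → K) →ₗ[K] K}

/-- the core: a rational triple `u, c, e` (`u ≠ 0`, `u, c` singular, `u ⟂ c`, `B(c,e) = 1`, `u ⟂ e`) and `a ∉ K` give an
element `ρ_{u, a c}` of `Ω` outside the subfield group -/
theorem not_mem_subfield_of_triple (u c e : Fin n → K) (hu0 : u ≠ 0) (a : F) (ha : a ∉ K)
    (hQu : Q (rvec K u) = 0) (hQc : Q (rvec K c) = 0)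
    (puc : polar (⇑Q) (rvec K u) (rvec K c) = 0) (pce : polar (⇑Q) (rvec K c) (rvec K e) = 1)
    (pue : polar (⇑Q) (rvec K u) (rvec K e) = 0) (g : GL (Fin n) F)
    (hg : (g : Matrix (Fin n) (Fin n) F) = sieg Q (rvec K u) (a • rvec K c)) :
    g ∉ Cfsg.Geo.subfieldSubgroup K (1 : GL (Fin n) F) := by
  intro hmem
  obtain ⟨l, Bm, hl⟩ := exists_eq_of_mem_subfield_one K g hmem
  rw [hg] at hl
  obtain ⟨i, hi⟩ : ∃ i, u i ≠ 0 := by
    by_contra hcon
    push Not at hcon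
    exact hu0 (funext hcon)
  have hiF : ((u i : K) : F) ≠ 0 := fun h => hi (Subtype.ext h)
  have pcu : polar (⇑Q) (rvec K c) (rvec K u) = 0 := by rw [polar_comm]; exact puc
  have puu : polar (⇑Q) (rvec K u) (rvec K u) = 0 := by
    rw [polar_self, hQu, smul_zero]
  -- apply to `u`
  have e1 : sieg Q (rvec K u) (a • rvec K c) *ᵥ rvec K u = rvec K u := by
    rw [sieg_mulVec, polar_smul_left, pcu, puu]
    simp
  have e1' : (l • rmat K Bm) *ᵥ rvec K u = l • rvec K (Bm *ᵥ u) := by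
    rw [smul_mulVec, rmat_mulVec]
  rw [hl, e1'] at e1
  have c1 : l * (((Bm *ᵥ u) i : K) : F) = ((u i : K) : F) := by
    have := congrFun e1 i
    simpa [rvec] using this
  have hb0 : (((Bm *ᵥ u) i : K) : F) ≠ 0 := by
    intro h0
    rw [h0, mul_zero] at c1
    exact hiF c1.symm
  have hlK : l ∈ K := by
    have : l = ((u i : K) : F) / (((Bm *ᵥ u) i : K) : F) := by
      rw [eq_div_iff hb0]; exact c1
    rw [this]
    exact K.div_mem (u i).2 ((Bm *ᵥ u) i).2
  -- apply to `e`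
  have e2 : sieg Q (rvec K u) (a • rvec K c) *ᵥ rvec K e = rvec K e + a • rvec K u := by
    rw [sieg_mulVec, polar_smul_left, pce, pue, Q_smul, hQc]
    simp
  have e2' : (l • rmat K Bm) *ᵥ rvec K e = l • rvec K (Bm *ᵥ e) := by
    rw [smul_mulVec, rmat_mulVec]
  rw [hl, e2'] at e2
  have c2 : l * (((Bm *ᵥ e) i : K) : F) = ((e i : K) : F) + a * ((u i : K) : F) := by
    have := congrFun e2 i
    simpa [rvec] using this
  apply ha
  have : a = (l * (((Bm *ᵥ e) i : K) : F) - ((e i : K) : F)) / ((u i : K) : F) := by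
    rw [eq_div_iff hiF, c2]; ring
  rw [this]
  exact K.div_mem (K.sub_mem (K.mul_mem hlK ((Bm *ᵥ e) i).2) (e i).2) (u i).2

theorem H1Q_lt [Fintype F] (hB : RatForm K Q B₀) (hQ : (polarBilin Q).Nondegenerate) (hn : 5 ≤ n)
    (a : F) (ha : a ∉ K) : H1Q K Q < Cfsg.Geo.omegaGL ⇑Q := by
  have hfinK : Finite K := Finite.of_injective (fun x : K => (x : F)) Subtype.val_injective
  obtain ⟨u, v, huu, hvv, huv⟩ :=
    Cfsg.Agent.Lib.Helper12.S5683G.exists_hyp_pair hB.isS (by omega : 3 ≤ n)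
  have hu0 : u ≠ 0 := by
    rintro rfl
    simp at huv
  obtain ⟨c, e, hcc, huc, hce, hue⟩ :=
    Cfsg.Agent.Lib.Helper12.S5683G.exists_ts_partner hB.isS hn u hu0 huu
  have hQu : Q (rvec K u) = 0 := (hB.sing u).mp huu
  have hQc : Q (rvec K c) = 0 := (hB.sing c).mp hcc
  have puc : polar (⇑Q) (rvec K u) (rvec K c) = 0 := by rw [← hB.eq, huc]; rfl
  have pce : polar (⇑Q) (rvec K c) (rvec K e) = 1 := by rw [← hB.eq, hce]; rfl
  have pue : polar (⇑Q) (rvec K u) (rvec K e) = 0 := by rw [← hB.eq, hue]; rfl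
  have puac : polar (⇑Q) (rvec K u) (a • rvec K c) = 0 := by
    rw [polar_smul_right, puc, smul_zero]
  rw [SetLike.lt_iff_le_and_exists]
  refine ⟨inf_le_right,
    ((siegIso Q (rvec K u) (a • rvec K c) hQu puac : ↥(Cfsg.isometryGroup F ⇑Q)) : GL (Fin n) F),
    ?_, ?_⟩
  · exact (mem_omegaGL_iff Q _).mpr ⟨siegIso Q (rvec K u) (a • rvec K c) hQu puac,
      siegIso_mem_Omega Q hQ (by rw [Fintype.card_fin]; exact hn) _ _ hQu puac, rfl⟩
  · intro hmem
    exact not_mem_subfield_of_triple u c e hu0 a ha hQu hQc puc pce pue _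
      (siegIso_val Q _ _ hQu puac) hmem.1

end Cfsg.Agent.Lib.Helper6.S5683FOS
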