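import Mathlib
import Cfsg.Agent.Lib.Helper1.OrthSubfDefs
import Cfsg.Agent.Lib.Helper1.OrthSubf2Defs

/-!
# S5702 FO-IMPR: `impure_of_ratio` (helper6, for helper1's skeleton)

`a • rvec u₁ - b • rvec c₁` is impure if `b ≠ 0`, `a / b ∉ K` and `u₁, c₁` are `K`-independent.
-/

set_option autoImplicit false

namespace Cfsg.Agent.Lib.Helper6.S5702FOIMPR

open Matrix QuadraticMap Cfsg.Agent.Lib.Helper6 Cfsg.Agent.Lib.Helper13 Cfsg.Agent.Lib.Helper1.SubfSL
open Cfsg.Agent.Lib.Helper1.OrthSubf Cfsg.Agent.Lib.Helper1.OrthSubf2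

universe u
variable {F : Type u} [Field F] {n : ℕ}
variable {Q : QuadraticForm F (Fin n → F)} {K : Subfield F} {Q₀ : QuadraticForm K (Fin n → K)}

/-- a rational dual vector: `c ∉ K u` ⇒ some rational `e` has `B₀ c e = 1`, `B₀ u e = 0` -/
theorem exists_dual_rat (hB : RatForm2 K Q Q₀) (u c : Fin n → K)
    (hc : c ∉ Submodule.span K ({u} : Set (Fin n → K))) :
    ∃ e : Fin n → K, polarBilin Q₀ c e = 1 ∧ polarBilin Q₀ u e = 0 := by
  obtain ⟨f, hfc, hf⟩ := Submodule.exists_dual_map_eq_bot_of_notMem hc inferInstance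
  obtain ⟨e₀, he₀⟩ := hB.exists_riesz f
  have hfu : f u = 0 := by
    have : f u ∈ Submodule.map f (Submodule.span K ({u} : Set (Fin n → K))) :=
      Submodule.mem_map_of_mem (Submodule.subset_span (by simp))
    rw [hf] at this
    exact (Submodule.mem_bot K).mp this
  refine ⟨(f c)⁻¹ • e₀, ?_, ?_⟩
  · rw [map_smul, smul_eq_mul, he₀, inv_mul_cancel₀ hfc]
  · rw [map_smul, smul_eq_mul, he₀, hfu, mul_zero]

set_option linter.unusedVariables false in
theorem impure_of_ratio [Finite F] (hB : RatForm2 K Q Q₀) (u₁ c₁ : Fin n → K)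
    (hind : ∀ k₁ k₂ : K, k₁ • u₁ + k₂ • c₁ = 0 → k₁ = 0 ∧ k₂ = 0) (a b : F) (hb : b ≠ 0)
    (hab : ∀ k₁ : K, a ≠ (k₁ : F) * b) : Impure K (a • rvec K u₁ - b • rvec K c₁) := by
  intro l r hlr
  have hc : c₁ ∉ Submodule.span K ({u₁} : Set (Fin n → K)) := by
    intro hmem
    rw [Submodule.mem_span_singleton] at hmem
    obtain ⟨t, ht⟩ := hmem
    have := (hind t (-1) (by rw [ht, neg_one_smul, add_neg_cancel])).2
    exact one_ne_zero (neg_eq_zero.mp this)
  have hu : u₁ ∉ Submodule.span K ({c₁} : Set (Fin n → K)) := by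
    intro hmem
    rw [Submodule.mem_span_singleton] at hmem
    obtain ⟨t, ht⟩ := hmem
    have := (hind (-1) t (by rw [ht, neg_one_smul, neg_add_cancel])).1
    exact one_ne_zero (neg_eq_zero.mp this)
  obtain ⟨e, hce, hue⟩ := exists_dual_rat hB u₁ c₁ hc
  obtain ⟨e', hue', hce'⟩ := exists_dual_rat hB c₁ u₁ hu
  -- pair with `e`
  have p1 := congrArg (fun w => polar (⇑Q) w (rvec K e)) hlr
  simp only [polar_sub_left, polar_smul_left, smul_eq_mul, hB.pol_zero hue, hB.pol_one hce,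
    mul_zero, mul_one, zero_sub] at p1
  rw [hB.pol_eq] at p1
  -- pair with `e'`
  have p2 := congrArg (fun w => polar (⇑Q) w (rvec K e')) hlr
  simp only [polar_sub_left, polar_smul_left, smul_eq_mul, hB.pol_zero hce', hB.pol_one hue',
    mul_zero, mul_one, sub_zero] at p2
  rw [hB.pol_eq] at p2
  -- `-b = l k`, `a = l k'`
  have hk0 : ((polarBilin Q₀ r e : K) : F) ≠ 0 := by
    intro h0
    rw [h0, mul_zero] at p1
    exact hb (neg_eq_zero.mp p1)
  have hk0' : (polarBilin Q₀ r e : K) ≠ 0 := fun h => hk0 (by rw [h]; rfl)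
  apply hab (-(polarBilin Q₀ r e' : K) / (polarBilin Q₀ r e : K))
  have : (((-(polarBilin Q₀ r e' : K) / (polarBilin Q₀ r e : K) : K)) : F) =
      -((polarBilin Q₀ r e' : K) : F) / ((polarBilin Q₀ r e : K) : F) := by
    push_cast
    rfl
  rw [this, p2]
  field_simp
  linear_combination (-((polarBilin Q₀ r e' : K) : F)) * p1

end Cfsg.Agent.Lib.Helper6.S5702FOIMPR
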