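import Mathlib
import Cfsg.Agent.Lib.Helper1.OrthSubfDefs
import Cfsg.Agent.Lib.Helper1.OrthSubf2Defs
import Cfsg.Agent.Lib.Helper10.S5702FOG

/-!
# S5702 FO-RATIO: `conf_of_ratio` (helper6, for helper1's skeleton)

`u₁` rational singular, `a = B(v,u₁) ≠ 0`, and `B(v,c₁) ∈ K a` for all rational singular `c₁ ⟂ u₁`.  Then
`v = a • rvec r + l • rvec u₁`, in particular `Conf K v`.
-/

set_option autoImplicit false

namespace Cfsg.Agent.Lib.Helper6.S5702FORATIO

open Matrix QuadraticMap Cfsg.Agent.Lib.Helper6 Cfsg.Agent.Lib.Helper13 Cfsg.Agent.Lib.Helper1.SubfSL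
open Cfsg.Agent.Lib.Helper1.OrthSubf Cfsg.Agent.Lib.Helper1.OrthSubf2

universe u
variable {F : Type u} [Field F] {n : ℕ}
variable {Q : QuadraticForm F (Fin n → F)} {K : Subfield F} {Q₀ : QuadraticForm K (Fin n → K)}

/-- the structural form: `v = a • rvec r + l • rvec u₁` -/
theorem exists_rep_of_ratio [Finite F] (hB : RatForm2 K Q Q₀) (hQ : (polarBilin Q).Nondegenerate)
    (hn : 6 ≤ n) (v : Fin n → F) (u₁ : Fin n → K) (hu₁ : Q₀ u₁ = 0)
    (hvu : polar (⇑Q) v (rvec K u₁) ≠ 0)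
    (hall : ∀ c₁ : Fin n → K, Q₀ c₁ = 0 → polarBilin Q₀ u₁ c₁ = 0 →
      ∃ k₁ : K, polar (⇑Q) v (rvec K c₁) = (k₁ : F) * polar (⇑Q) v (rvec K u₁)) :
    ∃ (r : Fin n → K) (l : F), v = polar (⇑Q) v (rvec K u₁) • rvec K r + l • rvec K u₁ := by
  have hfinK : Finite K := Finite.of_injective (fun x : K => (x : F)) Subtype.val_injective
  have hu0 : u₁ ≠ 0 := by
    rintro rfl
    apply hvu
    rw [rvec_zero, polar_zero_right]
  -- step 1: `B(v, x) ∈ K a` for all rational `x ⟂ u₁`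
  have key : ∀ x ∈ Submodule.span K {c : Fin n → K | Q₀ c = 0 ∧ polarBilin Q₀ c u₁ = 0},
      ∃ k₁ : K, polar (⇑Q) v (rvec K x) = (k₁ : F) * polar (⇑Q) v (rvec K u₁) := by
    intro x hmem
    induction hmem using Submodule.span_induction with
    | mem c hc => exact hall c hc.1 (by rw [hB.symm]; exact hc.2)
    | zero =>
      refine ⟨0, ?_⟩
      rw [rvec_zero, polar_zero_right]
      simp
    | add x y _ _ hx hy =>
      obtain ⟨k1, h1⟩ := hx
      obtain ⟨k2, h2⟩ := hy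
      refine ⟨k1 + k2, ?_⟩
      rw [rvec_add, polar_add_right, h1, h2]
      push_cast
      ring
    | smul t x _ hx =>
      obtain ⟨k1, h1⟩ := hx
      refine ⟨t * k1, ?_⟩
      rw [rvec_smul, polar_smul_right, h1, smul_eq_mul]
      push_cast
      ring
  have step1 : ∀ x : Fin n → K, polarBilin Q₀ x u₁ = 0 →
      ∃ k₁ : K, polar (⇑Q) v (rvec K x) = (k₁ : F) * polar (⇑Q) v (rvec K u₁) := fun x hx =>
    key x (Cfsg.Agent.Lib.Helper10.S5702FOG.span_singular_perp hB.nd hn u₁ hu0 hu₁ x hx)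
  -- `f` with `B₀ f u₁ = 1`
  obtain ⟨f₀, hf₀⟩ := hB.nd_left u₁ hu0
  obtain ⟨f, hfu⟩ : ∃ f : Fin n → K, polarBilin Q₀ f u₁ = 1 :=
    ⟨(polarBilin Q₀ f₀ u₁)⁻¹ • f₀, by
      rw [map_smul, LinearMap.smul_apply, smul_eq_mul, inv_mul_cancel₀ hf₀]⟩
  have hproj : ∀ x : Fin n → K, polarBilin Q₀ (x - polarBilin Q₀ x u₁ • f) u₁ = 0 := by
    intro x
    rw [map_sub, map_smul, LinearMap.sub_apply, LinearMap.smul_apply, hfu, smul_eq_mul, mul_one,
      sub_self]
  have hval : ∀ x : Fin n → K,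
      polar (⇑Q) v (rvec K (x - polarBilin Q₀ x u₁ • f)) / polar (⇑Q) v (rvec K u₁) ∈ K := by
    intro x
    obtain ⟨k₁, hk⟩ := step1 _ (hproj x)
    rw [hk, mul_div_assoc, div_self hvu, mul_one]
    exact k₁.2
  -- the functional
  let φ : (Fin n → K) →ₗ[K] K :=
    { toFun := fun x => ⟨polar (⇑Q) v (rvec K (x - polarBilin Q₀ x u₁ • f)) /
        polar (⇑Q) v (rvec K u₁), hval x⟩
      map_add' := fun x y => by
        apply Subtype.ext
        have e : x + y - polarBilin Q₀ (x + y) u₁ • f =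
            (x - polarBilin Q₀ x u₁ • f) + (y - polarBilin Q₀ y u₁ • f) := by
          rw [map_add, LinearMap.add_apply, add_smul]
          abel
        show polar (⇑Q) v (rvec K (x + y - polarBilin Q₀ (x + y) u₁ • f)) /
          polar (⇑Q) v (rvec K u₁) =
          polar (⇑Q) v (rvec K (x - polarBilin Q₀ x u₁ • f)) / polar (⇑Q) v (rvec K u₁) +
          polar (⇑Q) v (rvec K (y - polarBilin Q₀ y u₁ • f)) / polar (⇑Q) v (rvec K u₁)
        rw [e, rvec_add, polar_add_right, add_div]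
      map_smul' := fun t x => by
        apply Subtype.ext
        have e : t • x - polarBilin Q₀ (t • x) u₁ • f = t • (x - polarBilin Q₀ x u₁ • f) := by
          rw [map_smul, LinearMap.smul_apply, smul_sub, smul_smul, smul_eq_mul]
        show polar (⇑Q) v (rvec K (t • x - polarBilin Q₀ (t • x) u₁ • f)) /
          polar (⇑Q) v (rvec K u₁) =
          (t : F) * (polar (⇑Q) v (rvec K (x - polarBilin Q₀ x u₁ • f)) /
            polar (⇑Q) v (rvec K u₁))
        rw [e, rvec_smul, polar_smul_right, smul_eq_mul, mul_div_assoc] }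
  obtain ⟨r, hr⟩ := hB.exists_riesz φ
  -- `v - a • rvec r ⟂` all rational `z' ⟂ u₁`
  have hperp : ∀ z' : Fin n → K, polarBilin Q₀ z' u₁ = 0 →
      polar (⇑Q) (v - polar (⇑Q) v (rvec K u₁) • rvec K r) (rvec K z') = 0 := by
    intro z' hz'
    rw [polar_sub_left, polar_smul_left, smul_eq_mul]
    have e1 : z' - polarBilin Q₀ z' u₁ • f = z' := by rw [hz', zero_smul, sub_zero]
    have e2 : ((φ z' : K) : F) = polar (⇑Q) v (rvec K z') / polar (⇑Q) v (rvec K u₁) := by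
      show polar (⇑Q) v (rvec K (z' - polarBilin Q₀ z' u₁ • f)) / polar (⇑Q) v (rvec K u₁) = _
      rw [e1]
    rw [hB.pol_eq, hB.symm, hr, e2, mul_div_cancel₀ _ hvu, sub_self]
  obtain ⟨l, hl⟩ := smul_of_perp_rat hB hQ u₁ hu0 _ hperp
  refine ⟨r, l, ?_⟩
  rw [← hl]
  abel

theorem conf_of_ratio [Finite F] (hB : RatForm2 K Q Q₀) (hQ : (polarBilin Q).Nondegenerate) (hn : 6 ≤ n)
    (v : Fin n → F) (u₁ : Fin n → K) (hu₁ : Q₀ u₁ = 0) (hvu : polar (⇑Q) v (rvec K u₁) ≠ 0)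
    (hall : ∀ c₁ : Fin n → K, Q₀ c₁ = 0 → polarBilin Q₀ u₁ c₁ = 0 →
      ∃ k₁ : K, polar (⇑Q) v (rvec K c₁) = (k₁ : F) * polar (⇑Q) v (rvec K u₁)) : Conf K v := by
  obtain ⟨r, l, hrl⟩ := exists_rep_of_ratio hB hQ hn v u₁ hu₁ hvu hall
  refine ⟨![r, u₁, 0, 0], ![polar (⇑Q) v (rvec K u₁), l, 0, 0], ?_⟩
  rw [Fin.sum_univ_four]
  simp only [Matrix.cons_val_zero, Matrix.cons_val_one, Matrix.cons_val_two, Matrix.cons_val_three,
    Matrix.head_cons, Matrix.tail_cons, zero_smul, add_zero]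
  exact hrl

end Cfsg.Agent.Lib.Helper6.S5702FORATIO
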