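import Mathlib
import Cfsg.Agent.Lib.Helper6.S5639FOD3

/-!
# S5683 farm-out (architect helper1): FO-A5 `app_A5'`

The `A₅` case of Dickson's list for a prime degree `r ≥ 3`: the trace polynomial
`τ(τ²-1)(τ⁴-3τ²+1)` splits into factors of degree at most two.
-/

set_option autoImplicit false
set_option linter.unusedVariables false

namespace Cfsg.Agent.Lib.Helper6.S5683FOA5

open Matrix Cfsg.Agent.Lib.Helper13 Cfsg.Agent.Lib.Helper1.SubfSL
open Cfsg.Agent.Lib.Helper15.Dk Cfsg.Agent.Lib.Helper14 Cfsg.Agent.Lib.Helper15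
open Cfsg.Agent.Lib.Helper6.S5639FOD2 Cfsg.Agent.Lib.Helper6.S5639FOD3

variable {F : Type*} [Field F]

/-- a root of a monic quadratic over `K` lies in `K` when `[F : K]` is a prime `≥ 3` -/
theorem mem_of_monic_quadratic [Finite F] (K : Subfield F) (r : ℕ) (hr : r.Prime) (hr3 : 3 ≤ r)
    (hcard : Nat.card F = Nat.card K ^ r) (ρ : F) (b c : K)
    (h : ρ ^ 2 + (b : F) * ρ + (c : F) = 0) : ρ ∈ K := by
  obtain ⟨f, hf⟩ : ∃ f : Polynomial K,
      f = Polynomial.X ^ 2 + Polynomial.C b * Polynomial.X + Polynomial.C c := ⟨_, rfl⟩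
  have hdeg2 : f.natDegree = 2 := by
    rw [hf]
    compute_degree!
  have hf0 : f ≠ 0 := by
    intro h0
    rw [h0, Polynomial.natDegree_zero] at hdeg2
    omega
  have hroot : Polynomial.aeval ρ f = 0 := by
    rw [hf]
    simp only [map_add, map_mul, map_pow, Polynomial.aeval_C, Polynomial.aeval_X]
    exact h
  exact Cfsg.Agent.Lib.Helper28.S5639.mem_of_root K r hr hcard ρ f hf0 (by omega) hroot

/-- **FO-A5** -/
theorem app_A5' [Fintype F] (h2 : (2 : F) ≠ 0) (K : Subfield F) (r : ℕ) (hr : r.Prime) (hr3 : 3 ≤ r)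
    (hcard : Nat.card F = Nat.card K ^ r) (κ : F) (hκ : κ ∉ K)
    (H : Subgroup (ProjectiveSpecialLinearGroup (Fin 2) F))
    (hu : toPSL2 F (uu κ) ∈ H) (hW : toPSL2 F Wm ∈ H) :
    ¬ Nonempty (H ≃* alternatingGroup (Fin 5)) := by
  rintro ⟨e⟩
  obtain ⟨d, hd⟩ : ∃ d : SpecialLinearGroup (Fin 2) F, d = uu κ * Wm := ⟨_, rfl⟩
  have hdH : toPSL2 F d ∈ H := by
    rw [hd, map_mul]
    exact H.mul_mem hu hW
  -- the entries of `d`
  have hD : (d : Matrix (Fin 2) (Fin 2) F) =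
      ((uu κ : SpecialLinearGroup (Fin 2) F) : Matrix (Fin 2) (Fin 2) F) *
        ((Wm : SpecialLinearGroup (Fin 2) F) : Matrix (Fin 2) (Fin 2) F) := by
    rw [hd]
    rfl
  have hd10 : (d : Matrix (Fin 2) (Fin 2) F) 1 0 = 1 := by
    rw [hD]
    simp [Wm, Matrix.mul_apply, Fin.sum_univ_two]
  have hdtr : (d : Matrix (Fin 2) (Fin 2) F).trace = κ + 2 := by
    rw [hD, Matrix.trace_fin_two]
    simp [Wm, Matrix.mul_apply, Fin.sum_univ_two]
  -- a power of `d` is scalar
  have hpow : ∀ m : ℕ, (e ⟨toPSL2 F d, hdH⟩) ^ m = 1 →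
      ((d ^ m : SpecialLinearGroup (Fin 2) F) : Matrix (Fin 2) (Fin 2) F) 1 0 = 0 := by
    intro m hm
    rw [← map_pow, MulEquiv.map_eq_one_iff] at hm
    have h1 : (toPSL2 F d) ^ m = 1 := by
      have := congrArg Subtype.val hm
      simpa using this
    rw [← map_pow, toPSL2_eq_one_iff'] at h1
    exact h1.2.1
  -- the elements of `K` we need
  have hK : ∀ z : ℤ, (z : F) ∈ K := fun z => intCast_mem K z
  -- the trace equation, split
  rcases a5_orders (e ⟨toPSL2 F d, hdH⟩) with h | h | h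
  · have := hpow 2 h
    rw [sl2_pow2, hdtr] at this
    simp [hd10] at this
    -- `κ + 2 = 0`
    apply hκ
    have e1 : κ = ((-2 : ℤ) : F) := by
      push_cast
      linear_combination this
    rw [e1]
    exact hK _
  · have := hpow 3 h
    rw [sl2_pow3, hdtr] at this
    simp [hd10] at this
    -- `(κ + 2)^2 - 1 = 0`
    apply hκ
    apply mem_of_monic_quadratic K r hr hr3 hcard κ ⟨((4 : ℤ) : F), hK 4⟩ ⟨((3 : ℤ) : F), hK 3⟩
    push_cast
    linear_combination this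
  · have := hpow 5 h
    rw [sl2_pow5, hdtr] at this
    simp [hd10] at this
    -- `(κ + 2)^4 - 3 (κ + 2)^2 + 1 = 0`
    have h' : ((κ + 2) ^ 2 - (κ + 2) - 1) * ((κ + 2) ^ 2 + (κ + 2) - 1) = 0 := by
      linear_combination this
    apply hκ
    rcases mul_eq_zero.mp h' with h1 | h1
    · apply mem_of_monic_quadratic K r hr hr3 hcard κ ⟨((3 : ℤ) : F), hK 3⟩ ⟨((1 : ℤ) : F), hK 1⟩
      push_cast
      linear_combination h1
    · apply mem_of_monic_quadratic K r hr hr3 hcard κ ⟨((5 : ℤ) : F), hK 5⟩ ⟨((5 : ℤ) : F), hK 5⟩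
      push_cast
      linear_combination h1

end Cfsg.Agent.Lib.Helper6.S5683FOA5
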