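import Mathlib
import Cfsg.Agent.Lib.Helper6.AutPSL7
import Cfsg.Agent.Lib.Helper15.Dk27

/-!
# Uniqueness in the decomposition of automorphisms of `PSL_n(F)`; the order of `Aut`
-/

set_option autoImplicit false
set_option linter.unusedSectionVars false
set_option linter.unusedSimpArgs false
set_option linter.unusedVariables false

namespace Cfsg.Agent.Lib.Helper6.AutPSL

open Matrix Cfsg.Agent.Lib.Helper6.SLRoot Cfsg.Agent.H26

variable {ι : Type*} [Fintype ι] [DecidableEq ι] {F : Type*} [Field F]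

theorem fA_mul (σ τ : RingAut F) :
    (fA (σ * τ) : MulAut (Matrix.SpecialLinearGroup ι F)) = fA σ * fA τ := by
  ext s : 1
  apply Subtype.ext
  rw [MulAut.mul_apply, fA_val, fA_val, fA_val, Matrix.map_map]
  rfl

theorem fA_one : (fA (1 : RingAut F) : MulAut (Matrix.SpecialLinearGroup ι F)) = 1 := by
  ext s : 1
  apply Subtype.ext
  rw [fA_val]
  ext i j
  rfl

theorem fP_mul (σ τ : RingAut F) :
    (fP (σ * τ) : MulAut (Matrix.ProjectiveSpecialLinearGroup ι F)) = fP σ * fP τ := by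
  unfold fP
  rw [fA_mul, map_mul]

theorem fP_one : (fP (1 : RingAut F) : MulAut (Matrix.ProjectiveSpecialLinearGroup ι F)) = 1 := by
  unfold fP
  rw [fA_one, map_one]

/-- the field automorphisms as a homomorphism -/
noncomputable def fPhom : RingAut F →* MulAut (Matrix.ProjectiveSpecialLinearGroup ι F) where
  toFun := fP
  map_one' := fP_one
  map_mul' := fP_mul

theorem fPhom_apply (σ : RingAut F) :
    (fPhom σ : MulAut (Matrix.ProjectiveSpecialLinearGroup ι F)) = fP σ := rfl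

theorem fP_inv (σ : RingAut F) :
    (fP σ⁻¹ : MulAut (Matrix.ProjectiveSpecialLinearGroup ι F)) = (fP σ)⁻¹ := by
  rw [← fPhom_apply, map_inv, fPhom_apply]

theorem img_fP_Ab (τ : RingAut F) (a : ι → F) : img (fP τ) (Ab a) = Ab (τ ∘ a) := by
  have key : ∀ (τ : RingAut F) (a : ι → F), img (fP τ) (Ab a) ≤ Ab (τ ∘ a) := by
    intro τ a y hy
    rw [mem_img] at hy
    obtain ⟨x, hx, rfl⟩ := hy
    rw [mem_Ab_iff] at hx
    obtain ⟨φ, h, rfl⟩ := hx
    rw [fP_tv, mem_Ab_iff]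
    refine ⟨τ ∘ φ, (sP τ ⟨a, φ, h⟩).inc, ?_⟩
    rw [map_one]
    rfl
  apply le_antisymm (key τ a)
  have h1 := img_mono (fP τ) (key τ⁻¹ (τ ∘ a))
  have h2 : (τ⁻¹ : RingAut F) ∘ (τ ∘ a) = a := by
    funext i
    exact RingEquiv.symm_apply_apply τ (a i)
  rw [h2, fP_inv] at h1
  have h3 : img (fP τ) (img (fP τ)⁻¹ (Ab (τ ∘ a))) = Ab (τ ∘ a) := img_img_symm (fP τ) _
  rwa [h3] at h1

theorem img_fP_Bb (τ : RingAut F) (φ : ι → F) : img (fP τ) (Bb φ) = Bb (τ ∘ φ) := by
  have key : ∀ (τ : RingAut F) (φ : ι → F), img (fP τ) (Bb φ) ≤ Bb (τ ∘ φ) := by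
    intro τ φ y hy
    rw [mem_img] at hy
    obtain ⟨x, hx, rfl⟩ := hy
    rw [mem_Bb_iff] at hx
    obtain ⟨a, h, rfl⟩ := hx
    rw [fP_tv, mem_Bb_iff]
    refine ⟨τ ∘ a, (sP τ ⟨a, φ, h⟩).inc, ?_⟩
    rw [map_one]
    rfl
  apply le_antisymm (key τ φ)
  have h1 := img_mono (fP τ) (key τ⁻¹ (τ ∘ φ))
  have h2 : (τ⁻¹ : RingAut F) ∘ (τ ∘ φ) = φ := by
    funext i
    exact RingEquiv.symm_apply_apply τ (φ i)
  rw [h2, fP_inv] at h1
  have h3 : img (fP τ) (img (fP τ)⁻¹ (Bb (τ ∘ φ))) = Bb (τ ∘ φ) := img_img_symm (fP τ) _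
  rwa [h3] at h1

theorem comp_ne_zero (τ : RingAut F) (a : ι → F) (ha : a ≠ 0) : (τ ∘ a : ι → F) ≠ 0 := by
  intro h
  apply ha
  funext i
  have := congrFun h i
  simpa using this

theorem TP_cP_fP (g : GL ι F) (τ : RingAut F) :
    TP (cP g * fP τ : MulAut (Matrix.ProjectiveSpecialLinearGroup ι F)) := by
  constructor
  · intro a ha
    rw [img_mul', img_fP_Ab, img_cP_Ab]
    refine ⟨_, ?_, rfl⟩
    exact gP_u_ne g ⟨τ ∘ a, 0, zero_dotProduct _⟩ (comp_ne_zero τ a ha)
  · intro φ hφ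
    rw [img_mul', img_fP_Bb, img_cP_Bb]
    refine ⟨_, ?_, rfl⟩
    exact gP_φ_ne g ⟨0, τ ∘ φ, dotProduct_zero _⟩ (comp_ne_zero τ φ hφ)

theorem TR_cP_fP_tP (g : GL ι F) (τ : RingAut F) :
    TR (cP g * fP τ * tP : MulAut (Matrix.ProjectiveSpecialLinearGroup ι F)) := by
  have h := TP_cP_fP g τ
  constructor
  · intro a ha
    rw [img_mul', img_tP_Ab]
    exact h.2 a ha
  · intro φ hφ
    rw [img_mul', img_tP_Bb]
    exact h.1 φ hφ

theorem not_TP_TR (h3 : 3 ≤ Fintype.card ι)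
    (β : Matrix.ProjectiveSpecialLinearGroup ι F ≃* Matrix.ProjectiveSpecialLinearGroup ι F)
    (h : TP β) (h' : TR β) : False := by
  have h2 : 2 ≤ Fintype.card ι := by omega
  obtain ⟨a, ha⟩ := exists_vec_ne_zero (F := F) h2
  exact not_isA_isB h3 (h.1 a ha) (h'.1 a ha)

/-- the key uniqueness statement -/
theorem cP_fP_eq (h2 : 2 ≤ Fintype.card ι) (h : GL ι F) (τ τ' : RingAut F)
    (e : (cP h * fP τ : MulAut (Matrix.ProjectiveSpecialLinearGroup ι F)) = fP τ') :
    τ = τ' ∧ h ∈ Subgroup.center (GL ι F) := by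
  have e1 : ∀ (i j : ι) (hij : i ≠ j) (c : F),
      pm (tv (gP h (Pij F i j hij)) (τ c)) = pm (tv (Pij F i j hij) (τ' c)) := by
    intro i j hij c
    have := congrArg (fun β : MulAut (Matrix.ProjectiveSpecialLinearGroup ι F) =>
      β (pm (tv (Pij F i j hij) c))) e
    simp only [MulAut.mul_apply] at this
    rw [fP_tv, fP_tv, cP_tv, sP_Pij, sP_Pij] at this
    exact this
  have hcard : 1 < Fintype.card ι := by omega
  -- `h` is diagonal
  have hdiag : ∀ i : ι, ∃ a : F, a ≠ 0 ∧ h.1 *ᵥ Pi.single i 1 = a • Pi.single i 1 := by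
    intro i
    obtain ⟨j, hj⟩ := Fintype.exists_ne_of_one_lt_card hcard i
    have := e1 i j hj.symm 1
    rw [map_one, map_one] at this
    obtain ⟨a, ha, hu, -⟩ := mk_tv_eq_imp h2 _ _ (Pij_u_ne i j hj.symm) (Pij_φ_ne i j hj.symm)
      this.symm
    exact ⟨a, ha, hu⟩
  choose d hd0 hd using hdiag
  have hval : h.1 = Matrix.diagonal d := by
    ext r s
    have := congrFun (hd s) r
    rw [Matrix.mulVec, dotProduct_single, mul_one, Pi.smul_apply, Pi.single_apply, smul_eq_mul] at this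
    rw [this, Matrix.diagonal_apply]
    by_cases hrs : r = s
    · rw [if_pos hrs, if_pos hrs, mul_one, hrs]
    · rw [if_neg hrs, if_neg hrs, mul_zero]
  have hh : h = diagGL d hd0 := by
    apply Units.ext
    rw [hval, diagGL_val]
  have e2 : ∀ (i j : ι) (hij : i ≠ j) (c : F), d i * (d j)⁻¹ * τ c = τ' c := by
    intro i j hij c
    have := e1 i j hij c
    rw [hh, tv_gP_diag] at this
    exact tv_inj h2 _ (Pij_u_ne _ _ _) (Pij_φ_ne _ _ _) this
  have e3 : ∀ (i j : ι), d i = d j := by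
    intro i j
    by_cases hij : i = j
    · rw [hij]
    · have := e2 i j hij 1
      rw [map_one, map_one, mul_one] at this
      have hj := hd0 j
      field_simp at this
      exact this
  constructor
  · apply RingEquiv.ext
    intro c
    obtain ⟨i, j, hij⟩ := Fintype.exists_pair_of_one_lt_card hcard
    have := e2 i j hij c
    rw [e3 i j, mul_inv_cancel₀ (hd0 j), one_mul] at this
    exact this
  · rw [Matrix.GeneralLinearGroup.mem_center_iff_val_mem_range_scalar]
    obtain ⟨i⟩ : Nonempty ι := Fintype.card_pos_iff.mp (by omega)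
    refine ⟨d i, ?_⟩
    rw [hval]
    ext r s
    rw [Matrix.scalar_apply, Matrix.diagonal_apply, Matrix.diagonal_apply, e3 r i]

theorem cP_eq_one_of_mem_center (h : GL ι F) (hh : h ∈ Subgroup.center (GL ι F)) :
    (cP h : MulAut (Matrix.ProjectiveSpecialLinearGroup ι F)) = 1 := by
  ext x
  obtain ⟨s, rfl⟩ := pm_surjective x
  rw [cP_mk]
  change pm (cG h s) = pm s
  congr 1
  apply Subtype.ext
  rw [cG_val]
  have := Subgroup.mem_center_iff.mp hh (Matrix.SpecialLinearGroup.toGL s)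
  have h1 : s.1 * h.1 = h.1 * s.1 := congrArg Units.val this
  rw [← h1, mul_assoc, gl_mul_inv, mul_one]

theorem cP_ker (h2 : 2 ≤ Fintype.card ι) :
    (cP : GL ι F →* MulAut (Matrix.ProjectiveSpecialLinearGroup ι F)).ker =
      Subgroup.center (GL ι F) := by
  ext h
  rw [MonoidHom.mem_ker]
  constructor
  · intro e
    have : (cP h * fP (1 : RingAut F) : MulAut (Matrix.ProjectiveSpecialLinearGroup ι F)) =
        fP (1 : RingAut F) := by
      rw [fP_one, mul_one, e]
    exact (cP_fP_eq h2 h 1 1 this).2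
  · exact cP_eq_one_of_mem_center h

/-- uniqueness of the field automorphism and of the class of `g` -/
theorem decomp_unique (h2 : 2 ≤ Fintype.card ι) (g g' : GL ι F) (τ τ' : RingAut F)
    (e : (cP g * fP τ : MulAut (Matrix.ProjectiveSpecialLinearGroup ι F)) = cP g' * fP τ') :
    τ = τ' ∧ g'⁻¹ * g ∈ Subgroup.center (GL ι F) := by
  apply cP_fP_eq h2
  rw [map_mul, map_inv, mul_assoc, e, inv_mul_cancel_left]

end Cfsg.Agent.Lib.Helper6.AutPSL
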