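import Mathlib
import Cfsg.Agent.Lib.Helper6.AutPSL8

/-!
# The order of `Aut(PSL_n(F))`
-/

set_option autoImplicit false
set_option linter.unusedSectionVars false
set_option linter.unusedSimpArgs false
set_option linter.unusedVariables false

namespace Cfsg.Agent.Lib.Helper6.AutPSL

open Matrix Cfsg.Agent.Lib.Helper6.SLRoot Cfsg.Agent.H26

variable {ι : Type*} [Fintype ι] [DecidableEq ι] {F : Type*} [Field F]

/-- `PGL → Aut(PSL)` -/
noncomputable def cPbar : GL ι F ⧸ Subgroup.center (GL ι F) →*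
    MulAut (Matrix.ProjectiveSpecialLinearGroup ι F) :=
  QuotientGroup.lift (Subgroup.center (GL ι F)) cP (fun h hh => cP_eq_one_of_mem_center h hh)

theorem cPbar_mk (g : GL ι F) :
    cPbar (QuotientGroup.mk g : GL ι F ⧸ Subgroup.center (GL ι F)) =
      (cP g : MulAut (Matrix.ProjectiveSpecialLinearGroup ι F)) := rfl

theorem card_ringAut [Fintype F] {p f : ℕ} [Fact p.Prime] (hF : Fintype.card F = p ^ f)
    (hf : 1 ≤ f) : Nat.card (RingAut F) = f := by
  have : CharP F p := charP_of_card_eq_prime_pow hF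
  obtain ⟨e⟩ := Cfsg.Agent.Lib.Helper15.Dk.exists_ringAut_mulEquiv (F := F) p f hF
  rw [Nat.card_congr e.toEquiv]
  have : NeZero f := ⟨by omega⟩
  change Nat.card (ZMod f) = f
  rw [Nat.card_eq_fintype_card, ZMod.card]

theorem card_aut_two [Fintype F] {p f : ℕ} [Fact p.Prime] (hF : Fintype.card F = p ^ f)
    (hf : 1 ≤ f) :
    Nat.card (MulAut (Matrix.ProjectiveSpecialLinearGroup (Fin 2) F)) =
      f * Nat.card (GL (Fin 2) F ⧸ Subgroup.center (GL (Fin 2) F)) := by
  let Ψ : (GL (Fin 2) F ⧸ Subgroup.center (GL (Fin 2) F)) × RingAut F →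
      MulAut (Matrix.ProjectiveSpecialLinearGroup (Fin 2) F) := fun x => cPbar x.1 * fP x.2
  have hΨ : Function.Bijective Ψ := by
    constructor
    · rintro ⟨x, τ⟩ ⟨x', τ'⟩ h
      obtain ⟨g, rfl⟩ := QuotientGroup.mk_surjective x
      obtain ⟨g', rfl⟩ := QuotientGroup.mk_surjective x'
      change cP g * fP τ = cP g' * fP τ' at h
      obtain ⟨h1, h2⟩ := decomp_unique card_fin2 g g' τ τ' h
      rw [Prod.mk.injEq]
      exact ⟨(QuotientGroup.eq.mpr h2).symm, h1⟩
    · intro β
      obtain ⟨g, τ, e⟩ := aut_psl_two hF hf β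
      exact ⟨(QuotientGroup.mk g, τ), e.symm⟩
  rw [← Nat.card_eq_of_bijective Ψ hΨ, Nat.card_prod, card_ringAut hF hf, mul_comm]

theorem card_aut_ge3 [Fintype F] {p f : ℕ} [Fact p.Prime] (hF : Fintype.card F = p ^ f)
    (hf : 1 ≤ f) (m : ℕ) :
    Nat.card (MulAut (Matrix.ProjectiveSpecialLinearGroup (Fin (m + 3)) F)) =
      2 * f * Nat.card (GL (Fin (m + 3)) F ⧸ Subgroup.center (GL (Fin (m + 3)) F)) := by
  have h3 : 3 ≤ Fintype.card (Fin (m + 3)) := by rw [Fintype.card_fin]; omega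
  have h2 : 2 ≤ Fintype.card (Fin (m + 3)) := by omega
  let Ψ : (GL (Fin (m + 3)) F ⧸ Subgroup.center (GL (Fin (m + 3)) F)) × RingAut F × Bool →
      MulAut (Matrix.ProjectiveSpecialLinearGroup (Fin (m + 3)) F) :=
    fun x => cPbar x.1 * fP x.2.1 * (if x.2.2 then tP else 1)
  have hΨ : Function.Bijective Ψ := by
    constructor
    · rintro ⟨x, τ, k⟩ ⟨x', τ', k'⟩ h
      obtain ⟨g, rfl⟩ := QuotientGroup.mk_surjective x
      obtain ⟨g', rfl⟩ := QuotientGroup.mk_surjective x'
      change cP g * fP τ * (if k then tP else 1) = cP g' * fP τ' * (if k' then tP else 1) at h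
      have hk : k = k' := by
        cases k <;> cases k'
        · rfl
        · exfalso
          simp only [if_true, Bool.false_eq_true, if_false, mul_one] at h
          exact not_TP_TR h3 _ (TP_cP_fP g τ) (h ▸ TR_cP_fP_tP g' τ')
        · exfalso
          simp only [if_true, Bool.false_eq_true, if_false, mul_one] at h
          exact not_TP_TR h3 _ (TP_cP_fP g' τ') (h ▸ TR_cP_fP_tP g τ)
        · rfl
      subst hk
      have h' := mul_right_cancel h
      obtain ⟨h1, h2'⟩ := decomp_unique h2 g g' τ τ' h'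
      rw [Prod.mk.injEq, Prod.mk.injEq]
      exact ⟨(QuotientGroup.eq.mpr h2').symm, h1, rfl⟩
    · intro β
      obtain ⟨g, τ, γ, hγ, e⟩ := aut_psl_ge3 hF hf m β
      rcases hγ with rfl | rfl
      · exact ⟨(QuotientGroup.mk g, τ, false), by simp only [Ψ]; rw [e]; rfl⟩
      · exact ⟨(QuotientGroup.mk g, τ, true), by simp only [Ψ]; rw [e]; rfl⟩
  rw [← Nat.card_eq_of_bijective Ψ hΨ, Nat.card_prod, Nat.card_prod, card_ringAut hF hf]
  simp only [Nat.card_eq_fintype_card, Fintype.card_bool]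
  ring

end Cfsg.Agent.Lib.Helper6.AutPSL
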