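import Mathlib

/-! Pure-algebra lemmas for Steinberg's Theorem 10 (S2398 / S2100 farm, architect helper14):
scalars avoiding a few roots in a field with more than four elements, and the vanishing of
biadditive maps invariant under suitable scalings. -/

set_option autoImplicit false

namespace Cfsg.Agent.Lib.Helper6.StCCAlg

section Scalars

variable {K : Type*} [Field K]

/-- in a field with more than four elements some `a` avoids `0`, `1` and the roots of
`X² - X + 1` -/
theorem exists_good_scalar (hK5 : ∃ s : Finset K, 4 < s.card) :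
    ∃ a : K, a ≠ 0 ∧ a ≠ 1 ∧ a ^ 2 - a + 1 ≠ 0 := by
  classical
  obtain ⟨s, hs⟩ := hK5
  -- the polynomial `X (X - 1) (X² - X + 1)` of degree 4
  let p : Polynomial K := Polynomial.X * (Polynomial.X - 1) *
    (Polynomial.X ^ 2 - Polynomial.X + 1)
  have hp0 : p ≠ 0 := by
    have h1 : (Polynomial.X : Polynomial K) ≠ 0 := Polynomial.X_ne_zero
    have h2 : (Polynomial.X - 1 : Polynomial K) ≠ 0 := Polynomial.X_sub_C_ne_zero (1 : K)
    have h3 : (Polynomial.X ^ 2 - Polynomial.X + 1 : Polynomial K) ≠ 0 := by
      intro h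
      have := congrArg (fun q => Polynomial.coeff q 2) h
      simp [Polynomial.coeff_X, Polynomial.coeff_one] at this
    exact mul_ne_zero (mul_ne_zero h1 h2) h3
  have hdeg : p.natDegree ≤ 4 := by
    have h1 : (Polynomial.X * (Polynomial.X - 1) : Polynomial K).natDegree ≤ 2 := by
      refine (Polynomial.natDegree_mul_le).trans ?_
      have : (Polynomial.X - 1 : Polynomial K).natDegree ≤ 1 :=
        (Polynomial.natDegree_sub_le _ _).trans (by simp)
      have h' : (Polynomial.X : Polynomial K).natDegree ≤ 1 := Polynomial.natDegree_X_le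
      omega
    have h2 : (Polynomial.X ^ 2 - Polynomial.X + 1 : Polynomial K).natDegree ≤ 2 := by
      refine (Polynomial.natDegree_add_le _ _).trans ?_
      have h' : (Polynomial.X ^ 2 - Polynomial.X : Polynomial K).natDegree ≤ 2 := by
        refine (Polynomial.natDegree_sub_le _ _).trans ?_
        have := Polynomial.natDegree_X_pow_le (R := K) 2
        have h'' : (Polynomial.X : Polynomial K).natDegree ≤ 1 := Polynomial.natDegree_X_le
        omega
      simp only [Polynomial.natDegree_one]
      omega
    refine (Polynomial.natDegree_mul_le).trans ?_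
    omega
  have hroots : p.roots.toFinset.card ≤ 4 :=
    (Multiset.toFinset_card_le _).trans ((Polynomial.card_roots' p).trans hdeg)
  have hlt : p.roots.toFinset.card < s.card := lt_of_le_of_lt hroots hs
  obtain ⟨a, _, ha⟩ := Finset.exists_mem_notMem_of_card_lt_card hlt
  have hane : ¬ Polynomial.IsRoot p a := by
    intro h
    apply ha
    rw [Multiset.mem_toFinset, Polynomial.mem_roots hp0]
    exact h
  have heval : Polynomial.eval a p = a * (a - 1) * (a ^ 2 - a + 1) := by
    simp [p]
  rw [Polynomial.IsRoot, heval] at hane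
  refine ⟨a, ?_, ?_, ?_⟩
  · rintro rfl
    exact hane (by ring)
  · rintro rfl
    exact hane (by ring)
  · intro h
    exact hane (by rw [h, mul_zero])

/-- in a field with more than four elements, for `0 < |e| ≤ 3` some nonzero `v` has `v ^ e ≠ 1` -/
theorem exists_pow_ne_one (hK5 : ∃ s : Finset K, 4 < s.card) (e : ℤ) (he : e ≠ 0)
    (he3 : e.natAbs ≤ 3) : ∃ v : K, v ≠ 0 ∧ v ^ e ≠ 1 := by
  classical
  obtain ⟨s, hs⟩ := hK5
  set n := e.natAbs with hn
  have hn0 : 0 < n := Int.natAbs_pos.mpr he
  let p : Polynomial K := Polynomial.X * (Polynomial.X ^ n - 1)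
  have hq0 : (Polynomial.X ^ n - 1 : Polynomial K) ≠ 0 :=
    Polynomial.X_pow_sub_C_ne_zero hn0 (1 : K)
  have hp0 : p ≠ 0 := mul_ne_zero Polynomial.X_ne_zero hq0
  have hdeg : p.natDegree ≤ 4 := by
    refine (Polynomial.natDegree_mul_le).trans ?_
    have h1 : (Polynomial.X : Polynomial K).natDegree ≤ 1 := Polynomial.natDegree_X_le
    have h2 : (Polynomial.X ^ n - 1 : Polynomial K).natDegree ≤ n := by
      have := Polynomial.natDegree_X_pow_sub_C (R := K) (n := n) (r := 1)
      rw [map_one] at this
      omega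
    omega
  have hroots : p.roots.toFinset.card ≤ 4 :=
    (Multiset.toFinset_card_le _).trans ((Polynomial.card_roots' p).trans hdeg)
  have hlt : p.roots.toFinset.card < s.card := lt_of_le_of_lt hroots hs
  obtain ⟨v, _, hv⟩ := Finset.exists_mem_notMem_of_card_lt_card hlt
  have hane : ¬ Polynomial.IsRoot p v := by
    intro h
    apply hv
    rw [Multiset.mem_toFinset, Polynomial.mem_roots hp0]
    exact h
  have heval : Polynomial.eval v p = v * (v ^ n - 1) := by
    simp [p]
  rw [Polynomial.IsRoot, heval] at hane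
  have hv0 : v ≠ 0 := by
    rintro rfl
    exact hane (by rw [zero_mul])
  have hvn : v ^ n ≠ 1 := by
    intro h
    exact hane (by rw [h, sub_self, mul_zero])
  refine ⟨v, hv0, ?_⟩
  rcases Int.natAbs_eq e with h | h
  · rw [h, zpow_natCast]
    exact hvn
  · rw [h, zpow_neg, zpow_natCast]
    intro h1
    apply hvn
    have := inv_eq_one.mp h1
    exact this

end Scalars

section Biadditive

variable {K : Type*} [Field K]

/-- (P3) of the plan: a biadditive map to a commutative group which is invariant under the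
simultaneous scalings by `a` and by `1 - a`, where `a ≠ 0, 1` and `a² - a + 1 ≠ 0`, is trivial -/
theorem biadd_eq_one {C : Type*} [CommGroup C] (k : K → K → C)
    (hl : ∀ t t' u, k (t + t') u = k t u * k t' u)
    (hr : ∀ t u u', k t (u + u') = k t u * k t u')
    (a : K) (ha0 : a ≠ 0) (ha1 : a ≠ 1) (ha : a ^ 2 - a + 1 ≠ 0)
    (hinv : ∀ t u, k (a * t) (a * u) = k t u)
    (hinv' : ∀ t u, k ((1 - a) * t) ((1 - a) * u) = k t u) :
    ∀ t u, k t u = 1 := by
  have h1a : (1 : K) - a ≠ 0 := sub_ne_zero.mpr (Ne.symm ha1)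
  have hr0 : ∀ t, k t 0 = 1 := by
    intro t
    have := hr t 0 0
    rw [add_zero] at this
    exact (mul_eq_left.mp this.symm)
  have hrneg : ∀ t u, k t (-u) = (k t u)⁻¹ := by
    intro t u
    have := hr t u (-u)
    rw [add_neg_cancel, hr0] at this
    exact (eq_inv_of_mul_eq_one_right this.symm)
  -- `k ((1-a) t) u = k (a t) ((a-1) u)`
  have key : ∀ t u, k ((1 - a) * t) u = k (a * t) ((a - 1) * u) := by
    intro t u
    have e1 : k t u = k ((1 - a) * t) u * k (a * t) u := by
      rw [← hl]; congr 1; ring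
    have e2 : k (a * t) ((a - 1) * u) = k (a * t) (a * u) * (k (a * t) u)⁻¹ := by
      rw [← hrneg, ← hr]; congr 1; ring
    rw [e2, hinv, e1]
    rw [mul_inv_cancel_right]
  -- both sides through the invariances
  have hL : ∀ t u, k ((1 - a) * t) u = k t (u / (1 - a)) := by
    intro t u
    have := hinv' t (u / (1 - a))
    rw [mul_div_cancel₀ _ h1a] at this
    exact this
  have hR : ∀ t u, k (a * t) ((a - 1) * u) = k t ((a - 1) * u / a) := by
    intro t u
    have := hinv t ((a - 1) * u / a)
    rw [mul_div_cancel₀ _ ha0] at this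
    exact this
  have hfin : ∀ t u, k t (u / (1 - a) - (a - 1) * u / a) = 1 := by
    intro t u
    rw [sub_eq_add_neg, hr, hrneg, ← hL, ← hR, key, mul_inv_cancel]
  intro t w
  -- every `w` is of the form `u / (1 - a) - (a - 1) u / a`
  have hc : (a ^ 2 - a + 1) / (a * (1 - a)) ≠ 0 := div_ne_zero ha (mul_ne_zero ha0 h1a)
  have := hfin t (w / ((a ^ 2 - a + 1) / (a * (1 - a))))
  have hu : ∀ u : K, u / (1 - a) - (a - 1) * u / a
      = (a ^ 2 - a + 1) / (a * (1 - a)) * u := by
    intro u
    field_simp
    ring
  rw [hu, mul_div_cancel₀ _ hc] at this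
  exact this

open scoped IsMulCommutative in
/-- variant of `biadd_eq_one` with values in an arbitrary group, all values being central -/
theorem biadd_eq_one_of_central {E : Type*} [Group E] (k : K → K → E)
    (hcen : ∀ t u, k t u ∈ Subgroup.center E)
    (hl : ∀ t t' u, k (t + t') u = k t u * k t' u)
    (hr : ∀ t u u', k t (u + u') = k t u * k t u')
    (a : K) (ha0 : a ≠ 0) (ha1 : a ≠ 1) (ha : a ^ 2 - a + 1 ≠ 0)
    (hinv : ∀ t u, k (a * t) (a * u) = k t u)
    (hinv' : ∀ t u, k ((1 - a) * t) ((1 - a) * u) = k t u) :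
    ∀ t u, k t u = 1 := by
  intro t u
  have h := biadd_eq_one (C := Subgroup.center E) (fun t u => ⟨k t u, hcen t u⟩)
    (fun t t' u => Subtype.ext (hl t t' u)) (fun t u u' => Subtype.ext (hr t u u'))
    a ha0 ha1 ha (fun t u => Subtype.ext (hinv t u)) (fun t u => Subtype.ext (hinv' t u)) t u
  exact congrArg Subtype.val h

/-- Part B scaling: additive in the first variable and invariant under `t ↦ b t` with `b ≠ 1`
forces triviality (values in any group; only additivity in `t` is used) -/
theorem scale_left_eq_one {E : Type*} [Group E] (c : K → K → E)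
    (hl : ∀ t t' u, c (t + t') u = c t u * c t' u)
    (b : K) (hb : b ≠ 1) (hinv : ∀ t u, c (b * t) u = c t u) : ∀ t u, c t u = 1 := by
  have hb1 : b - 1 ≠ 0 := sub_ne_zero.mpr hb
  intro t u
  have h := hl ((b - 1) * (t / (b - 1))) (t / (b - 1)) u
  have e : (b - 1) * (t / (b - 1)) + t / (b - 1) = b * (t / (b - 1)) := by ring
  rw [e, hinv, mul_div_cancel₀ _ hb1] at h
  exact (mul_eq_right.mp h.symm)

/-- mirror of `scale_left_eq_one` -/
theorem scale_right_eq_one {E : Type*} [Group E] (c : K → K → E)
    (hr : ∀ t u u', c t (u + u') = c t u * c t u')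
    (b : K) (hb : b ≠ 1) (hinv : ∀ t u, c t (b * u) = c t u) : ∀ t u, c t u = 1 := by
  intro t u
  exact scale_left_eq_one (fun u t => c t u) (fun u u' t => hr t u u') b hb
    (fun u t => hinv t u) u t

end Biadditive

end Cfsg.Agent.Lib.Helper6.StCCAlg
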