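import Mathlib
import Cfsg.Agent.Lib.Helper16.FieldAutGU

/-!
# A concrete computable field with four elements

`K4` is the field with four elements `0, 1, ω, ω²` with operations given by tables, so that
identities between small matrices over it can be proved by `decide`.  For any field `F` with four
elements there is a ring homomorphism `K4 →+* F`, and matrices over `K4` satisfying the unitary
condition map into `Cfsg.SU n F 2`.
-/

set_option autoImplicit false
set_option linter.style.haveILetI false
set_option linter.unusedSimpArgs false
set_option linter.unusedSectionVars false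

namespace Cfsg.Agent.Lib.Helper6.FFour

/-- the field with four elements: `o = 0`, `i = 1`, `w = ω`, `v = ω² = ω + 1` -/
inductive K4 : Type
  | o | i | w | v
  deriving DecidableEq

instance : Fintype K4 := ⟨{K4.o, K4.i, K4.w, K4.v}, by intro x; cases x <;> decide⟩

namespace K4

/-- addition table -/
def add : K4 → K4 → K4
  | o, x => x
  | x, o => x
  | i, i => o
  | i, w => v
  | i, v => w
  | w, i => v
  | w, w => o
  | w, v => i
  | v, i => w
  | v, w => i
  | v, v => o

/-- multiplication table -/
def mul : K4 → K4 → K4
  | o, _ => o
  | _, o => o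
  | i, x => x
  | x, i => x
  | w, w => v
  | w, v => i
  | v, w => i
  | v, v => w

instance : Add K4 := ⟨add⟩
instance : Mul K4 := ⟨mul⟩
instance : Zero K4 := ⟨o⟩
instance : One K4 := ⟨i⟩
instance : Neg K4 := ⟨id⟩

instance : CommRing K4 where
  add_assoc := by decide
  zero_add := by decide
  add_zero := by decide
  add_comm := by decide
  neg_add_cancel := by decide
  left_distrib := by decide
  right_distrib := by decide
  zero_mul := by decide
  mul_zero := by decide
  mul_assoc := by decide
  one_mul := by decide
  mul_one := by decide
  mul_comm := by decide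
  nsmul := nsmulRec
  zsmul := zsmulRec

theorem zero_def : (0 : K4) = o := rfl
theorem one_def : (1 : K4) = i := rfl

/-- inverse table -/
def inv : K4 → K4
  | o => o
  | i => i
  | w => v
  | v => w

instance : Inv K4 := ⟨inv⟩

instance : Field K4 where
  exists_pair_ne := ⟨o, i, by decide⟩
  mul_inv_cancel := by decide
  inv_zero := rfl
  nnqsmul := _
  nnqsmul_def := fun _ _ => rfl
  qsmul := _
  qsmul_def := fun _ _ => rfl

end K4

section hom
variable {F : Type*} [Field F]

/-- the underlying function of the homomorphism `K4 → F` attached to a primitive cube root -/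
def toFun (ω : F) : K4 → F
  | K4.o => 0
  | K4.i => 1
  | K4.w => ω
  | K4.v => ω + 1

/-- the ring homomorphism `K4 →+* F` for `ω ^ 2 = ω + 1` in characteristic two -/
def toF (ω : F) (hω : ω ^ 2 = ω + 1) (h2 : (2 : F) = 0) : K4 →+* F where
  toFun := toFun ω
  map_one' := rfl
  map_zero' := rfl
  map_mul' := by
    intro a b
    cases a <;> cases b <;>
      simp only [toFun, show K4.o * K4.o = K4.o from rfl, show K4.o * K4.i = K4.o from rfl,
        show K4.o * K4.w = K4.o from rfl, show K4.o * K4.v = K4.o from rfl,
        show K4.i * K4.o = K4.o from rfl, show K4.i * K4.i = K4.i from rfl,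
        show K4.i * K4.w = K4.w from rfl, show K4.i * K4.v = K4.v from rfl,
        show K4.w * K4.o = K4.o from rfl, show K4.w * K4.i = K4.w from rfl,
        show K4.w * K4.w = K4.v from rfl, show K4.w * K4.v = K4.i from rfl,
        show K4.v * K4.o = K4.o from rfl, show K4.v * K4.i = K4.v from rfl,
        show K4.v * K4.w = K4.i from rfl, show K4.v * K4.v = K4.w from rfl,
        mul_zero, zero_mul, mul_one, one_mul]
    all_goals first
      | rfl
      | ring1
      | linear_combination (exp := 1) 0 + 0
      | linear_combination (exp := 1) 0 + h2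
      | linear_combination (exp := 1) 0 + -h2
      | linear_combination (exp := 1) 0 + ω * h2
      | linear_combination (exp := 1) 0 + -ω * h2
      | linear_combination (exp := 1) 0 + (ω + 1) * h2
      | linear_combination (exp := 1) 0 + -(ω + 1) * h2
      | linear_combination (exp := 1) 0 + (ω - 1) * h2
      | linear_combination (exp := 1) 0 + -(ω - 1) * h2
      | linear_combination (exp := 1) 0 + 2 * h2
      | linear_combination (exp := 1) 0 + -2*h2
      | linear_combination (exp := 1) hω + 0
      | linear_combination (exp := 1) hω + h2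
      | linear_combination (exp := 1) hω + -h2
      | linear_combination (exp := 1) hω + ω * h2
      | linear_combination (exp := 1) hω + -ω * h2
      | linear_combination (exp := 1) hω + (ω + 1) * h2
      | linear_combination (exp := 1) hω + -(ω + 1) * h2
      | linear_combination (exp := 1) hω + (ω - 1) * h2
      | linear_combination (exp := 1) hω + -(ω - 1) * h2
      | linear_combination (exp := 1) hω + 2 * h2
      | linear_combination (exp := 1) hω + -2*h2
      | linear_combination (exp := 1) -hω + 0
      | linear_combination (exp := 1) -hω + h2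
      | linear_combination (exp := 1) -hω + -h2
      | linear_combination (exp := 1) -hω + ω * h2
      | linear_combination (exp := 1) -hω + -ω * h2
      | linear_combination (exp := 1) -hω + (ω + 1) * h2
      | linear_combination (exp := 1) -hω + -(ω + 1) * h2
      | linear_combination (exp := 1) -hω + (ω - 1) * h2
      | linear_combination (exp := 1) -hω + -(ω - 1) * h2
      | linear_combination (exp := 1) -hω + 2 * h2
      | linear_combination (exp := 1) -hω + -2*h2
  map_add' := by
    intro a b
    cases a <;> cases b <;>
      simp only [toFun, show K4.o + K4.o = K4.o from rfl, show K4.o + K4.i = K4.i from rfl,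
        show K4.o + K4.w = K4.w from rfl, show K4.o + K4.v = K4.v from rfl,
        show K4.i + K4.o = K4.i from rfl, show K4.i + K4.i = K4.o from rfl,
        show K4.i + K4.w = K4.v from rfl, show K4.i + K4.v = K4.w from rfl,
        show K4.w + K4.o = K4.w from rfl, show K4.w + K4.i = K4.v from rfl,
        show K4.w + K4.w = K4.o from rfl, show K4.w + K4.v = K4.i from rfl,
        show K4.v + K4.o = K4.v from rfl, show K4.v + K4.i = K4.w from rfl,
        show K4.v + K4.w = K4.i from rfl, show K4.v + K4.v = K4.o from rfl,
        add_zero, zero_add]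
    all_goals first
      | rfl
      | ring1
      | linear_combination (exp := 1) 0 + 0
      | linear_combination (exp := 1) 0 + h2
      | linear_combination (exp := 1) 0 + -h2
      | linear_combination (exp := 1) 0 + ω * h2
      | linear_combination (exp := 1) 0 + -ω * h2
      | linear_combination (exp := 1) 0 + (ω + 1) * h2
      | linear_combination (exp := 1) 0 + -(ω + 1) * h2
      | linear_combination (exp := 1) 0 + (ω - 1) * h2
      | linear_combination (exp := 1) 0 + -(ω - 1) * h2
      | linear_combination (exp := 1) 0 + 2 * h2
      | linear_combination (exp := 1) 0 + -2*h2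
      | linear_combination (exp := 1) hω + 0
      | linear_combination (exp := 1) hω + h2
      | linear_combination (exp := 1) hω + -h2
      | linear_combination (exp := 1) hω + ω * h2
      | linear_combination (exp := 1) hω + -ω * h2
      | linear_combination (exp := 1) hω + (ω + 1) * h2
      | linear_combination (exp := 1) hω + -(ω + 1) * h2
      | linear_combination (exp := 1) hω + (ω - 1) * h2
      | linear_combination (exp := 1) hω + -(ω - 1) * h2
      | linear_combination (exp := 1) hω + 2 * h2
      | linear_combination (exp := 1) hω + -2*h2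
      | linear_combination (exp := 1) -hω + 0
      | linear_combination (exp := 1) -hω + h2
      | linear_combination (exp := 1) -hω + -h2
      | linear_combination (exp := 1) -hω + ω * h2
      | linear_combination (exp := 1) -hω + -ω * h2
      | linear_combination (exp := 1) -hω + (ω + 1) * h2
      | linear_combination (exp := 1) -hω + -(ω + 1) * h2
      | linear_combination (exp := 1) -hω + (ω - 1) * h2
      | linear_combination (exp := 1) -hω + -(ω - 1) * h2
      | linear_combination (exp := 1) -hω + 2 * h2
      | linear_combination (exp := 1) -hω + -2*h2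

theorem toF_injective (ω : F) (hω : ω ^ 2 = ω + 1) (h2 : (2 : F) = 0) :
    Function.Injective (toF ω hω h2) := (toF ω hω h2).injective

end hom

section card
variable {F : Type*} [Field F] [Fintype F]

theorem two_eq_zero (hF : Fintype.card F = 4) : (2 : F) = 0 := by
  have hF' : Fintype.card F = 2 ^ 2 := by rw [hF]; norm_num
  obtain ⟨p, m, hp, hc, h2⟩ := Cfsg.Agent.S0779.exists_char_pow hF'
  haveI := hc
  have hp2 : p = 2 := by
    have hm : m ≠ 0 := by
      rintro rfl
      simp at h2
    have : p ∣ 2 := by
      rw [h2]
      exact dvd_pow_self p hm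
    exact (Nat.prime_dvd_prime_iff_eq hp Nat.prime_two).mp this
  subst hp2
  have := CharP.cast_eq_zero F 2
  exact_mod_cast this

theorem exists_omega (hF : Fintype.card F = 4) : ∃ ω : F, ω ^ 2 = ω + 1 := by
  classical
  have h2 := two_eq_zero hF
  obtain ⟨x, hx0, hx1⟩ : ∃ x : F, x ≠ 0 ∧ x ≠ 1 := by
    by_contra hcon
    push Not at hcon
    have : Fintype.card F ≤ 2 := by
      have hsub : (Finset.univ : Finset F) ⊆ {0, 1} := by
        intro x _
        by_cases hx : x = 0
        · simp [hx]
        · simp [hcon x hx]
      calc Fintype.card F = (Finset.univ : Finset F).card := rfl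
        _ ≤ ({0, 1} : Finset F).card := Finset.card_le_card hsub
        _ ≤ 2 := Finset.card_le_two
    omega
  have h3 : x ^ 3 = 1 := by
    have := FiniteField.pow_card_sub_one_eq_one x hx0
    rwa [hF] at this
  refine ⟨x, ?_⟩
  have h4 : (x - 1) * (x ^ 2 + x + 1) = 0 := by linear_combination h3
  rcases mul_eq_zero.mp h4 with h | h
  · exact absurd (sub_eq_zero.mp h) hx1
  · linear_combination h - (x + 1) * h2

end card

section su
open Matrix Cfsg Cfsg.Agent.Lib.Helper6 Cfsg.Agent.Lib.Helper16
variable {F : Type*} [Field F] [Fintype F] {n : ℕ}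

/-- entrywise Frobenius on matrices over `K4` -/
def frob (A : Matrix (Fin n) (Fin n) K4) : Matrix (Fin n) (Fin n) K4 := A.map (fun x => x * x)

/-- the matrix over `F` attached to a matrix over `K4` -/
def mapF (φ : K4 →+* F) (A : Matrix (Fin n) (Fin n) K4) : Matrix (Fin n) (Fin n) F := A.map φ

theorem mapF_mul (φ : K4 →+* F) (A B : Matrix (Fin n) (Fin n) K4) :
    mapF φ (A * B) = mapF φ A * mapF φ B := Matrix.map_mul

theorem mapF_one (φ : K4 →+* F) : mapF φ (1 : Matrix (Fin n) (Fin n) K4) = 1 := by
  unfold mapF
  rw [Matrix.map_one _ (map_zero φ) (map_one φ)]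

theorem mapF_injective (φ : K4 →+* F) : Function.Injective (mapF (n := n) φ) :=
  Matrix.map_injective φ.injective

theorem mapF_det (φ : K4 →+* F) (A : Matrix (Fin n) (Fin n) K4) :
    (mapF φ A).det = φ A.det := by
  unfold mapF
  rw [← RingHom.mapMatrix_apply, ← RingHom.map_det]

theorem mapF_pres (hF : Fintype.card F = 2 ^ 2) (φ : K4 →+* F) (A : Matrix (Fin n) (Fin n) K4)
    (hu : Aᵀ * frob A = 1) (x y : Fin n → F) :
    hermForm n F 2 (mapF φ A *ᵥ x) (mapF φ A *ᵥ y) = hermForm n F 2 x y := by
  revert x y
  rw [pres_iff hF]
  have h1 : (mapF φ A).map (conjQ hF) = mapF φ (frob A) := by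
    ext i j
    simp only [mapF, frob, Matrix.map_apply, conjQ_apply, map_mul]
    ring
  have h2 : (mapF φ A)ᵀ = mapF φ Aᵀ := by
    ext i j
    simp [mapF]
  rw [h1, h2, ← mapF_mul, hu, mapF_one]

/-- the element of `SU n F 2` attached to a unitary matrix of determinant one over `K4` -/
def emb (hF : Fintype.card F = 2 ^ 2) (φ : K4 →+* F) (A : Matrix (Fin n) (Fin n) K4)
    (hd : A.det = 1) (hu : Aᵀ * frob A = 1) : ↥(Cfsg.SU n F 2) :=
  ⟨⟨mapF φ A, by rw [mapF_det, hd, map_one]⟩, fun x y => mapF_pres hF φ A hu x y⟩

/-- the matrix of an element of `SU` -/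
def mat (g : ↥(Cfsg.SU n F 2)) : Matrix (Fin n) (Fin n) F :=
  ((g : Matrix.SpecialLinearGroup (Fin n) F) : Matrix (Fin n) (Fin n) F)

theorem mat_injective : Function.Injective (mat (F := F) (n := n)) := by
  intro g h hgh
  exact Subtype.ext (Subtype.ext hgh)

theorem mat_mul (g h : ↥(Cfsg.SU n F 2)) : mat (g * h) = mat g * mat h := rfl

theorem mat_one : mat (1 : ↥(Cfsg.SU n F 2)) = (1 : Matrix (Fin n) (Fin n) F) := rfl

theorem mat_pow (g : ↥(Cfsg.SU n F 2)) (k : ℕ) : mat (g ^ k) = mat g ^ k := by
  induction k with
  | zero => rw [pow_zero, pow_zero, mat_one]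
  | succ k ih => rw [pow_succ, pow_succ, mat_mul, ih]

theorem mat_emb (hF : Fintype.card F = 2 ^ 2) (φ : K4 →+* F) (A : Matrix (Fin n) (Fin n) K4)
    (hd : A.det = 1) (hu : Aᵀ * frob A = 1) : mat (emb hF φ A hd hu) = mapF φ A := rfl

end su

end Cfsg.Agent.Lib.Helper6.FFour
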