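import Mathlib
import Cfsg.Agent.Lib.Helper12.S2933Defs
import Cfsg.Agent.Lib.Helper24.S2933FOA

/-!
# S2933 farm-out (architect helper12): FO-C1 `card_of_inv`

An abelian `τ`,`σ`-invariant subgroup `S ≥ V` containing an involution outside `V` is elementary
abelian of order 16.
-/

set_option autoImplicit false

namespace Cfsg.Agent.Lib.Helper6.S2933FOC1

open Subgroup Cfsg.Agent.Lib.Helper12.S2933 Cfsg.Agent.Lib.Helper20.Ord64

variable {T : Type*} [Group T] {V : Subgroup T} {τ σ : MulAut T}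

/-- the four elements of `V` -/
theorem V_cases (H : Hyp V τ σ) (w : T) (hw : w ∈ V) (hw1 : w ≠ 1) (u : T) (hu : u ∈ V) :
    u = 1 ∨ u = w ∨ u = σ w ∨ u = σ (σ w) := by
  classical
  have hfin := H.fin
  have : Fintype V := Fintype.ofFinite V
  have hσw : σ w ∈ V := H.σV w hw
  have hσσw : σ (σ w) ∈ V := H.σV _ hσw
  have h1 : σ w ≠ w := fun h => hw1 (H.σVfpf w hw h)
  have h2 : σ w ≠ 1 := fun h => hw1 (by
    have : σ w = σ 1 := by rw [h, map_one]
    exact σ.injective this)
  have h3 : σ (σ w) ≠ σ w := fun h => h1 (σ.injective h)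
  have h4 : σ (σ w) ≠ 1 := fun h => h2 (by
    have : σ (σ w) = σ 1 := by rw [h, map_one]
    exact σ.injective this)
  have h5 : σ (σ w) ≠ w := by
    intro h
    apply h1
    have := congrArg σ h
    rw [H.σ3] at this
    exact this.symm
  let s : Finset V := {⟨1, V.one_mem⟩, ⟨w, hw⟩, ⟨σ w, hσw⟩, ⟨σ (σ w), hσσw⟩}
  have hs : s.card = 4 := by
    rw [Finset.card_insert_of_notMem, Finset.card_insert_of_notMem, Finset.card_insert_of_notMem,
      Finset.card_singleton]
    · simp only [Finset.mem_singleton, Subtype.mk.injEq]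
      exact fun h => h3 h.symm
    · simp only [Finset.mem_insert, Finset.mem_singleton, Subtype.mk.injEq, not_or]
      exact ⟨fun h => h1 h.symm, fun h => h5 h.symm⟩
    · simp only [Finset.mem_insert, Finset.mem_singleton, Subtype.mk.injEq, not_or]
      exact ⟨fun h => hw1 h.symm, fun h => h2 h.symm, fun h => h4 h.symm⟩
  have hcard : Fintype.card V = 4 := by rw [← Nat.card_eq_fintype_card]; exact H.Vcard
  have huniv : s = Finset.univ := Finset.eq_univ_of_card s (by rw [hs, hcard])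
  have hmem : (⟨u, hu⟩ : V) ∈ s := by rw [huniv]; exact Finset.mem_univ _
  simp only [s, Finset.mem_insert, Finset.mem_singleton, Subtype.mk.injEq] at hmem
  exact hmem

/-- the core of FO-C1 with `Fpf3 σ` (FO-A1) as a hypothesis -/
theorem card_of_inv_aux (H : Hyp V τ σ) (hfpf : Fpf3 σ) (S : Subgroup T) (hVS : V ≤ S)
    (hτ : ∀ x ∈ S, τ x ∈ S)
    (hσ : ∀ x ∈ S, σ x ∈ S) (hc : ∀ a ∈ S, ∀ b ∈ S, a * b = b * a) (e : T) (heS : e ∈ S)
    (he2 : e * e = 1) (heV : e ∉ V) : Nat.card S = 16 ∧ ∀ x ∈ S, x * x = 1 := by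
  classical
  have hfin := H.fin
  -- `u = e τ(e)`
  have hτe : τ e ∈ S := hτ e heS
  obtain ⟨u, hu⟩ : ∃ u : T, u = e * τ e := ⟨_, rfl⟩
  have huV : u ∈ V := by
    apply H.fix
    rw [hu, map_mul, H.τ2]
    exact (hc e heS _ hτe).symm
  have hu1 : u ≠ 1 := by
    intro h
    apply heV
    apply H.fix
    rw [hu] at h
    have h1 : τ e = e⁻¹ := (inv_eq_of_mul_eq_one_right h).symm
    have h2 : e⁻¹ = e := inv_eq_of_mul_eq_one_left he2
    rw [h1, h2]
  -- elements of `S` inverted by `τ` of order dividing 4 have order dividing 2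
  have key4 : ∀ z ∈ S, τ z = z⁻¹ → z ^ 4 = 1 → z * z = 1 := by
    intro z hzS hzτ hz4
    by_contra hz2
    obtain ⟨w, hw⟩ : ∃ w : T, w = z * z := ⟨_, rfl⟩
    have hw1 : w ≠ 1 := by rw [hw]; exact hz2
    have hwV : w ∈ V := by
      apply H.fix
      rw [hw, map_mul, hzτ]
      have : z⁻¹ * z⁻¹ = (z ^ 4)⁻¹ * (z * z) := by group
      rw [this, hz4, inv_one, one_mul]
    -- some `y ∈ S` inverted by `τ` has `y * y = u`
    have hex : ∃ y ∈ S, τ y = y⁻¹ ∧ y * y = u := by
      rcases V_cases H w hwV hw1 u huV with h | h | h | h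
      · exact absurd h hu1
      · exact ⟨z, hzS, hzτ, by rw [h, hw]⟩
      · refine ⟨σ z, hσ z hzS, ?_, by rw [h, hw, map_mul]⟩
        rw [H.comm, hzτ, map_inv]
      · refine ⟨σ (σ z), hσ _ (hσ z hzS), ?_, by rw [h, hw, map_mul, map_mul]⟩
        rw [H.comm, H.comm, hzτ, map_inv, map_inv]
    obtain ⟨y, hyS, hyτ, hyu⟩ := hex
    -- `e y` is fixed by `τ`
    have heyV : e * y ∈ V := by
      apply H.fix
      rw [map_mul, hyτ]
      have h1 : τ e = e * u := by
        rw [hu, ← mul_assoc, he2, one_mul]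
      rw [h1, ← hyu]
      group
    -- then `τ e = e`
    apply heV
    apply H.fix
    have h1 : τ (e * y) = e * y := H.τV _ heyV
    rw [map_mul, hyτ] at h1
    -- `τ e = e y y`
    have h2 : τ e = e * y * y := by
      calc τ e = τ e * y⁻¹ * y := by group
        _ = e * y * y := by rw [h1]
    -- and `e y y = e u`, `τ e = e u` always; so need `τ e = e`: use `(e y)² = 1`
    have h3 : (e * y) * (e * y) = 1 := H.Vsq _ heyV
    have h4 : e * y * y = e⁻¹ := by
      have h5 := hc e heS y hyS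
      have : e * (e * y * y) = 1 := by
        calc e * (e * y * y) = e * (e * y) * y := by group
          _ = e * (y * e) * y := by rw [h5]
          _ = (e * y) * (e * y) := by group
          _ = 1 := h3
      exact (inv_eq_of_mul_eq_one_right this).symm
    rw [h2, h4]
    exact inv_eq_of_mul_eq_one_left he2
  -- elements of `S` inverted by `τ` lie in `V`
  have keyI : ∀ y ∈ S, τ y = y⁻¹ → y ∈ V := by
    intro y hyS hyτ
    have hy2 : y * y = 1 := by
      obtain ⟨k, hk⟩ := (IsPGroup.iff_orderOf.mp H.pg) y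
      by_cases hk1 : k ≤ 1
      · have : y ^ 2 = 1 := by
          apply orderOf_dvd_iff_pow_eq_one.mp
          rw [hk]
          exact pow_dvd_pow 2 hk1 |>.trans (by norm_num)
        rw [← pow_two]; exact this
      · exfalso
        push Not at hk1
        obtain ⟨j, rfl⟩ : ∃ j, k = j + 2 := ⟨k - 2, by omega⟩
        have hz := key4 (y ^ 2 ^ j) (S.pow_mem hyS _) (by rw [map_pow, hyτ, inv_pow]) (by
          rw [← pow_mul]
          have : 2 ^ j * 4 = 2 ^ (j + 2) := by ring
          rw [this, ← hk]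
          exact pow_orderOf_eq_one y)
        have hne : y ^ (2 ^ (j + 1)) ≠ 1 := by
          apply pow_ne_one_of_lt_orderOf (by positivity)
          rw [hk]
          exact Nat.pow_lt_pow_right (by norm_num) (by omega)
        apply hne
        have : y ^ 2 ^ j * y ^ 2 ^ j = y ^ (2 ^ (j + 1)) := by
          rw [← pow_add]; congr 1; ring
        rw [← this]; exact hz
    apply H.fix
    rw [hyτ]
    exact inv_eq_of_mul_eq_one_left hy2
  -- the hom `x ↦ x τ(x)` from `S` to `V`
  have hvV : ∀ x ∈ S, x * τ x ∈ V := by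
    intro x hx
    apply H.fix
    rw [map_mul, H.τ2]
    exact (hc x hx _ (hτ x hx)).symm
  let f : S →* V :=
    { toFun := fun x => ⟨x.1 * τ x.1, hvV x.1 x.2⟩
      map_one' := by
        apply Subtype.ext
        show (1 : T) * τ 1 = 1
        rw [map_one, one_mul]
      map_mul' := by
        intro x y
        apply Subtype.ext
        show (x.1 * y.1) * τ (x.1 * y.1) = (x.1 * τ x.1) * (y.1 * τ y.1)
        rw [map_mul]
        have h1 := hc y.1 y.2 _ (hτ x.1 x.2)
        calc x.1 * y.1 * (τ x.1 * τ y.1) = x.1 * (y.1 * τ x.1) * τ y.1 := by group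
          _ = x.1 * (τ x.1 * y.1) * τ y.1 := by rw [h1]
          _ = x.1 * τ x.1 * (y.1 * τ y.1) := by group }
  have hker : Nat.card f.ker ≤ 4 := by
    rw [← H.Vcard]
    apply Nat.card_le_card_of_injective (fun x : f.ker => (⟨x.1.1, by
      apply keyI x.1.1 x.1.2
      have h1 : f x.1 = 1 := x.2
      have h2 : x.1.1 * τ x.1.1 = 1 := congrArg Subtype.val h1
      exact (inv_eq_of_mul_eq_one_right h2).symm⟩ : V))
    intro a b hab
    have : a.1.1 = b.1.1 := congrArg (fun v : V => v.1) hab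
    exact Subtype.ext (Subtype.ext this)
  have hrange : Nat.card f.range ≤ 4 := by
    rw [← H.Vcard]
    exact Nat.card_le_card_of_injective (fun x : f.range => x.1) Subtype.val_injective
  have hS16 : Nat.card S ≤ 16 := by
    have h1 : Nat.card S = Nat.card f.ker * Nat.card f.range := by
      rw [← Subgroup.index_ker, mul_comm]
      exact (Subgroup.index_mul_card f.ker).symm
    rw [h1]
    calc Nat.card f.ker * Nat.card f.range ≤ 4 * 4 := Nat.mul_le_mul hker hrange
      _ = 16 := by norm_num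
  -- the subgroup of the elements of order dividing 2
  let Ω : Subgroup T :=
    { carrier := {x | x ∈ S ∧ x * x = 1}
      one_mem' := ⟨S.one_mem, by simp⟩
      mul_mem' := by
        rintro x y ⟨hx, hx2⟩ ⟨hy, hy2⟩
        refine ⟨S.mul_mem hx hy, ?_⟩
        have h1 := hc y hy x hx
        calc x * y * (x * y) = x * (y * x) * y := by group
          _ = x * (x * y) * y := by rw [h1]
          _ = (x * x) * (y * y) := by group
          _ = 1 := by rw [hx2, hy2, one_mul]
      inv_mem' := by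
        rintro x ⟨hx, hx2⟩
        refine ⟨S.inv_mem hx, ?_⟩
        calc x⁻¹ * x⁻¹ = (x * x)⁻¹ := by group
          _ = 1 := by rw [hx2, inv_one] }
  have hΩS : Ω ≤ S := fun x hx => hx.1
  have hVΩ : V ≤ Ω := fun v hv => ⟨hVS hv, H.Vsq v hv⟩
  have heΩ : e ∈ Ω := ⟨heS, he2⟩
  have hΩσ : ∀ x ∈ Ω, σ x ∈ Ω := by
    rintro x ⟨hx, hx2⟩
    refine ⟨hσ x hx, ?_⟩
    rw [← map_mul, hx2, map_one]
  have hmod := hfpf.card_mod_three Ω hΩσ
  have hle : Nat.card Ω ≤ 16 := (Subgroup.card_le_of_le hΩS).trans hS16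
  have hdvd : 4 ∣ Nat.card Ω := by
    rw [← H.Vcard]
    exact Subgroup.card_dvd_of_le hVΩ
  have hne4 : Nat.card Ω ≠ 4 := by
    intro h
    have : V = Ω := Subgroup.eq_of_le_of_card_ge hVΩ (by rw [h, H.Vcard])
    apply heV
    rw [this]
    exact heΩ
  have hΩ16 : Nat.card Ω = 16 := by
    obtain ⟨m, hm⟩ := hdvd
    have hpos : 0 < Nat.card Ω := Nat.card_pos
    have : m ≤ 4 := by omega
    interval_cases m <;> omega
  have hS : Nat.card S = 16 := le_antisymm hS16 (by rw [← hΩ16]; exact Subgroup.card_le_of_le hΩS)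
  refine ⟨hS, ?_⟩
  have hΩeq : Ω = S := Subgroup.eq_of_le_of_card_ge hΩS (by rw [hS, hΩ16])
  intro x hx
  have : x ∈ Ω := by rw [hΩeq]; exact hx
  exact this.2

/-- **FO-C1** (exact skeleton signature) -/
theorem card_of_inv (H : Hyp V τ σ) (S : Subgroup T) (hVS : V ≤ S) (hτ : ∀ x ∈ S, τ x ∈ S)
    (hσ : ∀ x ∈ S, σ x ∈ S) (hc : ∀ a ∈ S, ∀ b ∈ S, a * b = b * a) (e : T) (heS : e ∈ S)
    (he2 : e * e = 1) (heV : e ∉ V) : Nat.card S = 16 ∧ ∀ x ∈ S, x * x = 1 :=
  card_of_inv_aux H (Cfsg.Agent.Lib.Helper24.S2933FOA.fpf3 H) S hVS hτ hσ hc e heS he2 heV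

end Cfsg.Agent.Lib.Helper6.S2933FOC1
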