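import Mathlib
import Cfsg.Agent.Lib.Helper12.S2933Defs
import Cfsg.Agent.Lib.Helper24.S2933FOA
import Cfsg.Agent.Lib.Helper24.S2933FOA4

/-!
# S2933 farm-out (architect helper12): FO-E2 `pairing`

The `σ`-equivariant pairing `T × D → V`, `(y, d) ↦ d y d⁻¹ y⁻¹`, is zero or non-degenerate:
if `y₀` commutes with one element of `D \ V` it centralizes `D`.
-/

set_option autoImplicit false

namespace Cfsg.Agent.Lib.Helper6.S2933FOE2

open Subgroup Cfsg.Agent.Lib.Helper12.S2933 Cfsg.Agent.Lib.Helper20.Ord64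

variable {T : Type*} [Group T] {V : Subgroup T} {τ σ : MulAut T}

/-- the commutator `κ d y = d y d⁻¹ y⁻¹` -/
def kap (d y : T) : T := d * y * d⁻¹ * y⁻¹

theorem kap_eq_one_iff (d y : T) : kap d y = 1 ↔ d * y = y * d := by
  unfold kap
  constructor
  · intro h
    calc d * y = (d * y * d⁻¹ * y⁻¹) * (y * d) := by group
      _ = y * d := by rw [h, one_mul]
  · intro h
    calc d * y * d⁻¹ * y⁻¹ = (d * y) * d⁻¹ * y⁻¹ := by group
      _ = (y * d) * d⁻¹ * y⁻¹ := by rw [h]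
      _ = 1 := by group

theorem kap_map (ρ : MulAut T) (d y : T) : ρ (kap d y) = kap (ρ d) (ρ y) := by
  unfold kap
  simp only [map_mul, map_inv]

/-- multiplicativity in the second variable -/
theorem kap_mul_right (hVc : ∀ v ∈ V, ∀ x : T, v * x = x * v) (d y y' : T)
    (h' : kap d y' ∈ V) : kap d (y * y') = kap d y * kap d y' := by
  have hc := hVc _ h' (y⁻¹)
  unfold kap at *
  calc d * (y * y') * d⁻¹ * (y * y')⁻¹
      = d * y * d⁻¹ * ((d * y' * d⁻¹ * y'⁻¹) * y⁻¹) := by group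
    _ = d * y * d⁻¹ * (y⁻¹ * (d * y' * d⁻¹ * y'⁻¹)) := by rw [hc]
    _ = d * y * d⁻¹ * y⁻¹ * (d * y' * d⁻¹ * y'⁻¹) := by group

/-- multiplicativity in the first variable -/
theorem kap_mul_left (hVc : ∀ v ∈ V, ∀ x : T, v * x = x * v) (d d' y : T)
    (h' : kap d' y ∈ V) : kap (d * d') y = kap d y * kap d' y := by
  have hc := hVc _ h' (d⁻¹ * y⁻¹)
  have hc2 := hVc _ h' (d * y * d⁻¹ * y⁻¹)
  unfold kap at *
  calc d * d' * y * (d * d')⁻¹ * y⁻¹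
      = d * ((d' * y * d'⁻¹ * y⁻¹) * (y * d⁻¹ * y⁻¹)) := by group
    _ = d * ((y * d⁻¹ * y⁻¹) * (d' * y * d'⁻¹ * y⁻¹)) := by
        rw [hVc _ h' (y * d⁻¹ * y⁻¹)]
    _ = (d * y * d⁻¹ * y⁻¹) * (d' * y * d'⁻¹ * y⁻¹) := by group

/-- the core of FO-E2, with the facts of FO-A as hypotheses -/
theorem pairing_aux (H : Hyp V τ σ) (hfpf : Fpf3 σ)
    (hDc : ∀ x ∈ H.D, ∀ y : T, x * y * x⁻¹ * y⁻¹ ∈ V)
    (hDσ : ∀ x ∈ H.D, σ x ∈ H.D)
    (hVD : V ≤ H.D)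
    (hbetween : ∀ C : Subgroup T, (∀ x ∈ C, σ x ∈ C) → V ≤ C → C ≤ H.D → C = V ∨ C = H.D)
    (y₀ d₀ : T) (hd : d₀ ∈ H.D) (hdV : d₀ ∉ V)
    (h : d₀ * y₀ = y₀ * d₀) : ∀ d ∈ H.D, d * y₀ = y₀ * d := by
  have hfin := H.fin
  have hVc := H.Vcen
  -- notation
  obtain ⟨a, ha⟩ : ∃ a : T, a = d₀ := ⟨_, rfl⟩
  obtain ⟨b, hb⟩ : ∃ b : T, b = σ a := ⟨_, rfl⟩
  obtain ⟨c, hc⟩ : ∃ c : T, c = σ b := ⟨_, rfl⟩
  have haD : a ∈ H.D := by rw [ha]; exact hd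
  have hbD : b ∈ H.D := by rw [hb]; exact hDσ a haD
  have hcD : c ∈ H.D := by rw [hc]; exact hDσ b hbD
  have hσc : σ c = a := by rw [hc, hb]; exact hfpf.cube a
  have habc : a * b * c = 1 := by rw [hc, hb]; exact hfpf.tri a
  have hkV : ∀ d ∈ H.D, ∀ y : T, kap d y ∈ V := fun d hd' y => hDc d hd' y
  -- `κ a y₀ = 1`, `p = κ b y₀`
  have hka : kap a y₀ = 1 := by rw [kap_eq_one_iff, ha]; exact h
  obtain ⟨p, hp⟩ : ∃ p : T, p = kap b y₀ := ⟨_, rfl⟩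
  have hpV : p ∈ V := by rw [hp]; exact hkV b hbD y₀
  have hpp : p * p = 1 := H.Vsq p hpV
  have hpinv : p⁻¹ = p := inv_eq_of_mul_eq_one_left hpp
  -- `κ c y₀ = p`
  have hkc : kap c y₀ = p := by
    have e1 : kap (a * b * c) y₀ = kap a y₀ * kap b y₀ * kap c y₀ := by
      rw [kap_mul_left hVc (a * b) c y₀ (hkV c hcD y₀), kap_mul_left hVc a b y₀ (hkV b hbD y₀)]
    rw [habc, hka, ← hp, one_mul] at e1
    have e2 : kap (1 : T) y₀ = 1 := by unfold kap; group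
    rw [e2] at e1
    have e3 : kap c y₀ = p⁻¹ := (inv_eq_of_mul_eq_one_right e1.symm).symm
    rw [e3, hpinv]
  -- equivariance
  have hk1 : kap a (σ y₀) = σ p := by
    rw [← hkc, kap_map, hσc]
  have hk2 : kap a (σ (σ y₀)) = σ (σ p) := by
    rw [hp, kap_map, kap_map, ← hc, hσc]
  -- the product relation
  have hy : y₀ * σ y₀ * σ (σ y₀) = 1 := hfpf.tri y₀
  have e4 : kap a (y₀ * σ y₀ * σ (σ y₀)) = kap a y₀ * kap a (σ y₀) * kap a (σ (σ y₀)) := by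
    rw [kap_mul_right hVc a (y₀ * σ y₀) (σ (σ y₀)) (hkV a haD _),
      kap_mul_right hVc a y₀ (σ y₀) (hkV a haD _)]
  rw [hy, hka, hk1, hk2, one_mul] at e4
  have e5 : kap a (1 : T) = 1 := by unfold kap; group
  rw [e5] at e4
  -- `σ p * σ (σ p) = 1`, so `σ (σ p) = σ p`, `σ p = p`, `p = 1`
  have hσpV : σ p ∈ V := H.σV p hpV
  have e6 : σ (σ p) = σ p := by
    have h1 : σ (σ p) = (σ p)⁻¹ := (inv_eq_of_mul_eq_one_right e4.symm).symm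
    have h2 : (σ p)⁻¹ = σ p := inv_eq_of_mul_eq_one_left (H.Vsq _ hσpV)
    rw [h1, h2]
  have e7 : σ p = p := σ.injective e6
  have hp1 : p = 1 := H.σVfpf p hpV e7
  have hkb : kap b y₀ = 1 := by rw [← hp, hp1]
  have hkc' : kap c y₀ = 1 := by rw [hkc, hp1]
  -- the subgroup of `D` of the elements whose `σ`-orbit commutes with `y₀`
  let C : Subgroup T :=
    { carrier := {d | d ∈ H.D ∧ d * y₀ = y₀ * d ∧ σ d * y₀ = y₀ * σ d ∧
        σ (σ d) * y₀ = y₀ * σ (σ d)}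
      one_mem' := by
        refine ⟨H.D.one_mem, ?_, ?_, ?_⟩ <;> simp
      mul_mem' := by
        rintro x y ⟨hx0, hx1, hx2, hx3⟩ ⟨hy0, hy1, hy2, hy3⟩
        refine ⟨H.D.mul_mem hx0 hy0, ?_, ?_, ?_⟩
        · rw [mul_assoc, hy1, ← mul_assoc, hx1, mul_assoc]
        · rw [map_mul, mul_assoc, hy2, ← mul_assoc, hx2, mul_assoc]
        · rw [map_mul, map_mul, mul_assoc, hy3, ← mul_assoc, hx3, mul_assoc]
      inv_mem' := by
        rintro x ⟨hx0, hx1, hx2, hx3⟩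
        have inv_comm : ∀ u : T, u * y₀ = y₀ * u → u⁻¹ * y₀ = y₀ * u⁻¹ := by
          intro u hu
          calc u⁻¹ * y₀ = u⁻¹ * (y₀ * u) * u⁻¹ := by group
            _ = u⁻¹ * (u * y₀) * u⁻¹ := by rw [hu]
            _ = y₀ * u⁻¹ := by group
        refine ⟨H.D.inv_mem hx0, inv_comm _ hx1, ?_, ?_⟩
        · rw [map_inv]; exact inv_comm _ hx2
        · rw [map_inv, map_inv]; exact inv_comm _ hx3 }
  have hCσ : ∀ x ∈ C, σ x ∈ C := by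
    rintro x ⟨hx0, hx1, hx2, hx3⟩
    refine ⟨hDσ x hx0, hx2, hx3, ?_⟩
    rw [hfpf.cube x]
    exact hx1
  have hVC : V ≤ C := by
    intro v hv
    exact ⟨hVD hv, hVc v hv y₀, hVc _ (H.σV v hv) y₀, hVc _ (H.σV _ (H.σV v hv)) y₀⟩
  have hCD : C ≤ H.D := fun x hx => hx.1
  have haC : a ∈ C := by
    refine ⟨haD, (kap_eq_one_iff a y₀).mp hka, ?_, ?_⟩
    · rw [← hb]; exact (kap_eq_one_iff b y₀).mp hkb
    · rw [← hb, ← hc]; exact (kap_eq_one_iff c y₀).mp hkc'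
  rcases hbetween C hCσ hVC hCD with hCV | hCD'
  · exfalso
    apply hdV
    rw [← ha, ← hCV]
    exact haC
  · intro d hd'
    have : d ∈ C := by rw [hCD']; exact hd'
    exact this.2.1

/-- FO-E2 with the FO-A4 facts (`D_central`, `D_σ`, `V_le_D`, `card_D`) as hypotheses -/
theorem pairing_of_A4 (H : Hyp V τ σ)
    (hDc : ∀ x ∈ H.D, ∀ y : T, x * y * x⁻¹ * y⁻¹ ∈ V)
    (hDσ : ∀ x ∈ H.D, σ x ∈ H.D)
    (hVD : V ≤ H.D)
    (hcard : Nat.card H.D = 16)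
    (y₀ d₀ : T) (hd : d₀ ∈ H.D) (hdV : d₀ ∉ V)
    (h : d₀ * y₀ = y₀ * d₀) : ∀ d ∈ H.D, d * y₀ = y₀ * d := by
  refine pairing_aux H (Cfsg.Agent.Lib.Helper24.S2933FOA.fpf3 H) hDc hDσ hVD ?_ y₀ d₀ hd hdV h
  intro C hC hVC hCD
  exact Cfsg.Agent.Lib.Helper24.S2933FOA.eq_of_between H V H.D C H.σV hC hVC hCD
    (by rw [hcard, H.Vcard])

/-- **FO-E2** (exact skeleton signature) -/
theorem pairing (H : Hyp V τ σ) (y₀ d₀ : T) (hd : d₀ ∈ H.D) (hdV : d₀ ∉ V)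
    (h : d₀ * y₀ = y₀ * d₀) : ∀ d ∈ H.D, d * y₀ = y₀ * d :=
  pairing_of_A4 H (Cfsg.Agent.Lib.Helper24.S2933FOA4.D_central H)
    (Cfsg.Agent.Lib.Helper24.S2933FOA4.D_σ H) (Cfsg.Agent.Lib.Helper24.S2933FOA4.V_le_D H)
    (Cfsg.Agent.Lib.Helper24.S2933FOA4.card_D H ⟨d₀, hdV⟩) y₀ d₀ hd hdV h

end Cfsg.Agent.Lib.Helper6.S2933FOE2
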