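import Cfsg.Agent.Lib.Helper6.MinDegBSub
import Cfsg.Agent.Lib.Helper20.MinDegCard
import Cfsg.Agent.Lib.Helper5.MinDegProj

/-!
# S2140 front, piece F4: the dichotomy
-/

set_option autoImplicit false

namespace Cfsg.Agent.Lib.Helper11.MinDeg

open Matrix MulAction
open scoped LinearAlgebra.Projectivization

namespace Dich

section alg
variable {F : Type*} [Field F] {n : ℕ}

/-- functionals `φ ⊥ v` with `tv v φ ∈ H` -/
def Bt (H : Subgroup (SpecialLinearGroup (Fin n) F)) (v : Fin n → F) :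
    AddSubgroup (Fin n → F) where
  carrier := {φ | φ ⬝ᵥ v = 0 ∧ tv v φ ∈ H}
  zero_mem' := ⟨zero_dotProduct v, by rw [tv_zero]; exact H.one_mem⟩
  add_mem' := fun {a b} ha hb =>
    ⟨by rw [add_dotProduct, ha.1, hb.1, add_zero],
      by rw [← tv_mul_tv ha.1 hb.1]; exact H.mul_mem ha.2 hb.2⟩
  neg_mem' := fun {a} ha =>
    ⟨by rw [neg_dotProduct, ha.1, neg_zero], by rw [← tv_inv ha.1]; exact H.inv_mem ha.2⟩

theorem mem_Bt {H : Subgroup (SpecialLinearGroup (Fin n) F)} {v φ : Fin n → F} :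
    φ ∈ Bt H v ↔ φ ⬝ᵥ v = 0 ∧ tv v φ ∈ H := Iff.rfl

theorem mem_A_inf_iff {H : Subgroup (SpecialLinearGroup (Fin n) F)} {v : Fin n → F}
    (hv : v ≠ 0) (g : SpecialLinearGroup (Fin n) F) :
    g ∈ A v ⊓ H ↔ ∃ φ ∈ Bt H v, g = tv v φ := by
  rw [Subgroup.mem_inf, mem_A_iff hv]
  constructor
  · rintro ⟨⟨φ, hφ, rfl⟩, hH⟩
    exact ⟨φ, ⟨hφ, hH⟩, rfl⟩
  · rintro ⟨φ, ⟨hφ, hH⟩, rfl⟩
    exact ⟨⟨φ, hφ, rfl⟩, hH⟩

theorem card_A_inf {H : Subgroup (SpecialLinearGroup (Fin n) F)} {v : Fin n → F}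
    (hv : v ≠ 0) : Nat.card ↥(A v ⊓ H) = Nat.card ↥(Bt H v) := by
  refine (Nat.card_congr (Equiv.ofBijective
    (fun φ : ↥(Bt H v) => (⟨tv v φ, (mem_A_inf_iff hv _).2 ⟨φ, φ.2, rfl⟩⟩ : ↥(A v ⊓ H)))
    ⟨?_, ?_⟩)).symm
  · intro φ ψ h
    have h' : tv v (φ : Fin n → F) = tv v (ψ : Fin n → F) := congrArg Subtype.val h
    exact Subtype.ext (tv_injective hv φ.2.1 ψ.2.1 h')
  · rintro ⟨g, hg⟩
    obtain ⟨φ, hφ, rfl⟩ := (mem_A_inf_iff hv g).1 hg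
    exact ⟨⟨φ, hφ⟩, rfl⟩

/-- conjugating `A (g • u)` back to `A u` -/
theorem card_conj (g : SpecialLinearGroup (Fin n) F) (u : Fin n → F)
    (K : Subgroup (SpecialLinearGroup (Fin n) F)) :
    Nat.card {a : SpecialLinearGroup (Fin n) F // a ∈ A (g • u) ∧ g⁻¹ * a * g ∈ K} =
      Nat.card ↥(A u ⊓ K) := by
  refine Nat.card_congr ?_
  refine
    { toFun := fun a => ⟨g⁻¹ * a.1 * g, (mem_A_smul_iff g a.1 u).1 a.2.1, a.2.2⟩
      invFun := fun b => ⟨g * b.1 * g⁻¹, ?_, ?_⟩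
      left_inv := fun a => by simp [mul_assoc]
      right_inv := fun b => by simp [mul_assoc] }
  · rw [mem_A_smul_iff]
    have : g⁻¹ * (g * b.1 * g⁻¹) * g = b.1 := by simp [mul_assoc]
    rw [this]
    exact b.2.1
  · have : g⁻¹ * (g * b.1 * g⁻¹) * g = b.1 := by simp [mul_assoc]
    rw [this]
    exact b.2.2

/-- `|A v ∩ H|` does not depend on `v ≠ 0` when `H` is transitive on points -/
theorem card_A_inf_const (H : Subgroup (SpecialLinearGroup (Fin n) F))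
    (htr : MulAction.IsPretransitive H (ℙ F (Fin n → F))) {v v' : Fin n → F}
    (hv : v ≠ 0) (hv' : v' ≠ 0) :
    Nat.card ↥(A v' ⊓ H) = Nat.card ↥(A v ⊓ H) := by
  obtain ⟨⟨h, hh⟩, hhp⟩ :=
    htr.exists_smul_eq (Projectivization.mk F v hv) (Projectivization.mk F v' hv')
  have h1 : (h • Projectivization.mk F v hv : ℙ F (Fin n → F)) =
      Projectivization.mk F v' hv' := hhp
  rw [Projectivization.smul_mk, Projectivization.mk_eq_mk_iff'] at h1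
  obtain ⟨a, ha⟩ := h1
  have ha0 : a ≠ 0 := by
    rintro rfl
    rw [zero_smul] at ha
    exact (smul_ne_zero_iff_ne h).2 hv ha.symm
  have hA : A v' = A (h • v) := by rw [← ha, A_smul_scalar ha0]
  rw [← card_conj h v H, hA]
  refine Nat.card_congr (Equiv.subtypeEquivRight ?_)
  intro x
  rw [Subgroup.mem_inf]
  refine and_congr_right (fun _ => ?_)
  constructor
  · intro hx
    exact H.mul_mem (H.mul_mem (H.inv_mem hh) hx) hh
  · intro hx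
    have := H.mul_mem (H.mul_mem hh hx) (H.inv_mem hh)
    simpa [mul_assoc] using this

/-- a subgroup of `A v` from an additive group of functionals -/
def tvGrp (v : Fin n → F) (S : AddSubgroup (Fin n → F)) (hS : ∀ φ ∈ S, φ ⬝ᵥ v = 0) :
    Subgroup (SpecialLinearGroup (Fin n) F) where
  carrier := {g | ∃ φ ∈ S, g = tv v φ}
  one_mem' := ⟨0, S.zero_mem, (tv_zero v).symm⟩
  mul_mem' := by
    rintro _ _ ⟨φ, hφ, rfl⟩ ⟨ψ, hψ, rfl⟩
    exact ⟨φ + ψ, S.add_mem hφ hψ, tv_mul_tv (hS φ hφ) (hS ψ hψ)⟩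
  inv_mem' := by
    rintro _ ⟨φ, hφ, rfl⟩
    exact ⟨-φ, S.neg_mem hφ, tv_inv (hS φ hφ)⟩

theorem tv_mem_tvGrp_iff {v : Fin n → F} (hv : v ≠ 0) {S : AddSubgroup (Fin n → F)}
    (hS : ∀ φ ∈ S, φ ⬝ᵥ v = 0) {φ : Fin n → F} (hφ : φ ⬝ᵥ v = 0) :
    tv v φ ∈ tvGrp v S hS ↔ φ ∈ S := by
  constructor
  · rintro ⟨ψ, hψ, h⟩
    rw [tv_injective hv hφ (hS ψ hψ) h]
    exact hψ
  · intro h
    exact ⟨φ, h, rfl⟩

/-- the additive group of functionals `ψ ⊥ v` whose value at `w` is attained on `Bt H v` -/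
def Ut (H : Subgroup (SpecialLinearGroup (Fin n) F)) (v w : Fin n → F) :
    AddSubgroup (Fin n → F) where
  carrier := {ψ | ψ ⬝ᵥ v = 0 ∧ ∃ φ ∈ Bt H v, ψ ⬝ᵥ w = φ ⬝ᵥ w}
  zero_mem' := ⟨zero_dotProduct v, 0, (Bt H v).zero_mem, rfl⟩
  add_mem' := by
    rintro a b ⟨ha, φ, hφ, ha'⟩ ⟨hb, ψ, hψ, hb'⟩
    refine ⟨by rw [add_dotProduct, ha, hb, add_zero], φ + ψ, (Bt H v).add_mem hφ hψ, ?_⟩
    rw [add_dotProduct, add_dotProduct, ha', hb']
  neg_mem' := by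
    rintro a ⟨ha, φ, hφ, ha'⟩
    refine ⟨by rw [neg_dotProduct, ha, neg_zero], -φ, (Bt H v).neg_mem hφ, ?_⟩
    rw [neg_dotProduct, neg_dotProduct, ha']

theorem Ut_perp (H : Subgroup (SpecialLinearGroup (Fin n) F)) (v w : Fin n → F) :
    ∀ φ ∈ Ut H v w, φ ⬝ᵥ v = 0 := fun _ h => h.1

/-- the invariance lemma: step (f) of the plan -/
theorem key_K (H : Subgroup (SpecialLinearGroup (Fin n) F)) {v : Fin n → F} (hv : v ≠ 0)
    (huniq : ∀ U : Subgroup (SpecialLinearGroup (Fin n) F), (∃ a ∈ A v, a ∉ U) →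
      ∀ g g' : SpecialLinearGroup (Fin n) F,
       (∀ a ∈ A v, g⁻¹ * a * g ∈ H → a ∈ U) → (∀ a ∈ A v, g'⁻¹ * a * g' ∈ H → a ∈ U) →
       ∀ a ∈ A v, (g⁻¹ * a * g ∈ H ↔ g'⁻¹ * a * g' ∈ H))
    {w : Fin n → F} (hw : w ∉ F ∙ v) {c : F} (hc : ∀ φ ∈ Bt H v, φ ⬝ᵥ w ≠ c)
    {ξ y : Fin n → F} (hξv : ξ ⬝ᵥ v = 0) (hξw : ξ ⬝ᵥ w = 0) (hξy : ξ ⬝ᵥ y = 0)
    {φ : Fin n → F} (hφ : φ ∈ Bt H v) : (φ ⬝ᵥ y) • ξ ∈ Bt H v := by
  -- conjugation by `x = tv y ξ`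
  have hconj : ∀ ψ : Fin n → F, ψ ⬝ᵥ v = 0 →
      (tv y ξ)⁻¹⁻¹ * tv v ψ * (tv y ξ)⁻¹ = tv v (ψ - (ψ ⬝ᵥ y) • ξ) := by
    intro ψ hψ
    rw [inv_inv, tv_conj_tv hξy hψ, hξv, zero_smul, add_zero]
  have hperp : ∀ ψ : Fin n → F, ψ ⬝ᵥ v = 0 → (ψ - (ψ ⬝ᵥ y) • ξ) ⬝ᵥ v = 0 := by
    intro ψ hψ
    rw [sub_dotProduct, smul_dotProduct, hψ, hξv, smul_zero, sub_zero]
  have hU : ∃ a ∈ A v, a ∉ tvGrp v (Ut H v w) (Ut_perp H v w) := by
    obtain ⟨ξ₀, hξ₀, hξ₀w⟩ := exists_dual hw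
    have h0 : (c • ξ₀) ⬝ᵥ v = 0 := by
      rw [smul_dotProduct, hξ₀ v (Submodule.mem_span_singleton_self v), smul_zero]
    refine ⟨tv v (c • ξ₀), tv_mem_A h0, ?_⟩
    rw [tv_mem_tvGrp_iff hv _ h0]
    rintro ⟨-, φ', hφ', h⟩
    apply hc φ' hφ'
    rw [← h, smul_dotProduct, hξ₀w, smul_eq_mul, mul_one]
  have h1 : ∀ a ∈ A v, (1 : SpecialLinearGroup (Fin n) F)⁻¹ * a * 1 ∈ H →
      a ∈ tvGrp v (Ut H v w) (Ut_perp H v w) := by
    intro a ha haH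
    obtain ⟨ψ, hψ, rfl⟩ := (mem_A_iff hv a).1 ha
    rw [inv_one, one_mul, mul_one] at haH
    rw [tv_mem_tvGrp_iff hv _ hψ]
    exact ⟨hψ, ψ, ⟨hψ, haH⟩, rfl⟩
  have h2 : ∀ a ∈ A v, ((tv y ξ)⁻¹)⁻¹ * a * (tv y ξ)⁻¹ ∈ H →
      a ∈ tvGrp v (Ut H v w) (Ut_perp H v w) := by
    intro a ha haH
    obtain ⟨ψ, hψ, rfl⟩ := (mem_A_iff hv a).1 ha
    rw [hconj ψ hψ] at haH
    rw [tv_mem_tvGrp_iff hv _ hψ]
    refine ⟨hψ, ψ - (ψ ⬝ᵥ y) • ξ, ⟨hperp ψ hψ, haH⟩, ?_⟩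
    rw [sub_dotProduct, smul_dotProduct, hξw, smul_zero, sub_zero]
  have h3 := (huniq _ hU 1 (tv y ξ)⁻¹ h1 h2 (tv v φ) (tv_mem_A hφ.1)).1
    (by rw [inv_one, one_mul, mul_one]; exact hφ.2)
  rw [hconj φ hφ.1] at h3
  have h4 : φ - (φ ⬝ᵥ y) • ξ ∈ Bt H v := ⟨hperp φ hφ.1, h3⟩
  have h5 := (Bt H v).sub_mem hφ h4
  rwa [sub_sub_cancel] at h5

end alg

section fin
variable {F : Type*} [Field F] [Fintype F] {n : ℕ}

/-- step (c): fixed point counts are constant on `A v ∖ 1` -/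
theorem card_fixedBy_const (hn : 3 ≤ n) (H : Subgroup (SpecialLinearGroup (Fin n) F))
    {v : Fin n → F} (hv : v ≠ 0) {t t' : SpecialLinearGroup (Fin n) F} (ht : t ∈ A v)
    (ht' : t' ∈ A v) (h1 : t ≠ 1) (h1' : t' ≠ 1) :
    Nat.card (fixedBy (SpecialLinearGroup (Fin n) F ⧸ H) t') =
      Nat.card (fixedBy (SpecialLinearGroup (Fin n) F ⧸ H) t) := by
  obtain ⟨φ, hφ, rfl⟩ := (mem_A_iff hv t).1 ht
  obtain ⟨φ', hφ', rfl⟩ := (mem_A_iff hv t').1 ht'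
  have h0 : φ ≠ 0 := by rintro rfl; exact h1 (tv_zero v)
  have h0' : φ' ≠ 0 := by rintro rfl; exact h1' (tv_zero v)
  obtain ⟨g, -, hg⟩ := exists_conj_tv hn hv hφ hφ' h0 h0'
  rw [← hg, card_fixedBy_conj]

/-- the linear algebra endgame of step (f) -/
theorem key_L (hn : 3 ≤ n) {q : ℕ} (hq : Fintype.card F = q)
    (H : Subgroup (SpecialLinearGroup (Fin n) F)) {v w : Fin n → F}
    (hK : ∀ ξ y φ : Fin n → F, ξ ⬝ᵥ v = 0 → ξ ⬝ᵥ w = 0 → ξ ⬝ᵥ y = 0 → φ ∈ Bt H v →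
      (φ ⬝ᵥ y) • ξ ∈ Bt H v)
    (hβ2 : q ^ (n - 1) ≤ Nat.card ↥(Bt H v) * Nat.card ↥(Bt H v))
    {ξ : Fin n → F} (hξv : ξ ⬝ᵥ v = 0) (hξw : ξ ⬝ᵥ w = 0) : ξ ∈ Bt H v := by
  by_cases h : ∃ φ₀ ∈ Bt H v, φ₀ ∉ F ∙ ξ
  · obtain ⟨φ₀, hφ₀, hnot⟩ := h
    obtain ⟨y, hy, hy1⟩ := exists_dual hnot
    have hξy : ξ ⬝ᵥ y = 0 := by
      rw [dotProduct_comm]; exact hy ξ (Submodule.mem_span_singleton_self ξ)
    have := hK ξ y φ₀ hξv hξw hξy hφ₀
    rwa [dotProduct_comm, hy1, one_smul] at this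
  · push Not at h
    have hsub : ((Bt H v : AddSubgroup (Fin n → F)) : Set (Fin n → F)) ⊆
        Set.range (fun c : F => c • ξ) := by
      intro φ hφ
      obtain ⟨c, hc⟩ := Submodule.mem_span_singleton.1 (h φ hφ)
      exact ⟨c, hc⟩
    have hfin : (Set.range (fun c : F => c • ξ)).Finite := Set.finite_range _
    have hle1 : (Set.range (fun c : F => c • ξ)).ncard ≤ q := by
      rw [← hq, ← Nat.card_eq_fintype_card, ← Nat.card_coe_set_eq]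
      exact Nat.card_le_card_of_surjective _ Set.rangeFactorization_surjective
    have hcard : Nat.card ↥(Bt H v) =
        ((Bt H v : AddSubgroup (Fin n → F)) : Set (Fin n → F)).ncard :=
      Nat.card_coe_set_eq _
    have hle2 := Set.ncard_le_ncard hsub hfin
    have hq2 : q ^ 2 ≤ q ^ (n - 1) := by
      have hq1 : 1 ≤ q := by rw [← hq]; exact Fintype.card_pos
      exact Nat.pow_le_pow_right hq1 (by omega)
    have hqb : q ≤ Nat.card ↥(Bt H v) := by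
      by_contra hlt
      push Not at hlt
      have : Nat.card ↥(Bt H v) * Nat.card ↥(Bt H v) < q * q :=
        Nat.mul_lt_mul'' hlt hlt
      rw [pow_two] at hq2
      omega
    have heq := Set.eq_of_subset_of_ncard_le hsub (by rw [← hcard]; omega) hfin
    have hmem : ξ ∈ Set.range (fun c : F => c • ξ) := ⟨1, one_smul _ _⟩
    rw [← heq] at hmem
    exact hmem

theorem theta_split {q n : ℕ} (hq : 2 ≤ q) (hn : 1 ≤ n) :
    theta q n = theta q (n - 1) + q ^ (n - 1) ∧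
      theta q (n - 1) * (q - 1) + 1 = q ^ (n - 1) := by
  unfold theta
  rw [← Nat.geomSum_eq hq, ← Nat.geomSum_eq hq]
  obtain ⟨k, rfl⟩ : ∃ k, n = k + 1 := ⟨n - 1, by omega⟩
  refine ⟨by rw [Finset.sum_range_succ]; rfl, ?_⟩
  simp only [Nat.add_sub_cancel]
  have := geom_sum_mul_add (q - 1) k
  rwa [Nat.sub_add_cancel (by omega)] at this

theorem arith_core {r Q T f s : ℕ} (hT : T * r + 1 = Q) (hf : f < T)
    (hs : (f + 1) * s = f + Q) : r + 1 ≤ s := by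
  by_contra hlt
  push Not at hlt
  have h1 : s ≤ r := by omega
  have h2 : (f + 1) * s ≤ (f + 1) * r := Nat.mul_le_mul_left _ h1
  have h3 : (f + 1) * r ≤ T * r := Nat.mul_le_mul_right _ (by omega)
  omega

/-- the statement for a single `v` -/
theorem per_v (hn : 3 ≤ n) {q : ℕ} (hq : Fintype.card F = q)
    (H : Subgroup (SpecialLinearGroup (Fin n) F))
    (htr : MulAction.IsPretransitive H (ℙ F (Fin n → F)))
    (hno : ∀ v : Fin n → F, v ≠ 0 → ¬ A v ≤ H)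
    (hidx : H.index < theta q n) {v : Fin n → F} (hv : v ≠ 0) :
    (Nat.card ↥(A v ⊓ H) = 1 → H.index = q ^ (n - 1)) ∧
    (Nat.card ↥(A v ⊓ H) ≠ 1 → ∃ w : Fin n → F, w ∉ F ∙ v ∧ A v ⊓ H = A2 v w) := by
  classical
  have hq2 : 2 ≤ q := by rw [← hq]; exact Fintype.one_lt_card
  have hQ : Nat.card ↥(A v) = q ^ (n - 1) := card_A hv hq
  obtain ⟨t₀, ht₀, ht₀H⟩ := SetLike.not_le_iff_exists.1 (hno v hv)
  have ht₀1 : t₀ ≠ 1 := by rintro rfl; exact ht₀H H.one_mem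
  have hfix : ∀ t ∈ A v, t ≠ 1 →
      Nat.card (fixedBy (SpecialLinearGroup (Fin n) F ⧸ H) t) =
        Nat.card (fixedBy (SpecialLinearGroup (Fin n) F ⧸ H) t₀) :=
    fun t ht h1 => card_fixedBy_const hn H hv ht₀ ht ht₀1 h1
  have hβ : ∀ g : SpecialLinearGroup (Fin n) F,
      Nat.card {a : SpecialLinearGroup (Fin n) F // a ∈ A v ∧ g⁻¹ * a * g ∈ H} =
        Nat.card ↥(A v ⊓ H) := by
    intro g
    have hgv : g⁻¹ • v ≠ 0 := (smul_ne_zero_iff_ne g⁻¹).2 hv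
    have := card_conj g (g⁻¹ • v) H
    rw [smul_inv_smul] at this
    rw [this]
    exact card_A_inf_const H htr hv hgv
  have hno' : ∀ g : SpecialLinearGroup (Fin n) F, ∃ a ∈ A v, g⁻¹ * a * g ∉ H := by
    intro g
    by_contra hall
    push Not at hall
    apply hno (g⁻¹ • v) ((smul_ne_zero_iff_ne g⁻¹).2 hv)
    intro b hb
    rw [mem_A_smul_iff, inv_inv] at hb
    have := hall _ hb
    simpa [mul_assoc] using this
  obtain ⟨hth1, hth2⟩ := theta_split hq2 (by omega : 1 ≤ n)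
  have hTlt : theta q (n - 1) < q ^ (n - 1) := by
    have : theta q (n - 1) * 1 ≤ theta q (n - 1) * (q - 1) :=
      Nat.mul_le_mul_left _ (by omega)
    omega
  have hlt : H.index < 2 * Nat.card ↥(A v) := by
    rw [hQ]; omega
  obtain ⟨hidx', ⟨s, hsβ, hs⟩, hf2, huniq⟩ :=
    burnside_sub (A v) H (fun x hx y hy => A_comm v hx hy) _ _ hfix hβ hno' hlt
  rw [hQ] at hidx' hsβ hs hf2
  have hQ2 : 2 ≤ q ^ (n - 1) := by
    calc 2 ≤ q := hq2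
      _ = q ^ 1 := (pow_one q).symm
      _ ≤ q ^ (n - 1) := Nat.pow_le_pow_right (by omega) (by omega)
  refine ⟨?_, ?_⟩
  · intro hβ1
    rw [hβ1, mul_one] at hsβ
    rw [hsβ] at hs
    have hf0 : Nat.card (fixedBy (SpecialLinearGroup (Fin n) F ⧸ H) t₀) = 0 := by
      by_contra hne
      have : Nat.card (fixedBy (SpecialLinearGroup (Fin n) F ⧸ H) t₀) * 2 ≤
          Nat.card (fixedBy (SpecialLinearGroup (Fin n) F ⧸ H) t₀) * q ^ (n - 1) :=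
        Nat.mul_le_mul_left _ hQ2
      rw [add_mul, one_mul] at hs
      omega
    rw [hidx', hf0, zero_add]
  · intro hβ1
    have hf0 : Nat.card (fixedBy (SpecialLinearGroup (Fin n) F ⧸ H) t₀) ≠ 0 := by
      intro hf0
      rw [hf0, zero_add, one_mul, zero_add] at hs
      rw [hs] at hsβ
      apply hβ1
      have : q ^ (n - 1) * Nat.card ↥(A v ⊓ H) = q ^ (n - 1) * 1 := by rw [hsβ, mul_one]
      exact Nat.eq_of_mul_eq_mul_left (by omega) this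
    have hβ2 : q ^ (n - 1) ≤ Nat.card ↥(A v ⊓ H) * Nat.card ↥(A v ⊓ H) := by
      rcases hf2 with h | h
      · exact absurd h hf0
      · exact h
    -- `q ≤ s`
    have hflt : Nat.card (fixedBy (SpecialLinearGroup (Fin n) F ⧸ H) t₀) < theta q (n - 1) := by
      omega
    have hqs : q - 1 + 1 ≤ s := arith_core hth2 hflt hs
    have hβle : Nat.card ↥(A v ⊓ H) ≤ q ^ (n - 2) := by
      have h1 : q * Nat.card ↥(A v ⊓ H) ≤ s * Nat.card ↥(A v ⊓ H) :=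
        Nat.mul_le_mul_right _ (by omega)
      have h2 : q ^ (n - 1) = q * q ^ (n - 2) := by
        rw [← pow_succ']; congr 1; omega
      rw [hsβ, h2] at h1
      exact Nat.le_of_mul_le_mul_left h1 (by omega)
    -- the direction `w`
    obtain ⟨φ₀, hφ₀, rfl⟩ := (mem_A_iff hv t₀).1 ht₀
    obtain ⟨w, hw, c, hc⟩ := exists_proj_ne_top hv (by omega) (Bt H v) (fun φ h => h.1)
      ⟨φ₀, hφ₀, fun h => ht₀H h.2⟩
    have hK : ∀ ξ y φ : Fin n → F, ξ ⬝ᵥ v = 0 → ξ ⬝ᵥ w = 0 → ξ ⬝ᵥ y = 0 → φ ∈ Bt H v →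
        (φ ⬝ᵥ y) • ξ ∈ Bt H v :=
      fun ξ y φ h1 h2 h3 h4 => key_K H hv huniq hw hc h1 h2 h3 h4
    have hle : A2 v w ≤ A v ⊓ H := by
      intro g hg
      obtain ⟨φ, h1, h2, rfl⟩ := (mem_A2_iff hv w _).1 hg
      exact (mem_A_inf_iff hv _).2
        ⟨φ, key_L hn hq H hK (by rw [← card_A_inf hv]; exact hβ2) h1 h2, rfl⟩
    refine ⟨w, hw, (Subgroup.eq_of_le_of_card_ge hle ?_).symm⟩
    rw [card_A2 hv hw hq]
    exact hβle

end fin

end Dich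

section main
variable {F : Type*} [Field F] [Fintype F] {n : ℕ}

open Dich

/-! ### F4: dichotomy -/
theorem dichotomy (hn : 3 ≤ n) {q : ℕ} (hq : Fintype.card F = q)
    (H : Subgroup (SpecialLinearGroup (Fin n) F))
    (htr : MulAction.IsPretransitive H (ℙ F (Fin n → F)))
    (hno : ∀ v : Fin n → F, v ≠ 0 → ¬ A v ≤ H)
    (hidx : H.index < theta q n) :
    (H.index = q ^ (n - 1) ∧ ∀ v : Fin n → F, v ≠ 0 → A v ⊓ H = ⊥) ∨
    (∀ v : Fin n → F, v ≠ 0 → ∃ w : Fin n → F, w ∉ F ∙ v ∧ A v ⊓ H = A2 v w) := by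
  classical
  have hv₀ : (Pi.single (⟨0, by omega⟩ : Fin n) (1 : F) : Fin n → F) ≠ 0 :=
    Pi.single_ne_zero_iff.2 one_ne_zero
  by_cases h1 : Nat.card ↥(A (Pi.single (⟨0, by omega⟩ : Fin n) (1 : F) : Fin n → F) ⊓ H) = 1
  · left
    refine ⟨(per_v hn hq H htr hno hidx hv₀).1 h1, ?_⟩
    intro v hv
    have h2 : Nat.card ↥(A v ⊓ H) = 1 := by
      rw [card_A_inf_const H htr hv₀ hv]; exact h1
    exact Subgroup.eq_bot_of_card_eq _ h2
  · right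
    intro v hv
    have h2 : Nat.card ↥(A v ⊓ H) ≠ 1 := by
      rw [card_A_inf_const H htr hv₀ hv]; exact h1
    exact (per_v hn hq H htr hno hidx hv).2 h2

end main

end Cfsg.Agent.Lib.Helper11.MinDeg
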