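import Mathlib
import Cfsg.Prelude.Def_Characters
import Cfsg.Agent.Lib.Helper11.S3282Defs

/-!
# S3282 farm-out (architect helper11): CT9A `CT9A_gen`

From the common constituent `X` to the full generic decomposition.  `CT9A_gen_aux` takes the
other pieces (CT2, CT3, CT4, CT5) as explicit hypotheses.
-/

set_option autoImplicit false
set_option linter.unusedSectionVars false
set_option linter.unusedVariables false

namespace Cfsg.Agent.Lib.Helper6.S3282CT9A

open Cfsg Cfsg.Agent.Lib.Helper11 Cfsg.Agent.Lib.Helper11.S3282 Cfsg.Agent.Lib.Helper2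
open scoped ComplexConjugate

universe u

variable {G : Type u} [Group G] [Fintype G]

/-- a generalized character of norm two is a sum of two orthogonal signed irreducibles -/
theorem exists_add_of_norm_two {ξ : G → ℂ} (h : Cfsg.IsGeneralizedCharacter G ξ)
    (hnorm : Cfsg.classInner ξ ξ = 2) :
    ∃ Y Z : G → ℂ, IsSignedIrr Y ∧ IsSignedIrr Z ∧ Cfsg.classInner Y Z = 0 ∧ ξ = Y + Z := by
  classical
  have : Fintype (Cfsg.IrrCharacter G) := Fintype.ofFinite _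
  obtain ⟨n, hn, hexp, hnn⟩ := IsGeneralizedCharacter.exists_int_expansion h
  rw [hnorm] at hnn
  have h2 : ∑ μ : Cfsg.IrrCharacter G, n μ ^ 2 = 2 := by exact_mod_cast hnn.symm
  obtain ⟨μ₁, _, μ₂, _, hne, hμ₁, hμ₂, hrest⟩ := sum_sq_eq_two Finset.univ n h2
  have hsum : ∑ μ : Cfsg.IrrCharacter G, (n μ : ℂ) • (μ : G → ℂ)
      = (n μ₁ : ℂ) • (μ₁ : G → ℂ) + (n μ₂ : ℂ) • (μ₂ : G → ℂ) := by
    rw [← Finset.add_sum_erase Finset.univ _ (Finset.mem_univ μ₁)]
    congr 1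
    apply Finset.sum_eq_single μ₂
    · intro k hk hk2
      rw [hrest k (Finset.mem_univ _) (Finset.ne_of_mem_erase hk) hk2]; simp
    · intro h
      exact absurd (Finset.mem_erase.2 ⟨hne.symm, Finset.mem_univ _⟩) h
  have hξ : ξ = (n μ₁ : ℂ) • (μ₁ : G → ℂ) + (n μ₂ : ℂ) • (μ₂ : G → ℂ) := hexp.trans hsum
  have hs : ∀ (μ : Cfsg.IrrCharacter G) (k : ℤ), (k = 1 ∨ k = -1) →
      IsSignedIrr ((k : ℂ) • (μ : G → ℂ)) := by
    intro μ k hk
    rcases hk with rfl | rfl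
    · left; simpa using μ.2
    · right; simpa using μ.2
  refine ⟨_, _, hs μ₁ _ hμ₁, hs μ₂ _ hμ₂, ?_, hξ⟩
  rw [classInner_smul_left, classInner_smul_right, classInner_irrCharacter, if_neg hne]
  ring

/-- splitting orthogonality: `Y ⊥ Z`, `Y + Z ⊥ A` gives `Y ⊥ A` and `Z ⊥ A` -/
theorem orth_of_add_orth {Y Z A : G → ℂ} (hY : IsSignedIrr Y) (hZ : IsSignedIrr Z)
    (hA : IsSignedIrr A) (hYZ : Cfsg.classInner Y Z = 0)
    (hsum : Cfsg.classInner (Y + Z) A = 0) :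
    Cfsg.classInner Y A = 0 ∧ Cfsg.classInner Z A = 0 := by
  rw [classInner_add_left] at hsum
  rcases hY.inner_cases hA with ⟨h0, _, _⟩ | ⟨heq, h1⟩ | ⟨heq, h1⟩
  · rw [h0, zero_add] at hsum
    exact ⟨h0, hsum⟩
  · exfalso
    rw [h1] at hsum
    have hZA : Cfsg.classInner Z A = -1 := by linear_combination hsum
    rcases hZ.inner_cases hA with ⟨h0, _, _⟩ | ⟨_, h1'⟩ | ⟨heq', _⟩
    · rw [h0] at hZA; norm_num at hZA
    · rw [h1'] at hZA; norm_num at hZA
    · rw [heq, heq', classInner_neg_right, hA.inner_self] at hYZ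
      norm_num at hYZ
  · exfalso
    rw [h1] at hsum
    have hZA : Cfsg.classInner Z A = 1 := by linear_combination hsum
    rcases hZ.inner_cases hA with ⟨h0, _, _⟩ | ⟨heq', _⟩ | ⟨_, h1'⟩
    · rw [h0] at hZA; norm_num at hZA
    · rw [heq, heq', classInner_neg_left, hA.inner_self] at hYZ
      norm_num at hYZ
    · rw [h1'] at hZA; norm_num at hZA

theorem isGenChar_of_isSignedIrr {a : G → ℂ} (h : IsSignedIrr a) :
    Cfsg.IsGeneralizedCharacter G a := by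
  rcases h with h | h
  · exact isGenChar_of_isChar (IsIrrCharacter.isCharacter h)
  · have := isGenChar_neg (isGenChar_of_isChar (IsIrrCharacter.isCharacter h))
    rwa [neg_neg] at this


variable {t s : G} {K : Subgroup G} [Fintype K]

theorem cj_one : cj (fun _ : K => (1 : ℂ)) = fun _ => 1 := by
  funext a
  simp [cj]

theorem isGenChar_Del {μ : K → ℂ} (hμ : Cfsg.IsIrrCharacter K μ) :
    Cfsg.IsGeneralizedCharacter G (Del K μ) := by
  have h1 : Cfsg.IsGeneralizedCharacter K (fun y => 1 - μ y) := by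
    have : (fun y : K => 1 - μ y) = (fun _ => (1 : ℂ)) - μ := rfl
    rw [this]
    exact isGenChar_sub (isGenChar_of_isChar (IsIrrCharacter.isCharacter isIrrCharacter_one))
      (isGenChar_of_isChar (IsIrrCharacter.isCharacter hμ))
  exact isGenChar_indFun K h1

theorem Del_one : Del K (fun _ : K => (1 : ℂ)) = 0 := by
  have : (fun y : K => (1 : ℂ) - (fun _ : K => (1 : ℂ)) y) = 0 := by
    funext y
    simp
  unfold Del
  rw [this]
  exact indFun_zero K

/-- **CT9A**, with the other pieces as hypotheses -/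
theorem CT9A_gen_aux (h : Hyp t s K) [Fintype (Cfsg.IrrCharacter K)]
    (hCT2 : ∀ μ : K → ℂ, Cfsg.IsIrrCharacter K μ → ∀ y : K,
      Del K μ (y : G) = 2 - μ y - conj (μ y))
    (hg3 : ∀ μ : K → ℂ, Cfsg.IsIrrCharacter K μ → cj μ ≠ μ →
      Cfsg.classInner (Del K μ) (Del K μ) = 3)
    (hg4 : ∀ μ : K → ℂ, Cfsg.IsIrrCharacter K μ → μ ≠ (fun _ => 1) → cj μ = μ →
      Cfsg.classInner (Del K μ) (Del K μ) = 4)
    (hg2 : ∀ μ ν : K → ℂ, Cfsg.IsIrrCharacter K μ → Cfsg.IsIrrCharacter K ν →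
      μ ≠ (fun _ => 1) → ν ≠ (fun _ => 1) → μ ≠ ν → μ ≠ cj ν →
      Cfsg.classInner (Del K μ) (Del K ν) = 2)
    (hone : ∀ μ : K → ℂ, Cfsg.IsIrrCharacter K μ → μ ≠ (fun _ => 1) →
      Cfsg.classInner (Del K μ) (fun _ => 1) = 1)
    (hCT4 : ∀ χ : G → ℂ, Cfsg.IsClassFunction G χ → ∀ y : K, y ≠ 1 →
      χ (y : G) = - ∑ μ : Cfsg.IrrCharacter K,
        conj (Cfsg.classInner (Del K (μ : K → ℂ)) χ) * (μ : K → ℂ) y)
    (hsum : ∀ y : K, y ≠ 1 → ∑ μ : Cfsg.IrrCharacter K, (μ : K → ℂ) y = 0)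
    (hreal : ∃ σ : K → ℂ, Cfsg.IsIrrCharacter K σ ∧ σ ≠ (fun _ => 1) ∧ cj σ = σ ∧
      ∀ μ : K → ℂ, Cfsg.IsIrrCharacter K μ → cj μ = μ → μ = (fun _ => 1) ∨ μ = σ)
    (X : G → ℂ) (hX : IsSignedIrr X)
    (hX1 : Cfsg.classInner X (fun _ => 1) = 0)
    (hDX : ∀ μ : K → ℂ, Cfsg.IsIrrCharacter K μ → μ ≠ (fun _ => 1) →
      Cfsg.classInner (Del K μ) X = 1) :
    ∃ (σ : K → ℂ) (Y Z : G → ℂ) (Lam : (K → ℂ) → G → ℂ), Gen K σ X Y Z Lam := by
  classical
  obtain ⟨σ, hσ, hσ1, hσr, hσu⟩ := hreal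
  -- basic generalized characters
  have h1G : Cfsg.IsIrrCharacter G (fun _ => (1 : ℂ)) := isIrrCharacter_one
  have s1 : IsSignedIrr (fun _ : G => (1 : ℂ)) := Or.inl h1G
  have gc1 : Cfsg.IsGeneralizedCharacter G (fun _ => (1 : ℂ)) := isGenChar_of_isSignedIrr s1
  have gcX : Cfsg.IsGeneralizedCharacter G X := isGenChar_of_isSignedIrr hX
  have i11 : Cfsg.classInner (fun _ : G => (1 : ℂ)) (fun _ => 1) = 1 := s1.inner_self
  have iXX : Cfsg.classInner X X = 1 := hX.inner_self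
  have i1X : Cfsg.classInner (fun _ : G => (1 : ℂ)) X = 0 := by
    rw [classInner_comm_of_genChar gc1 gcX, hX1]
  -- the functions `Θ μ = 1 + X - Del μ`
  obtain ⟨Θ, hΘ⟩ : ∃ Θ : (K → ℂ) → G → ℂ, ∀ μ, Θ μ = (fun _ => (1 : ℂ)) + X - Del K μ :=
    ⟨fun μ => (fun _ => (1 : ℂ)) + X - Del K μ, fun _ => rfl⟩
  have gcΘ : ∀ μ : K → ℂ, Cfsg.IsIrrCharacter K μ → Cfsg.IsGeneralizedCharacter G (Θ μ) := by
    intro μ hμ
    rw [hΘ]
    exact isGenChar_sub (isGenChar_add gc1 gcX) (isGenChar_Del hμ)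
  have iD1 : ∀ μ : K → ℂ, Cfsg.IsIrrCharacter K μ → μ ≠ (fun _ => 1) →
      Cfsg.classInner (fun _ : G => (1 : ℂ)) (Del K μ) = 1 := by
    intro μ hμ hμ1
    rw [classInner_comm_of_genChar gc1 (isGenChar_Del hμ), hone μ hμ hμ1]
  have iDX : ∀ μ : K → ℂ, Cfsg.IsIrrCharacter K μ → μ ≠ (fun _ => 1) →
      Cfsg.classInner X (Del K μ) = 1 := by
    intro μ hμ hμ1
    rw [classInner_comm_of_genChar gcX (isGenChar_Del hμ), hDX μ hμ hμ1]
  -- inner products of the `Θ`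
  have iΘΘ : ∀ μ ν : K → ℂ, Cfsg.IsIrrCharacter K μ → Cfsg.IsIrrCharacter K ν →
      μ ≠ (fun _ => 1) → ν ≠ (fun _ => 1) →
      Cfsg.classInner (Θ μ) (Θ ν) = Cfsg.classInner (Del K μ) (Del K ν) - 2 := by
    intro μ ν hμ hν hμ1 hν1
    rw [hΘ, hΘ]
    simp only [classInner_sub_left, classInner_sub_right, classInner_add_left,
      classInner_add_right, i11, iXX, i1X, hX1, iD1 ν hν hν1, iDX ν hν hν1, hone μ hμ hμ1,
      hDX μ hμ hμ1]
    ring
  have iΘ1 : ∀ μ : K → ℂ, Cfsg.IsIrrCharacter K μ → μ ≠ (fun _ => 1) →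
      Cfsg.classInner (Θ μ) (fun _ => 1) = 0 := by
    intro μ hμ hμ1
    rw [hΘ]
    simp only [classInner_sub_left, classInner_add_left, i11, hX1, hone μ hμ hμ1]
    ring
  have iΘX : ∀ μ : K → ℂ, Cfsg.IsIrrCharacter K μ → μ ≠ (fun _ => 1) →
      Cfsg.classInner (Θ μ) X = 0 := by
    intro μ hμ hμ1
    rw [hΘ]
    simp only [classInner_sub_left, classInner_add_left, i1X, iXX, hDX μ hμ hμ1]
    ring
  have hnr1 : ∀ μ : K → ℂ, cj μ ≠ μ → μ ≠ (fun _ => 1) := by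
    intro μ hμ h1
    apply hμ
    rw [h1, cj_one]
  -- `Lam μ` is a signed irreducible for non-real `μ`
  have sΘ : ∀ μ : K → ℂ, Cfsg.IsIrrCharacter K μ → cj μ ≠ μ → IsSignedIrr (Θ μ) := by
    intro μ hμ hμr
    apply IsGeneralizedCharacter.isSignedIrr_of_norm_one (gcΘ μ hμ)
    rw [iΘΘ μ μ hμ hμ (hnr1 μ hμr) (hnr1 μ hμr), hg3 μ hμ hμr]
    norm_num
  -- `Θ σ = Y + Z`
  have nσ : Cfsg.classInner (Θ σ) (Θ σ) = 2 := by
    rw [iΘΘ σ σ hσ hσ hσ1 hσ1, hg4 σ hσ hσ1 hσr]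
    norm_num
  obtain ⟨Y, Z, hY, hZ, hYZ, hYZeq⟩ := exists_add_of_norm_two (gcΘ σ hσ) nσ
  have gcY : Cfsg.IsGeneralizedCharacter G Y := isGenChar_of_isSignedIrr hY
  have gcZ : Cfsg.IsGeneralizedCharacter G Z := isGenChar_of_isSignedIrr hZ
  have hZY : Cfsg.classInner Z Y = 0 := by rw [classInner_comm_of_genChar gcZ gcY, hYZ]
  -- orthogonality
  have o1 := orth_of_add_orth hY hZ s1 hYZ (by rw [← hYZeq]; exact iΘ1 σ hσ hσ1)
  have oX := orth_of_add_orth hY hZ hX hYZ (by rw [← hYZeq]; exact iΘX σ hσ hσ1)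
  have oL : ∀ μ : K → ℂ, Cfsg.IsIrrCharacter K μ → cj μ ≠ μ →
      Cfsg.classInner Y (Θ μ) = 0 ∧ Cfsg.classInner Z (Θ μ) = 0 := by
    intro μ hμ hμr
    apply orth_of_add_orth hY hZ (sΘ μ hμ hμr) hYZ
    rw [← hYZeq, iΘΘ σ μ hσ hμ hσ1 (hnr1 μ hμr), hg2 σ μ hσ hμ hσ1 (hnr1 μ hμr)]
    · norm_num
    · intro h
      apply hμr
      rw [← h, hσr]
    · intro h
      apply hμr
      have : cj (cj μ) = μ := by
        funext a
        simp [cj]
      rw [← h, hσr] at this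
      rw [← this, hσr]
  have hDelσ : Del K σ = (fun _ => (1 : ℂ)) + X - Y - Z := by
    have := hΘ σ
    rw [hYZeq] at this
    funext g
    have h2 := congrFun this g
    simp only [Pi.add_apply, Pi.sub_apply] at h2 ⊢
    linear_combination h2
  have hDelμ : ∀ μ : K → ℂ, Del K μ = (fun _ => (1 : ℂ)) + X - Θ μ := by
    intro μ
    rw [hΘ]
    funext g
    simp only [Pi.add_apply, Pi.sub_apply]
    ring
  -- values of `X` on `K#`
  have cfX : Cfsg.IsClassFunction G X := IsGeneralizedCharacter.isClassFunction gcX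
  have hXK : ∀ y : K, y ≠ 1 → X y = 1 := by
    intro y hy
    rw [hCT4 X cfX y hy]
    have hterm : ∀ μ : Cfsg.IrrCharacter K,
        conj (Cfsg.classInner (Del K (μ : K → ℂ)) X) * (μ : K → ℂ) y
          = (μ : K → ℂ) y - (if μ = ⟨fun _ => 1, isIrrCharacter_one⟩ then 1 else 0) := by
      intro μ
      by_cases hμ : μ = ⟨fun _ => 1, isIrrCharacter_one⟩
      · rw [if_pos hμ, hμ]
        show conj (Cfsg.classInner (Del K (fun _ : K => (1 : ℂ))) X) * 1 = 1 - 1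
        rw [Del_one, classInner_zero_left]
        simp
      · rw [if_neg hμ]
        have hμ1 : (μ : K → ℂ) ≠ fun _ => 1 := by
          intro h
          exact hμ (Subtype.ext h)
        rw [hDX μ μ.2 hμ1]
        simp
    rw [Finset.sum_congr rfl (fun μ _ => hterm μ), Finset.sum_sub_distrib, hsum y hy,
      Finset.sum_ite_eq' Finset.univ]
    simp
  -- values of `Y`, `Z` on `K#`
  have hYZK : ∀ W : G → ℂ, IsSignedIrr W →
      Cfsg.classInner (fun _ : G => (1 : ℂ)) W = 0 → Cfsg.classInner X W = 0 →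
      Cfsg.classInner Y W + Cfsg.classInner Z W = 1 →
      (∀ μ : K → ℂ, Cfsg.IsIrrCharacter K μ → cj μ ≠ μ → Cfsg.classInner (Θ μ) W = 0) →
      ∀ y : K, y ≠ 1 → W y = σ y := by
    intro W hW h1W hXW hYZW hΘW y hy
    rw [hCT4 W (IsGeneralizedCharacter.isClassFunction (isGenChar_of_isSignedIrr hW)) y hy]
    have hterm : ∀ μ : Cfsg.IrrCharacter K,
        conj (Cfsg.classInner (Del K (μ : K → ℂ)) W) * (μ : K → ℂ) y
          = - (if μ = ⟨σ, hσ⟩ then σ y else 0) := by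
      intro μ
      by_cases hμ : μ = ⟨σ, hσ⟩
      · rw [if_pos hμ, hμ]
        show conj (Cfsg.classInner (Del K σ) W) * σ y = - σ y
        rw [hDelσ]
        simp only [classInner_sub_left, classInner_add_left, h1W, hXW]
        have : (0 : ℂ) + 0 - Cfsg.classInner Y W - Cfsg.classInner Z W = -1 := by
          linear_combination -hYZW
        rw [this]
        simp
      · rw [if_neg hμ]
        have hμσ : (μ : K → ℂ) ≠ σ := by
          intro h
          exact hμ (Subtype.ext h)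
        by_cases hμr : cj (μ : K → ℂ) = μ
        · rcases hσu μ μ.2 hμr with h1 | h1
          · rw [h1, Del_one, classInner_zero_left]
            simp
          · exact absurd h1 hμσ
        · rw [hDelμ, classInner_sub_left, classInner_add_left, h1W, hXW, hΘW μ μ.2 hμr]
          simp
    rw [Finset.sum_congr rfl (fun μ _ => hterm μ), Finset.sum_neg_distrib,
      Finset.sum_ite_eq' Finset.univ]
    simp
  have hYK : ∀ y : K, y ≠ 1 → Y y = σ y := by
    apply hYZK Y hY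
    · rw [classInner_comm_of_genChar gc1 gcY, o1.1]
    · rw [classInner_comm_of_genChar gcX gcY, oX.1]
    · rw [hY.inner_self, hZY]; ring
    · intro μ hμ hμr
      rw [classInner_comm_of_genChar (gcΘ μ hμ) gcY, (oL μ hμ hμr).1]
  have hZK : ∀ y : K, y ≠ 1 → Z y = σ y := by
    apply hYZK Z hZ
    · rw [classInner_comm_of_genChar gc1 gcZ, o1.2]
    · rw [classInner_comm_of_genChar gcX gcZ, oX.2]
    · rw [hZ.inner_self, hYZ]; ring
    · intro μ hμ hμr
      rw [classInner_comm_of_genChar (gcΘ μ hμ) gcZ, (oL μ hμ hμr).2]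
  refine ⟨σ, Y, Z, Θ, ⟨hσ, hσ1, hσr, hσu, hX, hY, hZ, sΘ, ?_, hDelσ, hXK, hYK, hZK, ?_⟩⟩
  · intro μ hμ _
    exact hDelμ μ
  · intro μ hμ _ y hy
    rw [hΘ]
    simp only [Pi.add_apply, Pi.sub_apply]
    rw [hXK y hy, hCT2 μ hμ y]
    ring

end Cfsg.Agent.Lib.Helper6.S3282CT9A
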