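import Mathlib
import Cfsg.Prelude.Def_Characters
import Cfsg.Agent.Lib.Helper11.S3282Defs
import Cfsg.Agent.Lib.Helper24.S3282CT45
import Cfsg.Agent.Lib.Helper6.S3282CT9A

/-!
# S3282 farm-out (architect helper11): CT9A `CT9A_gen`, wired to CT4/CT5 (helper24)

`CT9A_gen_of` takes CT2_apply_mem, CT3_gram, CT3_one in their exact skeleton form as hypotheses.
-/

set_option autoImplicit false
set_option linter.unusedSectionVars false
set_option linter.unusedVariables false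

namespace Cfsg.Agent.Lib.Helper6.S3282CT9A

open Cfsg Cfsg.Agent.Lib.Helper11 Cfsg.Agent.Lib.Helper11.S3282 Cfsg.Agent.Lib.Helper2
open scoped ComplexConjugate

universe u

variable {G : Type u} [Group G] {t s : G} {K : Subgroup G} [Fintype G] [Fintype K]

open Classical in
theorem CT9A_gen_of (h : Hyp t s K) [Fintype (Cfsg.IrrCharacter K)]
    (hCT2 : ∀ {μ : K → ℂ}, Cfsg.IsIrrCharacter K μ → ∀ y : K,
      Del K μ (y : G) = 2 - μ y - conj (μ y))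
    (hCT3g : ∀ {μ ν : K → ℂ}, Cfsg.IsIrrCharacter K μ → Cfsg.IsIrrCharacter K ν →
      μ ≠ (fun _ => 1) → ν ≠ (fun _ => 1) →
      Cfsg.classInner (Del K μ) (Del K ν)
        = 2 + (if μ = ν then 1 else 0) + (if μ = cj ν then 1 else 0))
    (hCT3o : ∀ {μ : K → ℂ}, Cfsg.IsIrrCharacter K μ → μ ≠ (fun _ => 1) →
      Cfsg.classInner (Del K μ) (fun _ => 1) = 1)
    (X : G → ℂ) (hX : IsSignedIrr X)
    (hX1 : Cfsg.classInner X (fun _ => 1) = 0)
    (hDX : ∀ μ : K → ℂ, Cfsg.IsIrrCharacter K μ → μ ≠ (fun _ => 1) →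
      Cfsg.classInner (Del K μ) X = 1) :
    ∃ (σ : K → ℂ) (Y Z : G → ℂ) (Lam : (K → ℂ) → G → ℂ), Gen K σ X Y Z Lam := by
  have hnr1 : ∀ μ : K → ℂ, cj μ ≠ μ → μ ≠ (fun _ => 1) := by
    intro μ hμ h1
    apply hμ
    rw [h1, cj_one]
  refine CT9A_gen_aux h (fun μ hμ y => hCT2 hμ y) ?_ ?_ ?_ (fun μ hμ hμ1 => hCT3o hμ hμ1)
    (fun χ hχ y hy => Cfsg.Agent.Lib.Helper24.S3282CT45.CT4_apply h.comm hχ y hy)
    (fun y hy => Cfsg.Agent.Lib.Helper24.S3282CT45.CT5_sum h.comm hy)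
    (Cfsg.Agent.Lib.Helper24.S3282CT45.CT5_real h) X hX hX1 hDX
  · intro μ hμ hμr
    rw [hCT3g hμ hμ (hnr1 μ hμr) (hnr1 μ hμr), if_pos rfl, if_neg (fun h => hμr h.symm)]
    norm_num
  · intro μ hμ hμ1 hμr
    rw [hCT3g hμ hμ hμ1 hμ1, if_pos rfl, if_pos hμr.symm]
    norm_num
  · intro μ ν hμ hν hμ1 hν1 hne hne'
    rw [hCT3g hμ hν hμ1 hν1, if_neg hne, if_neg hne']
    norm_num

end Cfsg.Agent.Lib.Helper6.S3282CT9A
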