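import Mathlib
import Cfsg.Prelude.Def_Characters
import Cfsg.Agent.Lib.Helper11.S3282Defs
import Cfsg.Agent.Lib.Helper29.S3282CT23
import Cfsg.Agent.Lib.Helper6.S3282CT9AFinal

/-!
# S3282 farm-out (architect helper11): CT9A `CT9A_gen` with the exact skeleton signature
(wired to CT2/CT3 of helper29 and CT4/CT5 of helper24)
-/

set_option autoImplicit false
set_option linter.unusedSectionVars false
set_option linter.unusedVariables false

namespace Cfsg.Agent.Lib.Helper6.S3282CT9A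

open Cfsg Cfsg.Agent.Lib.Helper11 Cfsg.Agent.Lib.Helper11.S3282
open scoped ComplexConjugate

universe u

variable {G : Type u} [Group G] {t s : G} {K : Subgroup G} [Fintype G] [Fintype K]

/-- **CT9A** -/
theorem CT9A_gen (h : Hyp t s K) [Fintype (Cfsg.IrrCharacter K)] (X : G → ℂ) (hX : IsSignedIrr X)
    (hX1 : Cfsg.classInner X (fun _ => 1) = 0)
    (hDX : ∀ μ : K → ℂ, Cfsg.IsIrrCharacter K μ → μ ≠ (fun _ => 1) →
      Cfsg.classInner (Del K μ) X = 1) :
    ∃ (σ : K → ℂ) (Y Z : G → ℂ) (Lam : (K → ℂ) → G → ℂ), Gen K σ X Y Z Lam :=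
  CT9A_gen_of h (Cfsg.Agent.Lib.Helper29.S3282CT23.CT2_apply_mem h)
    (Cfsg.Agent.Lib.Helper29.S3282CT23.CT3_gram h)
    (Cfsg.Agent.Lib.Helper29.S3282CT23.CT3_one h) X hX hX1 hDX

end Cfsg.Agent.Lib.Helper6.S3282CT9A
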