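import Mathlib
import Cfsg.Prelude
import Cfsg.Agent.H5.QdGDat
import Cfsg.Agent.H5.QdFusion3
import Cfsg.Agent.H5.GTMain

/-!
# helper6: S3282 pieces QD1 (`QD1_free`) and QD2 (`QD2_comm`)
-/

set_option autoImplicit false

namespace Cfsg.Agent.Lib.Helper6.S3282QD

open Matrix

universe u

variable {G : Type u} [Group G] [Finite G]

/-- no involution normalizes a nontrivial `p`-subgroup (`p` odd) ⇒ `Qd(p)`-free. -/
theorem QD1_free (p : ℕ) [Fact p.Prime] (hp2 : p ≠ 2)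
    (hno : ∀ τ : G, orderOf τ = 2 → ∀ U : Subgroup G, IsPGroup p U → U ≠ ⊥ →
      (∀ u ∈ U, τ * u * τ⁻¹ ∈ U) → False) :
    ¬ Cfsg.Involves ↥(Cfsg.qd p) G := by
  intro hinv
  have hp : p.Prime := Fact.out
  obtain ⟨U, f, hUp, hadd, hsurj, hM⟩ := Cfsg.H5.QdR.exists_isGDat_of_involves' hinv
  obtain ⟨M, hMv⟩ : ∃ M : SpecialLinearGroup (Fin 2) (ZMod p),
      ∀ v : Fin 2 → ZMod p, (M : Matrix (Fin 2) (Fin 2) (ZMod p)) *ᵥ v = - v := by
    refine ⟨⟨!![-1, 0; 0, -1], by simp [Matrix.det_fin_two]⟩, fun v => ?_⟩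
    ext i
    fin_cases i <;> simp [Matrix.mulVec, dotProduct, Fin.sum_univ_two]
  obtain ⟨n, hnU, hnf⟩ := hM M
  have hnf' : ∀ u ∈ U, f (n * u * n⁻¹) = - f u := by
    intro u hu
    rw [hnf u hu, hMv]
  have h2 : (2 : ZMod p) ≠ 0 := by
    intro h
    have h' : ((2 : ℕ) : ZMod p) = 0 := by exact_mod_cast h
    rw [ZMod.natCast_eq_zero_iff] at h'
    have := Nat.le_of_dvd (by norm_num) h'
    have := hp.two_le
    omega
  -- a nonzero value
  obtain ⟨u0, hu0, hfu0⟩ := hsurj (fun _ => 1)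
  have hf1 : f 1 = 0 := by
    have := hadd 1 U.one_mem 1 U.one_mem
    rw [mul_one] at this
    have h3 : f 1 + 0 = f 1 + f 1 := by rw [add_zero]; exact this
    exact (add_left_cancel h3).symm
  have hfu0ne : f u0 ≠ 0 := by
    rw [hfu0]
    intro h
    have := congrFun h 0
    simp at this
  have hUne : U ≠ ⊥ := by
    intro h
    rw [h, Subgroup.mem_bot] at hu0
    rw [hu0] at hfu0ne
    exact hfu0ne hf1
  -- powers of `n`
  have hpow : ∀ j : ℕ, ∀ u ∈ U, n ^ j * u * (n ^ j)⁻¹ ∈ U ∧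
      f (n ^ j * u * (n ^ j)⁻¹) = (-1 : ZMod p) ^ j • f u := by
    intro j
    induction j with
    | zero =>
      intro u hu
      simp [hu]
    | succ j ih =>
      intro u hu
      obtain ⟨h1, h2'⟩ := ih u hu
      have heq : n ^ (j + 1) * u * (n ^ (j + 1))⁻¹ = n * (n ^ j * u * (n ^ j)⁻¹) * n⁻¹ := by
        rw [pow_succ']
        group
      rw [heq]
      refine ⟨hnU _ h1, ?_⟩
      rw [hnf' _ h1, h2', pow_succ, mul_smul]
      simp
  have hn0 : orderOf n ≠ 0 := (orderOf_pos n).ne'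
  rcases Nat.even_or_odd (orderOf n) with hev | hodd
  · obtain ⟨k, hk⟩ := hev
    have h2dvd : 2 ∣ orderOf n := ⟨k, by omega⟩
    have hτ : orderOf (n ^ (orderOf n / 2)) = 2 := orderOf_pow_orderOf_div hn0 h2dvd
    refine hno (n ^ (orderOf n / 2)) hτ U hUp hUne fun u hu => ?_
    exact (hpow _ u hu).1
  · have h := (hpow (orderOf n) u0 hu0).2
    rw [pow_orderOf_eq_one, one_mul, inv_one, mul_one, hodd.neg_one_pow] at h
    apply hfu0ne
    ext i
    have hi := congrFun h i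
    simp only [Pi.smul_apply, smul_eq_mul, neg_mul, one_mul, Pi.zero_apply] at hi ⊢
    have h4 : (2 : ZMod p) * f u0 i = 0 := by
      rw [two_mul]
      nth_rewrite 1 [hi]
      exact neg_add_cancel _
    rcases mul_eq_zero.1 h4 with h5 | h5
    · exact absurd h5 h2
    · exact h5

/-- `Qd(p)`-free, `p` odd, and all nontrivial elements of a Sylow `p`-subgroup `P` conjugate up
to inversion ⇒ `P` is abelian (it equals `Z(J(P))`). -/
theorem QD2_comm (p : ℕ) [Fact p.Prime] (hp2 : p ≠ 2) (hfree : ¬ Cfsg.Involves ↥(Cfsg.qd p) G)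
    (P : Sylow p G)
    (hcl : ∀ y ∈ (P : Subgroup G), ∀ z ∈ (P : Subgroup G), y ≠ 1 → z ≠ 1 →
      IsConj y z ∨ IsConj y⁻¹ z) :
    ∀ y ∈ (P : Subgroup G), ∀ z ∈ (P : Subgroup G), y * z = z * y := by
  by_cases hP : (P : Subgroup G) = ⊥
  · intro y hy z hz
    rw [hP, Subgroup.mem_bot] at hy hz
    rw [hy, hz]
  have hWne : Cfsg.H5.ZJ.Z 0 (P : Subgroup G) ≠ ⊥ :=
    Cfsg.H5.GT.Z_ne_bot (dvd_zero p) P.isPGroup' hP
  obtain ⟨w, hw, hw1⟩ : ∃ w ∈ Cfsg.H5.ZJ.Z 0 (P : Subgroup G), w ≠ 1 := by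
    obtain ⟨w, hw⟩ := (Subgroup.ne_bot_iff_exists_ne_one).1 hWne
    exact ⟨(w : G), w.2, fun h => hw (Subtype.ext h)⟩
  have hWP : Cfsg.H5.ZJ.Z 0 (P : Subgroup G) ≤ (P : Subgroup G) := Cfsg.H5.ZJ.Z_le
  have hwP : w ∈ (P : Subgroup G) := hWP hw
  have hwi : w⁻¹ ∈ Cfsg.H5.ZJ.Z 0 (P : Subgroup G) := Subgroup.inv_mem _ hw
  have hwiP : w⁻¹ ∈ (P : Subgroup G) := hWP hwi
  have hmove : ∀ v ∈ Cfsg.H5.ZJ.Z 0 (P : Subgroup G), ∀ y ∈ (P : Subgroup G), IsConj v y →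
      y ∈ Cfsg.H5.ZJ.Z 0 (P : Subgroup G) := by
    intro v hv y hy h
    obtain ⟨g, hg⟩ := isConj_iff.1 h
    obtain ⟨x, hx, hxa⟩ := Cfsg.H5.QdF.controls_strong_fusion_qdFree_Z hp2 0 (dvd_zero p) hfree P
      {v} (by
        intro a ha
        rw [Set.mem_singleton_iff] at ha
        rw [ha]
        exact hWP hv) g (by
        rintro _ ⟨a, ha, rfl⟩
        rw [Set.mem_singleton_iff] at ha
        rw [ha]
        show g * v * g⁻¹ ∈ (P : Subgroup G)
        rw [hg]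
        exact hy)
    have h1 := hxa v rfl
    rw [← hg, h1]
    exact (Subgroup.mem_normalizer_iff.1 hx v).1 hv
  have key : ∀ y ∈ (P : Subgroup G), y ∈ Cfsg.H5.ZJ.Z 0 (P : Subgroup G) := by
    intro y hy
    by_cases hy1 : y = 1
    · rw [hy1]; exact one_mem _
    rcases hcl w hwP y hy hw1 hy1 with h | h
    · exact hmove w hw y hy h
    · exact hmove w⁻¹ hwi y hy h
  intro y hy z hz
  exact (Cfsg.H5.ZJ.good_Zc 0 _).1 y (key y hy) z (key z hz)

end Cfsg.Agent.Lib.Helper6.S3282QD
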