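import Mathlib

set_option autoImplicit false

/-! # S4538-[P1], last step (helper6): a `p`-regular element of `SL_n(F)` commuting with all the
transvections `1 + v φᵀ` (`v ∈ W`, `φ` vanishing on `W`) of a proper nonzero subspace `W` is
central. -/

namespace Cfsg.Agent.Lib.Helper24.SLB

namespace Helper6

open Matrix

variable {n : ℕ} {F : Type*} [Field F]

/-- a linear functional on `Fin n → F` is a dot product -/
theorem exists_dot_of_functional (f : (Fin n → F) →ₗ[F] F) :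
    ∃ φ : Fin n → F, ∀ w : Fin n → F, f w = φ ⬝ᵥ w := by
  refine ⟨fun i => f (fun j => if i = j then 1 else 0), fun w => ?_⟩
  rw [LinearMap.pi_apply_eq_sum_univ f w, dotProduct]
  refine Finset.sum_congr rfl (fun i _ => ?_)
  rw [smul_eq_mul, mul_comm]

/-- a proper subspace is annihilated by a nonzero dot-product functional -/
theorem exists_annihilator_ne_zero (W : Submodule F (Fin n → F)) (hW1 : W ≠ ⊤) :
    ∃ φ : Fin n → F, φ ≠ 0 ∧ ∀ w ∈ W, φ ⬝ᵥ w = 0 := by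
  obtain ⟨f, hf0, hf⟩ := W.exists_le_ker_of_lt_top (lt_top_iff_ne_top.mpr hW1)
  obtain ⟨φ, hφ⟩ := exists_dot_of_functional f
  refine ⟨φ, ?_, fun w hw => ?_⟩
  · rintro rfl
    apply hf0
    apply LinearMap.ext
    intro w
    rw [hφ w]
    simp
  · rw [← hφ w]
    exact LinearMap.mem_ker.mp (hf hw)

/-- a vector killed by the whole annihilator of `W` lies in `W` -/
theorem mem_of_annihilated (W : Submodule F (Fin n → F)) (y : Fin n → F)
    (hy : ∀ φ : Fin n → F, (∀ w ∈ W, φ ⬝ᵥ w = 0) → φ ⬝ᵥ y = 0) : y ∈ W := by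
  by_contra hyW
  obtain ⟨f, hfy, hf⟩ := Submodule.exists_le_ker_of_notMem hyW
  obtain ⟨φ, hφ⟩ := exists_dot_of_functional f
  apply hfy
  rw [hφ y]
  apply hy
  intro w hw
  rw [← hφ w]
  exact LinearMap.mem_ker.mp (hf hw)

/-- commuting with all the transvections of `W` forces a common eigenvalue on `W` and on its
annihilator -/
theorem exists_eigen_of_commute (W : Submodule F (Fin n → F)) (hW0 : W ≠ ⊥) (hW1 : W ≠ ⊤)
    (G : Matrix (Fin n) (Fin n) F)
    (hcomm : ∀ v ∈ W, ∀ φ : Fin n → F, (∀ w ∈ W, φ ⬝ᵥ w = 0) →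
      G * (1 + vecMulVec v φ) = (1 + vecMulVec v φ) * G) :
    ∃ c : F, (∀ v ∈ W, G *ᵥ v = c • v) ∧
      (∀ φ : Fin n → F, (∀ w ∈ W, φ ⬝ᵥ w = 0) → φ ᵥ* G = c • φ) := by
  have key : ∀ v ∈ W, ∀ φ : Fin n → F, (∀ w ∈ W, φ ⬝ᵥ w = 0) →
      ∀ i j, (G *ᵥ v) i * φ j = v i * (φ ᵥ* G) j := by
    intro v hv φ hφ i j
    have h := hcomm v hv φ hφ
    rw [mul_add, add_mul, mul_one, one_mul] at h
    have h2 : G * vecMulVec v φ = vecMulVec v φ * G := add_left_cancel h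
    rw [mul_vecMulVec, vecMulVec_mul] at h2
    have h3 := congrFun (congrFun h2 i) j
    rw [vecMulVec_apply, vecMulVec_apply] at h3
    exact h3
  obtain ⟨v₀, hv₀W, hv₀⟩ := Submodule.exists_mem_ne_zero_of_ne_bot hW0
  obtain ⟨i₀, hi₀⟩ := Function.ne_iff.mp hv₀
  obtain ⟨φ₀, hφ₀, hφ₀W⟩ := exists_annihilator_ne_zero W hW1
  obtain ⟨j₀, hj₀⟩ := Function.ne_iff.mp hφ₀
  simp only [Pi.zero_apply] at hi₀ hj₀
  refine ⟨(φ₀ ᵥ* G) j₀ / φ₀ j₀, ?_, ?_⟩
  · intro v hv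
    funext i
    have h := key v hv φ₀ hφ₀W i j₀
    rw [Pi.smul_apply, smul_eq_mul]
    field_simp
    rw [h]; ring
  · intro φ hφ
    funext j
    have h1 := key v₀ hv₀W φ₀ hφ₀W i₀ j₀
    have h2 := key v₀ hv₀W φ hφ i₀ j
    rw [Pi.smul_apply, smul_eq_mul]
    have h3 : (G *ᵥ v₀) i₀ = (φ₀ ᵥ* G) j₀ / φ₀ j₀ * v₀ i₀ := by
      field_simp
      rw [h1]; ring
    rw [h3] at h2
    have h4 : v₀ i₀ * ((φ₀ ᵥ* G) j₀ / φ₀ j₀ * φ j) = v₀ i₀ * (φ ᵥ* G) j := by
      rw [← h2]; ring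
    exact (mul_left_cancel₀ hi₀ h4).symm

/-- ... hence `(G - c)^2 = 0` -/
theorem exists_sq_zero_of_commute (W : Submodule F (Fin n → F)) (hW0 : W ≠ ⊥) (hW1 : W ≠ ⊤)
    (G : Matrix (Fin n) (Fin n) F)
    (hcomm : ∀ v ∈ W, ∀ φ : Fin n → F, (∀ w ∈ W, φ ⬝ᵥ w = 0) →
      G * (1 + vecMulVec v φ) = (1 + vecMulVec v φ) * G) :
    ∃ c : F, (G - c • (1 : Matrix (Fin n) (Fin n) F)) * (G - c • 1) = 0 := by
  obtain ⟨c, hc1, hc2⟩ := exists_eigen_of_commute W hW0 hW1 G hcomm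
  refine ⟨c, ?_⟩
  set N : Matrix (Fin n) (Fin n) F := G - c • 1 with hN
  have hN1 : ∀ v ∈ W, N *ᵥ v = 0 := by
    intro v hv
    rw [hN, sub_mulVec, hc1 v hv, smul_mulVec, one_mulVec, sub_self]
  have hN2 : ∀ φ : Fin n → F, (∀ w ∈ W, φ ⬝ᵥ w = 0) → φ ᵥ* N = 0 := by
    intro φ hφ
    rw [hN, vecMul_sub, hc2 φ hφ, vecMul_smul, vecMul_one, sub_self]
  have hN3 : ∀ x : Fin n → F, N *ᵥ x ∈ W := by
    intro x
    apply mem_of_annihilated
    intro φ hφ
    rw [dotProduct_mulVec, hN2 φ hφ, zero_dotProduct]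
  apply Matrix.ext_of_mulVec_single
  intro i
  rw [← mulVec_mulVec, hN1 _ (hN3 _), zero_mulVec]

/-- **[P1], last step**: a `p`-regular `g ∈ SL_n(F)` commuting with all the transvections
`1 + v φᵀ` (`v ∈ W`, `φ` vanishing on `W`) of a proper nonzero subspace `W` is central. -/
theorem mem_center_of_commute_transvections [Fintype F] (p : ℕ) [Fact p.Prime] [CharP F p]
    (W : Submodule F (Fin n → F)) (hW0 : W ≠ ⊥) (hW1 : W ≠ ⊤)
    (g : SpecialLinearGroup (Fin n) F) (hg : ¬ p ∣ orderOf g)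
    (hcomm : ∀ v ∈ W, ∀ φ : Fin n → F, (∀ w ∈ W, φ ⬝ᵥ w = 0) →
      (g : Matrix (Fin n) (Fin n) F) * (1 + vecMulVec v φ) =
        (1 + vecMulVec v φ) * (g : Matrix (Fin n) (Fin n) F)) :
    g ∈ Subgroup.center (SpecialLinearGroup (Fin n) F) := by
  classical
  have hp : p.Prime := Fact.out
  obtain ⟨v₀, -, hv₀⟩ := Submodule.exists_mem_ne_zero_of_ne_bot hW0
  obtain ⟨i₀, -⟩ := Function.ne_iff.mp hv₀
  haveI : Nonempty (Fin n) := ⟨i₀⟩
  obtain ⟨c, hc⟩ := exists_sq_zero_of_commute W hW0 hW1 (g : Matrix (Fin n) (Fin n) F) hcomm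
  set G : Matrix (Fin n) (Fin n) F := (g : Matrix (Fin n) (Fin n) F) with hG
  set N : Matrix (Fin n) (Fin n) F := G - c • 1 with hN
  -- `G ^ p` is scalar
  have hGp : G ^ p = (c ^ p) • (1 : Matrix (Fin n) (Fin n) F) := by
    have h1 : G = c • (1 : Matrix (Fin n) (Fin n) F) + N := by rw [hN]; abel
    have hcm : Commute (c • (1 : Matrix (Fin n) (Fin n) F)) N :=
      (Commute.one_left N).smul_left c
    have hNp : N ^ p = 0 := by
      have h2 : N ^ 2 = 0 := by rw [pow_two]; exact hc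
      have : p = 2 + (p - 2) := by have := hp.two_le; omega
      rw [this, pow_add, h2, zero_mul]
    rw [h1, add_pow_char_of_commute _ hcm, hNp, add_zero, smul_pow, one_pow]
  -- `g` is a power of `g ^ p`
  have hscal : ∃ d : F, G = d • (1 : Matrix (Fin n) (Fin n) F) := by
    have hpos : 0 < orderOf g := orderOf_pos g
    rcases Nat.lt_or_ge 1 (orderOf g) with h1 | h1
    · have hcop : Nat.Coprime p (orderOf g) := (Nat.Prime.coprime_iff_not_dvd hp).mpr hg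
      obtain ⟨a, -, ha⟩ := Nat.exists_mul_mod_eq_one_of_coprime hcop h1
      have h2 : g ^ (p * a) = g := by
        rw [← pow_mod_orderOf, ha, pow_one]
      refine ⟨(c ^ p) ^ a, ?_⟩
      have h3 : G = (G ^ p) ^ a := by
        rw [← pow_mul, hG, ← Matrix.SpecialLinearGroup.coe_pow, h2]
      rw [h3, hGp, smul_pow, one_pow]
    · have h2 : orderOf g = 1 := by omega
      rw [orderOf_eq_one_iff] at h2
      refine ⟨1, ?_⟩
      rw [hG, h2, one_smul, Matrix.SpecialLinearGroup.coe_one]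
  obtain ⟨d, hd⟩ := hscal
  rw [Subgroup.mem_center_iff]
  intro h
  apply Subtype.ext
  rw [Matrix.SpecialLinearGroup.coe_mul, Matrix.SpecialLinearGroup.coe_mul]
  show (h : Matrix (Fin n) (Fin n) F) * G = G * (h : Matrix (Fin n) (Fin n) F)
  rw [hd, Matrix.mul_smul, Matrix.smul_mul, mul_one, one_mul]

end Helper6

end Cfsg.Agent.Lib.Helper24.SLB
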