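import Mathlib
import Cfsg.Prelude.Def_GeometricClasses
import Cfsg.Agent.Lib.Helper6.OrthForms
import Cfsg.Agent.Lib.Helper6.SiegelOmega
import Cfsg.Agent.Lib.Helper13.OrthNondeg
import Cfsg.Agent.Lib.Helper13.OrthMax
import Cfsg.Agent.Lib.Helper13.OrthFrame2
import Cfsg.Agent.Lib.Helper13.OrthFrameGeo
import Cfsg.Agent.Lib.Helper9.HubCorA1

/-!
# S5835, piece C-FRAME (helper6): over `GF(3)` the stabiliser of three pairwise orthogonal isometric non-degenerate
3-spaces stabilises a decomposition into nine pairwise orthogonal isometric non-degenerate lines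

`frame_le_decomp` of `notes/S5814Skel_helper29.lean.txt`, exact signature.
-/

set_option autoImplicit false
set_option linter.unusedSectionVars false
set_option linter.unusedVariables false

namespace Cfsg.Agent.Lib.Helper6.S5814CFRAME

open Matrix Cfsg.Geo Module QuadraticMap
open Cfsg.Agent.Lib.Helper6 Cfsg.Agent.Lib.Helper13 Cfsg.Agent.Lib.Helper13.OND

universe u
variable {F : Type u} [Field F] {ι : Type} [Fintype ι] [DecidableEq ι]
variable (Q : QuadraticForm F (ι → F))

/-- an orthogonal frame of vectors of the same non-zero norm gives an orthogonal decomposition into lines -/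
theorem frame_decomp (h2 : (2 : F) ≠ 0) {n : ℕ} (hn : 2 ≤ n) (hcard : Fintype.card ι = n) (c : F) (hc : c ≠ 0)
    (v : Fin n → ι → F) (hv : ∀ k, Q (v k) = c) (horth : ∀ k k', k ≠ k' → polar ⇑Q (v k) (v k') = 0) :
    IsOrthogonalMDecomposition ⇑Q 1 (fun k => Submodule.span F {v k}) := by
  have hvv : ∀ k, polar ⇑Q (v k) (v k) ≠ 0 := by
    intro k
    rw [polar_self, hv, two_smul, ← two_mul]
    exact mul_ne_zero h2 hc
  have hv0 : ∀ k, v k ≠ 0 := by
    intro k h
    have := hv k
    rw [h, map_zero] at this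
    exact hc this.symm
  have hli : LinearIndependent F v := by
    apply LinearMap.BilinForm.linearIndependent_of_iIsOrtho (B := polarBilin Q)
    · rw [LinearMap.BilinForm.iIsOrtho_def]
      intro i j hij
      rw [polarBilin_apply_apply]
      exact horth i j hij
    · intro i
      rw [polarBilin_apply_apply]
      exact hvv i
  refine ⟨⟨⟨hn, one_pos, ?_, ?_, ?_⟩, ?_, ?_⟩, ?_⟩
  · intro k
    exact finrank_span_singleton (hv0 k)
  · exact hli.iSupIndep_span_singleton
  · rw [← Submodule.span_range_eq_iSup]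
    apply hli.span_eq_top_of_card_eq_finrank'
    rw [Fintype.card_fin, Module.finrank_fintype_fun_eq_card, hcard]
  · intro k w hw hw0
    obtain ⟨a, rfl⟩ := Submodule.mem_span_singleton.1 hw
    have ha : a ≠ 0 := by
      rintro rfl
      exact hw0 (zero_smul _ _)
    have h1 : polar (⇑Q) (v k) (a • v k) ≠ 0 := by
      rw [polar_smul_right, smul_eq_mul]
      exact mul_ne_zero ha (hvv k)
    exact ⟨⟨v k, Submodule.mem_span_singleton_self _, h1⟩,
      ⟨v k, Submodule.mem_span_singleton_self _, by rw [polar_comm]; exact h1⟩⟩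
  · intro k k' hkk' x hx y hy
    obtain ⟨a, rfl⟩ := Submodule.mem_span_singleton.1 hx
    obtain ⟨b, rfl⟩ := Submodule.mem_span_singleton.1 hy
    rw [polar_smul_left, polar_smul_right, horth k k' hkk', smul_zero, smul_zero]
  · intro k k'
    refine ⟨(LinearEquiv.toSpanNonzeroSingleton F (ι → F) (v k) (hv0 k)).symm.trans
      (LinearEquiv.toSpanNonzeroSingleton F (ι → F) (v k') (hv0 k')), ?_⟩
    intro w
    have h1 := LinearEquiv.coord_apply_smul F (ι → F) (v k) (hv0 k) w
    rw [LinearEquiv.trans_apply, LinearEquiv.toSpanNonzeroSingleton_apply]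
    change Q ((LinearEquiv.coord F (ι → F) (v k) (hv0 k)) w • v k') = Q (w : ι → F)
    rw [← h1, Q_smul, Q_smul, hv, hv]

/-- an invertible matrix permuting the vectors of a frame up to sign stabilises the decomposition into lines -/
theorem mem_stab_of_perm_frame {n : ℕ} (v : Fin n → ι → F)
    (hind : iSupIndep (fun k => Submodule.span F {v k})) (hv0 : ∀ k, v k ≠ 0) (g : GL ι F)
    (hg : ∀ k, ∃ k', (g : Matrix ι ι F) *ᵥ v k = v k' ∨ (g : Matrix ι ι F) *ᵥ v k = - v k') :
    g ∈ decompositionStabilizer (fun k => Submodule.span F {v k}) := by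
  have hmap : ∀ k, ∃ k', (Submodule.span F {v k}).map (Matrix.toLin' (g : Matrix ι ι F)) =
      Submodule.span F {v k'} := by
    intro k
    obtain ⟨k', hk'⟩ := hg k
    refine ⟨k', ?_⟩
    rw [Submodule.map_span, Set.image_singleton, Matrix.toLin'_apply]
    rcases hk' with h | h
    · rw [h]
    · rw [h]
      have : - v k' = (-1 : F) • v k' := by rw [neg_smul, one_smul]
      rw [this, Submodule.span_singleton_smul_eq (IsUnit.neg isUnit_one)]
  choose τ hτ using hmap
  have hginj : Function.Injective (Matrix.toLin' (g : Matrix ι ι F)) := by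
    intro x y hxy
    have h1 := congrArg (fun z => ((g⁻¹ : GL ι F) : Matrix ι ι F) *ᵥ z) hxy
    simp only [Matrix.toLin'_apply, Matrix.mulVec_mulVec] at h1
    rwa [← Units.val_mul, inv_mul_cancel, Units.val_one, Matrix.one_mulVec, Matrix.one_mulVec] at h1
  have hne : ∀ k, Submodule.span F {v k} ≠ ⊥ := by
    intro k h
    rw [Submodule.span_singleton_eq_bot] at h
    exact hv0 k h
  have hτinj : Function.Injective τ := by
    intro k k' hkk'
    have h1 : (Submodule.span F {v k}).map (Matrix.toLin' (g : Matrix ι ι F)) =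
        (Submodule.span F {v k'}).map (Matrix.toLin' (g : Matrix ι ι F)) := by
      rw [hτ k, hτ k', hkk']
    have h2 := Submodule.map_injective_of_injective hginj h1
    exact hind.injective hne h2
  refine ⟨Equiv.ofBijective τ (Finite.injective_iff_bijective.1 hτinj), ?_⟩
  intro k
  rw [Equiv.ofBijective_apply]
  exact hτ k

variable [Fintype F]

/-- C-FRAME -/
theorem frame_le_decomp (hQ : (polarBilin Q).Nondegenerate) (hq : Fintype.card F = 3)
    (D : Fin 3 → Submodule F (ι → F)) (hD : IsOrthogonalMDecomposition ⇑Q 3 D) :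
    ∃ D' : Fin 9 → Submodule F (ι → F), IsOrthogonalMDecomposition ⇑Q 1 D' ∧
      decompositionStabilizer D ⊓ Cfsg.isometryGroup F ⇑Q ≤ decompositionStabilizer D' := by
  have h3 : (3 : F) = 0 := by
    have h := FiniteField.cast_card_eq_zero F
    rw [hq] at h
    exact_mod_cast h
  have hF : ∀ x : F, x ≠ 0 → x * x = 1 := by
    intro x hx
    have h1 := FiniteField.pow_card_sub_one_eq_one x hx
    rw [hq, show 3 - 1 = 2 from rfl, pow_two] at h1
    exact h1
  have h2 : (2 : F) ≠ 0 := two_ne_zero_of_three h3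
  have hcard : Fintype.card ι = 9 := by
    have := Cfsg.Agent.Lib.Helper9.HubCor.mul_eq_card_of_isMDecomposition D hD.decomp.decomp
    omega
  have hnd : ∀ i, NondegOn Q (D i) := by
    intro i x hx hall
    by_contra hx0
    obtain ⟨y, hy, hne⟩ := (hD.decomp.nondegenerate i x hx hx0).2
    exact hne (hall y hy)
  have hfr : ∀ i, finrank F (D i) = 3 := hD.decomp.decomp.finrank_eq
  obtain ⟨c, hc, w₁, hw₁, w₂, hw₂, w₃, hw₃, hQ₁, hQ₂, hQ₃, h12, h13, h23⟩ :=
    exists_orth_triple_eq Q hF h3 (D 0) (hnd 0) (hfr 0)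
  have h21 : polar Q w₂ w₁ = 0 := by rw [polar_comm]; exact h12
  have h31 : polar Q w₃ w₁ = 0 := by rw [polar_comm]; exact h13
  have h32 : polar Q w₃ w₂ = 0 := by rw [polar_comm]; exact h23
  choose e he using (fun i => hD.isometric 0 i)
  set w : Fin 3 → D 0 := ![⟨w₁, hw₁⟩, ⟨w₂, hw₂⟩, ⟨w₃, hw₃⟩] with hw
  have hwQ : ∀ a, Q ((w a : D 0) : ι → F) = c := by
    intro a
    fin_cases a
    · exact hQ₁
    · exact hQ₂
    · exact hQ₃
  have hwpol : ∀ a b, a ≠ b → polar Q ((w a : D 0) : ι → F) ((w b : D 0) : ι → F) = 0 := by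
    intro a b hab
    fin_cases a <;> fin_cases b
    · exact absurd rfl hab
    · exact h12
    · exact h13
    · exact h21
    · exact absurd rfl hab
    · exact h23
    · exact h31
    · exact h32
    · exact absurd rfl hab
  set vv : Fin 3 → Fin 3 → (ι → F) := fun i a => ((e i (w a) : D i) : ι → F) with hvv
  have hvvD : ∀ i a, vv i a ∈ D i := fun i a => (e i (w a)).2
  have hvvQ : ∀ i a, Q (vv i a) = c := by
    intro i a
    have := he i (w a)
    change Q (vv i a) = _ at this
    rw [this]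
    exact hwQ a
  have hvvpol : ∀ i a b, a ≠ b → polar Q (vv i a) (vv i b) = 0 := by
    intro i a b hab
    have h1 := polar_of_isometry Q (D 0) (D i) (e i) (he i) (w a) (w b)
    change polar Q (vv i a) (vv i b) = _ at h1
    rw [h1]
    exact hwpol a b hab
  have hcross : ∀ i j a b, i ≠ j → polar Q (vv i a) (vv j b) = 0 := fun i j a b hij =>
    hD.decomp.orthogonal i j hij _ (hvvD i a) _ (hvvD j b)
  have hclass : ∀ i x, x ∈ D i → Q x = c → ∃ a, x = vv i a ∨ x = - vv i a := by
    intro i x hx hQx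
    rcases eq_of_orth_triple Q hF h3 (D i) (hfr i) c hc (vv i 0) (vv i 1) (vv i 2) (hvvD i 0) (hvvD i 1)
      (hvvD i 2) (hvvQ i 0) (hvvQ i 1) (hvvQ i 2) (hvvpol i 0 1 (by decide)) (hvvpol i 0 2 (by decide))
      (hvvpol i 1 2 (by decide)) x hx hQx with (h | h) | (h | h) | (h | h)
    · exact ⟨0, Or.inl h⟩
    · exact ⟨0, Or.inr h⟩
    · exact ⟨1, Or.inl h⟩
    · exact ⟨1, Or.inr h⟩
    · exact ⟨2, Or.inl h⟩
    · exact ⟨2, Or.inr h⟩
  let E : Fin 9 ≃ Fin 3 × Fin 3 := (finProdFinEquiv (m := 3) (n := 3)).symm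
  set v : Fin 9 → ι → F := fun k => vv (E k).1 (E k).2 with hv
  have hvorth : ∀ k k', k ≠ k' → polar ⇑Q (v k) (v k') = 0 := by
    intro k k' hkk'
    by_cases hi : (E k).1 = (E k').1
    · have ha : (E k).2 ≠ (E k').2 := fun ha => hkk' (E.injective (Prod.ext hi ha))
      change polar Q (vv (E k).1 (E k).2) (vv (E k').1 (E k').2) = 0
      rw [← hi]
      exact hvvpol _ _ _ ha
    · exact hcross _ _ _ _ hi
  have hdec := frame_decomp Q h2 (by norm_num) hcard c hc v (fun k => hvvQ _ _) hvorth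
  refine ⟨fun k => Submodule.span F {v k}, hdec, ?_⟩
  rintro g ⟨⟨σ, hσ⟩, hgI⟩
  have hv0 : ∀ k, v k ≠ 0 := by
    intro k h
    have := hvvQ (E k).1 (E k).2
    change Q (v k) = c at this
    rw [h, map_zero] at this
    exact hc this.symm
  apply mem_stab_of_perm_frame v hdec.decomp.decomp.indep hv0 g
  intro k
  have h1 : (g : Matrix ι ι F) *ᵥ v k ∈ D (σ (E k).1) := by
    rw [← hσ]
    exact ⟨v k, hvvD _ _, by rw [Matrix.toLin'_apply]⟩
  have h2' : Q ((g : Matrix ι ι F) *ᵥ v k) = c := by
    have := hgI (v k) (v k)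
    change Q ((g : Matrix ι ι F) *ᵥ v k) = Q (v k) at this
    rw [this]
    exact hvvQ _ _
  obtain ⟨a, ha⟩ := hclass _ _ h1 h2'
  refine ⟨E.symm (σ (E k).1, a), ?_⟩
  change _ = vv (E (E.symm (σ (E k).1, a))).1 (E (E.symm (σ (E k).1, a))).2 ∨
    _ = - vv (E (E.symm (σ (E k).1, a))).1 (E (E.symm (σ (E k).1, a))).2
  rw [Equiv.apply_symm_apply]
  exact ha

end Cfsg.Agent.Lib.Helper6.S5814CFRAME
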