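import Mathlib
import Cfsg.Agent.Lib.Helper6.SiegelTrans

/-!
# `Ω` acts primitively on the singular points (dimension at least five)
-/

set_option autoImplicit false
open scoped LinearAlgebra.Projectivization

namespace Cfsg.Agent.Lib.Helper6

open Matrix Cfsg.Agent.Lib.Helper15
open scoped Pointwise

section
variable {F : Type*} [Field F] {ι : Type} [Fintype ι] [DecidableEq ι]
  (Q : QuadraticForm F (ι → F))

theorem Q_rep_mk (v : ι → F) (hv : v ≠ 0) : Q (Projectivization.mk F v hv).rep = 0 ↔ Q v = 0 := by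
  obtain ⟨a, ha⟩ := Projectivization.exists_smul_eq_mk_rep F v hv
  rw [← ha, Units.smul_def, Q_smul]
  constructor
  · intro h
    rcases mul_eq_zero.mp h with h | h
    · exact absurd (mul_self_eq_zero.mp h) a.ne_zero
    · exact h
  · intro h
    rw [h, mul_zero]

theorem smul_mk_Omega (g : ↥(Cfsg.Omega F ⇑Q)) (v : ι → F) (hv : v ≠ 0) :
    g • Projectivization.mk F v hv =
      Projectivization.mk F (gact Q g.1 v) (by rw [ne_eq, gact_eq_zero_iff]; exact hv) := rfl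

/-- the singular points -/
def singPts : SubMulAction ↥(Cfsg.Omega F ⇑Q) (ℙ F (ι → F)) where
  carrier := {p | Q p.rep = 0}
  smul_mem' := by
    intro g p hp
    induction p using Projectivization.ind with
    | h v hv =>
      rw [Set.mem_setOf_eq, Q_rep_mk] at hp
      rw [Set.mem_setOf_eq, smul_mk_Omega, Q_rep_mk, Q_gact]
      exact hp

noncomputable instance (priority := 5000) instMulActionSingPts :
    MulAction ↥(Cfsg.Omega F ⇑Q) ↥(singPts Q) := SubMulAction.mulAction' (singPts Q)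

noncomputable instance (priority := 5000) instSMulSingPts :
    SMul ↥(Cfsg.Omega F ⇑Q) ↥(singPts Q) := (instMulActionSingPts Q).toSMul

/-- the singular point spanned by a singular vector -/
def pt (u : ι → F) (hu0 : u ≠ 0) (hu : Q u = 0) : ↥(singPts Q) :=
  ⟨Projectivization.mk F u hu0, (Q_rep_mk Q u hu0).mpr hu⟩

theorem exists_pt (x : ↥(singPts Q)) : ∃ (u : ι → F) (hu0 : u ≠ 0) (hu : Q u = 0), x = pt Q u hu0 hu := by
  obtain ⟨p, hp⟩ := x
  induction p using Projectivization.ind with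
  | h v hv =>
    exact ⟨v, hv, (Q_rep_mk Q v hv).mp hp, rfl⟩

theorem smul_pt (g : ↥(Cfsg.Omega F ⇑Q)) (u : ι → F) (hu0 : u ≠ 0) (hu : Q u = 0) :
    g • pt Q u hu0 hu = pt Q (gact Q g.1 u) (by rw [ne_eq, gact_eq_zero_iff]; exact hu0)
      (by rw [Q_gact]; exact hu) := rfl

theorem pt_eq_pt_iff (u u' : ι → F) (hu0 : u ≠ 0) (hu : Q u = 0) (hu0' : u' ≠ 0) (hu' : Q u' = 0) :
    pt Q u hu0 hu = pt Q u' hu0' hu' ↔ ∃ a : F, a • u' = u := by
  rw [← Projectivization.mk_eq_mk_iff' F u u' hu0 hu0']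
  constructor
  · intro h
    exact congrArg Subtype.val h
  · intro h
    exact Subtype.ext h

theorem pt_congr (u u' : ι → F) (hu0 : u ≠ 0) (hu : Q u = 0) (h : u = u') :
    pt Q u hu0 hu = pt Q u' (h ▸ hu0) (h ▸ hu) := by
  subst h; rfl

/-- if `g ∈ Ω` fixes `x` and `⟨x⟩, ⟨y⟩ ∈ B` then `⟨g y⟩ ∈ B` -/
theorem block_step_pt {B : Set ↥(singPts Q)} (hB : MulAction.IsBlock ↥(Cfsg.Omega F ⇑Q) B)
    (g : ↥(Cfsg.Omega F ⇑Q)) (x y : ι → F) (hx0 : x ≠ 0) (hx : Q x = 0) (hy0 : y ≠ 0)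
    (hy : Q y = 0) (hgx : gact Q g.1 x = x) (hxB : pt Q x hx0 hx ∈ B) (hyB : pt Q y hy0 hy ∈ B) :
    pt Q (gact Q g.1 y) (by rw [ne_eq, gact_eq_zero_iff]; exact hy0) (by rw [Q_gact]; exact hy) ∈ B := by
  rw [MulAction.isBlock_iff_smul_eq_of_mem] at hB
  have h1 : g • pt Q x hx0 hx = pt Q x hx0 hx := by
    rw [smul_pt]
    exact (pt_congr Q x _ hx0 hx hgx.symm).symm
  have h2 : g • B = B := hB hxB (by rw [h1]; exact hxB)
  have h3 : g • pt Q y hy0 hy ∈ g • B := Set.smul_mem_smul_set hyB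
  rw [h2, smul_pt] at h3
  exact h3

end

section finite
variable {F : Type*} [Field F] [Fintype F] {ι : Type} [Fintype ι] [DecidableEq ι]
  (Q : QuadraticForm F (ι → F))

theorem lemmaA_pt (hQ : (QuadraticMap.polarBilin Q).Nondegenerate) (h5 : 5 ≤ Fintype.card ι)
    {B : Set ↥(singPts Q)} (hB : MulAction.IsBlock ↥(Cfsg.Omega F ⇑Q) B)
    (x y y' : ι → F) (hx0 : x ≠ 0) (hx : Q x = 0) (hy0 : y ≠ 0) (hy : Q y = 0) (hy0' : y' ≠ 0)
    (hy' : Q y' = 0) (hxy : QuadraticMap.polar (⇑Q) x y ≠ 0)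
    (hxy' : QuadraticMap.polar (⇑Q) x y' ≠ 0)
    (hxB : pt Q x hx0 hx ∈ B) (hyB : pt Q y hy0 hy ∈ B) : pt Q y' hy0' hy' ∈ B := by
  obtain ⟨c, hc⟩ : ∃ c, c = QuadraticMap.polar (⇑Q) x y := ⟨_, rfl⟩
  obtain ⟨c', hc'⟩ : ∃ c', c' = QuadraticMap.polar (⇑Q) x y' := ⟨_, rfl⟩
  rw [← hc] at hxy
  rw [← hc'] at hxy'
  have h1 : QuadraticMap.polar (⇑Q) x (c⁻¹ • y) = 1 := by
    rw [QuadraticMap.polar_smul_right, ← hc, smul_eq_mul, inv_mul_cancel₀ hxy]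
  have h1' : QuadraticMap.polar (⇑Q) x (c'⁻¹ • y') = 1 := by
    rw [QuadraticMap.polar_smul_right, ← hc', smul_eq_mul, inv_mul_cancel₀ hxy']
  obtain ⟨w, hxw, hgx, hgy⟩ := exists_sieg_move_partner Q x (c⁻¹ • y) (c'⁻¹ • y') hx
    (by rw [Q_smul, hy, mul_zero]) (by rw [Q_smul, hy', mul_zero]) h1 h1'
  have hmem := siegIso_mem_Omega Q hQ h5 x w hx hxw
  have hgy2 : gact Q (siegIso Q x w hx hxw) y = (c * c'⁻¹) • y' := by
    have : y = c • (c⁻¹ • y) := by rw [smul_smul, mul_inv_cancel₀ hxy, one_smul]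
    rw [this, gact_smul, hgy, smul_smul]
  have := block_step_pt Q hB ⟨siegIso Q x w hx hxw, hmem⟩ x y hx0 hx hy0 hy hgx hxB hyB
  convert this using 1
  rw [pt_eq_pt_iff]
  refine ⟨(c * c'⁻¹)⁻¹, ?_⟩
  change (c * c'⁻¹)⁻¹ • gact Q (siegIso Q x w hx hxw) y = y'
  rw [hgy2, smul_smul, inv_mul_cancel₀ (mul_ne_zero hxy (inv_ne_zero hxy')), one_smul]

/-- `Ω` acts primitively on the singular points -/
theorem isPreprimitive_singPts (hQ : (QuadraticMap.polarBilin Q).Nondegenerate)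
    (h5 : 5 ≤ Fintype.card ι) :
    MulAction.IsPreprimitive ↥(Cfsg.Omega F ⇑Q) ↥(singPts Q) := by
  have hSg := Sg_eq_Omega Q hQ h5
  have htrans : MulAction.IsPretransitive ↥(Cfsg.Omega F ⇑Q) ↥(singPts Q) := by
    constructor
    intro P P'
    obtain ⟨u, hu0, hu, rfl⟩ := exists_pt Q P
    obtain ⟨u', hu0', hu', rfl⟩ := exists_pt Q P'
    obtain ⟨g, hg, hgu⟩ := exists_Sg_move Q hQ h5 u u' hu0 hu0' hu hu'
    rw [hSg] at hg
    refine ⟨⟨g, hg⟩, ?_⟩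
    rw [smul_pt]
    exact pt_congr Q _ _ _ _ hgu
  refine { toIsPretransitive := htrans, isTrivialBlock_of_isBlock := ?_ }
  intro B hB
  by_cases hsub : B.Subsingleton
  · exact Or.inl hsub
  right
  rw [Set.not_subsingleton_iff] at hsub
  obtain ⟨P, hP, P', hP', hPP'⟩ := hsub
  obtain ⟨x₀, hx₀0, hx₀, rfl⟩ := exists_pt Q P
  obtain ⟨y₀, hy₀0, hy₀, rfl⟩ := exists_pt Q P'
  -- a non-perpendicular pair in `B`
  have hpair : ∃ (x y : ι → F) (hx0 : x ≠ 0) (hx : Q x = 0) (hy0 : y ≠ 0) (hy : Q y = 0),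
      QuadraticMap.polar (⇑Q) x y ≠ 0 ∧ pt Q x hx0 hx ∈ B ∧ pt Q y hy0 hy ∈ B := by
    by_cases hxy : QuadraticMap.polar (⇑Q) x₀ y₀ ≠ 0
    · exact ⟨x₀, y₀, hx₀0, hx₀, hy₀0, hy₀, hxy, hP, hP'⟩
    push Not at hxy
    have hind : ∀ c : F, y₀ ≠ c • x₀ := by
      intro c h
      apply hPP'
      rw [pt_eq_pt_iff]
      have hc0 : c ≠ 0 := by
        rintro rfl
        rw [zero_smul] at h
        exact hy₀0 h
      exact ⟨c⁻¹, by rw [h, smul_smul, inv_mul_cancel₀ hc0, one_smul]⟩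
    obtain ⟨g, hg, hgx, hgy⟩ := exists_sieg_unperp Q hQ h5 x₀ y₀ hx₀0 hx₀ hy₀ hxy hind
    rw [hSg] at hg
    have := block_step_pt Q hB ⟨g, hg⟩ x₀ y₀ hx₀0 hx₀ hy₀0 hy₀ hgx hP hP'
    exact ⟨y₀, gact Q g y₀, hy₀0, hy₀, _, _, hgy, hP', this⟩
  obtain ⟨x, y, hx0, hx, hy0, hy, hxy, hxB, hyB⟩ := hpair
  rw [Set.eq_univ_iff_forall]
  intro R
  obtain ⟨z, hz0, hz, rfl⟩ := exists_pt Q R
  by_cases hxz : QuadraticMap.polar (⇑Q) x z ≠ 0
  · exact lemmaA_pt Q hQ h5 hB x y z hx0 hx hy0 hy hz0 hz hxy hxz hxB hyB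
  push Not at hxz
  obtain ⟨y'', hy'', h1, h2⟩ := exists_common_nonperp Q hQ x z hx0 hz0 hx
    (by rw [QuadraticMap.polar_comm, hxz])
  have hy''0 : y'' ≠ 0 := by
    rintro rfl
    apply h1
    simp
  have hy''B := lemmaA_pt Q hQ h5 hB x y y'' hx0 hx hy0 hy hy''0 hy'' hxy h1 hxB hyB
  exact lemmaA_pt Q hQ h5 hB y'' x z hy''0 hy'' hx0 hx hz0 hz
    (by rw [QuadraticMap.polar_comm]; exact h1) (by rw [QuadraticMap.polar_comm]; exact h2)
    hy''B hxB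

end finite

end Cfsg.Agent.Lib.Helper6
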