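import Mathlib
import Cfsg.Agent.Lib.Helper6.SiegelPrim
import Cfsg.Agent.Lib.Helper6.SiegelPerfect

/-!
# `PΩ` is simple in dimension at least five (finite field, non-degenerate polar form)
-/

set_option autoImplicit false
open scoped LinearAlgebra.Projectivization

namespace Cfsg.Agent.Lib.Helper6

open Matrix Cfsg.Agent.Lib.Helper15
open scoped Pointwise

section
variable {F : Type*} [Field F] {ι : Type} [Fintype ι] [DecidableEq ι]
  (Q : QuadraticForm F (ι → F))

theorem siegIso_congr_left (u u' w : ι → F) (hu : Q u = 0)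
    (huw : QuadraticMap.polar (⇑Q) u w = 0) (h : u = u') :
    siegIso Q u w hu huw = siegIso Q u' w (h ▸ hu) (h ▸ huw) := by
  subst h; rfl

/-- `g` fixes every singular point -/
def FixPts (g : ↥(Cfsg.isometryGroup F ⇑Q)) : Prop :=
  ∀ v : ι → F, v ≠ 0 → Q v = 0 → ∃ μ : F, gact Q g v = μ • v

theorem FixPts.mul {g h : ↥(Cfsg.isometryGroup F ⇑Q)} (hg : FixPts Q g) (hh : FixPts Q h) :
    FixPts Q (g * h) := by
  intro v hv0 hv
  obtain ⟨μ, hμ⟩ := hh v hv0 hv
  obtain ⟨ν, hν⟩ := hg v hv0 hv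
  exact ⟨μ * ν, by rw [gact_mul, hμ, gact_smul, hν, smul_smul]⟩

theorem FixPts.inv {g : ↥(Cfsg.isometryGroup F ⇑Q)} (hg : FixPts Q g) : FixPts Q g⁻¹ := by
  intro v hv0 hv
  obtain ⟨μ, hμ⟩ := hg v hv0 hv
  have hμ0 : μ ≠ 0 := by
    rintro rfl
    rw [zero_smul, gact_eq_zero_iff] at hμ
    exact hv0 hμ
  refine ⟨μ⁻¹, ?_⟩
  have := congrArg (gact Q g⁻¹) hμ
  rw [gact_inv_gact, gact_smul] at this
  rw [eq_inv_smul_iff₀ hμ0]
  exact this.symm

theorem FixPts.conj {g : ↥(Cfsg.isometryGroup F ⇑Q)} (hg : FixPts Q g)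
    (h : ↥(Cfsg.isometryGroup F ⇑Q)) : FixPts Q (h * g * h⁻¹) := by
  intro v hv0 hv
  obtain ⟨μ, hμ⟩ := hg (gact Q h⁻¹ v) (by rw [ne_eq, gact_eq_zero_iff]; exact hv0)
    (by rw [Q_gact]; exact hv)
  exact ⟨μ, by rw [gact_mul, gact_mul, hμ, gact_smul, gact_gact_inv]⟩

/-- a Siegel transformation fixing every singular point is trivial -/
theorem siegIso_eq_one_of_fixPts (hQ : (QuadraticMap.polarBilin Q).Nondegenerate)
    (u w : ι → F) (hu0 : u ≠ 0) (hu : Q u = 0) (huw : QuadraticMap.polar (⇑Q) u w = 0)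
    (h : FixPts Q (siegIso Q u w hu huw)) : siegIso Q u w hu huw = 1 := by
  obtain ⟨v, hv, huv⟩ := exists_hyperbolic_partner Q hQ u hu0 hu
  have hv0 : v ≠ 0 := by
    rintro rfl
    simp at huv
  obtain ⟨μ, hμ⟩ := h v hv0 hv
  rw [gact_siegIso, huv] at hμ
  have h1 := congrArg (QuadraticMap.polar (⇑Q) u) hμ
  rw [QuadraticMap.polar_add_right, QuadraticMap.polar_add_right, QuadraticMap.polar_smul_right,
    QuadraticMap.polar_smul_right, QuadraticMap.polar_smul_right, QuadraticMap.polar_self, hu,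
    huw, huv] at h1
  simp only [smul_eq_mul, mul_one, nsmul_zero, mul_zero, add_zero] at h1
  rw [← h1, one_smul] at hμ
  -- hence `w` is a multiple of `u`
  have hw : w = 0 + (QuadraticMap.polar (⇑Q) w v - Q w * 1) • u := by
    have h2 : (QuadraticMap.polar (⇑Q) w v - Q w * 1) • u + (-(1 : F)) • w = 0 := by
      have := hμ
      rw [add_assoc] at this
      exact add_eq_left.mp this
    rw [zero_add]
    have h3 : w = (QuadraticMap.polar (⇑Q) w v - Q w * 1) • u := by
      rw [neg_smul, one_smul] at h2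
      exact (sub_eq_zero.mp (by rw [← h2]; abel)).symm
    exact h3
  rw [siegIso_congr Q u w _ hu huw hw, siegIso_add_smul Q _ u 0 hu (by simp)]
  exact siegIso_zero Q u hu

/-- an isometry fixing every singular point commutes with the Siegel transformations -/
theorem commute_of_fixPts (hQ : (QuadraticMap.polarBilin Q).Nondegenerate)
    (k : ↥(Cfsg.isometryGroup F ⇑Q)) (hk : FixPts Q k) (u w : ι → F) (hu : Q u = 0)
    (huw : QuadraticMap.polar (⇑Q) u w = 0) :
    k * siegIso Q u w hu huw = siegIso Q u w hu huw * k := by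
  by_cases hu0 : u = 0
  · subst hu0
    have : siegIso Q 0 w hu huw = 1 := by
      apply iso_ext_gact
      intro x
      rw [gact_siegIso, gact_one]
      simp
    rw [this, mul_one, one_mul]
  obtain ⟨a, ha⟩ := hk u hu0 hu
  have hc : FixPts Q (k * siegIso Q u w hu huw * k⁻¹ * (siegIso Q u w hu huw)⁻¹) := by
    have h1 : k * siegIso Q u w hu huw * k⁻¹ * (siegIso Q u w hu huw)⁻¹ =
        k * (siegIso Q u w hu huw * k⁻¹ * (siegIso Q u w hu huw)⁻¹) := by group
    rw [h1]
    exact FixPts.mul Q hk (FixPts.conj Q (FixPts.inv Q hk) _)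
  have hpol : QuadraticMap.polar (⇑Q) u (gact Q k w) = 0 := by
    have h1 := polar_gact Q k u w
    rw [ha, QuadraticMap.polar_smul_left, huw] at h1
    have ha0 : a ≠ 0 := by
      rintro rfl
      rw [zero_smul, gact_eq_zero_iff] at ha
      exact hu0 ha
    rcases mul_eq_zero.mp h1 with h | h
    · exact absurd h ha0
    · exact h
  have hform : k * siegIso Q u w hu huw * k⁻¹ * (siegIso Q u w hu huw)⁻¹ =
      siegIso Q u (a • gact Q k w + -w) hu (by
        rw [QuadraticMap.polar_add_right, QuadraticMap.polar_smul_right,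
          QuadraticMap.polar_neg_right, hpol, huw]; simp) := by
    rw [conj_siegIso, siegIso_inv, siegIso_congr_left Q _ _ _ _ _ ha, siegIso_smul_left Q a u _ hu hpol,
      siegIso_mul]
  rw [hform] at hc
  have h1 := siegIso_eq_one_of_fixPts Q hQ u _ hu0 hu _ hc
  rw [← hform] at h1
  have h2 : k * siegIso Q u w hu huw * k⁻¹ = siegIso Q u w hu huw := by
    rw [mul_inv_eq_one] at h1
    exact h1
  calc k * siegIso Q u w hu huw = (k * siegIso Q u w hu huw * k⁻¹) * k := by group
    _ = siegIso Q u w hu huw * k := by rw [h2]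

/-- the group of Siegel transformations attached to `u` -/
def AsubAux (u : ι → F) (hu : Q u = 0) : Subgroup ↥(Cfsg.isometryGroup F ⇑Q) where
  carrier := {g | ∃ (w : ι → F) (huw : QuadraticMap.polar (⇑Q) u w = 0), g = siegIso Q u w hu huw}
  mul_mem' := by
    rintro _ _ ⟨w, hw, rfl⟩ ⟨w', hw', rfl⟩
    exact ⟨w + w', _, siegIso_mul Q u w w' hu hw hw'⟩
  one_mem' := ⟨0, by simp, (siegIso_zero Q u hu).symm⟩
  inv_mem' := by
    rintro _ ⟨w, hw, rfl⟩
    exact ⟨-w, _, siegIso_inv Q u w hu hw⟩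

open Classical in
/-- the group of Siegel transformations attached to `u` (trivial if `u` is not singular) -/
noncomputable def Asub (u : ι → F) : Subgroup ↥(Cfsg.isometryGroup F ⇑Q) :=
  if hu : Q u = 0 then AsubAux Q u hu else ⊥

theorem mem_Asub (u : ι → F) (hu : Q u = 0) (g : ↥(Cfsg.isometryGroup F ⇑Q)) :
    g ∈ Asub Q u ↔ ∃ (w : ι → F) (huw : QuadraticMap.polar (⇑Q) u w = 0),
      g = siegIso Q u w hu huw := by
  unfold Asub
  rw [dif_pos hu]
  rfl

theorem Asub_smul (a : F) (ha : a ≠ 0) (u : ι → F) (hu : Q u = 0) :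
    Asub Q (a • u) = Asub Q u := by
  have hau : Q (a • u) = 0 := by rw [Q_smul, hu, mul_zero]
  ext g
  rw [mem_Asub Q _ hau, mem_Asub Q _ hu]
  constructor
  · rintro ⟨w, hw, rfl⟩
    have hw' : QuadraticMap.polar (⇑Q) u w = 0 := by
      rw [QuadraticMap.polar_smul_left, smul_eq_mul] at hw
      rcases mul_eq_zero.mp hw with h | h
      · exact absurd h ha
      · exact h
    exact ⟨a • w, _, siegIso_smul_left Q a u w hu hw'⟩
  · rintro ⟨w, hw, rfl⟩
    refine ⟨a⁻¹ • w, by
      rw [QuadraticMap.polar_smul_left, QuadraticMap.polar_smul_right, hw]; simp, ?_⟩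
    rw [siegIso_smul_left Q a u (a⁻¹ • w) hu (by
      rw [QuadraticMap.polar_smul_right, hw, smul_zero])]
    exact siegIso_congr Q u w _ hu hw (by rw [smul_smul, mul_inv_cancel₀ ha, one_smul])

theorem Asub_conj (g : ↥(Cfsg.isometryGroup F ⇑Q)) (u : ι → F) (hu : Q u = 0) :
    Asub Q (gact Q g u) = MulAut.conj g • Asub Q u := by
  have hgu : Q (gact Q g u) = 0 := by rw [Q_gact, hu]
  ext h
  rw [Subgroup.mem_smul_pointwise_iff_exists, mem_Asub Q _ hgu]
  constructor
  · rintro ⟨w, hw, rfl⟩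
    have hw' : QuadraticMap.polar (⇑Q) u (gact Q g⁻¹ w) = 0 := by
      rw [← polar_gact Q g, gact_gact_inv, hw]
    refine ⟨siegIso Q u (gact Q g⁻¹ w) hu hw', (mem_Asub Q u hu _).mpr ⟨_, hw', rfl⟩, ?_⟩
    rw [MulAut.smul_def, MulAut.conj_apply, conj_siegIso]
    exact (siegIso_congr Q _ _ _ _ _ (gact_gact_inv Q g w)).trans rfl
  · rintro ⟨s, hs, rfl⟩
    obtain ⟨w, hw, rfl⟩ := (mem_Asub Q u hu s).mp hs
    rw [MulAut.smul_def, MulAut.conj_apply, conj_siegIso]
    exact ⟨_, _, rfl⟩

end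

section finite
variable {F : Type*} [Field F] [Fintype F] {ι : Type} [Fintype ι] [DecidableEq ι]
  (Q : QuadraticForm F (ι → F))

/-- an element of `Ω` fixing every singular point is central in `Ω` -/
theorem mem_center_of_fixPts (hQ : (QuadraticMap.polarBilin Q).Nondegenerate)
    (h5 : 5 ≤ Fintype.card ι) (k : ↥(Cfsg.Omega F ⇑Q)) (hk : FixPts Q k.1) :
    k ∈ Subgroup.center ↥(Cfsg.Omega F ⇑Q) := by
  rw [Subgroup.mem_center_iff]
  intro g
  apply Subtype.ext
  change g.1 * k.1 = k.1 * g.1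
  have hg : g.1 ∈ Sg Q := by rw [Sg_eq_Omega Q hQ h5]; exact g.2
  have key : ∀ x ∈ Sg Q, x * k.1 = k.1 * x := by
    intro x hx
    unfold Sg at hx
    induction hx using Subgroup.closure_induction with
    | mem x hx =>
      obtain ⟨u, w, hu, huw, rfl⟩ := hx
      exact (commute_of_fixPts Q hQ k.1 hk u w hu huw).symm
    | one => simp
    | mul a b _ _ ha hb => rw [mul_assoc, hb, ← mul_assoc, ha, mul_assoc]
    | inv a _ ha => exact Commute.inv_left ha
  exact key g.1 hg

/-- the Iwasawa structure of `Ω` acting on the singular points -/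
noncomputable def iwasawaOmega (hQ : (QuadraticMap.polarBilin Q).Nondegenerate)
    (h5 : 5 ≤ Fintype.card ι) :
    MulAction.IwasawaStructure ↥(Cfsg.Omega F ⇑Q) ↥(singPts Q) where
  T x := (Asub Q x.1.rep).subgroupOf (Cfsg.Omega F ⇑Q)
  is_comm x := ⟨⟨fun a b => by
    have hx : Q x.1.rep = 0 := x.2
    obtain ⟨w, hw, ha⟩ := (mem_Asub Q _ hx _).mp a.2
    obtain ⟨w', hw', hb⟩ := (mem_Asub Q _ hx _).mp b.2
    apply Subtype.ext
    apply Subtype.ext
    change a.1.1 * b.1.1 = b.1.1 * a.1.1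
    have ha' : a.1.1 = siegIso Q _ w hx hw := ha
    have hb' : b.1.1 = siegIso Q _ w' hx hw' := hb
    rw [ha', hb', siegIso_mul, siegIso_mul]
    exact siegIso_congr Q _ _ _ _ _ (add_comm w w')⟩⟩
  is_conj g x := by
    obtain ⟨u, hu0, hu, rfl⟩ := exists_pt Q x
    rw [smul_pt]
    obtain ⟨a, ha⟩ := Projectivization.exists_smul_eq_mk_rep F (gact Q g.1 u)
      (by rw [ne_eq, gact_eq_zero_iff]; exact hu0)
    obtain ⟨b, hb⟩ := Projectivization.exists_smul_eq_mk_rep F u hu0
    have e1 : Asub Q (pt Q (gact Q g.1 u) (by rw [ne_eq, gact_eq_zero_iff]; exact hu0)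
        (by rw [Q_gact]; exact hu)).1.rep = Asub Q (gact Q g.1 u) := by
      change Asub Q (Projectivization.mk F (gact Q g.1 u) _).rep = _
      rw [← ha, Units.smul_def, Asub_smul Q _ a.ne_zero _ (by rw [Q_gact]; exact hu)]
    have e2 : Asub Q (pt Q u hu0 hu).1.rep = Asub Q u := by
      change Asub Q (Projectivization.mk F u hu0).rep = _
      rw [← hb, Units.smul_def, Asub_smul Q _ b.ne_zero _ hu]
    rw [e1, e2, Asub_conj Q g.1 u hu]
    ext h
    rw [Subgroup.mem_subgroupOf, Subgroup.mem_smul_pointwise_iff_exists,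
      Subgroup.mem_smul_pointwise_iff_exists]
    constructor
    · rintro ⟨s, hs, hsh⟩
      have hsΩ : s ∈ Cfsg.Omega F ⇑Q := by
        obtain ⟨w, hw, rfl⟩ := (mem_Asub Q u hu s).mp hs
        exact siegIso_mem_Omega Q hQ h5 u w hu hw
      refine ⟨⟨s, hsΩ⟩, by rw [Subgroup.mem_subgroupOf]; exact hs, ?_⟩
      apply Subtype.ext
      rw [← hsh]
      rfl
    · rintro ⟨s, hs, rfl⟩
      rw [Subgroup.mem_subgroupOf] at hs
      exact ⟨s.1, hs, rfl⟩
  is_generator := by
    rw [eq_top_iff]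
    intro g _
    have hg : g.1 ∈ Sg Q := by rw [Sg_eq_Omega Q hQ h5]; exact g.2
    -- generators
    have key : ∀ x ∈ Sg Q, ∀ hx : x ∈ Cfsg.Omega F ⇑Q,
        (⟨x, hx⟩ : ↥(Cfsg.Omega F ⇑Q)) ∈
          iSup (fun y : ↥(singPts Q) => (Asub Q y.1.rep).subgroupOf (Cfsg.Omega F ⇑Q)) := by
      intro x hx
      unfold Sg at hx
      induction hx using Subgroup.closure_induction with
      | mem y hy =>
        intro hyΩ
        obtain ⟨u, w, hu, huw, rfl⟩ := hy
        by_cases hu0 : u = 0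
        · subst hu0
          have : siegIso Q 0 w hu huw = 1 := by
            apply iso_ext_gact
            intro x
            rw [gact_siegIso, gact_one]
            simp
          have e : (⟨siegIso Q 0 w hu huw, hyΩ⟩ : ↥(Cfsg.Omega F ⇑Q)) = 1 := Subtype.ext this
          rw [e]
          exact Subgroup.one_mem _
        · obtain ⟨b, hb⟩ := Projectivization.exists_smul_eq_mk_rep F u hu0
          have e2 : Asub Q (pt Q u hu0 hu).1.rep = Asub Q u := by
            change Asub Q (Projectivization.mk F u hu0).rep = _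
            rw [← hb, Units.smul_def, Asub_smul Q _ b.ne_zero _ hu]
          apply Subgroup.mem_iSup_of_mem (pt Q u hu0 hu)
          rw [Subgroup.mem_subgroupOf, e2, mem_Asub Q u hu]
          exact ⟨w, huw, rfl⟩
      | one =>
        intro h1
        exact Subgroup.one_mem _
      | mul a b ha hb iha ihb =>
        intro hab
        have haΩ : a ∈ Cfsg.Omega F ⇑Q := by
          rw [← Sg_eq_Omega Q hQ h5]; exact ha
        have hbΩ : b ∈ Cfsg.Omega F ⇑Q := by
          rw [← Sg_eq_Omega Q hQ h5]; exact hb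
        have := Subgroup.mul_mem _ (iha haΩ) (ihb hbΩ)
        exact this
      | inv a ha iha =>
        intro hinv
        have haΩ : a ∈ Cfsg.Omega F ⇑Q := by
          rw [← Sg_eq_Omega Q hQ h5]; exact ha
        have := Subgroup.inv_mem _ (iha haΩ)
        exact this
    exact key g.1 hg g.2

/-- **`PΩ` is simple** for a quadratic form with non-degenerate polar form in dimension at least
five over a finite field. -/
theorem POmega_isSimpleGroup (hQ : (QuadraticMap.polarBilin Q).Nondegenerate)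
    (h5 : 5 ≤ Fintype.card ι) : IsSimpleGroup (Cfsg.POmega F ⇑Q) := by
  classical
  have hfin : 5 ≤ Module.finrank F (ι → F) := by
    rw [Module.finrank_fintype_fun_eq_card]; exact h5
  have hperf := Omega_perfect Q hQ h5
  haveI hprim := isPreprimitive_singPts Q hQ h5
  haveI : Nontrivial (Cfsg.POmega F ⇑Q) := by
    by_contra hnt
    rw [not_nontrivial_iff_subsingleton] at hnt
    have hc : Subgroup.center ↥(Cfsg.Omega F ⇑Q) = ⊤ := by
      rw [eq_top_iff]
      intro g _
      rw [← QuotientGroup.eq_one_iff]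
      exact Subsingleton.elim _ _
    rw [← commutator_eq_bot_iff_center_eq_top, hperf] at hc
    have hs : Subsingleton ↥(Cfsg.Omega F ⇑Q) :=
      Subgroup.subsingleton_iff.mp (subsingleton_of_bot_eq_top hc.symm)
    -- two distinct singular points
    obtain ⟨u, hu0, hu, -, -⟩ := exists_singular_perp Q hfin (0 : ι → F) 0
    obtain ⟨z₁, z₂, hz₁, hz₂, hz12, -, -⟩ := exists_hyp_pair_perp Q hQ hfin u hu0 hu
    have hz₁0 : z₁ ≠ 0 := by
      rintro rfl
      simp at hz12
    have hz₂0 : z₂ ≠ 0 := by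
      rintro rfl
      simp at hz12
    obtain ⟨g, hg⟩ := MulAction.exists_smul_eq ↥(Cfsg.Omega F ⇑Q) (pt Q z₁ hz₁0 hz₁)
      (pt Q z₂ hz₂0 hz₂)
    have hg1 : g = 1 := Subsingleton.elim _ _
    rw [hg1, one_smul, pt_eq_pt_iff] at hg
    obtain ⟨a, ha⟩ := hg
    rw [← ha, QuadraticMap.polar_smul_left, QuadraticMap.polar_self, hz₂] at hz12
    simp at hz12
  apply IsSimpleGroup.mk
  intro K hK
  have hNn : (K.comap (QuotientGroup.mk' (Subgroup.center ↥(Cfsg.Omega F ⇑Q)))).Normal :=
    hK.comap _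
  by_cases hfix : MulAction.fixedPoints (K.comap (QuotientGroup.mk'
      (Subgroup.center ↥(Cfsg.Omega F ⇑Q)))) ↥(singPts Q) = Set.univ
  · left
    have hNZ : K.comap (QuotientGroup.mk' (Subgroup.center ↥(Cfsg.Omega F ⇑Q))) ≤
        Subgroup.center ↥(Cfsg.Omega F ⇑Q) := by
      intro g hg
      apply mem_center_of_fixPts Q hQ h5
      intro v hv0 hv
      have hx : pt Q v hv0 hv ∈ MulAction.fixedPoints (K.comap (QuotientGroup.mk'
          (Subgroup.center ↥(Cfsg.Omega F ⇑Q)))) ↥(singPts Q) := by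
        rw [hfix]
        exact Set.mem_univ _
      have h1 : g • pt Q v hv0 hv = pt Q v hv0 hv := hx ⟨g, hg⟩
      rw [smul_pt, pt_eq_pt_iff] at h1
      obtain ⟨a, ha⟩ := h1
      exact ⟨a, ha.symm⟩
    rw [eq_bot_iff]
    intro k hk
    obtain ⟨g, rfl⟩ := QuotientGroup.mk'_surjective
      (Subgroup.center ↥(Cfsg.Omega F ⇑Q)) k
    rw [Subgroup.mem_bot]
    exact (QuotientGroup.eq_one_iff g).mpr (hNZ hk)
  · right
    have h1 := (iwasawaOmega Q hQ h5).commutator_le _ hfix
    rw [hperf, top_le_iff] at h1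
    rw [eq_top_iff]
    intro k _
    obtain ⟨g, rfl⟩ := QuotientGroup.mk'_surjective
      (Subgroup.center ↥(Cfsg.Omega F ⇑Q)) k
    have : g ∈ K.comap (QuotientGroup.mk'
        (Subgroup.center ↥(Cfsg.Omega F ⇑Q))) := by
      rw [h1]
      exact Subgroup.mem_top g
    exact this

end finite

end Cfsg.Agent.Lib.Helper6
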