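import Mathlib
import Cfsg.Agent.Lib.Helper13.TensSODefs
import Cfsg.Agent.Lib.Helper20.S5666ExitDefs
import Cfsg.Agent.Lib.Helper16.S5704FOTRANS

/-!
# S5666 EXIT, piece E-ISO (a), (b), (d): Kronecker isometries (helper6)

`kron_mem_iso`, `exists_sp_map`, `reflK_mem_iso` of `notes/S5666ExitASkel_helper20.lean.txt` (rev 2), exact signatures
(+ `mem_iso_of_pur`, `reflM_iso'`).
-/

set_option autoImplicit false
set_option linter.unusedSectionVars false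
set_option linter.unusedVariables false

namespace Cfsg.Agent.Lib.Helper6.S5666EISO

open Matrix Module
open Cfsg.Agent.Lib.Helper16.Tens Cfsg.Agent.Lib.Helper10.TensFund Cfsg.Agent.Lib.Helper13.TensSO
open Cfsg.Agent.Lib.Helper28.TensU (ctrL ctrL_apply ctrL_pur hypL mem_hypL_iff ptL mem_ptL_iff pur_mem_ptL rootGLL
  rootGLL_val act_rootGLL rootGLL_mem_SL rootGLL_mem_kron)
open Cfsg.Agent.Lib.Helper3.SpT (bf SympG E E_mulVec E_mul_E uni uni_val uni_inv_val bf_add_left bf_add_right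
  bf_smul_left bf_smul_right bf_kron_pur bf_zero_left bf_zero_right bf_neg_left bf_neg_right bf_sub_left
  bf_sub_right pur_induction mat_ext_mulVec act_kronGL)
open Cfsg.Agent.Lib.Helper23.S5637T3b (kronGL kronGL_val kronGL_mem_kron)
open Cfsg.Agent.Lib.Helper20.S5666Exit
open Cfsg.Agent.Lib.Helper16.S5704TRANS (tv tv_mulVec tv_isom)
open scoped Kronecker

variable {F : Type*} [Field F] {a b : ℕ}
variable {J1 : Matrix (Fin a) (Fin a) F} {J2 : Matrix (Fin b) (Fin b) F}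

/-- criterion: enough to check the form on pure tensors -/
theorem mem_iso_of_pur (g : GL (Fin a × Fin b) F)
    (h : ∀ (u u' : Fin a → F) (w w' : Fin b → F),
      bf (J1 ⊗ₖ J2) (act g (pur u w)) (act g (pur u' w')) = bf J1 u u' * bf J2 w w') :
    g ∈ IsoG (J1 ⊗ₖ J2) := by
  rw [mem_IsoG_iff]
  intro x y
  change bf (J1 ⊗ₖ J2) (act g x) (act g y) = bf (J1 ⊗ₖ J2) x y
  refine pur_induction (p := fun x => bf (J1 ⊗ₖ J2) (act g x) (act g y) = bf (J1 ⊗ₖ J2) x y) ?_ ?_ ?_ x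
  · simp
  · intro x x' hx hx'
    rw [map_add, bf_add_left, bf_add_left, hx, hx']
  · intro u w
    refine pur_induction (p := fun y => bf (J1 ⊗ₖ J2) (act g (pur u w)) (act g y) = bf (J1 ⊗ₖ J2) (pur u w) y)
      ?_ ?_ ?_ y
    · simp
    · intro y y' hy hy'
      rw [map_add, bf_add_right, bf_add_right, hy, hy']
    · intro u' w'
      rw [h, bf_kron_pur]

/-- E-ISO (a): a `μ`-similitude tensor a `μ⁻¹`-similitude is an isometry -/
theorem kron_mem_iso (A : GL (Fin a) F) (B : GL (Fin b) F) (μ : F) (hμ : μ ≠ 0)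
    (hA : ∀ x y, bf J1 ((A : Matrix (Fin a) (Fin a) F) *ᵥ x) ((A : Matrix (Fin a) (Fin a) F) *ᵥ y) = μ * bf J1 x y)
    (hB : ∀ x y, bf J2 ((B : Matrix (Fin b) (Fin b) F) *ᵥ x) ((B : Matrix (Fin b) (Fin b) F) *ᵥ y) = μ⁻¹ * bf J2 x y) :
    kronGL A B ∈ IsoG (J1 ⊗ₖ J2) := by
  apply mem_iso_of_pur
  intro u u' w w'
  rw [act_kronGL, act_kronGL, bf_kron_pur, hA, hB]
  field_simp

/-- one step: `f₁(u, u') ≠ 0` -/
theorem sp_step (hJ1 : SympG J1) (u u' : Fin a → F) (hne : bf J1 u u' ≠ 0) :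
    ∃ A : GL (Fin a) F,
      (∀ x y, bf J1 ((A : Matrix (Fin a) (Fin a) F) *ᵥ x) ((A : Matrix (Fin a) (Fin a) F) *ᵥ y) = bf J1 x y) ∧
      (A : Matrix (Fin a) (Fin a) F) *ᵥ u = u' := by
  refine ⟨tv hJ1 (u' - u) (bf J1 u u')⁻¹, tv_isom hJ1 _ _, ?_⟩
  rw [tv_mulVec, bf_sub_right, hJ1.alt, sub_zero, inv_mul_cancel₀ hne, one_smul]
  abel

/-- E-ISO (b): `Sp(U)` is transitive on the non-zero vectors -/
theorem exists_sp_map (hJ1 : SympG J1) (u u' : Fin a → F) (hu : u ≠ 0) (hu' : u' ≠ 0) :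
    ∃ A : GL (Fin a) F,
      (∀ x y, bf J1 ((A : Matrix (Fin a) (Fin a) F) *ᵥ x) ((A : Matrix (Fin a) (Fin a) F) *ᵥ y) = bf J1 x y) ∧
      (A : Matrix (Fin a) (Fin a) F) *ᵥ u = u' := by
  by_cases hne : bf J1 u u' = 0
  · obtain ⟨z1, hz1⟩ := Cfsg.Agent.Lib.Helper3.SpT.exists_partner hJ1 u hu
    obtain ⟨z2, hz2⟩ := Cfsg.Agent.Lib.Helper3.SpT.exists_partner hJ1 u' hu'
    have hz1' : bf J1 u z1 ≠ 0 := by rw [hz1]; exact one_ne_zero
    have hz2' : bf J1 z2 u' ≠ 0 := by rw [hJ1.skew, hz2]; exact neg_ne_zero.mpr one_ne_zero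
    have hz : ∃ z, bf J1 u z ≠ 0 ∧ bf J1 z u' ≠ 0 := by
      by_cases c1 : bf J1 z1 u' = 0
      · by_cases c2 : bf J1 u z2 = 0
        · refine ⟨z1 + z2, ?_, ?_⟩
          · rw [bf_add_right, c2, add_zero]; exact hz1'
          · rw [bf_add_left, c1, zero_add]; exact hz2'
        · exact ⟨z2, c2, hz2'⟩
      · exact ⟨z1, hz1', c1⟩
    obtain ⟨z, hvz, hzv'⟩ := hz
    obtain ⟨A1, hA1, e1⟩ := sp_step hJ1 u z hvz
    obtain ⟨A2, hA2, e2⟩ := sp_step hJ1 z u' hzv'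
    refine ⟨A2 * A1, ?_, ?_⟩
    · intro x y
      rw [Units.val_mul, ← Matrix.mulVec_mulVec, ← Matrix.mulVec_mulVec, hA2, hA1]
    · rw [Units.val_mul, ← Matrix.mulVec_mulVec, e1, e2]
  · exact sp_step hJ1 u u' hne

/-- the reflection is an isometry of `f₂` (twin of E-ISO (c)) -/
theorem reflM_iso' (hJ2 : OrthG J2) (w : Fin b → F) (hw : bf J2 w w ≠ 0) (x y : Fin b → F) :
    bf J2 (reflM J2 w *ᵥ x) (reflM J2 w *ᵥ y) = bf J2 x y := by
  rw [reflM_mulVec, reflM_mulVec, bf_sub_left, bf_sub_right, bf_sub_right, bf_smul_left, bf_smul_left,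
    bf_smul_right, bf_smul_right, hJ2.symm w y]
  field_simp
  ring

/-- E-ISO (d) -/
theorem reflK_mem_iso (hS : SetupSO J1 J2) (w : Fin b → F) (hw : bf J2 w w ≠ 0) :
    reflK (a := a) J2 w hw ∈ IsoG (J1 ⊗ₖ J2) := by
  unfold reflK
  apply kron_mem_iso (1 : GL (Fin a) F) (reflGL J2 w hw) 1 one_ne_zero
  · intro x y
    rw [Units.val_one, Matrix.one_mulVec, Matrix.one_mulVec, one_mul]
  · intro x y
    rw [reflGL_val, reflM_iso' hS.h2 w hw, inv_one, one_mul]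

end Cfsg.Agent.Lib.Helper6.S5666EISO
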