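import Mathlib
import Cfsg.Agent.Lib.Helper13.TensSODefs

/-!
# S5666 A-ROOT + A-VEC (helper6): the M-root elements `rU u c = t_{u,c} ⊗ 1`, vectors of the symplectic space `U`
-/

set_option autoImplicit false
set_option linter.unusedSectionVars false
set_option linter.unusedVariables false

namespace Cfsg.Agent.Lib.Helper6.S5666FOROOT

open Matrix Module
open Cfsg.Agent.Lib.Helper16.Tens Cfsg.Agent.Lib.Helper10.TensFund Cfsg.Agent.Lib.Helper13.TensSO
open Cfsg.Agent.Lib.Helper28.TensU (ctrL ctrL_apply ctrL_pur hypL mem_hypL_iff ptL mem_ptL_iff pur_mem_ptL rootGLL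
  rootGLL_val act_rootGLL rootGLL_mem_SL rootGLL_mem_kron)
open Cfsg.Agent.Lib.Helper3.SpT (bf SympG bf_add_left bf_add_right bf_smul_left bf_smul_right bf_kron_pur
  pur_induction mat_ext_mulVec bf_zero_left bf_zero_right)
open scoped Kronecker

variable {F : Type*} [Field F] {a b : ℕ}
variable {J1 : Matrix (Fin a) (Fin a) F} {J2 : Matrix (Fin b) (Fin b) F}

local notation "V" => (Fin a × Fin b → F)

/-! ## A-VEC -/

/-- A-VEC (b) -/
theorem exists_bf_eq_one (hJ1 : SympG J1) (u : Fin a → F) (hu : u ≠ 0) : ∃ u' : Fin a → F, bf J1 u' u = 1 := by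
  have : ∃ y, bf J1 u y ≠ 0 := by
    by_contra hcon
    push Not at hcon
    exact hu (hJ1.nondeg u hcon)
  obtain ⟨y, hy⟩ := this
  have hy' : bf J1 y u ≠ 0 := by
    rw [hJ1.skew]
    exact neg_ne_zero.2 hy
  exact ⟨(bf J1 y u)⁻¹ • y, by rw [bf_smul_left, inv_mul_cancel₀ hy']⟩

/-- the functional `z ↦ f₁(z, x)` -/
def bfL (J1 : Matrix (Fin a) (Fin a) F) (x : Fin a → F) : (Fin a → F) →ₗ[F] F where
  toFun z := bf J1 z x
  map_add' z z' := bf_add_left J1 z z' x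
  map_smul' c z := by rw [bf_smul_left]; rfl

/-- A-VEC (c) -/
theorem exists_perp_two (hJ1 : SympG J1) (ha : 3 ≤ a) (x y : Fin a → F) :
    ∃ u₃ : Fin a → F, u₃ ≠ 0 ∧ bf J1 u₃ x = 0 ∧ bf J1 u₃ y = 0 := by
  let f : (Fin a → F) →ₗ[F] (F × F) := (bfL J1 x).prod (bfL J1 y)
  have hlt : finrank F (F × F) < finrank F (Fin a → F) := by
    rw [Module.finrank_prod, Module.finrank_self, Module.finrank_fintype_fun_eq_card, Fintype.card_fin]
    omega
  have hker : LinearMap.ker f ≠ ⊥ := LinearMap.ker_ne_bot_of_finrank_lt hlt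
  obtain ⟨z, hz, hz0⟩ := Submodule.exists_mem_ne_zero_of_ne_bot hker
  have hfz : f z = 0 := hz
  refine ⟨z, hz0, ?_, ?_⟩
  · exact congrArg Prod.fst hfz
  · exact congrArg Prod.snd hfz

/-- A-VEC (a) -/
theorem exists_perp_indep (hJ1 : SympG J1) (ha : 3 ≤ a) (u : Fin a → F) (hu : u ≠ 0) :
    ∃ u₂ : Fin a → F, u₂ ≠ 0 ∧ bf J1 u u₂ = 0 ∧ ∀ c : F, u₂ ≠ c • u := by
  obtain ⟨u', hu'⟩ := exists_bf_eq_one hJ1 u hu
  obtain ⟨z, hz0, hzu, hzu'⟩ := exists_perp_two hJ1 ha u u'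
  refine ⟨z, hz0, by rw [hJ1.skew, hzu, neg_zero], ?_⟩
  intro c hc
  rw [hc, bf_smul_left, hJ1.skew, hu', mul_neg, mul_one, neg_eq_zero] at hzu'
  apply hz0
  rw [hc, hzu', zero_smul]

/-! ## A-ROOT -/

theorem ctrL_J_pur (y x : Fin a → F) (w : Fin b → F) :
    ctrL (J1 *ᵥ y) (pur x w) = bf J1 x y • w := by
  rw [ctrL_pur]; rfl

theorem gl_ext_act {g h : GL (Fin a × Fin b) F} (H : ∀ v, act g v = act h v) : g = h := by
  apply Units.ext
  apply Matrix.toLin'.injective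
  apply LinearMap.ext
  intro v
  exact H v

/-- `f(v, u ⊗ w) = f₂(ctrL (J1 u) v, w)` -/
theorem bf_kron_pur_right' (v : V) (u : Fin a → F) (w : Fin b → F) :
    bf (J1 ⊗ₖ J2) v (pur u w) = bf J2 (ctrL (J1 *ᵥ u) v) w := by
  refine pur_induction (p := fun v => bf (J1 ⊗ₖ J2) v (pur u w) = bf J2 (ctrL (J1 *ᵥ u) v) w) ?_ ?_ ?_ v
  · rw [bf_zero_left, map_zero, bf_zero_left]
  · intro x y hx hy
    rw [bf_add_left, map_add, bf_add_left, hx, hy]
  · intro x z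
    rw [bf_kron_pur, ctrL_J_pur, bf_smul_left]

/-- `f(u ⊗ w, v) = - f₂(w, ctrL (J1 u) v)` -/
theorem bf_kron_pur_left' (hJ1 : SympG J1) (v : V) (u : Fin a → F) (w : Fin b → F) :
    bf (J1 ⊗ₖ J2) (pur u w) v = - bf J2 w (ctrL (J1 *ᵥ u) v) := by
  refine pur_induction (p := fun v => bf (J1 ⊗ₖ J2) (pur u w) v = - bf J2 w (ctrL (J1 *ᵥ u) v)) ?_ ?_ ?_ v
  · rw [bf_zero_right, map_zero, bf_zero_right, neg_zero]
  · intro x y hx hy
    rw [bf_add_right, map_add, bf_add_right, hx, hy, neg_add]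
  · intro x z
    rw [bf_kron_pur, ctrL_J_pur, bf_smul_right, hJ1.skew u x]
    ring

/-- A-ROOT (a) -/
theorem rU_mem_iso (hJ1 : SympG J1) (u : Fin a → F) (c : F) :
    rU (b := b) J1 hJ1 u c ∈ IsoG (J1 ⊗ₖ J2) := by
  rw [mem_IsoG_iff]
  intro x y
  rw [← act_apply, ← act_apply, act_rU, act_rU, bf_add_left, bf_add_right, bf_add_right, bf_smul_left,
    bf_smul_left, bf_smul_right, bf_smul_right, bf_kron_pur, hJ1.alt u, bf_kron_pur_right',
    bf_kron_pur_left' hJ1]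
  ring

/-- A-ROOT (e) -/
theorem rU_mul (hJ1 : SympG J1) (u : Fin a → F) (c c' : F) :
    rU (b := b) J1 hJ1 u c * rU J1 hJ1 u c' = rU J1 hJ1 u (c + c') := by
  apply gl_ext_act
  intro v
  rw [act_mul, act_rU, act_rU, act_rU, map_add, map_smul, ctrL_J_pur, hJ1.alt u, zero_smul, smul_zero, add_zero,
    add_smul]
  abel

/-- A-ROOT (f) -/
theorem rU_zero (hJ1 : SympG J1) (u : Fin a → F) : rU (b := b) J1 hJ1 u 0 = 1 := by
  apply gl_ext_act
  intro v
  rw [act_rU, zero_smul, add_zero, act_one]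

theorem rU_pow (hJ1 : SympG J1) (u : Fin a → F) (c : F) (n : ℕ) :
    (rU (b := b) J1 hJ1 u c) ^ n = rU J1 hJ1 u (n * c) := by
  induction n with
  | zero => rw [pow_zero, Nat.cast_zero, zero_mul, rU_zero]
  | succ n ih => rw [pow_succ, ih, rU_mul, Nat.cast_succ, add_mul, one_mul]

/-- A-ROOT (b) -/
theorem rU_pow_char (p : ℕ) [CharP F p] (hJ1 : SympG J1) (u : Fin a → F) (c : F) :
    (rU (b := b) J1 hJ1 u c) ^ p = 1 := by
  rw [rU_pow, CharP.cast_eq_zero, zero_mul, rU_zero]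

/-- A-ROOT (c): the fixed space of `rU u c` is `u^⊥ ⊗ W` -/
theorem act_rU_eq_self_iff (hJ1 : SympG J1) (u : Fin a → F) (c : F) (hu : u ≠ 0) (hc : c ≠ 0) (v : V) :
    act (rU J1 hJ1 u c) v = v ↔ v ∈ hypL (J1 *ᵥ u) := by
  rw [act_rU, mem_hypL_iff, add_eq_left, smul_eq_zero]
  constructor
  · intro h
    rcases h with h | h
    · exact absurd h hc
    · exact (pur_eq_zero h).resolve_left hu
  · intro h
    right
    rw [h, pur_zero_right]

/-- A-ROOT (d) -/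
theorem act_rU_sub_mem (hJ1 : SympG J1) (u : Fin a → F) (c : F) (v : V) :
    act (rU J1 hJ1 u c) v - v ∈ ptL (b := b) u := by
  rw [act_rU, add_sub_cancel_left, ← pur_smul_right]
  exact pur_mem_ptL _ _

/-- A-ROOT (g): `rU` is quadratic -/
theorem rU_quad (hJ1 : SympG J1) (u : Fin a → F) (c : F) :
    (((rU (b := b) J1 hJ1 u c : GL (Fin a × Fin b) F) : Matrix (Fin a × Fin b) (Fin a × Fin b) F) - 1) *
      (((rU (b := b) J1 hJ1 u c : GL (Fin a × Fin b) F) : Matrix (Fin a × Fin b) (Fin a × Fin b) F) - 1) = 0 := by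
  apply mat_ext_mulVec
  intro v
  have h1 : ∀ x : V, (((rU (b := b) J1 hJ1 u c : GL (Fin a × Fin b) F) :
      Matrix (Fin a × Fin b) (Fin a × Fin b) F) - 1) *ᵥ x = c • pur u (ctrL (J1 *ᵥ u) x) := by
    intro x
    rw [Matrix.sub_mulVec, Matrix.one_mulVec, ← act_apply, act_rU, add_sub_cancel_left]
  rw [← Matrix.mulVec_mulVec, h1, h1, map_smul, ctrL_J_pur, hJ1.alt u, zero_smul, smul_zero, pur_zero_right,
    smul_zero, Matrix.zero_mulVec]

/-- A-ROOT (h): every vector of `u ⊗ W` is a commutator `rU v - v` -/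
theorem exists_act_rU_sub (hJ1 : SympG J1) (u : Fin a → F) (c : F) (hu : u ≠ 0) (hc : c ≠ 0) (x : V)
    (hx : x ∈ ptL (b := b) u) : ∃ v : V, act (rU J1 hJ1 u c) v - v = x := by
  obtain ⟨w, rfl⟩ := (mem_ptL_iff u x).1 hx
  obtain ⟨u', hu'⟩ := exists_bf_eq_one hJ1 u hu
  refine ⟨c⁻¹ • pur u' w, ?_⟩
  rw [act_rU, add_sub_cancel_left, map_smul, ctrL_J_pur, hu', one_smul, pur_smul_right, smul_smul,
    mul_inv_cancel₀ hc, one_smul]

/-- A-ROOT (i) -/
theorem rU_ne_one (hJ1 : SympG J1) (hb : 1 ≤ b) (u : Fin a → F) (c : F) (hu : u ≠ 0) (hc : c ≠ 0) :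
    rU (b := b) J1 hJ1 u c ≠ 1 := by
  intro h
  obtain ⟨u', hu'⟩ := exists_bf_eq_one hJ1 u hu
  have h1 := act_rU (b := b) J1 hJ1 u c (pur u' (Pi.single ⟨0, by omega⟩ 1))
  rw [h, act_one, left_eq_add, ctrL_J_pur, hu', one_smul, smul_eq_zero] at h1
  rcases h1 with h1 | h1
  · exact hc h1
  · rcases pur_eq_zero h1 with h2 | h2
    · exact hu h2
    · have h3 := congrFun h2 ⟨0, by omega⟩
      simp at h3

end Cfsg.Agent.Lib.Helper6.S5666FOROOT
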