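import Mathlib
import Cfsg.Agent.Lib.Helper13.TensSODefs
import Cfsg.Agent.Lib.Helper23.S5670FOST
import Cfsg.Agent.Lib.Helper23.S5670FOCL
import Cfsg.Agent.Lib.Helper23.S5670FOLEFT
import Cfsg.Agent.Lib.Helper6.S5666FOROOT

/-!
# S5666 A-PERP + A-F1 + A-X + A-D (helper6): orthogonality and the Sylow-trick chain for the M-root elements
(ports of Helper25.S5670FOPERP and Helper20.S5670FOMX)
-/

set_option autoImplicit false
set_option linter.unusedSectionVars false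
set_option linter.unusedVariables false

namespace Cfsg.Agent.Lib.Helper6.S5666FOMX

open Matrix Module
open Cfsg.Agent.Lib.Helper16.Tens Cfsg.Agent.Lib.Helper10.TensFund Cfsg.Agent.Lib.Helper13.TensSO
open Cfsg.Agent.Lib.Helper28.TensU (ctrL ctrL_apply ctrL_pur hypL mem_hypL_iff ptL mem_ptL_iff pur_mem_ptL rootGLL
  rootGLL_val act_rootGLL rootGLL_mem_SL rootGLL_mem_kron)
open Cfsg.Agent.Lib.Helper3.SpT (bf SympG bf_add_left bf_add_right bf_smul_left bf_smul_right bf_kron_pur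
  pur_induction mat_ext_mulVec bf_zero_left bf_zero_right bf_neg_right bf_neg_left)
open Cfsg.Agent.Lib.Helper23.S5670ST (sylow_trick)
open Cfsg.Agent.Lib.Helper23.S5670CL (closure_fix closure_sub_mem commute_of_sub_mem)
open Cfsg.Agent.Lib.Helper23.S5670LEFT (img_ptL_of_mem_kron finrank_pt finrank_ptL pt_inf_pt ptL_inf_ptL pt_smul
  ptL_smul)
open Cfsg.Agent.Lib.Helper6.S5666FOROOT
open scoped Kronecker

variable {F : Type*} [Field F] [Fintype F] {a b : ℕ}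
variable {J1 : Matrix (Fin a) (Fin a) F} {J2 : Matrix (Fin b) (Fin b) F}
variable {M : Subgroup (GL (Fin a × Fin b) F)}

local notation "K" => Cfsg.Geo.kroneckerSubgroup a b F
local notation "V" => (Fin a × Fin b → F)

/-! ## A-PERP -/

/-- the form on `V` is skew-symmetric -/
theorem bf_kron_skew (hS : SetupSO J1 J2) (x y : V) : bf (J1 ⊗ₖ J2) x y = - bf (J1 ⊗ₖ J2) y x := by
  refine pur_induction (p := fun x => bf (J1 ⊗ₖ J2) x y = - bf (J1 ⊗ₖ J2) y x) ?_ ?_ ?_ x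
  · rw [bf_zero_left, bf_zero_right, neg_zero]
  · intro x₁ x₂ h1 h2
    rw [bf_add_left, bf_add_right, h1, h2, neg_add]
  · intro u w
    rw [bf_kron_pur_left' hS.h1, bf_kron_pur_right', hS.h2.symm]

/-- A-PERP (a): `u^⊥ ⊗ W` is the orthogonal of `u ⊗ W` -/
theorem mem_hypL_iff_perp (hS : SetupSO J1 J2) (u : Fin a → F) (v : V) :
    v ∈ hypL (J1 *ᵥ u) ↔ ∀ x ∈ ptL (b := b) u, bf (J1 ⊗ₖ J2) v x = 0 := by
  rw [mem_hypL_iff]
  constructor
  · intro h x hx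
    obtain ⟨w, rfl⟩ := (mem_ptL_iff u x).1 hx
    rw [bf_kron_pur_right', h, bf_zero_left]
  · intro h
    apply hS.h2.nondeg
    intro w
    rw [← bf_kron_pur_right']
    exact h _ (pur_mem_ptL u w)

theorem bf_act_inv_left {g : GL (Fin a × Fin b) F} (hg : g ∈ IsoG (J1 ⊗ₖ J2)) (v x : V) :
    bf (J1 ⊗ₖ J2) (act g⁻¹ v) x = bf (J1 ⊗ₖ J2) v (act g x) := by
  have h := (mem_IsoG_iff _ g).1 hg (act g⁻¹ v) x
  rw [← act_apply, ← act_apply, act_act_inv] at h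
  exact h.symm

/-- A-PERP (b) -/
theorem mem_img_hypL_iff_perp (hS : SetupSO J1 J2) (g : GL (Fin a × Fin b) F) (hg : g ∈ IsoG (J1 ⊗ₖ J2))
    (u : Fin a → F) (v : V) :
    v ∈ img g (hypL (J1 *ᵥ u)) ↔ ∀ x ∈ img g (ptL (b := b) u), bf (J1 ⊗ₖ J2) v x = 0 := by
  rw [mem_img_iff, mem_hypL_iff_perp hS]
  constructor
  · rintro h _ ⟨x, hx, rfl⟩
    show bf (J1 ⊗ₖ J2) v (act g x) = 0
    rw [← bf_act_inv_left hg]
    exact h x hx
  · intro h x hx
    rw [bf_act_inv_left hg]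
    exact h _ ⟨x, hx, rfl⟩

/-- A-PERP (c) -/
theorem ptL_le_hypL (u u' : Fin a → F) (h : bf J1 u u' = 0) : ptL (b := b) u ≤ hypL (J1 *ᵥ u') := by
  intro x hx
  obtain ⟨w, rfl⟩ := (mem_ptL_iff u x).1 hx
  rw [mem_hypL_iff, ctrL_J_pur, h, zero_smul]

/-- A-PERP (d) -/
theorem supL_inf_hypL_le (hS : SetupSO J1 J2) (u u'' : Fin a → F) (h : bf J1 u'' u ≠ 0) :
    (ptL (b := b) u ⊔ ptL u'') ⊓ hypL (J1 *ᵥ u) ≤ ptL u := by
  rintro v ⟨hv1, hv2⟩
  obtain ⟨x, hx, y, hy, rfl⟩ := Submodule.mem_sup.1 hv1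
  obtain ⟨w, rfl⟩ := (mem_ptL_iff u x).1 hx
  obtain ⟨w'', rfl⟩ := (mem_ptL_iff u'' y).1 hy
  have hv2 : pur u w + pur u'' w'' ∈ hypL (b := b) (J1 *ᵥ u) := hv2
  rw [mem_hypL_iff, map_add, ctrL_J_pur, ctrL_J_pur, hS.h1.alt u, zero_smul, zero_add, smul_eq_zero] at hv2
  rcases hv2 with h0 | h0
  · exact absurd h0 h
  · rw [h0, pur_zero_right, add_zero]
    exact pur_mem_ptL u w

/-- A-PERP (e): the form on `V` is alternating -/
theorem bf_kron_alt (hS : SetupSO J1 J2) (v : V) : bf (J1 ⊗ₖ J2) v v = 0 := by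
  have h := bf_kron_skew hS v v
  have h2 : (2 : F) * bf (J1 ⊗ₖ J2) v v = 0 := by linear_combination h
  rcases mul_eq_zero.1 h2 with h3 | h3
  · exact absurd h3 hS.two
  · exact h3

/-- A-PERP (f): the form on `V` is non-degenerate -/
theorem bf_kron_nondeg (hS : SetupSO J1 J2) (v : V) (h : ∀ y, bf (J1 ⊗ₖ J2) v y = 0) : v = 0 := by
  have h1 : ∀ u : Fin a → F, ctrL (J1 *ᵥ u) v = 0 := by
    intro u
    apply hS.h2.nondeg
    intro w
    rw [← bf_kron_pur_right']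
    exact h _
  funext ⟨i, j⟩
  have h2 : (fun i => v (i, j)) = 0 := by
    apply hS.h1.nondeg
    intro u
    have := congrFun (h1 u) j
    rw [ctrL_apply] at this
    exact this
  exact congrFun h2 i

/-- A-PERP (g): the factors of a Kronecker isometry are similitudes -/
theorem kron_iso_simil (hS : SetupSO J1 J2) (ha : 1 ≤ a) (hb : 1 ≤ b) (A : GL (Fin a) F) (B : GL (Fin b) F)
    (g : GL (Fin a × Fin b) F) (hg : g ∈ IsoG (J1 ⊗ₖ J2))
    (hgAB : (g : Matrix (Fin a × Fin b) (Fin a × Fin b) F) =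
      (A : Matrix (Fin a) (Fin a) F) ⊗ₖ (B : Matrix (Fin b) (Fin b) F)) :
    ∃ l : F, l ≠ 0 ∧
      (∀ x y, bf J1 ((A : Matrix (Fin a) (Fin a) F) *ᵥ x) ((A : Matrix (Fin a) (Fin a) F) *ᵥ y) = l * bf J1 x y) ∧
      (∀ x y, bf J2 ((B : Matrix (Fin b) (Fin b) F) *ᵥ x) ((B : Matrix (Fin b) (Fin b) F) *ᵥ y) = l⁻¹ * bf J2 x y) := by
  have key : ∀ (x y : Fin a → F) (w w' : Fin b → F),
      bf J1 ((A : Matrix (Fin a) (Fin a) F) *ᵥ x) ((A : Matrix (Fin a) (Fin a) F) *ᵥ y) *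
        bf J2 ((B : Matrix (Fin b) (Fin b) F) *ᵥ w) ((B : Matrix (Fin b) (Fin b) F) *ᵥ w') =
      bf J1 x y * bf J2 w w' := by
    intro x y w w'
    have h := (mem_IsoG_iff _ g).1 hg (pur x w) (pur y w')
    rw [hgAB, kron_mulVec_pur, kron_mulVec_pur, bf_kron_pur, bf_kron_pur] at h
    exact h
  -- a pair with `f₁ = 1`
  have hx0 : (Pi.single ⟨0, by omega⟩ 1 : Fin a → F) ≠ 0 := by
    intro h
    have h1 := congrFun h ⟨0, by omega⟩
    simp at h1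
  obtain ⟨y₀, hy₀⟩ := exists_bf_eq_one hS.h1 _ hx0
  -- a pair with `f₂ ≠ 0`
  obtain ⟨w, w', hww'⟩ : ∃ w w' : Fin b → F, bf J2 w w' ≠ 0 := by
    by_contra hcon
    push Not at hcon
    have := hS.h2.nondeg (Pi.single ⟨0, by omega⟩ 1) (hcon _)
    have h1 := congrFun this ⟨0, by omega⟩
    simp at h1
  have h1 := key y₀ (Pi.single ⟨0, by omega⟩ 1) w w'
  rw [hy₀, one_mul] at h1
  have hl : bf J1 ((A : Matrix (Fin a) (Fin a) F) *ᵥ y₀)
      ((A : Matrix (Fin a) (Fin a) F) *ᵥ (Pi.single ⟨0, by omega⟩ 1)) ≠ 0 := by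
    intro h0
    rw [h0, zero_mul] at h1
    exact hww' h1.symm
  refine ⟨_, hl, ?_, ?_⟩
  · intro x y
    have h2 := key x y w w'
    have h3 := key y₀ (Pi.single ⟨0, by omega⟩ 1) w w'
    rw [hy₀, one_mul] at h3
    have h4 : bf J2 ((B : Matrix (Fin b) (Fin b) F) *ᵥ w) ((B : Matrix (Fin b) (Fin b) F) *ᵥ w') ≠ 0 := by
      intro h0
      rw [h0, mul_zero] at h3
      exact hww' h3.symm
    apply mul_right_cancel₀ h4
    linear_combination h2 - (bf J1 x y) * h3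
  · intro x y
    have h2 := key y₀ (Pi.single ⟨0, by omega⟩ 1) x y
    rw [hy₀, one_mul] at h2
    rw [← h2, ← mul_assoc, inv_mul_cancel₀ hl, one_mul]

/-! ## the M-theory -/

theorem act_conj (g x : GL (Fin a × Fin b) F) (v : V) :
    act (g * x * g⁻¹) v = act g (act x (act g⁻¹ v)) := by
  rw [act_mul, act_mul]

theorem act_conj_sub_mem (g x : GL (Fin a × Fin b) F) (L : Submodule F V)
    (h : ∀ v, act x v - v ∈ L) (v : V) : act (g * x * g⁻¹) v - v ∈ img g L := by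
  rw [act_conj]
  refine ⟨act x (act g⁻¹ v) - act g⁻¹ v, h _, ?_⟩
  change act g (act x (act g⁻¹ v) - act g⁻¹ v) = _
  rw [map_sub, act_act_inv]

theorem act_conj_eq_self (g x : GL (Fin a × Fin b) F) (C : Submodule F V)
    (h : ∀ v ∈ C, act x v = v) (v : V) (hv : v ∈ img g C) : act (g * x * g⁻¹) v = v := by
  rw [act_conj, h _ ((mem_img_iff g C v).1 hv), act_act_inv]

theorem rU_mem (hS : SetupSO J1 J2) (hM : OverS J1 J2 M) (u : Fin a → F) (c : F) :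
    rU (b := b) J1 hS.h1 u c ∈ M :=
  hM.kron_mem _ (rU_mem_kron J1 hS.h1 u c) (rU_mem_iso hS.h1 u c)

/-- `HypE1` in the form "`g⁻¹ x g ∈ K ⇒ g ∈ K`" -/
theorem hypE1_inv (hS : SetupSO J1 J2) (hE : HypE1 J1 hS.h1 M) (g : GL (Fin a × Fin b) F) (hg : g ∈ M)
    (u : Fin a → F) (c : F) (hu : u ≠ 0) (hc : c ≠ 0)
    (h : g⁻¹ * rU J1 hS.h1 u c * g ∈ K) : g ∈ K := by
  have h1 : g⁻¹ ∈ K := by
    apply hE g⁻¹ (M.inv_mem hg) u c hu hc
    rw [inv_inv]
    exact h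
  have := (K).inv_mem h1
  rwa [inv_inv] at this

/-- A-F1 -/
theorem not_img_ptL_le_hypL (hS : SetupSO J1 J2) (hb : 1 ≤ b) (hM : OverS J1 J2 M) (hE : HypE1 J1 hS.h1 M)
    (g : GL (Fin a × Fin b) F) (hg : g ∈ M) (hgK : g ∉ K) (u u' : Fin a → F) (hu : u ≠ 0) (hu' : u' ≠ 0) :
    ¬ img g (ptL (b := b) u') ≤ hypL (J1 *ᵥ u) := by
  intro hle
  have hJ1 := hS.h1
  have hgI : g ∈ IsoG (J1 ⊗ₖ J2) := hM.le_iso hg
  have hx : rU (b := b) J1 hS.h1 u 1 ∈ M := rU_mem hS hM u 1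
  have hx0 : rU (b := b) J1 hS.h1 u' 1 ∈ M := rU_mem hS hM u' 1
  have hx' : g * rU (b := b) J1 hS.h1 u' 1 * g⁻¹ ∈ M := M.mul_mem (M.mul_mem hg hx0) (M.inv_mem hg)
  have hcomm : rU (b := b) J1 hS.h1 u 1 * (g * rU (b := b) J1 hS.h1 u' 1 * g⁻¹) =
      (g * rU (b := b) J1 hS.h1 u' 1 * g⁻¹) * rU (b := b) J1 hS.h1 u 1 := by
    apply commute_of_sub_mem _ _ (ptL (b := b) u) (img g (ptL (b := b) u')) (hypL (J1 *ᵥ u))
      (img g (hypL (J1 *ᵥ u')))
    · exact fun v => act_rU_sub_mem hJ1 u 1 v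
    · exact fun v => act_conj_sub_mem g _ _ (fun v => act_rU_sub_mem hJ1 u' 1 v) v
    · exact fun v hv => (act_rU_eq_self_iff hJ1 u 1 hu one_ne_zero v).2 hv
    · exact fun v hv => act_conj_eq_self g _ _
        (fun v hv => (act_rU_eq_self_iff hJ1 u' 1 hu' one_ne_zero v).2 hv) v hv
    · intro v hv
      rw [mem_img_hypL_iff_perp hS g hgI]
      intro x hx
      have h1 := (mem_hypL_iff_perp (b := b) hS u x).1 (hle hx) v hv
      rw [bf_kron_skew hS, h1, neg_zero]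
    · exact hle
  have h2 : (g * rU (b := b) J1 hS.h1 u' 1 * g⁻¹) ∈ K := by
    apply hypE1_inv hS hE _ hx' u 1 hu one_ne_zero
    rw [mul_assoc, hcomm, ← mul_assoc, inv_mul_cancel, one_mul]
    exact rU_mem_kron J1 hS.h1 u 1
  exact hgK (hE g hg u' 1 hu' one_ne_zero h2)

theorem finrank_sup_ptL (k k'' : Fin a → F) (hk0 : k ≠ 0) (hk''0 : k'' ≠ 0) (h : ∀ c : F, k'' ≠ c • k) :
    finrank F ↥(ptL (F := F) (b := b) k ⊔ ptL k'') = b + b := by
  have h1 := Submodule.finrank_sup_add_finrank_inf_eq (ptL (F := F) (b := b) k) (ptL k'')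
  rw [ptL_inf_ptL k k'' h, finrank_bot, finrank_ptL k hk0, finrank_ptL k'' hk''0] at h1
  omega

/-- A-X : LEMMA X -/
theorem img_ptL_inf_hypL_le (hS : SetupSO J1 J2) (hb : 1 ≤ b) (hM : OverS J1 J2 M) (hE : HypE1 J1 hS.h1 M)
    (g : GL (Fin a × Fin b) F) (hg : g ∈ M) (hgK : g ∉ K) (u u' : Fin a → F) (hu : u ≠ 0) (hu' : u' ≠ 0) :
    img g (ptL (b := b) u') ⊓ hypL (J1 *ᵥ u) ≤ ptL u := by
  have hJ1 := hS.h1
  have hx₁ : rU (b := b) J1 hS.h1 u 1 ∈ M := rU_mem hS hM u 1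
  have hx0 : rU (b := b) J1 hS.h1 u' 1 ∈ M := rU_mem hS hM u' 1
  have hx₂ : g * rU (b := b) J1 hS.h1 u' 1 * g⁻¹ ∈ M := M.mul_mem (M.mul_mem hg hx0) (M.inv_mem hg)
  have hchar : CharP F (ringChar F) := ringChar.charP F
  have hp : Fact (ringChar F).Prime := ⟨CharP.char_is_prime F (ringChar F)⟩
  have hfin : Finite M := inferInstance
  obtain ⟨δ, hδ, hδg⟩ := sylow_trick (ringChar F) M K
    (rU (b := b) J1 hS.h1 u 1) (g * rU (b := b) J1 hS.h1 u' 1 * g⁻¹) g hx₁ hx₂ hg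
    (rU_pow_char (ringChar F) hJ1 u 1)
    (by rw [conj_pow, rU_pow_char (ringChar F) hJ1 u' 1, mul_one, mul_inv_cancel])
    (rU_mem_kron J1 hS.h1 u 1)
    (fun g' hg' h => hypE1_inv hS hE g' hg' u 1 hu one_ne_zero h)
    (by
      intro g' hg' h
      have h1 : g'⁻¹ * g ∈ K := by
        apply hE (g'⁻¹ * g) (M.mul_mem (M.inv_mem hg') hg) u' 1 hu' one_ne_zero
        have : g'⁻¹ * g * rU (b := b) J1 hS.h1 u' 1 * (g'⁻¹ * g)⁻¹ =
            g'⁻¹ * (g * rU (b := b) J1 hS.h1 u' 1 * g⁻¹) * g' := by group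
        rw [this]
        exact h
      have := (K).inv_mem h1
      rwa [_root_.mul_inv_rev, inv_inv] at this)
  obtain ⟨u'', hu''0, himg⟩ := img_ptL_of_mem_kron (δ * g) hδg u'
  have hu''0 := hu''0 hu'
  rw [img_mul] at himg
  -- `δ` fixes `J` pointwise
  have hJfix : ∀ v ∈ img g (ptL (b := b) u') ⊓ hypL (J1 *ᵥ u), act δ v = v := by
    intro v hv
    apply closure_fix _ _ δ hδ v
    · exact (act_rU_eq_self_iff hJ1 u 1 hu one_ne_zero v).2 hv.2
    · apply act_conj_eq_self g _ (hypL (J1 *ᵥ u'))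
        (fun v hv => (act_rU_eq_self_iff hJ1 u' 1 hu' one_ne_zero v).2 hv)
      exact img_mono g (ptL_le_hypL u' u' (hJ1.alt u')) hv.1
  have hJle : img g (ptL (b := b) u') ⊓ hypL (J1 *ᵥ u) ≤ ptL u'' := by
    intro v hv
    rw [← himg]
    exact ⟨v, hv.1, hJfix v hv⟩
  by_cases hpar : ∃ c' : F, u'' = c' • u
  · obtain ⟨c', rfl⟩ := hpar
    have hc' : c' ≠ 0 := by
      rintro rfl
      exact hu''0 (zero_smul _ _)
    rw [ptL_smul u c' hc'] at hJle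
    exact fun v hv => hJle ⟨hv.1, hv.2⟩
  · push Not at hpar
    have hsub : ptL (b := b) u'' ≤ ptL u ⊔ img g (ptL (b := b) u') := by
      rw [← himg]
      rintro _ ⟨z, hz, rfl⟩
      change act δ z ∈ _
      have h1 : act δ z - z ∈ ptL (b := b) u ⊔ img g (ptL (b := b) u') := by
        apply closure_sub_mem _ _ δ hδ
        · exact fun v => Submodule.mem_sup_left (act_rU_sub_mem hJ1 u 1 v)
        · exact fun v => Submodule.mem_sup_right
            (act_conj_sub_mem g _ _ (fun v => act_rU_sub_mem hJ1 u' 1 v) v)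
      have h2 : act δ z = (act δ z - z) + z := by abel
      rw [h2]
      exact Submodule.add_mem _ h1 (Submodule.mem_sup_right hz)
    have hle : ptL (b := b) u ⊔ ptL u'' ≤ ptL u ⊔ img g (ptL (b := b) u') :=
      sup_le le_sup_left hsub
    have heq : ptL (b := b) u ⊔ ptL u'' = ptL u ⊔ img g (ptL (b := b) u') := by
      apply Submodule.eq_of_le_of_finrank_le hle
      rw [finrank_sup_ptL u u'' hu hu''0 hpar]
      have h1 := Submodule.finrank_add_le_finrank_add_finrank (ptL (F := F) (b := b) u)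
        (img g (ptL (b := b) u'))
      rw [finrank_img, finrank_ptL u hu, finrank_ptL u' hu'] at h1
      exact h1
    by_cases hperp : bf J1 u'' u = 0
    · exfalso
      apply not_img_ptL_le_hypL hS hb hM hE g hg hgK u u' hu hu'
      calc img g (ptL (b := b) u') ≤ ptL u ⊔ img g (ptL (b := b) u') := le_sup_right
        _ = ptL u ⊔ ptL u'' := heq.symm
        _ ≤ hypL (J1 *ᵥ u) := sup_le (ptL_le_hypL u u (hJ1.alt u)) (ptL_le_hypL u'' u hperp)
    · intro v hv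
      apply supL_inf_hypL_le hS u u'' hperp
      refine ⟨?_, hv.2⟩
      rw [heq]
      exact Submodule.mem_sup_right hv.1

/-- A-D : DISJOINT -/
theorem img_ptL_inf_hypL_eq_bot (hS : SetupSO J1 J2) (ha : 3 ≤ a) (hb : 1 ≤ b) (hM : OverS J1 J2 M)
    (hE : HypE1 J1 hS.h1 M)
    (g : GL (Fin a × Fin b) F) (hg : g ∈ M) (hgK : g ∉ K) (u u' : Fin a → F) (hu : u ≠ 0) (hu' : u' ≠ 0) :
    img g (ptL (b := b) u') ⊓ hypL (J1 *ᵥ u) = ⊥ := by
  rw [eq_bot_iff]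
  intro v hv
  have h1 : v ∈ ptL (b := b) u := img_ptL_inf_hypL_le hS hb hM hE g hg hgK u u' hu hu' hv
  obtain ⟨u₂, hu₂0, huu₂, hne⟩ := exists_perp_indep hS.h1 ha u hu
  have h2 : v ∈ hypL (b := b) (J1 *ᵥ u₂) := ptL_le_hypL u u₂ huu₂ h1
  have h3 : v ∈ ptL (b := b) u₂ :=
    img_ptL_inf_hypL_le hS hb hM hE g hg hgK u₂ u' hu₂0 hu' ⟨hv.1, h2⟩
  have h4 : v ∈ ptL (F := F) (b := b) u ⊓ ptL u₂ := ⟨h1, h3⟩
  rw [ptL_inf_ptL u u₂ hne] at h4
  exact h4

end Cfsg.Agent.Lib.Helper6.S5666FOMX
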