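import Mathlib
import Cfsg.Agent.Lib.Helper13.TensSODefs
import Cfsg.Agent.Lib.Helper20.S5666ExitDefs
import Cfsg.Agent.Lib.Helper6.S5666FOROOT
import Cfsg.Agent.Lib.Helper6.S5666FOMX

/-!
# S5666 EXIT, piece T3-Z: the elements `zU u₀ σ` (helper6)

`zU_mem_iso`, `zU_add`, `zU_zero`, `zU_smul_one`, `zU_isTv`, `zU_mem_kron`, `fix_struct` of
`notes/S5666ExitASkel_helper20.lean.txt` (rev 2), exact signatures.
-/

set_option autoImplicit false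
set_option linter.unusedSectionVars false
set_option linter.unusedVariables false

namespace Cfsg.Agent.Lib.Helper6.S5666ET3Z

open Matrix Module
open Cfsg.Agent.Lib.Helper16.Tens Cfsg.Agent.Lib.Helper10.TensFund Cfsg.Agent.Lib.Helper13.TensSO
open Cfsg.Agent.Lib.Helper28.TensU (ctrL ctrL_apply ctrL_pur hypL mem_hypL_iff ptL mem_ptL_iff pur_mem_ptL rootGLL
  rootGLL_val act_rootGLL rootGLL_mem_SL rootGLL_mem_kron)
open Cfsg.Agent.Lib.Helper3.SpT (bf SympG E E_mulVec E_mul_E uni uni_val uni_inv_val bf_add_left bf_add_right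
  bf_smul_left bf_smul_right bf_kron_pur bf_zero_left bf_zero_right bf_neg_left bf_neg_right bf_sub_left
  bf_sub_right pur_induction mat_ext_mulVec)
open Cfsg.Agent.Lib.Helper23.S5637T3b (kronGL kronGL_val kronGL_mem_kron)
open Cfsg.Agent.Lib.Helper20.S5666Exit
open Cfsg.Agent.Lib.Helper6.S5666FOROOT (gl_ext_act bf_kron_pur_right' bf_kron_pur_left' exists_bf_eq_one)
open scoped Kronecker

variable {F : Type*} [Field F] {a b : ℕ}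
variable {J1 : Matrix (Fin a) (Fin a) F} {J2 : Matrix (Fin b) (Fin b) F}
variable {M : Subgroup (GL (Fin a × Fin b) F)}

local notation "K" => Cfsg.Geo.kroneckerSubgroup a b F
local notation "V" => (Fin a × Fin b → F)

/-- T3-Z (a) -/
theorem zU_mem_iso (hS : SetupSO J1 J2) (u₀ : Fin a → F) (σ : Matrix (Fin b) (Fin b) F)
    (hσ : ∀ w w', bf J2 (σ *ᵥ w) w' = bf J2 w (σ *ᵥ w')) : zU J1 hS.h1 u₀ σ ∈ IsoG (J1 ⊗ₖ J2) := by
  rw [mem_IsoG_iff]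
  intro x y
  rw [← act_apply, ← act_apply, act_zU, act_zU, bf_add_left, bf_add_right, bf_add_right, bf_kron_pur,
    hS.h1.alt u₀, zero_mul, add_zero, bf_kron_pur_right', bf_kron_pur_left' hS.h1, hσ]
  ring

theorem ctrL_J_pur_self (hJ1 : SympG J1) (u₀ : Fin a → F) (p : Fin b → F) :
    ctrL (J1 *ᵥ u₀) (pur u₀ p) = 0 := by
  rw [ctrL_J_pur, hJ1.alt u₀, zero_smul]

/-- T3-Z (b) -/
theorem zU_add (hJ1 : SympG J1) (u₀ : Fin a → F) (σ τ : Matrix (Fin b) (Fin b) F) :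
    zU J1 hJ1 u₀ σ * zU J1 hJ1 u₀ τ = zU J1 hJ1 u₀ (σ + τ) := by
  apply gl_ext_act
  intro v
  rw [act_mul, act_zU, act_zU, act_zU, map_add, ctrL_J_pur_self hJ1, add_zero, Matrix.add_mulVec, pur_add_right]
  abel

/-- T3-Z (c) -/
theorem zU_zero (hJ1 : SympG J1) (u₀ : Fin a → F) : zU (b := b) J1 hJ1 u₀ 0 = 1 := by
  apply gl_ext_act
  intro v
  rw [act_zU, Matrix.zero_mulVec, pur_zero_right, add_zero, act_one]

/-- inverse of `zU` -/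
theorem zU_inv (hJ1 : SympG J1) (u₀ : Fin a → F) (σ : Matrix (Fin b) (Fin b) F) :
    (zU J1 hJ1 u₀ σ)⁻¹ = zU J1 hJ1 u₀ (-σ) := by
  rw [inv_eq_iff_mul_eq_one, zU_add, add_neg_cancel, zU_zero]

/-- T3-Z (d) -/
theorem zU_smul_one (hJ1 : SympG J1) (u₀ : Fin a → F) (c : F) :
    zU (b := b) J1 hJ1 u₀ (c • (1 : Matrix (Fin b) (Fin b) F)) = rU J1 hJ1 u₀ c := by
  apply gl_ext_act
  intro v
  rw [act_zU, act_rU, Matrix.smul_mulVec, Matrix.one_mulVec, pur_smul_right]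

/-- T3-Z (e): `zU u₀ (c • E J2 w w)` is the transvection with centre `u₀ ⊗ w` -/
theorem zU_isTv (hJ1 : SympG J1) (u₀ : Fin a → F) (w : Fin b → F) (c : F) :
    IsTv (J1 ⊗ₖ J2) (pur u₀ w) c (zU J1 hJ1 u₀ (c • E J2 w w)) := by
  intro v
  rw [← act_apply, act_zU, Matrix.smul_mulVec, E_mulVec, bf_kron_pur_right', smul_smul, pur_smul_right]

/-- T3-Z (f): `zU u₀ σ ∈ N0` only for scalar `σ` -/
theorem zU_mem_kron (hJ1 : SympG J1) (hb : 1 ≤ b) (u₀ : Fin a → F) (hu0 : u₀ ≠ 0) (σ : Matrix (Fin b) (Fin b) F)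
    (h : zU J1 hJ1 u₀ σ ∈ K) : ∃ c : F, σ = c • (1 : Matrix (Fin b) (Fin b) F) := by
  obtain ⟨A, B, hAB⟩ := (mem_kron_iff _).1 h
  obtain ⟨u₁, hu₁⟩ := exists_bf_eq_one hJ1 u₀ hu0
  -- `z (u₁ ⊗ w) = A u₁ ⊗ B w = u₁ ⊗ w + u₀ ⊗ σ w`
  have key : ∀ w : Fin b → F, pur ((A : Matrix (Fin a) (Fin a) F) *ᵥ u₁) ((B : Matrix (Fin b) (Fin b) F) *ᵥ w) =
      pur u₁ w + pur u₀ (σ *ᵥ w) := by
    intro w
    have h1 := act_zU J1 hJ1 u₀ σ (pur u₁ w)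
    rw [act_apply, hAB, kron_mulVec_pur, ctrL_J_pur, hu₁, one_smul] at h1
    exact h1
  set μ : F := bf J1 ((A : Matrix (Fin a) (Fin a) F) *ᵥ u₁) u₀ with hμ
  set ν : F := bf J1 ((A : Matrix (Fin a) (Fin a) F) *ᵥ u₁) u₁ with hν
  have k1 : ∀ w : Fin b → F, μ • ((B : Matrix (Fin b) (Fin b) F) *ᵥ w) = w := by
    intro w
    have h1 := congrArg (ctrL (J1 *ᵥ u₀)) (key w)
    rw [map_add, ctrL_J_pur, ctrL_J_pur, ctrL_J_pur, hu₁, hJ1.alt u₀, one_smul, zero_smul, add_zero] at h1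
    exact h1
  have k2 : ∀ w : Fin b → F, ν • ((B : Matrix (Fin b) (Fin b) F) *ᵥ w) = - (σ *ᵥ w) := by
    intro w
    have h1 := congrArg (ctrL (J1 *ᵥ u₁)) (key w)
    rw [map_add, ctrL_J_pur, ctrL_J_pur, ctrL_J_pur, hJ1.alt u₁, zero_smul, zero_add, hJ1.skew u₀ u₁, hu₁,
      neg_smul, one_smul] at h1
    exact h1
  have hμ0 : μ ≠ 0 := by
    intro h0
    have h1 := k1 (Pi.single ⟨0, by omega⟩ 1)
    rw [h0, zero_smul] at h1
    have h2 := congrFun h1 ⟨0, by omega⟩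
    rw [Pi.single_eq_same, Pi.zero_apply] at h2
    exact zero_ne_one h2
  refine ⟨-(ν * μ⁻¹), ?_⟩
  apply mat_ext_mulVec
  intro w
  have h3 : (B : Matrix (Fin b) (Fin b) F) *ᵥ w = μ⁻¹ • w := by
    rw [← k1 w, smul_smul, inv_mul_cancel₀ hμ0, one_smul, k1 w]
  have h4 := k2 w
  rw [h3, smul_smul] at h4
  rw [Matrix.smul_mulVec, Matrix.one_mulVec, neg_smul, h4, neg_neg]

variable [Fintype F]

/-- `(u₀^⊥ ⊗ W)^⊥ ≤ u₀ ⊗ W`: a vector perpendicular to all `y ⊗ w`, `y ⟂ u₀`, is `u₀ ⊗ p` -/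
theorem eq_pur_of_perp (hS : SetupSO J1 J2) (u₀ u₁ : Fin a → F) (hu₁ : bf J1 u₁ u₀ = 1) (x : V)
    (hx : ∀ (y : Fin a → F) (w : Fin b → F), bf J1 y u₀ = 0 → bf (J1 ⊗ₖ J2) x (pur y w) = 0) :
    x = pur u₀ (- ctrL (J1 *ᵥ u₁) x) := by
  rw [← sub_eq_zero]
  apply Cfsg.Agent.Lib.Helper6.S5666FOMX.bf_kron_nondeg hS
  intro t
  refine pur_induction (p := fun t => bf (J1 ⊗ₖ J2) (x - pur u₀ (- ctrL (J1 *ᵥ u₁) x)) t = 0) ?_ ?_ ?_ t
  · rw [bf_zero_right]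
  · intro t t' ht ht'
    rw [bf_add_right, ht, ht', add_zero]
  · intro y w
    -- `y = y₀ + c u₁`, `c = f₁(y,u₀)`, `y₀ ⟂ u₀`
    have hy : y = (y - bf J1 y u₀ • u₁) + bf J1 y u₀ • u₁ := by abel
    have hy0 : bf J1 (y - bf J1 y u₀ • u₁) u₀ = 0 := by
      rw [bf_sub_left, bf_smul_left, hu₁, mul_one, sub_self]
    rw [hy, pur_add_left, bf_add_right, pur_smul_left, bf_smul_right, bf_sub_left, bf_sub_left,
      hx _ w hy0, bf_kron_pur, hS.h1.skew u₀ (y - bf J1 y u₀ • u₁), hy0, bf_kron_pur_right', bf_kron_pur,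
      hS.h1.skew u₀ u₁, hu₁, bf_neg_left]
    ring

/-- T3-Z (g): an isometry fixing `u₀^⊥ ⊗ W` pointwise is a `zU u₀ σ`, `σ` selfadjoint -/
theorem fix_struct (hS : SetupSO J1 J2) (u₀ : Fin a → F) (hu0 : u₀ ≠ 0) (z : GL (Fin a × Fin b) F)
    (hz : z ∈ IsoG (J1 ⊗ₖ J2)) (hfix : ∀ v ∈ hypL (b := b) (J1 *ᵥ u₀), act z v = v) :
    ∃ σ : Matrix (Fin b) (Fin b) F, (∀ w w', bf J2 (σ *ᵥ w) w' = bf J2 w (σ *ᵥ w')) ∧ z = zU J1 hS.h1 u₀ σ := by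
  obtain ⟨u₁, hu₁⟩ := exists_bf_eq_one hS.h1 u₀ hu0
  have hiso : ∀ x y : V, bf (J1 ⊗ₖ J2) (act z x) (act z y) = bf (J1 ⊗ₖ J2) x y := by
    intro x y
    rw [act_apply, act_apply]
    exact hz x y
  have hmemP : ∀ (y : Fin a → F) (w : Fin b → F), bf J1 y u₀ = 0 → pur y w ∈ hypL (b := b) (J1 *ᵥ u₀) := by
    intro y w hy
    rw [mem_hypL_iff, ctrL_J_pur, hy, zero_smul]
  -- `δ t := z t - t` is perpendicular to `u₀^⊥ ⊗ W`
  have hperp : ∀ (t : V) (y : Fin a → F) (w : Fin b → F), bf J1 y u₀ = 0 →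
      bf (J1 ⊗ₖ J2) (act z t - t) (pur y w) = 0 := by
    intro t y w hy
    have h1 := hiso t (pur y w)
    rw [hfix _ (hmemP y w hy)] at h1
    rw [bf_sub_left, h1, sub_self]
  let T : (Fin b → F) →ₗ[F] (Fin b → F) :=
    - ((ctrL (J1 *ᵥ u₁)) ∘ₗ ((act z).toLinearMap - LinearMap.id) ∘ₗ (purR u₁))
  have hT : ∀ w : Fin b → F, T w = - ctrL (J1 *ᵥ u₁) (act z (pur u₁ w) - pur u₁ w) := fun w => rfl
  have hδ : ∀ w : Fin b → F, act z (pur u₁ w) = pur u₁ w + pur u₀ ((LinearMap.toMatrix' T) *ᵥ w) := by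
    intro w
    rw [LinearMap.toMatrix'_mulVec, hT]
    have h1 := eq_pur_of_perp hS u₀ u₁ hu₁ (act z (pur u₁ w) - pur u₁ w) (fun y w' hy => hperp _ y w' hy)
    rw [← h1]
    abel
  refine ⟨LinearMap.toMatrix' T, ?_, ?_⟩
  · intro w w'
    have h1 := hiso (pur u₁ w) (pur u₁ w')
    rw [hδ, hδ, bf_add_left, bf_add_right, bf_add_right, bf_kron_pur, bf_kron_pur, bf_kron_pur, bf_kron_pur,
      hS.h1.alt u₁, hS.h1.alt u₀, hS.h1.skew u₀ u₁, hu₁] at h1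
    have h2 : bf J2 w ((LinearMap.toMatrix' T) *ᵥ w') = bf J2 ((LinearMap.toMatrix' T) *ᵥ w) w' := by
      linear_combination h1
    exact h2.symm
  · apply gl_ext_act
    intro v
    have hv : v = (v - pur u₁ (ctrL (J1 *ᵥ u₀) v)) + pur u₁ (ctrL (J1 *ᵥ u₀) v) := by abel
    have hv0 : v - pur u₁ (ctrL (J1 *ᵥ u₀) v) ∈ hypL (b := b) (J1 *ᵥ u₀) := by
      rw [mem_hypL_iff, map_sub, ctrL_J_pur, hu₁, one_smul, sub_self]
    rw [act_zU]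
    conv_lhs => rw [hv]
    rw [map_add, hfix _ hv0, hδ]
    abel

end Cfsg.Agent.Lib.Helper6.S5666ET3Z
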