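import Mathlib
import Cfsg.Agent.Lib.Helper13.TensSODefs
import Cfsg.Agent.Lib.Helper20.S5666ExitDefs
import Cfsg.Agent.Lib.Helper26.S5666ET3CONJ
import Cfsg.Agent.Lib.Helper6.S5666FOROOT
import Cfsg.Agent.Lib.Helper6.S5666EISO
import Cfsg.Agent.Lib.Helper6.S5666ET3Z

/-!
# S5666 EXIT, pieces T3-S and T3-J: closure properties of `{σ | zU u₀ σ ∈ M}` (helper6)

`zU_conj_mem`, `zU_smul_mem`, `zU_move_mem`, `jordan_rule` of `notes/S5666ExitASkel_helper20.lean.txt` (rev 2),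
exact signatures.
-/

set_option autoImplicit false
set_option linter.unusedSectionVars false
set_option linter.unusedVariables false

namespace Cfsg.Agent.Lib.Helper6.S5666ET3S

open Matrix Module
open Cfsg.Agent.Lib.Helper16.Tens Cfsg.Agent.Lib.Helper10.TensFund Cfsg.Agent.Lib.Helper13.TensSO
open Cfsg.Agent.Lib.Helper28.TensU (ctrL ctrL_apply ctrL_pur hypL mem_hypL_iff ptL mem_ptL_iff pur_mem_ptL rootGLL
  rootGLL_val act_rootGLL rootGLL_mem_SL rootGLL_mem_kron)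
open Cfsg.Agent.Lib.Helper3.SpT (bf SympG E E_mulVec E_mul_E uni uni_val uni_inv_val bf_add_left bf_add_right
  bf_smul_left bf_smul_right bf_kron_pur bf_zero_left bf_zero_right bf_neg_left bf_neg_right bf_sub_left
  bf_sub_right pur_induction mat_ext_mulVec act_kronGL)
open Cfsg.Agent.Lib.Helper23.S5637T3b (kronGL kronGL_val kronGL_mem_kron)
open Cfsg.Agent.Lib.Helper20.S5666Exit
open Cfsg.Agent.Lib.Helper26.S5666ET3CONJ (conj_zU)
open Cfsg.Agent.Lib.Helper6.S5666FOROOT (gl_ext_act bf_kron_pur_right' bf_kron_pur_left' exists_bf_eq_one rU_mem_iso)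
open Cfsg.Agent.Lib.Helper6.S5666EISO (kron_mem_iso exists_sp_map)
open Cfsg.Agent.Lib.Helper6.S5666ET3Z
open scoped Kronecker

variable {F : Type*} [Field F] [Fintype F] {a b : ℕ}
variable {J1 : Matrix (Fin a) (Fin a) F} {J2 : Matrix (Fin b) (Fin b) F}
variable {M : Subgroup (GL (Fin a × Fin b) F)}

local notation "K" => Cfsg.Geo.kroneckerSubgroup a b F
local notation "V" => (Fin a × Fin b → F)

/-- T3-S (1): conjugation by `1 ⊗ B`, `B ∈ O(W)` -/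
theorem zU_conj_mem (hS : SetupSO J1 J2) (hM : OverS J1 J2 M) (u₀ : Fin a → F) (σ : Matrix (Fin b) (Fin b) F)
    (hσM : zU J1 hS.h1 u₀ σ ∈ M) (B : GL (Fin b) F)
    (hB : ∀ x y, bf J2 ((B : Matrix (Fin b) (Fin b) F) *ᵥ x) ((B : Matrix (Fin b) (Fin b) F) *ᵥ y) = bf J2 x y) :
    zU J1 hS.h1 u₀ ((B : Matrix (Fin b) (Fin b) F) * σ * ((B⁻¹ : GL (Fin b) F) : Matrix (Fin b) (Fin b) F)) ∈ M := by
  have hnI : kronGL (1 : GL (Fin a) F) B ∈ IsoG (J1 ⊗ₖ J2) := by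
    apply kron_mem_iso (1 : GL (Fin a) F) B 1 one_ne_zero
    · intro x y
      rw [Units.val_one, Matrix.one_mulVec, Matrix.one_mulVec, one_mul]
    · intro x y
      rw [hB, inv_one, one_mul]
  have hnM : kronGL (1 : GL (Fin a) F) B ∈ M := hM.kron_mem _ (kronGL_mem_kron _ _) hnI
  have hadj : ∀ w w', bf J2 ((B : Matrix (Fin b) (Fin b) F) *ᵥ w) w' =
      bf J2 w (((B⁻¹ : GL (Fin b) F) : Matrix (Fin b) (Fin b) F) *ᵥ w') := by
    intro w w'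
    have := hB w (((B⁻¹ : GL (Fin b) F) : Matrix (Fin b) (Fin b) F) *ᵥ w')
    rw [Matrix.mulVec_mulVec, ← Units.val_mul, mul_inv_cancel, Units.val_one, Matrix.one_mulVec] at this
    exact this
  have hc := conj_zU hS (kronGL (1 : GL (Fin a) F) B) hnI u₀ u₀ (B : Matrix (Fin b) (Fin b) F)
    ((B⁻¹ : GL (Fin b) F) : Matrix (Fin b) (Fin b) F)
    (fun w => by rw [act_kronGL, Units.val_one, Matrix.one_mulVec]) hadj σ
  rw [← hc]
  exact M.mul_mem (M.mul_mem hnM hσM) (M.inv_mem hnM)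

/-- conjugation by `A ⊗ 1`, `A ∈ Sp(U)` -/
theorem zU_sp_conj (hS : SetupSO J1 J2) (hM : OverS J1 J2 M) (u₀ u₀' : Fin a → F) (g : Matrix (Fin b) (Fin b) F)
    (hg : ∀ w w', bf J2 (g *ᵥ w) w' = bf J2 w (g *ᵥ w'))
    (A : GL (Fin a) F)
    (hA : ∀ x y, bf J1 ((A : Matrix (Fin a) (Fin a) F) *ᵥ x) ((A : Matrix (Fin a) (Fin a) F) *ᵥ y) = bf J1 x y)
    (hAu : ∀ w : Fin b → F, pur ((A : Matrix (Fin a) (Fin a) F) *ᵥ u₀) w = pur u₀' (g *ᵥ w))
    (σ : Matrix (Fin b) (Fin b) F) (hσM : zU J1 hS.h1 u₀ σ ∈ M) : zU J1 hS.h1 u₀' (g * σ * g) ∈ M := by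
  have hnI : kronGL A (1 : GL (Fin b) F) ∈ IsoG (J1 ⊗ₖ J2) := by
    apply kron_mem_iso A (1 : GL (Fin b) F) 1 one_ne_zero
    · intro x y
      rw [hA, one_mul]
    · intro x y
      rw [Units.val_one, Matrix.one_mulVec, Matrix.one_mulVec, inv_one, one_mul]
  have hnM : kronGL A (1 : GL (Fin b) F) ∈ M := hM.kron_mem _ (kronGL_mem_kron _ _) hnI
  have hc := conj_zU hS (kronGL A (1 : GL (Fin b) F)) hnI u₀ u₀' g g
    (fun w => by rw [act_kronGL, Units.val_one, Matrix.one_mulVec, hAu]) hg σ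
  rw [← hc]
  exact M.mul_mem (M.mul_mem hnM hσM) (M.inv_mem hnM)

/-- squares -/
theorem zU_sq_smul_mem (hS : SetupSO J1 J2) (hM : OverS J1 J2 M) (u₀ : Fin a → F) (hu0 : u₀ ≠ 0)
    (σ : Matrix (Fin b) (Fin b) F) (hσM : zU J1 hS.h1 u₀ σ ∈ M) (l : F) : zU J1 hS.h1 u₀ ((l * l) • σ) ∈ M := by
  by_cases hl : l = 0
  · rw [hl, zero_mul, zero_smul, zU_zero]
    exact M.one_mem
  · have hlu : l • u₀ ≠ 0 := smul_ne_zero hl hu0
    obtain ⟨A, hA, hAu⟩ := exists_sp_map hS.h1 u₀ (l • u₀) hu0 hlu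
    have h1 := zU_sp_conj hS hM u₀ u₀ (l • (1 : Matrix (Fin b) (Fin b) F))
      (fun w w' => by
        rw [Matrix.smul_mulVec, Matrix.smul_mulVec, Matrix.one_mulVec, Matrix.one_mulVec, bf_smul_left,
          bf_smul_right])
      A hA (fun w => by
        rw [hAu, Matrix.smul_mulVec, Matrix.one_mulVec, pur_smul_left, pur_smul_right]) σ hσM
    have h2 : l • (1 : Matrix (Fin b) (Fin b) F) * σ * (l • (1 : Matrix (Fin b) (Fin b) F)) = (l * l) • σ := by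
      rw [Matrix.smul_mul, Matrix.one_mul, Matrix.mul_smul, Matrix.mul_one, smul_smul]
    rw [h2] at h1
    exact h1

/-- T3-S (2): `F`-scalars (`Sp(U)` maps `u₀` to `λ u₀`: squares; `c = ((c+1)/2)² - ((c-1)/2)²`) -/
theorem zU_smul_mem (hS : SetupSO J1 J2) (hM : OverS J1 J2 M) (u₀ : Fin a → F) (hu0 : u₀ ≠ 0)
    (σ : Matrix (Fin b) (Fin b) F) (hσM : zU J1 hS.h1 u₀ σ ∈ M) (c : F) : zU J1 hS.h1 u₀ (c • σ) ∈ M := by
  have h2 := hS.two
  have h1 := zU_sq_smul_mem hS hM u₀ hu0 σ hσM ((c + 1) / 2)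
  have h3 := M.inv_mem (zU_sq_smul_mem hS hM u₀ hu0 σ hσM ((c - 1) / 2))
  rw [zU_inv] at h3
  have h4 := M.mul_mem h1 h3
  rw [zU_add] at h4
  have h5 : ((c + 1) / 2 * ((c + 1) / 2)) • σ + -(((c - 1) / 2 * ((c - 1) / 2)) • σ) = c • σ := by
    rw [← neg_smul, ← add_smul]
    congr 1
    field_simp
    ring
  rw [h5] at h4
  exact h4

/-- T3-S (3): independence of `u₀` -/
theorem zU_move_mem (hS : SetupSO J1 J2) (hM : OverS J1 J2 M) (u₀ u₀' : Fin a → F) (hu0 : u₀ ≠ 0) (hu0' : u₀' ≠ 0)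
    (σ : Matrix (Fin b) (Fin b) F) (hσM : zU J1 hS.h1 u₀ σ ∈ M) : zU J1 hS.h1 u₀' σ ∈ M := by
  obtain ⟨A, hA, hAu⟩ := exists_sp_map hS.h1 u₀ u₀' hu0 hu0'
  have h1 := zU_sp_conj hS hM u₀ u₀' (1 : Matrix (Fin b) (Fin b) F)
    (fun w w' => by rw [Matrix.one_mulVec, Matrix.one_mulVec])
    A hA (fun w => by rw [hAu, Matrix.one_mulVec]) σ hσM
  rw [Matrix.one_mul, Matrix.mul_one] at h1
  exact h1

end Cfsg.Agent.Lib.Helper6.S5666ET3S
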