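import Mathlib
import Cfsg.Agent.Lib.Helper13.TensSODefs
import Cfsg.Agent.Lib.Helper20.S5666ExitDefs
import Cfsg.Agent.Lib.Helper26.S5666ET3CONJ
import Cfsg.Agent.Lib.Helper6.S5666FOROOT
import Cfsg.Agent.Lib.Helper6.S5666ET3Z
import Cfsg.Agent.Lib.Helper6.S5666ET3S

/-!
# S5666 EXIT, piece T3-J: the JORDAN RULE (helper6)

`jordan_rule` of `notes/S5666ExitASkel_helper20.lean.txt` (rev 2), exact signature.
`e := zU u₀ σ`, `f := zU u₁ τ` (`f₁(u₁,u₀) = 1`), `h := e f e⁻¹ f⁻¹` acts on `u₀ ⊗ w` as `u₀ ⊗ (1 - στ) w` when `τστ = 0`;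
`h (zU u₀ 1) h⁻¹ = zU u₀ ((1 - στ)(1 - τσ))`.
-/

set_option autoImplicit false
set_option linter.unusedSectionVars false
set_option linter.unusedVariables false

namespace Cfsg.Agent.Lib.Helper6.S5666ET3J

open Matrix Module
open Cfsg.Agent.Lib.Helper16.Tens Cfsg.Agent.Lib.Helper10.TensFund Cfsg.Agent.Lib.Helper13.TensSO
open Cfsg.Agent.Lib.Helper28.TensU (ctrL ctrL_apply ctrL_pur hypL mem_hypL_iff ptL mem_ptL_iff pur_mem_ptL rootGLL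
  rootGLL_val act_rootGLL rootGLL_mem_SL rootGLL_mem_kron)
open Cfsg.Agent.Lib.Helper3.SpT (bf SympG E E_mulVec E_mul_E uni uni_val uni_inv_val bf_add_left bf_add_right
  bf_smul_left bf_smul_right bf_kron_pur bf_zero_left bf_zero_right bf_neg_left bf_neg_right bf_sub_left
  bf_sub_right pur_induction mat_ext_mulVec act_kronGL)
open Cfsg.Agent.Lib.Helper20.S5666Exit
open Cfsg.Agent.Lib.Helper26.S5666ET3CONJ (conj_zU)
open Cfsg.Agent.Lib.Helper6.S5666FOROOT (gl_ext_act bf_kron_pur_right' bf_kron_pur_left' exists_bf_eq_one rU_mem_iso)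
open Cfsg.Agent.Lib.Helper6.S5666ET3Z
open Cfsg.Agent.Lib.Helper6.S5666ET3S
open scoped Kronecker

variable {F : Type*} [Field F] [Fintype F] {a b : ℕ}
variable {J1 : Matrix (Fin a) (Fin a) F} {J2 : Matrix (Fin b) (Fin b) F}
variable {M : Subgroup (GL (Fin a × Fin b) F)}

local notation "K" => Cfsg.Geo.kroneckerSubgroup a b F
local notation "V" => (Fin a × Fin b → F)

/-- the commutator `[zU u₀ σ, zU u₁ τ]` on `u₀ ⊗ W` -/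
theorem act_comm_pur (hJ1 : SympG J1) (u₀ u₁ : Fin a → F) (hu₁ : bf J1 u₁ u₀ = 1)
    (σ τ : Matrix (Fin b) (Fin b) F) (h0 : τ * σ * τ = 0) (w : Fin b → F) :
    act (zU J1 hJ1 u₀ σ * zU J1 hJ1 u₁ τ * (zU J1 hJ1 u₀ σ)⁻¹ * (zU J1 hJ1 u₁ τ)⁻¹) (pur u₀ w) =
      pur u₀ ((1 - σ * τ) *ᵥ w) := by
  have h01 : bf J1 u₀ u₁ = -1 := by rw [hJ1.skew, hu₁]
  have h0w : τ *ᵥ (σ *ᵥ (τ *ᵥ w)) = 0 := by
    rw [Matrix.mulVec_mulVec, Matrix.mulVec_mulVec, h0, Matrix.zero_mulVec]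
  rw [zU_inv, zU_inv, act_mul, act_mul, act_mul]
  -- innermost
  have s1 : act (zU J1 hJ1 u₁ (-τ)) (pur u₀ w) = pur u₀ w + pur u₁ (τ *ᵥ w) := by
    rw [act_zU, ctrL_J_pur, h01, Matrix.neg_mulVec, neg_smul, one_smul, Matrix.mulVec_neg, neg_neg]
  have s2 : act (zU J1 hJ1 u₀ (-σ)) (pur u₀ w + pur u₁ (τ *ᵥ w)) =
      pur u₀ w + pur u₁ (τ *ᵥ w) - pur u₀ (σ *ᵥ (τ *ᵥ w)) := by
    rw [act_zU, map_add, ctrL_J_pur, ctrL_J_pur, hJ1.alt u₀, hu₁, zero_smul, one_smul, zero_add,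
      Matrix.neg_mulVec, pur_neg_right, sub_eq_add_neg]
  have s3 : act (zU J1 hJ1 u₁ τ) (pur u₀ w + pur u₁ (τ *ᵥ w) - pur u₀ (σ *ᵥ (τ *ᵥ w))) =
      pur u₀ w - pur u₀ (σ *ᵥ (τ *ᵥ w)) := by
    rw [act_zU, map_sub, map_add, ctrL_J_pur, ctrL_J_pur, ctrL_J_pur, hJ1.alt u₁, h01, zero_smul, add_zero,
      neg_smul, one_smul, neg_smul, one_smul, sub_neg_eq_add, Matrix.mulVec_add, Matrix.mulVec_neg, h0w, add_zero,
      pur_neg_right]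
    abel
  have s4 : act (zU J1 hJ1 u₀ σ) (pur u₀ w - pur u₀ (σ *ᵥ (τ *ᵥ w))) =
      pur u₀ w - pur u₀ (σ *ᵥ (τ *ᵥ w)) := by
    rw [act_zU, map_sub, ctrL_J_pur, ctrL_J_pur, hJ1.alt u₀, zero_smul, zero_smul, sub_zero, Matrix.mulVec_zero,
      pur_zero_right, add_zero]
  rw [s1, s2, s3, s4, Matrix.sub_mulVec, Matrix.one_mulVec, ← Matrix.mulVec_mulVec,
    sub_eq_add_neg w, pur_add_right, pur_neg_right, ← sub_eq_add_neg]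

/-- one half of the rule: `zU u₀ (-(στ + τσ) + σττσ) ∈ M` -/
theorem jordan_half (hS : SetupSO J1 J2) (hM : OverS J1 J2 M) (u₀ : Fin a → F) (hu0 : u₀ ≠ 0)
    (σ τ : Matrix (Fin b) (Fin b) F)
    (hσ : ∀ w w', bf J2 (σ *ᵥ w) w' = bf J2 w (σ *ᵥ w')) (hτ : ∀ w w', bf J2 (τ *ᵥ w) w' = bf J2 w (τ *ᵥ w'))
    (hσM : zU J1 hS.h1 u₀ σ ∈ M) (hτM : zU J1 hS.h1 u₀ τ ∈ M) (h0 : τ * σ * τ = 0) :
    zU J1 hS.h1 u₀ (-(σ * τ + τ * σ) + σ * τ * τ * σ) ∈ M := by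
  obtain ⟨u₁, hu₁⟩ := exists_bf_eq_one hS.h1 u₀ hu0
  have hu10 : u₁ ≠ 0 := by
    intro h
    rw [h, bf_zero_left] at hu₁
    exact zero_ne_one hu₁
  have hfM : zU J1 hS.h1 u₁ τ ∈ M := zU_move_mem hS hM u₀ u₁ hu0 hu10 τ hτM
  set h : GL (Fin a × Fin b) F :=
    zU J1 hS.h1 u₀ σ * zU J1 hS.h1 u₁ τ * (zU J1 hS.h1 u₀ σ)⁻¹ * (zU J1 hS.h1 u₁ τ)⁻¹ with hh
  have hhM : h ∈ M := M.mul_mem (M.mul_mem (M.mul_mem hσM hfM) (M.inv_mem hσM)) (M.inv_mem hfM)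
  have hadj : ∀ w w', bf J2 ((1 - σ * τ) *ᵥ w) w' = bf J2 w ((1 - τ * σ) *ᵥ w') := by
    intro w w'
    rw [Matrix.sub_mulVec, Matrix.sub_mulVec, Matrix.one_mulVec, Matrix.one_mulVec, bf_sub_left, bf_sub_right,
      ← Matrix.mulVec_mulVec, ← Matrix.mulVec_mulVec, hσ, hτ]
  have hc := conj_zU hS h (hM.le_iso hhM) u₀ u₀ (1 - σ * τ) (1 - τ * σ)
    (fun w => act_comm_pur hS.h1 u₀ u₁ hu₁ σ τ h0 w) hadj (1 : Matrix (Fin b) (Fin b) F)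
  have h1M : zU J1 hS.h1 u₀ (1 : Matrix (Fin b) (Fin b) F) ∈ M := by
    have h1 : (1 : Matrix (Fin b) (Fin b) F) = (1 : F) • (1 : Matrix (Fin b) (Fin b) F) := by rw [one_smul]
    rw [h1, zU_smul_one]
    exact hM.kron_mem _ (rU_mem_kron J1 hS.h1 u₀ 1) (rU_mem_iso hS.h1 u₀ 1)
  have h2M : zU J1 hS.h1 u₀ ((1 - σ * τ) * 1 * (1 - τ * σ)) ∈ M := by
    rw [← hc]
    exact M.mul_mem (M.mul_mem hhM h1M) (M.inv_mem hhM)
  have h3M := M.mul_mem h2M (M.inv_mem h1M)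
  rw [zU_inv, zU_add] at h3M
  have h4 : (1 - σ * τ) * 1 * (1 - τ * σ) + -1 = -(σ * τ + τ * σ) + σ * τ * τ * σ := by
    noncomm_ring
  rw [h4] at h3M
  exact h3M

/-- T3-S (4): the JORDAN RULE -/
theorem jordan_rule (hS : SetupSO J1 J2) (hM : OverS J1 J2 M) (u₀ : Fin a → F) (hu0 : u₀ ≠ 0)
    (σ τ : Matrix (Fin b) (Fin b) F)
    (hσ : ∀ w w', bf J2 (σ *ᵥ w) w' = bf J2 w (σ *ᵥ w')) (hτ : ∀ w w', bf J2 (τ *ᵥ w) w' = bf J2 w (τ *ᵥ w'))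
    (hσM : zU J1 hS.h1 u₀ σ ∈ M) (hτM : zU J1 hS.h1 u₀ τ ∈ M) (h0 : τ * σ * τ = 0) :
    zU J1 hS.h1 u₀ (σ * τ + τ * σ) ∈ M ∧ zU J1 hS.h1 u₀ (σ * τ * τ * σ) ∈ M := by
  have h2 := hS.two
  have hP := jordan_half hS hM u₀ hu0 σ τ hσ hτ hσM hτM h0
  have hτ' : ∀ w w', bf J2 ((-τ) *ᵥ w) w' = bf J2 w ((-τ) *ᵥ w') := by
    intro w w'
    rw [Matrix.neg_mulVec, Matrix.neg_mulVec, bf_neg_left, bf_neg_right, hτ]
  have hτM' : zU J1 hS.h1 u₀ (-τ) ∈ M := by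
    rw [← zU_inv]
    exact M.inv_mem hτM
  have h0' : (-τ) * σ * (-τ) = 0 := by
    rw [Matrix.neg_mul, Matrix.neg_mul, Matrix.mul_neg, neg_neg, h0]
  have hN := jordan_half hS hM u₀ hu0 σ (-τ) hσ hτ' hσM hτM' h0'
  constructor
  · -- `P(-τ) - P(τ) = 2 (στ + τσ)`
    have h3 := M.mul_mem hN (M.inv_mem hP)
    rw [zU_inv, zU_add] at h3
    have h4 := zU_smul_mem hS hM u₀ hu0 _ h3 (1 / 2)
    have h5 : (1 / 2 : F) • (-(σ * -τ + -τ * σ) + σ * -τ * -τ * σ + -(-(σ * τ + τ * σ) + σ * τ * τ * σ)) =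
        σ * τ + τ * σ := by
      have h6 : -(σ * -τ + -τ * σ) + σ * -τ * -τ * σ + -(-(σ * τ + τ * σ) + σ * τ * τ * σ) =
          (2 : F) • (σ * τ + τ * σ) := by
        rw [two_smul]
        noncomm_ring
      rw [h6, smul_smul, one_div, inv_mul_cancel₀ h2, one_smul]
    rw [h5] at h4
    exact h4
  · -- `P(-τ) + P(τ) = 2 σττσ`
    have h3 := M.mul_mem hN hP
    rw [zU_add] at h3
    have h4 := zU_smul_mem hS hM u₀ hu0 _ h3 (1 / 2)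
    have h5 : (1 / 2 : F) • (-(σ * -τ + -τ * σ) + σ * -τ * -τ * σ + (-(σ * τ + τ * σ) + σ * τ * τ * σ)) =
        σ * τ * τ * σ := by
      have h6 : -(σ * -τ + -τ * σ) + σ * -τ * -τ * σ + (-(σ * τ + τ * σ) + σ * τ * τ * σ) =
          (2 : F) • (σ * τ * τ * σ) := by
        rw [two_smul]
        noncomm_ring
      rw [h6, smul_smul, one_div, inv_mul_cancel₀ h2, one_smul]
    rw [h5] at h4
    exact h4

end Cfsg.Agent.Lib.Helper6.S5666ET3J
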