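import Mathlib

/-!
# helper6: quadratic action and Frobenius-type configurations

`eq_top_of_quadratic`: let `G` be a finite group with an injective representation `ρ : G →* R`
into an algebra `R` over a field `F` of odd characteristic `p`, and `Y ≤ G` an abelian subgroup all
of whose elements act quadratically (`(ρ y - 1)² = 0`).  If `Y` is self-normalising
(`N_G(Y) ≤ Y`) and contains the centraliser of each of its non-identity elements, then `Y = ⊤`.

(Proof: `Y` is a Sylow `p`-subgroup, Burnside's transfer theorem gives a normal `p`-complement `K`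
on which every `1 ≠ y ∈ Y` acts fixed-point-freely; averaging over `K` and using
`∑_{i<p} ρ(y)^i = 0` shows that `∑_{k ∈ K} ρ k = |K|`, whence `K = 1`.)
-/

set_option autoImplicit false

namespace Cfsg.Agent.Lib.Helper6.QuadFrob

open Subgroup

variable {F : Type*} [Field F] {R : Type*} [Ring R] [Algebra F R]
variable {G : Type*} [Group G]

/-- powers of `1 + n` with `n² = 0` -/
theorem pow_of_sq_zero (a : R) (h : (a - 1) * (a - 1) = 0) (k : ℕ) :
    a ^ k = 1 + (k : R) * (a - 1) := by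
  induction k with
  | zero => simp
  | succ k ih =>
    rw [pow_succ, ih]
    have h1 : a = 1 + (a - 1) := by abel
    have h2 : (1 + (k : R) * (a - 1)) * a =
        (1 + (k : R) * (a - 1)) + (1 + (k : R) * (a - 1)) * (a - 1) := by
      nth_rewrite 2 [h1]
      rw [mul_add, mul_one]
    rw [h2, add_mul, one_mul, mul_assoc, h, mul_zero, add_zero]
    push_cast
    rw [add_mul, one_mul, add_assoc]

theorem natCast_p_eq_zero (p : ℕ) [CharP F p] : ((p : ℕ) : R) = 0 := by
  have h : ((p : ℕ) : R) = algebraMap F R ((p : ℕ) : F) := by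
    rw [map_natCast]
  rw [h, CharP.cast_eq_zero, map_zero]

/-- the sum of the powers of a quadratic element vanishes in odd characteristic -/
theorem sum_pow_eq_zero (p : ℕ) [Fact p.Prime] [CharP F p] (hp2 : p ≠ 2) (a : R)
    (h : (a - 1) * (a - 1) = 0) : ∑ i ∈ Finset.range p, a ^ i = 0 := by
  have hp : p.Prime := Fact.out
  have h1 : ∀ i ∈ Finset.range p, a ^ i = 1 + (i : R) * (a - 1) := fun i _ =>
    pow_of_sq_zero a h i
  rw [Finset.sum_congr rfl h1, Finset.sum_add_distrib, ← Finset.sum_mul]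
  simp only [Finset.sum_const, Finset.card_range, nsmul_eq_mul, mul_one]
  rw [natCast_p_eq_zero (F := F) p, zero_add]
  have hodd : Odd p := hp.odd_of_ne_two hp2
  obtain ⟨m, hm⟩ := hodd
  have h2 : ∑ i ∈ Finset.range p, (i : R) = ((∑ i ∈ Finset.range p, i : ℕ) : R) := by
    push_cast
    rfl
  have h3 : ∑ i ∈ Finset.range p, i = p * m := by
    have h4 := Finset.sum_range_id_mul_two p
    have h5 : p * (p - 1) = (p * m) * 2 := by
      rw [hm]
      simp only [Nat.add_sub_cancel]
      ring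
    rw [h5] at h4
    exact Nat.eq_of_mul_eq_mul_right (by norm_num) h4
  rw [h2, h3, Nat.cast_mul, natCast_p_eq_zero (F := F) p, zero_mul, zero_mul]

section main

variable [Finite G] (p : ℕ) [Fact p.Prime]

omit [Finite G] [Fact p.Prime] in
theorem pow_p_eq_one [CharP F p] (ρ : G →* R) (hρ : Function.Injective ρ) {y : G}
    (hq : (ρ y - 1) * (ρ y - 1) = 0) : y ^ p = 1 := by
  apply hρ
  rw [map_pow, map_one, pow_of_sq_zero _ hq, natCast_p_eq_zero (F := F) p, zero_mul, add_zero]

/-- a self-normalising abelian subgroup of quadratic elements is a Sylow subgroup -/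
theorem exists_sylow_eq [CharP F p] (ρ : G →* R) (hρ : Function.Injective ρ) (Y : Subgroup G)
    (hquad : ∀ y ∈ Y, (ρ y - 1) * (ρ y - 1) = 0)
    (hnorm : ∀ x : G, (∀ y ∈ Y, x * y * x⁻¹ ∈ Y) → x ∈ Y) :
    ∃ P : Sylow p G, (P : Subgroup G) = Y := by
  have hYp : IsPGroup p Y := by
    intro y
    refine ⟨1, ?_⟩
    rw [pow_one]
    apply Subtype.ext
    rw [Subgroup.coe_pow, Subgroup.coe_one]
    exact pow_p_eq_one (F := F) p ρ hρ (hquad y y.2)
  obtain ⟨P, hYP⟩ := hYp.exists_le_sylow
  refine ⟨P, ?_⟩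
  by_contra hne
  have hne' : Y ≠ (P : Subgroup G) := fun h => hne h.symm
  have hnil : Group.IsNilpotent ↥(P : Subgroup G) := P.isPGroup'.isNilpotent
  have hnc := Group.normalizerCondition_of_isNilpotent (G := ↥(P : Subgroup G))
  have hlt' : Y.subgroupOf (P : Subgroup G) < ⊤ := by
    rw [lt_top_iff_ne_top]
    intro h
    rw [subgroupOf_eq_top] at h
    exact hne' (le_antisymm hYP h)
  have hlt2 := hnc _ hlt'
  obtain ⟨x, hxN, hxY⟩ := SetLike.exists_of_lt hlt2
  apply hxY
  rw [mem_subgroupOf]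
  apply hnorm
  intro y hy
  have hyP : y ∈ (P : Subgroup G) := hYP hy
  have h1 := (mem_normalizer_iff.1 hxN ⟨y, hyP⟩).1 (by rw [mem_subgroupOf]; exact hy)
  rw [mem_subgroupOf] at h1
  simpa using h1

/-- **Quadratic action against a Frobenius configuration.** -/
theorem eq_top_of_quadratic [CharP F p] (hp2 : p ≠ 2) (ρ : G →* R) (hρ : Function.Injective ρ)
    (Y : Subgroup G)
    (hab : ∀ y ∈ Y, ∀ y' ∈ Y, y * y' = y' * y)
    (hquad : ∀ y ∈ Y, (ρ y - 1) * (ρ y - 1) = 0)
    (hnorm : ∀ x : G, (∀ y ∈ Y, x * y * x⁻¹ ∈ Y) → x ∈ Y)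
    (hcent : ∀ y ∈ Y, y ≠ 1 → ∀ x : G, x * y = y * x → x ∈ Y) :
    Y = ⊤ := by
  classical
  have hp : p.Prime := Fact.out
  by_cases hY1 : Y = ⊥
  · rw [eq_top_iff]
    intro x _
    apply hnorm
    intro y hy
    rw [hY1, mem_bot] at hy
    rw [hy, mul_one, mul_inv_cancel]
    exact one_mem _
  obtain ⟨y, hyY, hy1⟩ : ∃ y ∈ Y, y ≠ 1 := by
    by_contra hcon
    push Not at hcon
    exact hY1 ((eq_bot_iff_forall _).2 hcon)
  obtain ⟨P, hPY⟩ := exists_sylow_eq (F := F) p ρ hρ Y hquad hnorm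
  have hP : normalizer ((P : Subgroup G) : Set G) ≤ centralizer ((P : Subgroup G) : Set G) := by
    intro x hx
    have hxY : x ∈ Y := by
      apply hnorm
      intro y' hy'
      have h1 := (mem_normalizer_iff.1 hx y').1 (by
        show y' ∈ (P : Subgroup G)
        rw [hPY]; exact hy')
      have h2 : x * y' * x⁻¹ ∈ (P : Subgroup G) := h1
      rw [hPY] at h2
      exact h2
    rw [mem_centralizer_iff]
    intro z hz
    have hz' : z ∈ (P : Subgroup G) := hz
    rw [hPY] at hz'
    exact hab z hz' x hxY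
  have hcompl := MonoidHom.ker_transferSylow_isComplement' P hP
  have hndvd := MonoidHom.not_dvd_card_ker_transferSylow P hP
  obtain ⟨K, hK⟩ : ∃ K : Subgroup G, K = (MonoidHom.transferSylow P hP).ker := ⟨_, rfl⟩
  have hKn : K.Normal := by rw [hK]; infer_instance
  rw [← hK] at hcompl hndvd
  have hKY : ∀ k ∈ K, k ∈ Y → k = 1 := by
    intro k hk hkY
    have hdisj := hcompl.disjoint
    have h1 : k ∈ K ⊓ (P : Subgroup G) := ⟨hk, by rw [hPY]; exact hkY⟩
    rw [hdisj.eq_bot] at h1
    exact mem_bot.1 h1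
  have hKbot : K = ⊥ := by
    have hfin : Fintype G := Fintype.ofFinite G
    obtain ⟨e, he⟩ : ∃ e : R, e = ∑ k : K, ρ (k : G) := ⟨_, rfl⟩
    have hyp : y ^ p = 1 := pow_p_eq_one (F := F) p ρ hρ (hquad y hyY)
    have hord : orderOf y = p := orderOf_eq_prime hyp hy1
    have hconj : ∀ i, 0 < i → i < p →
        ∑ k : K, ρ ((k : G) * y ^ i * (k : G)⁻¹) = e * ρ y ^ i := by
      intro i hi0 hip
      have hyi1 : y ^ i ≠ 1 := by
        intro h
        have h1 := orderOf_dvd_of_pow_eq_one h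
        rw [hord] at h1
        have := Nat.le_of_dvd hi0 h1
        omega
      have hyiY : y ^ i ∈ Y := Y.pow_mem hyY i
      let φ : K → K := fun k => ⟨(k : G) * (y ^ i * (k : G)⁻¹ * (y ^ i)⁻¹),
        K.mul_mem k.2 (hKn.conj_mem _ (K.inv_mem k.2) _)⟩
      have hφinj : Function.Injective φ := by
        intro k k' hkk
        have h1 : (k : G) * (y ^ i * (k : G)⁻¹ * (y ^ i)⁻¹) =
            (k' : G) * (y ^ i * (k' : G)⁻¹ * (y ^ i)⁻¹) := congrArg Subtype.val hkk
        have h3 : (k : G) * y ^ i * (k : G)⁻¹ = (k' : G) * y ^ i * (k' : G)⁻¹ := by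
          have h2 := congrArg (· * y ^ i) h1
          simpa [mul_assoc] using h2
        have h2 : ((k' : G)⁻¹ * k) * y ^ i = y ^ i * ((k' : G)⁻¹ * k) := by
          calc ((k' : G)⁻¹ * k) * y ^ i = (k' : G)⁻¹ * ((k : G) * y ^ i * (k : G)⁻¹) * k := by
                group
            _ = (k' : G)⁻¹ * ((k' : G) * y ^ i * (k' : G)⁻¹) * k := by rw [h3]
            _ = y ^ i * ((k' : G)⁻¹ * k) := by group
        have h4 : (k' : G)⁻¹ * k ∈ Y := hcent _ hyiY hyi1 _ h2
        have h5 : (k' : G)⁻¹ * k = 1 := hKY _ (K.mul_mem (K.inv_mem k'.2) k.2) h4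
        apply Subtype.ext
        rw [inv_mul_eq_one] at h5
        exact h5.symm
      have hφbij : Function.Bijective φ := Finite.injective_iff_bijective.1 hφinj
      calc ∑ k : K, ρ ((k : G) * y ^ i * (k : G)⁻¹) = ∑ k : K, ρ (φ k : G) * ρ y ^ i := by
            refine Finset.sum_congr rfl fun k _ => ?_
            rw [← map_pow, ← map_mul]
            congr 1
            show _ = (k : G) * (y ^ i * (k : G)⁻¹ * (y ^ i)⁻¹) * y ^ i
            group
        _ = (∑ k : K, ρ (φ k : G)) * ρ y ^ i := by rw [Finset.sum_mul]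
        _ = e * ρ y ^ i := by
            rw [he]
            congr 1
            exact Function.Bijective.sum_comp hφbij (fun k => ρ (k : G))
    have hS : ∑ i ∈ Finset.range p, ρ y ^ i = 0 :=
      sum_pow_eq_zero (F := F) p hp2 _ (hquad y hyY)
    have htot : ∑ i ∈ Finset.range p, ∑ k : K, ρ ((k : G) * y ^ i * (k : G)⁻¹) = 0 := by
      rw [Finset.sum_comm]
      refine Finset.sum_eq_zero fun k _ => ?_
      have h1 : ∀ i ∈ Finset.range p,
          ρ ((k : G) * y ^ i * (k : G)⁻¹) = ρ k * ρ y ^ i * ρ (k : G)⁻¹ := by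
        intro i _
        rw [map_mul, map_mul, map_pow]
      rw [Finset.sum_congr rfl h1, ← Finset.sum_mul, ← Finset.mul_sum, hS, mul_zero, zero_mul]
    obtain ⟨m, hm⟩ : ∃ m, p = m + 1 := ⟨p - 1, by have := hp.two_le; omega⟩
    have hcardK : (∑ _k : K, (1 : R)) = (Nat.card K : R) := by
      rw [Finset.sum_const, Finset.card_univ, nsmul_eq_mul, mul_one, Nat.card_eq_fintype_card]
    have he2 : e = (Nat.card K : R) := by
      rw [hm, Finset.sum_range_succ'] at htot hS
      have h1 : ∑ i ∈ Finset.range m, ∑ k : K, ρ ((k : G) * y ^ (i + 1) * (k : G)⁻¹) =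
          e * ∑ i ∈ Finset.range m, ρ y ^ (i + 1) := by
        rw [Finset.mul_sum]
        refine Finset.sum_congr rfl fun i hi => ?_
        have := Finset.mem_range.1 hi
        exact hconj (i + 1) (by omega) (by omega)
      have h2 : ∑ i ∈ Finset.range m, ρ y ^ (i + 1) = -1 := by
        rw [pow_zero] at hS
        exact eq_neg_of_add_eq_zero_left hS
      rw [h1, h2] at htot
      simp only [pow_zero, mul_one, mul_inv_cancel, map_one] at htot
      rw [hcardK] at htot
      have h3 : (Nat.card K : R) = e := by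
        have h4 := eq_neg_of_add_eq_zero_left htot
        rw [mul_neg, mul_one] at h4
        exact (neg_injective h4).symm
      exact h3.symm
    have hunit : IsUnit (Nat.card K : R) := by
      have h1 : (Nat.card K : R) = algebraMap F R ((Nat.card K : ℕ) : F) := by
        rw [map_natCast]
      rw [h1]
      apply IsUnit.map
      rw [isUnit_iff_ne_zero]
      intro h
      rw [CharP.cast_eq_zero_iff F p] at h
      exact hndvd h
    rw [eq_bot_iff_forall]
    intro k0 hk0
    apply hρ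
    rw [map_one]
    have h1 : ρ k0 * e = e := by
      rw [he, Finset.mul_sum]
      have h2 : ∀ k : K, ρ k0 * ρ (k : G) = ρ (((⟨k0, hk0⟩ : K) * k : K) : G) := by
        intro k
        rw [← map_mul]
        rfl
      rw [Finset.sum_congr rfl (fun k _ => h2 k)]
      exact Fintype.sum_equiv (Equiv.mulLeft (⟨k0, hk0⟩ : K)) _ _ (fun k => rfl)
    rw [he2] at h1
    obtain ⟨u, hu⟩ := hunit
    rw [← hu] at h1
    calc ρ k0 = ρ k0 * (u : R) * ((u⁻¹ : Rˣ) : R) := by rw [mul_assoc, Units.mul_inv, mul_one]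
      _ = (u : R) * ((u⁻¹ : Rˣ) : R) := by rw [h1]
      _ = 1 := Units.mul_inv u
  have hcard := hcompl.card_mul_card
  rw [hKbot, card_bot, one_mul] at hcard
  rw [← hPY]
  exact (Subgroup.card_eq_iff_eq_top _).1 hcard

end main

section ambient

variable {H : Type*} [Group H] (p : ℕ) [Fact p.Prime]

/-- relative version: `Y ≤ X` subgroups of an ambient group `H` with an injective
representation; `X` finite. -/
theorem le_of_quadratic [CharP F p] (hp2 : p ≠ 2) (ρ : H →* R) (hρ : Function.Injective ρ)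
    (X Y : Subgroup H) [Finite X] (hYX : Y ≤ X)
    (hab : ∀ y ∈ Y, ∀ y' ∈ Y, y * y' = y' * y)
    (hquad : ∀ y ∈ Y, (ρ y - 1) * (ρ y - 1) = 0)
    (hnorm : ∀ x ∈ X, (∀ y ∈ Y, x * y * x⁻¹ ∈ Y) → x ∈ Y)
    (hcent : ∀ y ∈ Y, y ≠ 1 → ∀ x ∈ X, x * y = y * x → x ∈ Y) :
    X ≤ Y := by
  have h := eq_top_of_quadratic (F := F) (G := ↥X) p hp2 (ρ.comp X.subtype)
    (hρ.comp X.subtype_injective) (Y.subgroupOf X)
    (fun y hy y' hy' => Subtype.ext (hab _ (mem_subgroupOf.1 hy) _ (mem_subgroupOf.1 hy')))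
    (fun y hy => hquad _ (mem_subgroupOf.1 hy))
    (fun x hx => by
      rw [mem_subgroupOf]
      refine hnorm _ x.2 fun y hy => ?_
      have := hx ⟨y, hYX hy⟩ (by rw [mem_subgroupOf]; exact hy)
      rw [mem_subgroupOf] at this
      simpa using this)
    (fun y hy hy1 x hx => by
      rw [mem_subgroupOf]
      refine hcent _ (mem_subgroupOf.1 hy) (fun h => hy1 (Subtype.ext h)) _ x.2 ?_
      have := congrArg Subtype.val hx
      simpa using this)
  rw [subgroupOf_eq_top] at h
  exact h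

/-- matrix version -/
theorem le_of_quadratic_GL {ι : Type*} [Fintype ι] [DecidableEq ι] [CharP F p] (hp2 : p ≠ 2)
    (X Y : Subgroup (GL ι F)) [Finite X] (hYX : Y ≤ X)
    (hab : ∀ y ∈ Y, ∀ y' ∈ Y, y * y' = y' * y)
    (hquad : ∀ y ∈ Y, ((y : Matrix ι ι F) - 1) * ((y : Matrix ι ι F) - 1) = 0)
    (hnorm : ∀ x ∈ X, (∀ y ∈ Y, x * y * x⁻¹ ∈ Y) → x ∈ Y)
    (hcent : ∀ y ∈ Y, y ≠ 1 → ∀ x ∈ X, x * y = y * x → x ∈ Y) :
    X ≤ Y :=
  le_of_quadratic (F := F) (R := Matrix ι ι F) p hp2 (Units.coeHom (Matrix ι ι F))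
    Units.val_injective X Y hYX hab hquad hnorm hcent

end ambient

end Cfsg.Agent.Lib.Helper6.QuadFrob
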