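import Mathlib
import Cfsg.Agent.Lib.Helper13.TensSODefs
import Cfsg.Agent.Lib.Helper23.S5670FOLEFT
import Cfsg.Agent.Lib.Helper6.S5666FOROOT
import Cfsg.Agent.Lib.Helper6.S5666FOMX

/-!
# S5666 A-N : STEP N (helper6)

An element of `X = ⟨Y_u, g Y_u' g⁻¹⟩` lying in `N0` and stabilising `u ⊗ W` is in `Y_u`.
-/

set_option autoImplicit false
set_option linter.unusedSectionVars false
set_option linter.unusedVariables false

namespace Cfsg.Agent.Lib.Helper6.S5666FON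

open Matrix Module
open Cfsg.Agent.Lib.Helper16.Tens Cfsg.Agent.Lib.Helper10.TensFund Cfsg.Agent.Lib.Helper13.TensSO
open Cfsg.Agent.Lib.Helper28.TensU (ctrL ctrL_apply ctrL_pur hypL mem_hypL_iff ptL mem_ptL_iff pur_mem_ptL rootGLL
  rootGLL_val act_rootGLL rootGLL_mem_SL rootGLL_mem_kron)
open Cfsg.Agent.Lib.Helper3.SpT (bf SympG)
open scoped Kronecker

variable {F : Type*} [Field F] [Fintype F] {a b : ℕ}
variable {J1 : Matrix (Fin a) (Fin a) F} {J2 : Matrix (Fin b) (Fin b) F}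
variable {M : Subgroup (GL (Fin a × Fin b) F)}

local notation "K" => Cfsg.Geo.kroneckerSubgroup a b F
local notation "V" => (Fin a × Fin b → F)



open Cfsg.Agent.Lib.Helper6.S5666FOROOT (rU_mem_iso exists_bf_eq_one exists_perp_two)
open Cfsg.Agent.Lib.Helper6.S5666FOMX (not_img_ptL_le_hypL img_ptL_inf_hypL_eq_bot)

/-! ## closure lemmas for arbitrary generating sets -/

theorem closure_fix_set (S : Set (GL (Fin a × Fin b) F)) (δ : GL (Fin a × Fin b) F)
    (hδ : δ ∈ Subgroup.closure S) (v : V) (h : ∀ s ∈ S, act s v = v) : act δ v = v := by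
  induction hδ using Subgroup.closure_induction with
  | mem x hx => exact h x hx
  | one => exact act_one v
  | mul x y _ _ hx hy => rw [act_mul, hy, hx]
  | inv x _ hx =>
    have := act_inv_act x v
    rw [hx] at this
    exact this

theorem closure_sub_mem_set (S : Set (GL (Fin a × Fin b) F)) (δ : GL (Fin a × Fin b) F)
    (hδ : δ ∈ Subgroup.closure S) (T : Submodule F V) (h : ∀ s ∈ S, ∀ v, act s v - v ∈ T) (v : V) :
    act δ v - v ∈ T := by
  induction hδ using Subgroup.closure_induction generalizing v with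
  | mem x hx => exact h x hx v
  | one => rw [act_one, sub_self]; exact T.zero_mem
  | mul x y _ _ hx hy =>
    have : act (x * y) v - v = (act x (act y v) - act y v) + (act y v - v) := by rw [act_mul]; abel
    rw [this]; exact T.add_mem (hx _) (hy _)
  | inv x _ hx =>
    have : act x⁻¹ v - v = - (act x (act x⁻¹ v) - act x⁻¹ v) := by rw [act_act_inv]; abel
    rw [this]; exact T.neg_mem (hx _)

/-! ## small facts -/

theorem ctrL_J_pur (y x : Fin a → F) (w : Fin b → F) :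
    ctrL (J1 *ᵥ y) (pur x w) = bf J1 x y • w := by
  rw [ctrL_pur]; rfl

theorem J_mulVec_ne_zero (hJ1 : SympG J1) {u : Fin a → F} (hu : u ≠ 0) : J1 *ᵥ u ≠ 0 := by
  intro h
  apply hu
  apply hJ1.nondeg
  intro y
  rw [hJ1.skew]
  have : bf J1 y u = y ⬝ᵥ (J1 *ᵥ u) := rfl
  rw [this, h, dotProduct_zero, neg_zero]

theorem ptL_le_hypL' (hJ1 : SympG J1) (u u' : Fin a → F) (h : bf J1 u u' = 0) :
    ptL (b := b) u ≤ hypL (J1 *ᵥ u') := by
  intro x hx
  obtain ⟨w, rfl⟩ := (mem_ptL_iff u x).1 hx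
  rw [mem_hypL_iff, ctrL_J_pur, h, zero_smul]

theorem gl_ext_act {g h : GL (Fin a × Fin b) F} (H : ∀ v, act g v = act h v) : g = h := by
  apply Units.ext
  apply Matrix.toLin'.injective
  apply LinearMap.ext
  intro v
  exact H v

theorem finrank_V : finrank F V = a * b := by
  rw [Module.finrank_fintype_fun_eq_card]
  simp

/-- the action of a Kronecker element `A ⊗ B` with `B = β⁻¹` scalar -/
theorem exists_pair (hJ1 : SympG J1) (ha : 3 ≤ a) (u : Fin a → F) (hu : u ≠ 0) :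
    ∃ x y : Fin a → F, bf J1 x u = 0 ∧ bf J1 y u = 0 ∧ bf J1 x y = 1 := by
  obtain ⟨u'', hu''⟩ := exists_bf_eq_one hJ1 u hu
  obtain ⟨x, hx0, hxu, hxu''⟩ := exists_perp_two hJ1 ha u u''
  have : ∃ y₀, bf J1 x y₀ ≠ 0 := by
    by_contra hcon
    push Not at hcon
    exact hx0 (hJ1.nondeg x hcon)
  obtain ⟨y₀, hy₀⟩ := this
  refine ⟨x, (bf J1 x y₀)⁻¹ • (y₀ - bf J1 y₀ u • u''), hxu, ?_, ?_⟩
  · rw [Cfsg.Agent.Lib.Helper3.SpT.bf_smul_left, Cfsg.Agent.Lib.Helper3.SpT.bf_sub_left,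
      Cfsg.Agent.Lib.Helper3.SpT.bf_smul_left, hu'', mul_one, sub_self, mul_zero]
  · rw [Cfsg.Agent.Lib.Helper3.SpT.bf_smul_right, Cfsg.Agent.Lib.Helper3.SpT.bf_sub_right,
      Cfsg.Agent.Lib.Helper3.SpT.bf_smul_right, hxu'', mul_zero, sub_zero, inv_mul_cancel₀ hy₀]

/-- A-N : STEP N.  An element of `X = ⟨Y_u, g Y_u' g⁻¹⟩` lying in `N0` and stabilising `u ⊗ W` is in `Y_u`. -/
theorem stepN (hS : SetupSO J1 J2) (ha : 4 ≤ a) (hb : 1 ≤ b) (hM : OverS J1 J2 M) (hE : HypE1 J1 hS.h1 M)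
    (g : GL (Fin a × Fin b) F) (hg : g ∈ M) (hgK : g ∉ K) (u u' : Fin a → F) (hu : u ≠ 0) (hu' : u' ≠ 0)
    (n : GL (Fin a × Fin b) F)
    (hn : n ∈ Subgroup.closure (Set.range (fun c : F => rU (b := b) J1 hS.h1 u c) ∪
      Set.range (fun c : F => g * rU (b := b) J1 hS.h1 u' c * g⁻¹)))
    (hnK : n ∈ K) (hst : img n (ptL (b := b) u) = ptL u) :
    ∃ c : F, n = rU J1 hS.h1 u c := by
  have hJ1 := hS.h1
  -- the generators lie in `M`
  have hgenM : ∀ s ∈ (Set.range (fun c : F => rU (b := b) J1 hS.h1 u c) ∪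
      Set.range (fun c : F => g * rU (b := b) J1 hS.h1 u' c * g⁻¹)), s ∈ M := by
    rintro s (⟨c, rfl⟩ | ⟨c, rfl⟩)
    · exact hM.kron_mem _ (rU_mem_kron J1 hJ1 u c) (rU_mem_iso hJ1 u c)
    · exact M.mul_mem (M.mul_mem hg (hM.kron_mem _ (rU_mem_kron J1 hJ1 u' c) (rU_mem_iso hJ1 u' c)))
        (M.inv_mem hg)
  have hnM : n ∈ M := (Subgroup.closure_le M).2 hgenM hn
  have hnI : n ∈ IsoG (J1 ⊗ₖ J2) := hM.le_iso hnM
  -- fixed vectors and commutators of the generators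
  have hfix : ∀ s ∈ (Set.range (fun c : F => rU (b := b) J1 hS.h1 u c) ∪
      Set.range (fun c : F => g * rU (b := b) J1 hS.h1 u' c * g⁻¹)),
      ∀ v ∈ hypL (b := b) (J1 *ᵥ u) ⊓ img g (hypL (J1 *ᵥ u')), act s v = v := by
    rintro s (⟨c, rfl⟩ | ⟨c, rfl⟩) v ⟨hv1, hv2⟩
    · show act (rU J1 hJ1 u c) v = v
      rw [act_rU, (mem_hypL_iff _ _).1 hv1, pur_zero_right, smul_zero, add_zero]
    · show act (g * rU J1 hJ1 u' c * g⁻¹) v = v
      have h2 : act g⁻¹ v ∈ hypL (b := b) (J1 *ᵥ u') := (mem_img_iff g _ v).1 hv2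
      rw [act_mul, act_mul, act_rU, (mem_hypL_iff _ _).1 h2, pur_zero_right, smul_zero, add_zero,
        act_act_inv]
  have hsub : ∀ s ∈ (Set.range (fun c : F => rU (b := b) J1 hS.h1 u c) ∪
      Set.range (fun c : F => g * rU (b := b) J1 hS.h1 u' c * g⁻¹)),
      ∀ v, act s v - v ∈ ptL (b := b) u ⊔ img g (ptL u') := by
    rintro s (⟨c, rfl⟩ | ⟨c, rfl⟩) v
    · show act (rU J1 hJ1 u c) v - v ∈ _
      rw [act_rU, add_sub_cancel_left]
      exact Submodule.mem_sup_left (Submodule.smul_mem _ _ (pur_mem_ptL _ _))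
    · show act (g * rU J1 hJ1 u' c * g⁻¹) v - v ∈ _
      apply Submodule.mem_sup_right
      rw [mem_img_iff]
      rw [map_sub, act_mul, act_mul, act_inv_act, act_rU, add_sub_cancel_left]
      exact Submodule.smul_mem _ _ (pur_mem_ptL _ _)
  -- `n` fixes `V0` pointwise, and `n - 1` maps into `L ⊔ L'`
  have hnfix : ∀ v ∈ hypL (b := b) (J1 *ᵥ u) ⊓ img g (hypL (J1 *ᵥ u')), act n v = v :=
    fun v hv => closure_fix_set _ n hn v (fun s hs => hfix s hs v hv)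
  have hnsub : ∀ v, act n v - v ∈ ptL (b := b) u ⊔ img g (ptL u') :=
    closure_sub_mem_set _ n hn _ hsub
  -- `L ⊓ C' = ⊥`
  have hg' : g⁻¹ ∈ M := M.inv_mem hg
  have hg'K : g⁻¹ ∉ K := fun h => hgK (by simpa using (K).inv_mem h)
  have hLC' : ptL (b := b) u ⊓ img g (hypL (J1 *ᵥ u')) = ⊥ := by
    rw [eq_bot_iff]
    intro x ⟨hx1, hx2⟩
    have hD := img_ptL_inf_hypL_eq_bot hS (by omega) hb hM hE g⁻¹ hg' hg'K u' u hu' hu
    have h1 : act g⁻¹ x ∈ img g⁻¹ (ptL (b := b) u) := by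
      rw [mem_img_iff, inv_inv, act_act_inv]; exact hx1
    have h2 : act g⁻¹ x ∈ hypL (b := b) (J1 *ᵥ u') := (mem_img_iff g _ x).1 hx2
    have h3 : act g⁻¹ x ∈ (⊥ : Submodule F V) := by
      rw [← hD]; exact ⟨h1, h2⟩
    rw [Submodule.mem_bot] at h3 ⊢
    have := congrArg (act g) h3
    rwa [act_act_inv, map_zero] at this
  -- `C = L ⊔ V0`
  have hLC : ptL (b := b) u ≤ hypL (J1 *ᵥ u) := ptL_le_hypL' hJ1 u u (hJ1.alt u)
  have hCeq : ptL (b := b) u ⊔ (hypL (b := b) (J1 *ᵥ u) ⊓ img g (hypL (J1 *ᵥ u'))) = hypL (J1 *ᵥ u) := by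
    apply Submodule.eq_of_le_of_finrank_le (sup_le hLC inf_le_left)
    have e1 := Cfsg.Agent.Lib.Helper23.S5670LEFT.finrank_hypL (F := F) (b := b) (J1 *ᵥ u)
      (J_mulVec_ne_zero hJ1 hu)
    have e2 := Cfsg.Agent.Lib.Helper23.S5670LEFT.finrank_hypL (F := F) (b := b) (J1 *ᵥ u')
      (J_mulVec_ne_zero hJ1 hu')
    have e3 : finrank F (img g (hypL (b := b) (J1 *ᵥ u'))) = finrank F (hypL (F := F) (b := b) (J1 *ᵥ u')) :=
      finrank_img g _
    have e4 := Cfsg.Agent.Lib.Helper23.S5670LEFT.finrank_ptL (F := F) (b := b) u hu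
    have e5 := Submodule.finrank_sup_add_finrank_inf_eq (hypL (F := F) (b := b) (J1 *ᵥ u))
      (img g (hypL (J1 *ᵥ u')))
    have e6 : finrank F ↥(hypL (F := F) (b := b) (J1 *ᵥ u) ⊔ img g (hypL (J1 *ᵥ u')))
        ≤ a * b := by
      rw [← finrank_V (F := F) (a := a) (b := b)]
      exact Submodule.finrank_le _
    have e7 := Submodule.finrank_sup_add_finrank_inf_eq (ptL (F := F) (b := b) u)
      (hypL (F := F) (b := b) (J1 *ᵥ u) ⊓ img g (hypL (J1 *ᵥ u')))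
    have e8 : ptL (F := F) (b := b) u ⊓ (hypL (F := F) (b := b) (J1 *ᵥ u) ⊓ img g (hypL (J1 *ᵥ u'))) = ⊥ := by
      rw [eq_bot_iff, ← hLC']
      exact inf_le_inf_left _ inf_le_right
    rw [e8, finrank_bot, add_zero] at e7
    omega
  -- `n` is trivial on `C / L`
  have hnC : ∀ x ∈ hypL (b := b) (J1 *ᵥ u), act n x - x ∈ ptL (b := b) u := by
    intro x hx
    rw [← hCeq] at hx
    obtain ⟨l, hl, v0, hv0, rfl⟩ := Submodule.mem_sup.1 hx
    have h1 : act n l ∈ ptL (b := b) u := by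
      rw [← hst]; exact Submodule.mem_map_of_mem hl
    have h2 : act n (l + v0) - (l + v0) = act n l - l := by
      rw [map_add, hnfix v0 hv0]; abel
    rw [h2]
    exact Submodule.sub_mem _ h1 hl
  -- Kronecker form of `n`
  obtain ⟨A, B, hAB⟩ := (mem_kron_iff n).1 hnK
  have hact : ∀ (x : Fin a → F) (w : Fin b → F),
      act n (pur x w) = pur ((A : Matrix (Fin a) (Fin a) F) *ᵥ x) ((B : Matrix (Fin b) (Fin b) F) *ᵥ w) := by
    intro x w
    rw [act_apply, hAB, kron_mulVec_pur]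
  -- `B` is scalar
  obtain ⟨x, y, hxu, hyu, hxy⟩ := exists_pair hJ1 (by omega) u hu
  have huy : bf J1 u y = 0 := by rw [hJ1.skew, hyu, neg_zero]
  have hBw : ∀ w : Fin b → F,
      bf J1 ((A : Matrix (Fin a) (Fin a) F) *ᵥ x) y • ((B : Matrix (Fin b) (Fin b) F) *ᵥ w) = w := by
    intro w
    have h1 : pur x w ∈ hypL (b := b) (J1 *ᵥ u) := by
      rw [mem_hypL_iff, ctrL_J_pur, hxu, zero_smul]
    have h2 := hnC _ h1
    rw [hact] at h2
    have h3 : ctrL (J1 *ᵥ y) (pur ((A : Matrix (Fin a) (Fin a) F) *ᵥ x)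
        ((B : Matrix (Fin b) (Fin b) F) *ᵥ w) - pur x w) = 0 := by
      have := ptL_le_hypL' (b := b) hJ1 u y huy h2
      exact (mem_hypL_iff _ _).1 this
    rw [map_sub, ctrL_J_pur, ctrL_J_pur, hxy, one_smul, sub_eq_zero] at h3
    exact h3
  have hβ : bf J1 ((A : Matrix (Fin a) (Fin a) F) *ᵥ x) y ≠ 0 := by
    intro h0
    have := hBw (Pi.single ⟨0, by omega⟩ 1)
    rw [h0, zero_smul] at this
    have h1 := congrFun this ⟨0, by omega⟩
    simp at h1
  have hB : ∀ w : Fin b → F, (B : Matrix (Fin b) (Fin b) F) *ᵥ w =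
      (bf J1 ((A : Matrix (Fin a) (Fin a) F) *ᵥ x) y)⁻¹ • w := by
    intro w
    have := hBw w
    rw [← this, smul_smul, inv_mul_cancel₀ hβ, one_smul]
    rw [this]
  -- the map `r = A' - 1`
  have hact' : ∀ (x' : Fin a → F) (w : Fin b → F), act n (pur x' w) - pur x' w =
      pur ((bf J1 ((A : Matrix (Fin a) (Fin a) F) *ᵥ x) y)⁻¹ • ((A : Matrix (Fin a) (Fin a) F) *ᵥ x') - x') w := by
    intro x' w
    rw [hact, hB, pur_smul_right, ← pur_smul_left, sub_eq_add_neg, sub_eq_add_neg, pur_add_left, pur_neg_left]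
  -- `r x' ∈ span u`
  have hr : ∀ x' : Fin a → F, ∃ c : F,
      (bf J1 ((A : Matrix (Fin a) (Fin a) F) *ᵥ x) y)⁻¹ • ((A : Matrix (Fin a) (Fin a) F) *ᵥ x') - x' = c • u := by
    intro x'
    by_contra hcon
    push Not at hcon
    have hle : ptL (b := b) ((bf J1 ((A : Matrix (Fin a) (Fin a) F) *ᵥ x) y)⁻¹ •
        ((A : Matrix (Fin a) (Fin a) F) *ᵥ x') - x') ≤ ptL (b := b) u ⊔ img g (ptL u') := by
      intro z hz
      obtain ⟨w, rfl⟩ := (mem_ptL_iff _ z).1 hz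
      rw [← hact']
      exact hnsub _
    have hr0 : (bf J1 ((A : Matrix (Fin a) (Fin a) F) *ᵥ x) y)⁻¹ •
        ((A : Matrix (Fin a) (Fin a) F) *ᵥ x') - x' ≠ 0 := by
      intro h0
      exact hcon 0 (by rw [h0, zero_smul])
    have hinf := Cfsg.Agent.Lib.Helper23.S5670LEFT.ptL_inf_ptL (F := F) (b := b) u _ hcon
    have e1 := Submodule.finrank_sup_add_finrank_inf_eq (ptL (F := F) (b := b) u)
      (ptL (b := b) ((bf J1 ((A : Matrix (Fin a) (Fin a) F) *ᵥ x) y)⁻¹ •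
        ((A : Matrix (Fin a) (Fin a) F) *ᵥ x') - x'))
    rw [hinf, finrank_bot, add_zero, Cfsg.Agent.Lib.Helper23.S5670LEFT.finrank_ptL u hu,
      Cfsg.Agent.Lib.Helper23.S5670LEFT.finrank_ptL _ hr0] at e1
    have e2 := Submodule.finrank_add_le_finrank_add_finrank (ptL (F := F) (b := b) u) (img g (ptL u'))
    rw [finrank_img, Cfsg.Agent.Lib.Helper23.S5670LEFT.finrank_ptL u hu,
      Cfsg.Agent.Lib.Helper23.S5670LEFT.finrank_ptL u' hu'] at e2
    have heq : ptL (b := b) u ⊔ ptL (b := b) ((bf J1 ((A : Matrix (Fin a) (Fin a) F) *ᵥ x) y)⁻¹ •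
        ((A : Matrix (Fin a) (Fin a) F) *ᵥ x') - x') = ptL (b := b) u ⊔ img g (ptL u') := by
      apply Submodule.eq_of_le_of_finrank_le (sup_le le_sup_left hle)
      omega
    obtain ⟨u₃, hu₃, h3u, h3r⟩ := exists_perp_two hJ1 (by omega) u
      ((bf J1 ((A : Matrix (Fin a) (Fin a) F) *ᵥ x) y)⁻¹ • ((A : Matrix (Fin a) (Fin a) F) *ᵥ x') - x')
    apply not_img_ptL_le_hypL hS hb hM hE g hg hgK u₃ u' hu₃ hu'
    calc img g (ptL (b := b) u') ≤ ptL (b := b) u ⊔ img g (ptL u') := le_sup_right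
      _ = _ := heq.symm
      _ ≤ hypL (J1 *ᵥ u₃) := by
        apply sup_le
        · exact ptL_le_hypL' hJ1 _ _ (by rw [hJ1.skew, h3u, neg_zero])
        · exact ptL_le_hypL' hJ1 _ _ (by rw [hJ1.skew, h3r, neg_zero])
  choose φ hφ using hr
  have hA' : ∀ x' : Fin a → F, (bf J1 ((A : Matrix (Fin a) (Fin a) F) *ᵥ x) y)⁻¹ •
      ((A : Matrix (Fin a) (Fin a) F) *ᵥ x') = x' + φ x' • u := by
    intro x'
    rw [← hφ x']; abel
  have hact'' : ∀ (x' : Fin a → F) (w : Fin b → F), act n (pur x' w) = pur (x' + φ x' • u) w := by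
    intro x' w
    rw [← hA', hact, hB, pur_smul_right, ← pur_smul_left]
  -- `A'` is symplectic
  obtain ⟨w, w', hww'⟩ : ∃ w w' : Fin b → F, bf J2 w w' ≠ 0 := by
    by_contra hcon
    push Not at hcon
    have := hS.h2.nondeg (Pi.single ⟨0, by omega⟩ 1) (hcon _)
    have h1 := congrFun this ⟨0, by omega⟩
    simp at h1
  have hsymp : ∀ x' y' : Fin a → F, φ y' * bf J1 x' u + φ x' * bf J1 u y' = 0 := by
    intro x' y'
    have h1 := (mem_IsoG_iff _ n).1 hnI (pur x' w) (pur y' w')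
    rw [← act_apply, ← act_apply, hact'', hact'', Cfsg.Agent.Lib.Helper3.SpT.bf_kron_pur,
      Cfsg.Agent.Lib.Helper3.SpT.bf_kron_pur] at h1
    have h2 := mul_right_cancel₀ hww' h1
    rw [Cfsg.Agent.Lib.Helper3.SpT.bf_add_left, Cfsg.Agent.Lib.Helper3.SpT.bf_add_right,
      Cfsg.Agent.Lib.Helper3.SpT.bf_add_right, Cfsg.Agent.Lib.Helper3.SpT.bf_smul_left,
      Cfsg.Agent.Lib.Helper3.SpT.bf_smul_left, Cfsg.Agent.Lib.Helper3.SpT.bf_smul_right,
      Cfsg.Agent.Lib.Helper3.SpT.bf_smul_right, hJ1.alt u] at h2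
    linear_combination h2
  obtain ⟨u'', hu''⟩ := exists_bf_eq_one hJ1 u hu
  have hφeq : ∀ y' : Fin a → F, φ y' = φ u'' * bf J1 y' u := by
    intro y'
    have h1 := hsymp u'' y'
    rw [hu'', mul_one, hJ1.skew u y'] at h1
    linear_combination h1
  refine ⟨φ u'', ?_⟩
  apply gl_ext_act
  intro v
  refine Cfsg.Agent.Lib.Helper3.SpT.pur_induction (p := fun v => act n v = act (rU J1 hS.h1 u (φ u'')) v)
    ?_ ?_ ?_ v
  · rw [map_zero, map_zero]
  · intro x₁ x₂ h1 h2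
    rw [map_add, map_add, h1, h2]
  · intro x' w₁
    rw [hact'', act_rU, ctrL_J_pur, pur_add_left, pur_smul_left, pur_smul_right, smul_smul, hφeq x']
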