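import Mathlib
import Cfsg.Agent.Lib.Helper13.TensSODefs
import Cfsg.Agent.Lib.Helper23.S5670FOLEFT
import Cfsg.Agent.Lib.Helper6.QuadFrob
import Cfsg.Agent.Lib.Helper6.S5666FOROOT
import Cfsg.Agent.Lib.Helper6.S5666FON

/-!
# S5666 A-END : quadratic action + Frobenius endgame (helper6)

`HypE1` implies `M ≤ N0` (for `a ≥ 4`).
-/

set_option autoImplicit false
set_option linter.unusedSectionVars false
set_option linter.unusedVariables false

namespace Cfsg.Agent.Lib.Helper6.S5666FOEND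

open Matrix Module
open Cfsg.Agent.Lib.Helper16.Tens Cfsg.Agent.Lib.Helper10.TensFund Cfsg.Agent.Lib.Helper13.TensSO
open Cfsg.Agent.Lib.Helper28.TensU (ctrL ctrL_apply ctrL_pur hypL mem_hypL_iff ptL mem_ptL_iff pur_mem_ptL rootGLL
  rootGLL_val act_rootGLL rootGLL_mem_SL rootGLL_mem_kron)
open Cfsg.Agent.Lib.Helper3.SpT (bf SympG)
open scoped Kronecker

variable {F : Type*} [Field F] [Fintype F] {a b : ℕ}
variable {J1 : Matrix (Fin a) (Fin a) F} {J2 : Matrix (Fin b) (Fin b) F}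
variable {M : Subgroup (GL (Fin a × Fin b) F)}

local notation "K" => Cfsg.Geo.kroneckerSubgroup a b F
local notation "V" => (Fin a × Fin b → F)



open Cfsg.Agent.Lib.Helper6.S5666FOROOT (rU_mul rU_zero rU_quad exists_act_rU_sub rU_mem_iso)
open Cfsg.Agent.Lib.Helper6.S5666FON (stepN)

/-- the root group `Y_u = {rU u c}` -/
def rootGrp (hJ1 : SympG J1) (u : Fin a → F) : Subgroup (GL (Fin a × Fin b) F) where
  carrier := Set.range (fun c : F => rU (b := b) J1 hJ1 u c)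
  mul_mem' := by
    rintro _ _ ⟨c, rfl⟩ ⟨c', rfl⟩
    exact ⟨c + c', (rU_mul hJ1 u c c').symm⟩
  one_mem' := ⟨0, rU_zero hJ1 u⟩
  inv_mem' := by
    rintro _ ⟨c, rfl⟩
    refine ⟨-c, ?_⟩
    show rU J1 hJ1 u (-c) = (rU J1 hJ1 u c)⁻¹
    symm
    apply inv_eq_of_mul_eq_one_right
    rw [rU_mul, add_neg_cancel, rU_zero]

theorem mem_rootGrp_iff (hJ1 : SympG J1) (u : Fin a → F) (x : GL (Fin a × Fin b) F) :
    x ∈ rootGrp (b := b) hJ1 u ↔ ∃ c : F, rU (b := b) J1 hJ1 u c = x := Iff.rfl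

/-- A-END : quadratic action + Frobenius (helper6's `QuadFrob.le_of_quadratic_GL`) -/
theorem le_kron_of_hypE1 (hS : SetupSO J1 J2) (ha : 4 ≤ a) (hb : 1 ≤ b) (hM : OverS J1 J2 M)
    (hE : HypE1 J1 hS.h1 M) : M ≤ K := by
  intro g hg
  by_contra hgK
  have hJ1 := hS.h1
  obtain ⟨u, hu⟩ : ∃ u : Fin a → F, u ≠ 0 := by
    refine ⟨Pi.single ⟨0, by omega⟩ 1, ?_⟩
    intro h
    have h1 := congrFun h ⟨0, by omega⟩
    simp at h1
  -- the characteristic
  obtain ⟨p, hp⟩ := CharP.exists F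
  have : CharP F p := hp
  have : Fact p.Prime := ⟨CharP.char_is_prime F p⟩
  have hp2 : p ≠ 2 := by
    intro h
    subst h
    apply hS.two
    have := CharP.cast_eq_zero F 2
    exact_mod_cast this
  -- the groups
  have hgenM : ∀ s ∈ (Set.range (fun c : F => rU (b := b) J1 hS.h1 u c) ∪
      Set.range (fun c : F => g * rU (b := b) J1 hS.h1 u c * g⁻¹)), s ∈ M := by
    rintro s (⟨c, rfl⟩ | ⟨c, rfl⟩)
    · exact hM.kron_mem _ (rU_mem_kron J1 hJ1 u c) (rU_mem_iso hJ1 u c)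
    · exact M.mul_mem (M.mul_mem hg (hM.kron_mem _ (rU_mem_kron J1 hJ1 u c) (rU_mem_iso hJ1 u c)))
        (M.inv_mem hg)
  have hXM : Subgroup.closure (Set.range (fun c : F => rU (b := b) J1 hS.h1 u c) ∪
      Set.range (fun c : F => g * rU (b := b) J1 hS.h1 u c * g⁻¹)) ≤ M :=
    (Subgroup.closure_le M).2 hgenM
  -- key: an element of `X` conjugating a nontrivial root element into the root group is in the root group
  have key : ∀ x ∈ Subgroup.closure (Set.range (fun c : F => rU (b := b) J1 hS.h1 u c) ∪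
      Set.range (fun c : F => g * rU (b := b) J1 hS.h1 u c * g⁻¹)), ∀ c c' : F, c ≠ 0 →
      x * rU J1 hJ1 u c * x⁻¹ = rU J1 hJ1 u c' → x ∈ rootGrp (b := b) hJ1 u := by
    intro x hxX c c' hc hconj
    have hxM : x ∈ M := hXM hxX
    have hxK : x ∈ K := by
      apply hE x hxM u c hu hc
      rw [hconj]
      exact rU_mem_kron J1 hJ1 u c'
    have hle : img x (ptL (b := b) u) ≤ ptL u := by
      rintro _ ⟨l, hl, rfl⟩
      obtain ⟨v₀, hv₀⟩ := exists_act_rU_sub hJ1 u c hu hc l hl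
      show act x l ∈ ptL u
      have h1 : act x l = act (rU J1 hJ1 u c') (act x v₀) - act x v₀ := by
        rw [← hconj, act_mul, act_mul, act_inv_act, ← hv₀, map_sub]
      rw [h1, act_rU, add_sub_cancel_left]
      exact Submodule.smul_mem _ _ (pur_mem_ptL _ _)
    have hst : img x (ptL (b := b) u) = ptL u := by
      apply Submodule.eq_of_le_of_finrank_le hle
      rw [finrank_img]
    obtain ⟨c'', hc''⟩ := stepN hS ha hb hM hE g hg hgK u u hu hu x hxX hxK hst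
    exact ⟨c'', hc''.symm⟩
  have hYX : rootGrp (b := b) hJ1 u ≤ Subgroup.closure (Set.range (fun c : F => rU (b := b) J1 hS.h1 u c) ∪
      Set.range (fun c : F => g * rU (b := b) J1 hS.h1 u c * g⁻¹)) := by
    rintro _ ⟨c, rfl⟩
    exact Subgroup.subset_closure (Or.inl ⟨c, rfl⟩)
  have hXY := Cfsg.Agent.Lib.Helper6.QuadFrob.le_of_quadratic_GL (F := F) p hp2
    (Subgroup.closure (Set.range (fun c : F => rU (b := b) J1 hS.h1 u c) ∪
      Set.range (fun c : F => g * rU (b := b) J1 hS.h1 u c * g⁻¹))) (rootGrp (b := b) hJ1 u) hYX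
    (by
      rintro _ ⟨c, rfl⟩ _ ⟨c', rfl⟩
      show rU J1 hJ1 u c * rU J1 hJ1 u c' = rU J1 hJ1 u c' * rU J1 hJ1 u c
      rw [rU_mul, rU_mul, add_comm])
    (by
      rintro _ ⟨c, rfl⟩
      exact rU_quad hJ1 u c)
    (by
      intro x hxX hnorm
      obtain ⟨c', hc'⟩ := hnorm (rU J1 hJ1 u 1) ⟨1, rfl⟩
      exact key x hxX 1 c' one_ne_zero hc'.symm)
    (by
      rintro _ ⟨c, rfl⟩ hy1 x hxX hcomm
      have hc : c ≠ 0 := by
        intro h0
        apply hy1
        show rU J1 hJ1 u c = 1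
        rw [h0, rU_zero]
      apply key x hxX c c hc
      show x * rU J1 hJ1 u c * x⁻¹ = rU J1 hJ1 u c
      rw [hcomm, mul_assoc, mul_inv_cancel, mul_one])
  have h1 : g * rU (b := b) J1 hJ1 u 1 * g⁻¹ ∈ rootGrp (b := b) hJ1 u :=
    hXY (Subgroup.subset_closure (Or.inr ⟨1, rfl⟩))
  obtain ⟨c', hc'⟩ := h1
  apply hgK
  apply hE g hg u 1 hu one_ne_zero
  rw [← hc']
  exact rU_mem_kron J1 hJ1 u c'

end Cfsg.Agent.Lib.Helper6.S5666FOEND
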