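import Mathlib
import Cfsg.Prelude.Def_RootSubgroups
import Cfsg.Agent.H26.RootSub

/-!
# Transporting a set of abstract root subgroups of `G` to the subgroup it generates
-/

set_option autoImplicit false
open Cfsg

namespace Cfsg.Agent.Lib.Helper6.RootTransport

open Cfsg.Agent.H26

variable {G : Type*} [Group G]

theorem conjBy_subgroupOf (H A : Subgroup G) (h : H) :
    conjBy (A.subgroupOf H) h = (conjBy A (h : G)).subgroupOf H := by
  ext x
  rw [mem_conjBy, Subgroup.mem_subgroupOf, Subgroup.mem_subgroupOf, mem_conjBy]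
  rfl

theorem subgroupOf_injOn {H A B : Subgroup G} (hA : A ≤ H) (hB : B ≤ H)
    (h : A.subgroupOf H = B.subgroupOf H) : A = B := by
  rw [Subgroup.subgroupOf_inj, inf_eq_left.mpr hA, inf_eq_left.mpr hB] at h
  exact h

theorem commutator_le_of_le {H A B : Subgroup G} (hA : A ≤ H) (hB : B ≤ H) : ⁅A, B⁆ ≤ H := by
  rw [Subgroup.commutator_le]
  intro a ha b hb
  exact Subgroup.mul_mem _ (Subgroup.mul_mem _ (Subgroup.mul_mem _ (hA ha) (hB hb))
    (Subgroup.inv_mem _ (hA ha))) (Subgroup.inv_mem _ (hB hb))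

theorem commutator_subgroupOf {H A B : Subgroup G} (hA : A ≤ H) (hB : B ≤ H) :
    ⁅A.subgroupOf H, B.subgroupOf H⁆ = ⁅A, B⁆.subgroupOf H := by
  apply Subgroup.map_injective H.subtype_injective
  rw [Subgroup.map_commutator, Subgroup.map_subgroupOf_eq_of_le hA,
    Subgroup.map_subgroupOf_eq_of_le hB, Subgroup.map_subgroupOf_eq_of_le (commutator_le_of_le hA hB)]

theorem rankOneCond_subgroupOf {H A B : Subgroup G} (hB : B ≤ H)
    (h : RankOneCondition A B) : RankOneCondition (A.subgroupOf H) (B.subgroupOf H) := by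
  intro a ha ha1
  have ha1' : (a : G) ≠ 1 := fun h0 => ha1 (Subtype.ext h0)
  obtain ⟨b, hb, hb1, hconj⟩ := h (a : G) (Subgroup.mem_subgroupOf.mp ha) ha1'
  refine ⟨⟨b, hB hb⟩, Subgroup.mem_subgroupOf.mpr hb, ?_, ?_⟩
  · intro h0
    exact hb1 (congrArg Subtype.val h0)
  · rw [conjBy_subgroupOf, conjBy_subgroupOf]
    change (conjBy A b⁻¹).subgroupOf H = (conjBy B (a : G)⁻¹).subgroupOf H
    rw [hconj]

theorem rankOneCond_of_subgroupOf {H A B : Subgroup G} (hA : A ≤ H) (hB : B ≤ H)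
    (h : RankOneCondition (A.subgroupOf H) (B.subgroupOf H)) : RankOneCondition A B := by
  intro a ha ha1
  have ha1' : (⟨a, hA ha⟩ : H) ≠ 1 := fun h0 => ha1 (congrArg Subtype.val h0)
  obtain ⟨b, hb, hb1, hconj⟩ := h ⟨a, hA ha⟩ (Subgroup.mem_subgroupOf.mpr ha) ha1'
  refine ⟨(b : G), Subgroup.mem_subgroupOf.mp hb, ?_, ?_⟩
  · intro h0
    exact hb1 (Subtype.ext h0)
  · rw [conjBy_subgroupOf, conjBy_subgroupOf] at hconj
    apply subgroupOf_injOn (H := H) _ _ hconj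
    · exact conjBy_le_of_mem hA (Subgroup.inv_mem _ b.2)
    · exact conjBy_le_of_mem hB (Subgroup.inv_mem _ (hA ha))

theorem rankOnePair_subgroupOf {H A B : Subgroup G} (hA : A ≤ H) (hB : B ≤ H)
    (h : IsRankOnePair A B) : IsRankOnePair (A.subgroupOf H) (B.subgroupOf H) := by
  refine ⟨fun h0 => h.ne (subgroupOf_injOn hA hB h0), ?_, ?_,
    rankOneCond_subgroupOf hB h.cond_left, rankOneCond_subgroupOf hA h.cond_right⟩
  · exact (Group.isNilpotent_congr (Subgroup.subgroupOfEquivOfLe hA)).mpr h.nilpotent_left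
  · exact (Group.isNilpotent_congr (Subgroup.subgroupOfEquivOfLe hB)).mpr h.nilpotent_right

theorem rankOnePair_of_subgroupOf {H A B : Subgroup G} (hA : A ≤ H) (hB : B ≤ H)
    (h : IsRankOnePair (A.subgroupOf H) (B.subgroupOf H)) : IsRankOnePair A B := by
  refine ⟨fun h0 => h.ne (by rw [h0]), ?_, ?_,
    rankOneCond_of_subgroupOf hA hB h.cond_left, rankOneCond_of_subgroupOf hB hA h.cond_right⟩
  · exact (Group.isNilpotent_congr (Subgroup.subgroupOfEquivOfLe hA)).mp h.nilpotent_left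
  · exact (Group.isNilpotent_congr (Subgroup.subgroupOfEquivOfLe hB)).mp h.nilpotent_right

/-- the image of `S` in the subgroup `H = ⟨S⟩` -/
def inGen (S : Set (Subgroup G)) : Set (Subgroup ↥(⨆ B ∈ S, B)) :=
  (fun A : Subgroup G => A.subgroupOf (⨆ B ∈ S, B)) '' S

theorem le_gen {S : Set (Subgroup G)} {A : Subgroup G} (hA : A ∈ S) : A ≤ ⨆ B ∈ S, B :=
  le_biSup (fun B => B) hA

theorem inGen_generates (S : Set (Subgroup G)) : (⨆ A ∈ inGen S, A) = ⊤ := by
  apply Subgroup.map_injective (⨆ B ∈ S, B).subtype_injective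
  rw [Subgroup.map_iSup]
  simp_rw [Subgroup.map_iSup]
  rw [← MonoidHom.range_eq_map, Subgroup.range_subtype]
  apply le_antisymm
  · apply iSup_le
    intro A
    apply iSup_le
    intro _
    exact Subgroup.map_subtype_le A
  · apply iSup_le
    intro B
    apply iSup_le
    intro hB
    have h1 : (B.subgroupOf (⨆ B ∈ S, B)) ∈ inGen S := ⟨B, hB, rfl⟩
    calc B = (B.subgroupOf (⨆ B ∈ S, B)).map (⨆ B ∈ S, B).subtype :=
          (Subgroup.map_subgroupOf_eq_of_le (le_gen hB)).symm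
      _ ≤ _ := le_iSup₂ (f := fun (A : Subgroup ↥(⨆ B ∈ S, B)) (_ : A ∈ inGen S) =>
          A.map (⨆ B ∈ S, B).subtype) _ h1

/-- transport of the axioms of a degenerate set of abstract root subgroups -/
theorem inGen_rootSet (S : Set (Subgroup G)) (hcomm : ∀ A ∈ S, IsMulCommutative A)
    (hne : ∀ A ∈ S, A ≠ ⊥) (hconj : ∀ A ∈ S, ∀ g ∈ ⨆ B ∈ S, B, conjBy A g ∈ S)
    (hpair : ∀ A ∈ S, ∀ B ∈ S, ⁅A, B⁆ = ⊥ ∨ IsRankOnePair A B) : IsRootSubgroupSet (inGen S) where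
  commutative := by
    rintro _ ⟨A, hA, rfl⟩
    have := hcomm A hA
    refine ⟨⟨fun a b => ?_⟩⟩
    apply Subtype.ext
    apply Subtype.ext
    exact commute_of_isMulCommutative this (Subgroup.mem_subgroupOf.mp a.2)
      (Subgroup.mem_subgroupOf.mp b.2)
  ne_bot := by
    rintro _ ⟨A, hA, rfl⟩ h0
    apply hne A hA
    apply subgroupOf_injOn (le_gen hA) bot_le
    rw [Subgroup.bot_subgroupOf]
    exact h0
  generates := inGen_generates S
  conj_mem := by
    rintro _ ⟨A, hA, rfl⟩ g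
    rw [conjBy_subgroupOf]
    exact ⟨_, hconj A hA g g.2, rfl⟩
  pair := by
    rintro _ ⟨A, hA, rfl⟩ _ ⟨B, hB, rfl⟩
    rcases hpair A hA B hB with h | h
    · left
      rw [commutator_subgroupOf (le_gen hA) (le_gen hB), h, Subgroup.bot_subgroupOf]
    · exact Or.inr (Or.inl (rankOnePair_subgroupOf (le_gen hA) (le_gen hB) h))

theorem inGen_conjClass (S : Set (Subgroup G)) (hne : S.Nonempty)
    (hconj : ∀ A ∈ S, ∀ B ∈ S, ∃ g ∈ ⨆ C ∈ S, C, B = conjBy A g) :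
    IsConjClassOfSubgroups (inGen S) := by
  constructor
  · obtain ⟨A, hA⟩ := hne
    exact ⟨_, A, hA, rfl⟩
  · rintro _ ⟨A, hA, rfl⟩ _ ⟨B, hB, rfl⟩
    obtain ⟨g, hg, rfl⟩ := hconj A hA B hB
    exact ⟨⟨g, hg⟩, (conjBy_subgroupOf _ A ⟨g, hg⟩).symm⟩

theorem inGen_degenerate (S : Set (Subgroup G))
    (h : ∀ A ∈ S, ∀ B ∈ S, ⁅A, B⁆ ∈ S → (∀ c ∈ ⁅A, B⁆, ∀ x ∈ A ⊔ B, c * x = x * c) → False) :
    IsDegenerateRootSet (inGen S) := by
  rintro _ ⟨A, hA, rfl⟩ _ ⟨B, hB, rfl⟩ ⟨⟨C, hC, hCeq⟩, hcent, -, -⟩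
  have hAle := le_gen hA
  have hBle := le_gen hB
  rw [commutator_subgroupOf hAle hBle] at hCeq hcent
  have hCAB : C = ⁅A, B⁆ := subgroupOf_injOn (le_gen hC) (commutator_le_of_le hAle hBle) hCeq
  apply h A hA B hB (hCAB ▸ hC)
  intro c hc x hx
  have hcH : c ∈ ⨆ B ∈ S, B := commutator_le_of_le hAle hBle hc
  have hxH : x ∈ ⨆ B ∈ S, B := (sup_le hAle hBle) hx
  have := hcent ⟨c, hcH⟩ (Subgroup.mem_subgroupOf.mpr hc) ⟨x, hxH⟩ (by
    rw [← Subgroup.subgroupOf_sup hAle hBle]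
    exact Subgroup.mem_subgroupOf.mpr hx)
  exact congrArg Subtype.val this

theorem inGen_connected (S : Set (Subgroup G)) (h : IsConnectedFamily (FAdj S) S) :
    IsConnectedFamily (FAdj (inGen S)) (inGen S) := by
  rintro _ ⟨A, hA, rfl⟩ _ ⟨B, hB, rfl⟩
  have := h A hA B hB
  refine Relation.ReflTransGen.lift (fun A : Subgroup G => A.subgroupOf (⨆ B ∈ S, B)) ?_ _ _ this
  rintro X Y ⟨hX, hY, hXY⟩
  exact ⟨⟨X, hX, rfl⟩, ⟨Y, hY, rfl⟩, rankOnePair_subgroupOf (le_gen hX) (le_gen hY) hXY⟩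

/-- transport of an `SL₂`-pair -/
theorem psl2_subgroupOf {k : Type*} [Field k] {H A B : Subgroup G} (hA : A ≤ H) (hB : B ≤ H)
    (h : IsPSL2PairOver k A B) : IsPSL2PairOver k (A.subgroupOf H) (B.subgroupOf H) := by
  obtain ⟨φ, hrange, hker, hup, hlow⟩ := h
  have hmem : ∀ x, φ x ∈ H := by
    intro x
    have : φ x ∈ φ.range := ⟨x, rfl⟩
    rw [hrange] at this
    exact (sup_le hA hB) this
  refine ⟨φ.codRestrict H hmem, ?_, ?_, ?_, ?_⟩
  · rw [← Subgroup.subgroupOf_sup hA hB, ← hrange]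
    ext x
    rw [MonoidHom.mem_range, Subgroup.mem_subgroupOf, MonoidHom.mem_range]
    constructor
    · rintro ⟨y, rfl⟩
      exact ⟨y, rfl⟩
    · rintro ⟨y, hy⟩
      exact ⟨y, Subtype.ext hy⟩
  · intro x hx
    apply hker
    rw [MonoidHom.mem_ker] at hx ⊢
    exact congrArg Subtype.val hx
  · rw [← hup]
    ext x
    rw [Subgroup.mem_map, Subgroup.mem_subgroupOf, Subgroup.mem_map]
    constructor
    · rintro ⟨y, hy, rfl⟩
      exact ⟨y, hy, rfl⟩
    · rintro ⟨y, hy, hyx⟩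
      exact ⟨y, hy, Subtype.ext hyx⟩
  · rw [← hlow]
    ext x
    rw [Subgroup.mem_map, Subgroup.mem_subgroupOf, Subgroup.mem_map]
    constructor
    · rintro ⟨y, hy, rfl⟩
      exact ⟨y, hy, rfl⟩
    · rintro ⟨y, hy, hyx⟩
      exact ⟨y, hy, Subtype.ext hyx⟩

theorem inGen_kroot {k : Type*} [Field k] (S : Set (Subgroup G))
    (hroot : IsRootSubgroupSet (inGen S))
    (h : ∀ A ∈ S, ∀ B ∈ S, IsRankOnePair A B → IsPSL2PairOver k A B) :
    IsKRootSubgroupSet k (inGen S) := by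
  refine ⟨hroot, ?_⟩
  rintro _ ⟨A, hA, rfl⟩ _ ⟨B, hB, rfl⟩ hAB
  exact psl2_subgroupOf (le_gen hA) (le_gen hB)
    (h A hA B hB (rankOnePair_of_subgroupOf (le_gen hA) (le_gen hB) hAB))

end Cfsg.Agent.Lib.Helper6.RootTransport
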