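import Mathlib
import Cfsg.Prelude.Def_RootSubgroups
import Cfsg.Agent.Lib.Helper6.SURankOne
import Cfsg.Agent.Lib.Helper6.UnitaryCount
import Cfsg.Agent.H26.SL2RankOne

/-!
# The unitary transvection subgroups of `SU_n(q)`: pairs
-/

set_option autoImplicit false
open Cfsg

namespace Cfsg.Agent.Lib.Helper6.SURoot

open Matrix Module Cfsg.Agent.Lib.Helper6 Cfsg.Agent.S0779 Cfsg.Agent.S0781
  Cfsg.Agent.Lib.Helper6.SUG Cfsg.Agent.H26

variable {F : Type*} [Field F] [Fintype F] {q n : ℕ}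

local notation "hh" => hermForm n F q

/-- the group of the statement -/
def Ts (n : ℕ) (F : Type*) [Field F] (q : ℕ) (p : Fin n → F) : Subgroup ↥(Cfsg.SU n F q) :=
  Subgroup.closure {g : ↥(Cfsg.SU n F q) |
    (∀ v : Fin n → F, ∃ c : F, ((g : Matrix.SpecialLinearGroup (Fin n) F) : Matrix (Fin n) (Fin n) F) *ᵥ v = v + c • p) ∧
    ∀ v : Fin n → F, Cfsg.hermForm n F q v p = 0 →
      ((g : Matrix.SpecialLinearGroup (Fin n) F) : Matrix (Fin n) (Fin n) F) *ᵥ v = v}

theorem av_def (g : ↥(Cfsg.SU n F q)) (x : Fin n → F) :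
    ((g : Matrix.SpecialLinearGroup (Fin n) F) : Matrix (Fin n) (Fin n) F) *ᵥ x = av g x := rfl

theorem av_sub (g : ↥(Cfsg.SU n F q)) (x y : Fin n → F) : av g (x - y) = av g x - av g y := by
  unfold av
  rw [mulVec_sub]

theorem Ts_eq (hF : Fintype.card F = q ^ 2) (p : Fin n → F) (hp : p ≠ 0) (hpp : hh p p = 0) :
    Ts n F q p = Atv hF p := by
  unfold Ts
  have hset : {g : ↥(Cfsg.SU n F q) |
      (∀ v : Fin n → F, ∃ c : F, ((g : Matrix.SpecialLinearGroup (Fin n) F) : Matrix (Fin n) (Fin n) F) *ᵥ v = v + c • p) ∧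
      ∀ v : Fin n → F, Cfsg.hermForm n F q v p = 0 →
        ((g : Matrix.SpecialLinearGroup (Fin n) F) : Matrix (Fin n) (Fin n) F) *ᵥ v = v} =
      (Atv hF p : Set ↥(Cfsg.SU n F q)) := by
    ext g
    constructor
    · rintro ⟨h1, h2⟩
      obtain ⟨y, hyp, hpy, -⟩ := exists_herm_partner hF p hp hpp
      obtain ⟨a, ha⟩ := h1 y
      rw [av_def] at ha
      have key : ∀ x, av g x = x + (a * hh x p) • p := by
        intro x
        have h3 : hh (x - hh x p • y) p = 0 := by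
          rw [sub_eq_add_neg, herm_add_left, ← neg_smul, herm_smul_left, hyp]
          ring
        have h4 := h2 _ h3
        rw [av_def, av_sub, av_smul, ha] at h4
        have h5 : av g x = x - hh x p • y + hh x p • (y + a • p) := by
          rw [← h4]
          abel
        rw [h5]
        module
      have haq : a ^ q = -a := by
        have h6 := herm_av g y y
        rw [key y, hyp, mul_one, herm_add_left, herm_add_right hF, herm_add_right hF,
          herm_smul_left, herm_smul_left, herm_smul_right, herm_smul_right, hpp, hyp, hpy] at h6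
        linear_combination h6
      rw [SetLike.mem_coe, mem_Atv hF p hpp]
      refine ⟨a, haq, ext_av fun x => ?_⟩
      rw [key x, av_tv]
    · intro hg
      rw [SetLike.mem_coe, mem_Atv hF p hpp] at hg
      obtain ⟨c, hc, rfl⟩ := hg
      constructor
      · intro v
        exact ⟨c * hh v p, by rw [av_def, av_tv]⟩
      · intro v hv
        rw [av_def, av_tv, hv, mul_zero, zero_smul, add_zero]
  rw [hset, Subgroup.closure_eq]

theorem tv_inv (hF : Fintype.card F = q ^ 2) (v : Fin n → F) (c : F) (hvv : hh v v = 0)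
    (hc : c ^ q = -c) :
    (tv hF v c hvv hc)⁻¹ = tv hF v (-c) hvv (by rw [neg_pow_q hF, hc]) := by
  apply inv_eq_of_mul_eq_one_right
  rw [tv_mul_tv, ← tv_zero hF v hvv]
  exact tv_congr hF v _ _ hvv _ (add_neg_cancel c)

theorem av_tv_inv (hF : Fintype.card F = q ^ 2) (v : Fin n → F) (c : F) (hvv : hh v v = 0)
    (hc : c ^ q = -c) (x : Fin n → F) :
    av (tv hF v c hvv hc)⁻¹ x = x + (-c * hh x v) • v := by
  rw [tv_inv, av_tv]

theorem tv_mem_Atv (hF : Fintype.card F = q ^ 2) (v : Fin n → F) (c : F) (hvv : hh v v = 0)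
    (hc : c ^ q = -c) : tv hF v c hvv hc ∈ Atv hF v :=
  (mem_Atv hF v hvv _).mpr ⟨c, hc, rfl⟩

theorem conjBy_Atv (hF : Fintype.card F = q ^ 2) (g : ↥(Cfsg.SU n F q)) (p : Fin n → F)
    (hpp : hh p p = 0) : conjBy (Atv hF p) g = Atv hF (av g p) := by
  have hgp : hh (av g p) (av g p) = 0 := by rw [herm_av, hpp]
  ext x
  rw [mem_conjBy, mem_Atv hF p hpp, mem_Atv hF _ hgp]
  constructor
  · rintro ⟨c, hc, hx⟩
    refine ⟨c, hc, ?_⟩
    rw [← conj_tv hF g p c hpp hc, ← hx]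
    group
  · rintro ⟨c, hc, rfl⟩
    refine ⟨c, hc, ?_⟩
    rw [← conj_tv hF g p c hpp hc]
    group

theorem tv_eq_one_iff (hF : Fintype.card F = q ^ 2) (v : Fin n → F) (hv : v ≠ 0) (c : F)
    (hvv : hh v v = 0) (hc : c ^ q = -c) : tv hF v c hvv hc = 1 ↔ c = 0 := by
  constructor
  · intro h
    by_contra hc0
    exact tv_ne_one hF v hv c hc0 hvv hc h
  · rintro rfl
    exact tv_zero hF v hvv

theorem Atv_comm (hF : Fintype.card F = q ^ 2) (p : Fin n → F) (hpp : hh p p = 0) :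
    IsMulCommutative (Atv hF p) := by
  refine ⟨⟨fun a b => ?_⟩⟩
  apply Subtype.ext
  obtain ⟨c, hc, hac⟩ := (mem_Atv hF p hpp _).mp a.2
  obtain ⟨d, hd, hbd⟩ := (mem_Atv hF p hpp _).mp b.2
  change (a : ↥(Cfsg.SU n F q)) * b = b * a
  rw [hac, hbd, tv_mul_tv, tv_mul_tv]
  exact tv_congr hF p _ _ hpp _ (add_comm c d)

theorem Atv_ne_bot (hF : Fintype.card F = q ^ 2) (p : Fin n → F) (hp : p ≠ 0) (hpp : hh p p = 0) :
    Atv hF p ≠ ⊥ := by
  intro h
  obtain ⟨k, hk0, hk⟩ := exists_trace_zero hF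
  have h1 : tv hF p k hpp hk ∈ Atv hF p := tv_mem_Atv hF p k hpp hk
  rw [h, Subgroup.mem_bot, tv_eq_one_iff hF p hp] at h1
  exact hk0 h1

theorem tv_comm_of_orth (hF : Fintype.card F = q ^ 2) (p r : Fin n → F) (hpp : hh p p = 0)
    (hrr : hh r r = 0) (h : hh p r = 0) (c d : F) (hc : c ^ q = -c) (hd : d ^ q = -d) :
    tv hF p c hpp hc * tv hF r d hrr hd = tv hF r d hrr hd * tv hF p c hpp hc := by
  have h' : hh r p = 0 := herm_swap_zero hF h
  apply ext_av
  intro x
  rw [av_mul, av_mul, av_tv, av_tv, av_tv, av_tv, herm_add_left, herm_add_left, herm_smul_left,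
    herm_smul_left, h, h']
  simp only [mul_zero, add_zero]
  abel

theorem commutator_eq_bot_of_orth (hF : Fintype.card F = q ^ 2) (p r : Fin n → F)
    (hpp : hh p p = 0) (hrr : hh r r = 0) (h : hh p r = 0) : ⁅Atv hF p, Atv hF r⁆ = ⊥ := by
  rw [Subgroup.commutator_eq_bot_iff_le_centralizer]
  intro x hx
  rw [Subgroup.mem_centralizer_iff]
  intro y hy
  obtain ⟨c, hc, rfl⟩ := (mem_Atv hF p hpp _).mp hx
  obtain ⟨d, hd, rfl⟩ := (mem_Atv hF r hrr _).mp hy
  exact (tv_comm_of_orth hF p r hpp hrr h c d hc hd).symm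

theorem ne_zero_of_herm_left {x y : Fin n → F} (h : hh x y ≠ 0) : x ≠ 0 := by
  rintro rfl
  exact h (herm_zero_left y)

theorem ne_zero_of_herm_right (hF : Fintype.card F = q ^ 2) {x y : Fin n → F} (h : hh x y ≠ 0) :
    y ≠ 0 := by
  rintro rfl
  exact h (herm_zero_right hF x)

theorem Atv_ne_of_form (hF : Fintype.card F = q ^ 2) (p r : Fin n → F) (hpp : hh p p = 0)
    (hrr : hh r r = 0) (h : hh p r ≠ 0) : Atv hF p ≠ Atv hF r := by
  intro heq
  obtain ⟨k, hk0, hk⟩ := exists_trace_zero hF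
  have h1 : tv hF p k hpp hk ∈ Atv hF r := heq ▸ tv_mem_Atv hF p k hpp hk
  obtain ⟨d, hd, hdd⟩ := (mem_Atv hF r hrr _).mp h1
  have h2 : av (tv hF p k hpp hk) r = av (tv hF r d hrr hd) r := by rw [hdd]
  rw [av_tv, av_tv, hrr, mul_zero, zero_smul, add_zero] at h2
  have h3 : (k * hh r p) • p = 0 := by
    have := congrArg (fun y => y - r) h2
    simpa using this
  have hp : p ≠ 0 := ne_zero_of_herm_left h
  rcases smul_eq_zero.mp h3 with h4 | h4
  · rcases mul_eq_zero.mp h4 with h5 | h5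
    · exact hk0 h5
    · exact h (herm_swap_zero hF h5)
  · exact hp h4

end Cfsg.Agent.Lib.Helper6.SURoot
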