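import Mathlib
import Cfsg.Agent.Lib.Helper6.SURoot1

/-!
# The unitary transvection subgroups of `SU_n(q)`: rank one pairs, degeneracy, connectedness
-/

set_option autoImplicit false
open Cfsg

namespace Cfsg.Agent.Lib.Helper6.SURoot

open Matrix Module Cfsg.Agent.Lib.Helper6 Cfsg.Agent.S0779 Cfsg.Agent.S0781
  Cfsg.Agent.Lib.Helper6.SUG Cfsg.Agent.H26

variable {F : Type*} [Field F] [Fintype F] {q n : ℕ}

local notation "hh" => hermForm n F q

theorem inv_pow_q (a : F) : (a⁻¹) ^ q = (a ^ q)⁻¹ := inv_pow a q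

theorem rankOneCond (hF : Fintype.card F = q ^ 2) (p r : Fin n → F) (hpp : hh p p = 0)
    (hrr : hh r r = 0) (h : hh p r ≠ 0) : RankOneCondition (Atv hF p) (Atv hF r) := by
  intro a ha ha1
  obtain ⟨c, hc, rfl⟩ := (mem_Atv hF p hpp _).mp ha
  have hp : p ≠ 0 := ne_zero_of_herm_left h
  have hr : r ≠ 0 := ne_zero_of_herm_right hF h
  have hc0 : c ≠ 0 := fun hc0 => ha1 ((tv_eq_one_iff hF p hp c hpp hc).mpr hc0)
  have h' : hh r p ≠ 0 := fun h0 => h (herm_swap_zero hF h0)
  have e1 : (hh p r) ^ q = hh r p := herm_conj hF p r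
  have e2 : (hh r p) ^ q = hh p r := herm_conj hF r p
  have hd : ((c * hh p r * hh r p)⁻¹) ^ q = -(c * hh p r * hh r p)⁻¹ := by
    rw [inv_pow, mul_pow, mul_pow, hc, e1, e2]
    rw [show -c * hh r p * hh p r = -(c * hh p r * hh r p) by ring, inv_neg]
  have hd0 : (c * hh p r * hh r p)⁻¹ ≠ 0 := inv_ne_zero (mul_ne_zero (mul_ne_zero hc0 h) h')
  refine ⟨tv hF r _ hrr hd, tv_mem_Atv hF r _ hrr hd, ?_, ?_⟩
  · intro h1
    exact hd0 ((tv_eq_one_iff hF r hr _ hrr hd).mp h1)
  · rw [conjBy_Atv hF _ p hpp, conjBy_Atv hF _ r hrr, av_tv_inv, av_tv_inv]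
    have hiso : hh (r + (-c * hh r p) • p) (r + (-c * hh r p) • p) = 0 := by
      have := herm_av (tv hF p c hpp hc)⁻¹ r r
      rw [av_tv_inv, hrr] at this
      exact this
    have hce : c * hh r p ≠ 0 := mul_ne_zero hc0 h'
    rw [← Atv_smul hF (-(c * hh r p)⁻¹) (neg_ne_zero.mpr (inv_ne_zero hce)) _ hiso]
    congr 1
    rw [smul_add, smul_smul, show -(c * hh r p)⁻¹ * (-c * hh r p) = 1 by field_simp, one_smul,
      add_comm]
    congr 2
    field_simp

theorem rankOnePair (hF : Fintype.card F = q ^ 2) (p r : Fin n → F) (hpp : hh p p = 0)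
    (hrr : hh r r = 0) (h : hh p r ≠ 0) : IsRankOnePair (Atv hF p) (Atv hF r) := by
  have h' : hh r p ≠ 0 := fun h0 => h (herm_swap_zero hF h0)
  refine ⟨Atv_ne_of_form hF p r hpp hrr h, ?_, ?_, rankOneCond hF p r hpp hrr h,
    rankOneCond hF r p hrr hpp h'⟩
  · exact ⟨⟨1, Subgroup.upperCentralSeries_one_eq_top_iff.mpr (Atv_comm hF p hpp)⟩⟩
  · exact ⟨⟨1, Subgroup.upperCentralSeries_one_eq_top_iff.mpr (Atv_comm hF r hrr)⟩⟩

theorem form_ne_zero_of_rankOne (hF : Fintype.card F = q ^ 2) (p r : Fin n → F) (hp : p ≠ 0)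
    (hpp : hh p p = 0) (hrr : hh r r = 0) (h : IsRankOnePair (Atv hF p) (Atv hF r)) :
    hh p r ≠ 0 := by
  intro h0
  have h0' : hh r p = 0 := herm_swap_zero hF h0
  obtain ⟨k, hk0, hk⟩ := exists_trace_zero hF
  have ha1 : tv hF p k hpp hk ≠ 1 := tv_ne_one hF p hp k hk0 hpp hk
  obtain ⟨b, hb, -, hconj⟩ := h.cond_left _ (tv_mem_Atv hF p k hpp hk) ha1
  obtain ⟨d, hd, rfl⟩ := (mem_Atv hF r hrr _).mp hb
  rw [conjBy_Atv hF _ p hpp, conjBy_Atv hF _ r hrr, av_tv_inv, av_tv_inv, h0, h0', mul_zero,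
    mul_zero, zero_smul, zero_smul, add_zero, add_zero] at hconj
  exact h.ne hconj

/-- commuting transvections have orthogonal centres -/
theorem orth_of_tv_comm (hF : Fintype.card F = q ^ 2) (w p : Fin n → F) (hp : p ≠ 0)
    (hww : hh w w = 0) (hpp : hh p p = 0) (k k' : F) (hk : k ^ q = -k) (hk' : k' ^ q = -k')
    (hk0 : k ≠ 0) (hk0' : k' ≠ 0)
    (h : tv hF w k hww hk * tv hF p k' hpp hk' = tv hF p k' hpp hk' * tv hF w k hww hk) :
    hh p w = 0 := by
  have h1 : av (tv hF w k hww hk * tv hF p k' hpp hk') p =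
      av (tv hF p k' hpp hk' * tv hF w k hww hk) p := by rw [h]
  rw [av_mul, av_mul, av_tv, av_tv, hpp, mul_zero, zero_smul, add_zero, av_tv, av_tv,
    herm_add_left, herm_smul_left, hpp, zero_add] at h1
  have h2 : (k' * (k * hh p w * hh w p)) • p = 0 := by
    have := congrArg (fun y => y - (p + (k * hh p w) • w)) h1
    simp only [sub_self, add_sub_cancel_left] at this
    exact this.symm
  rcases smul_eq_zero.mp h2 with h3 | h3
  · rcases mul_eq_zero.mp h3 with h4 | h4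
    · exact absurd h4 hk0'
    · rcases mul_eq_zero.mp h4 with h5 | h5
      · rcases mul_eq_zero.mp h5 with h6 | h6
        · exact absurd h6 hk0
        · exact h6
      · exact herm_swap_zero hF h5
  · exact absurd h3 hp

theorem sup_sub_mem_span (hF : Fintype.card F = q ^ 2) (p r : Fin n → F) (hpp : hh p p = 0)
    (hrr : hh r r = 0) (g : ↥(Cfsg.SU n F q)) (hg : g ∈ Atv hF p ⊔ Atv hF r) (v : Fin n → F) :
    av g v - v ∈ Submodule.span F {p, r} := by
  rw [← Subgroup.closure_eq (Atv hF p), ← Subgroup.closure_eq (Atv hF r),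
    ← Subgroup.closure_union] at hg
  induction hg using Subgroup.closure_induction generalizing v with
  | mem x hx =>
    rcases hx with hx | hx
    · obtain ⟨c, hc, rfl⟩ := (mem_Atv hF p hpp _).mp hx
      rw [av_tv, add_sub_cancel_left]
      exact Submodule.smul_mem _ _ (Submodule.subset_span (by simp))
    · obtain ⟨c, hc, rfl⟩ := (mem_Atv hF r hrr _).mp hx
      rw [av_tv, add_sub_cancel_left]
      exact Submodule.smul_mem _ _ (Submodule.subset_span (by simp))
  | one => rw [av_one, sub_self]; exact Submodule.zero_mem _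
  | mul a b _ _ iha ihb =>
    rw [av_mul]
    have := Submodule.add_mem _ (iha (av b v)) (ihb v)
    rwa [sub_add_sub_cancel] at this
  | inv a _ iha =>
    have h1 := iha (av a⁻¹ v)
    rw [av_av_inv] at h1
    have h2 := Submodule.neg_mem _ h1
    rwa [neg_sub] at h2

/-- the commutator case never occurs (stated with the facts that survive transport) -/
theorem no_commutator_case (hF : Fintype.card F = q ^ 2) (p r w : Fin n → F) (hp : p ≠ 0)
    (hr : r ≠ 0) (hw : w ≠ 0) (hpp : hh p p = 0) (hrr : hh r r = 0) (hww : hh w w = 0)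
    (hAB : ⁅Atv hF p, Atv hF r⁆ = Atv hF w)
    (hcent : ∀ c ∈ ⁅Atv hF p, Atv hF r⁆, ∀ x ∈ Atv hF p ⊔ Atv hF r, c * x = x * c) : False := by
  by_cases h : hh p r = 0
  · rw [commutator_eq_bot_of_orth hF p r hpp hrr h] at hAB
    exact Atv_ne_bot hF w hw hww hAB.symm
  have h' : hh r p ≠ 0 := fun h0 => h (herm_swap_zero hF h0)
  obtain ⟨k, hk0, hk⟩ := exists_trace_zero hF
  have hwm : tv hF w k hww hk ∈ ⁅Atv hF p, Atv hF r⁆ := hAB ▸ tv_mem_Atv hF w k hww hk
  have hle : ⁅Atv hF p, Atv hF r⁆ ≤ Atv hF p ⊔ Atv hF r := by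
    rw [Subgroup.commutator_le]
    intro a ha b hb
    have ha' : a ∈ Atv hF p ⊔ Atv hF r := (le_sup_left : Atv hF p ≤ _) ha
    have hb' : b ∈ Atv hF p ⊔ Atv hF r := (le_sup_right : Atv hF r ≤ _) hb
    exact Subgroup.mul_mem _ (Subgroup.mul_mem _ (Subgroup.mul_mem _ ha' hb')
      (Subgroup.inv_mem _ ha')) (Subgroup.inv_mem _ hb')
  have h1 : hh p w = 0 :=
    orth_of_tv_comm hF w p hp hww hpp k k hk hk hk0 hk0
      (hcent _ hwm _ ((le_sup_left : Atv hF p ≤ _) (tv_mem_Atv hF p k hpp hk)))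
  have h2 : hh r w = 0 :=
    orth_of_tv_comm hF w r hr hww hrr k k hk hk hk0 hk0
      (hcent _ hwm _ ((le_sup_right : Atv hF r ≤ _) (tv_mem_Atv hF r k hrr hk)))
  obtain ⟨v, hvw, -, -⟩ := exists_herm_partner hF w hw hww
  have h3 := sup_sub_mem_span hF p r hpp hrr _ (hle hwm) v
  rw [av_tv, add_sub_cancel_left, hvw, mul_one, Submodule.mem_span_pair] at h3
  obtain ⟨α, β, hαβ⟩ := h3
  have hw' : w = k⁻¹ • (α • p + β • r) := by
    rw [hαβ, smul_smul, inv_mul_cancel₀ hk0, one_smul]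
  have h4 : hh w p = k⁻¹ * (β * hh r p) := by
    rw [hw', herm_smul_left, herm_add_left, herm_smul_left, herm_smul_left, hpp, mul_zero, zero_add]
  have h5 : hh w r = k⁻¹ * (α * hh p r) := by
    rw [hw', herm_smul_left, herm_add_left, herm_smul_left, herm_smul_left, hrr, mul_zero, add_zero]
  rw [herm_swap_zero hF h1] at h4
  rw [herm_swap_zero hF h2] at h5
  have hk' : k⁻¹ ≠ 0 := inv_ne_zero hk0
  have hβ : β = 0 := by
    rcases mul_eq_zero.mp h4.symm with h6 | h6
    · exact absurd h6 hk'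
    · rcases mul_eq_zero.mp h6 with h7 | h7
      · exact h7
      · exact absurd h7 h'
  have hα : α = 0 := by
    rcases mul_eq_zero.mp h5.symm with h6 | h6
    · exact absurd h6 hk'
    · rcases mul_eq_zero.mp h6 with h7 | h7
      · exact h7
      · exact absurd h7 h
  apply hw
  rw [hw', hα, hβ]
  simp

end Cfsg.Agent.Lib.Helper6.SURoot
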