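import Mathlib
import Cfsg.Agent.Lib.Helper6.SURoot2

/-!
# The unitary transvection subgroups of `SU_n(q)`: the class, transitivity and connectedness
-/

set_option autoImplicit false
open Cfsg

namespace Cfsg.Agent.Lib.Helper6.SURoot

open Matrix Module Cfsg.Agent.Lib.Helper6 Cfsg.Agent.S0779 Cfsg.Agent.S0781
  Cfsg.Agent.Lib.Helper6.SUG Cfsg.Agent.H26

variable {F : Type*} [Field F] [Fintype F] {q n : ℕ}

local notation "hh" => hermForm n F q

/-- the class of unitary transvection subgroups, as in the statement -/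
def SigU (n : ℕ) (F : Type*) [Field F] (q : ℕ) : Set (Subgroup ↥(Cfsg.SU n F q)) :=
  {A | ∃ p : Fin n → F, p ≠ 0 ∧ Cfsg.hermForm n F q p p = 0 ∧ A = Ts n F q p}

theorem mem_SigU (hF : Fintype.card F = q ^ 2) (A : Subgroup ↥(Cfsg.SU n F q)) :
    A ∈ SigU n F q ↔ ∃ p : Fin n → F, p ≠ 0 ∧ hh p p = 0 ∧ A = Atv hF p := by
  constructor
  · rintro ⟨p, hp, hpp, rfl⟩
    exact ⟨p, hp, hpp, Ts_eq hF p hp hpp⟩
  · rintro ⟨p, hp, hpp, rfl⟩
    exact ⟨p, hp, hpp, (Ts_eq hF p hp hpp).symm⟩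

theorem Atv_mem_SigU (hF : Fintype.card F = q ^ 2) (p : Fin n → F) (hp : p ≠ 0) (hpp : hh p p = 0) :
    Atv hF p ∈ SigU n F q := (mem_SigU hF _).mpr ⟨p, hp, hpp, rfl⟩

/-- a transvection moving `⟨p⟩` to `⟨r⟩` when `h(p, r) ≠ 0` -/
theorem exists_move (hF : Fintype.card F = q ^ 2) (p r : Fin n → F) (hpp : hh p p = 0)
    (hrr : hh r r = 0) (h : hh p r ≠ 0) :
    ∃ (w : Fin n → F) (_ : w ≠ 0) (hww : hh w w = 0), ∃ g ∈ Atv hF w,
      conjBy (Atv hF p) g = Atv hF r := by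
  obtain ⟨k, hk0, hk⟩ := exists_trace_zero hF
  set lam : F := (k / hh p r) ^ q with hlam
  have hlamq : lam ^ q = k / hh p r := pow_q_q hF _
  have hlam0 : lam ≠ 0 := pow_ne_zero _ (div_ne_zero hk0 h)
  have e1 : lam ^ q * hh p r = k := by rw [hlamq, div_mul_cancel₀ _ h]
  have e2 : lam * hh r p = -k := by
    have : (lam ^ q * hh p r) ^ q = k ^ q := by rw [e1]
    rw [mul_pow, pow_q_q hF, herm_conj hF, hk] at this
    exact this
  have hpw : hh p (p - lam • r) = -k := by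
    rw [sub_eq_add_neg, herm_add_right hF, ← neg_smul, herm_smul_right, hpp, neg_pow_q hF, zero_add]
    linear_combination -e1
  have hww : hh (p - lam • r) (p - lam • r) = 0 := by
    rw [sub_eq_add_neg p, herm_add_left, ← sub_eq_add_neg, hpw, ← neg_smul, herm_smul_left,
      sub_eq_add_neg, herm_add_right hF, ← neg_smul, herm_smul_right, hrr, neg_pow_q hF]
    linear_combination -e2
  have hw0 : p - lam • r ≠ 0 := by
    apply ne_zero_of_herm_right hF (x := p)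
    rw [hpw]
    exact neg_ne_zero.mpr hk0
  have hc : (k⁻¹) ^ q = -k⁻¹ := by rw [inv_pow, hk, inv_neg]
  refine ⟨p - lam • r, hw0, hww, tv hF _ k⁻¹ hww hc, tv_mem_Atv hF _ _ hww hc, ?_⟩
  rw [conjBy_Atv hF _ p hpp, av_tv, hpw]
  have : p + (k⁻¹ * -k) • (p - lam • r) = lam • r := by
    rw [show k⁻¹ * -k = -1 by field_simp]
    module
  rw [this, Atv_smul hF lam hlam0 r hrr]

/-- two isotropic points have a common non-orthogonal isotropic point -/
theorem exists_common_iso (hF : Fintype.card F = q ^ 2) (p r : Fin n → F) (hp : p ≠ 0) (hr : r ≠ 0)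
    (hpp : hh p p = 0) (hrr : hh r r = 0) :
    ∃ s : Fin n → F, hh s s = 0 ∧ hh p s ≠ 0 ∧ hh r s ≠ 0 := by
  obtain ⟨a, hap, hpa, haa⟩ := exists_herm_partner hF p hp hpp
  obtain ⟨b, hbr, hrb, hbb⟩ := exists_herm_partner hF r hr hrr
  by_cases h1 : hh r a ≠ 0
  · exact ⟨a, haa, by rw [hpa]; exact one_ne_zero, h1⟩
  push Not at h1
  by_cases h2 : hh p b ≠ 0
  · exact ⟨b, hbb, h2, by rw [hrb]; exact one_ne_zero⟩
  push Not at h2
  obtain ⟨lam, hlam0, hlam⟩ : ∃ lam : F, lam ≠ 0 ∧ lam ^ q * hh a b + lam * hh b a = 0 := by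
    by_cases h3 : hh a b = 0
    · exact ⟨1, one_ne_zero, by rw [h3, herm_swap_zero hF h3]; ring⟩
    · obtain ⟨k, hk0, hk⟩ := exists_trace_zero hF
      refine ⟨(k / hh a b) ^ q, pow_ne_zero _ (div_ne_zero hk0 h3), ?_⟩
      have e1 : ((k / hh a b) ^ q) ^ q * hh a b = k := by
        rw [pow_q_q hF, div_mul_cancel₀ _ h3]
      have e2 : (k / hh a b) ^ q * hh b a = -k := by
        have : (((k / hh a b) ^ q) ^ q * hh a b) ^ q = k ^ q := by rw [e1]
        rw [mul_pow, pow_q_q hF, herm_conj hF, hk] at this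
        exact this
      rw [e1, e2, add_neg_cancel]
  refine ⟨a + lam • b, ?_, ?_, ?_⟩
  · rw [herm_add_left, herm_add_right hF, herm_add_right hF, herm_smul_left, herm_smul_left,
      herm_smul_right, herm_smul_right, haa, hbb]
    linear_combination hlam
  · rw [herm_add_right hF, herm_smul_right, hpa, h2, mul_zero, add_zero]
    exact one_ne_zero
  · rw [herm_add_right hF, herm_smul_right, h1, hrb, mul_one, zero_add]
    exact pow_ne_zero _ hlam0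

theorem SigU_le (hF : Fintype.card F = q ^ 2) (p : Fin n → F) (hp : p ≠ 0) (hpp : hh p p = 0) :
    Atv hF p ≤ ⨆ B ∈ SigU n F q, B :=
  le_biSup (fun B => B) (Atv_mem_SigU hF p hp hpp)

/-- any two members are conjugate under the subgroup they generate -/
theorem SigU_conj (hF : Fintype.card F = q ^ 2) (A B : Subgroup ↥(Cfsg.SU n F q))
    (hA : A ∈ SigU n F q) (hB : B ∈ SigU n F q) :
    ∃ g ∈ ⨆ C ∈ SigU n F q, C, B = conjBy A g := by
  obtain ⟨p, hp, hpp, rfl⟩ := (mem_SigU hF A).mp hA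
  obtain ⟨r, hr, hrr, rfl⟩ := (mem_SigU hF B).mp hB
  obtain ⟨s, hss, hps, hrs⟩ := exists_common_iso hF p r hp hr hpp hrr
  have hs : s ≠ 0 := ne_zero_of_herm_right hF hps
  have hsr : hh s r ≠ 0 := fun h0 => hrs (herm_swap_zero hF h0)
  obtain ⟨w₁, hw₁, hww₁, g₁, hg₁, e₁⟩ := exists_move hF p s hpp hss hps
  obtain ⟨w₂, hw₂, hww₂, g₂, hg₂, e₂⟩ := exists_move hF s r hss hrr hsr
  refine ⟨g₂ * g₁, Subgroup.mul_mem _ (SigU_le hF w₂ hw₂ hww₂ hg₂) (SigU_le hF w₁ hw₁ hww₁ hg₁), ?_⟩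
  rw [← conjBy_conjBy, e₁, e₂]

theorem SigU_connected (hF : Fintype.card F = q ^ 2) :
    IsConnectedFamily (FAdj (SigU n F q)) (SigU n F q) := by
  intro A hA B hB
  obtain ⟨p, hp, hpp, rfl⟩ := (mem_SigU hF A).mp hA
  obtain ⟨r, hr, hrr, rfl⟩ := (mem_SigU hF B).mp hB
  obtain ⟨s, hss, hps, hrs⟩ := exists_common_iso hF p r hp hr hpp hrr
  have hs : s ≠ 0 := ne_zero_of_herm_right hF hps
  have hsr : hh s r ≠ 0 := fun h0 => hrs (herm_swap_zero hF h0)
  have hS := Atv_mem_SigU hF s hs hss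
  exact Relation.ReflTransGen.head ⟨hA, hS, rankOnePair hF p s hpp hss hps⟩
    (Relation.ReflTransGen.single ⟨hS, hB, rankOnePair hF s r hss hrr hsr⟩)

theorem SigU_nonempty (hF : Fintype.card F = q ^ 2) (hn : 2 ≤ n) : (SigU n F q).Nonempty := by
  obtain ⟨z, hz, hzz⟩ := exists_iso_vec hF hn
  exact ⟨_, Atv_mem_SigU hF z hz hzz⟩

theorem SigU_comm (hF : Fintype.card F = q ^ 2) (A : Subgroup ↥(Cfsg.SU n F q))
    (hA : A ∈ SigU n F q) : IsMulCommutative A := by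
  obtain ⟨p, hp, hpp, rfl⟩ := (mem_SigU hF A).mp hA
  exact Atv_comm hF p hpp

theorem SigU_ne_bot (hF : Fintype.card F = q ^ 2) (A : Subgroup ↥(Cfsg.SU n F q))
    (hA : A ∈ SigU n F q) : A ≠ ⊥ := by
  obtain ⟨p, hp, hpp, rfl⟩ := (mem_SigU hF A).mp hA
  exact Atv_ne_bot hF p hp hpp

theorem SigU_conj_mem (hF : Fintype.card F = q ^ 2) (A : Subgroup ↥(Cfsg.SU n F q))
    (hA : A ∈ SigU n F q) (g : ↥(Cfsg.SU n F q)) : conjBy A g ∈ SigU n F q := by
  obtain ⟨p, hp, hpp, rfl⟩ := (mem_SigU hF A).mp hA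
  rw [conjBy_Atv hF g p hpp]
  refine Atv_mem_SigU hF _ ?_ (by rw [herm_av, hpp])
  intro h0
  apply hp
  rw [← av_inv_av g p, h0]
  unfold av
  rw [mulVec_zero]

theorem SigU_pair (hF : Fintype.card F = q ^ 2) (A B : Subgroup ↥(Cfsg.SU n F q))
    (hA : A ∈ SigU n F q) (hB : B ∈ SigU n F q) : ⁅A, B⁆ = ⊥ ∨ IsRankOnePair A B := by
  obtain ⟨p, hp, hpp, rfl⟩ := (mem_SigU hF A).mp hA
  obtain ⟨r, hr, hrr, rfl⟩ := (mem_SigU hF B).mp hB
  by_cases h : hh p r = 0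
  · exact Or.inl (commutator_eq_bot_of_orth hF p r hpp hrr h)
  · exact Or.inr (rankOnePair hF p r hpp hrr h)

theorem SigU_no_comm_case (hF : Fintype.card F = q ^ 2) (A B : Subgroup ↥(Cfsg.SU n F q))
    (hA : A ∈ SigU n F q) (hB : B ∈ SigU n F q) (hAB : ⁅A, B⁆ ∈ SigU n F q)
    (hcent : ∀ c ∈ ⁅A, B⁆, ∀ x ∈ A ⊔ B, c * x = x * c) : False := by
  obtain ⟨p, hp, hpp, rfl⟩ := (mem_SigU hF A).mp hA
  obtain ⟨r, hr, hrr, rfl⟩ := (mem_SigU hF B).mp hB
  obtain ⟨w, hw, hww, hAB'⟩ := (mem_SigU hF _).mp hAB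
  exact no_commutator_case hF p r w hp hr hw hpp hrr hww hAB' hcent

end Cfsg.Agent.Lib.Helper6.SURoot
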