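import Mathlib
import Cfsg.Agent.Lib.Helper6.SURoot3
import Cfsg.Agent.Lib.Helper6.SLRoot3
import Cfsg.Agent.Lib.Helper6.RootTransport

/-!
# Rank one pairs of unitary transvection subgroups are images of `SL₂(q)`
-/

set_option autoImplicit false
open Cfsg

namespace Cfsg.Agent.Lib.Helper6.SURoot

open Matrix Module Cfsg.Agent.Lib.Helper6 Cfsg.Agent.S0779 Cfsg.Agent.S0781
  Cfsg.Agent.Lib.Helper6.SUG Cfsg.Agent.H26

variable {F : Type*} [Field F] [Fintype F] {q n : ℕ}

local notation "hh" => hermForm n F q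

/-- the subfield fixed by `x ↦ x ^ q` -/
noncomputable def fixK (hF : Fintype.card F = q ^ 2) : Subfield F :=
  (conjQ hF).eqLocusField (RingHom.id F)

theorem mem_fixK (hF : Fintype.card F = q ^ 2) (x : F) : x ∈ fixK hF ↔ x ^ q = x := Iff.rfl

/-- the additive map `x ↦ x - x ^ q` -/
noncomputable def subConj (hF : Fintype.card F = q ^ 2) : F →+ F where
  toFun x := x - x ^ q
  map_zero' := by rw [zero_pow (q_pos hF).ne', sub_zero]
  map_add' x y := by rw [add_pow_q hF]; ring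

theorem card_fixK (hF : Fintype.card F = q ^ 2) : Nat.card (fixK hF) = q := by
  classical
  obtain ⟨μ, hμ0, hμ⟩ := exists_trace_zero hF
  -- kernel and range of `x ↦ x - x^q`
  have hker : ∀ x : F, x ∈ (subConj hF).ker ↔ x ∈ fixK hF := by
    intro x
    rw [AddMonoidHom.mem_ker, mem_fixK]
    change x - x ^ q = 0 ↔ _
    rw [sub_eq_zero, eq_comm]
  have hrange : ∀ c : F, c ∈ (subConj hF).range ↔ c ^ q = -c := by
    intro c
    constructor
    · rintro ⟨x, rfl⟩
      change (x - x ^ q) ^ q = -(x - x ^ q)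
      rw [sub_pow_q hF, pow_q_q hF]
      ring
    · intro hc
      obtain ⟨s, hs⟩ := exists_sub_conj hF c hc
      exact ⟨s, hs⟩
  have e1 : Nat.card (subConj hF).ker = Nat.card (fixK hF) :=
    Nat.card_congr (Equiv.subtypeEquivRight hker)
  have e2 : Nat.card (subConj hF).range = Nat.card (fixK hF) := by
    apply Nat.card_congr
    refine ⟨fun c => ⟨c.1 / μ, ?_⟩, fun x => ⟨μ * x.1, ?_⟩, ?_, ?_⟩
    · rw [mem_fixK, div_pow, (hrange c.1).mp c.2, hμ, neg_div_neg_eq]
    · rw [hrange, mul_pow, hμ, (mem_fixK hF x.1).mp x.2]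
      ring
    · intro c
      apply Subtype.ext
      change μ * (c.1 / μ) = c.1
      field_simp
    · intro x
      apply Subtype.ext
      change μ * x.1 / μ = x.1
      field_simp
  have h1 := AddSubgroup.card_mul_index (subConj hF).ker
  rw [AddSubgroup.index_ker, e1, e2, Nat.card_eq_fintype_card (α := F), hF, ← sq] at h1
  exact Nat.pow_left_injective (by norm_num : 2 ≠ 0) h1

/-- a field with `q` elements in the lowest universe -/
abbrev Lq (hF : Fintype.card F = q ^ 2) : Type := Shrink.{0} (fixK hF)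

/-- the identification of `Lq` with the fixed field -/
noncomputable def eL (hF : Fintype.card F = q ^ 2) : Lq hF ≃+* fixK hF :=
  Shrink.ringEquiv.{0} (fixK hF)

/-- the embedding of `Lq` in `F` -/
noncomputable def jL (hF : Fintype.card F = q ^ 2) : Lq hF →+* F :=
  (fixK hF).subtype.comp (eL hF).toRingHom

theorem jL_apply (hF : Fintype.card F = q ^ 2) (x : Lq hF) : jL hF x = ((eL hF x : fixK hF) : F) := rfl

theorem jL_fixed (hF : Fintype.card F = q ^ 2) (x : Lq hF) : (jL hF x) ^ q = jL hF x :=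
  (mem_fixK hF _).mp (eL hF x).2

theorem jL_surj (hF : Fintype.card F = q ^ 2) (c : F) (hc : c ^ q = c) : ∃ x : Lq hF, jL hF x = c := by
  refine ⟨(eL hF).symm ⟨c, (mem_fixK hF c).mpr hc⟩, ?_⟩
  rw [jL_apply, RingEquiv.apply_symm_apply]

theorem jL_injective (hF : Fintype.card F = q ^ 2) : Function.Injective (jL hF) :=
  (jL hF).injective

theorem card_Lq (hF : Fintype.card F = q ^ 2) : Nat.card (Lq hF) = q := by
  have h1 : Nat.card (Lq hF) = Nat.card (fixK hF) := Nat.card_congr (eL hF).toEquiv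
  rw [h1]
  exact card_fixK hF


/-- the twisted embedding `SL₂(Lq) → SL₂(F)`, `[[a, b], [c, d]] ↦ [[a, μ b], [μ⁻¹ c, d]]`, as a function -/
noncomputable def kapFun (hF : Fintype.card F = q ^ 2) (μ : F) (hμ0 : μ ≠ 0)
    (M : Matrix.SpecialLinearGroup (Fin 2) (Lq hF)) : Matrix.SpecialLinearGroup (Fin 2) F :=
  ⟨!![jL hF (M.1 0 0), μ * jL hF (M.1 0 1); μ⁻¹ * jL hF (M.1 1 0), jL hF (M.1 1 1)], by
    rw [Matrix.det_fin_two_of]
    have h := congrArg (jL hF) (sl2_det M)
    rw [map_sub, map_mul, map_mul, map_one] at h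
    rw [← h]
    field_simp⟩

theorem kapFun_00 (hF : Fintype.card F = q ^ 2) (μ : F) (hμ0 : μ ≠ 0)
    (M : Matrix.SpecialLinearGroup (Fin 2) (Lq hF)) :
    (kapFun hF μ hμ0 M).1 0 0 = jL hF (M.1 0 0) := rfl

theorem kapFun_01 (hF : Fintype.card F = q ^ 2) (μ : F) (hμ0 : μ ≠ 0)
    (M : Matrix.SpecialLinearGroup (Fin 2) (Lq hF)) :
    (kapFun hF μ hμ0 M).1 0 1 = μ * jL hF (M.1 0 1) := rfl

theorem kapFun_10 (hF : Fintype.card F = q ^ 2) (μ : F) (hμ0 : μ ≠ 0)
    (M : Matrix.SpecialLinearGroup (Fin 2) (Lq hF)) :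
    (kapFun hF μ hμ0 M).1 1 0 = μ⁻¹ * jL hF (M.1 1 0) := rfl

theorem kapFun_11 (hF : Fintype.card F = q ^ 2) (μ : F) (hμ0 : μ ≠ 0)
    (M : Matrix.SpecialLinearGroup (Fin 2) (Lq hF)) :
    (kapFun hF μ hμ0 M).1 1 1 = jL hF (M.1 1 1) := rfl

theorem sl2_one_00 {R : Type*} [CommRing R] : (1 : Matrix.SpecialLinearGroup (Fin 2) R).1 0 0 = 1 := by
  rw [Matrix.SpecialLinearGroup.coe_one, Matrix.one_apply_eq]
theorem sl2_one_01 {R : Type*} [CommRing R] : (1 : Matrix.SpecialLinearGroup (Fin 2) R).1 0 1 = 0 := by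
  rw [Matrix.SpecialLinearGroup.coe_one, Matrix.one_apply_ne (by decide)]
theorem sl2_one_10 {R : Type*} [CommRing R] : (1 : Matrix.SpecialLinearGroup (Fin 2) R).1 1 0 = 0 := by
  rw [Matrix.SpecialLinearGroup.coe_one, Matrix.one_apply_ne (by decide)]
theorem sl2_one_11 {R : Type*} [CommRing R] : (1 : Matrix.SpecialLinearGroup (Fin 2) R).1 1 1 = 1 := by
  rw [Matrix.SpecialLinearGroup.coe_one, Matrix.one_apply_eq]

/-- the twisted embedding `SL₂(Lq) → SL₂(F)` -/
noncomputable def kap (hF : Fintype.card F = q ^ 2) (μ : F) (hμ0 : μ ≠ 0) :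
    Matrix.SpecialLinearGroup (Fin 2) (Lq hF) →* Matrix.SpecialLinearGroup (Fin 2) F where
  toFun := kapFun hF μ hμ0
  map_one' := by
    apply sl2_ext
    · rw [kapFun_00, sl2_one_00, sl2_one_00, map_one]
    · rw [kapFun_01, sl2_one_01, sl2_one_01, map_zero, mul_zero]
    · rw [kapFun_10, sl2_one_10, sl2_one_10, map_zero, mul_zero]
    · rw [kapFun_11, sl2_one_11, sl2_one_11, map_one]
  map_mul' M N := by
    apply sl2_ext
    · rw [sl2_mul_apply, kapFun_00, kapFun_00, kapFun_00, kapFun_01, kapFun_10, sl2_mul_apply,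
        map_add, map_mul, map_mul]
      field_simp
    · rw [sl2_mul_apply, kapFun_01, kapFun_00, kapFun_01, kapFun_01, kapFun_11, sl2_mul_apply,
        map_add, map_mul, map_mul]
      ring
    · rw [sl2_mul_apply, kapFun_10, kapFun_10, kapFun_00, kapFun_11, kapFun_10, sl2_mul_apply,
        map_add, map_mul, map_mul]
      ring
    · rw [sl2_mul_apply, kapFun_11, kapFun_10, kapFun_01, kapFun_11, kapFun_11, sl2_mul_apply,
        map_add, map_mul, map_mul]
      field_simp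

theorem kap_apply (hF : Fintype.card F = q ^ 2) (μ : F) (hμ0 : μ ≠ 0)
    (M : Matrix.SpecialLinearGroup (Fin 2) (Lq hF)) : kap hF μ hμ0 M = kapFun hF μ hμ0 M := rfl

theorem kap_uM (hF : Fintype.card F = q ^ 2) (μ : F) (hμ0 : μ ≠ 0) (b : Lq hF) :
    kap hF μ hμ0 (uM b) = uM (μ * jL hF b) := by
  rw [kap_apply]
  apply sl2_ext
  · rw [kapFun_00, uM_00, uM_00, map_one]
  · rw [kapFun_01, uM_01, uM_01]
  · rw [kapFun_10, uM_10, uM_10, map_zero, mul_zero]
  · rw [kapFun_11, uM_11, uM_11, map_one]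

theorem kap_lM (hF : Fintype.card F = q ^ 2) (μ : F) (hμ0 : μ ≠ 0) (c : Lq hF) :
    kap hF μ hμ0 (lM c) = lM (μ⁻¹ * jL hF c) := by
  rw [kap_apply]
  apply sl2_ext
  · rw [kapFun_00, lM_00, lM_00, map_one]
  · rw [kapFun_01, lM_01, lM_01, map_zero, mul_zero]
  · rw [kapFun_10, lM_10, lM_10]
  · rw [kapFun_11, lM_11, lM_11, map_one]

theorem kap_injective (hF : Fintype.card F = q ^ 2) (μ : F) (hμ0 : μ ≠ 0) :
    (kap hF μ hμ0).ker = ⊥ := by
  rw [eq_bot_iff]
  intro M hM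
  rw [MonoidHom.mem_ker] at hM
  rw [Subgroup.mem_bot]
  rw [kap_apply] at hM
  have h00 : jL hF (M.1 0 0) = 1 := by
    rw [← kapFun_00 hF μ hμ0, hM, sl2_one_00]
  have h01 : μ * jL hF (M.1 0 1) = 0 := by
    rw [← kapFun_01 hF μ hμ0, hM, sl2_one_01]
  have h10 : μ⁻¹ * jL hF (M.1 1 0) = 0 := by
    rw [← kapFun_10 hF μ hμ0, hM, sl2_one_10]
  have h11 : jL hF (M.1 1 1) = 1 := by
    rw [← kapFun_11 hF μ hμ0, hM, sl2_one_11]
  apply sl2_ext
  · apply jL_injective hF
    rw [h00, sl2_one_00, map_one]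
  · apply jL_injective hF
    rw [sl2_one_01, map_zero]
    rcases mul_eq_zero.mp h01 with h | h
    · exact absurd h hμ0
    · exact h
  · apply jL_injective hF
    rw [sl2_one_10, map_zero]
    rcases mul_eq_zero.mp h10 with h | h
    · exact absurd h (inv_ne_zero hμ0)
    · exact h
  · apply jL_injective hF
    rw [h11, sl2_one_11, map_one]

end Cfsg.Agent.Lib.Helper6.SURoot
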