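import Mathlib
import Cfsg.Prelude.Def_Characters
import Cfsg.Prelude.Def_Blocks
import Cfsg.Agent.Lib.Helper2.Expansion
import Cfsg.Agent.Lib.Helper2.Ito
import Cfsg.Agent.Lib.Helper25.CharBasic
import Cfsg.Agent.Lib.Helper15.Torus6
import Cfsg.Agent.S2430

/-!
# S2436 piece P6 = SL-D `mk_normalizer_sylow_odd` (helper6, for helper14's skeleton)

`mk ℓ K` = number of irreducible characters of `K` of degree prime to `ℓ` (helper14's definition, restated here).
For an odd prime `ℓ` dividing `q ∓ 1` the normalizer of a Sylow `ℓ`-subgroup of `SL₂(q)` is the normalizer of a torus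
`T = C(x)` of order `q ∓ 1`; `T` is an abelian normal subgroup of index 2, so all degrees divide 2 (Ito) and
`mk = k(N(T)) = |T| / 2 + 3`.
-/

set_option autoImplicit false

namespace Cfsg.Agent.Lib.Helper6.S2436P6

open Cfsg

/-- the number of irreducible characters of degree prime to `ℓ` (copy of helper14's `McKay.mk`) -/
noncomputable def mk (ℓ : ℕ) (K : Type*) [Group K] : ℕ :=
  Nat.card {χ : Cfsg.IrrCharacter K // ¬ ℓ ∣ Cfsg.charDegree (χ : K → ℂ)}

/-- Ito: degrees divide the index of an abelian normal subgroup. -/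
theorem charDegree_dvd_index' {K : Type*} [Group K] [Finite K] (A : Subgroup K) [A.Normal]
    (hA : ∀ a ∈ A, ∀ b ∈ A, a * b = b * a) (χ : Cfsg.IrrCharacter K) :
    Cfsg.charDegree (χ : K → ℂ) ∣ A.index := by
  obtain ⟨d, hd, hdvd⟩ := Cfsg.Agent.Lib.Helper2.ito_aux (Nat.card K) K rfl (χ : K → ℂ) χ.2 A hA
  have h1 := Cfsg.Agent.Lib.Helper25.char_one_eq_charDegree
    (Cfsg.Agent.Lib.Helper2.IsIrrCharacter.isCharacter χ.2)
  rw [hd] at h1
  have h2 : d = Cfsg.charDegree (χ : K → ℂ) := by exact_mod_cast h1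
  rw [← h2]
  exact hdvd

/-- a group with an abelian normal subgroup of index prime to `ℓ` has `mk = k`. -/
theorem mk_of_abelian_normal' (ℓ : ℕ) [Fact ℓ.Prime] {K : Type*} [Group K] [Finite K]
    (A : Subgroup K) [A.Normal] (hA : ∀ a ∈ A, ∀ b ∈ A, a * b = b * a) (hℓ : ¬ ℓ ∣ A.index) :
    mk ℓ K = Nat.card (ConjClasses K) := by
  classical
  have : Fintype K := Fintype.ofFinite K
  unfold mk
  rw [← Cfsg.Agent.Lib.Helper2.card_irrCharacter]
  apply Nat.card_congr
  refine Equiv.subtypeUnivEquiv ?_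
  intro χ hdvd
  exact hℓ (hdvd.trans (charDegree_dvd_index' A hA χ))

section SL2

open Matrix
open Cfsg.Agent.Lib.Helper15 Cfsg.Agent.Lib.Helper14

variable {F : Type*} [Field F] [Fintype F]

/-- the normalizer of a torus `T = C(x)`: `mk ℓ = |T| / 2 + 3` for odd `ℓ` -/
theorem mk_torus_normalizer (h2 : (2 : F) ≠ 0) (ℓ : ℕ) [Fact ℓ.Prime] (hℓ : ℓ ≠ 2)
    (x : SpecialLinearGroup (Fin 2) F) (hns : ¬ IsScalar2 (x : Matrix (Fin 2) (Fin 2) F))
    (ht : (x : Matrix (Fin 2) (Fin 2) F).trace ^ 2 ≠ 4) :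
    mk ℓ (Subgroup.normalizer ((Subgroup.centralizer ({x} : Set (SpecialLinearGroup (Fin 2) F)) :
        Subgroup (SpecialLinearGroup (Fin 2) F)) : Set (SpecialLinearGroup (Fin 2) F))) =
      Nat.card (Subgroup.centralizer ({x} : Set (SpecialLinearGroup (Fin 2) F))) / 2 + 3 := by
  have hℓp : ℓ.Prime := Fact.out
  have hnorm : ((Subgroup.centralizer ({x} : Set (SpecialLinearGroup (Fin 2) F))).subgroupOf
      (Subgroup.normalizer ((Subgroup.centralizer ({x} : Set (SpecialLinearGroup (Fin 2) F)) :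
        Subgroup (SpecialLinearGroup (Fin 2) F)) : Set (SpecialLinearGroup (Fin 2) F)))).Normal :=
    Subgroup.normal_in_normalizer
  rw [mk_of_abelian_normal' ℓ ((Subgroup.centralizer ({x} : Set (SpecialLinearGroup (Fin 2) F))).subgroupOf
      (Subgroup.normalizer ((Subgroup.centralizer ({x} : Set (SpecialLinearGroup (Fin 2) F)) :
        Subgroup (SpecialLinearGroup (Fin 2) F)) : Set (SpecialLinearGroup (Fin 2) F)))) ?_ ?_]
  · exact card_conjClasses_torus_normalizer h2 x hns ht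
  · rintro ⟨a, ha⟩ haT ⟨b, hb⟩ hbT
    rw [Subgroup.mem_subgroupOf] at haT hbT
    apply Subtype.ext
    exact centralizer_commute x hns a b haT hbT
  · rw [torus_index_two h2 x hns ht]
    intro hdvd
    exact hℓ ((Nat.prime_dvd_prime_iff_eq hℓp Nat.prime_two).1 hdvd)

/-- SL-D: odd `ℓ` dividing `q ∓ 1`. -/
theorem mk_normalizer_sylow_odd (hodd : Odd (Fintype.card F)) (ℓ : ℕ) [Fact ℓ.Prime] (hℓ : ℓ ≠ 2)
    (P : Sylow ℓ (SpecialLinearGroup (Fin 2) F)) :
    (ℓ ∣ Fintype.card F - 1 →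
      mk ℓ (Subgroup.normalizer ((P : Subgroup (SpecialLinearGroup (Fin 2) F)) :
        Set (SpecialLinearGroup (Fin 2) F))) = (Fintype.card F + 5) / 2) ∧
    (ℓ ∣ Fintype.card F + 1 →
      mk ℓ (Subgroup.normalizer ((P : Subgroup (SpecialLinearGroup (Fin 2) F)) :
        Set (SpecialLinearGroup (Fin 2) F))) = (Fintype.card F + 7) / 2) := by
  have h2 : (2 : F) ≠ 0 := by
    intro h
    have := (Cfsg.Agent.Lib.Helper15.two_dvd_card_iff (F := F)).2 h
    rw [Nat.odd_iff] at hodd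
    omega
  have hq : 2 ≤ Fintype.card F := Fintype.one_lt_card
  have hS := Cfsg.Agent.S2430.result hodd ℓ hℓ P
  constructor
  · intro hdvd
    obtain ⟨x, hns, ht, hC, hNm, -⟩ := sylow_odd_torus hodd ℓ hℓ P (Or.inl hdvd)
    have hT := (hS.1 hdvd).1
    rw [hC] at hT
    rw [hNm, mk_torus_normalizer h2 ℓ hℓ x hns ht, hT]
    rw [Nat.odd_iff] at hodd
    omega
  · intro hdvd
    obtain ⟨x, hns, ht, hC, hNm, -⟩ := sylow_odd_torus hodd ℓ hℓ P (Or.inr hdvd)
    have hT := (hS.2 hdvd).1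
    rw [hC] at hT
    rw [hNm, mk_torus_normalizer h2 ℓ hℓ x hns ht, hT]
    rw [Nat.odd_iff] at hodd
    omega

end SL2

end Cfsg.Agent.Lib.Helper6.S2436P6
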