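import Mathlib
import Cfsg.Prelude.Def_Characters
import Cfsg.Prelude.Def_Blocks
import Cfsg.Agent.Lib.Helper15.Torus6
import Cfsg.Agent.Lib.Helper15.Syl2E
import Cfsg.Agent.Lib.Helper15.PSL2Orders2
import Cfsg.Agent.S2431

/-!
# S2436 piece P7 = SL-E1, structural part (helper6, for helper14's skeleton)

A Sylow 2-subgroup `S` of `SL₂(q)`, `q` odd, has a cyclic subgroup `A = C_S(x)` (`x² = -1`) of index 2 and even order,
and every element of `S` outside `A` squares to `-1`.
-/

set_option autoImplicit false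

namespace Cfsg.Agent.Lib.Helper6.S2436P7

open Cfsg Matrix
open Cfsg.Agent.Lib.Helper15 Cfsg.Agent.Lib.Helper14

variable {F : Type*} [Field F] [Fintype F]

omit [Fintype F] in
theorem neg_one_sq_SL2 : (-1 : SpecialLinearGroup (Fin 2) F) * -1 = 1 := by
  rw [neg_mul_neg, one_mul]

/-- the quaternion-type structure of a Sylow 2-subgroup of `SL₂(q)` -/
theorem sylow_two_structure (hodd : Odd (Fintype.card F))
    (S : Sylow 2 (SpecialLinearGroup (Fin 2) F)) :
    ∃ (A : Subgroup ↥(S : Subgroup (SpecialLinearGroup (Fin 2) F)))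
      (z : ↥(S : Subgroup (SpecialLinearGroup (Fin 2) F))),
      IsCyclic A ∧ A.index = 2 ∧ Even (Nat.card A) ∧ ∀ s, s ∉ A → s * s = z := by
  have h2 : (2 : F) ≠ 0 := by
    intro h
    have := (Cfsg.Agent.Lib.Helper15.two_dvd_card_iff (F := F)).2 h
    rw [Nat.odd_iff] at hodd
    omega
  obtain ⟨x, hx, hS⟩ := exists_sq_normalized hodd h2 S
  obtain ⟨s₀, hs₀, hinv⟩ := exists_inverting_mem_sylow hodd h2 x hx S hS
  have hns := not_isScalar2_of_sq h2 x hx
  have ht := trace_sq_ne_four_of_sq h2 x hx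
  have hxS : x ∈ (S : Subgroup (SpecialLinearGroup (Fin 2) F)) :=
    torusTwo_le_sylow h2 x hx S hS (self_mem_torusTwo h2 x hx)
  have hm1S : (-1 : SpecialLinearGroup (Fin 2) F) ∈ (S : Subgroup (SpecialLinearGroup (Fin 2) F)) := by
    rw [← hx]
    exact Subgroup.mul_mem _ hxS hxS
  have hne := ne_inv_of_not_scalar h2 x hns
  have hcyc : IsCyclic (Subgroup.centralizer ({x} : Set (SpecialLinearGroup (Fin 2) F))) :=
    isCyclic_torus h2 x hns ht
  refine ⟨(Subgroup.centralizer ({x} : Set (SpecialLinearGroup (Fin 2) F))).subgroupOf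
    (S : Subgroup (SpecialLinearGroup (Fin 2) F)), ⟨-1, hm1S⟩, ?_, ?_, ?_, ?_⟩
  · -- cyclic
    let f : ↥((Subgroup.centralizer ({x} : Set (SpecialLinearGroup (Fin 2) F))).subgroupOf
        (S : Subgroup (SpecialLinearGroup (Fin 2) F))) →*
        ↥(Subgroup.centralizer ({x} : Set (SpecialLinearGroup (Fin 2) F))) :=
      { toFun := fun a => ⟨(a.1 : SpecialLinearGroup (Fin 2) F), Subgroup.mem_subgroupOf.1 a.2⟩
        map_one' := rfl
        map_mul' := fun a b => rfl }
    apply isCyclic_of_injective f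
    intro a b hab
    apply Subtype.ext
    apply Subtype.ext
    exact congrArg (fun c : ↥(Subgroup.centralizer ({x} : Set (SpecialLinearGroup (Fin 2) F))) =>
      (c : SpecialLinearGroup (Fin 2) F)) hab
  · -- index 2
    rw [Subgroup.index_eq_two_iff]
    refine ⟨⟨s₀, hs₀⟩, ?_⟩
    rintro ⟨b, hb⟩
    simp only [Subgroup.mem_subgroupOf, Subgroup.coe_mul]
    rw [mem_centralizer_iff_conj_eq, mem_centralizer_iff_conj_eq]
    have hbw : b * s₀ * x * (b * s₀)⁻¹ = (b * x * b⁻¹)⁻¹ := by
      calc b * s₀ * x * (b * s₀)⁻¹ = b * (s₀ * x * s₀⁻¹) * b⁻¹ := by group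
        _ = b * x⁻¹ * b⁻¹ := by rw [hinv]
        _ = (b * x * b⁻¹)⁻¹ := conj_inv_eq b x
    rw [hbw]
    rcases hS b hb with h | h
    · right
      rw [h]
      exact ⟨rfl, fun h' => hne h'.symm⟩
    · left
      rw [h, inv_inv]
      exact ⟨rfl, fun h' => hne h'.symm⟩
  · -- even order
    have hm1A : (⟨-1, hm1S⟩ : ↥(S : Subgroup (SpecialLinearGroup (Fin 2) F))) ∈
        (Subgroup.centralizer ({x} : Set (SpecialLinearGroup (Fin 2) F))).subgroupOf
          (S : Subgroup (SpecialLinearGroup (Fin 2) F)) := by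
      rw [Subgroup.mem_subgroupOf, Subgroup.mem_centralizer_singleton_iff]
      rw [neg_mul, mul_neg, one_mul, mul_one]
    have hord : orderOf (⟨⟨-1, hm1S⟩, hm1A⟩ :
        ↥((Subgroup.centralizer ({x} : Set (SpecialLinearGroup (Fin 2) F))).subgroupOf
          (S : Subgroup (SpecialLinearGroup (Fin 2) F)))) = 2 := by
      apply orderOf_eq_prime
      · apply Subtype.ext
        apply Subtype.ext
        show (-1 : SpecialLinearGroup (Fin 2) F) ^ 2 = 1
        rw [pow_two]
        exact neg_one_sq_SL2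
      · intro h
        have h' := congrArg (fun a => ((a.1 : ↥(S : Subgroup (SpecialLinearGroup (Fin 2) F))) :
          SpecialLinearGroup (Fin 2) F)) h
        exact one_ne_neg_one_SL2 h2 h'.symm
    rw [even_iff_two_dvd]
    have hd := orderOf_dvd_natCard (⟨⟨-1, hm1S⟩, hm1A⟩ :
        ↥((Subgroup.centralizer ({x} : Set (SpecialLinearGroup (Fin 2) F))).subgroupOf
          (S : Subgroup (SpecialLinearGroup (Fin 2) F))))
    rw [hord] at hd
    exact hd
  · -- squares
    rintro ⟨s, hs⟩ hsA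
    rw [Subgroup.mem_subgroupOf, mem_centralizer_iff_conj_eq] at hsA
    have hsinv : s * x * s⁻¹ = x⁻¹ := (hS s hs).resolve_left hsA
    have hsq := inverting_sq x hns s hsinv
    apply Subtype.ext
    show s * s = -1
    apply Subtype.ext
    rw [hsq]
    simp

end Cfsg.Agent.Lib.Helper6.S2436P7
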