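import Mathlib
import Cfsg.Prelude.Def_Characters
import Cfsg.Prelude.Def_Blocks
import Cfsg.Agent.Lib.Helper6.S2436P7a
import Cfsg.Agent.Lib.Helper12.S2436P3

/-!
# S2436 piece P7 = SL-E1 `mk_normalizer_sylow_two_self` (helper6, for helper14's skeleton)

`q ≡ ±1 mod 8`: `N(S) = S` (S2431) and `S` has the quaternion-type structure of `sylow_two_structure`, so FO-G10
(helper12's `mk_two_of_sq`) gives `mk 2 (N(S)) = 4`.
-/

set_option autoImplicit false

namespace Cfsg.Agent.Lib.Helper6.S2436P7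

open Cfsg Matrix

variable {F : Type*} [Field F] [Fintype F]

/-- the number of irreducible characters of degree prime to `ℓ` (copy of helper14's `McKay.mk`) -/
noncomputable def mk (ℓ : ℕ) (K : Type*) [Group K] : ℕ :=
  Nat.card {χ : Cfsg.IrrCharacter K // ¬ ℓ ∣ Cfsg.charDegree (χ : K → ℂ)}

/-- SL-E1: `q ≡ ±1 mod 8`. -/
theorem mk_normalizer_sylow_two_self (hodd : Odd (Fintype.card F))
    (S : Sylow 2 (SpecialLinearGroup (Fin 2) F))
    (h : Fintype.card F % 8 = 1 ∨ Fintype.card F % 8 = 7) :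
    mk 2 (Subgroup.normalizer ((S : Subgroup (SpecialLinearGroup (Fin 2) F)) :
      Set (SpecialLinearGroup (Fin 2) F))) = 4 := by
  have hN := (Cfsg.Agent.S2431.result hodd S).2.1 h
  rw [hN]
  obtain ⟨A, z, hA, hidx, heven, hsq⟩ := sylow_two_structure hodd S
  exact Cfsg.Agent.Lib.Helper12.S2436P3.mk_two_of_sq A hA hidx heven z hsq

end Cfsg.Agent.Lib.Helper6.S2436P7
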