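import Mathlib
import Cfsg.Agent.Lib.Helper14.BNChar3

/-!
# S2314 farm-out piece FO-A (helper6, for architect helper14)

The `(B, N ∩ M)`-pair of an overgroup `M ≥ B` of a `(B, N)`-pair: `subBN`, `embS`, `par_subBN`,
`mem_C_subBN`, `range_embS`.
-/

set_option autoImplicit false
set_option linter.unusedSectionVars false

namespace Cfsg.Agent.Lib.Helper6.S2314FOA

open Cfsg.Agent.Lib.Helper3 Cfsg.Agent.Lib.Helper8.Weyl Cfsg.Agent.Lib.Helper8.BNCox
open Cfsg.Agent.Lib.Helper14.BNSt Cfsg.Agent.Lib.Helper14.BNChar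

section sub

variable {G : Type*} [Group G] (P : Cfsg.BNPair G)

/-- closure inside a subgroup (local copy of the standard fact) -/
theorem closure_subgroupOf_eq_aux (M : Subgroup G) (S : Set G) (hS : S ⊆ (M : Set G)) :
    (Subgroup.closure S).subgroupOf M = Subgroup.closure {n : ↥M | (n : G) ∈ S} := by
  have himg : M.subtype '' {n : ↥M | (n : G) ∈ S} = S := by
    ext x
    constructor
    · rintro ⟨n, hn, rfl⟩
      exact hn
    · intro hx
      exact ⟨⟨x, hS hx⟩, hx, rfl⟩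
  have h1 : (Subgroup.closure {n : ↥M | (n : G) ∈ S}).map M.subtype = Subgroup.closure S := by
    rw [MonoidHom.map_closure, himg]
  rw [← h1]
  exact Subgroup.comap_map_eq_self_of_injective M.subtype_injective _

/-- an element of `N ∩ M` is a product of an element of `⟨S ∩ M⟩` and an element of `B ∩ N`. -/
theorem exists_closure_gens_mul (M : Subgroup G) (hBM : P.B ≤ M) {n : G} (hn : n ∈ P.N)
    (hnM : n ∈ M) :
    ∃ m ∈ Subgroup.closure (BN.gens P M), m⁻¹ * n ∈ P.B ∧ m⁻¹ * n ∈ P.N := by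
  have hM : n ∈ P.parabolic (BN.gens P M) := by
    rw [← BN.eq_parabolic_gens P M hBM]; exact hnM
  obtain ⟨m, hm, hnm⟩ := (BN.mem_parabolic_iff P (BN.gens_subset P M) n).1 hM
  have hmN : m ∈ P.N := BN.closure_le_N P (BN.gens_subset P M) hm
  have hr : BN.Rel P m n := BN.rel_of_mem_C P hmN hn hnm
  exact ⟨m, hm, hr, P.N.mul_mem (P.N.inv_mem hmN) hn⟩

/-- the `(B, N ∩ M)`-pair of an overgroup `M ≥ B`. -/
def subBN (M : Subgroup G) (hBM : P.B ≤ M) : Cfsg.BNPair ↥M where
  B := P.B.subgroupOf M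
  N := P.N.subgroupOf M
  S := {x | (x : G) ∈ P.S}
  sup_eq_top := by
    rw [eq_top_iff]
    rintro ⟨m, hm⟩ -
    obtain ⟨n, hn, hmn⟩ := BN.bruhat_exists P m
    obtain ⟨b, hb, b', hb', e⟩ := (BN.mem_C P).1 hmn
    have hnM : n ∈ M := by
      have e' : n = b⁻¹ * m * b'⁻¹ := by rw [e]; group
      rw [e']
      exact M.mul_mem (M.mul_mem (M.inv_mem (hBM hb)) hm) (M.inv_mem (hBM hb'))
    have e2 : (⟨m, hm⟩ : ↥M) = ⟨b, hBM hb⟩ * ⟨n, hnM⟩ * ⟨b', hBM hb'⟩ := Subtype.ext e
    rw [e2]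
    have hB1 : (⟨b, hBM hb⟩ : ↥M) ∈ P.B.subgroupOf M ⊔ P.N.subgroupOf M :=
      (le_sup_left : P.B.subgroupOf M ≤ _) (Subgroup.mem_subgroupOf.2 hb)
    have hB2 : (⟨b', hBM hb'⟩ : ↥M) ∈ P.B.subgroupOf M ⊔ P.N.subgroupOf M :=
      (le_sup_left : P.B.subgroupOf M ≤ _) (Subgroup.mem_subgroupOf.2 hb')
    have hN1 : (⟨n, hnM⟩ : ↥M) ∈ P.B.subgroupOf M ⊔ P.N.subgroupOf M :=
      (le_sup_right : P.N.subgroupOf M ≤ _) (Subgroup.mem_subgroupOf.2 hn)
    exact Subgroup.mul_mem _ (Subgroup.mul_mem _ hB1 hN1) hB2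
  conj_mem := by
    intro n hn t ht
    rw [Subgroup.mem_subgroupOf] at hn ⊢
    rw [Subgroup.mem_inf, Subgroup.mem_subgroupOf, Subgroup.mem_subgroupOf] at ht
    simpa using P.conj_mem _ hn _ ⟨ht.1, ht.2⟩
  subset := by
    intro s hs
    exact Subgroup.mem_subgroupOf.2 (P.subset hs)
  sq_mem := by
    intro s hs
    rw [Subgroup.mem_subgroupOf]
    simpa using P.sq_mem _ hs
  inj := by
    intro s hs s' hs' h
    rw [Subgroup.mem_subgroupOf] at h
    apply Subtype.ext
    apply P.inj _ hs _ hs'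
    simpa using h
  closure_sup := by
    apply le_antisymm
    · apply sup_le
      · rw [Subgroup.closure_le]
        intro s hs
        exact Subgroup.mem_subgroupOf.2 (P.subset hs)
      · exact inf_le_right
    · rintro ⟨n, hnM⟩ hn
      rw [Subgroup.mem_subgroupOf] at hn
      obtain ⟨m, hm, h1, h2⟩ := exists_closure_gens_mul P M hBM hn hnM
      have hmM : m ∈ M := by
        have : Subgroup.closure (BN.gens P M) ≤ M := by
          rw [Subgroup.closure_le]; exact fun _ h => h.2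
        exact this hm
      have e : (⟨n, hnM⟩ : ↥M) = ⟨m, hmM⟩ * ⟨m⁻¹ * n, M.mul_mem (M.inv_mem hmM) hnM⟩ := by
        apply Subtype.ext
        show n = m * (m⁻¹ * n)
        group
      rw [e]
      apply Subgroup.mul_mem
      · apply (le_sup_left : Subgroup.closure {x : ↥M | (x : G) ∈ P.S} ≤ _)
        have hsub : BN.gens P M ⊆ (M : Set G) := fun _ h => h.2
        have h3 : (⟨m, hmM⟩ : ↥M) ∈ (Subgroup.closure (BN.gens P M)).subgroupOf M :=
          Subgroup.mem_subgroupOf.2 hm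
        rw [closure_subgroupOf_eq_aux M _ hsub] at h3
        refine Subgroup.closure_mono ?_ h3
        intro x hx
        exact hx.1
      · apply (le_sup_right : P.B.subgroupOf M ⊓ P.N.subgroupOf M ≤ _)
        exact ⟨Subgroup.mem_subgroupOf.2 h1, Subgroup.mem_subgroupOf.2 h2⟩
  mul_mem_union := by
    intro s hs n hn b hb
    rw [Subgroup.mem_subgroupOf] at hn hb
    rcases P.mul_mem_union _ hs _ hn _ hb with h | h
    · left
      rw [DoubleCoset.mem_doubleCoset] at h ⊢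
      obtain ⟨b1, h1, b2, h2, e⟩ := h
      refine ⟨⟨b1, hBM h1⟩, h1, ⟨b2, hBM h2⟩, h2, ?_⟩
      apply Subtype.ext
      simpa using e
    · right
      rw [DoubleCoset.mem_doubleCoset] at h ⊢
      obtain ⟨b1, h1, b2, h2, e⟩ := h
      refine ⟨⟨b1, hBM h1⟩, h1, ⟨b2, hBM h2⟩, h2, ?_⟩
      apply Subtype.ext
      simpa using e
  conj_ne := by
    intro s hs heq
    apply P.conj_ne _ hs
    ext y
    constructor
    · rintro ⟨b, hb, rfl⟩
      have hmem : s * ⟨b, hBM hb⟩ * s ∈ (fun x : ↥M => s * x * s) '' (P.B.subgroupOf M : Set ↥M) :=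
        ⟨⟨b, hBM hb⟩, hb, rfl⟩
      rw [heq] at hmem
      have := Subgroup.mem_subgroupOf.mp hmem
      simpa using this
    · intro hy
      have hyM : (⟨y, hBM hy⟩ : ↥M) ∈ (P.B.subgroupOf M : Set ↥M) := Subgroup.mem_subgroupOf.2 hy
      rw [← heq] at hyM
      obtain ⟨x, hx, e⟩ := hyM
      refine ⟨(x : G), Subgroup.mem_subgroupOf.1 hx, ?_⟩
      have := congrArg Subtype.val e
      simpa using this

/-- the embedding of the distinguished generators -/
def embS (M : Subgroup G) (hBM : P.B ≤ M) : (subBN P M hBM).S → P.S := fun x => ⟨(x : G), x.2⟩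

theorem par_subBN (M : Subgroup G) (hBM : P.B ≤ M) (K : Set (subBN P M hBM).S) :
    par (subBN P M hBM) K = (par P (embS P M hBM '' K)).subgroupOf M := by
  -- the image of `K` in `G`
  have hKG : Subtype.val '' (embS P M hBM '' K) ⊆ (M : Set G) := by
    rintro _ ⟨_, ⟨x, _, rfl⟩, rfl⟩
    exact x.1.2
  have hcl : Subgroup.closure (Subtype.val '' (embS P M hBM '' K)) ≤ M := by
    rw [Subgroup.closure_le]; exact hKG
  have hset : {n : ↥M | (n : G) ∈ Subtype.val '' (embS P M hBM '' K)} =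
      (Subtype.val '' K : Set ↥M) := by
    ext n
    constructor
    · rintro ⟨_, ⟨x, hx, rfl⟩, e⟩
      exact ⟨x, hx, Subtype.ext e⟩
    · rintro ⟨x, hx, rfl⟩
      exact ⟨embS P M hBM x, ⟨x, hx, rfl⟩, rfl⟩
  show (subBN P M hBM).B ⊔ Subgroup.closure (Subtype.val '' K) =
    (P.B ⊔ Subgroup.closure (Subtype.val '' (embS P M hBM '' K))).subgroupOf M
  rw [Subgroup.subgroupOf_sup hBM hcl, closure_subgroupOf_eq_aux M _ hKG, hset]
  rfl

theorem mem_C_subBN (M : Subgroup G) (hBM : P.B ≤ M) (x y : ↥M) :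
    x ∈ BN.C (subBN P M hBM) y ↔ (x : G) ∈ BN.C P (y : G) := by
  rw [BN.mem_C, BN.mem_C]
  constructor
  · rintro ⟨b, hb, b', hb', e⟩
    refine ⟨(b : G), Subgroup.mem_subgroupOf.1 hb, (b' : G), Subgroup.mem_subgroupOf.1 hb', ?_⟩
    have := congrArg Subtype.val e
    simpa using this
  · rintro ⟨b, hb, b', hb', e⟩
    refine ⟨⟨b, hBM hb⟩, Subgroup.mem_subgroupOf.2 hb, ⟨b', hBM hb'⟩, Subgroup.mem_subgroupOf.2 hb', ?_⟩
    apply Subtype.ext
    simpa using e

theorem range_embS (J : Set P.S) :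
    Set.range (embS P (par P J) (B_le_par P J)) = J := by
  ext s
  constructor
  · rintro ⟨x, rfl⟩
    have hx : ((x : ↥(par P J)) : G) ∈ P.parabolic (Subtype.val '' J) := x.1.2
    have h := BN.mem_of_mem_parabolic P (image_subset_S P J) x.2 hx
    obtain ⟨i, hi, e⟩ := h
    have : i = embS P (par P J) (B_le_par P J) x := Subtype.ext e
    rw [← this]; exact hi
  · intro hs
    have hmem : (s : G) ∈ par P J :=
      closure_le_par P J (Subgroup.subset_closure ⟨s, hs, rfl⟩)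
    exact ⟨⟨⟨(s : G), hmem⟩, s.2⟩, rfl⟩

end sub

end Cfsg.Agent.Lib.Helper6.S2314FOA
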