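import Mathlib
import Cfsg.Agent.Lib.Helper6.OrtS11

/-!
# Isometries with `x ^ 2 = -1`: invariant nondegenerate subspaces and their signs
-/

set_option autoImplicit false

namespace Cfsg.Agent.Lib.Helper6.OrtS

open Module Submodule QuadraticMap Cfsg.Agent.Lib.Helper15.PSpI Cfsg.Agent.Lib.Helper14.OrthEven
  Cfsg.Agent.Lib.Helper15.PSpJ Cfsg.Agent.Lib.Helper15.PDec Cfsg.Agent.Lib.Helper15.PSub

universe u

section sqneg

variable {F : Type u} {V : Type*} [Field F] [Fintype F] [AddCommGroup V] [Module F V]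
  [FiniteDimensional F V]
variable (Q : QuadraticForm F V) (x : V →ₗ[F] V)

omit [Fintype F] [FiniteDimensional F V] in
theorem polar_self_map (h2 : (2 : F) ≠ 0) (hQx : ∀ v, Q (x v) = Q v) (hx : ∀ v, x (x v) = -v)
    (v : V) : polarBilin Q v (x v) = 0 := by
  have h1 := iso_of_Q Q x hQx v (x v)
  rw [hx, map_neg, pB_symm Q (x v) v] at h1
  have h3 : (2 : F) * polarBilin Q v (x v) = 0 := by linear_combination -h1
  rcases mul_eq_zero.mp h3 with h | h
  · exact absurd h h2
  · exact h

omit [Fintype F] [FiniteDimensional F V] in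
theorem perpIn_invt (hQx : ∀ v, Q (x v) = Q v) (hx : ∀ v, x (x v) = -v)
    (V' P : Submodule F V) (hV' : V'.map x ≤ V') (hP : P.map x ≤ P) :
    (perpIn (polarBilin Q) V' P).map x ≤ perpIn (polarBilin Q) V' P := by
  rintro _ ⟨t, ht, rfl⟩
  obtain ⟨ht1, ht2⟩ := mem_perpIn.mp ht
  refine mem_perpIn.mpr ⟨hV' ⟨t, ht1, rfl⟩, ?_⟩
  intro u hu
  have hxu : x u ∈ P := hP ⟨u, hu, rfl⟩
  have h1 : u = x (-(x u)) := by rw [map_neg, hx, neg_neg]
  rw [h1, iso_of_Q Q x hQx, map_neg, LinearMap.neg_apply, ht2 _ hxu, neg_zero]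

/-- every nonzero invariant nondegenerate subspace contains an invariant nondegenerate plane
of sign `σ` -/
def PlanePick (σ : ℤ) : Prop :=
  ∀ V' : Submodule F V, V'.map x ≤ V' → NondegOn (polarBilin Q) V' → V' ≠ ⊥ →
    ∃ P : Submodule F V, P ≤ V' ∧ P.map x ≤ P ∧ NondegOn (polarBilin Q) P ∧ finrank F P = 2 ∧
      SgnOn Q P σ

/-- invariant nondegenerate subspaces have even dimension `2a` and sign `σ ^ a` -/
theorem sign_of_invt (hQx : ∀ v, Q (x v) = Q v) (hx : ∀ v, x (x v) = -v) (σ : ℤ)
    (hpick : PlanePick Q x σ) :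
    ∀ k, ∀ W : Submodule F V, W.map x ≤ W → NondegOn (polarBilin Q) W → finrank F W = k →
      ∃ a, k = 2 * a ∧ SgnOn Q W (σ ^ a) := by
  have hS := pB_symm Q
  intro k
  induction k using Nat.strong_induction_on with
  | _ k ih =>
    intro W hWx hWn hWk
    by_cases hb : W = ⊥
    · subst hb
      rw [finrank_bot] at hWk
      exact ⟨0, by omega, by rw [pow_zero]; exact sgnOn_bot Q⟩
    · obtain ⟨P, hPW, hPx, hPn, hP2, hPs⟩ := hpick W hWx hWn hb
      have hW'x := perpIn_invt Q x hQx hx W P hWx hPx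
      have hW'n := nondegOn_perpIn' hS hPW hPn hWn
      have hfr := finrank_perpIn' hS hPW hPn (V' := W)
      obtain ⟨a', ha', hs'⟩ := ih (k - 2) (by omega) _ hW'x hW'n (by omega)
      refine ⟨a' + 1, by omega, ?_⟩
      have h1 := sgnOn_sup Q (orth_perpIn W P) (orth_disjoint hS (orth_perpIn W P) hPn)
        (by rw [hP2]; exact even_two) (by rw [show finrank F ↥(perpIn (polarBilin Q) W P) = 2 * a' by omega]; exact even_two_mul a') hPs hs'
      rw [sup_perpIn' hS hPW hPn] at h1
      rw [pow_succ']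
      exact h1

/-- invariant nondegenerate subspaces of every even dimension exist -/
theorem exists_invt (hQx : ∀ v, Q (x v) = Q v) (hx : ∀ v, x (x v) = -v) (σ : ℤ)
    (hpick : PlanePick Q x σ) :
    ∀ a, ∀ V' : Submodule F V, V'.map x ≤ V' → NondegOn (polarBilin Q) V' →
      2 * a ≤ finrank F V' →
      ∃ W : Submodule F V, W ≤ V' ∧ W.map x ≤ W ∧ NondegOn (polarBilin Q) W ∧
        finrank F W = 2 * a := by
  have hS := pB_symm Q
  intro a
  induction a with
  | zero =>
    intro V' _ _ _
    exact ⟨⊥, bot_le, by rw [Submodule.map_bot], nondegOn_bot, by rw [finrank_bot]⟩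
  | succ a ih =>
    intro V' hV'x hV'n hle
    have hb : V' ≠ ⊥ := by
      rintro rfl
      rw [finrank_bot] at hle
      omega
    obtain ⟨P, hPV, hPx, hPn, hP2, -⟩ := hpick V' hV'x hV'n hb
    have hV''x := perpIn_invt Q x hQx hx V' P hV'x hPx
    have hV''n := nondegOn_perpIn' hS hPV hPn hV'n
    have hfr := finrank_perpIn' hS hPV hPn (V' := V')
    obtain ⟨W', hW'V, hW'x, hW'n, hW'f⟩ := ih _ hV''x hV''n (by omega)
    have ho : Orth (polarBilin Q) P W' := fun u hu v hv => orth_perpIn V' P u hu v (hW'V hv)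
    refine ⟨P ⊔ W', sup_le hPV (hW'V.trans (perpIn_le V' P)), ?_, nondegOn_sup' hS ho hPn hW'n, ?_⟩
    · rw [Submodule.map_sup]
      exact sup_le_sup hPx hW'x
    · rw [finrank_sup_of_orth' hS ho hPn, hP2, hW'f]
      ring

/-- a nondegenerate plane has sign `1` iff it contains a nonzero singular vector -/
theorem sgnOn_plane_iff (P : Submodule F V) (hP : NondegOn (polarBilin Q) P)
    (hP2 : finrank F P = 2) : SgnOn Q P 1 ↔ ∃ u ∈ P, u ≠ 0 ∧ Q u = 0 := by
  rw [sgnOn_one_iff_plus Q P hP 1 (by omega)]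
  constructor
  · rintro ⟨U, hUP, hU0, hUf⟩
    have hne : U ≠ ⊥ := by
      rintro rfl
      rw [finrank_bot] at hUf
      omega
    obtain ⟨u, hu, hu0⟩ := Submodule.exists_mem_ne_zero_of_ne_bot hne
    exact ⟨u, hUP hu, hu0, hU0 u hu⟩
  · rintro ⟨u, hu, hu0, hQu⟩
    refine ⟨span F {u}, by rw [span_singleton_le_iff_mem]; exact hu, ?_, finrank_span_singleton hu0⟩
    intro w hw
    obtain ⟨c, rfl⟩ := mem_span_singleton.mp hw
    rw [QuadraticMap.map_smul, hQu, smul_zero]

omit [Fintype F] [FiniteDimensional F V] in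
theorem finrank_span_pair' {e f : V} (h : ∀ a b : F, a • e + b • f = 0 → a = 0 ∧ b = 0) :
    finrank F (span F {e, f}) = 2 := by
  have hli : LinearIndependent F ![e, f] := LinearIndependent.pair_iff.mpr h
  have := finrank_span_eq_card hli
  rw [Matrix.range_cons_cons_empty] at this
  rw [this]
  simp

/-- plane picking when `-1 = i ^ 2` -/
theorem planePick_split (h2 : (2 : F) ≠ 0) (hQx : ∀ v, Q (x v) = Q v) (hx : ∀ v, x (x v) = -v)
    (i : F) (hi : i * i = -1) : PlanePick Q x 1 := by
  intro V' hV'x hV'n hb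
  have hS := pB_symm Q
  obtain ⟨v, hv, hv0⟩ := Submodule.exists_mem_ne_zero_of_ne_bot hb
  have hxV' : ∀ w ∈ V', x w ∈ V' := fun w hw => hV'x ⟨w, hw, rfl⟩
  -- an eigenvector
  have heig : ∃ (l : F) (e : V), l * l = -1 ∧ e ∈ V' ∧ e ≠ 0 ∧ x e = l • e := by
    by_cases h1 : v - i • x v = 0
    · refine ⟨-i, v + i • x v, by rw [neg_mul_neg, hi], V'.add_mem hv (V'.smul_mem _ (hxV' v hv)),
        ?_, ?_⟩
      · intro h3
        have h4 : (2 : F) • v = 0 := by
          have : (2 : F) • v = (v - i • x v) + (v + i • x v) := by rw [two_smul]; abel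
          rw [this, h1, h3, add_zero]
        rcases smul_eq_zero.mp h4 with h | h
        · exact h2 h
        · exact hv0 h
      · rw [map_add, map_smul, hx, smul_add, smul_neg, smul_smul, neg_mul, hi]
        simp only [neg_smul, one_smul, neg_neg, smul_neg]
        abel
    · refine ⟨i, v - i • x v, hi, V'.sub_mem hv (V'.smul_mem _ (hxV' v hv)), h1, ?_⟩
      rw [map_sub, map_smul, hx, smul_sub, smul_smul, hi]
      simp only [neg_smul, one_smul, smul_neg]
      abel
  obtain ⟨l, e, hl, heV, he0, hxe⟩ := heig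
  have hsing : ∀ (l' : F) (u : V), l' * l' = -1 → x u = l' • u → Q u = 0 := by
    intro l' u hl' hxu
    have h1 := hQx u
    rw [hxu, QuadraticMap.map_smul, hl', smul_eq_mul] at h1
    have h3 : (2 : F) * Q u = 0 := by linear_combination -h1
    rcases mul_eq_zero.mp h3 with h | h
    · exact absurd h h2
    · exact h
  have hQe := hsing l e hl hxe
  have hex : ∃ w ∈ V', polarBilin Q e w ≠ 0 := by
    by_contra hcon
    push Not at hcon
    exact he0 (hV'n e heV hcon)
  obtain ⟨w, hwV, hew⟩ := hex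
  obtain ⟨f₀, hf₀⟩ : ∃ f₀, f₀ = w + l • x w := ⟨_, rfl⟩
  have hf₀V : f₀ ∈ V' := by rw [hf₀]; exact V'.add_mem hwV (V'.smul_mem _ (hxV' w hwV))
  have hxf₀ : x f₀ = (-l) • f₀ := by
    rw [hf₀, map_add, map_smul, hx, smul_add, smul_smul, neg_mul, hl]
    simp only [neg_smul, one_smul, neg_neg, smul_neg]
    abel
  have hexw : polarBilin Q e (x w) = -l * polarBilin Q e w := by
    have h1 := iso_of_Q Q x hQx e (x w)
    rw [hxe, hx, map_smul, LinearMap.smul_apply, map_neg, smul_eq_mul] at h1
    linear_combination -h1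
  have hef₀ : polarBilin Q e f₀ = 2 * polarBilin Q e w := by
    rw [hf₀, map_add, map_smul, smul_eq_mul, hexw]
    linear_combination (-(polarBilin Q e w)) * hl
  have hef₀' : polarBilin Q e f₀ ≠ 0 := by
    rw [hef₀]
    exact mul_ne_zero h2 hew
  obtain ⟨f, hf⟩ : ∃ f, f = (polarBilin Q e f₀)⁻¹ • f₀ := ⟨_, rfl⟩
  have hfV : f ∈ V' := by rw [hf]; exact V'.smul_mem _ hf₀V
  have hxf : x f = (-l) • f := by rw [hf, map_smul, hxf₀, smul_comm]
  have hef : polarBilin Q e f = 1 := by
    rw [hf, map_smul, smul_eq_mul, inv_mul_cancel₀ hef₀']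
  have hQf := hsing (-l) f (by rw [neg_mul_neg, hl]) hxf
  have hee : polarBilin Q e e = 0 := by
    rw [pB_apply, polar_self, hQe, smul_zero]
  have hff : polarBilin Q f f = 0 := by
    rw [pB_apply, polar_self, hQf, smul_zero]
  have hfe : polarBilin Q f e = 1 := by rw [hS, hef]
  have hind : ∀ a b : F, a • e + b • f = 0 → a = 0 ∧ b = 0 := by
    intro a b hab
    have h1 : polarBilin Q (a • e + b • f) f = 0 := by rw [hab]; simp
    have h3 : polarBilin Q (a • e + b • f) e = 0 := by rw [hab]; simp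
    rw [map_add, LinearMap.add_apply, map_smul, map_smul, LinearMap.smul_apply,
      LinearMap.smul_apply, smul_eq_mul, smul_eq_mul] at h1 h3
    rw [hef, hff] at h1
    rw [hee, hfe] at h3
    exact ⟨by linear_combination h1, by linear_combination h3⟩
  refine ⟨span F {e, f}, ?_, ?_, ?_, finrank_span_pair' hind, ?_⟩
  · rw [span_le]
    rintro u (rfl | rfl)
    · exact heV
    · exact hfV
  · rw [Submodule.map_span_le]
    rintro u hu
    rcases hu with rfl | rfl
    · rw [hxe]
      exact Submodule.smul_mem _ _ (subset_span (by simp))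
    · rw [hxf]
      exact Submodule.smul_mem _ _ (subset_span (by simp))
  · intro u hu h0
    obtain ⟨a, b, rfl⟩ := mem_span_pair.mp hu
    have h1 := h0 f (subset_span (by simp))
    have h3 := h0 e (subset_span (by simp))
    rw [map_add, LinearMap.add_apply, map_smul, map_smul, LinearMap.smul_apply,
      LinearMap.smul_apply, smul_eq_mul, smul_eq_mul] at h1 h3
    rw [hef, hff] at h1
    rw [hee, hfe] at h3
    have ha : a = 0 := by linear_combination h1
    have hb : b = 0 := by linear_combination h3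
    rw [ha, hb]
    simp
  · have hPn : NondegOn (polarBilin Q) (span F {e, f}) := by
      intro u hu h0
      obtain ⟨a, b, rfl⟩ := mem_span_pair.mp hu
      have h1 := h0 f (subset_span (by simp))
      have h3 := h0 e (subset_span (by simp))
      rw [map_add, LinearMap.add_apply, map_smul, map_smul, LinearMap.smul_apply,
        LinearMap.smul_apply, smul_eq_mul, smul_eq_mul] at h1 h3
      rw [hef, hff] at h1
      rw [hee, hfe] at h3
      have ha : a = 0 := by linear_combination h1
      have hb : b = 0 := by linear_combination h3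
      rw [ha, hb]
      simp
    rw [sgnOn_plane_iff Q _ hPn (finrank_span_pair' hind)]
    exact ⟨e, subset_span (by simp), he0, hQe⟩

/-- plane picking when `-1` is not a square -/
theorem planePick_nonsplit (h2 : (2 : F) ≠ 0) (hQx : ∀ v, Q (x v) = Q v)
    (hx : ∀ v, x (x v) = -v) (hns : ∀ a b : F, a * a + b * b = 0 → a = 0 ∧ b = 0) :
    PlanePick Q x (-1) := by
  intro V' hV'x hV'n hb
  have hS := pB_symm Q
  have hxV' : ∀ w ∈ V', x w ∈ V' := fun w hw => hV'x ⟨w, hw, rfl⟩
  have hex : ∃ v ∈ V', Q v ≠ 0 := by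
    by_contra hcon
    push Not at hcon
    obtain ⟨v, hv, hv0⟩ := Submodule.exists_mem_ne_zero_of_ne_bot hb
    apply hv0
    apply hV'n v hv
    intro w hw
    rw [pB_apply]
    unfold polar
    rw [hcon _ (V'.add_mem hv hw), hcon v hv, hcon w hw]
    simp
  obtain ⟨v, hvV, hc⟩ := hex
  have hvx := polar_self_map Q x h2 hQx hx v
  have hQxv : Q (x v) = Q v := hQx v
  have hQab : ∀ a b : F, Q (a • v + b • x v) = (a * a + b * b) * Q v := by
    intro a b
    rw [QuadraticMap.map_add Q (a • v) (b • x v), QuadraticMap.map_smul, QuadraticMap.map_smul,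
      hQxv, polar_smul_left, polar_smul_right, ← pB_apply, hvx]
    simp only [smul_eq_mul, mul_zero]
    ring
  have hvv : polarBilin Q v v = 2 * Q v := by
    rw [pB_apply, polar_self, nsmul_eq_mul, Nat.cast_ofNat]
  have hxvxv : polarBilin Q (x v) (x v) = 2 * Q v := by
    rw [pB_apply, polar_self, hQxv, nsmul_eq_mul, Nat.cast_ofNat]
  have hxvv : polarBilin Q (x v) v = 0 := by rw [hS, hvx]
  have hind : ∀ a b : F, a • v + b • x v = 0 → a = 0 ∧ b = 0 := by
    intro a b hab
    have h1 := hQab a b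
    rw [hab, QuadraticMap.map_zero] at h1
    rcases mul_eq_zero.mp h1.symm with h | h
    · exact hns a b h
    · exact absurd h hc
  have hPn : NondegOn (polarBilin Q) (span F {v, x v}) := by
    intro u hu h0
    obtain ⟨a, b, rfl⟩ := mem_span_pair.mp hu
    have h1 := h0 v (subset_span (by simp))
    have h3 := h0 (x v) (subset_span (by simp))
    rw [map_add, LinearMap.add_apply, map_smul, map_smul, LinearMap.smul_apply,
      LinearMap.smul_apply, smul_eq_mul, smul_eq_mul] at h1 h3
    rw [hvv, hxvv] at h1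
    rw [hvx, hxvxv] at h3
    have ha : a = 0 := by
      have : a * (2 * Q v) = 0 := by linear_combination h1
      rcases mul_eq_zero.mp this with h | h
      · exact h
      · exact absurd h (mul_ne_zero h2 hc)
    have hb' : b = 0 := by
      have : b * (2 * Q v) = 0 := by linear_combination h3
      rcases mul_eq_zero.mp this with h | h
      · exact h
      · exact absurd h (mul_ne_zero h2 hc)
    rw [ha, hb']
    simp
  refine ⟨span F {v, x v}, ?_, ?_, hPn, finrank_span_pair' hind, ?_⟩
  · rw [span_le]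
    rintro u (rfl | rfl)
    · exact hvV
    · exact hxV' _ hvV
  · rw [Submodule.map_span_le]
    rintro u hu
    rcases hu with rfl | rfl
    · exact subset_span (by simp)
    · rw [hx]
      exact Submodule.neg_mem _ (subset_span (by simp))
  · rcases sgnOn_cases Q hPn 1 (by rw [finrank_span_pair' hind]) with h | h
    · exfalso
      obtain ⟨u, hu, hu0, hQu⟩ := (sgnOn_plane_iff Q _ hPn (finrank_span_pair' hind)).mp h
      obtain ⟨a, b, rfl⟩ := mem_span_pair.mp hu
      rw [hQab] at hQu
      rcases mul_eq_zero.mp hQu with h' | h'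
      · obtain ⟨ha, hb'⟩ := hns a b h'
        apply hu0
        rw [ha, hb']
        simp
      · exact hc h'
    · exact h

end sqneg

end Cfsg.Agent.Lib.Helper6.OrtS
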