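import Mathlib
import Cfsg.Agent.Lib.Helper6.OrtS11

/-!
# An explicit unipotent isometry of the plus type form with a large totally singular range

`AltM F d` is the alternating matrix `diag(sg) * Rev`; `UA F d = [[1, AltM], [0, 1]]`.
-/

set_option autoImplicit false

namespace Cfsg.Agent.Lib.Helper6.OrtS

open Module Matrix

section altm
variable (F : Type*) [Field F] (d : ℕ)

/-- the sign of `i` relative to its mirror image -/
def sg (i : Fin d) : F :=
  if (i : ℕ) < (Fin.rev i : ℕ) then 1 else if (Fin.rev i : ℕ) < (i : ℕ) then -1 else 0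

theorem sg_rev (i : Fin d) : sg F d (Fin.rev i) = - sg F d i := by
  unfold sg
  rw [Fin.rev_rev]
  split_ifs <;> first | omega | simp

theorem sg_of_fixed (i : Fin d) (h : Fin.rev i = i) : sg F d i = 0 := by
  unfold sg
  rw [h]
  simp

theorem sg_mul_self (i : Fin d) (h : Fin.rev i ≠ i) : sg F d i * sg F d i = 1 := by
  have h' : (Fin.rev i : ℕ) ≠ (i : ℕ) := fun hh => h (Fin.ext hh)
  unfold sg
  split_ifs <;> first | omega | simp

theorem sg_ne_zero (i : Fin d) (h : Fin.rev i ≠ i) : sg F d i ≠ 0 := by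
  intro h0
  have := sg_mul_self F d i h
  rw [h0, mul_zero] at this
  exact zero_ne_one this

/-- the alternating matrix -/
def AltM : Matrix (Fin d) (Fin d) F := Matrix.of fun i j => if j = Fin.rev i then sg F d i else 0

theorem AltM_mulVec (w : Fin d → F) (i : Fin d) :
    (AltM F d *ᵥ w) i = sg F d i * w (Fin.rev i) := by
  simp [AltM, Matrix.mulVec, dotProduct]

theorem AltM_alt (w : Fin d → F) : ∑ i, (AltM F d *ᵥ w) i * w i = 0 := by
  apply Finset.sum_ninvolution (fun i => Fin.rev i)
  · intro a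
    rw [AltM_mulVec, AltM_mulVec, sg_rev, Fin.rev_rev]
    ring
  · intro a ha hfix
    apply ha
    rw [AltM_mulVec, sg_of_fixed F d a hfix, zero_mul, zero_mul]
  · intro a
    exact Finset.mem_univ _
  · intro a
    exact Fin.rev_rev a

/-- the unipotent matrix -/
def UA : Matrix (Fin d ⊕ Fin d) (Fin d ⊕ Fin d) F := fromBlocks 1 (AltM F d) 0 1

theorem UA_mulVec_inl (v : Fin d ⊕ Fin d → F) (i : Fin d) :
    (UA F d *ᵥ v) (Sum.inl i) = v (Sum.inl i) + sg F d i * v (Sum.inr (Fin.rev i)) := by
  rw [UA, fromBlocks_mulVec]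
  simp only [Sum.elim_inl, Pi.add_apply, one_mulVec, Function.comp]
  rw [AltM_mulVec]
  rfl

theorem UA_mulVec_inr (v : Fin d ⊕ Fin d → F) (i : Fin d) :
    (UA F d *ᵥ v) (Sum.inr i) = v (Sum.inr i) := by
  rw [UA, fromBlocks_mulVec]
  simp

theorem UA_pres (v : Fin d ⊕ Fin d → F) :
    Cfsg.quadFormPlus d F (UA F d *ᵥ v) = Cfsg.quadFormPlus d F v := by
  unfold Cfsg.quadFormPlus
  have : ∀ i : Fin d, (UA F d *ᵥ v) (Sum.inl i) * (UA F d *ᵥ v) (Sum.inr i) =
      v (Sum.inl i) * v (Sum.inr i) +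
        (AltM F d *ᵥ (fun j => v (Sum.inr j))) i * v (Sum.inr i) := by
    intro i
    rw [UA_mulVec_inl, UA_mulVec_inr, AltM_mulVec, add_mul]
  rw [Finset.sum_congr rfl (fun i _ => this i), Finset.sum_add_distrib,
    AltM_alt F d (fun i => v (Sum.inr i)), add_zero]

theorem UA_pow (k : ℕ) : UA F d ^ k = fromBlocks 1 ((k : F) • AltM F d) 0 1 := by
  induction k with
  | zero =>
    rw [pow_zero, Nat.cast_zero, zero_smul, fromBlocks_one]
  | succ k ih =>
    rw [pow_succ, ih, UA, fromBlocks_multiply]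
    congr 1
    · simp
    · rw [Matrix.one_mul, Matrix.mul_one, Nat.cast_succ, add_smul, one_smul, add_comm]
    · simp
    · simp

theorem UA_pow_char (p : ℕ) [CharP F p] : UA F d ^ p = 1 := by
  rw [UA_pow, CharP.cast_eq_zero, zero_smul, fromBlocks_one]

theorem UA_ne_smul (hd : 2 ≤ d) (z : F) :
    UA F d ≠ z • (1 : Matrix (Fin d ⊕ Fin d) (Fin d ⊕ Fin d) F) := by
  intro h
  have h0 : (0 : ℕ) < d := by omega
  have h1 := congrFun (congrFun h (Sum.inl ⟨0, h0⟩)) (Sum.inr (Fin.rev ⟨0, h0⟩))
  rw [UA, fromBlocks_apply₁₂, Matrix.smul_apply, Matrix.one_apply_ne (by simp), smul_zero] at h1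
  have h3 : AltM F d ⟨0, h0⟩ (Fin.rev ⟨0, h0⟩) = sg F d ⟨0, h0⟩ := by
    simp [AltM]
  rw [h3] at h1
  have h4 : sg F d ⟨0, h0⟩ = 1 := by
    unfold sg
    rw [if_pos]
    rw [Fin.val_rev]
    simp only
    omega
  rw [h4] at h1
  exact one_ne_zero h1

/-- the vectors moved to zero by `UA - 1` -/
theorem UA_fixed_iff (v : Fin d ⊕ Fin d → F) :
    UA F d *ᵥ v = v ↔ ∀ i, Fin.rev i ≠ i → v (Sum.inr i) = 0 := by
  constructor
  · intro h i hi
    have h1 := congrFun h (Sum.inl (Fin.rev i))
    rw [UA_mulVec_inl, Fin.rev_rev] at h1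
    have h3 : sg F d (Fin.rev i) * v (Sum.inr i) = 0 := by linear_combination h1
    rcases mul_eq_zero.mp h3 with h4 | h4
    · exact absurd h4 (sg_ne_zero F d (Fin.rev i) (by rw [Fin.rev_rev]; exact fun hh => hi hh.symm))
    · exact h4
  · intro h
    funext j
    rcases j with i | i
    · rw [UA_mulVec_inl]
      by_cases hi : Fin.rev i = i
      · rw [sg_of_fixed F d i hi, zero_mul, add_zero]
      · rw [h (Fin.rev i) (by rw [Fin.rev_rev]; exact fun hh => hi hh.symm), mul_zero, add_zero]
    · rw [UA_mulVec_inr]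

/-- the range of `UA - 1` has dimension at least `d - 1` -/
theorem finrank_range_UA (hd : 1 ≤ d) :
    d ≤ finrank F (LinearMap.range (Matrix.toLin' (UA F d) - 1)) + 1 := by
  have hmid : (d - 1) / 2 < d := by omega
  -- the kernel embeds into `F^d × F`
  let ψ : LinearMap.ker (Matrix.toLin' (UA F d) - 1) →ₗ[F] (Fin d → F) × F :=
    { toFun := fun v => (fun i => v.1 (Sum.inl i), v.1 (Sum.inr ⟨(d - 1) / 2, hmid⟩))
      map_add' := fun a b => rfl
      map_smul' := fun c a => rfl }
  have hψ : Function.Injective ψ := by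
    rw [← LinearMap.ker_eq_bot, LinearMap.ker_eq_bot']
    intro v hv
    have hv1 : ∀ i, v.1 (Sum.inl i) = 0 := fun i => congrFun (congrArg Prod.fst hv) i
    have hv2 : v.1 (Sum.inr ⟨(d - 1) / 2, hmid⟩) = 0 := congrArg Prod.snd hv
    have hfix : UA F d *ᵥ v.1 = v.1 := by
      have := v.2
      rw [LinearMap.mem_ker, LinearMap.sub_apply, Matrix.toLin'_apply, Module.End.one_apply,
        sub_eq_zero] at this
      exact this
    have h3 := (UA_fixed_iff F d v.1).mp hfix
    apply Subtype.ext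
    funext j
    rcases j with i | i
    · exact hv1 i
    · by_cases hi : Fin.rev i = i
      · have : i = ⟨(d - 1) / 2, hmid⟩ := by
          apply Fin.ext
          have := congrArg Fin.val hi
          rw [Fin.val_rev] at this
          simp only
          omega
        rw [this]
        exact hv2
      · exact h3 i hi
  have h1 := LinearMap.finrank_le_finrank_of_injective hψ
  rw [Module.finrank_prod, Module.finrank_fin_fun, Module.finrank_self] at h1
  have h3 := LinearMap.finrank_range_add_finrank_ker (Matrix.toLin' (UA F d) - 1)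
  rw [Module.finrank_fintype_fun_eq_card, Fintype.card_sum, Fintype.card_fin] at h3
  omega

/-- the range of `UA - 1` is totally singular -/
theorem UA_range_sing (v : Fin d ⊕ Fin d → F) :
    Cfsg.quadFormPlus d F (UA F d *ᵥ v - v) = 0 := by
  unfold Cfsg.quadFormPlus
  apply Finset.sum_eq_zero
  intro i _
  rw [Pi.sub_apply, Pi.sub_apply, UA_mulVec_inr, sub_self, mul_zero]

end altm

end Cfsg.Agent.Lib.Helper6.OrtS
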