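import Mathlib
import Cfsg.Agent.Lib.Helper6.OrtT4
import Cfsg.Agent.Lib.Helper6.OrtP1
import Cfsg.Agent.Lib.Helper13.DicksonGen
import Cfsg.Agent.Lib.Helper13.OrthInvolCount

/-!
# A unipotent element of `Ω⁺_{2d}(q)` of order `p` all of whose invariant nondegenerate subspaces
are of plus type
-/

set_option autoImplicit false

namespace Cfsg.Agent.Lib.Helper6.OrtS

open Module Submodule QuadraticMap Cfsg.Agent.Lib.Helper15.PSpI Cfsg.Agent.Lib.Helper14.OrthEven
  Cfsg.Agent.Lib.Helper15.PSpJ Cfsg.Agent.Lib.Helper15.PDec Cfsg.Agent.Lib.Helper15.PSub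
  Cfsg.Agent.Lib.Helper15 Matrix

universe u

section abs

variable {F : Type u} {V : Type*} [Field F] [Fintype F] [AddCommGroup V] [Module F V]
  [FiniteDimensional F V]
variable (Q : QuadraticForm F V)

/-- totally singular subspaces of a minus type space of dimension `2a` have dimension `< a` -/
theorem ts_finrank_lt_of_minus (W : Submodule F V) (hW : NondegOn (polarBilin Q) W) (a : ℕ)
    (hWa : finrank F W = 2 * a) (hs : SgnOn Q W (-1)) (U : Submodule F V) (hUW : U ≤ W)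
    (hU : ∀ u ∈ U, Q u = 0) : finrank F U + 1 ≤ a := by
  by_contra hcon
  obtain ⟨U₀, hU₀, hU₀f⟩ := exists_le_finrank_eq U a (by omega)
  have h1 : SgnOn Q W 1 := (sgnOn_one_iff_plus Q W hW a hWa).mpr
    ⟨U₀, hU₀.trans hUW, fun u hu => hU u (hU₀ hu), hU₀f⟩
  have := SgnOn.unique Q hs h1
  omega

/-- an isometry `x` such that `x - 1` has a large totally singular range: every invariant
nondegenerate subspace is of plus type -/
theorem plus_of_unip (hQ : NondegOn (polarBilin Q) ⊤) (d : ℕ) (hd : finrank F V = 2 * d)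
    (hsV : SgnOn Q ⊤ 1) (x : V →ₗ[F] V) (hQx : ∀ v, Q (x v) = Q v)
    (hinj : Function.Injective x) (hN : ∀ v, Q (x v - v) = 0)
    (hrk : d ≤ finrank F (LinearMap.range (x - 1)) + 1)
    (W : Submodule F V) (hWx : W.map x ≤ W) (hWn : NondegOn (polarBilin Q) W) (a : ℕ)
    (hWa : finrank F W = 2 * a) : SgnOn Q W 1 := by
  have hS := pB_symm Q
  have hiso := iso_of_Q Q x hQx
  rcases sgnOn_cases Q hWn a hWa with h | h
  · exact h
  exfalso
  have hWx' : W.map x = W := map_eq_of_invt x hinj W (by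
    rw [Module.End.mem_invtSubmodule_iff_map_le]; exact hWx)
  obtain ⟨W', hW'⟩ : ∃ W', W' = perpIn (polarBilin Q) ⊤ W := ⟨_, rfl⟩
  have hW'n : NondegOn (polarBilin Q) W' := by
    rw [hW']; exact nondegOn_perpIn' hS le_top hWn hQ
  have hfr := finrank_perpIn' hS (le_top : W ≤ ⊤) hWn
  rw [finrank_top, hd, ← hW'] at hfr
  have hsup := sup_perpIn' hS (le_top : W ≤ ⊤) hWn
  rw [← hW'] at hsup
  have ho : Orth (polarBilin Q) W W' := by rw [hW']; exact orth_perpIn ⊤ W
  have hW'x : W'.map x ≤ W' := by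
    rintro _ ⟨t, ht, rfl⟩
    rw [hW'] at ht ⊢
    obtain ⟨-, ht2⟩ := mem_perpIn.mp ht
    refine mem_perpIn.mpr ⟨mem_top, ?_⟩
    intro u hu
    rw [← hWx'] at hu
    obtain ⟨u', hu', rfl⟩ := hu
    rw [hiso]
    exact ht2 u' hu'
  have hW'f : finrank F W' = 2 * (d - a) := by omega
  have hs' : SgnOn Q W' (-1) := by
    rcases sgnOn_cases Q hW'n (d - a) hW'f with h' | h'
    · exfalso
      have h1 := sgnOn_sup Q ho (orth_disjoint hS ho hWn) (by rw [hWa]; exact even_two_mul a)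
        (by rw [hW'f]; exact even_two_mul _) h h'
      rw [hsup] at h1
      have := SgnOn.unique Q hsV h1
      omega
    · exact h'
  -- the images of `W` and `W'` under `x - 1`
  have hsub : ∀ (Y : Submodule F V), Y.map x ≤ Y → Y.map (x - 1) ≤ Y := by
    intro Y hY
    rintro _ ⟨w, hw, rfl⟩
    rw [LinearMap.sub_apply, Module.End.one_apply]
    exact Y.sub_mem (hY ⟨w, hw, rfl⟩) hw
  have hts : ∀ (Y : Submodule F V), ∀ u ∈ Y.map (x - 1), Q u = 0 := by
    rintro Y _ ⟨w, -, rfl⟩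
    rw [LinearMap.sub_apply, Module.End.one_apply]
    exact hN w
  have h1 := ts_finrank_lt_of_minus Q W hWn a hWa h _ (hsub W hWx) (hts W)
  have h3 := ts_finrank_lt_of_minus Q W' hW'n (d - a) hW'f hs' _ (hsub W' hW'x) (hts W')
  have h4 : LinearMap.range (x - 1) = W.map (x - 1) ⊔ W'.map (x - 1) := by
    rw [LinearMap.range_eq_map, ← hsup, Submodule.map_sup]
  have h5 := Submodule.finrank_add_le_finrank_add_finrank (W.map (x - 1)) (W'.map (x - 1))
  rw [← h4] at h5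
  omega

end abs

section mat

variable {F : Type u} [Field F] [Fintype F]

theorem UA_mul_inv (d : ℕ) : UA F d * fromBlocks 1 (-AltM F d) 0 1 = 1 := by
  rw [UA, Matrix.fromBlocks_multiply, ← Matrix.fromBlocks_one]
  congr 1 <;> simp

theorem UA_inv_mul (d : ℕ) : fromBlocks 1 (-AltM F d) 0 1 * UA F d = 1 := by
  rw [UA, Matrix.fromBlocks_multiply, ← Matrix.fromBlocks_one]
  congr 1 <;> simp

/-- `UA` as an element of the general linear group -/
noncomputable def xU (d : ℕ) : GL (Fin d ⊕ Fin d) F :=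
  ⟨UA F d, Matrix.fromBlocks 1 (-AltM F d) 0 1, UA_mul_inv d, UA_inv_mul d⟩

theorem xU_val (d : ℕ) : ((xU d : GL (Fin d ⊕ Fin d) F) : Matrix _ _ F) = UA F d := rfl

theorem xU_mem (d : ℕ) : (xU d : GL (Fin d ⊕ Fin d) F) ∈ Cfsg.isometryGroup F ⇑(QPlus F d) := by
  rw [OmegaAut.mem_isometryGroup_iff]
  intro u
  rw [xU_val, QPlus_apply, QPlus_apply]
  exact UA_pres F d u

theorem xU_pow (p : ℕ) [CharP F p] (d : ℕ) : (xU d : GL (Fin d ⊕ Fin d) F) ^ p = 1 := by
  apply Units.ext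
  rw [Units.val_pow_eq_pow_val, xU_val, UA_pow_char F d p]
  rfl

theorem xU_mem_Omega (p : ℕ) [hp : Fact p.Prime] [CharP F p] (d : ℕ) (hd : 3 ≤ d) :
    (⟨xU d, xU_mem d⟩ : ↥(Cfsg.isometryGroup F ⇑(QPlus F d))) ∈ Cfsg.Omega F ⇑(QPlus F d) := by
  have hcard : Fintype.card (Fin d ⊕ Fin d) = 2 * d := by simp [two_mul]
  have hQ := nondegenerate_QPlus F d
  have hpow : (⟨xU d, xU_mem d⟩ : ↥(Cfsg.isometryGroup F ⇑(QPlus F d))) ^ p = 1 :=
    Subtype.ext (xU_pow p d)
  rcases hp.out.eq_two_or_odd' with h2 | hodd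
  · subst h2
    have hne : (⟨xU d, xU_mem d⟩ : ↥(Cfsg.isometryGroup F ⇑(QPlus F d))) ≠ 1 := by
      intro h
      have h1 := congrArg (fun g : ↥(Cfsg.isometryGroup F ⇑(QPlus F d)) =>
        ((g.1 : GL (Fin d ⊕ Fin d) F) : Matrix (Fin d ⊕ Fin d) (Fin d ⊕ Fin d) F)) h
      simp only at h1
      rw [xU_val] at h1
      apply UA_ne_smul F d (by omega) 1
      rw [one_smul]
      exact h1
    have hord : orderOf (⟨xU d, xU_mem d⟩ : ↥(Cfsg.isometryGroup F ⇑(QPlus F d))) = 2 :=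
      orderOf_eq_prime hpow hne
    rw [Cfsg.Agent.Lib.Helper13.isometryGroup_involution_mem_Omega_iff' (⇑(QPlus F d)) (QPlus F d)
      (fun _ => rfl) hQ (by rw [hcard]; omega) _ hord]
    rw [Cfsg.Agent.Lib.Helper13.rank_sub_one_eq (⇑(QPlus F d)) (QPlus F d) (fun _ => rfl)]
    have htt : Cfsg.Agent.Lib.Helper13.isoEquiv (⇑(QPlus F d)) (QPlus F d) (fun _ => rfl)
        ⟨xU d, xU_mem d⟩ *
        Cfsg.Agent.Lib.Helper13.isoEquiv (⇑(QPlus F d)) (QPlus F d) (fun _ => rfl)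
          ⟨xU d, xU_mem d⟩ = 1 := by
      rw [← map_mul, ← pow_two, hpow, map_one]
    refine ((Cfsg.Agent.Lib.Helper13.invol_rank_facts (QPlus F d) hQ _ htt).2.2 ?_).1
    intro v
    rw [Cfsg.Agent.Lib.Helper13.isoEquiv_apply]
    change polar (QPlus F d) v (UA F d *ᵥ v - v) = 0
    rw [polar_QPlus]
    have : ∀ i : Fin d, v (Sum.inl i) * (UA F d *ᵥ v - v) (Sum.inr i) +
        v (Sum.inr i) * (UA F d *ᵥ v - v) (Sum.inl i) =
        (AltM F d *ᵥ (fun j => v (Sum.inr j))) i * v (Sum.inr i) := by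
      intro i
      rw [Pi.sub_apply, Pi.sub_apply, UA_mulVec_inr, UA_mulVec_inl, AltM_mulVec]
      ring
    rw [Finset.sum_congr rfl (fun i _ => this i), AltM_alt]
  · exact mem_Omega_of_pow_odd' (QPlus F d) hQ (by rw [hcard]; omega)
      (Or.inr (by rw [hcard]; omega)) _ p hodd hpow

/-- for `r = p` there is an element of order `p` of `Ω⁺_{2d}(q)` fixing no minus type space -/
theorem exists_derangement_p (p : ℕ) [hp : Fact p.Prime] [CharP F p] (d : ℕ) (hd : 4 ≤ d)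
    (m : ℕ) (hm : Even m) :
    ∃ x : GL (Fin d ⊕ Fin d) F, x ∈ Cfsg.Geo.omegaGL (Cfsg.quadFormPlus d F) ∧ x ^ p = 1 ∧
      (∀ z : F, (x : Matrix (Fin d ⊕ Fin d) (Fin d ⊕ Fin d) F) ≠
        z • (1 : Matrix (Fin d ⊕ Fin d) (Fin d ⊕ Fin d) F)) ∧
      ∀ W : Submodule F (Fin d ⊕ Fin d → F), W ∈ NSet (QPlus F d) m (-1) →
        ¬ W.map (Matrix.toLin' (x : Matrix (Fin d ⊕ Fin d) (Fin d ⊕ Fin d) F)) ≤ W := by
  refine ⟨xU d, ?_, xU_pow p d, fun z => UA_ne_smul F d (by omega) z, ?_⟩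
  · rw [← coe_QPlus]
    exact Subgroup.mem_map.mpr ⟨⟨xU d, xU_mem d⟩, xU_mem_Omega p d (by omega), rfl⟩
  · rintro W ⟨hWf, hWn, hWs⟩ hWx
    obtain ⟨a, ha⟩ := hm
    rw [xU_val] at hWx
    have hinj : Function.Injective (Matrix.toLin' (UA F d)) := by
      intro u v huv
      rw [Matrix.toLin'_apply, Matrix.toLin'_apply] at huv
      have := congrArg (fun w => (Matrix.fromBlocks 1 (-AltM F d) 0 1 :
        Matrix (Fin d ⊕ Fin d) (Fin d ⊕ Fin d) F) *ᵥ w) huv
      simp only [Matrix.mulVec_mulVec, UA_inv_mul, Matrix.one_mulVec] at this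
      exact this
    have h1 := plus_of_unip (QPlus F d) (nondegOn_top_of _ (nondegenerate_QPlus F d)) d
      (by rw [Module.finrank_fintype_fun_eq_card]; simp [two_mul]) (sgnOn_top_QPlus d)
      (Matrix.toLin' (UA F d)) (fun v => by
        rw [Matrix.toLin'_apply, QPlus_apply, QPlus_apply]; exact UA_pres F d v) hinj
      (fun v => by rw [Matrix.toLin'_apply, QPlus_apply]; exact UA_range_sing F d v)
      (finrank_range_UA F d (by omega)) W hWx hWn a (by omega)
    have := SgnOn.unique (QPlus F d) hWs h1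
    omega

end mat

end Cfsg.Agent.Lib.Helper6.OrtS
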