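import Mathlib
import Cfsg.Agent.Lib.Helper6.OrtT5
import Cfsg.Agent.Lib.Helper6.OrtT3

/-!
# Involutions of orthogonal groups in characteristic two: explicit models

Models `1 + N` of alternating and non-alternating involutions with an explicit formula for `N`
(after `Helper13.exists_model_alt_abs`, `Helper13.exists_model_nonalt_abs`), and families of
pairwise orthogonal vectors of norm one, resp. singular vectors, in a nondegenerate subspace.
-/

set_option autoImplicit false

namespace Cfsg.Agent.Lib.Helper6.OrtS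

open Module Submodule QuadraticMap Cfsg.Agent.Lib.Helper15.PSpI Cfsg.Agent.Lib.Helper14.OrthEven
  Cfsg.Agent.Lib.Helper15.PSpJ Cfsg.Agent.Lib.Helper13

universe u

section models

variable {F V : Type u} [Field F] [Finite F] [CharP F 2] [AddCommGroup V] [Module F V]
  [FiniteDimensional F V] (Q : QuadraticForm F V)

omit [Finite F] in
/-- model of a non-alternating involution, with its formula -/
theorem exists_nonalt_model (hQ : (polarBilin Q).Nondegenerate) {ι : Type} [Fintype ι]
    [DecidableEq ι] [Nonempty ι] (w : ι → V) (hw : LinearIndependent F w)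
    (horth : ∀ i j, polar Q (w i) (w j) = 0) (hQw : ∀ i, Q (w i) = 1) :
    ∃ t : isoGroup Q, t * t = 1 ∧ (∀ x, t.1 x = x + ∑ c, polar Q (w c) x • w c) ∧
      finrank F (LinearMap.range (t.1.toLinearMap - LinearMap.id)) = Fintype.card ι ∧
      ∃ x, polar Q x (t.1 x - x) ≠ 0 := by
  set N := famMap Q w w with hNdef
  have hN : ∀ x, N x = ∑ c, polar Q (w c) x • w c := famMap_apply Q w w
  have hpN : ∀ c x, polar Q (w c) (N x) = 0 := by
    intro c x
    rw [hN, polar_sum_right']
    apply Finset.sum_eq_zero
    intro c' _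
    rw [polar_smul_right, horth, smul_zero]
  have hNN : ∀ x, N (N x) = 0 := by
    intro x
    rw [hN (N x)]
    apply Finset.sum_eq_zero
    intro c _
    rw [hpN, zero_smul]
  have h2 : ∀ x, polar Q x (N x) = ∑ c, polar Q (w c) x * polar Q (w c) x := by
    intro x
    rw [hN, polar_sum_right']
    refine Finset.sum_congr rfl (fun c _ => ?_)
    rw [polar_smul_right, smul_eq_mul, polar_comm Q x (w c)]
  have hQN : ∀ x, Q (N x) + polar Q x (N x) = 0 := by
    intro x
    have horth' : ∀ i j, polar Q (polar Q (w i) x • w i) (polar Q (w j) x • w j) = 0 := by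
      intro i j
      rw [polar_smul_left, polar_smul_right, horth, smul_zero, smul_zero]
    have h1 : Q (N x) = ∑ c, polar Q (w c) x * polar Q (w c) x := by
      rw [hN, map_sum_of_orth Q Finset.univ (fun c => polar Q (w c) x • w c) horth']
      refine Finset.sum_congr rfl (fun c _ => ?_)
      rw [QuadraticMap.map_smul, hQw, smul_eq_mul, mul_one]
    rw [h1, h2, CharTwo.add_self_eq_zero]
  obtain ⟨t, ht, htx⟩ := exists_iso_of_nilp Q N hNN hQN
  have htN : t.1.toLinearMap - LinearMap.id = N := by
    apply LinearMap.ext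
    intro x
    change t.1 x - x = N x
    rw [htx, add_sub_cancel_left]
  refine ⟨t, ht, fun x => by rw [htx, hN], ?_, ?_⟩
  · rw [htN]
    exact finrank_range_famMap Q hQ w w hw hw
  · obtain ⟨c0⟩ := ‹Nonempty ι›
    obtain ⟨x, hx⟩ := exists_polar_eq Q hQ w hw (fun c' => if c' = c0 then 1 else 0)
    refine ⟨x, ?_⟩
    have e1 : t.1 x - x = w c0 := by
      rw [htx, add_sub_cancel_left, hN]
      simp only [hx, ite_smul, one_smul, zero_smul, Finset.sum_ite_eq', Finset.mem_univ, if_true]
    rw [e1, polar_comm, hx, if_pos rfl]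
    exact one_ne_zero

omit [Finite F] in
/-- model of an alternating involution, with its formula; the pairing of the family is given
by a fixed point free involution `σ` of the index set -/
theorem exists_alt_model (hQ : (polarBilin Q).Nondegenerate) {ι : Type} [Fintype ι]
    [DecidableEq ι] (σ : ι → ι) (hσ : ∀ c, σ (σ c) = c) (hσ' : ∀ c, σ c ≠ c) (w : ι → V)
    (hw : LinearIndependent F w)
    (horth : ∀ i j, polar Q (w i) (w j) = 0) (hQw : ∀ i, Q (w i) = 0) :
    ∃ t : isoGroup Q, t * t = 1 ∧ (∀ x, t.1 x = x + ∑ c, polar Q (w c) x • w (σ c)) ∧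
      finrank F (LinearMap.range (t.1.toLinearMap - LinearMap.id)) = Fintype.card ι ∧
      ∀ x, polar Q x (t.1 x - x) = 0 := by
  set N := famMap Q w (fun c => w (σ c)) with hNdef
  have hN : ∀ x, N x = ∑ c, polar Q (w c) x • w (σ c) :=
    famMap_apply Q w (fun c => w (σ c))
  have hpN : ∀ c x, polar Q (w c) (N x) = 0 := by
    intro c x
    rw [hN, polar_sum_right']
    apply Finset.sum_eq_zero
    intro c' _
    rw [polar_smul_right, horth, smul_zero]
  have hNN : ∀ x, N (N x) = 0 := by
    intro x
    rw [hN (N x)]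
    apply Finset.sum_eq_zero
    intro c _
    rw [hpN, zero_smul]
  have h2 : ∀ x, polar Q x (N x) = 0 := by
    intro x
    rw [hN, polar_sum_right']
    have e0 : ∀ c : ι, polar Q x (polar Q (w c) x • w (σ c)) =
        polar Q (w c) x * polar Q (w (σ c)) x := by
      intro c
      rw [polar_smul_right, smul_eq_mul, polar_comm Q x (w (σ c))]
    rw [Finset.sum_congr rfl (fun c _ => e0 c)]
    refine Finset.sum_involution (fun c _ => σ c) ?_ ?_ (fun c _ => Finset.mem_univ _) ?_
    · intro c _
      rw [hσ, mul_comm (polar Q (w (σ c)) x), CharTwo.add_self_eq_zero]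
    · intro c _ _
      exact hσ' c
    · intro c _
      exact hσ c
  have hQN : ∀ x, Q (N x) + polar Q x (N x) = 0 := by
    intro x
    have horth' : ∀ i j : ι,
        polar Q (polar Q (w i) x • w (σ i)) (polar Q (w j) x • w (σ j)) = 0 := by
      intro i j
      rw [polar_smul_left, polar_smul_right, horth, smul_zero, smul_zero]
    have h1 : Q (N x) = 0 := by
      rw [hN, map_sum_of_orth Q Finset.univ (fun c => polar Q (w c) x • w (σ c)) horth']
      apply Finset.sum_eq_zero
      intro c _
      rw [QuadraticMap.map_smul, hQw, smul_zero]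
    rw [h1, h2, add_zero]
  obtain ⟨t, ht, htx⟩ := exists_iso_of_nilp Q N hNN hQN
  have htN : t.1.toLinearMap - LinearMap.id = N := by
    apply LinearMap.ext
    intro x
    change t.1 x - x = N x
    rw [htx, add_sub_cancel_left]
  refine ⟨t, ht, fun x => by rw [htx, hN], ?_, ?_⟩
  · rw [htN]
    have hinj : Function.Injective σ := fun a b hab => by
      rw [← hσ a, ← hσ b, hab]
    have hw' : LinearIndependent F (fun c : ι => w (σ c)) := hw.comp σ hinj
    exact finrank_range_famMap Q hQ w (fun c => w (σ c)) hw hw'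
  · intro x
    rw [htx, add_sub_cancel_left]
    exact h2 x

end models

section families

variable {F V : Type u} [Field F] [Fintype F] [CharP F 2] [AddCommGroup V] [Module F V]
  [FiniteDimensional F V] (Q : QuadraticForm F V)

omit [Fintype F] [FiniteDimensional F V] in
theorem polar_self_two (v : V) : polar Q v v = 0 := polar_self_charTwo Q v

omit [CharP F 2] [Fintype F] [FiniteDimensional F V] in
/-- a nonzero nondegenerate subspace contains a nonsingular vector -/
theorem exists_nonsing (X : Submodule F V) (hX : NondegOn (polarBilin Q) X)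
    (hpos : 0 < finrank F X) : ∃ v ∈ X, Q v ≠ 0 := by
  by_contra hcon
  push Not at hcon
  have hbot : X = ⊥ := by
    rw [eq_bot_iff]
    intro u hu
    rw [mem_bot]
    apply hX u hu
    intro v hv
    rw [pB_apply]
    unfold polar
    rw [hcon _ (X.add_mem hu hv), hcon _ hu, hcon _ hv]
    simp
  rw [hbot, finrank_bot] at hpos
  exact lt_irrefl _ hpos

/-- pairwise orthogonal independent vectors of norm one in a nondegenerate subspace -/
theorem exists_norm_one_fin (n : ℕ) : ∀ (X : Submodule F V), NondegOn (polarBilin Q) X →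
    finrank F X = 2 * n → ∃ w : Fin n → V, (∀ i, w i ∈ X) ∧ LinearIndependent F w ∧
      (∀ i j, polar Q (w i) (w j) = 0) ∧ ∀ i, Q (w i) = 1 := by
  have hS := pB_symm Q
  induction n with
  | zero =>
    intro X _ _
    exact ⟨fun i => i.elim0, fun i => i.elim0, linearIndependent_empty_type,
      fun i => i.elim0, fun i => i.elim0⟩
  | succ n ih =>
    intro X hX hXn
    obtain ⟨v, hvX, hv⟩ := exists_nonsing Q X hX (by omega)
    obtain ⟨s, hs⟩ := FiniteField.isSquare_of_char_two (CharP.ringChar_of_prime_eq_zero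
      Nat.prime_two (CharP.cast_eq_zero F 2)) (Q v)
    have hs0 : s ≠ 0 := by
      rintro rfl
      rw [mul_zero] at hs
      exact hv hs
    obtain ⟨w₀, hw₀, hw₀X⟩ : ∃ w₀, Q w₀ = 1 ∧ w₀ ∈ X := by
      refine ⟨s⁻¹ • v, ?_, X.smul_mem _ hvX⟩
      rw [QuadraticMap.map_smul, hs, smul_eq_mul]
      field_simp
    have hw₀ne : w₀ ≠ 0 := by
      rintro rfl
      rw [map_zero] at hw₀
      exact zero_ne_one hw₀
    obtain ⟨u, huX, hu⟩ : ∃ u ∈ X, polar Q w₀ u ≠ 0 := by
      by_contra hcon
      push Not at hcon
      exact hw₀ne (hX w₀ hw₀X (fun v hv => hcon v hv))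
    obtain ⟨P, hP⟩ : ∃ P : Submodule F V, P = span F {w₀, u} := ⟨_, rfl⟩
    have hPX : P ≤ X := by
      rw [hP, span_le]
      rintro x (rfl | rfl)
      · exact hw₀X
      · exact huX
    have hw₀P : w₀ ∈ P := by rw [hP]; exact subset_span (by simp)
    have hPn : NondegOn (polarBilin Q) P := by
      intro x hx h0
      rw [hP, mem_span_pair] at hx
      obtain ⟨α, β, rfl⟩ := hx
      have h1 := h0 w₀ hw₀P
      have h2 := h0 u (by rw [hP]; exact subset_span (by simp))
      rw [pB_apply, polar_add_left, polar_smul_left, polar_smul_left, polar_self_two,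
        smul_zero, zero_add, smul_eq_mul, polar_comm] at h1
      rw [pB_apply, polar_add_left, polar_smul_left, polar_smul_left, polar_self_two,
        smul_zero, add_zero, smul_eq_mul] at h2
      have hβ : β = 0 := (mul_eq_zero.mp h1).resolve_right hu
      have hα : α = 0 := (mul_eq_zero.mp h2).resolve_right hu
      rw [hα, hβ, zero_smul, zero_smul, add_zero]
    have hPf : finrank F P = 2 := by
      rw [hP]
      apply finrank_span_pair'
      intro α β hαβ
      have h1 : polar Q (α • w₀ + β • u) w₀ = 0 := by rw [hαβ, polar_zero_left]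
      have h2 : polar Q (α • w₀ + β • u) u = 0 := by rw [hαβ, polar_zero_left]
      rw [polar_add_left, polar_smul_left, polar_smul_left, polar_self_two,
        smul_zero, zero_add, smul_eq_mul, polar_comm] at h1
      rw [polar_add_left, polar_smul_left, polar_smul_left, polar_self_two,
        smul_zero, add_zero, smul_eq_mul] at h2
      exact ⟨(mul_eq_zero.mp h2).resolve_right hu, (mul_eq_zero.mp h1).resolve_right hu⟩
    have hX'n := nondegOn_perpIn' hS hPX hPn hX
    have hX'f := finrank_perpIn' hS hPX hPn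
    obtain ⟨w', hw'X, hw'l, hw'o, hw'q⟩ := ih (perpIn (polarBilin Q) X P) hX'n (by omega)
    refine ⟨Fin.cons w₀ w', ?_, ?_, ?_, ?_⟩
    · intro i
      refine Fin.cases ?_ (fun j => ?_) i
      · exact hw₀X
      · rw [Fin.cons_succ]
        exact perpIn_le X P (hw'X j)
    · rw [linearIndependent_finCons]
      refine ⟨hw'l, fun hmem => ?_⟩
      have h1 : w₀ ∈ perpIn (polarBilin Q) X P := by
        have : span F (Set.range w') ≤ perpIn (polarBilin Q) X P := by
          rw [span_le]
          rintro _ ⟨j, rfl⟩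
          exact hw'X j
        exact this hmem
      have hdis := orth_disjoint hS (orth_perpIn X P) hPn
      exact hw₀ne ((Submodule.disjoint_def.mp hdis) w₀ hw₀P h1)
    · intro i j
      refine Fin.cases ?_ (fun i' => ?_) i
      · refine Fin.cases ?_ (fun j' => ?_) j
        · rw [Fin.cons_zero]; exact polar_self_two Q _
        · rw [Fin.cons_zero, Fin.cons_succ]
          exact (mem_perpIn.mp (hw'X j')).2 w₀ hw₀P
      · refine Fin.cases ?_ (fun j' => ?_) j
        · rw [Fin.cons_zero, Fin.cons_succ, polar_comm]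
          exact (mem_perpIn.mp (hw'X i')).2 w₀ hw₀P
        · rw [Fin.cons_succ, Fin.cons_succ]
          exact hw'o i' j'
    · intro i
      refine Fin.cases ?_ (fun j => ?_) i
      · rw [Fin.cons_zero]; exact hw₀
      · rw [Fin.cons_succ]; exact hw'q j

/-- the same for an arbitrary index type of cardinality at most half the dimension -/
theorem exists_norm_one_fam (X : Submodule F V) (hX : NondegOn (polarBilin Q) X) (n : ℕ)
    (hXn : finrank F X = 2 * n) {ι : Type} [Fintype ι] (hι : Fintype.card ι ≤ n) :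
    ∃ w : ι → V, (∀ i, w i ∈ X) ∧ LinearIndependent F w ∧
      (∀ i j, polar Q (w i) (w j) = 0) ∧ ∀ i, Q (w i) = 1 := by
  obtain ⟨w, h1, h2, h3, h4⟩ := exists_norm_one_fin Q n X hX hXn
  refine ⟨fun i => w (Fin.castLE hι (Fintype.equivFin ι i)), fun i => h1 _, ?_,
    fun i j => h3 _ _, fun i => h4 _⟩
  exact h2.comp _ ((Fin.castLE_injective hι).comp (Fintype.equivFin ι).injective)

/-- the Witt index of a space of dimension `2n` and sign `σ` -/
def wi (σ : ℤ) (n : ℕ) : ℕ := if σ = 1 then n else n - 1

omit [CharP F 2] in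
/-- a totally singular subspace of the dimension of the Witt index -/
theorem exists_ts_sub (X : Submodule F V) (hX : NondegOn (polarBilin Q) X) (n : ℕ)
    (hXn : finrank F X = 2 * n) (σ : ℤ) (hσ : σ = 1 ∨ σ = -1) (hs : SgnOn Q X σ) :
    ∃ U : Submodule F V, U ≤ X ∧ (∀ u ∈ U, Q u = 0) ∧ finrank F U = wi σ n := by
  rcases hσ with rfl | rfl
  · rw [wi, if_pos rfl]
    exact (sgnOn_one_iff_plus Q X hX n hXn).mp hs
  · rw [wi, if_neg (by norm_num)]
    rcases Nat.eq_zero_or_pos n with h0 | hpos
    · exact ⟨⊥, bot_le, fun u hu => by rw [(mem_bot F).mp hu, map_zero],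
        by rw [finrank_bot, h0]⟩
    · obtain ⟨W₁, hW₁X, hW₁n, hW₁f, hW₁s⟩ := exists_sub Q X hX (2 * n) hXn (even_two_mul n) (-1)
        (Or.inr rfl) hs (2 * (n - 1)) (even_two_mul _) 1 (Or.inl rfl)
        ⟨by omega, fun _ => rfl, fun h => by omega⟩
      obtain ⟨U, hU, hUs, hUf⟩ := (sgnOn_one_iff_plus Q W₁ hW₁n (n - 1) hW₁f).mp hW₁s
      exact ⟨U, hU.trans hW₁X, hUs, hUf⟩

omit [CharP F 2] in
/-- independent pairwise orthogonal singular vectors in a nondegenerate subspace -/
theorem exists_ts_fam (X : Submodule F V) (hX : NondegOn (polarBilin Q) X) (n : ℕ)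
    (hXn : finrank F X = 2 * n) (σ : ℤ) (hσ : σ = 1 ∨ σ = -1) (hs : SgnOn Q X σ)
    {ι : Type} [Fintype ι] (hι : Fintype.card ι ≤ wi σ n) :
    ∃ w : ι → V, (∀ i, w i ∈ X) ∧ LinearIndependent F w ∧
      (∀ i j, polar Q (w i) (w j) = 0) ∧ ∀ i, Q (w i) = 0 := by
  obtain ⟨U, hUX, hUs, hUf⟩ := exists_ts_sub Q X hX n hXn σ hσ hs
  obtain ⟨f, hf⟩ := exists_linearIndependent_of_le_finrank (R := F) (M := U)
    (n := Fintype.card ι) (by rw [hUf]; exact hι)
  refine ⟨fun i => (f (Fintype.equivFin ι i) : V), fun i => hUX (f _).2, ?_, ?_,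
    fun i => hUs _ (f _).2⟩
  · have h1 := hf.map' U.subtype (Submodule.ker_subtype U)
    exact h1.comp _ (Fintype.equivFin ι).injective
  · intro i j
    unfold polar
    rw [hUs _ (U.add_mem (f _).2 (f _).2), hUs _ (f _).2, hUs _ (f _).2]
    simp

end families

end Cfsg.Agent.Lib.Helper6.OrtS
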