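import Mathlib
import Cfsg.Agent.Lib.Helper6.OrtU1

/-!
# Involutions of orthogonal groups in characteristic two and nondegenerate subspaces

Every involution of given rank and type fixes a nondegenerate subspace of dimension `2a` and
sign `η` as soon as the Witt indices allow it; otherwise an alternating involution of maximal
even rank fixes none.
-/

set_option autoImplicit false

namespace Cfsg.Agent.Lib.Helper6.OrtS

open Module Submodule QuadraticMap Cfsg.Agent.Lib.Helper15.PSpI Cfsg.Agent.Lib.Helper14.OrthEven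
  Cfsg.Agent.Lib.Helper15.PSpJ Cfsg.Agent.Lib.Helper13 Cfsg.Agent.Lib.Helper15

universe u

section perp

variable {F : Type u} {V : Type*} [Field F] [Fintype F] [AddCommGroup V] [Module F V]
  [FiniteDimensional F V] (Q : QuadraticForm F V)

/-- the orthogonal complement of a nondegenerate subspace of sign `η` -/
theorem sgnOn_perp (hVn : NondegOn (polarBilin Q) ⊤) (d : ℕ) (hV : finrank F V = 2 * d)
    (ε : ℤ) (hsV : SgnOn Q ⊤ ε) (W : Submodule F V) (hWn : NondegOn (polarBilin Q) W) (a : ℕ)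
    (hWf : finrank F W = 2 * a) (η : ℤ) (hη : η = 1 ∨ η = -1) (hWs : SgnOn Q W η) :
    NondegOn (polarBilin Q) (perpIn (polarBilin Q) ⊤ W) ∧
      finrank F (perpIn (polarBilin Q) ⊤ W) = 2 * (d - a) ∧
      SgnOn Q (perpIn (polarBilin Q) ⊤ W) (ε * η) ∧
      Orth (polarBilin Q) W (perpIn (polarBilin Q) ⊤ W) ∧
      Disjoint W (perpIn (polarBilin Q) ⊤ W) ∧ W ⊔ perpIn (polarBilin Q) ⊤ W = ⊤ := by
  have hS := pB_symm Q
  obtain ⟨W', hW'⟩ : ∃ W', W' = perpIn (polarBilin Q) ⊤ W := ⟨_, rfl⟩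
  rw [← hW']
  have hW'n : NondegOn (polarBilin Q) W' := by
    rw [hW']; exact nondegOn_perpIn' hS le_top hWn hVn
  have hfr := finrank_perpIn' hS (le_top : W ≤ ⊤) hWn
  rw [finrank_top, hV, ← hW', hWf] at hfr
  have hsup := sup_perpIn' hS (le_top : W ≤ ⊤) hWn
  rw [← hW'] at hsup
  have ho : Orth (polarBilin Q) W W' := by rw [hW']; exact orth_perpIn ⊤ W
  have hdj := orth_disjoint hS ho hWn
  have hW'f : finrank F W' = 2 * (d - a) := by omega
  refine ⟨hW'n, hW'f, ?_, ho, hdj, hsup⟩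
  rcases sgnOn_cases Q hW'n (d - a) hW'f with h' | h'
  · have h1 := sgnOn_sup Q ho hdj (by rw [hWf]; exact even_two_mul a)
      (by rw [hW'f]; exact even_two_mul _) hWs h'
    rw [hsup] at h1
    have h2 := SgnOn.unique Q hsV h1
    have e : ε * η = 1 := by
      rw [h2]; rcases hη with rfl | rfl <;> norm_num
    rw [e]; exact h'
  · have h1 := sgnOn_sup Q ho hdj (by rw [hWf]; exact even_two_mul a)
      (by rw [hW'f]; exact even_two_mul _) hWs h'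
    rw [hsup] at h1
    have h2 := SgnOn.unique Q hsV h1
    have e : ε * η = -1 := by
      rw [h2]; rcases hη with rfl | rfl <;> norm_num
    rw [e]; exact h'

/-- totally singular subspaces are bounded by the Witt index -/
theorem ts_le_wi (W : Submodule F V) (hWn : NondegOn (polarBilin Q) W) (a : ℕ)
    (hWf : finrank F W = 2 * a) (σ : ℤ) (hσ : σ = 1 ∨ σ = -1) (hs : SgnOn Q W σ)
    (U : Submodule F V) (hUW : U ≤ W) (hU : ∀ u ∈ U, Q u = 0) : finrank F U ≤ wi σ a := by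
  rcases hσ with rfl | rfl
  · rw [wi, if_pos rfl]
    have h1 := two_mul_finrank_le_of_singular (Qr Q W) (nondegenerate_Qr Q hWn)
      (U.comap W.subtype) (fun u hu => hU _ hu)
    have h2 : finrank F (U.comap W.subtype) = finrank F U :=
      LinearEquiv.finrank_eq (Submodule.comapSubtypeEquivOfLe hUW)
    omega
  · rw [wi, if_neg (by norm_num)]
    have := ts_finrank_lt_of_minus Q W hWn a hWf hs U hUW hU
    omega

end perp

section fixing

variable {F V : Type u} [Field F] [Fintype F] [CharP F 2] [AddCommGroup V] [Module F V]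
  [FiniteDimensional F V] (Q : QuadraticForm F V)

omit [Fintype F] [CharP F 2] [FiniteDimensional F V] in
/-- the family obtained from a family in `W` and a family in an orthogonal complement -/
theorem sum_fam (W W' : Submodule F V) (ho : Orth (polarBilin Q) W W') (hdj : Disjoint W W')
    {ι₁ ι₂ : Type} (u₁ : ι₁ → V) (u₂ : ι₂ → V) (h₁ : ∀ i, u₁ i ∈ W) (h₂ : ∀ i, u₂ i ∈ W')
    (hl₁ : LinearIndependent F u₁) (hl₂ : LinearIndependent F u₂)
    (ho₁ : ∀ i j, polar Q (u₁ i) (u₁ j) = 0) (ho₂ : ∀ i j, polar Q (u₂ i) (u₂ j) = 0) :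
    LinearIndependent F (Sum.elim u₁ u₂) ∧
      ∀ i j, polar Q (Sum.elim u₁ u₂ i) (Sum.elim u₁ u₂ j) = 0 := by
  constructor
  · apply LinearIndependent.sum_type hl₁ hl₂
    have e1 : span F (Set.range u₁) ≤ W := by
      rw [span_le]; rintro _ ⟨i, rfl⟩; exact h₁ i
    have e2 : span F (Set.range u₂) ≤ W' := by
      rw [span_le]; rintro _ ⟨i, rfl⟩; exact h₂ i
    exact hdj.mono e1 e2
  · intro i j
    rcases i with i | i <;> rcases j with j | j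
    · exact ho₁ i j
    · exact ho _ (h₁ i) _ (h₂ j)
    · show polar Q (u₂ i) (u₁ j) = 0
      rw [polar_comm]; exact ho _ (h₁ j) _ (h₂ i)
    · exact ho₂ i j

omit [Fintype F] in
/-- an alternating involution of prescribed rank fixing `W` -/
theorem exists_alt_fixing (hQ : (polarBilin Q).Nondegenerate) (W W' : Submodule F V)
    (ho : Orth (polarBilin Q) W W') (hdj : Disjoint W W')
    {ι₁ ι₂ : Type} [Fintype ι₁] [DecidableEq ι₁] [Fintype ι₂] [DecidableEq ι₂]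
    (σ₁ : ι₁ → ι₁) (σ₂ : ι₂ → ι₂) (hσ₁ : ∀ c, σ₁ (σ₁ c) = c) (hσ₁' : ∀ c, σ₁ c ≠ c)
    (hσ₂ : ∀ c, σ₂ (σ₂ c) = c) (hσ₂' : ∀ c, σ₂ c ≠ c)
    (u₁ : ι₁ → V) (u₂ : ι₂ → V) (h₁ : ∀ i, u₁ i ∈ W) (h₂ : ∀ i, u₂ i ∈ W')
    (hl₁ : LinearIndependent F u₁) (hl₂ : LinearIndependent F u₂)
    (ho₁ : ∀ i j, polar Q (u₁ i) (u₁ j) = 0) (ho₂ : ∀ i j, polar Q (u₂ i) (u₂ j) = 0)
    (hs₁ : ∀ i, Q (u₁ i) = 0) (hs₂ : ∀ i, Q (u₂ i) = 0) :
    ∃ t : isoGroup Q, t * t = 1 ∧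
      finrank F (LinearMap.range (t.1.toLinearMap - LinearMap.id)) =
        Fintype.card ι₁ + Fintype.card ι₂ ∧
      (∀ x, polar Q x (t.1 x - x) = 0) ∧ ∀ x ∈ W, t.1 x ∈ W := by
  obtain ⟨hl, hoo⟩ := sum_fam Q W W' ho hdj u₁ u₂ h₁ h₂ hl₁ hl₂ ho₁ ho₂
  obtain ⟨t, ht, hform, hrk, halt⟩ := exists_alt_model Q hQ (Sum.map σ₁ σ₂)
    (by rintro (c | c) <;> simp [hσ₁, hσ₂]) (by rintro (c | c) <;> simp [hσ₁', hσ₂'])
    (Sum.elim u₁ u₂) hl hoo (by
      rintro (c | c)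
      · exact hs₁ c
      · exact hs₂ c)
  refine ⟨t, ht, by rw [hrk, Fintype.card_sum], halt, ?_⟩
  intro x hx
  rw [hform]
  apply W.add_mem hx
  apply W.sum_mem
  rintro (c | c) _
  · exact W.smul_mem _ (h₁ (σ₁ c))
  · have h0 : polar Q (u₂ c) x = 0 := by
      rw [polar_comm]; exact ho x hx _ (h₂ c)
    show polar Q (u₂ c) x • _ ∈ W
    rw [h0, zero_smul]; exact W.zero_mem

omit [Fintype F] in
/-- a non-alternating involution of prescribed rank fixing `W` -/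
theorem exists_nonalt_fixing (hQ : (polarBilin Q).Nondegenerate) (W W' : Submodule F V)
    (ho : Orth (polarBilin Q) W W') (hdj : Disjoint W W')
    {ι₁ ι₂ : Type} [Fintype ι₁] [DecidableEq ι₁] [Fintype ι₂] [DecidableEq ι₂]
    [Nonempty (ι₁ ⊕ ι₂)]
    (u₁ : ι₁ → V) (u₂ : ι₂ → V) (h₁ : ∀ i, u₁ i ∈ W) (h₂ : ∀ i, u₂ i ∈ W')
    (hl₁ : LinearIndependent F u₁) (hl₂ : LinearIndependent F u₂)
    (ho₁ : ∀ i j, polar Q (u₁ i) (u₁ j) = 0) (ho₂ : ∀ i j, polar Q (u₂ i) (u₂ j) = 0)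
    (hs₁ : ∀ i, Q (u₁ i) = 1) (hs₂ : ∀ i, Q (u₂ i) = 1) :
    ∃ t : isoGroup Q, t * t = 1 ∧
      finrank F (LinearMap.range (t.1.toLinearMap - LinearMap.id)) =
        Fintype.card ι₁ + Fintype.card ι₂ ∧
      (∃ x, polar Q x (t.1 x - x) ≠ 0) ∧ ∀ x ∈ W, t.1 x ∈ W := by
  obtain ⟨hl, hoo⟩ := sum_fam Q W W' ho hdj u₁ u₂ h₁ h₂ hl₁ hl₂ ho₁ ho₂
  obtain ⟨t, ht, hform, hrk, halt⟩ := exists_nonalt_model Q hQ
    (Sum.elim u₁ u₂) hl hoo (by
      rintro (c | c)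
      · exact hs₁ c
      · exact hs₂ c)
  refine ⟨t, ht, by rw [hrk, Fintype.card_sum], halt, ?_⟩
  intro x hx
  rw [hform]
  apply W.add_mem hx
  apply W.sum_mem
  rintro (c | c) _
  · exact W.smul_mem _ (h₁ c)
  · have h0 : polar Q (u₂ c) x = 0 := by
      rw [polar_comm]; exact ho x hx _ (h₂ c)
    show polar Q (u₂ c) x • _ ∈ W
    rw [h0, zero_smul]; exact W.zero_mem

omit [CharP F 2] [FiniteDimensional F V] in
/-- conjugate involutions fix members of the same `NSet` -/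
theorem conj_fix (t t' g : isoGroup Q) (hg : g * t = t' * g) (m : ℕ) (η : ℤ)
    (W : Submodule F V) (hW : W ∈ NSet Q m η) (hfix : ∀ x ∈ W, t'.1 x ∈ W) :
    ∃ W₁ ∈ NSet Q m η, ∀ x ∈ W₁, t.1 x ∈ W₁ := by
  refine ⟨W.map (g⁻¹).1.toLinearMap,
    map_mem_NSet Q _ (fun v => (g⁻¹).2 v) (g⁻¹).1.injective hW, ?_⟩
  rintro _ ⟨w, hw, rfl⟩
  refine ⟨t'.1 w, hfix w hw, ?_⟩
  have hgx : ∀ x, g.1 (t.1 x) = t'.1 (g.1 x) := fun x =>
    congrArg (fun s : isoGroup Q => s.1 x) hg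
  apply g.1.injective
  show g.1 ((g⁻¹).1 (t'.1 w)) = g.1 (t.1 ((g⁻¹).1 w))
  rw [isoGroup_inv_apply, hgx, isoGroup_inv_apply]

/-- if the Witt indices allow it, every involution of even rank fixes a nondegenerate subspace
of dimension `2a` and sign `η` -/
theorem invol_fixes_of_cond (hQ : (polarBilin Q).Nondegenerate) (d : ℕ)
    (hV : finrank F V = 2 * d) (ε : ℤ) (hε : ε = 1 ∨ ε = -1) (hsV : SgnOn Q ⊤ ε) (a : ℕ)
    (ha : 1 ≤ a) (had : a + 1 ≤ d) (η : ℤ) (hη : η = 1 ∨ η = -1)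
    (hc : 2 * (wi ε d / 2) ≤ 2 * (wi η a / 2) + 2 * (wi (ε * η) (d - a) / 2))
    (t : isoGroup Q) (ht : t * t = 1)
    (hrk : Even (finrank F (LinearMap.range (t.1.toLinearMap - LinearMap.id)))) :
    ∃ W ∈ NSet Q (2 * a) η, ∀ x ∈ W, t.1 x ∈ W := by
  have hVn : NondegOn (polarBilin Q) ⊤ := fun u _ h0 => hQ.1 u (fun v => h0 v mem_top)
  have hεη : ε * η = 1 ∨ ε * η = -1 := by
    rcases hε with rfl | rfl <;> rcases hη with rfl | rfl <;> simp
  obtain ⟨W, -, hWn, hWf, hWs⟩ := exists_sub Q ⊤ hVn (2 * d) (by rw [finrank_top, hV])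
    (even_two_mul d) ε hε hsV (2 * a) (even_two_mul a) η hη
    ⟨by omega, fun h => by omega, fun h => by omega⟩
  obtain ⟨hW'n, hW'f, hW's, ho, hdj, -⟩ := sgnOn_perp Q hVn d hV ε hsV W hWn a hWf η hη hWs
  obtain ⟨W', hW'⟩ : ∃ W', W' = perpIn (polarBilin Q) ⊤ W := ⟨_, rfl⟩
  rw [← hW'] at hW'n hW'f hW's ho hdj
  obtain ⟨s, hs⟩ : ∃ s, s = finrank F (LinearMap.range (t.1.toLinearMap - LinearMap.id)) :=
    ⟨_, rfl⟩
  rw [← hs] at hrk
  obtain ⟨hle, hpos, halt_facts⟩ := invol_rank_facts Q hQ t ht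
  rw [← hs] at hle hpos halt_facts
  by_cases halt : ∀ x, polar Q x (t.1 x - x) = 0
  · obtain ⟨-, hts⟩ := halt_facts halt
    have hsw : s ≤ wi ε d := by
      rcases hε with rfl | rfl
      · rw [wi, if_pos rfl]; omega
      · rw [wi, if_neg (by norm_num)]
        have := ts_finrank_lt_of_minus Q ⊤ hVn d (by rw [finrank_top, hV]) hsV _ le_top hts
        omega
    obtain ⟨k, hk⟩ := hrk
    obtain ⟨k₁, k₂, hk12, hk1, hk2⟩ : ∃ k₁ k₂, k₁ + k₂ = k ∧ 2 * k₁ ≤ wi η a ∧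
        2 * k₂ ≤ wi (ε * η) (d - a) := by
      by_cases hka : k ≤ wi η a / 2
      · exact ⟨k, 0, by omega, by omega, by omega⟩
      · exact ⟨wi η a / 2, k - wi η a / 2, by omega, by omega, by omega⟩
    obtain ⟨u₁, h₁, hl₁, ho₁, hs₁⟩ := exists_ts_fam Q W hWn a hWf η hη hWs
      (ι := Fin k₁ ⊕ Fin k₁) (by rw [Fintype.card_sum, Fintype.card_fin]; omega)
    obtain ⟨u₂, h₂, hl₂, ho₂, hs₂⟩ := exists_ts_fam Q W' hW'n (d - a) hW'f (ε * η) hεη hW's
      (ι := Fin k₂ ⊕ Fin k₂) (by rw [Fintype.card_sum, Fintype.card_fin]; omega)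
    obtain ⟨t', ht', hrk', halt', hfix⟩ := exists_alt_fixing Q hQ W W' ho hdj
      (Sum.swap : Fin k₁ ⊕ Fin k₁ → Fin k₁ ⊕ Fin k₁) (Sum.swap : Fin k₂ ⊕ Fin k₂ → Fin k₂ ⊕ Fin k₂)
      Sum.swap_swap (by rintro (c | c) <;> simp) Sum.swap_swap (by rintro (c | c) <;> simp)
      u₁ u₂ h₁ h₂ hl₁ hl₂ ho₁ ho₂ hs₁ hs₂
    obtain ⟨g, hg⟩ := isoGroup_involution_conj Q hQ t t' ht ht' (by
      rw [← hs, hrk', Fintype.card_sum, Fintype.card_sum, Fintype.card_fin, Fintype.card_fin]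
      omega) ⟨fun _ => halt', fun _ => halt⟩
    exact conj_fix Q t t' g hg (2 * a) η W ⟨hWf, hWn, hWs⟩ hfix
  · have hne : t ≠ 1 := by
      rintro rfl
      apply halt
      intro x
      show polar Q x (x - x) = 0
      rw [sub_self, polar_zero_right]
    have hs1 : 1 ≤ s := hpos hne
    obtain ⟨s₁, s₂, hs12, hsa, hsb⟩ : ∃ s₁ s₂, s₁ + s₂ = s ∧ s₁ ≤ a ∧ s₂ ≤ d - a := by
      by_cases hsa : s ≤ a
      · exact ⟨s, 0, by omega, hsa, by omega⟩
      · exact ⟨a, s - a, by omega, le_rfl, by omega⟩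
    obtain ⟨u₁, h₁, hl₁, ho₁, hs₁⟩ := exists_norm_one_fam Q W hWn a hWf
      (ι := Fin s₁) (by rw [Fintype.card_fin]; exact hsa)
    obtain ⟨u₂, h₂, hl₂, ho₂, hs₂⟩ := exists_norm_one_fam Q W' hW'n (d - a) hW'f
      (ι := Fin s₂) (by rw [Fintype.card_fin]; exact hsb)
    have : Nonempty (Fin s₁ ⊕ Fin s₂) := by
      by_cases h : 0 < s₁
      · exact ⟨Sum.inl ⟨0, h⟩⟩
      · exact ⟨Sum.inr ⟨0, by omega⟩⟩
    obtain ⟨t', ht', hrk', ⟨x₀, hx₀⟩, hfix⟩ := exists_nonalt_fixing Q hQ W W' ho hdj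
      u₁ u₂ h₁ h₂ hl₁ hl₂ ho₁ ho₂ hs₁ hs₂
    obtain ⟨g, hg⟩ := isoGroup_involution_conj Q hQ t t' ht ht' (by
      rw [← hs, hrk', Fintype.card_fin, Fintype.card_fin]
      omega) ⟨fun h => absurd h halt, fun h => absurd (h x₀) hx₀⟩
    exact conj_fix Q t t' g hg (2 * a) η W ⟨hWf, hWn, hWs⟩ hfix

end fixing

end Cfsg.Agent.Lib.Helper6.OrtS
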