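import Mathlib
import Cfsg.Agent.Lib.Helper6.OrtU2
import Cfsg.Agent.Lib.Helper14.OrthoTransfer

/-!
# An isometry acting freely (as a cyclic 2-group) on a nondegenerate subspace is not in `Ω`

`not_mem_Omega_of_free`: if `s` is an isometry which is the identity on `Z^⊥`, preserves the
nondegenerate subspace `Z` of dimension `2k` and sign `ε`, and satisfies `s^(2^(a-1)) = -1` on `Z`
where `2^a` is the exact power of `2` dividing `q^k - ε`, then `s ∉ Ω`.  The proof computes the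
sign of the permutation induced on the level set `{Q = 1}`.
-/

set_option autoImplicit false

namespace Cfsg.Agent.Lib.Helper6.SpinFree

open Module Submodule QuadraticMap Matrix Cfsg.Agent.Lib.Helper15.PSpI
  Cfsg.Agent.Lib.Helper14.OrthEven Cfsg.Agent.Lib.Helper6.OrtS Cfsg.Agent.Lib.Helper14

/-- a permutation of `2`-power order `2^a` all of whose nontrivial cycles have full length -/
theorem sign_of_free_two_pow {X : Type*} [Fintype X] [DecidableEq X] (π : Equiv.Perm X) (a : ℕ)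
    (ha : 1 ≤ a) (hπ : π ^ (2 ^ a) = 1)
    (hfree : ∀ x, π x ≠ x → (π ^ (2 ^ (a - 1))) x ≠ x) (m : ℕ)
    (hcard : π.support.card = 2 ^ a * m) : Equiv.Perm.sign π = (-1) ^ m := by
  have hall : ∀ ℓ ∈ π.cycleType, ℓ = 2 ^ a := by
    intro ℓ hℓ
    rw [Equiv.Perm.cycleType_def, Multiset.mem_map] at hℓ
    obtain ⟨c, hc, rfl⟩ := hℓ
    have hc' : c ∈ π.cycleFactorsFinset := hc
    obtain ⟨hcyc, hcf⟩ := Equiv.Perm.mem_cycleFactorsFinset_iff.mp hc'
    obtain ⟨x, hx⟩ := hcyc.nonempty_support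
    have hceq := Equiv.Perm.cycle_is_cycleOf hx hc'
    have hon := Equiv.Perm.isCycleOn_support_cycleOf π x
    rw [← hceq] at hon
    have hxπ : π x ≠ x := by
      rw [← hcf x hx]; exact Equiv.Perm.mem_support.mp hx
    have h1 : c.support.card ∣ 2 ^ a := by
      rw [← hon.pow_apply_eq hx, hπ]; rfl
    have h2 : ¬ c.support.card ∣ 2 ^ (a - 1) := by
      rw [← hon.pow_apply_eq hx]; exact hfree x hxπ
    obtain ⟨j, hj, hj'⟩ := (Nat.dvd_prime_pow Nat.prime_two).mp h1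
    show c.support.card = 2 ^ a
    rw [hj'] at h2 ⊢
    have h3 : ¬ j ≤ a - 1 := fun h => h2 (pow_dvd_pow 2 h)
    have h4 : j = a := by omega
    rw [h4]
  have hrep := Multiset.eq_replicate_card.mpr hall
  have hsum : π.cycleType.sum = π.support.card := Equiv.Perm.sum_cycleType π
  rw [hrep, Multiset.sum_replicate, smul_eq_mul, hcard] at hsum
  have hK : Multiset.card π.cycleType = m := by
    have hpos : 0 < 2 ^ a := by positivity
    have : Multiset.card π.cycleType * 2 ^ a = m * 2 ^ a := by rw [hsum]; ring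
    exact Nat.eq_of_mul_eq_mul_right hpos this
  rw [Equiv.Perm.sign_of_cycleType, hrep, Multiset.sum_replicate, Multiset.card_replicate,
    smul_eq_mul, hK]
  have he : Even (m * 2 ^ a) := by
    obtain ⟨b, rfl⟩ : ∃ b, a = b + 1 := ⟨a - 1, by omega⟩
    rw [pow_succ]
    exact ⟨m * 2 ^ b, by ring⟩
  rw [pow_add, he.neg_one_pow, one_mul]

theorem not_mem_Omega_of_free {F : Type*} [Field F] [Fintype F] [DecidableEq F] {ι : Type}
    [Fintype ι] [DecidableEq ι]
    (Q : QuadraticForm F (ι → F)) (h2 : (2 : F) ≠ 0)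
    (hQ : (QuadraticMap.polarBilin Q).Nondegenerate)
    (n : ℕ) (hcard : Fintype.card ι = 2 * n)
    (Z : Submodule F (ι → F)) (hZn : NondegOn (QuadraticMap.polarBilin Q) Z)
    (k : ℕ) (hk : 1 ≤ k) (hZdim : Module.finrank F Z = 2 * k) (ε : ℤ) (hε : SgnOn Q Z ε)
    (a t : ℕ) (ha : 1 ≤ a) (ht : Odd t) (hN : (Fintype.card F : ℤ) ^ k - ε = 2 ^ a * t)
    (s : ↥(Cfsg.isometryGroup F ⇑Q))
    (hsZ : ∀ z ∈ Z, ((s.1 : GL ι F) : Matrix ι ι F) *ᵥ z ∈ Z)
    (hsZ' : ∀ v, (∀ z ∈ Z, QuadraticMap.polar ⇑Q z v = 0) →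
      ((s.1 : GL ι F) : Matrix ι ι F) *ᵥ v = v)
    (hsN : ∀ z ∈ Z, (((s.1 : GL ι F) : Matrix ι ι F) ^ (2 ^ (a - 1))) *ᵥ z = -z) :
    s ∉ Cfsg.Omega F ⇑Q := by
  intro hmem
  let σ : Cfsg.isometryGroup F ⇑Q →* ℤˣ := Equiv.Perm.sign.comp (levelPerm (⇑Q) 1)
  have h1 : s ∈ σ.ker := Abelianization.commutator_subset_ker σ hmem
  have hsign1 : Equiv.Perm.sign (levelPerm (⇑Q) 1 s) = 1 := h1
  -- signs
  have hVn : NondegOn (polarBilin Q) ⊤ := by
    intro u _ h0
    exact hQ.1 u (fun v => h0 v trivial)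
  have hVf : finrank F (ι → F) = 2 * n := by
    rw [Module.finrank_fintype_fun_eq_card, hcard]
  have hVf' : finrank F (⊤ : Submodule F (ι → F)) = 2 * n := by rw [finrank_top, hVf]
  obtain ⟨εV, hεV, hsV⟩ : ∃ εV : ℤ, (εV = 1 ∨ εV = -1) ∧ SgnOn Q ⊤ εV := by
    rcases sgnOn_cases Q hVn n hVf' with h | h
    exacts [⟨1, Or.inl rfl, h⟩, ⟨-1, Or.inr rfl, h⟩]
  have hε' : ε = 1 ∨ ε = -1 := by
    rcases sgnOn_cases Q hZn k hZdim with h | h
    · exact Or.inl (SgnOn.unique Q hε h)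
    · exact Or.inr (SgnOn.unique Q hε h)
  obtain ⟨hZ'n, hZ'f, hZ's, ho, hdj, hsup⟩ :=
    sgnOn_perp Q hVn n hVf εV hsV Z hZn k hZdim ε hε' hε
  obtain ⟨Z', hZ'def⟩ : ∃ Z', Z' = perpIn (polarBilin Q) ⊤ Z := ⟨_, rfl⟩
  rw [← hZ'def] at hZ'n hZ'f hZ's ho hdj hsup
  have hkn : k ≤ n := by
    have := Submodule.finrank_le Z
    omega
  -- the matrix
  obtain ⟨M, hM⟩ : ∃ M : Matrix ι ι F, M = ((s.1 : GL ι F) : Matrix ι ι F) := ⟨_, rfl⟩
  rw [← hM] at hsZ hsZ' hsN
  have hMZ' : ∀ z' ∈ Z', M *ᵥ z' = z' := by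
    intro z' hz'
    apply hsZ'
    intro z hz
    rw [hZ'def] at hz'
    exact (mem_perpIn.mp hz').2 z hz
  have hMjZ : ∀ j : ℕ, ∀ z ∈ Z, M ^ j *ᵥ z ∈ Z := by
    intro j
    induction j with
    | zero => intro z hz; rw [pow_zero, one_mulVec]; exact hz
    | succ j ih =>
      intro z hz
      rw [pow_succ, ← mulVec_mulVec]
      exact ih _ (hsZ z hz)
  have hMjZ' : ∀ j : ℕ, ∀ z' ∈ Z', M ^ j *ᵥ z' = z' := by
    intro j
    induction j with
    | zero => intro z hz; rw [pow_zero, one_mulVec]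
    | succ j ih =>
      intro z hz
      rw [pow_succ, ← mulVec_mulVec, hMZ' z hz]
      exact ih z hz
  have hMjfix : ∀ j : ℕ, ∀ z : ι → F, M *ᵥ z = z → M ^ j *ᵥ z = z := by
    intro j z hz
    induction j with
    | zero => rw [pow_zero, one_mulVec]
    | succ j ih => rw [pow_succ, ← mulVec_mulVec, hz, ih]
  have hdecomp : ∀ v : ι → F, ∃ z ∈ Z, ∃ z' ∈ Z', v = z + z' := by
    intro v
    have hv : v ∈ Z ⊔ Z' := by rw [hsup]; trivial
    obtain ⟨z, hz, z', hz', rfl⟩ := Submodule.mem_sup.mp hv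
    exact ⟨z, hz, z', hz', rfl⟩
  have hzero : ∀ z : ι → F, -z = z → z = 0 := by
    intro z h
    funext i
    have h7 := congrFun h i
    simp only [Pi.neg_apply] at h7
    have h8 : (2 : F) * z i = 0 := by linear_combination -h7
    exact (mul_eq_zero.mp h8).resolve_left h2
  -- the permutation
  obtain ⟨π, hπdef⟩ : ∃ π, π = levelPerm (⇑Q) 1 s := ⟨_, rfl⟩
  rw [← hπdef] at hsign1
  have hπpow : ∀ (j : ℕ) (x : {v : ι → F // Q v = 1}), ((π ^ j) x).1 = M ^ j *ᵥ x.1 := by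
    intro j x
    rw [hπdef, ← map_pow, levelPerm_apply, hM]
    rfl
  have hπ1 : ∀ x : {v : ι → F // Q v = 1}, (π x).1 = M *ᵥ x.1 := by
    intro x
    have := hπpow 1 x
    rwa [pow_one, pow_one] at this
  have hfixiff : ∀ x : {v : ι → F // Q v = 1}, π x = x ↔ x.1 ∈ Z' := by
    intro x
    constructor
    · intro h
      obtain ⟨z, hz, z', hz', hx⟩ := hdecomp x.1
      have h3 : M *ᵥ x.1 = x.1 := by rw [← hπ1, h]
      rw [hx, mulVec_add, hMZ' z' hz'] at h3
      have h4 : M *ᵥ z = z := add_right_cancel h3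
      have h5 := hMjfix (2 ^ (a - 1)) z h4
      rw [hsN z hz] at h5
      have h6 := hzero z h5
      rw [hx, h6, zero_add]
      exact hz'
    · intro h
      apply Subtype.ext
      rw [hπ1, hMZ' _ h]
  have hfree : ∀ x, π x ≠ x → (π ^ (2 ^ (a - 1))) x ≠ x := by
    intro x hx hcon
    apply hx
    rw [hfixiff]
    obtain ⟨z, hz, z', hz', hxz⟩ := hdecomp x.1
    have h3 : M ^ (2 ^ (a - 1)) *ᵥ x.1 = x.1 := by rw [← hπpow, hcon]
    rw [hxz, mulVec_add, hMjZ' _ z' hz', hsN z hz] at h3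
    have h4 : -z = z := add_right_cancel h3
    rw [hxz, hzero z h4, zero_add]
    exact hz'
  have hπN : π ^ (2 ^ a) = 1 := by
    apply Equiv.ext
    intro x
    apply Subtype.ext
    rw [hπpow]
    show _ = x.1
    obtain ⟨z, hz, z', hz', hxz⟩ := hdecomp x.1
    have e : 2 ^ a = 2 ^ (a - 1) + 2 ^ (a - 1) := by
      obtain ⟨b, rfl⟩ : ∃ b, a = b + 1 := ⟨a - 1, by omega⟩
      rw [pow_succ]; simp; ring
    rw [hxz, mulVec_add, hMjZ' _ z' hz', e, pow_add, ← mulVec_mulVec, hsN z hz, mulVec_neg,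
      hsN z hz, neg_neg]
  -- counting
  have hsplit : π.support.card + Fintype.card {x : {v : ι → F // Q v = 1} // π x = x} =
      Fintype.card {v : ι → F // Q v = 1} := by
    rw [Fintype.card_subtype, ← Finset.card_univ (α := {v : ι → F // Q v = 1})]
    have hs : π.support = Finset.univ.filter (fun x => ¬ π x = x) := by
      ext x; simp [Equiv.Perm.mem_support]
    rw [hs, add_comm]
    exact Finset.card_filter_add_card_filter_not (fun x => π x = x)
  have hfixcard : Fintype.card {x : {v : ι → F // Q v = 1} // π x = x} =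
      Nat.card {w : Z' // Q (w : ι → F) = 1} := by
    rw [← Nat.card_eq_fintype_card]
    apply Nat.card_congr
    refine ⟨fun x => ⟨⟨x.1.1, (hfixiff x.1).mp x.2⟩, x.1.2⟩,
      fun w => ⟨⟨w.1.1, w.2⟩, (hfixiff _).mpr w.1.2⟩, ?_, ?_⟩
    · intro x; rfl
    · intro w; rfl
  have hXh : HasSign (⇑Q) (finrank F (⊤ : Submodule F (ι → F)) / 2) εV :=
    SgnOn.to_hasSign Q (⇑Q) (Submodule.topEquiv.symm : (ι → F) ≃ₗ[F] (⊤ : Submodule F (ι → F)))
      (fun x => rfl) hsV
  have hcX := hXh 1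
  have hcZ' := hZ's 1
  rw [hVf'] at hcX
  rw [hZ'f] at hcZ'
  have e1 : 2 * n / 2 = n := by omega
  have e2 : 2 * (n - k) / 2 = n - k := by omega
  rw [e1] at hcX
  rw [e2] at hcZ'
  rw [if_neg one_ne_zero] at hcX hcZ'
  unfold cnt at hcX hcZ'
  have hS : (π.support.card : ℤ) = (Nat.card {v : ι → F // Q v = 1} : ℤ) -
      (Nat.card {w : Z' // Q (w : ι → F) = 1} : ℤ) := by
    rw [← hfixcard, Nat.card_eq_fintype_card, ← hsplit]
    push_cast; ring
  obtain ⟨q, hq⟩ : ∃ q : ℤ, q = (Fintype.card F : ℤ) := ⟨_, rfl⟩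
  rw [← hq] at hcX hcZ' hN
  obtain ⟨A, hA⟩ : ∃ A : ℤ, A = q ^ k := ⟨_, rfl⟩
  obtain ⟨B, hB⟩ : ∃ B : ℤ, B = q ^ (n - k) := ⟨_, rfl⟩
  have hqn : q ^ n = A * B := by
    rw [hA, hB, ← pow_add]; congr 1; omega
  have hq2n : q ^ (2 * n) = (A * B) ^ 2 := by rw [← hqn, ← pow_mul]; congr 1; ring
  have hq2nk : q ^ (2 * (n - k)) = B ^ 2 := by rw [hB, ← pow_mul]; congr 1; ring
  rw [hq2n, hqn] at hcX
  rw [hq2nk, ← hB] at hcZ'
  rw [← hA] at hN
  have hε2 : ε * ε = 1 := by rcases hε' with rfl | rfl <;> norm_num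
  have hmain : q * (π.support.card : ℤ) = 2 ^ a * ((t : ℤ) * B * (B * (A + ε) - εV)) := by
    rw [hS, mul_sub, hcX, hcZ']
    linear_combination (B * B) * hε2 + (B * (B * (A + ε) - εV)) * hN
  -- parity
  have hqodd : Odd q := by
    rw [hq]
    have hc : ringChar F ≠ 2 := by
      intro h
      apply h2
      have h3 := ringChar.Nat.cast_ringChar (R := F)
      rw [h] at h3
      exact_mod_cast h3
    have := FiniteField.odd_card_of_char_ne_two hc
    rw [Int.odd_iff]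
    omega
  have hAodd : Odd A := by rw [hA]; exact hqodd.pow
  have hBodd : Odd B := by rw [hB]; exact hqodd.pow
  have hεodd : Odd ε := by rcases hε' with rfl | rfl <;> decide
  have hεVodd : Odd εV := by rcases hεV with rfl | rfl <;> decide
  have hinner : Odd (B * (A + ε) - εV) :=
    ((hAodd.add_odd hεodd).mul_left B).sub_odd hεVodd
  have htodd : Odd (t : ℤ) := by exact_mod_cast ht
  have hprod : Odd ((t : ℤ) * B * (B * (A + ε) - εV)) := (htodd.mul hBodd).mul hinner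
  have hcop : IsCoprime ((2 : ℤ) ^ a) q := by
    have h3 : IsCoprime (2 : ℤ) q := by
      rw [hq]
      have : IsCoprime ((2 : ℕ) : ℤ) ((Fintype.card F : ℕ) : ℤ) := by
        rw [Nat.isCoprime_iff_coprime]
        rw [Nat.coprime_two_left]  
        have := hqodd
        rw [hq] at this
        exact_mod_cast this
      exact_mod_cast this
    exact h3.pow_left
  have hdvd : (2 : ℤ) ^ a ∣ (π.support.card : ℤ) := by
    apply hcop.dvd_of_dvd_mul_left
    rw [hmain]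
    exact dvd_mul_right _ _
  have hdvdN : 2 ^ a ∣ π.support.card := by
    have : ((2 ^ a : ℕ) : ℤ) ∣ (π.support.card : ℤ) := by push_cast; exact hdvd
    exact Int.natCast_dvd_natCast.mp this
  obtain ⟨m, hm⟩ := hdvdN
  have hmodd : Odd m := by
    have h3 : q * (m : ℤ) = (t : ℤ) * B * (B * (A + ε) - εV) := by
      have h4 : (2 : ℤ) ^ a ≠ 0 := by positivity
      apply mul_left_cancel₀ h4
      rw [← hmain, hm]
      push_cast; ring
    have h5 : Odd (q * (m : ℤ)) := by rw [h3]; exact hprod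
    have h6 := (Int.odd_mul.mp h5).2
    exact_mod_cast h6
  have hsgn := sign_of_free_two_pow π a ha hπN hfree m hm
  rw [hmodd.neg_one_pow] at hsgn
  rw [hsign1] at hsgn
  exact absurd hsgn (by decide)

end Cfsg.Agent.Lib.Helper6.SpinFree
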