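import Mathlib
import Cfsg.Prelude.Def_KGroupFacts
import Cfsg.Agent.Lib.Helper6.AutPSL9

/-!
# Relations among the standard automorphisms; the structure of `Out(PSL_n(F))`, `n ≥ 3`
-/

set_option autoImplicit false
set_option linter.unusedSectionVars false
set_option linter.unusedSimpArgs false
set_option linter.unusedVariables false

namespace Cfsg.Agent.Lib.Helper6.AutPSL

open Matrix Cfsg.Agent.Lib.Helper6.SLRoot Cfsg.Agent.H26

variable {ι : Type*} [Fintype ι] [DecidableEq ι] {F : Type*} [Field F]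

/-- a field automorphism applied to an invertible matrix -/
def sG (σ : RingAut F) (g : GL ι F) : GL ι F := Matrix.GeneralLinearGroup.map (σ : F →+* F) g

theorem sG_val (σ : RingAut F) (g : GL ι F) : (sG σ g).1 = g.1.map σ := rfl

theorem sG_inv_val (σ : RingAut F) (g : GL ι F) : ((sG σ g)⁻¹).1 = (g⁻¹).1.map σ := by
  unfold sG
  rw [← map_inv]
  rfl

/-- inverse transpose of an invertible matrix -/
def gT (g : GL ι F) : GL ι F :=
  ⟨((g⁻¹).1)ᵀ, (g.1)ᵀ, by rw [← Matrix.transpose_mul, gl_mul_inv, Matrix.transpose_one],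
    by rw [← Matrix.transpose_mul, gl_inv_mul, Matrix.transpose_one]⟩

theorem gT_val (g : GL ι F) : (gT g).1 = ((g⁻¹).1)ᵀ := rfl
theorem gT_inv_val (g : GL ι F) : ((gT g)⁻¹).1 = (g.1)ᵀ := rfl

theorem rel_fA_cG (σ : RingAut F) (g : GL ι F) :
    (fA σ * cG g : MulAut (Matrix.SpecialLinearGroup ι F)) = cG (sG σ g) * fA σ := by
  ext s : 1
  apply Subtype.ext
  rw [MulAut.mul_apply, MulAut.mul_apply, fA_val, cG_val, cG_val, fA_val, sG_val, sG_inv_val]
  have h1 : (g.1 * s.1 * (g⁻¹).1).map σ = (g.1 * s.1 * (g⁻¹).1).map (σ : F →+* F) := rfl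
  rw [h1, Matrix.map_mul, Matrix.map_mul]
  rfl

theorem rel_tA_cG (g : GL ι F) :
    (tA * cG g : MulAut (Matrix.SpecialLinearGroup ι F)) = cG (gT g) * tA := by
  ext s : 1
  apply Subtype.ext
  rw [MulAut.mul_apply, MulAut.mul_apply, tA_val, cG_val, tA_val, gT_val, gT_inv_val, ← map_inv,
    cG_val, Matrix.transpose_mul, Matrix.transpose_mul, mul_assoc]

theorem rel_tA_fA (σ : RingAut F) :
    (tA * fA σ : MulAut (Matrix.SpecialLinearGroup ι F)) = fA σ * tA := by
  ext s : 1
  apply Subtype.ext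
  rw [MulAut.mul_apply, MulAut.mul_apply, tA_val, ← map_inv, fA_val, fA_val, tA_val,
    Matrix.transpose_map]

theorem rel_fP_cP (σ : RingAut F) (g : GL ι F) :
    (fP σ * cP g : MulAut (Matrix.ProjectiveSpecialLinearGroup ι F)) = cP (sG σ g) * fP σ := by
  unfold fP cP
  rw [MonoidHom.comp_apply, MonoidHom.comp_apply, ← map_mul, ← map_mul, rel_fA_cG]

theorem rel_tP_cP (g : GL ι F) :
    (tP * cP g : MulAut (Matrix.ProjectiveSpecialLinearGroup ι F)) = cP (gT g) * tP := by
  unfold tP cP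
  rw [MonoidHom.comp_apply, MonoidHom.comp_apply, ← map_mul, ← map_mul, rel_tA_cG]

theorem rel_tP_fP (σ : RingAut F) :
    (tP * fP σ : MulAut (Matrix.ProjectiveSpecialLinearGroup ι F)) = fP σ * tP := by
  unfold tP fP
  rw [← map_mul, ← map_mul, rel_tA_fA]

/-- powers of the graph automorphism -/
noncomputable def tpow (k : ZMod 2) : MulAut (Matrix.ProjectiveSpecialLinearGroup ι F) :=
  if k = 0 then 1 else tP

theorem zmod2_cases (k : ZMod 2) : k = 0 ∨ k = 1 := by
  revert k
  decide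

theorem tpow_zero : (tpow 0 : MulAut (Matrix.ProjectiveSpecialLinearGroup ι F)) = 1 := if_pos rfl

theorem tpow_one : (tpow 1 : MulAut (Matrix.ProjectiveSpecialLinearGroup ι F)) = tP :=
  if_neg (by decide)

/-- decomposition with prescribed field and graph parts -/
def HasDec (β : MulAut (Matrix.ProjectiveSpecialLinearGroup ι F)) (τ : RingAut F) (k : ZMod 2) :
    Prop := ∃ g : GL ι F, β = cP g * fP τ * tpow k

theorem HasDec.mul {β β' : MulAut (Matrix.ProjectiveSpecialLinearGroup ι F)} {τ τ' : RingAut F}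
    {k k' : ZMod 2} (h : HasDec β τ k) (h' : HasDec β' τ' k') :
    HasDec (β * β') (τ * τ') (k + k') := by
  obtain ⟨g, rfl⟩ := h
  obtain ⟨g', rfl⟩ := h'
  rcases zmod2_cases k with rfl | rfl
  · refine ⟨g * sG τ g', ?_⟩
    rw [tpow_zero, mul_one, zero_add, map_mul, fP_mul]
    calc cP g * fP τ * (cP g' * fP τ' * tpow k')
        = cP g * (fP τ * cP g') * fP τ' * tpow k' := by simp only [mul_assoc]
      _ = cP g * (cP (sG τ g') * fP τ) * fP τ' * tpow k' := by rw [rel_fP_cP]
      _ = cP g * cP (sG τ g') * (fP τ * fP τ') * tpow k' := by simp only [mul_assoc]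
  · refine ⟨g * sG τ (gT g'), ?_⟩
    rw [tpow_one, map_mul, fP_mul]
    have e : (tP * tpow k' : MulAut (Matrix.ProjectiveSpecialLinearGroup ι F)) = tpow (1 + k') := by
      rcases zmod2_cases k' with rfl | rfl
      · rw [tpow_zero, mul_one, add_zero, tpow_one]
      · rw [tpow_one, tP_mul_tP, show (1 : ZMod 2) + 1 = 0 by decide, tpow_zero]
    calc cP g * fP τ * tP * (cP g' * fP τ' * tpow k')
        = cP g * fP τ * (tP * cP g') * fP τ' * tpow k' := by simp only [mul_assoc]
      _ = cP g * fP τ * (cP (gT g') * tP) * fP τ' * tpow k' := by rw [rel_tP_cP]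
      _ = cP g * (fP τ * cP (gT g')) * (tP * fP τ') * tpow k' := by simp only [mul_assoc]
      _ = cP g * (cP (sG τ (gT g')) * fP τ) * (fP τ' * tP) * tpow k' := by
          rw [rel_fP_cP, rel_tP_fP]
      _ = cP g * cP (sG τ (gT g')) * (fP τ * fP τ') * (tP * tpow k') := by simp only [mul_assoc]
      _ = cP g * cP (sG τ (gT g')) * (fP τ * fP τ') * tpow (1 + k') := by rw [e]

theorem HasDec.unique (h3 : 3 ≤ Fintype.card ι)
    {β : MulAut (Matrix.ProjectiveSpecialLinearGroup ι F)} {τ τ' : RingAut F}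
    {k k' : ZMod 2} (h : HasDec β τ k) (h' : HasDec β τ' k') : τ = τ' ∧ k = k' := by
  have h2 : 2 ≤ Fintype.card ι := by omega
  obtain ⟨g, e⟩ := h
  obtain ⟨g', e'⟩ := h'
  have hk : k = k' := by
    rcases zmod2_cases k with rfl | rfl <;> rcases zmod2_cases k' with rfl | rfl
    · rfl
    · exfalso
      rw [tpow_zero, mul_one] at e
      rw [tpow_one] at e'
      exact not_TP_TR h3 β (e ▸ TP_cP_fP g τ) (e' ▸ TR_cP_fP_tP g' τ')
    · exfalso
      rw [tpow_zero, mul_one] at e'
      rw [tpow_one] at e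
      exact not_TP_TR h3 β (e' ▸ TP_cP_fP g' τ') (e ▸ TR_cP_fP_tP g τ)
    · rfl
  subst hk
  rw [e] at e'
  exact ⟨(decomp_unique h2 g g' τ τ' (mul_right_cancel e')).1, rfl⟩

end Cfsg.Agent.Lib.Helper6.AutPSL
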