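import Mathlib
import Cfsg.Agent.Lib.Helper6.AutPSL10

/-!
# The outer automorphism group of `PSL_n(F)`, `n ≥ 3`
-/

set_option autoImplicit false
set_option linter.unusedSectionVars false
set_option linter.unusedSimpArgs false
set_option linter.unusedVariables false

namespace Cfsg.Agent.Lib.Helper6.AutPSL

open Matrix Cfsg.Agent.Lib.Helper6.SLRoot Cfsg.Agent.H26

variable {F : Type*} [Field F]

/-- the pair (field part, graph part) of an automorphism -/
noncomputable def psiFun {ι : Type*} [Fintype ι] [DecidableEq ι]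
    (β : MulAut (Matrix.ProjectiveSpecialLinearGroup ι F)) :
    RingAut F × Multiplicative (ZMod 2) := by
  classical
  exact if h : ∃ (τ : RingAut F) (k : ZMod 2), HasDec β τ k then
    (h.choose, Multiplicative.ofAdd h.choose_spec.choose) else 1

theorem conj_eq_cP {ι : Type*} [Fintype ι] [DecidableEq ι] (s : Matrix.SpecialLinearGroup ι F) :
    (MulAut.conj (pm s) : MulAut (Matrix.ProjectiveSpecialLinearGroup ι F)) =
      cP (Matrix.SpecialLinearGroup.toGL s) := by
  ext y
  obtain ⟨t, rfl⟩ := pm_surjective y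
  rw [MulAut.conj_apply, cP_mk, ← map_inv, ← map_mul, ← map_mul]
  congr 1

section main
variable [Fintype F] {p f : ℕ} [Fact p.Prime] (hF : Fintype.card F = p ^ f) (hf : 1 ≤ f) (m : ℕ)

include hF hf in
theorem exists_hasDec (β : MulAut (Matrix.ProjectiveSpecialLinearGroup (Fin (m + 3)) F)) :
    ∃ (τ : RingAut F) (k : ZMod 2), HasDec β τ k := by
  obtain ⟨g, τ, γ, hγ, e⟩ := aut_psl_ge3 hF hf m β
  rcases hγ with rfl | rfl
  · exact ⟨τ, 0, g, by rw [tpow_zero, e]⟩
  · exact ⟨τ, 1, g, by rw [tpow_one, e]⟩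

theorem card3 : 3 ≤ Fintype.card (Fin (m + 3)) := by rw [Fintype.card_fin]; omega

include hF hf in
theorem psiFun_eq (β : MulAut (Matrix.ProjectiveSpecialLinearGroup (Fin (m + 3)) F))
    (τ : RingAut F) (k : ZMod 2) (h : HasDec β τ k) :
    psiFun β = (τ, Multiplicative.ofAdd k) := by
  have hex := exists_hasDec hF hf m β
  unfold psiFun
  rw [dif_pos hex]
  have := hex.choose_spec.choose_spec
  obtain ⟨h1, h2⟩ := HasDec.unique (card3 m) this h
  exact Prod.ext h1 (congrArg Multiplicative.ofAdd h2)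

include hF hf in
theorem psiFun_mul (β β' : MulAut (Matrix.ProjectiveSpecialLinearGroup (Fin (m + 3)) F)) :
    psiFun (β * β') = psiFun β * psiFun β' := by
  obtain ⟨τ, k, h⟩ := exists_hasDec hF hf m β
  obtain ⟨τ', k', h'⟩ := exists_hasDec hF hf m β'
  rw [psiFun_eq hF hf m β τ k h, psiFun_eq hF hf m β' τ' k' h',
    psiFun_eq hF hf m (β * β') (τ * τ') (k + k') (h.mul h')]
  rfl

/-- the homomorphism `Aut(PSL) → Aut(F) × C₂` -/
noncomputable def psi : MulAut (Matrix.ProjectiveSpecialLinearGroup (Fin (m + 3)) F) →*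
    RingAut F × Multiplicative (ZMod 2) :=
  MonoidHom.mk' psiFun (psiFun_mul hF hf m)

theorem psi_apply (β : MulAut (Matrix.ProjectiveSpecialLinearGroup (Fin (m + 3)) F)) :
    psi hF hf m β = psiFun β := rfl

theorem psi_surjective : Function.Surjective (psi hF hf m) := by
  rintro ⟨τ, k⟩
  refine ⟨fP τ * tpow k.toAdd, ?_⟩
  rw [psi_apply, psiFun_eq hF hf m _ τ k.toAdd ⟨1, by rw [map_one, one_mul]⟩]
  rfl

theorem psi_ker : (psi hF hf m).ker =
    (cP : GL (Fin (m + 3)) F →* MulAut (Matrix.ProjectiveSpecialLinearGroup (Fin (m + 3)) F)).range := by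
  ext β
  rw [MonoidHom.mem_ker, MonoidHom.mem_range, psi_apply]
  constructor
  · intro h
    obtain ⟨τ, k, hd⟩ := exists_hasDec hF hf m β
    rw [psiFun_eq hF hf m β τ k hd, Prod.mk_eq_one] at h
    obtain ⟨h1, h2⟩ := h
    have hk : k = 0 := h2
    subst h1 hk
    obtain ⟨g, rfl⟩ := hd
    exact ⟨g, by rw [fP_one, tpow_zero, mul_one, mul_one]⟩
  · rintro ⟨g, rfl⟩
    rw [psiFun_eq hF hf m _ 1 0 ⟨g, by rw [fP_one, tpow_zero, mul_one, mul_one]⟩]
    rfl

end main


section outer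

/-- `GL → Out(PSL)` -/
noncomputable def rho (n : ℕ) : GL (Fin n) F →* Cfsg.Out (Matrix.ProjectiveSpecialLinearGroup (Fin n) F) :=
  (QuotientGroup.mk' (Cfsg.Inn (Matrix.ProjectiveSpecialLinearGroup (Fin n) F))).comp cP

/-- `GL → Fˣ / (Fˣ)ⁿ` -/
noncomputable def delta (n : ℕ) : GL (Fin n) F →* Fˣ ⧸ (powMonoidHom n : Fˣ →* Fˣ).range :=
  (QuotientGroup.mk' _).comp Matrix.GeneralLinearGroup.det

theorem delta_surjective (n : ℕ) (hn : 1 ≤ n) : Function.Surjective (delta (F := F) n) := by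
  have : Nonempty (Fin n) := ⟨⟨0, by omega⟩⟩
  exact (QuotientGroup.mk'_surjective _).comp Matrix.GeneralLinearGroup.det_surjective

theorem rho_ker (n : ℕ) (hn : 2 ≤ n) : (rho (F := F) n).ker = (delta n).ker := by
  have h2 : 2 ≤ Fintype.card (Fin n) := by rw [Fintype.card_fin]; exact hn
  ext g
  rw [MonoidHom.mem_ker, MonoidHom.mem_ker]
  unfold rho delta
  rw [MonoidHom.comp_apply, MonoidHom.comp_apply, QuotientGroup.mk'_apply, QuotientGroup.mk'_apply,
    QuotientGroup.eq_one_iff, QuotientGroup.eq_one_iff]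
  constructor
  · rintro ⟨x, hx⟩
    obtain ⟨s, rfl⟩ := pm_surjective x
    rw [conj_eq_cP] at hx
    have h1 : (Matrix.SpecialLinearGroup.toGL s)⁻¹ * g ∈ Subgroup.center (GL (Fin n) F) := by
      rw [← cP_ker h2, MonoidHom.mem_ker, map_mul, map_inv, hx, inv_mul_cancel]
    rw [Matrix.GeneralLinearGroup.center_eq_range_scalar] at h1
    obtain ⟨c, hc⟩ := h1
    refine ⟨c, ?_⟩
    have hg : g = Matrix.SpecialLinearGroup.toGL s * Matrix.GeneralLinearGroup.scalar (Fin n) c := by
      rw [hc]; group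
    rw [hg, map_mul, Matrix.SpecialLinearGroup.coeToGL_det, one_mul,
      Matrix.GeneralLinearGroup.det_scalar, Fintype.card_fin]
    rfl
  · rintro ⟨c, hc⟩
    change c ^ n = Matrix.GeneralLinearGroup.det g at hc
    set z := Matrix.GeneralLinearGroup.scalar (Fin n) c with hz
    have hzc : z ∈ Subgroup.center (GL (Fin n) F) := by
      rw [Matrix.GeneralLinearGroup.center_eq_range_scalar]
      exact ⟨c, rfl⟩
    have hdet : Matrix.GeneralLinearGroup.det (g * z⁻¹) = 1 := by
      rw [map_mul, map_inv, hz, Matrix.GeneralLinearGroup.det_scalar, Fintype.card_fin, ← hc,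
        mul_inv_cancel]
    have hdet' : (g * z⁻¹).1.det = 1 := congrArg Units.val hdet
    let s : Matrix.SpecialLinearGroup (Fin n) F := ⟨(g * z⁻¹).1, hdet'⟩
    have hs : Matrix.SpecialLinearGroup.toGL s = g * z⁻¹ := Units.ext rfl
    refine ⟨pm s, ?_⟩
    rw [conj_eq_cP, hs, map_mul, map_inv, cP_eq_one_of_mem_center z hzc, inv_one, mul_one]

variable [Fintype F] {p f : ℕ} [Fact p.Prime] (hF : Fintype.card F = p ^ f) (hf : 1 ≤ f) (m : ℕ)

include hF hf in
theorem out_psl : ∃ φ : Cfsg.Out (Matrix.ProjectiveSpecialLinearGroup (Fin (m + 3)) F) →*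
      Multiplicative (ZMod f × ZMod 2),
    Function.Surjective φ ∧ IsCyclic φ.ker ∧ Nat.card φ.ker = Nat.gcd (m + 3) (p ^ f - 1) := by
  have hchar : CharP F p := charP_of_card_eq_prime_pow hF
  obtain ⟨e₁⟩ := Cfsg.Agent.Lib.Helper15.Dk.exists_ringAut_mulEquiv (F := F) p f hF
  let e : RingAut F × Multiplicative (ZMod 2) ≃* Multiplicative (ZMod f × ZMod 2) :=
    (MulEquiv.prodCongr e₁ (MulEquiv.refl _)).trans (MulEquiv.prodMultiplicative _ _).symm
  let ψ' : MulAut (Matrix.ProjectiveSpecialLinearGroup (Fin (m + 3)) F) →*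
      Multiplicative (ZMod f × ZMod 2) := e.toMonoidHom.comp (psi hF hf m)
  have hψ'ker : ψ'.ker = (psi hF hf m).ker := by
    ext β
    rw [MonoidHom.mem_ker, MonoidHom.mem_ker]
    change e (psi hF hf m β) = 1 ↔ _
    rw [MulEquiv.map_eq_one_iff]
  have hInn : Cfsg.Inn (Matrix.ProjectiveSpecialLinearGroup (Fin (m + 3)) F) ≤ ψ'.ker := by
    rintro β ⟨x, rfl⟩
    obtain ⟨s, rfl⟩ := pm_surjective x
    rw [hψ'ker, psi_ker, conj_eq_cP]
    exact ⟨_, rfl⟩
  let φ : Cfsg.Out (Matrix.ProjectiveSpecialLinearGroup (Fin (m + 3)) F) →*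
      Multiplicative (ZMod f × ZMod 2) := QuotientGroup.lift _ ψ' hInn
  have hφmk : ∀ β, φ (QuotientGroup.mk β) = ψ' β := fun β => rfl
  have hker : φ.ker = (rho (m + 3)).range := by
    ext x
    obtain ⟨β, rfl⟩ := QuotientGroup.mk_surjective x
    rw [MonoidHom.mem_ker, hφmk, ← MonoidHom.mem_ker, hψ'ker, psi_ker]
    constructor
    · rintro ⟨g, rfl⟩
      exact ⟨g, rfl⟩
    · rintro ⟨g, hg⟩
      change (QuotientGroup.mk (cP g) : Cfsg.Out _) = QuotientGroup.mk β at hg
      rw [QuotientGroup.eq] at hg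
      obtain ⟨x, hx⟩ := hg
      obtain ⟨s, rfl⟩ := pm_surjective x
      rw [conj_eq_cP] at hx
      refine ⟨g * Matrix.SpecialLinearGroup.toGL s, ?_⟩
      rw [map_mul, hx, mul_inv_cancel_left]
  have hsurj : Function.Surjective φ := by
    intro y
    obtain ⟨z, hz⟩ := e.surjective y
    obtain ⟨β, hβ⟩ := psi_surjective hF hf m z
    refine ⟨QuotientGroup.mk β, ?_⟩
    rw [hφmk]
    change e (psi hF hf m β) = y
    rw [hβ, hz]
  let iso : (Fˣ ⧸ (powMonoidHom (m + 3) : Fˣ →* Fˣ).range) ≃* (rho (F := F) (m + 3)).range :=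
    ((QuotientGroup.quotientKerEquivOfSurjective (delta (m + 3))
      (delta_surjective (m + 3) (by omega))).symm.trans
      (QuotientGroup.quotientMulEquivOfEq (rho_ker (m + 3) (by omega)).symm)).trans
      (QuotientGroup.quotientKerEquivRange (rho (m + 3)))
  have hcyc0 : IsCyclic (Fˣ ⧸ (powMonoidHom (m + 3) : Fˣ →* Fˣ).range) :=
    isCyclic_of_surjective (QuotientGroup.mk' _) (QuotientGroup.mk'_surjective _)
  refine ⟨φ, hsurj, ?_, ?_⟩
  · rw [hker]
    exact isCyclic_of_surjective iso.toMonoidHom iso.surjective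
  · rw [hker, ← Nat.card_congr iso.toEquiv]
    change (powMonoidHom (m + 3) : Fˣ →* Fˣ).range.index = _
    rw [IsCyclic.index_powMonoidHom_range, Nat.card_units, Nat.card_eq_fintype_card, hF,
      Nat.gcd_comm]

end outer

end Cfsg.Agent.Lib.Helper6.AutPSL
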