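import Mathlib
import Cfsg.Agent.Lib.Helper6.SimAut
import Cfsg.Agent.Lib.Helper15.QuadCount6

/-!
# A similarity of the minus type form with prescribed multiplier
-/

set_option autoImplicit false
set_option linter.unusedSectionVars false
set_option linter.unusedVariables false

namespace Cfsg.Agent.Lib.Helper6.SimAut

open Subgroup Matrix Cfsg.Agent.Lib.Helper6 Cfsg.Agent.Lib.Helper6.OmegaAut Cfsg.Agent.Lib.Helper15

section general
variable {F : Type*} [Field F] {ι : Type} [Fintype ι] [DecidableEq ι]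
  (Q : QuadraticForm F (ι → F))

/-- a matrix multiplying the form by a non-zero scalar is a similarity -/
noncomputable def simOfMatrix (hQ : (QuadraticMap.polarBilin Q).Nondegenerate) (g : Matrix ι ι F)
    (lam : Fˣ) (h : ∀ v, Q (g *ᵥ v) = (lam : F) * Q v) : ↥(GO Q) :=
  ⟨Matrix.GeneralLinearGroup.mkOfDetNeZero g (by
    intro h0
    have := det_sq_of_similarity Q hQ g lam h
    rw [h0] at this
    have h1 : (lam : F) ^ Fintype.card ι ≠ 0 := pow_ne_zero _ (Units.ne_zero _)
    apply h1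
    rw [← this]
    ring), lam, h⟩

theorem simOfMatrix_val (hQ : (QuadraticMap.polarBilin Q).Nondegenerate) (g : Matrix ι ι F)
    (lam : Fˣ) (h : ∀ v, Q (g *ᵥ v) = (lam : F) * Q v) :
    (((simOfMatrix Q hQ g lam h).1 : GL ι F) : Matrix ι ι F) = g := rfl

theorem mulr_simOfMatrix (hQ : (QuadraticMap.polarBilin Q).Nondegenerate) (g : Matrix ι ι F)
    (lam : Fˣ) (h : ∀ v, Q (g *ᵥ v) = (lam : F) * Q v) (v₀ : ι → F) (hv₀ : Q v₀ ≠ 0) :
    mulr Q (simOfMatrix Q hQ g lam h) = lam :=
  mulr_eq Q v₀ hv₀ _ lam h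

end general

section minus
variable {F : Type*} [Field F] (m : ℕ) (a b : F)

/-- the matrix `diag(λ,…,λ,1,…,1) ⊕ (multiplication by u)` -/
noncomputable def minusSimMat (lam : F) (u : Fin 2 → F) :
    Matrix ((Fin m ⊕ Fin m) ⊕ Fin 2) ((Fin m ⊕ Fin m) ⊕ Fin 2) F :=
  Matrix.fromBlocks (Matrix.diagonal (fun k => Sum.elim (fun _ => lam) (fun _ => (1 : F)) k)) 0 0
    (!![u 0, -(b * u 1); u 1, u 0 + a * u 1])

theorem minusSimMat_spec (lam : F) (u : Fin 2 → F) (hu : binForm a b u = lam)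
    (v : (Fin m ⊕ Fin m) ⊕ Fin 2 → F) :
    Qgen m (binForm a b) (minusSimMat m a b lam u *ᵥ v) = lam * Qgen m (binForm a b) v := by
  rw [Qgen_apply, Qgen_apply]
  have h1 : ∀ i : Fin m, (minusSimMat m a b lam u *ᵥ v) (Sum.inl (Sum.inl i)) =
      lam * v (Sum.inl (Sum.inl i)) := by
    intro i
    unfold minusSimMat
    rw [Matrix.fromBlocks_mulVec]
    simp [Matrix.mulVec_diagonal]
  have h2 : ∀ i : Fin m, (minusSimMat m a b lam u *ᵥ v) (Sum.inl (Sum.inr i)) =
      v (Sum.inl (Sum.inr i)) := by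
    intro i
    unfold minusSimMat
    rw [Matrix.fromBlocks_mulVec]
    simp [Matrix.mulVec_diagonal]
  have h3 : (fun j : Fin 2 => (minusSimMat m a b lam u *ᵥ v) (Sum.inr j)) =
      mulB a b u (fun j => v (Sum.inr j)) := by
    funext j
    unfold minusSimMat
    rw [Matrix.fromBlocks_mulVec]
    fin_cases j
    · simp [mulB, Matrix.mulVec, dotProduct, Fin.sum_univ_two]
      ring
    · simp [mulB, Matrix.mulVec, dotProduct, Fin.sum_univ_two]
      ring
  rw [h3, binForm_mulB, hu]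
  simp only [h1, h2]
  rw [mul_add, Finset.mul_sum]
  congr 1
  apply Finset.sum_congr rfl
  intro i _
  ring

end minus

end Cfsg.Agent.Lib.Helper6.SimAut
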