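import Mathlib
import Cfsg.Agent.Lib.Helper6.AutOrt20
import Cfsg.Agent.Lib.Helper6.OmegaList
import Cfsg.Agent.S2728

/-!
# Automorphisms of orthogonal groups, part 21: the order of the image of the similarity group,
minus type (odd `q`) and characteristic two
-/

set_option autoImplicit false
set_option linter.unusedSectionVars false
set_option linter.unusedVariables false

open Cfsg Matrix QuadraticMap Module

namespace Cfsg.Agent.Lib.Helper6.AutOrt

open Cfsg.Agent.Lib.Helper6 Cfsg.Agent.Lib.Helper15 Cfsg.Agent.Lib.Helper6.AutInduced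
  Cfsg.Agent.Lib.Helper6.OmegaAut Cfsg.Agent.Lib.Helper6.SimAut

section grp

theorem card_of_surj_ker {G A : Type*} [Group G] [Group A] (H K : Subgroup G) (hHK : H ≤ K)
    (φ : ↥K →* A) (hs : Function.Surjective φ) (hk : φ.ker = H.subgroupOf K) :
    Nat.card K = Nat.card A * Nat.card H := by
  have h1 := Subgroup.card_mul_index φ.ker
  rw [Subgroup.index_ker, MonoidHom.range_eq_top.mpr hs, Subgroup.card_top, hk,
    Nat.card_congr (Subgroup.subgroupOfEquivOfLe hHK).toEquiv] at h1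
  rw [← h1, mul_comm]

end grp

section two
variable {F : Type*} [Field F] [Fintype F] [DecidableEq F] {ι : Type} [Fintype ι] [DecidableEq ι]
  (Q : QuadraticForm F (ι → F))

/-- in characteristic two every similarity is a scalar times an isometry -/
theorem pgoAut_eq_poAut_two (h2 : (2 : F) = 0) (hQ : (QuadraticMap.polarBilin Q).Nondegenerate)
    (h5 : 5 ≤ Fintype.card ι) : Cfsg.pgoAut F ⇑Q = Cfsg.poAut F ⇑Q := by
  rw [pgoAut_eq, poAut_eq]
  apply le_antisymm
  · rintro _ ⟨g, hg, rfl⟩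
    have hgGO : g.1 ∈ GO Q := hg
    obtain ⟨c, hc⟩ := hgGO
    haveI : CharP F 2 := by
      apply CharTwo.of_one_ne_zero_of_two_eq_zero one_ne_zero h2
    obtain ⟨d, hd⟩ := FiniteField.isSquare_of_char_two (F := F)
      (by rw [ringChar.eq_iff]; infer_instance) (c : F)
    have hd0 : d ≠ 0 := by
      intro h
      rw [h, mul_zero] at hd
      exact c.ne_zero hd
    set du : Fˣ := Units.mk0 d hd0 with hdu
    have hmem : (scalGL du⁻¹ : GL ι F) * g.1 ∈ Cfsg.isometryGroup F ⇑Q := by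
      rw [OmegaAut.mem_isometryGroup_iff]
      intro u
      rw [Units.val_mul, ← Matrix.mulVec_mulVec, scalGL_val, Matrix.smul_mulVec,
        Matrix.one_mulVec, Q_smul, hc, hd]
      have : ((du⁻¹ : Fˣ) : F) = d⁻¹ := by rw [Units.val_inv_eq_inv_val]; rfl
      rw [this]
      field_simp
    refine ⟨⟨(scalGL du⁻¹ : GL ι F) * g.1, Subgroup.le_normalizer hmem⟩, hmem, ?_⟩
    have h1 : (⟨(scalGL du⁻¹ : GL ι F) * g.1, Subgroup.le_normalizer hmem⟩ :
        ↥(Subgroup.normalizer (Cfsg.isometryGroup F ⇑Q : Set (GL ι F)))) =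
        ⟨scalGL du⁻¹, GO_le_normalizer Q (scalGL_mem_GO Q _)⟩ * g := rfl
    rw [h1, map_mul]
    have h3 := fGO_scalGL Q hQ h5 du⁻¹
    rw [fGO_apply] at h3
    rw [h3, one_mul]
  · rintro _ ⟨g, hg, rfl⟩
    exact ⟨g, isometryGroup_le_GO Q hg, rfl⟩

/-- in characteristic two `Inn` has index two in the image of the orthogonal group -/
theorem relIndex_Inn_poAut_two (h2 : (2 : F) = 0) (hQ : (QuadraticMap.polarBilin Q).Nondegenerate)
    (h5 : 5 ≤ Fintype.card ι) (T : HypTriple Q) :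
    (Cfsg.Inn (Cfsg.POmega F ⇑Q)).relIndex (Cfsg.poAut F ⇑Q) = 2 := by
  have hperf := Omega_perfect Q hQ h5
  rw [Inn_eq, poAut_eq, relIndex_img_eq _ _ _ (OmX_le _) Subgroup.le_normalizer]
  · have h1 : (OmX (Cfsg.isometryGroup F ⇑Q)).relIndex (Cfsg.isometryGroup F ⇑Q) =
        (Cfsg.Omega F ⇑Q).index := by
      unfold Subgroup.relIndex OmX Subgroup.subgroupOf
      rw [Subgroup.comap_map_eq_self_of_injective (Subgroup.subtype_injective _)]
    rw [h1]
    exact index_Omega_two' Q h2 hQ (by omega) (Or.inr (by omega))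
  · intro b hb hbN hΨ
    have hbO : b ∈ Cfsg.isometryGroup F ⇑Q := hb
    rw [Psi_eq_one_iff _ hperf] at hΨ
    have hz : ∀ g ∈ Cfsg.Omega F ⇑Q, g * (⟨b, hbO⟩ : ↥(Cfsg.isometryGroup F ⇑Q)) = ⟨b, hbO⟩ * g := by
      intro g hg
      apply Subtype.ext
      have := hΨ ⟨g, hg⟩
      change b * (g.1 : GL ι F) * b⁻¹ = (g.1 : GL ι F) at this
      change (g.1 : GL ι F) * b = b * (g.1 : GL ι F)
      nth_rewrite 1 [← this]
      rw [inv_mul_cancel_right]
    obtain ⟨c, hcc, hc⟩ := centralizer_Omega' Q hQ (Or.inr (by omega)) T ⟨b, hbO⟩ hz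
    change (b : Matrix ι ι F) = c • (1 : Matrix ι ι F) at hc
    have hc' : c = 1 := by
      have h3 : (c - 1) * (c - 1) = 0 := by linear_combination hcc + (1 - c) * h2
      rcases mul_eq_zero.mp h3 with h | h <;> linear_combination h
    have : b = 1 := by
      apply Units.ext
      rw [hc, hc', one_smul]
      rfl
    rw [this]
    exact Subgroup.one_mem _

theorem Inn_le_poAut : Cfsg.Inn (Cfsg.POmega F ⇑Q) ≤ Cfsg.poAut F ⇑Q := by
  rw [Inn_eq, poAut_eq]
  rintro _ ⟨b, hb, rfl⟩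
  exact ⟨b, OmX_le (Cfsg.isometryGroup F ⇑Q) hb, rfl⟩

/-- the order of the image of the similarity group in characteristic two -/
theorem card_pgoAut_two (h2 : (2 : F) = 0) (hQ : (QuadraticMap.polarBilin Q).Nondegenerate)
    (h5 : 5 ≤ Fintype.card ι) (T : HypTriple Q) :
    Nat.card (Cfsg.pgoAut F ⇑Q) = 2 * Nat.card (Cfsg.POmega F ⇑Q) := by
  rw [pgoAut_eq_poAut_two Q h2 hQ h5,
    card_eq_of_relIndex _ _ (Inn_le_poAut Q) 2 (relIndex_Inn_poAut_two Q h2 hQ h5 T)]
  congr 1
  exact card_Inn_of_perfect_quot (Omega_perfect Q hQ h5)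

end two

section minusodd
variable {F : Type*} [Field F] [Fintype F] [DecidableEq F] {k : ℕ} (a b : F)
  (hab : ∀ z₁ z₂ : F, z₁ ^ 2 + a * z₁ * z₂ + b * z₂ ^ 2 = 0 → z₁ = 0 ∧ z₂ = 0)

include hab in
/-- the order of the image of the similarity group, minus type, `q` odd -/
theorem card_pgoAut_minus_odd (hodd : Odd (Fintype.card F)) (hk : 3 ≤ k) :
    Nat.card (Cfsg.pgoAut F ⇑(Qgen k (binForm a b))) =
      (if Even k ∧ Fintype.card F % 4 = 3 then 8 else 4) *
        Nat.card (Cfsg.POmega F ⇑(Qgen k (binForm a b))) := by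
  have hfun : Cfsg.quadFormMinus k F a b = ⇑(Qgen k (binForm a b)) := by
    funext v
    rw [Qgen_apply, binForm_apply]
    rfl
  have hnd := nondegenerate_Qgen k (binForm a b) (nondegenerate_binForm a b hab)
  have h5 : 5 ≤ Fintype.card ((Fin k ⊕ Fin k) ⊕ Fin 2) := by rw [card_JJ]; omega
  have hI := card_Inn_of_perfect_quot (Omega_perfect (Qgen k (binForm a b)) hnd h5)
  obtain ⟨h1, h2⟩ := Cfsg.Agent.S2728.result hodd hk a b hab
  rw [hfun] at h1 h2
  split_ifs with hc
  · obtain ⟨φ, hφ, hker⟩ := h1 hc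
    rw [card_of_surj_ker _ _ (Inn_le_pgoAut _) φ hφ hker]
    congr 1
    rw [Nat.card_eq_fintype_card, DihedralGroup.card]
  · obtain ⟨φ, hφ, hker⟩ := h2 hc
    rw [card_of_surj_ker _ _ (Inn_le_pgoAut _) φ hφ hker]
    congr 1
    rw [Nat.card_eq_fintype_card]
    rfl

end minusodd

end Cfsg.Agent.Lib.Helper6.AutOrt
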