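import Mathlib
import Cfsg.Agent.Lib.Helper6.AutOrt21

/-!
# Automorphisms of orthogonal groups, part 25: multiplier and determinant of semilinear
similarities; criteria for the induced automorphism to be inner
-/

set_option autoImplicit false
set_option linter.unusedSectionVars false
set_option linter.unusedVariables false

open Cfsg Matrix QuadraticMap Module

namespace Cfsg.Agent.Lib.Helper6.AutOrt

open Cfsg.Agent.Lib.Helper6 Cfsg.Agent.Lib.Helper15 Cfsg.Agent.Lib.Helper6.AutInduced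
  Cfsg.Agent.Lib.Helper6.OmegaAut Cfsg.Agent.Lib.Helper6.SimAut

variable {F : Type*} [Field F] [Fintype F] {ι : Type} [Fintype ι] [DecidableEq ι]
variable {Q : QuadraticForm F (ι → F)} [hS : Std Q]

namespace SemiSimO

/-- the determinant of the matrix of a semilinear similarity -/
noncomputable def dt (Φ : SemiSimO Q) : F := Φ.mat.det

theorem comp_ν (Φ Ψ : SemiSimO Q) : (Φ.comp Ψ).ν = Φ.ν * Φ.σ Ψ.ν := rfl

theorem mat_comp (Φ Ψ : SemiSimO Q) : (Φ.comp Ψ).mat = Φ.mat * Ψ.mat.map Φ.σ := by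
  apply matrix_ext_mulVec
  intro x
  have hx : x = fun i => Φ.σ ((fun i => Φ.σ.symm (x i)) i) := by
    funext i
    simp
  rw [mat_mulVec, ← mulVec_mulVec]
  nth_rewrite 2 [hx]
  rw [map_mulVec_apply', mat_mulVec', mat_mulVec, comp_S]
  rfl

theorem dt_comp (Φ Ψ : SemiSimO Q) : (Φ.comp Ψ).dt = Φ.dt * Φ.σ Ψ.dt := by
  unfold dt
  rw [mat_comp, det_mul]
  congr 1
  exact (RingHom.map_det (Φ.σ : F →+* F) Ψ.mat).symm

theorem exists_Q_ne_zero : ∃ x : ι → F, Q x ≠ 0 := by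
  obtain ⟨T⟩ := hS.triple
  exact ⟨_, T_nonsingular Q T⟩

theorem ν_of_id (Ψ : SemiSimO Q) (hσ : Ψ.σ = RingEquiv.refl F) (hΨ : ∀ x, Ψ.S x = x) :
    Ψ.ν = 1 := by
  obtain ⟨x, hx⟩ := exists_Q_ne_zero (Q := Q)
  have h := Ψ.form x
  rw [hΨ, hσ] at h
  change Q x = Ψ.ν * Q x at h
  have : (Ψ.ν - 1) * Q x = 0 := by linear_combination -h
  rcases mul_eq_zero.mp this with h1 | h1
  · linear_combination h1
  · exact absurd h1 hx

theorem mat_of_id (Ψ : SemiSimO Q) (hσ : Ψ.σ = RingEquiv.refl F) (hΨ : ∀ x, Ψ.S x = x) :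
    Ψ.mat = 1 := by
  apply matrix_ext_mulVec
  intro x
  rw [mat_mulVec, hΨ, one_mulVec, hσ]
  rfl

theorem dt_of_id (Ψ : SemiSimO Q) (hσ : Ψ.σ = RingEquiv.refl F) (hΨ : ∀ x, Ψ.S x = x) :
    Ψ.dt = 1 := by
  unfold dt
  rw [mat_of_id Ψ hσ hΨ, det_one]

theorem comp_symm_σ (Φ : SemiSimO Q) : (Φ.comp Φ.symm).σ = RingEquiv.refl F := by
  rw [comp_σ, symm_σ]
  ext x
  simp

theorem ν_symm (Φ : SemiSimO Q) : Φ.ν * Φ.σ Φ.symm.ν = 1 := by
  rw [← comp_ν]
  exact ν_of_id _ (comp_symm_σ Φ) (fun x => Φ.S_Sinv x)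

theorem dt_symm (Φ : SemiSimO Q) : Φ.dt * Φ.σ Φ.symm.dt = 1 := by
  rw [← dt_comp]
  exact dt_of_id _ (comp_symm_σ Φ) (fun x => Φ.S_Sinv x)

/-- for a linear similarity the matrix acts as `S` -/
theorem mat_mulVec_of_refl (Ψ : SemiSimO Q) (hσ : Ψ.σ = RingEquiv.refl F) (x : ι → F) :
    Ψ.mat *ᵥ x = Ψ.S x := by
  rw [mat_mulVec, hσ]
  rfl

theorem dt_sq (Ψ : SemiSimO Q) (hσ : Ψ.σ = RingEquiv.refl F) :
    Ψ.dt ^ 2 = Ψ.ν ^ Fintype.card ι := by
  apply det_sq_of_similarity Q hS.nondeg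
  intro v
  rw [mat_mulVec_of_refl Ψ hσ, Ψ.form, hσ]
  rfl

/-- the scalar similarity -/
def scal (c : F) (hc : c ≠ 0) : SemiSimO Q where
  S x := c • x
  σ := RingEquiv.refl F
  ν := c * c
  hν := mul_ne_zero hc hc
  add x y := smul_add c x y
  smul a x := by
    change c • a • x = a • c • x
    rw [smul_comm]
  form x := by
    rw [Q_smul]
    rfl

theorem gam_scal (c : F) (hc : c ≠ 0) : (scal (Q := Q) c hc).gam = 1 :=
  gam_eq_one_of_smul _ c (fun x => rfl)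

end SemiSimO

section crit

/-- **criterion**: a linear similarity whose multiplier is `c²` and whose determinant is `cⁿ` induces
an automorphism in the image of `SO` -/
theorem gam_mem_psoAut [DecidableEq F] (Ψ : SemiSimO Q) (hσ : Ψ.σ = RingEquiv.refl F) (c : F)
    (hν : Ψ.ν = c * c) (hdt : Ψ.dt = c ^ Fintype.card ι) :
    Ψ.gam ∈ Cfsg.psoAut F ⇑Q := by
  have hc : c ≠ 0 := by
    rintro rfl
    exact Ψ.hν (by rw [hν, mul_zero])
  set Ψ' : SemiSimO Q :=
    { S := fun x => c⁻¹ • Ψ.S x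
      σ := RingEquiv.refl F
      ν := 1
      hν := one_ne_zero
      add := fun x y => by rw [Ψ.add, smul_add]
      smul := fun a x => by
        rw [Ψ.smul, hσ]
        change c⁻¹ • a • Ψ.S x = a • c⁻¹ • Ψ.S x
        rw [smul_comm]
      form := fun x => by
        rw [Q_smul, Ψ.form, hν, hσ, one_mul]
        change c⁻¹ * c⁻¹ * (c * c * Q x) = Q x
        field_simp } with hΨ'
  have h1 : Ψ'.gam = Ψ.gam := by
    have h2 : Ψ'.gam = ((SemiSimO.scal c⁻¹ (inv_ne_zero hc)).comp Ψ).gam :=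
      SemiSimO.gam_eq_of_S_eq _ _ (fun x => rfl)
    rw [h2, SemiSimO.gam_comp, SemiSimO.gam_scal, one_mul]
  rw [← h1]
  have hmat : Ψ'.mat = c⁻¹ • Ψ.mat := by
    apply matrix_ext_mulVec
    intro x
    rw [SemiSimO.mat_mulVec_of_refl Ψ' rfl, smul_mulVec, SemiSimO.mat_mulVec_of_refl Ψ hσ]
  have hind := Ψ'.gam_induced
  refine Subgroup.subset_closure ⟨Ψ'.gl, ?_, hind⟩
  rw [mem_SOGL]
  constructor
  · rw [OmegaAut.mem_isometryGroup_iff]
    intro u
    rw [SemiSimO.gl_val, SemiSimO.mat_mulVec_of_refl Ψ' rfl, Ψ'.form, one_mul]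
    rfl
  · rw [SemiSimO.gl_val, hmat, det_smul]
    change _ * Ψ.dt = 1
    rw [hdt, inv_pow]
    field_simp

variable (p : ℕ) [hp : Fact p.Prime] [hcp : CharP F p]
include hp hcp

/-- **criterion**: if a linear similarity induces an inner automorphism, its multiplier is a square
`c²` and its determinant is `cⁿ` -/
theorem of_gam_mem_Inn (Ψ : SemiSimO Q) (hσ : Ψ.σ = RingEquiv.refl F)
    (h : Ψ.gam ∈ Cfsg.Inn (Cfsg.POmega F ⇑Q)) :
    ∃ c : F, Ψ.ν = c * c ∧ Ψ.dt = c ^ Fintype.card ι := by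
  obtain ⟨y, hy⟩ := h
  obtain ⟨ω, rfl⟩ := pu_surjective y
  have h1 : ((SemiSimO.ofOm ω⁻¹).comp Ψ).gam = 1 := by
    rw [SemiSimO.gam_comp, SemiSimO.gam_ofOm, ← hy, map_inv, map_inv, inv_mul_cancel]
  obtain ⟨-, c, hc⟩ := scalar_of_gam_eq_one p _ h1
  have hc' : ∀ x, Ψ.S x = c • av ω x := by
    intro x
    have h3 : av ω⁻¹ (Ψ.S x) = c • x := hc x
    have h4 := congrArg (av ω) h3
    rw [av_av_inv, av_smul] at h4
    exact h4
  refine ⟨c, ?_, ?_⟩
  · obtain ⟨x, hx⟩ := SemiSimO.exists_Q_ne_zero (Q := Q)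
    have h3 := Ψ.form x
    rw [hc', Q_smul, Q_av, hσ] at h3
    change c * c * Q x = Ψ.ν * Q x at h3
    exact (mul_right_cancel₀ hx h3).symm
  · have hmat : Ψ.mat = c • ((ω.1.1 : GL ι F) : Matrix ι ι F) := by
      apply matrix_ext_mulVec
      intro x
      rw [SemiSimO.mat_mulVec_of_refl Ψ hσ, hc', smul_mulVec]
      rfl
    unfold SemiSimO.dt
    rw [hmat, det_smul]
    have hdet : ((ω.1.1 : GL ι F) : Matrix ι ι F).det = 1 := by
      have := Omega_le_specialIsometryGroup Q ω.2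
      unfold Cfsg.specialIsometryGroup at this
      rw [MonoidHom.mem_ker, MonoidHom.comp_apply] at this
      exact congrArg Units.val this
    rw [hdet, mul_one]

end crit

end Cfsg.Agent.Lib.Helper6.AutOrt
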