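import Mathlib
import Cfsg.Agent.Lib.Helper6.Inndiag

/-!
# `Inndiag`: the subgroup generated by the automorphisms induced by similarities with a property
-/

set_option autoImplicit false
set_option linter.unusedSectionVars false
set_option linter.unusedVariables false

namespace Cfsg.Agent.Lib.Helper6.Inndiag

open Subgroup Matrix Cfsg.Agent.Lib.Helper6.AutInduced Cfsg.Agent.Lib.Helper6
  Cfsg.Agent.Lib.Helper6.OmegaAut Cfsg.Agent.Lib.Helper6.SimAut

section main
variable {F : Type*} [Field F] {ι : Type} [Fintype ι] [DecidableEq ι]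
  (Q : QuadraticForm F (ι → F))

/-- the subgroup generated by the automorphisms induced by the similarities with property `P` -/
theorem inndiag_eq' (P : Matrix ι ι F → Prop) (K : Subgroup ↥(GO Q))
    (hP : ∀ g : ↥(GO Q), P ((g.1 : GL ι F) : Matrix ι ι F) ↔ g ∈ K) :
    Subgroup.closure {β : MulAut (Cfsg.POmega F ⇑Q) | ∃ g : GL ι F,
      g ∈ Cfsg.Geo.quadSimilarityGroup (F := F) ⇑Q ∧ P (g : Matrix ι ι F) ∧
      Cfsg.IsInducedBySemilinearPOmega ⇑Q g (RingEquiv.refl F) β} = K.map (fGO Q) := by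
  have hset : {β : MulAut (Cfsg.POmega F ⇑Q) | ∃ g : GL ι F,
      g ∈ Cfsg.Geo.quadSimilarityGroup (F := F) ⇑Q ∧ P (g : Matrix ι ι F) ∧
      Cfsg.IsInducedBySemilinearPOmega ⇑Q g (RingEquiv.refl F) β} =
      {β | ∃ g ∈ K.map (GO Q).subtype, IsInd (Cfsg.isometryGroup F ⇑Q) g β} := by
    ext β
    constructor
    · rintro ⟨g, hg, hp, hi⟩
      exact ⟨g, ⟨⟨g, hg⟩, (hP _).mp hp, rfl⟩, (isInduced_iff ⇑Q g β).mp hi⟩
    · rintro ⟨g, ⟨g', hg', rfl⟩, hi⟩
      exact ⟨g'.1, g'.2, (hP g').mpr hg', (isInduced_iff ⇑Q _ β).mpr hi⟩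
  have hle : K.map (GO Q).subtype ≤ GO Q := Subgroup.map_subtype_le K
  rw [hset, closure_isInd _ _ (hle.trans (GO_le_normalizer Q)), img_eq_map Q _ hle]
  congr 1
  ext g
  rw [Subgroup.mem_subgroupOf, Subgroup.mem_map]
  constructor
  · rintro ⟨g', hg', h⟩
    have : g' = g := Subtype.ext h
    rw [← this]; exact hg'
  · intro h
    exact ⟨g, h, rfl⟩

end main

end Cfsg.Agent.Lib.Helper6.Inndiag
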