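import Mathlib
import Cfsg.Agent.Lib.Helper6.Spinor3
import Cfsg.Agent.Lib.Helper15.QuadF2a

/-!
# The spinor norm of `diag(λ, …, λ, λ⁻¹, …, λ⁻¹)` in the plus type orthogonal group
-/

set_option autoImplicit false
set_option linter.unusedSectionVars false
set_option linter.unusedVariables false

namespace Cfsg.Agent.Lib.Helper6.LamDiag

open Matrix Cfsg.Agent.Lib.Helper6 Cfsg.Agent.Lib.Helper15

section
variable {F : Type*} [Field F] {ι : Type} [Fintype ι] [DecidableEq ι]
  (Q : QuadraticForm F (ι → F))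

/-- the product of the reflections in `e - f` and `e - λ f`, for a hyperbolic pair `e, f` of basis
vectors, is `diag(λ, λ⁻¹)` on the pair and fixes the other basis vectors -/
theorem refl_pair_lam (p p' : ι) (hpp : p ≠ p')
    (hp : ∀ x, QuadraticMap.polar ⇑Q (Pi.single p 1) x = x p')
    (hp' : ∀ x, QuadraticMap.polar ⇑Q (Pi.single p' 1) x = x p)
    (hQp : Q (Pi.single p 1) = 0) (hQp' : Q (Pi.single p' 1) = 0) (lam : F) (hlam : lam ≠ 0) :
    Q (Pi.single p 1 - Pi.single p' 1) = -1 ∧ Q (Pi.single p 1 - lam • Pi.single p' 1) = -lam ∧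
    Cfsg.reflectionMatrix ⇑Q (Pi.single p 1 - Pi.single p' 1) *
      Cfsg.reflectionMatrix ⇑Q (Pi.single p 1 - lam • Pi.single p' 1) =
      Matrix.diagonal (fun k => if k = p then lam else if k = p' then lam⁻¹ else 1) := by
  have h1 : Q (Pi.single p 1 - Pi.single p' 1) = -1 := by
    rw [Q_sub, hQp, hQp', hp]
    simp
  have h3 : Q (Pi.single p 1 - lam • Pi.single p' 1) = -lam := by
    rw [Q_sub, hQp, Q_smul, hQp', QuadraticMap.polar_smul_right, hp]
    simp
  refine ⟨h1, h3, ?_⟩
  apply matrix_ext_mulVec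
  intro x
  rw [← Matrix.mulVec_mulVec, reflectionMatrix_mulVec, reflectionMatrix_mulVec, h1, h3]
  simp only [QuadraticMap.polar_sub_left,
    QuadraticMap.polar_smul_left, hp, hp']
  funext k
  rw [Matrix.mulVec_diagonal]
  simp only [Pi.sub_apply, Pi.smul_apply, Pi.single_apply, smul_eq_mul,
    if_neg hpp, if_neg hpp.symm, if_true]
  by_cases hk : k = p
  · subst hk
    rw [if_pos rfl]
    simp only [if_true, if_neg hpp]
    field_simp
    ring
  · by_cases hk' : k = p'
    · subst hk'
      rw [if_neg hk, if_pos rfl]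
      simp only [if_true, if_neg hk]
      field_simp
      ring
    · rw [if_neg hk, if_neg hk']
      simp only [if_neg hk, if_neg hk']
      ring

end

section plus
variable (F : Type*) [Field F] [Fintype F] [DecidableEq F] (m : ℕ)

theorem lam_list (lam : F) (hlam : lam ≠ 0) :
    ∀ i' : ℕ, i' ≤ m → ∃ vs : List (Fin m ⊕ Fin m → F), (∀ v ∈ vs, QPlus F m v ≠ 0) ∧
      vs.length = 2 * i' ∧ (vs.map (fun v => QPlus F m v)).prod = lam ^ i' ∧
      (vs.map (fun v => Cfsg.reflectionMatrix ⇑(QPlus F m) v)).prod =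
        Matrix.diagonal (fun k => Sum.elim (fun j : Fin m => if (j : ℕ) < i' then lam else 1)
          (fun j : Fin m => if (j : ℕ) < i' then lam⁻¹ else 1) k) := by
  have hsingle : ∀ (k k' : Fin m ⊕ Fin m), (Pi.single k (1 : F) : Fin m ⊕ Fin m → F) k' =
      if k' = k then 1 else 0 := fun k k' => by rw [Pi.single_apply]
  intro i'
  induction i' with
  | zero =>
    intro _
    refine ⟨[], by simp, rfl, by simp, ?_⟩
    rw [List.map_nil, List.prod_nil, ← Matrix.diagonal_one]
    congr 1
    funext k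
    rcases k with j | j <;> simp
  | succ i' ih =>
    intro hi'
    obtain ⟨vs, hvs, hlen, hprod, hmat⟩ := ih (by omega)
    have hjm : i' < m := by omega
    set j : Fin m := ⟨i', hjm⟩ with hj
    obtain ⟨h1, h3, h4⟩ := refl_pair_lam (QPlus F m) (Sum.inl j) (Sum.inr j) (by simp)
      (by
        intro x
        rw [polar_QPlus]
        simp [hsingle, Finset.sum_ite_eq'])
      (by
        intro x
        rw [polar_QPlus]
        simp [hsingle, Finset.sum_ite_eq'])
      (by
        rw [QPlus_apply]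
        unfold Cfsg.quadFormPlus
        simp [hsingle])
      (by
        rw [QPlus_apply]
        unfold Cfsg.quadFormPlus
        simp [hsingle]) lam hlam
    refine ⟨vs ++ [Pi.single (Sum.inl j) 1 - Pi.single (Sum.inr j) 1,
      Pi.single (Sum.inl j) 1 - lam • Pi.single (Sum.inr j) 1], ?_, ?_, ?_, ?_⟩
    · intro v hv
      rcases List.mem_append.mp hv with hv | hv
      · exact hvs v hv
      · simp only [List.mem_cons, List.mem_nil_iff, or_false] at hv
        rcases hv with rfl | rfl
        · rw [h1]; exact neg_ne_zero.mpr one_ne_zero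
        · rw [h3]; exact neg_ne_zero.mpr hlam
    · rw [List.length_append, hlen]
      simp
      ring
    · rw [List.map_append, List.prod_append, hprod]
      simp only [List.map_cons, List.map_nil, List.prod_cons, List.prod_nil, h1, h3]
      ring
    · rw [List.map_append, List.prod_append, hmat]
      simp only [List.map_cons, List.map_nil, List.prod_cons, List.prod_nil, Matrix.mul_one]
      rw [h4, Matrix.diagonal_mul_diagonal]
      congr 1
      funext k
      rcases k with j' | j'
      · simp only [Sum.elim_inl, Sum.inl.injEq, reduceCtorEq, if_false]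
        by_cases hjj : j' = j
        · rw [if_pos hjj]
          have : (j' : ℕ) = i' := by rw [hjj]
          rw [if_neg (by omega), if_pos (by omega), one_mul]
        · rw [if_neg hjj, mul_one]
          have : (j' : ℕ) ≠ i' := fun h => hjj (Fin.ext h)
          by_cases hlt : (j' : ℕ) < i'
          · rw [if_pos hlt, if_pos (by omega)]
          · rw [if_neg hlt, if_neg (by omega)]
      · simp only [Sum.elim_inr, Sum.inr.injEq, reduceCtorEq, if_false]
        by_cases hjj : j' = j
        · rw [if_pos hjj]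
          have : (j' : ℕ) = i' := by rw [hjj]
          rw [if_neg (by omega), if_pos (by omega), one_mul]
        · rw [if_neg hjj, mul_one]
          have : (j' : ℕ) ≠ i' := fun h => hjj (Fin.ext h)
          by_cases hlt : (j' : ℕ) < i'
          · rw [if_pos hlt, if_pos (by omega)]
          · rw [if_neg hlt, if_neg (by omega)]

/-- `diag(λ, …, λ, λ⁻¹, …, λ⁻¹)` lies in `Ω⁺_{2m}` iff `λ^m` is a square -/
theorem lamDiag_mem_iff (h2 : (2 : F) ≠ 0) (hm : 1 ≤ m) (lam : F) (hlam : lam ≠ 0) :
    (∃ g : ↥(Cfsg.isometryGroup F ⇑(QPlus F m)), g ∈ Cfsg.Omega F ⇑(QPlus F m) ∧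
      ((g.1 : GL (Fin m ⊕ Fin m) F) : Matrix (Fin m ⊕ Fin m) (Fin m ⊕ Fin m) F) =
        Matrix.diagonal (fun k => Sum.elim (fun _ : Fin m => lam) (fun _ : Fin m => lam⁻¹) k)) ↔
      IsSquare (lam ^ m) := by
  have hQ := nondegenerate_QPlus F m
  have hcard : 2 ≤ Fintype.card (Fin m ⊕ Fin m) := by
    rw [Fintype.card_sum, Fintype.card_fin]; omega
  obtain ⟨vs, hvs, hlen, hprod, hmat⟩ := lam_list F m lam hlam m le_rfl
  have hmat' : (vs.map (fun v => Cfsg.reflectionMatrix ⇑(QPlus F m) v)).prod =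
      Matrix.diagonal (fun k => Sum.elim (fun _ : Fin m => lam) (fun _ : Fin m => lam⁻¹) k) := by
    rw [hmat]
    congr 1
    funext k
    rcases k with j | j
    · simp only [Sum.elim_inl]
      rw [if_pos j.2]
    · simp only [Sum.elim_inr]
      rw [if_pos j.2]
  constructor
  · rintro ⟨g, hgmem, hg⟩
    have := (mem_Omega_iff_list' (QPlus F m) h2 hQ hcard g vs hvs (by rw [hg, hmat'])).mp hgmem
    rw [← hprod]
    exact this.2
  · intro hsq
    obtain ⟨g, hg⟩ := exists_of_list' (QPlus F m) vs hvs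
    refine ⟨g, ?_, by rw [hg, hmat']⟩
    rw [mem_Omega_iff_list' (QPlus F m) h2 hQ hcard g vs hvs hg, hlen, hprod]
    exact ⟨⟨m, by ring⟩, hsq⟩

theorem exists_lamDiag (h2 : (2 : F) ≠ 0) (hm : 1 ≤ m) (lam : F) (hlam : lam ≠ 0) :
    ∃ g : ↥(Cfsg.isometryGroup F ⇑(QPlus F m)),
      ((g.1 : GL (Fin m ⊕ Fin m) F) : Matrix (Fin m ⊕ Fin m) (Fin m ⊕ Fin m) F) =
        Matrix.diagonal (fun k => Sum.elim (fun _ : Fin m => lam) (fun _ : Fin m => lam⁻¹) k) ∧
      (g ∈ Cfsg.Omega F ⇑(QPlus F m) ↔ IsSquare (lam ^ m)) := by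
  obtain ⟨vs, hvs, hlen, hprod, hmat⟩ := lam_list F m lam hlam m le_rfl
  obtain ⟨g, hg⟩ := exists_of_list' (QPlus F m) vs hvs
  have hmat' : (vs.map (fun v => Cfsg.reflectionMatrix ⇑(QPlus F m) v)).prod =
      Matrix.diagonal (fun k => Sum.elim (fun _ : Fin m => lam) (fun _ : Fin m => lam⁻¹) k) := by
    rw [hmat]
    congr 1
    funext k
    rcases k with j | j
    · simp only [Sum.elim_inl]
      rw [if_pos j.2]
    · simp only [Sum.elim_inr]
      rw [if_pos j.2]
  refine ⟨g, by rw [hg, hmat'], ?_⟩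
  rw [← lamDiag_mem_iff F m h2 hm lam hlam]
  constructor
  · intro h
    exact ⟨g, h, by rw [hg, hmat']⟩
  · rintro ⟨g', hg'mem, hg'⟩
    have : g = g' := by
      apply Subtype.ext
      apply Units.ext
      rw [hg, hmat', hg']
    rw [this]
    exact hg'mem

theorem isSquare_pow_iff (lam : F) (hlam : ¬ IsSquare lam) (hlam0 : lam ≠ 0) :
    IsSquare (lam ^ m) ↔ Even m := by
  constructor
  · intro h
    by_contra hodd
    rw [Nat.not_even_iff_odd] at hodd
    obtain ⟨k, rfl⟩ := hodd
    obtain ⟨s, hs⟩ := h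
    apply hlam
    refine ⟨s / lam ^ k, ?_⟩
    have hk : lam ^ k ≠ 0 := pow_ne_zero _ hlam0
    field_simp
    rw [pow_two s, ← hs]
    ring
  · rintro ⟨k, rfl⟩
    exact ⟨lam ^ k, by rw [← pow_add]⟩

end plus

end Cfsg.Agent.Lib.Helper6.LamDiag
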