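import Mathlib
import Cfsg.Agent.Lib.Helper6.LamDiag
import Cfsg.Agent.Lib.Helper6.MinusSim

/-!
# The spinor norm of `h²/λ` for the standard similarity `h` of the minus type form
-/

set_option autoImplicit false
set_option linter.unusedSectionVars false
set_option linter.unusedVariables false

namespace Cfsg.Agent.Lib.Helper6.MinusDiag

open Matrix QuadraticMap Cfsg.Agent.Lib.Helper6 Cfsg.Agent.Lib.Helper15 Cfsg.Agent.Lib.Helper6.LamDiag
  Cfsg.Agent.Lib.Helper6.SimAut

section gen
variable {F : Type*} [Field F] (k : ℕ) {κ : Type} [Fintype κ] [DecidableEq κ]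
  (T : QuadraticForm F (κ → F))

theorem Qgen_extT (w : κ → F) : Qgen k T (extT k w) = T w := by
  rw [Qgen_apply]
  have : ∑ i : Fin k, (extT k w : (Fin k ⊕ Fin k) ⊕ κ → F) (Sum.inl (Sum.inl i)) *
      (extT k w : (Fin k ⊕ Fin k) ⊕ κ → F) (Sum.inl (Sum.inr i)) = 0 := by
    apply Finset.sum_eq_zero
    intro i _
    simp [extT]
  rw [this, zero_add]
  rfl

theorem polar_extT (w : κ → F) (x : (Fin k ⊕ Fin k) ⊕ κ → F) :
    polar (Qgen k T) (extT k w) x = polar T w (fun a => x (Sum.inr a)) := by
  rw [polar_Qgen]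
  have : ∑ i : Fin k, ((extT k w : (Fin k ⊕ Fin k) ⊕ κ → F) (Sum.inl (Sum.inl i)) *
      x (Sum.inl (Sum.inr i)) + (extT k w : (Fin k ⊕ Fin k) ⊕ κ → F) (Sum.inl (Sum.inr i)) *
      x (Sum.inl (Sum.inl i))) = 0 := by
    apply Finset.sum_eq_zero
    intro i _
    simp [extT]
  rw [this, zero_add]
  rfl

/-- the reflection in a vector of the `T`-part -/
theorem refl_extT (w : κ → F) :
    Cfsg.reflectionMatrix ⇑(Qgen k T) (extT k w) =
      Matrix.fromBlocks 1 0 0 (Cfsg.reflectionMatrix ⇑T w) := by
  apply matrix_ext_mulVec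
  intro x
  rw [reflectionMatrix_mulVec, Qgen_extT, polar_extT]
  funext j
  rcases j with j | j
  · rw [Matrix.fromBlocks_mulVec]
    simp [extT]
  · rw [Matrix.fromBlocks_mulVec]
    simp only [Sum.elim_inr, Matrix.zero_mulVec, zero_add]
    rw [reflectionMatrix_mulVec]
    simp only [extT, Pi.sub_apply, Pi.smul_apply, Sum.elim_inr, smul_eq_mul]
    rfl

theorem lam_list_gen (lam : F) (hlam : lam ≠ 0) :
    ∀ i' : ℕ, i' ≤ k → ∃ vs : List ((Fin k ⊕ Fin k) ⊕ κ → F), (∀ v ∈ vs, Qgen k T v ≠ 0) ∧
      vs.length = 2 * i' ∧ (vs.map (fun v => Qgen k T v)).prod = lam ^ i' ∧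
      (vs.map (fun v => Cfsg.reflectionMatrix ⇑(Qgen k T) v)).prod =
        Matrix.diagonal (fun j => Sum.elim
          (Sum.elim (fun j : Fin k => if (j : ℕ) < i' then lam else 1)
            (fun j : Fin k => if (j : ℕ) < i' then lam⁻¹ else 1)) (fun _ : κ => (1 : F)) j) := by
  have hsingle : ∀ (j j' : (Fin k ⊕ Fin k) ⊕ κ), (Pi.single j (1 : F) : (Fin k ⊕ Fin k) ⊕ κ → F) j' =
      if j' = j then 1 else 0 := fun j j' => by rw [Pi.single_apply]
  have hzero : ∀ j : Fin k ⊕ Fin k,
      (fun a : κ => (Pi.single (Sum.inl j) (1 : F) : (Fin k ⊕ Fin k) ⊕ κ → F) (Sum.inr a)) = 0 := by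
    intro j
    funext a
    simp
  intro i'
  induction i' with
  | zero =>
    intro _
    refine ⟨[], by simp, rfl, by simp, ?_⟩
    rw [List.map_nil, List.prod_nil, ← Matrix.diagonal_one]
    congr 1
    funext j
    rcases j with (j | j) | j <;> simp
  | succ i' ih =>
    intro hi'
    obtain ⟨vs, hvs, hlen, hprod, hmat⟩ := ih (by omega)
    have hjm : i' < k := by omega
    set j : Fin k := ⟨i', hjm⟩ with hj
    obtain ⟨h1, h3, h4⟩ := refl_pair_lam (Qgen k T) (Sum.inl (Sum.inl j)) (Sum.inl (Sum.inr j))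
      (by simp)
      (by
        intro x
        rw [polar_Qgen, hzero, QuadraticMap.polar_zero_left]
        simp [hsingle, Finset.sum_ite_eq'])
      (by
        intro x
        rw [polar_Qgen, hzero, QuadraticMap.polar_zero_left]
        simp [hsingle, Finset.sum_ite_eq'])
      (by
        rw [Qgen_apply, hzero, QuadraticMap.map_zero]
        simp [hsingle])
      (by
        rw [Qgen_apply, hzero, QuadraticMap.map_zero]
        simp [hsingle]) lam hlam
    refine ⟨vs ++ [Pi.single (Sum.inl (Sum.inl j)) 1 - Pi.single (Sum.inl (Sum.inr j)) 1,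
      Pi.single (Sum.inl (Sum.inl j)) 1 - lam • Pi.single (Sum.inl (Sum.inr j)) 1], ?_, ?_, ?_, ?_⟩
    · intro v hv
      rcases List.mem_append.mp hv with hv | hv
      · exact hvs v hv
      · simp only [List.mem_cons, List.mem_nil_iff, or_false] at hv
        rcases hv with rfl | rfl
        · rw [h1]; exact neg_ne_zero.mpr one_ne_zero
        · rw [h3]; exact neg_ne_zero.mpr hlam
    · rw [List.length_append, hlen]
      simp
      ring
    · rw [List.map_append, List.prod_append, hprod]
      simp only [List.map_cons, List.map_nil, List.prod_cons, List.prod_nil, h1, h3]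
      ring
    · rw [List.map_append, List.prod_append, hmat]
      simp only [List.map_cons, List.map_nil, List.prod_cons, List.prod_nil, Matrix.mul_one]
      rw [h4, Matrix.diagonal_mul_diagonal]
      congr 1
      funext x
      rcases x with (j' | j') | j'
      · simp only [Sum.elim_inl, Sum.inl.injEq, reduceCtorEq, if_false]
        by_cases hjj : j' = j
        · rw [if_pos hjj]
          have : (j' : ℕ) = i' := by rw [hjj]
          rw [if_neg (by omega), if_pos (by omega), one_mul]
        · rw [if_neg hjj, mul_one]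
          have : (j' : ℕ) ≠ i' := fun h => hjj (Fin.ext h)
          by_cases hlt : (j' : ℕ) < i'
          · rw [if_pos hlt, if_pos (by omega)]
          · rw [if_neg hlt, if_neg (by omega)]
      · simp only [Sum.elim_inl, Sum.elim_inr, Sum.inl.injEq, Sum.inr.injEq, reduceCtorEq, if_false]
        by_cases hjj : j' = j
        · rw [if_pos hjj]
          have : (j' : ℕ) = i' := by rw [hjj]
          rw [if_neg (by omega), if_pos (by omega), one_mul]
        · rw [if_neg hjj, mul_one]
          have : (j' : ℕ) ≠ i' := fun h => hjj (Fin.ext h)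
          by_cases hlt : (j' : ℕ) < i'
          · rw [if_pos hlt, if_pos (by omega)]
          · rw [if_neg hlt, if_neg (by omega)]
      · simp

end gen

section bin
variable {F : Type*} [Field F] (a b : F)

/-- the rotation `z ↦ (u/ū) z` of the binary form as a product of two reflections -/
theorem binRot (u : Fin 2 → F) (hu : binForm a b u ≠ 0) :
    Cfsg.reflectionMatrix ⇑(binForm a b) u * Cfsg.reflectionMatrix ⇑(binForm a b) ![1, 0] =
      (binForm a b u)⁻¹ • ((!![u 0, -(b * u 1); u 1, u 0 + a * u 1] : Matrix (Fin 2) (Fin 2) F) *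
        !![u 0, -(b * u 1); u 1, u 0 + a * u 1]) := by
  apply matrix_ext_mulVec
  intro x
  obtain ⟨x0, x1, rfl⟩ : ∃ x0 x1, x = ![x0, x1] := ⟨x 0, x 1, by ext i; fin_cases i <;> rfl⟩
  obtain ⟨u0, u1, rfl⟩ : ∃ u0 u1, u = ![u0, u1] := ⟨u 0, u 1, by ext i; fin_cases i <;> rfl⟩
  rw [← Matrix.mulVec_mulVec, reflectionMatrix_mulVec, reflectionMatrix_mulVec, Matrix.smul_mulVec,
    ← Matrix.mulVec_mulVec]
  have h1 : binForm a b ![1, 0] = 1 := by
    rw [binForm_apply]
    simp
  rw [h1]
  rw [binForm_apply] at hu ⊢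
  simp only [Matrix.cons_val_zero, Matrix.cons_val_one] at hu ⊢
  set L := u0 ^ 2 + a * u0 * u1 + b * u1 ^ 2 with hL
  funext j
  fin_cases j
  · simp [polar_binForm, dotProduct, Fin.sum_univ_two]
    field_simp
    rw [hL]
    ring
  · simp [polar_binForm, dotProduct, Fin.sum_univ_two]
    field_simp
    rw [hL]
    ring

end bin

section main
variable {F : Type*} [Field F] [Fintype F] [DecidableEq F] (m : ℕ) (a b : F)

/-- `h²/λ` for the standard similarity `h` of the minus type form, and its spinor norm -/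
theorem exists_minusDiag (h2 : (2 : F) ≠ 0)
    (hab : ∀ z₁ z₂ : F, z₁ ^ 2 + a * z₁ * z₂ + b * z₂ ^ 2 = 0 → z₁ = 0 ∧ z₂ = 0)
    (lam : F) (hlam : lam ≠ 0) (u : Fin 2 → F) (hu : binForm a b u = lam) :
    ∃ d₀ : ↥(Cfsg.isometryGroup F ⇑(Qgen m (binForm a b))),
      minusSimMat m a b lam u * minusSimMat m a b lam u =
        lam • ((d₀.1 : GL ((Fin m ⊕ Fin m) ⊕ Fin 2) F) :
          Matrix ((Fin m ⊕ Fin m) ⊕ Fin 2) ((Fin m ⊕ Fin m) ⊕ Fin 2) F) ∧
      (d₀ ∈ Cfsg.Omega F ⇑(Qgen m (binForm a b)) ↔ IsSquare (lam ^ (m + 1))) := by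
  have hQ := nondegenerate_Qgen m (binForm a b) (nondegenerate_binForm a b hab)
  have hcard : 2 ≤ Fintype.card ((Fin m ⊕ Fin m) ⊕ Fin 2) := by
    rw [Fintype.card_sum, Fintype.card_sum, Fintype.card_fin, Fintype.card_fin]; omega
  obtain ⟨vs, hvs, hlen, hprod, hmat⟩ := lam_list_gen m (binForm a b) lam hlam m le_rfl
  have h10 : binForm a b ![1, 0] = 1 := by
    rw [binForm_apply]
    simp
  have hu0 : binForm a b u ≠ 0 := by rw [hu]; exact hlam
  set vs' := vs ++ [extT m u, extT m ![1, 0]] with hvs'def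
  have hvs' : ∀ v ∈ vs', Qgen m (binForm a b) v ≠ 0 := by
    intro v hv
    rcases List.mem_append.mp hv with hv | hv
    · exact hvs v hv
    · simp only [List.mem_cons, List.mem_nil_iff, or_false] at hv
      rcases hv with rfl | rfl
      · rw [Qgen_extT]; exact hu0
      · rw [Qgen_extT, h10]; exact one_ne_zero
  have hlen' : vs'.length = 2 * (m + 1) := by
    rw [hvs'def, List.length_append, hlen]
    simp
    ring
  have hprod' : (vs'.map (fun v => Qgen m (binForm a b) v)).prod = lam ^ (m + 1) := by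
    rw [hvs'def, List.map_append, List.prod_append, hprod]
    simp only [List.map_cons, List.map_nil, List.prod_cons, List.prod_nil, Qgen_extT, hu, h10]
    ring
  have hmat' : (vs'.map (fun v => Cfsg.reflectionMatrix ⇑(Qgen m (binForm a b)) v)).prod =
      Matrix.fromBlocks (Matrix.diagonal (fun j => Sum.elim (fun _ : Fin m => lam)
        (fun _ : Fin m => lam⁻¹) j)) 0 0
        (lam⁻¹ • ((!![u 0, -(b * u 1); u 1, u 0 + a * u 1] : Matrix (Fin 2) (Fin 2) F) *
          !![u 0, -(b * u 1); u 1, u 0 + a * u 1])) := by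
    rw [hvs'def, List.map_append, List.prod_append, hmat]
    simp only [List.map_cons, List.map_nil, List.prod_cons, List.prod_nil, Matrix.mul_one]
    rw [refl_extT, refl_extT, Matrix.fromBlocks_multiply]
    simp only [Matrix.mul_one, Matrix.mul_zero, Matrix.zero_mul, add_zero, zero_add]
    rw [binRot a b u hu0, hu]
    have hd : Matrix.diagonal (fun j => Sum.elim
          (Sum.elim (fun j : Fin m => if (j : ℕ) < m then lam else 1)
            (fun j : Fin m => if (j : ℕ) < m then lam⁻¹ else 1)) (fun _ : Fin 2 => (1 : F)) j) =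
        Matrix.fromBlocks (Matrix.diagonal (fun j => Sum.elim (fun _ : Fin m => lam)
          (fun _ : Fin m => lam⁻¹) j)) 0 0 (1 : Matrix (Fin 2) (Fin 2) F) := by
      rw [← Matrix.diagonal_one, Matrix.fromBlocks_diagonal]
      congr 1
      funext j
      rcases j with (j | j) | j
      · simp only [Sum.elim_inl]
        rw [if_pos j.2]
      · simp only [Sum.elim_inl, Sum.elim_inr]
        rw [if_pos j.2]
      · simp
    rw [hd, Matrix.fromBlocks_multiply]
    simp only [Matrix.mul_one, Matrix.mul_zero, Matrix.zero_mul, add_zero, zero_add, Matrix.one_mul]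
  obtain ⟨d₀, hd₀⟩ := exists_of_list' (Qgen m (binForm a b)) vs' hvs'
  refine ⟨d₀, ?_, ?_⟩
  · rw [hd₀, hmat', Matrix.fromBlocks_smul]
    unfold minusSimMat
    rw [Matrix.fromBlocks_multiply]
    simp only [Matrix.mul_zero, Matrix.zero_mul, add_zero, zero_add, smul_zero]
    congr 1
    · rw [Matrix.diagonal_mul_diagonal, ← Matrix.diagonal_smul]
      congr 1
      funext j
      rcases j with j | j
      · simp
      · simp [hlam]
    · rw [smul_smul, mul_inv_cancel₀ hlam, one_smul]
  · rw [mem_Omega_iff_list' (Qgen m (binForm a b)) h2 hQ hcard d₀ vs' hvs' hd₀, hlen', hprod']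
    constructor
    · exact fun h => h.2
    · exact fun h => ⟨⟨m + 1, by ring⟩, h⟩

end main

end Cfsg.Agent.Lib.Helper6.MinusDiag
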