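import Mathlib
import Cfsg.Agent.Lib.Helper6.AutPSU6

/-!
# Automorphisms of `PSU_n(q)`, part 9: additive maps of the complement which are equivariant for
the Levi factor and respect commutators are semilinear similitudes
-/

set_option autoImplicit false
set_option linter.unusedSectionVars false
set_option linter.unusedVariables false
open Cfsg

namespace Cfsg.Agent.Lib.Helper6.AutPSU

open Matrix Module Cfsg.Agent.Lib.Helper6 Cfsg.Agent.S0779 Cfsg.Agent.S0781
open Cfsg.Agent.Lib.Helper6.SUG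

section
variable {F : Type*} [Field F] [Fintype F] {q n : ℕ}
variable (P : HPair n F q)

/-- a pair of vectors of the complement with product one -/
theorem exists_W_pair (hF : Fintype.card F = q ^ 2) (hn : 3 ≤ n) :
    ∃ w w' : Fin n → F, P.W w ∧ P.W w' ∧ hermForm n F q w w' = 1 := by
  obtain ⟨w, hw, hw0⟩ := exists_ne_W P hF hn
  have : ∃ y, P.W y ∧ hermForm n F q w y ≠ 0 := by
    by_contra hcon
    push Not at hcon
    exact hw0 (P.W_nondeg hF hw hcon)
  obtain ⟨y, hy, hwy⟩ := this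
  refine ⟨(hermForm n F q w y)⁻¹ • w, y, P.W_smul _ hw, hy, ?_⟩
  rw [herm_smul_left, inv_mul_cancel₀ hwy]

section semi
variable (T T' : (Fin n → F) → (Fin n → F))
  (hTW : ∀ w, P.W w → P.W (T w)) (hT'W : ∀ w, P.W w → P.W (T' w))
  (hTadd : ∀ w w', P.W w → P.W w' → T (w + w') = T w + T w')
  (hT'add : ∀ w w', P.W w → P.W w' → T' (w + w') = T' w + T' w')
  (hTT' : ∀ w, P.W w → T (T' w) = w) (hT'T : ∀ w, P.W w → T' (T w) = w)
  (hTeq : ∀ k ∈ Kp P, ∃ k' ∈ Kp P, ∀ w, P.W w → T (rho P k w) = rho P k' (T w))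
  (hT'eq : ∀ k ∈ Kp P, ∃ k' ∈ Kp P, ∀ w, P.W w → T' (rho P k w) = rho P k' (T' w))

include hTW hT'W hTadd hT'add hTT' hT'T hTeq hT'eq in
theorem exists_scalar (hF : Fintype.card F = q ^ 2) (hn : 3 ≤ n) (h32 : ¬ (n = 3 ∧ q = 2))
    (c : F) : ∃ d : F, ∀ x, P.W x → T (c • x) = d • T x := by
  obtain ⟨d, hd⟩ := cent_scalar P (fun w => T (c • T' w))
    (fun w hw => hTW _ (P.W_smul _ (hT'W w hw)))
    (fun w w' hw hw' => by
      change T (c • T' (w + w')) = T (c • T' w) + T (c • T' w')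
      rw [hT'add w w' hw hw', smul_add,
        hTadd _ _ (P.W_smul _ (hT'W w hw)) (P.W_smul _ (hT'W w' hw'))])
    (fun k' hk' w hw => by
      change T (c • T' (rho P k' w)) = rho P k' (T (c • T' w))
      obtain ⟨k, hk, hkk'⟩ := hT'eq k' hk'
      obtain ⟨k'', hk'', hkk''⟩ := hTeq k hk
      have h1 : ∀ y, P.W y → rho P k'' y = rho P k' y := by
        intro y hy
        have e1 := hkk' y hy
        have e2 := hkk'' (T' y) (hT'W y hy)
        rw [← e1, hTT' _ (rho_W P hF k' hk' y hy), hTT' y hy] at e2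
        exact e2.symm
      rw [hkk' w hw, ← rho_smul, hkk'' _ (P.W_smul _ (hT'W w hw)),
        h1 _ (hTW _ (P.W_smul _ (hT'W w hw)))])
    hF hn h32
  refine ⟨d, fun x hx => ?_⟩
  have := hd (T x) (hTW x hx)
  change T (c • T' (T x)) = d • T x at this
  rwa [hT'T x hx] at this

include hTW hT'W hTadd hT'add hTT' hT'T hTeq hT'eq in
/-- **equivariant additive bijections of the complement are semilinear** -/
theorem exists_semilinear (hF : Fintype.card F = q ^ 2) (hn : 3 ≤ n) (h32 : ¬ (n = 3 ∧ q = 2)) :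
    ∃ σ : F ≃+* F, ∀ (a : F) (x : Fin n → F), P.W x → T (a • x) = σ a • T x := by
  choose σ₀ hσ₀ using exists_scalar P T T' hTW hT'W hTadd hT'add hTT' hT'T hTeq hT'eq hF hn h32
  obtain ⟨w₀, hw₀, hw₀0⟩ := exists_ne_W P hF hn
  obtain ⟨x₁, hx₁⟩ : ∃ x₁, x₁ = T' w₀ := ⟨_, rfl⟩
  have hx₁W : P.W x₁ := by rw [hx₁]; exact hT'W _ hw₀
  have hTx₁ : T x₁ = w₀ := by rw [hx₁]; exact hTT' _ hw₀
  have hinj : ∀ a b : F, a • w₀ = b • w₀ → a = b := by
    intro a b h
    have h1 : (a - b) • w₀ = 0 := by rw [sub_smul, h, sub_self]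
    rcases smul_eq_zero.mp h1 with h2 | h2
    · exact sub_eq_zero.mp h2
    · exact absurd h2 hw₀0
  have hadd : ∀ c d, σ₀ (c + d) = σ₀ c + σ₀ d := by
    intro c d
    apply hinj
    rw [← hTx₁, ← hσ₀ _ _ hx₁W, add_smul, add_smul,
      hTadd _ _ (P.W_smul _ hx₁W) (P.W_smul _ hx₁W), hσ₀ _ _ hx₁W, hσ₀ _ _ hx₁W]
  have hmul : ∀ c d, σ₀ (c * d) = σ₀ c * σ₀ d := by
    intro c d
    apply hinj
    rw [← hTx₁, ← hσ₀ _ _ hx₁W, mul_smul, hσ₀ _ _ (P.W_smul _ hx₁W), hσ₀ _ _ hx₁W, smul_smul]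
  have hone : σ₀ 1 = 1 := by
    apply hinj
    rw [← hTx₁, ← hσ₀ _ _ hx₁W, one_smul, one_smul]
  have hzero : σ₀ 0 = 0 := by
    have := hadd 0 0
    rw [add_zero] at this
    exact left_eq_add.mp this
  let σh : F →+* F :=
    { toFun := σ₀
      map_one' := hone
      map_mul' := hmul
      map_zero' := hzero
      map_add' := hadd }
  have hbij : Function.Bijective σh :=
    ⟨σh.injective, Finite.injective_iff_surjective.mp σh.injective⟩
  refine ⟨RingEquiv.ofBijective σh hbij, ?_⟩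
  intro a x hx
  exact hσ₀ a x hx

include hTW hT'W hTT' in
/-- **the form is scaled and twisted** -/
theorem exists_similitude (hF : Fintype.card F = q ^ 2) (hn : 3 ≤ n) (σ : F ≃+* F)
    (hσ : ∀ (a : F) (x : Fin n → F), P.W x → T (a • x) = σ a • T x)
    (hC : ∀ w₁ w₁' w₂ w₂', P.W w₁ → P.W w₁' → P.W w₂ → P.W w₂' →
      hermForm n F q w₁ w₁' - hermForm n F q w₁' w₁ =
        hermForm n F q w₂ w₂' - hermForm n F q w₂' w₂ →
      hermForm n F q (T w₁) (T w₁') - hermForm n F q (T w₁') (T w₁) =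
        hermForm n F q (T w₂) (T w₂') - hermForm n F q (T w₂') (T w₂)) :
    ∃ ν : F, ν ≠ 0 ∧ ν ^ q = ν ∧ ∀ w w', P.W w → P.W w' →
      hermForm n F q (T w) (T w') = ν * σ (hermForm n F q w w') := by
  obtain ⟨w₀, w₀', hw₀, hw₀', h00⟩ := exists_W_pair P hF hn
  have h00' : hermForm n F q w₀' w₀ = 1 := by rw [← herm_conj hF, h00, one_pow]
  obtain ⟨x₀, hx₀⟩ : ∃ x₀, x₀ = hermForm n F q (T w₀) (T w₀') := ⟨_, rfl⟩
  obtain ⟨ν₀, hν₀⟩ := exists_not_fixed hF
  have key : ∀ w w', P.W w → P.W w' →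
      hermForm n F q (T w) (T w') = x₀ * σ (hermForm n F q w w') := by
    intro w w' hw hw'
    obtain ⟨y, hy⟩ : ∃ y, y = hermForm n F q w w' := ⟨_, rfl⟩
    obtain ⟨x, hx⟩ : ∃ x, x = hermForm n F q (T w) (T w') := ⟨_, rfl⟩
    obtain ⟨d, hd⟩ : ∃ d, d = x - σ y * x₀ := ⟨_, rfl⟩
    have h1 : ∀ b : F, b * d - (b * d) ^ q = 0 := by
      intro b
      obtain ⟨a, rfl⟩ := σ.surjective b
      have e := hC (a • w) w' ((a * y) • w₀) w₀' (P.W_smul _ hw) hw' (P.W_smul _ hw₀) hw₀'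
        (by
          rw [herm_smul_left, herm_smul_right, herm_smul_left, herm_smul_right, h00, h00',
            ← herm_conj hF w w', ← hy]
          ring)
      rw [hσ a w hw, hσ (a * y) w₀ hw₀, herm_smul_left, herm_smul_right, herm_smul_left,
        herm_smul_right, ← hx₀, ← hx, ← herm_conj hF (T w) (T w'), ← hx,
        ← herm_conj hF (T w₀) (T w₀'), ← hx₀, map_mul] at e
      rw [hd, mul_sub, sub_pow_q hF]
      linear_combination e
    have h2 : d ^ q = d := by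
      have := h1 1
      rw [one_mul] at this
      exact (sub_eq_zero.mp this).symm
    have h3 := h1 ν₀
    rw [mul_pow, h2] at h3
    have h4 : (ν₀ - ν₀ ^ q) * d = 0 := by linear_combination h3
    have h5 : d = 0 := by
      rcases mul_eq_zero.mp h4 with h | h
      · exact absurd (sub_eq_zero.mp h).symm hν₀
      · exact h
    rw [← hx, ← hy]
    rw [hd] at h5
    linear_combination h5
  refine ⟨x₀, ?_, ?_, key⟩
  · intro h0
    have := key (T' w₀) (T' w₀') (hT'W _ hw₀) (hT'W _ hw₀')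
    rw [hTT' _ hw₀, hTT' _ hw₀', h00, h0, zero_mul] at this
    exact one_ne_zero this
  · have h1 := key w₀' w₀ hw₀' hw₀
    rw [h00', map_one, mul_one, ← herm_conj hF, ← hx₀] at h1
    exact h1

end semi

end

end Cfsg.Agent.Lib.Helper6.AutPSU
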