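import Mathlib
import Cfsg.Agent.Lib.Helper6.AutPSU8
import Cfsg.Agent.Lib.Helper6.AutPSU9

/-!
# Automorphisms of `PSU_n(q)`, part 10: the map induced on the complement by an automorphism
fixing two opposite root subgroups
-/

set_option autoImplicit false
set_option linter.unusedSectionVars false
set_option linter.unusedVariables false
open Cfsg

namespace Cfsg.Agent.Lib.Helper6.AutPSU

open Matrix Module Cfsg.Agent.Lib.Helper6 Cfsg.Agent.S0779 Cfsg.Agent.S0781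
open Cfsg.Agent.Lib.Helper6.SUG Cfsg.Agent.Lib.Helper6.AutPSL
open scoped Pointwise

section
variable {F : Type*} [Field F] [Fintype F] {q n : ℕ}
variable (P : HPair n F q)

/-- after composing with an inner automorphism, the two root subgroups of the pair are fixed -/
theorem exists_normalise (p : ℕ) [hp : Fact p.Prime] [CharP F p] (hF : Fintype.card F = q ^ 2)
    (hn : 3 ≤ n) (β : MulAut (Cfsg.PSU n F q)) :
    ∃ g : ↥(Cfsg.SU n F q), img (MulAut.conj (pu g) * β) (Rb hF P.e) = Rb hF P.e ∧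
      img (MulAut.conj (pu g) * β) (Rb hF P.f) = Rb hF P.f := by
  have hn2 : 2 ≤ n := by omega
  obtain ⟨e', he'0, he', hβe⟩ := root_perm p hF hn β P.e P.e_ne P.hee
  obtain ⟨f', hf'0, hf', hβf⟩ := root_perm p hF hn β P.f P.f_ne P.hff
  have hne : hermForm n F q f' e' ≠ 0 := by
    intro h0
    have h1 := (Rb_comm_iff p hF hn2 e' f' he'0 hf'0 he' hf').mpr h0
    have h2 : ∀ x ∈ Rb hF P.e, ∀ y ∈ Rb hF P.f, x * y = y * x := by
      intro x hx y hy
      have := h1 (β x) (by rw [← hβe]; exact mem_img_of β _ hx) (β y)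
        (by rw [← hβf]; exact mem_img_of β _ hy)
      rw [← map_mul, ← map_mul] at this
      exact β.injective this
    have := (Rb_comm_iff p hF hn2 P.e P.f P.e_ne P.f_ne P.hee P.hff).mp h2
    rw [P.hfe] at this
    exact one_ne_zero this
  obtain ⟨f'', hf''⟩ : ∃ f'', f'' = (hermForm n F q f' e')⁻¹ • f' := ⟨_, rfl⟩
  have hf''e : hermForm n F q f'' e' = 1 := by
    rw [hf'', herm_smul_left, inv_mul_cancel₀ hne]
  have hf''iso : hermForm n F q f'' f'' = 0 := by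
    rw [hf'', herm_smul_left, herm_smul_right, hf']
    ring
  have hRf'' : Rb hF f'' = Rb hF f' := by
    rw [hf'']
    exact Rb_smul hF _ (inv_ne_zero hne) f' hf'
  obtain ⟨g₁, -, hg₁⟩ := rel_iso hF hn e' P.e he'0 P.e_ne he' P.hee
  obtain ⟨v, hv⟩ : ∃ v, v = av g₁ f'' := ⟨_, rfl⟩
  have hvv : hermForm n F q v v = 0 := by rw [hv, herm_av, hf''iso]
  have hve : hermForm n F q v P.e = 1 := by rw [hv, ← hg₁, herm_av, hf''e]
  obtain ⟨g₂, hg₂e, hg₂v⟩ := exists_fix_move_gen hF P.e v P.f P.hee hvv P.hff hve P.hfe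
  refine ⟨g₂ * g₁, ?_, ?_⟩
  · rw [img_mul', hβe, img_conj_Rb hF _ e' he', av_mul, hg₁, hg₂e]
  · rw [img_mul', hβf, ← hRf'', img_conj_Rb hF _ f'' hf''iso, av_mul, ← hv, hg₂v]

open Classical in
/-- the lift to `Qv e` of the action of an automorphism on the image of `Qv e` -/
noncomputable def lft (β : MulAut (Cfsg.PSU n F q)) (g : ↥(Cfsg.SU n F q)) : ↥(Cfsg.SU n F q) :=
  if h : ∃ g' : ↥(Cfsg.SU n F q), g' ∈ Qv P.e ∧ pu g' = β (pu g) then Classical.choose h else 1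

section lift
variable (p : ℕ) [hp : Fact p.Prime] [CharP F p] (hF : Fintype.card F = q ^ 2) (hn : 3 ≤ n)
  (β : MulAut (Cfsg.PSU n F q)) (hβe : img β (Rb hF P.e) = Rb hF P.e)

include hp hn hβe in
theorem exists_lift (g : ↥(Cfsg.SU n F q)) (hg : g ∈ Qv P.e) :
    ∃ g' : ↥(Cfsg.SU n F q), g' ∈ Qv P.e ∧ pu g' = β (pu g) := by
  have h1 : β (pu g) ∈ img β (Qb P.e) := mem_img_of β _ (Subgroup.mem_map_of_mem _ hg)
  rw [img_Qb P p hF hn β hβe] at h1
  exact Subgroup.mem_map.mp h1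

include hp hn hβe in
theorem lft_spec (g : ↥(Cfsg.SU n F q)) (hg : g ∈ Qv P.e) :
    lft P β g ∈ Qv P.e ∧ pu (lft P β g) = β (pu g) := by
  unfold lft
  rw [dif_pos (exists_lift P p hF hn β hβe g hg)]
  exact Classical.choose_spec (exists_lift P p hF hn β hβe g hg)

include hp hn hβe in
theorem lft_unique (g : ↥(Cfsg.SU n F q)) (hg : g ∈ Qv P.e) (g' : ↥(Cfsg.SU n F q))
    (hg' : g' ∈ Qv P.e) (h : pu g' = β (pu g)) : lft P β g = g' := by
  obtain ⟨h1, h2⟩ := lft_spec P p hF hn β hβe g hg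
  exact eq_of_pu_eq (p := p) hF (by omega) _ _ 2 (Qv_pow (p := p) hF (by omega) P.e _ h1)
    (Qv_pow (p := p) hF (by omega) P.e _ hg') (by rw [h2, h])

include hp hn hβe in
theorem lft_mul (g g' : ↥(Cfsg.SU n F q)) (hg : g ∈ Qv P.e) (hg' : g' ∈ Qv P.e) :
    lft P β (g * g') = lft P β g * lft P β g' := by
  obtain ⟨h1, h2⟩ := lft_spec P p hF hn β hβe g hg
  obtain ⟨h1', h2'⟩ := lft_spec P p hF hn β hβe g' hg'
  apply lft_unique P p hF hn β hβe _ ((Qv P.e).mul_mem hg hg') _ ((Qv P.e).mul_mem h1 h1')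
  rw [map_mul, map_mul, map_mul, h2, h2']

include hp hn hβe in
theorem lft_inv (g : ↥(Cfsg.SU n F q)) (hg : g ∈ Qv P.e) :
    lft P β g⁻¹ = (lft P β g)⁻¹ := by
  obtain ⟨h1, h2⟩ := lft_spec P p hF hn β hβe g hg
  apply lft_unique P p hF hn β hβe _ ((Qv P.e).inv_mem hg) _ ((Qv P.e).inv_mem h1)
  rw [map_inv, map_inv, map_inv, h2]

include hp hn hβe in
theorem lft_Atv (g : ↥(Cfsg.SU n F q)) (hg : g ∈ Atv hF P.e) : lft P β g ∈ Atv hF P.e := by
  have h1 : β (pu g) ∈ img β (Rb hF P.e) := mem_img_of β _ (Subgroup.mem_map_of_mem _ hg)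
  rw [hβe] at h1
  obtain ⟨g'', hg'', h2⟩ := Subgroup.mem_map.mp h1
  have := lft_unique P p hF hn β hβe g (Atv_le_Qv hF P.e P.hee hg) g''
    (Atv_le_Qv hF P.e P.hee hg'') h2
  rw [this]
  exact hg''

theorem img_symm_eq {G : Type*} [Group G] (γ : MulAut G) (H : Subgroup G) (h : img γ H = H) :
    img (MulEquiv.symm γ) H = H := by
  conv_lhs => rw [← h]
  exact img_symm_img γ H

include hp hn hβe in
theorem lft_symm (g : ↥(Cfsg.SU n F q)) (hg : g ∈ Qv P.e) :
    lft P (MulEquiv.symm β) (lft P β g) = g := by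
  obtain ⟨h1, h2⟩ := lft_spec P p hF hn β hβe g hg
  apply lft_unique P p hF hn (MulEquiv.symm β) (img_symm_eq β _ hβe) _ h1 _ hg
  rw [h2, MulEquiv.symm_apply_apply]

open Classical in
/-- the map induced on the complement -/
noncomputable def bbar (w : Fin n → F) : Fin n → F :=
  if hw : P.W w then wc P (lft P β (sg P hF w (Classical.choose (exists_siegel_param hF w)) hw
    (Classical.choose_spec (exists_siegel_param hF w)))) else 0

include hp hn hβe in
theorem wc_lft (g : ↥(Cfsg.SU n F q)) (hg : g ∈ Qv P.e) :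
    wc P (lft P β g) = bbar P hF β (wc P g) := by
  have hw := wc_W P g hg.1
  unfold bbar
  rw [dif_pos hw]
  obtain ⟨g₀, hg₀⟩ : ∃ g₀, g₀ = sg P hF (wc P g) (Classical.choose (exists_siegel_param hF (wc P g)))
    hw (Classical.choose_spec (exists_siegel_param hF (wc P g))) := ⟨_, rfl⟩
  rw [← hg₀]
  have hg₀m : g₀ ∈ Qv P.e := by rw [hg₀]; exact sg_mem P hF _ _ _ _
  have hwg₀ : wc P g₀ = wc P g := by rw [hg₀, wc_sg]
  have hm : g₀⁻¹ * g ∈ Qv P.e := (Qv P.e).mul_mem ((Qv P.e).inv_mem hg₀m) hg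
  have h1 : wc P (g₀⁻¹ * g) = 0 := by
    rw [wc_mul P hF _ _ ((Qv P.e).inv_mem hg₀m) hg, wc_inv P hF _ hg₀m, hwg₀, neg_add_cancel]
  have h2 := lft_Atv P p hF hn β hβe _ (mem_Atv_of_wc P hF _ hm h1)
  obtain ⟨c, hc, h3⟩ := (mem_Atv hF P.e P.hee _).mp h2
  have h4 : lft P β g = lft P β g₀ * lft P β (g₀⁻¹ * g) := by
    rw [← lft_mul P p hF hn β hβe _ _ hg₀m hm]
    congr 1
    group
  rw [h4, wc_mul P hF _ _ (lft_spec P p hF hn β hβe _ hg₀m).1 (lft_spec P p hF hn β hβe _ hm).1,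
    h3, wc_tv, add_zero]

include hp hn hβe in
theorem bbar_W (w : Fin n → F) (hw : P.W w) : P.W (bbar P hF β w) := by
  unfold bbar
  rw [dif_pos hw]
  exact wc_W P _ (lft_spec P p hF hn β hβe _ (sg_mem P hF _ _ _ _)).1.1

include hp hn hβe in
theorem bbar_sg (w : Fin n → F) (b : F) (hw : P.W w)
    (hb : b + b ^ q + hermForm n F q w w = 0) :
    bbar P hF β w = wc P (lft P β (sg P hF w b hw hb)) := by
  rw [wc_lft P p hF hn β hβe _ (sg_mem P hF _ _ _ _), wc_sg]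

include hp hn hβe in
theorem bbar_add (w w' : Fin n → F) (hw : P.W w) (hw' : P.W w') :
    bbar P hF β (w + w') = bbar P hF β w + bbar P hF β w' := by
  obtain ⟨b, hb⟩ := exists_siegel_param hF w
  obtain ⟨b', hb'⟩ := exists_siegel_param hF w'
  have hg := sg_mem P hF w b hw hb
  have hg' := sg_mem P hF w' b' hw' hb'
  have h1 : wc P (sg P hF w b hw hb * sg P hF w' b' hw' hb') = w + w' := by
    rw [wc_mul P hF _ _ hg hg', wc_sg, wc_sg]
  rw [← h1, ← wc_lft P p hF hn β hβe _ ((Qv P.e).mul_mem hg hg'), lft_mul P p hF hn β hβe _ _ hg hg',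
    wc_mul P hF _ _ (lft_spec P p hF hn β hβe _ hg).1 (lft_spec P p hF hn β hβe _ hg').1,
    bbar_sg P p hF hn β hβe w b hw hb, bbar_sg P p hF hn β hβe w' b' hw' hb']

include hp hn hβe in
theorem bbar_symm (w : Fin n → F) (hw : P.W w) :
    bbar P hF (MulEquiv.symm β) (bbar P hF β w) = w := by
  obtain ⟨b, hb⟩ := exists_siegel_param hF w
  have hg := sg_mem P hF w b hw hb
  rw [bbar_sg P p hF hn β hβe w b hw hb,
    ← wc_lft P p hF hn (MulEquiv.symm β) (img_symm_eq β _ hβe) _ (lft_spec P p hF hn β hβe _ hg).1,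
    lft_symm P p hF hn β hβe _ hg, wc_sg]

include hF in
/-- conjugation by the Levi factor on the coordinates of `Qv e` -/
theorem wc_conj (k : ↥(Cfsg.SU n F q)) (hk : k ∈ Kp P) (g : ↥(Cfsg.SU n F q)) (hg : g ∈ Qv P.e) :
    k * g * k⁻¹ ∈ Qv P.e ∧ wc P (k * g * k⁻¹) = rho P k (wc P g) ∧
      bc P (k * g * k⁻¹) = (lf P k)⁻¹ * bc P g * le P k := by
  have hke := Kp_e P k hk
  have hkf := Kp_f P k hk
  have hlf := lf_ne P hF k hk
  have hm : k * g * k⁻¹ ∈ Qv P.e := Qv_conj P.e k (le P k) (le_ne P k hk) hke g hg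
  have hkf' : av k⁻¹ P.f = (lf P k)⁻¹ • P.f := by
    have := av_inv_av k P.f
    rw [hkf, av_smul] at this
    calc av k⁻¹ P.f = (lf P k)⁻¹ • (lf P k • av k⁻¹ P.f) := by
          rw [smul_smul, inv_mul_cancel₀ hlf, one_smul]
      _ = (lf P k)⁻¹ • P.f := by rw [this]
  have h1 : av (k * g * k⁻¹) P.f = P.f + rho P k (wc P g) +
      ((lf P k)⁻¹ * bc P g * le P k) • P.e := by
    rw [av_mul, av_mul, hkf', av_smul, av_f_eq P g, av_smul, av_add, av_add, av_smul, hkf, hke]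
    unfold rho
    rw [smul_add, smul_add, smul_smul, inv_mul_cancel₀ hlf, one_smul, smul_smul, smul_smul]
  have h2 := wc_bc_of P (k * g * k⁻¹) _ _ (rho_W P hF k hk _ (wc_W P g hg.1)) h1
  exact ⟨hm, h2.1, h2.2⟩

include hp hn hβe in
/-- preimages of the image of an element of the Levi factor lie in the Levi factor -/
theorem Kp_of_img (hβf : img β (Rb hF P.f) = Rb hF P.f) (k k' : ↥(Cfsg.SU n F q)) (hk : k ∈ Kp P)
    (hkk' : pu k' = β (pu k)) : k' ∈ Kp P := by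
  have h1 : img (MulAut.conj (pu k)) (Rb hF P.e) = Rb hF P.e := by
    rw [img_conj_Rb hF k P.e P.hee, Kp_e P k hk, Rb_smul hF _ (le_ne P k hk) P.e P.hee]
  have h2 : img (MulAut.conj (pu k)) (Rb hF P.f) = Rb hF P.f := by
    rw [img_conj_Rb hF k P.f P.hff, Kp_f P k hk, Rb_smul hF _ (lf_ne P hF k hk) P.f P.hff]
  have h3 := img_conj_comm β (pu k) (Rb hF P.e)
  rw [h1, hβe, ← hkk'] at h3
  have h4 := img_conj_comm β (pu k) (Rb hF P.f)
  rw [h2, hβf, ← hkk'] at h4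
  obtain ⟨a, -, ha⟩ := point_of_norm p hF (by omega) P.e P.e_ne P.hee k' h3.symm
  obtain ⟨b, -, hb⟩ := point_of_norm p hF (by omega) P.f P.f_ne P.hff k' h4.symm
  exact ⟨⟨a, ha⟩, ⟨b, hb⟩⟩

include hp hn hβe in
theorem lft_conj (k k' : ↥(Cfsg.SU n F q)) (hk : k ∈ Kp P)
    (hk' : k' ∈ Kp P) (hkk' : pu k' = β (pu k)) (g : ↥(Cfsg.SU n F q)) (hg : g ∈ Qv P.e) :
    lft P β (k * g * k⁻¹) = k' * lft P β g * k'⁻¹ := by
  obtain ⟨h1, h2⟩ := lft_spec P p hF hn β hβe g hg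
  apply lft_unique P p hF hn β hβe _ (wc_conj P hF k hk g hg).1 _ (wc_conj P hF k' hk' _ h1).1
  rw [map_mul, map_mul, map_inv, map_mul, map_mul, map_inv, map_mul, map_mul, map_inv, h2, hkk']

include hp hn hβe in
theorem bbar_rho (k k' : ↥(Cfsg.SU n F q)) (hk : k ∈ Kp P)
    (hk' : k' ∈ Kp P) (hkk' : pu k' = β (pu k)) (w : Fin n → F) (hw : P.W w) :
    bbar P hF β (rho P k w) = rho P k' (bbar P hF β w) := by
  obtain ⟨b, hb⟩ := exists_siegel_param hF w
  have hg := sg_mem P hF w b hw hb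
  obtain ⟨h1, h2⟩ := lft_spec P p hF hn β hβe _ hg
  have e1 := (wc_conj P hF k hk _ hg).2.1
  rw [wc_sg] at e1
  rw [← e1, ← wc_lft P p hF hn β hβe _ (wc_conj P hF k hk _ hg).1,
    lft_conj P p hF hn β hβe k k' hk hk' hkk' _ hg, (wc_conj P hF k' hk' _ h1).2.1,
    bbar_sg P p hF hn β hβe w b hw hb]

include hp hn hβe in
/-- the commutator relation transported by the lift -/
theorem bbar_comm (w w' : Fin n → F) (hw : P.W w) (hw' : P.W w') (c : F) (hc : c ^ q = -c)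
    (h : c = hermForm n F q w w' - hermForm n F q w' w) :
    bc P (lft P β (tv hF P.e c P.hee hc)) =
      hermForm n F q (bbar P hF β w) (bbar P hF β w') -
        hermForm n F q (bbar P hF β w') (bbar P hF β w) := by
  obtain ⟨b, hb⟩ := exists_siegel_param hF w
  obtain ⟨b', hb'⟩ := exists_siegel_param hF w'
  have hg := sg_mem P hF w b hw hb
  have hg' := sg_mem P hF w' b' hw' hb'
  obtain ⟨h1, -⟩ := lft_spec P p hF hn β hβe _ hg
  obtain ⟨h1', -⟩ := lft_spec P p hF hn β hβe _ hg'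
  have ht := tv_mem_Qv hF P.e c P.hee hc
  have e1 := Qv_comm P hF _ _ hg hg' c hc (by rw [wc_sg, wc_sg]; exact h)
  have e2 := congrArg (lft P β) e1
  rw [lft_mul P p hF hn β hβe _ _ hg hg', lft_mul P p hF hn β hβe _ _ ((Qv P.e).mul_mem hg' hg) ht,
    lft_mul P p hF hn β hβe _ _ hg' hg] at e2
  obtain ⟨c', hc'⟩ : ∃ c', c' = hermForm n F q (bbar P hF β w) (bbar P hF β w') -
        hermForm n F q (bbar P hF β w') (bbar P hF β w) := ⟨_, rfl⟩
  have hc'q : c' ^ q = -c' := by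
    rw [hc', sub_pow_q hF, herm_conj hF, herm_conj hF]
    ring
  have e3 := Qv_comm P hF _ _ h1 h1' c' hc'q (by
    rw [← bbar_sg P p hF hn β hβe w b hw hb, ← bbar_sg P p hF hn β hβe w' b' hw' hb']
    exact hc')
  rw [e3] at e2
  have e4 := mul_left_cancel e2
  rw [← hc', ← e4, bc_tv]

end lift

end

end Cfsg.Agent.Lib.Helper6.AutPSU
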