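import Mathlib
import Cfsg.Agent.Lib.Helper6.AutPSU10
import Cfsg.Agent.Lib.Helper6.AutPSL3

/-!
# Automorphisms of `PSU_n(q)`, part 11: the standard automorphisms of `PSU_n(q)` and the
automorphism attached to a semilinear isometry
-/

set_option autoImplicit false
set_option linter.unusedSectionVars false
set_option linter.unusedVariables false
open Cfsg

namespace Cfsg.Agent.Lib.Helper6.AutPSU

open Matrix Module Cfsg.Agent.Lib.Helper6 Cfsg.Agent.S0779 Cfsg.Agent.S0781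
open Cfsg.Agent.Lib.Helper6.SUG Cfsg.Agent.Lib.Helper6.AutPSL

section res
variable {G : Type*} [Group G]

/-- restriction of an automorphism to an invariant subgroup -/
def resAut (H : Subgroup G) (φ : MulAut G) (h1 : ∀ x ∈ H, φ x ∈ H)
    (h2 : ∀ x ∈ H, (MulEquiv.symm φ) x ∈ H) : MulAut H where
  toFun x := ⟨φ x.1, h1 x.1 x.2⟩
  invFun x := ⟨(MulEquiv.symm φ) x.1, h2 x.1 x.2⟩
  left_inv x := Subtype.ext (MulEquiv.symm_apply_apply φ x.1)
  right_inv x := Subtype.ext (MulEquiv.apply_symm_apply φ x.1)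
  map_mul' x y := Subtype.ext (map_mul φ x.1 y.1)

theorem resAut_val (H : Subgroup G) (φ : MulAut G) (h1 : ∀ x ∈ H, φ x ∈ H)
    (h2 : ∀ x ∈ H, (MulEquiv.symm φ) x ∈ H) (x : H) : ((resAut H φ h1 h2 x : H) : G) = φ x.1 := rfl

end res

section
variable {F : Type*} [Field F] [Fintype F] {q n : ℕ}

theorem herm_map (σ : F ≃+* F) (x y : Fin n → F) :
    hermForm n F q (fun i => σ (x i)) (fun i => σ (y i)) = σ (hermForm n F q x y) := by
  unfold hermForm
  rw [map_sum]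
  apply Finset.sum_congr rfl
  intro i _
  rw [map_mul, map_pow]

theorem map_mulVec_apply (σ : F ≃+* F) (M : Matrix (Fin n) (Fin n) F) (x : Fin n → F) :
    M.map σ *ᵥ (fun i => σ (x i)) = fun i => σ ((M *ᵥ x) i) := by
  funext i
  have := RingHom.map_mulVec (σ : F →+* F) M x i
  exact this.symm

theorem cG_mem (g : GL (Fin n) F) (hg : g ∈ Cfsg.GU n F q)
    (s : Matrix.SpecialLinearGroup (Fin n) F) (hs : s ∈ Cfsg.SU n F q) :
    cG g s ∈ Cfsg.SU n F q := by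
  intro u v
  change hermForm n F q ((cG g s).1 *ᵥ u) ((cG g s).1 *ᵥ v) = hermForm n F q u v
  rw [cG_val, ← mulVec_mulVec, ← mulVec_mulVec, ← mulVec_mulVec, ← mulVec_mulVec]
  have h1 := hg (s.1 *ᵥ ((g⁻¹).1 *ᵥ u)) (s.1 *ᵥ ((g⁻¹).1 *ᵥ v))
  have h2 := hs ((g⁻¹).1 *ᵥ u) ((g⁻¹).1 *ᵥ v)
  have h3 := (Subgroup.inv_mem _ hg) u v
  exact h1.trans (h2.trans h3)

theorem fA_mem (σ : F ≃+* F) (s : Matrix.SpecialLinearGroup (Fin n) F)
    (hs : s ∈ Cfsg.SU n F q) : fA σ s ∈ Cfsg.SU n F q := by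
  intro u v
  change hermForm n F q ((fA σ s).1 *ᵥ u) ((fA σ s).1 *ᵥ v) = hermForm n F q u v
  rw [fA_val]
  have hu : u = fun i => σ (σ.symm (u i)) := by funext i; simp
  have hv : v = fun i => σ (σ.symm (v i)) := by funext i; simp
  have h2 := hs (fun i => σ.symm (u i)) (fun i => σ.symm (v i))
  change hermForm n F q (s.1 *ᵥ _) (s.1 *ᵥ _) = _ at h2
  conv_lhs => rw [hu, hv]
  rw [map_mulVec_apply, map_mulVec_apply, herm_map, h2, ← herm_map, ← hu, ← hv]

/-- conjugation by an element of `GU` as an automorphism of `SU` -/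
noncomputable def cSU : ↥(Cfsg.GU n F q) →* MulAut ↥(Cfsg.SU n F q) where
  toFun g := resAut _ (cG g.1) (cG_mem g.1 g.2) (cG_mem g.1⁻¹ (Subgroup.inv_mem _ g.2))
  map_one' := by
    ext s : 1
    apply Subtype.ext
    change cG (1 : GL (Fin n) F) s.1 = s.1
    rw [map_one]
    rfl
  map_mul' g h := by
    ext s : 1
    apply Subtype.ext
    change cG (g.1 * h.1) s.1 = cG g.1 (cG h.1 s.1)
    rw [map_mul]
    rfl

theorem cSU_val (g : ↥(Cfsg.GU n F q)) (s : ↥(Cfsg.SU n F q)) :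
    ((cSU g s : ↥(Cfsg.SU n F q)) : Matrix.SpecialLinearGroup (Fin n) F).1 =
      g.1.1 * s.1.1 * (g.1⁻¹).1 := rfl

/-- entrywise field automorphism of `SU` -/
noncomputable def fSU (σ : F ≃+* F) : MulAut ↥(Cfsg.SU n F q) :=
  resAut _ (fA σ) (fA_mem σ) (fA_mem σ.symm)

theorem fSU_val (σ : F ≃+* F) (s : ↥(Cfsg.SU n F q)) :
    ((fSU σ s : ↥(Cfsg.SU n F q)) : Matrix.SpecialLinearGroup (Fin n) F).1 = s.1.1.map σ := rfl

/-- inner-diagonal automorphisms of `PSU` -/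
noncomputable def cU : ↥(Cfsg.GU n F q) →* MulAut (Cfsg.PSU n F q) :=
  (AutInduced.autQuot (Subgroup.center ↥(Cfsg.SU n F q))).comp cSU

theorem cU_mk (g : ↥(Cfsg.GU n F q)) (s : ↥(Cfsg.SU n F q)) : cU g (pu s) = pu (cSU g s) :=
  AutInduced.autQuot_mk _ _ _

/-- field automorphisms of `PSU` -/
noncomputable def fU (σ : F ≃+* F) : MulAut (Cfsg.PSU n F q) :=
  AutInduced.autQuot (Subgroup.center ↥(Cfsg.SU n F q)) (fSU σ)

theorem fU_mk (σ : F ≃+* F) (s : ↥(Cfsg.SU n F q)) : fU σ (pu s) = pu (fSU σ s) :=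
  AutInduced.autQuot_mk _ _ _

theorem isInnerDiag_cU (g : ↥(Cfsg.GU n F q)) :
    Cfsg.IsInnerDiagonalAutPSU (cU g : MulAut (Cfsg.PSU n F q)) := by
  refine ⟨g.1, g.2, ?_⟩
  intro s s' h
  change cU g (pu s) = pu s'
  rw [cU_mk]
  congr 1
  apply Subtype.ext
  apply Subtype.ext
  rw [h]
  rfl

theorem isFieldAut_fU (σ : F ≃+* F) :
    Cfsg.IsFieldAutPSUOf σ (fU σ : MulAut (Cfsg.PSU n F q)) := by
  intro s s' h
  change fU σ (pu s) = pu s'
  rw [fU_mk]
  congr 1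
  apply Subtype.ext
  apply Subtype.ext
  rw [h]
  rfl

theorem isSemi_cU_fU (g : ↥(Cfsg.GU n F q)) (σ : F ≃+* F) :
    Cfsg.IsInducedBySemilinearPSU g.1 σ (cU g * fU σ : MulAut (Cfsg.PSU n F q)) := by
  intro s s' h
  change cU g (fU σ (pu s)) = pu s'
  rw [fU_mk, cU_mk]
  congr 1
  apply Subtype.ext
  apply Subtype.ext
  rw [h]
  rfl

theorem cU_fU_mem_gamma (g : ↥(Cfsg.GU n F q)) (σ : F ≃+* F) :
    (cU g * fU σ : MulAut (Cfsg.PSU n F q)) ∈ Cfsg.gammaPSU n F q :=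
  Subgroup.subset_closure ⟨g.1, σ, g.2, isSemi_cU_fU g σ⟩

/-- elements of `SU` as elements of `GU` -/
def suGU : ↥(Cfsg.SU n F q) →* ↥(Cfsg.GU n F q) where
  toFun s := ⟨Matrix.SpecialLinearGroup.toGL s.1, fun u v => s.2 u v⟩
  map_one' := by
    apply Subtype.ext
    exact map_one _
  map_mul' s t := by
    apply Subtype.ext
    exact map_mul _ _ _

theorem suGU_val (s : ↥(Cfsg.SU n F q)) : (suGU s).1.1 = s.1.1 := rfl

theorem cSU_suGU (t s : ↥(Cfsg.SU n F q)) : cSU (suGU t) s = t * s * t⁻¹ := by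
  apply Subtype.ext
  apply Subtype.ext
  rw [cSU_val]
  have h1 : ((suGU t).1⁻¹).1 = (t⁻¹).1.1 := by
    have : (suGU t)⁻¹ = suGU t⁻¹ := (map_inv suGU t).symm
    have h2 : (suGU t).1⁻¹ = (suGU t⁻¹).1 := by
      rw [← this]
      rfl
    rw [h2]
    rfl
  rw [h1]
  rfl

theorem cU_suGU (t : ↥(Cfsg.SU n F q)) :
    (cU (suGU t) : MulAut (Cfsg.PSU n F q)) = MulAut.conj (pu t) := by
  ext x
  obtain ⟨s, rfl⟩ := pu_surjective x
  rw [cU_mk, cSU_suGU, MulAut.conj_apply, map_mul, map_mul, map_inv]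

/-- semilinear isometries -/
structure SemiIso (n : ℕ) (F : Type*) [Field F] (q : ℕ) where
  S : (Fin n → F) → (Fin n → F)
  σ : F ≃+* F
  add : ∀ x y, S (x + y) = S x + S y
  smul : ∀ (a : F) x, S (a • x) = σ a • S x
  herm : ∀ x y, hermForm n F q (S x) (S y) = σ (hermForm n F q x y)

namespace SemiIso
variable (Φ : SemiIso n F q)

/-- the linear map `S ∘ σ⁻¹` -/
def lin : (Fin n → F) →ₗ[F] (Fin n → F) where
  toFun x := Φ.S (fun i => Φ.σ.symm (x i))
  map_add' x y := by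
    have : (fun i => Φ.σ.symm ((x + y) i)) =
        (fun i => Φ.σ.symm (x i)) + (fun i => Φ.σ.symm (y i)) := by
      funext i
      simp
    rw [this, Φ.add]
  map_smul' a x := by
    have : (fun i => Φ.σ.symm ((a • x) i)) = Φ.σ.symm a • (fun i => Φ.σ.symm (x i)) := by
      funext i
      simp
    rw [this, Φ.smul]
    simp

/-- the matrix of `S ∘ σ⁻¹` -/
def mat : Matrix (Fin n) (Fin n) F := LinearMap.toMatrix' Φ.lin

theorem mat_mulVec (x : Fin n → F) : Φ.mat *ᵥ x = Φ.S (fun i => Φ.σ.symm (x i)) :=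
  LinearMap.toMatrix'_mulVec _ _

theorem mat_mulVec' (y : Fin n → F) : Φ.mat *ᵥ (fun i => Φ.σ (y i)) = Φ.S y := by
  rw [mat_mulVec]
  congr 1
  funext i
  simp

theorem mat_pres (x y : Fin n → F) :
    hermForm n F q (Φ.mat *ᵥ x) (Φ.mat *ᵥ y) = hermForm n F q x y := by
  rw [mat_mulVec, mat_mulVec, Φ.herm, herm_map]
  simp

theorem exists_gl (hF : Fintype.card F = q ^ 2) :
    ∃ g : ↥(Cfsg.GU n F q), g.1.1 = Φ.mat := exists_GU_of_pres hF _ Φ.mat_pres

/-- the element of `GU` attached to the semilinear isometry -/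
noncomputable def gl (hF : Fintype.card F = q ^ 2) : ↥(Cfsg.GU n F q) :=
  Classical.choose (Φ.exists_gl hF)

theorem gl_val (hF : Fintype.card F = q ^ 2) : (Φ.gl hF).1.1 = Φ.mat :=
  Classical.choose_spec (Φ.exists_gl hF)

/-- the automorphism of `PSU` attached to the semilinear isometry -/
noncomputable def gam (hF : Fintype.card F = q ^ 2) : MulAut (Cfsg.PSU n F q) :=
  cU (Φ.gl hF) * fU Φ.σ

theorem gam_mem (hF : Fintype.card F = q ^ 2) : Φ.gam hF ∈ Cfsg.gammaPSU n F q :=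
  cU_fU_mem_gamma _ _

theorem gam_pu (hF : Fintype.card F = q ^ 2) (s : ↥(Cfsg.SU n F q)) :
    Φ.gam hF (pu s) = pu (cSU (Φ.gl hF) (fSU Φ.σ s)) := by
  change cU (Φ.gl hF) (fU Φ.σ (pu s)) = _
  rw [fU_mk, cU_mk]

/-- the defining relation of the conjugate of `s` by the semilinear isometry -/
theorem av_gam (hF : Fintype.card F = q ^ 2) (s : ↥(Cfsg.SU n F q)) (y : Fin n → F) :
    av (cSU (Φ.gl hF) (fSU Φ.σ s)) (Φ.S y) = Φ.S (av s y) := by
  have hM := Φ.gl_val hF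
  have h1 : av (cSU (Φ.gl hF) (fSU Φ.σ s)) (Φ.S y) =
      (Φ.gl hF).1.1 *ᵥ ((s.1.1.map Φ.σ) *ᵥ (((Φ.gl hF).1⁻¹).1 *ᵥ (Φ.S y))) := by
    unfold av
    rw [cSU_val, fSU_val, ← mulVec_mulVec, ← mulVec_mulVec]
  have h2 : ((Φ.gl hF).1⁻¹).1 *ᵥ (Φ.S y) = fun i => Φ.σ (y i) := by
    rw [← mat_mulVec' Φ y, ← hM, mulVec_mulVec, gl_inv_mul, one_mulVec]
  rw [h1, h2, map_mulVec_apply, hM, mat_mulVec']
  rfl

theorem S_zero : Φ.S 0 = 0 := by
  have := Φ.smul 0 0
  rwa [zero_smul, map_zero, zero_smul] at this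

theorem S_sub (x y : Fin n → F) : Φ.S (x - y) = Φ.S x - Φ.S y := by
  have h1 : x - y = x + (-1 : F) • y := by module
  rw [h1, Φ.add, Φ.smul, map_neg, map_one]
  module

theorem S_injective (hF : Fintype.card F = q ^ 2) : Function.Injective Φ.S := by
  intro x y hxy
  have h1 : Φ.S (x - y) = 0 := by rw [S_sub, hxy, sub_self]
  have h2 : x - y = 0 := by
    apply herm_nondeg hF
    intro z
    have := Φ.herm (x - y) z
    rw [h1, herm_zero_left] at this
    exact (map_eq_zero_iff _ Φ.σ.injective).mp this.symm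
  exact sub_eq_zero.mp h2

theorem S_surjective (hF : Fintype.card F = q ^ 2) : Function.Surjective Φ.S :=
  Finite.injective_iff_surjective.mp (Φ.S_injective hF)

theorem gam_tv (hF : Fintype.card F = q ^ 2) (u : Fin n → F) (c : F)
    (hu : hermForm n F q u u = 0) (hc : c ^ q = -c) :
    Φ.gam hF (pu (tv hF u c hu hc)) = pu (tv hF (Φ.S u) (Φ.σ c)
      (by rw [Φ.herm, hu, map_zero]) (by rw [← map_pow, hc, map_neg])) := by
  rw [gam_pu]
  congr 1
  apply ext_av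
  intro x
  obtain ⟨y, rfl⟩ := Φ.S_surjective hF x
  rw [av_gam, av_tv, av_tv, Φ.add, Φ.smul, Φ.herm, map_mul]

theorem gam_siegG (hF : Fintype.card F = q ^ 2) (u w : Fin n → F) (b : F)
    (hu : hermForm n F q u u = 0) (hwu : hermForm n F q w u = 0)
    (hb : b + b ^ q + hermForm n F q w w = 0) :
    Φ.gam hF (pu (siegG hF u w b hu hwu hb)) = pu (siegG hF (Φ.S u) (Φ.S w) (Φ.σ b)
      (by rw [Φ.herm, hu, map_zero]) (by rw [Φ.herm, hwu, map_zero])
      (by rw [Φ.herm, ← map_pow, ← map_add, ← map_add, hb, map_zero])) := by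
  rw [gam_pu]
  congr 1
  apply ext_av
  intro x
  obtain ⟨y, rfl⟩ := Φ.S_surjective hF x
  rw [av_gam, av_siegG, av_siegG, Φ.add, Φ.add, Φ.smul, Φ.smul, Φ.herm, Φ.herm, map_sub, map_mul]

end SemiIso

end

end Cfsg.Agent.Lib.Helper6.AutPSU
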