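import Mathlib
import Cfsg.Agent.Lib.Helper6.AutPSU10

/-!
# Automorphisms of `PSU_n(q)`, part 12: rigidity, first half.  An automorphism fixing the two
root subgroups of a hyperbolic pair and inducing the identity on the complement is the identity on
the image of the unipotent radical.
-/

set_option autoImplicit false
set_option linter.unusedSectionVars false
set_option linter.unusedVariables false
open Cfsg

namespace Cfsg.Agent.Lib.Helper6.AutPSU

open Matrix Module Cfsg.Agent.Lib.Helper6 Cfsg.Agent.S0779 Cfsg.Agent.S0781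
open Cfsg.Agent.Lib.Helper6.SUG Cfsg.Agent.Lib.Helper6.AutPSL
open scoped Pointwise

section
variable {F : Type*} [Field F] [Fintype F] {q n : ℕ}

/-- skew elements are of the form `a - a ^ q` -/
theorem exists_L_eq (hF : Fintype.card F = q ^ 2) (c : F) (hc : c ^ q = -c) :
    ∃ a : F, a - a ^ q = c := by
  obtain ⟨θ, hθ0, hθ⟩ := exists_trace_zero hF
  have h1 : (c / θ) ^ q = c / θ := by
    rw [div_pow, hc, hθ, neg_div_neg_eq]
  obtain ⟨t, ht⟩ := exists_trace_eq hF (c / θ) h1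
  refine ⟨t * θ, ?_⟩
  rw [mul_pow, hθ]
  have : c = (c / θ) * θ := by field_simp
  rw [this, ← ht]
  ring

theorem rho_zero (P : HPair n F q) (k : ↥(Cfsg.SU n F q)) : rho P k 0 = 0 := by
  have := rho_smul P k 0 0
  rwa [zero_smul, zero_smul] at this

variable (P : HPair n F q)

section rigid
variable (p : ℕ) [hp : Fact p.Prime] [CharP F p] (hF : Fintype.card F = q ^ 2) (hn : 3 ≤ n)
  (β : MulAut (Cfsg.PSU n F q)) (hβe : img β (Rb hF P.e) = Rb hF P.e)
  (hβf : img β (Rb hF P.f) = Rb hF P.f)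
  (hid : ∀ w, P.W w → bbar P hF β w = w)

include hp hn hβe hid in
/-- the lift fixes the transvections with centre `e` -/
theorem lft_tv_id (c : F) (hc : c ^ q = -c) :
    lft P β (tv hF P.e c P.hee hc) = tv hF P.e c P.hee hc := by
  obtain ⟨w₀, w₀', hw₀, hw₀', h00⟩ := exists_W_pair P hF hn
  have h00' : hermForm n F q w₀' w₀ = 1 := by rw [← herm_conj hF, h00, one_pow]
  obtain ⟨a, ha⟩ := exists_L_eq hF c hc
  have hw : P.W (a • w₀) := P.W_smul _ hw₀
  have h1 := bbar_comm P p hF hn β hβe (a • w₀) w₀' hw hw₀' c hc (by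
    rw [herm_smul_left, herm_smul_right, h00, h00', ← ha]
    ring)
  rw [hid _ hw, hid _ hw₀', herm_smul_left, herm_smul_right, h00, h00', mul_one, mul_one, ha] at h1
  have h2 := lft_Atv P p hF hn β hβe _ ((mem_Atv hF P.e P.hee _).mpr ⟨c, hc, rfl⟩)
  obtain ⟨c', hc', h3⟩ := (mem_Atv hF P.e P.hee _).mp h2
  rw [h3, bc_tv] at h1
  rw [h3]
  subst h1
  rfl

include hp hn hβe hβf hid in
/-- the image of an element of the Levi factor acts in the same way on the complement -/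
theorem rho_eq (k k' : ↥(Cfsg.SU n F q)) (hk : k ∈ Kp P) (hkk' : pu k' = β (pu k)) :
    k' ∈ Kp P ∧ (∀ w, P.W w → rho P k' w = rho P k w) ∧
      (lf P k')⁻¹ * le P k' = (lf P k)⁻¹ * le P k := by
  have hk' := Kp_of_img P p hF hn β hβe hβf k k' hk hkk'
  refine ⟨hk', ?_, ?_⟩
  · intro w hw
    have := bbar_rho P p hF hn β hβe k k' hk hk' hkk' w hw
    rw [hid _ hw, hid _ (rho_W P hF k hk w hw)] at this
    exact this.symm
  · obtain ⟨θ, hθ0, hθ⟩ := exists_trace_zero hF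
    have ht := tv_mem_Qv hF P.e θ P.hee hθ
    obtain ⟨h1, h2, h3⟩ := wc_conj P hF k hk _ ht
    obtain ⟨h1', h2', h3'⟩ := wc_conj P hF k' hk' _ ht
    rw [wc_tv, rho_zero] at h2
    have h4 := mem_Atv_of_wc P hF _ h1 h2
    obtain ⟨c₂, hc₂, h5⟩ := (mem_Atv hF P.e P.hee _).mp h4
    have h6 := lft_conj P p hF hn β hβe k k' hk hk' hkk' _ ht
    rw [lft_tv_id P p hF hn β hβe hid θ hθ, h5, lft_tv_id P p hF hn β hβe hid c₂ hc₂, ← h5] at h6
    have h7 := congrArg (bc P) h6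
    rw [h3, h3', bc_tv] at h7
    have h8 : ((lf P k')⁻¹ * le P k' - (lf P k)⁻¹ * le P k) * θ = 0 := by
      linear_combination -h7
    rcases mul_eq_zero.mp h8 with h9 | h9
    · exact sub_eq_zero.mp h9
    · exact absurd h9 hθ0

/-- the defect of the lift on the `e`-coordinate -/
noncomputable def dl (g : ↥(Cfsg.SU n F q)) : F := bc P (lft P β g) - bc P g

include hp hn hβe hid in
theorem wc_lft_id (g : ↥(Cfsg.SU n F q)) (hg : g ∈ Qv P.e) : wc P (lft P β g) = wc P g := by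
  rw [wc_lft P p hF hn β hβe g hg, hid _ (wc_W P g hg.1)]

include hp hn hβe hid in
theorem dl_mul (g g' : ↥(Cfsg.SU n F q)) (hg : g ∈ Qv P.e) (hg' : g' ∈ Qv P.e) :
    dl P β (g * g') = dl P β g + dl P β g' := by
  unfold dl
  rw [lft_mul P p hF hn β hβe g g' hg hg',
    bc_mul P hF _ _ (lft_spec P p hF hn β hβe g hg).1 (lft_spec P p hF hn β hβe g' hg').1,
    bc_mul P hF g g' hg hg', wc_lft_id P p hF hn β hβe hid g hg,
    wc_lft_id P p hF hn β hβe hid g' hg']
  ring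

include hp hn hβe hid in
theorem dl_Atv (g : ↥(Cfsg.SU n F q)) (hg : g ∈ Atv hF P.e) : dl P β g = 0 := by
  obtain ⟨c, hc, rfl⟩ := (mem_Atv hF P.e P.hee _).mp hg
  unfold dl
  rw [lft_tv_id P p hF hn β hβe hid c hc, sub_self]

include hp hn hβe hid in
theorem dl_congr (g g' : ↥(Cfsg.SU n F q)) (hg : g ∈ Qv P.e) (hg' : g' ∈ Qv P.e)
    (h : wc P g = wc P g') : dl P β g = dl P β g' := by
  have hm : g⁻¹ * g' ∈ Qv P.e := (Qv P.e).mul_mem ((Qv P.e).inv_mem hg) hg'
  have h1 : wc P (g⁻¹ * g') = 0 := by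
    rw [wc_mul P hF _ _ ((Qv P.e).inv_mem hg) hg', wc_inv P hF _ hg, h, neg_add_cancel]
  have h2 := dl_Atv P p hF hn β hβe hid _ (mem_Atv_of_wc P hF _ hm h1)
  have h3 : g' = g * (g⁻¹ * g') := by group
  rw [h3, dl_mul P p hF hn β hβe hid g _ hg hm, h2, add_zero]

include hp hn hβe hβf hid in
theorem dl_conj (k : ↥(Cfsg.SU n F q)) (hk : k ∈ Kp P) (g : ↥(Cfsg.SU n F q)) (hg : g ∈ Qv P.e) :
    dl P β (k * g * k⁻¹) = (lf P k)⁻¹ * le P k * dl P β g := by
  obtain ⟨k', hkk'⟩ := pu_surjective (β (pu k))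
  obtain ⟨hk', -, hm⟩ := rho_eq P p hF hn β hβe hβf hid k k' hk hkk'
  unfold dl
  rw [lft_conj P p hF hn β hβe k k' hk hk' hkk' g hg,
    (wc_conj P hF k' hk' _ (lft_spec P p hF hn β hβe g hg).1).2.2, (wc_conj P hF k hk g hg).2.2]
  have : (lf P k')⁻¹ * bc P (lft P β g) * le P k' =
      ((lf P k')⁻¹ * le P k') * bc P (lft P β g) := by ring
  rw [this, hm]
  ring

include hp hn hβe hβf hid in
theorem dl_step (k : ↥(Cfsg.SU n F q)) (hk : k ∈ Kp P) (hm : (lf P k)⁻¹ * le P k = 1)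
    (x : Fin n → F) (hx : P.W x) (g₂ : ↥(Cfsg.SU n F q)) (hg₂ : g₂ ∈ Qv P.e)
    (h : wc P g₂ = rho P k x - x) : dl P β g₂ = 0 := by
  obtain ⟨b, hb⟩ := exists_siegel_param hF x
  have hg := sg_mem P hF x b hx hb
  have h1 := dl_conj P p hF hn β hβe hβf hid k hk _ hg
  rw [hm, one_mul] at h1
  obtain ⟨h2, h3, -⟩ := wc_conj P hF k hk _ hg
  rw [wc_sg] at h3
  have h4 : wc P (sg P hF x b hx hb * g₂) = wc P (k * sg P hF x b hx hb * k⁻¹) := by
    rw [wc_mul P hF _ _ hg hg₂, wc_sg, h, h3]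
    abel
  have h5 := dl_congr P p hF hn β hβe hid _ _ ((Qv P.e).mul_mem hg hg₂) h2 h4
  rw [dl_mul P p hF hn β hβe hid _ _ hg hg₂, h1] at h5
  exact left_eq_add.mp h5.symm

include hp hn hβe hβf hid in
theorem dl_zero (h32 : ¬ (n = 3 ∧ q = 2)) (g : ↥(Cfsg.SU n F q)) (hg : g ∈ Qv P.e) :
    dl P β g = 0 := by
  by_cases hn4 : 4 ≤ n
  · have key := W_span_iso P hF hn4
      (fun x => P.W x ∧ ∀ (a : F) (g₂ : ↥(Cfsg.SU n F q)), g₂ ∈ Qv P.e → wc P g₂ = a • x →
        dl P β g₂ = 0)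
      (by
        rintro x y ⟨hx, hUx⟩ ⟨hy, hUy⟩
        refine ⟨P.W_add hx hy, ?_⟩
        intro a g₂ hg₂ hw
        obtain ⟨b₃, hb₃⟩ := exists_siegel_param hF (a • x)
        have hg₃ := sg_mem P hF (a • x) b₃ (P.W_smul a hx) hb₃
        have h1 := hUx a _ hg₃ (wc_sg P hF _ _ _ _)
        have hm : (sg P hF (a • x) b₃ (P.W_smul a hx) hb₃)⁻¹ * g₂ ∈ Qv P.e :=
          (Qv P.e).mul_mem ((Qv P.e).inv_mem hg₃) hg₂
        have h2 : wc P ((sg P hF (a • x) b₃ (P.W_smul a hx) hb₃)⁻¹ * g₂) = a • y := by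
          rw [wc_mul P hF _ _ ((Qv P.e).inv_mem hg₃) hg₂, wc_inv P hF _ hg₃, wc_sg, hw]
          module
        have h3 := hUy a _ hm h2
        have h4 : g₂ = sg P hF (a • x) b₃ (P.W_smul a hx) hb₃ *
            ((sg P hF (a • x) b₃ (P.W_smul a hx) hb₃)⁻¹ * g₂) := by group
        rw [h4, dl_mul P p hF hn β hβe hid _ _ hg₃ hm, h1, h3, add_zero])
      (by
        rintro c x ⟨hx, hUx⟩
        refine ⟨P.W_smul c hx, ?_⟩
        intro a g₂ hg₂ hw
        rw [smul_smul] at hw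
        exact hUx _ g₂ hg₂ hw)
      (by
        intro u huW hu
        refine ⟨huW, ?_⟩
        intro a g₂ hg₂ hw
        by_cases hu0 : u = 0
        · rw [hu0, smul_zero] at hw
          exact dl_Atv P p hF hn β hβe hid _ (mem_Atv_of_wc P hF _ hg₂ hw)
        · obtain ⟨R, hRe, hRf⟩ := exists_partner_W P hF u hu0 hu huW
          subst hRe
          obtain ⟨θ, hθ0, hθ⟩ := exists_trace_zero hF
          apply dl_step P p hF hn β hβe hβf hid _ (tv_mem_Kp P hF R.e hu huW θ hθ)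
            (by rw [lf_tv P hF R.e hu huW, le_tv P hF R.e hu huW, inv_one, one_mul])
            ((a / θ) • R.f) (P.W_smul _ hRf) g₂ hg₂
          rw [hw, rho_tv P hF R.e hu huW, herm_smul_left, R.hfe, add_sub_cancel_left]
          congr 1
          field_simp)
    have := (key (wc P g) (wc_W P g hg.1)).2 1 g hg (by rw [one_smul])
    exact this
  · have hn3 : n = 3 := by omega
    have hq3 : 3 ≤ q := by
      have := two_le_q hF
      by_contra h
      exact h32 ⟨hn3, by omega⟩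
    obtain ⟨w₀, hw₀W, hw₀, hgen⟩ := exists_gen_W P hF hn3
    have hww0 : hermForm n F q w₀ w₀ ≠ 0 := by rw [hw₀]; exact one_ne_zero
    obtain ⟨ζ, hζ⟩ := exists_prim_root hF
    have hl1 : (ζ : F) ^ (q + 1) = 1 := by
      rw [← Units.val_pow_eq_pow_val, hζ.pow_eq_one, Units.val_one]
    have hl0 : (ζ : F) ≠ 0 := ζ.ne_zero
    have hl3 : (ζ : F) ^ 3 ≠ 1 := by
      intro h
      have h3 : ζ ^ 3 = 1 := Units.ext (by rw [Units.val_pow_eq_pow_val, h, Units.val_one])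
      have := hζ.dvd_of_pow_eq_one 3 h3
      have := Nat.le_of_dvd (by norm_num) this
      omega
    obtain ⟨l, hl⟩ : ∃ l : F, l = (ζ : F) := ⟨_, rfl⟩
    rw [← hl] at hl1 hl0 hl3
    have hlq : l ^ q * l = 1 := by rw [← pow_succ]; exact hl1
    obtain ⟨s, hs⟩ : ∃ s : F, s = l ^ q * l ^ q / l := ⟨_, rfl⟩
    have hs1 : s - 1 ≠ 0 := by
      intro h
      apply hl3
      have h1 : l ^ q * l ^ q = l := by
        have : s = 1 := sub_eq_zero.mp h
        rw [hs, div_eq_iff hl0, one_mul] at this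
        exact this
      calc l ^ 3 = l ^ q * l ^ q * l * l := by rw [h1]; ring
        _ = (l ^ q * l) * (l ^ q * l) := by ring
        _ = 1 := by rw [hlq, one_mul]
    obtain ⟨a, ha⟩ := hgen _ (wc_W P g hg.1)
    apply dl_step P p hF hn β hβe hβf hid _ (kW_mem P hF w₀ hw₀W hww0 l hl0)
      (by rw [lf_kW P hF w₀ hw₀W hww0, le_kW P hF w₀ hw₀W hww0, inv_inv, hlq])
      ((a / (s - 1)) • w₀) (P.W_smul _ hw₀W) g hg
    rw [ha, rho_smul, rho_kW_w P hF w₀ hw₀W hww0, ← hs, smul_smul, ← sub_smul]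
    congr 1
    field_simp

include hp hn hβe hβf hid in
theorem lft_id (h32 : ¬ (n = 3 ∧ q = 2)) (g : ↥(Cfsg.SU n F q)) (hg : g ∈ Qv P.e) :
    lft P β g = g := by
  apply Qv_ext' P hF _ _ (lft_spec P p hF hn β hβe g hg).1 hg
    (wc_lft_id P p hF hn β hβe hid g hg)
  have := dl_zero P p hF hn β hβe hβf hid h32 g hg
  unfold dl at this
  exact sub_eq_zero.mp this

include hp hn hβe hβf hid in
/-- **the automorphism is the identity on the image of the unipotent radical** -/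
theorem beta_Qe (h32 : ¬ (n = 3 ∧ q = 2)) (g : ↥(Cfsg.SU n F q)) (hg : g ∈ Qv P.e) :
    β (pu g) = pu g := by
  rw [← (lft_spec P p hF hn β hβe g hg).2, lft_id P p hF hn β hβe hβf hid h32 g hg]

end rigid

end

end Cfsg.Agent.Lib.Helper6.AutPSU
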