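import Mathlib
import Cfsg.Agent.Lib.Helper6.AutPSU12

/-!
# Automorphisms of `PSU_n(q)`, part 13: rigidity, second half
-/

set_option autoImplicit false
set_option linter.unusedSectionVars false
set_option linter.unusedVariables false
open Cfsg

namespace Cfsg.Agent.Lib.Helper6.AutPSU

open Matrix Module Cfsg.Agent.Lib.Helper6 Cfsg.Agent.S0779 Cfsg.Agent.S0781
open Cfsg.Agent.Lib.Helper6.SUG Cfsg.Agent.Lib.Helper6.AutPSL
open scoped Pointwise

section
variable {F : Type*} [Field F] [Fintype F] {q n : ℕ}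

theorem Qv_conj_gen (u : Fin n → F) (t g : ↥(Cfsg.SU n F q)) (hg : g ∈ Qv u) :
    t * g * t⁻¹ ∈ Qv (av t u) := by
  refine ⟨?_, ?_⟩
  · rw [av_mul, av_mul, av_inv_av, hg.1]
  · intro x hx
    have hx' : hermForm n F q (av t⁻¹ x) u = 0 := by
      rw [herm_av_left, inv_inv]
      exact hx
    obtain ⟨s, hs⟩ := hg.2 _ hx'
    refine ⟨s, ?_⟩
    rw [av_mul, av_mul, hs, av_add, av_smul, av_av_inv]

theorem Qv_smul_le (a : F) (ha : a ≠ 0) (u : Fin n → F) :
    Qv (a • u) ≤ (Qv u : Subgroup ↥(Cfsg.SU n F q)) := by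
  intro g hg
  refine ⟨?_, ?_⟩
  · have h1 := hg.1
    rw [av_smul] at h1
    have h2 := congrArg (fun v => a⁻¹ • v) h1
    simp only [smul_smul, inv_mul_cancel₀ ha, one_smul] at h2
    exact h2
  · intro x hx
    have hx' : hermForm n F q x (a • u) = 0 := by rw [herm_smul_right, hx, mul_zero]
    obtain ⟨s, hs⟩ := hg.2 x hx'
    exact ⟨s * a, by rw [hs, smul_smul]⟩

variable (P : HPair n F q)

theorem herm_decomp (hF : Fintype.card F = q ^ 2) (x y : Fin n → F) :
    hermForm n F q x y = hermForm n F q x P.f * hermForm n F q y P.e ^ q +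
      hermForm n F q x P.e * hermForm n F q y P.f ^ q +
      hermForm n F q (P.proj x) (P.proj y) := by
  have hy := P.W_swap hF (P.proj_W y)
  have h1 : hermForm n F q x (P.proj y) = hermForm n F q (P.proj x) (P.proj y) := by
    conv_lhs => rw [P.decomp x]
    rw [herm_add_left, herm_add_left, herm_smul_left, herm_smul_left, hy.1, hy.2]
    ring
  conv_lhs => rw [P.decomp y]
  rw [herm_add_right hF, herm_add_right hF, herm_smul_right, herm_smul_right, h1]
  ring

theorem av_weyl (hF : Fintype.card F = q ^ 2) (c d : F) (hc : c ^ q = -c) (hd : d ^ q = -d) :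
    av (tv hF P.e c P.hee hc * tv hF P.f d P.hff hd * tv hF P.e c P.hee hc) P.e =
      (1 + c * d) • P.e + d • P.f := by
  have h1 : av (tv hF P.e c P.hee hc) P.e = P.e := by
    rw [av_tv, P.hee, mul_zero, zero_smul, add_zero]
  have h2 : av (tv hF P.f d P.hff hd) P.e = P.e + d • P.f := by
    rw [av_tv, P.hef, mul_one]
  rw [av_mul, av_mul, h1, h2, av_tv, herm_add_left, herm_smul_left, P.hee, P.hfe]
  module

theorem Atv_av_le (hF : Fintype.card F = q ^ 2) (H : Subgroup ↥(Cfsg.SU n F q))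
    (g : ↥(Cfsg.SU n F q)) (hg : g ∈ H) (v : Fin n → F) (hv : hermForm n F q v v = 0)
    (h : Atv hF v ≤ H) : Atv hF (av g v) ≤ H := by
  intro x hx
  have hgv : hermForm n F q (av g v) (av g v) = 0 := by rw [herm_av, hv]
  obtain ⟨c, hc, rfl⟩ := (mem_Atv hF _ hgv _).mp hx
  rw [← conj_tv hF g v c hv hc]
  exact H.mul_mem (H.mul_mem hg (h ((mem_Atv hF v hv _).mpr ⟨c, hc, rfl⟩))) (H.inv_mem hg)

theorem Atv_le_of_opp (hF : Fintype.card F = q ^ 2) (H : Subgroup ↥(Cfsg.SU n F q))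
    (hQ : Qv P.e ≤ H) (hA : Atv hF P.f ≤ H) (u : Fin n → F) (hu : hermForm n F q u u = 0)
    (hue : hermForm n F q u P.e ≠ 0) : Atv hF u ≤ H := by
  obtain ⟨a, ha⟩ : ∃ a, a = hermForm n F q u P.e := ⟨_, rfl⟩
  rw [← ha] at hue
  obtain ⟨u', hu'⟩ : ∃ u', u' = a⁻¹ • u := ⟨_, rfl⟩
  have hu'e : hermForm n F q u' P.e = 1 := by
    rw [hu', herm_smul_left, ← ha, inv_mul_cancel₀ hue]
  have hu'u' : hermForm n F q u' u' = 0 := by
    rw [hu', herm_smul_left, herm_smul_right, hu]
    ring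
  have huu' : u = a • u' := by rw [hu', smul_smul, mul_inv_cancel₀ hue, one_smul]
  obtain ⟨w, hw⟩ : ∃ w, w = P.proj u' := ⟨_, rfl⟩
  obtain ⟨b, hb⟩ : ∃ b, b = hermForm n F q u' P.f := ⟨_, rfl⟩
  have hwW : P.W w := by rw [hw]; exact P.proj_W u'
  have hbw : b + b ^ q + hermForm n F q w w = 0 := by
    have := herm_decomp P hF u' u'
    rw [hu'u', hu'e, ← hb, ← hw, one_pow, mul_one, one_mul] at this
    exact this.symm
  have h1 : av (sg P hF w b hwW hbw) P.f = u' := by
    rw [av_sg_f]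
    conv_rhs => rw [P.decomp u', hu'e, ← hb, ← hw]
    module
  have h2 := Atv_av_le hF H _ (hQ (sg_mem P hF w b hwW hbw)) P.f P.hff hA
  rw [h1] at h2
  rw [huu', Atv_smul hF a hue u' hu'u']
  exact h2

/-- `SU` is generated by the unipotent radicals of two opposite point stabilisers -/
theorem gen_top (hF : Fintype.card F = q ^ 2) (hn : 3 ≤ n) (h32 : ¬ (n = 3 ∧ q = 2))
    (H : Subgroup ↥(Cfsg.SU n F q)) (hQe : Qv P.e ≤ H) (hQf : Qv P.f ≤ H) : H = ⊤ := by
  have hAe : Atv hF P.e ≤ H := (Atv_le_Qv hF P.e P.hee).trans hQe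
  have hAf : Atv hF P.f ≤ H := (Atv_le_Qv hF P.f P.hff).trans hQf
  have key : ∀ v : Fin n → F, v ≠ 0 → hermForm n F q v v = 0 → Atv hF v ≤ H := by
    intro v hv0 hvv
    by_cases h1 : hermForm n F q v P.e = 0
    · by_cases h2 : hermForm n F q v P.f = 0
      · have hvW : P.W v := ⟨h1, h2⟩
        have hex : ∃ w, P.W w ∧ hermForm n F q v w ≠ 0 := by
          by_contra hcon
          push Not at hcon
          exact hv0 (P.W_nondeg hF hvW hcon)
        obtain ⟨w, hwW, hvw⟩ := hex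
        obtain ⟨b, hb⟩ := exists_siegel_param hF w
        have hg := hQe (sg_mem P hF w b hwW hb)
        have h3 : av (sg P hF w b hwW hb) v = v + (-hermForm n F q v w) • P.e := by
          rw [av_sg, h1]
          module
        have h4 : hermForm n F q (av (sg P hF w b hwW hb) v) P.f ≠ 0 := by
          rw [h3, herm_add_left, herm_smul_left, h2, P.hef]
          simpa using hvw
        have h5 : hermForm n F q (av (sg P hF w b hwW hb) v) (av (sg P hF w b hwW hb) v) = 0 := by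
          rw [herm_av, hvv]
        have h6 := Atv_le_of_opp P.swap hF H hQf hAe _ h5 h4
        have h7 := Atv_av_le hF H _ (H.inv_mem hg) _ h5 h6
        rwa [av_inv_av] at h7
      · exact Atv_le_of_opp P.swap hF H hQf hAe v hvv h2
    · exact Atv_le_of_opp P hF H hQe hAf v hvv h1
  rw [eq_top_iff, ← TT_eq_top hF n (by omega) h32]
  unfold TT
  rw [Subgroup.closure_le]
  intro A hA
  rcases tvSet_cases hF A hA with rfl | ⟨v, hv, hvv, c, hc, rfl⟩
  · exact H.one_mem
  · exact key v hv hvv ((mem_Atv hF v hvv _).mpr ⟨c, hc, rfl⟩)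

/-- the subgroup of `SU` fixed by an automorphism of `PSU` -/
def fixSub (β : MulAut (Cfsg.PSU n F q)) : Subgroup ↥(Cfsg.SU n F q) where
  carrier := {g | β (pu g) = pu g}
  mul_mem' := by
    intro a b ha hb
    change β (pu (a * b)) = pu (a * b)
    rw [map_mul, map_mul, ha, hb]
  one_mem' := by
    change β (pu 1) = pu 1
    rw [map_one, map_one]
  inv_mem' := by
    intro a ha
    change β (pu a⁻¹) = pu a⁻¹
    rw [map_inv, map_inv, ha]

section rigid
variable (p : ℕ) [hp : Fact p.Prime] [CharP F p] (hF : Fintype.card F = q ^ 2) (hn : 3 ≤ n)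
  (h32 : ¬ (n = 3 ∧ q = 2))
  (β : MulAut (Cfsg.PSU n F q)) (hβe : img β (Rb hF P.e) = Rb hF P.e)
  (hβf : img β (Rb hF P.f) = Rb hF P.f)
  (hid : ∀ w, P.W w → bbar P hF β w = w)

include hp hn h32 hβe hβf hid in
theorem beta_tv_f (d : F) (hd : d ^ q = -d) :
    β (pu (tv hF P.f d P.hff hd)) = pu (tv hF P.f d P.hff hd) := by
  have hn2 : 2 ≤ n := by omega
  by_cases hd0 : d = 0
  · subst hd0
    rw [tv_zero hF P.f P.hff, map_one, map_one]
  · have h1 : β (pu (tv hF P.f d P.hff hd)) ∈ Rb hF P.f := by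
      rw [← hβf]
      exact mem_img_of β _ ((mem_Rb hF P.f P.hff _).mpr ⟨d, hd, rfl⟩)
    obtain ⟨d', hd', h2⟩ := (mem_Rb hF P.f P.hff _).mp h1
    obtain ⟨c, hc⟩ : ∃ c, c = -d⁻¹ := ⟨_, rfl⟩
    have hcq : c ^ q = -c := by
      rw [hc, neg_pow_q hF, inv_pow, hd, inv_neg]
    have hcd : 1 + c * d = 0 := by
      rw [hc]
      field_simp
      ring
    have hc0 : c ≠ 0 := by
      rw [hc]
      exact neg_ne_zero.mpr (inv_ne_zero hd0)
    have hx := beta_Qe P p hF hn β hβe hβf hid h32 _ (tv_mem_Qv hF P.e c P.hee hcq)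
    have e1 : β (pu (tv hF P.e c P.hee hcq * tv hF P.f d P.hff hd * tv hF P.e c P.hee hcq)) =
        pu (tv hF P.e c P.hee hcq * tv hF P.f d' P.hff hd' * tv hF P.e c P.hee hcq) := by
      rw [map_mul, map_mul, map_mul, map_mul, hx, h2, map_mul, map_mul]
    have e2 : img (MulAut.conj (pu (tv hF P.e c P.hee hcq * tv hF P.f d P.hff hd *
        tv hF P.e c P.hee hcq))) (Rb hF P.e) = Rb hF P.f := by
      rw [img_conj_Rb hF _ P.e P.hee, av_weyl, hcd, zero_smul, zero_add,
        Rb_smul hF d hd0 P.f P.hff]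
    have e3 := img_conj_comm β (pu (tv hF P.e c P.hee hcq * tv hF P.f d P.hff hd *
        tv hF P.e c P.hee hcq)) (Rb hF P.e)
    rw [e2, hβf, hβe, e1, img_conj_Rb hF _ P.e P.hee] at e3
    have hiso : hermForm n F q
        (av (tv hF P.e c P.hee hcq * tv hF P.f d' P.hff hd' * tv hF P.e c P.hee hcq) P.e)
        (av (tv hF P.e c P.hee hcq * tv hF P.f d' P.hff hd' * tv hF P.e c P.hee hcq) P.e) = 0 := by
      rw [herm_av, P.hee]
    obtain ⟨a, ha0, ha⟩ := Rb_le_imp p hF hn2 _ P.f (av_ne_zero _ P.e_ne) hiso P.hff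
      (le_of_eq e3.symm)
    rw [av_weyl] at ha
    have h3 := congrArg (fun v => hermForm n F q v P.f) ha
    simp only [herm_add_left, herm_smul_left, P.hef, P.hff, mul_one, mul_zero, add_zero] at h3
    have hdd' : d' = d := by
      have : c * (d' - d) = 0 := by linear_combination h3 - hcd
      rcases mul_eq_zero.mp this with h | h
      · exact absurd h hc0
      · exact sub_eq_zero.mp h
    rw [h2]
    subst hdd'
    rfl

include hp hn h32 hβe hβf hid in
theorem beta_Qf (g' : ↥(Cfsg.SU n F q)) (hg' : g' ∈ Qv P.f) : β (pu g') = pu g' := by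
  obtain ⟨θ, hθ0, hθ⟩ := exists_trace_zero hF
  obtain ⟨c, hc⟩ : ∃ c, c = -θ⁻¹ := ⟨_, rfl⟩
  have hcq : c ^ q = -c := by
    rw [hc, neg_pow_q hF, inv_pow, hθ, inv_neg]
  have hcd : 1 + c * θ = 0 := by
    rw [hc]
    field_simp
    ring
  obtain ⟨nn, hnn⟩ : ∃ nn, nn = tv hF P.e c P.hee hcq * tv hF P.f θ P.hff hθ *
      tv hF P.e c P.hee hcq := ⟨_, rfl⟩
  have hx := beta_Qe P p hF hn β hβe hβf hid h32 _ (tv_mem_Qv hF P.e c P.hee hcq)
  have hy := beta_tv_f P p hF hn h32 β hβe hβf hid θ hθ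
  have h1 : β (pu nn) = pu nn := by
    rw [hnn, map_mul, map_mul, map_mul, map_mul, hx, hy]
  have h2 : av nn P.e = θ • P.f := by
    rw [hnn, av_weyl, hcd, zero_smul, zero_add]
  have h3 : av nn⁻¹ P.f = θ⁻¹ • P.e := by
    have := av_inv_av nn P.e
    rw [h2, av_smul] at this
    rw [← this, smul_smul, inv_mul_cancel₀ hθ0, one_smul]
  have h4 : nn⁻¹ * g' * nn⁻¹⁻¹ ∈ Qv P.e := by
    apply Qv_smul_le θ⁻¹ (inv_ne_zero hθ0)
    rw [← h3]
    exact Qv_conj_gen P.f nn⁻¹ g' hg'
  have h5 := beta_Qe P p hF hn β hβe hβf hid h32 _ h4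
  have h6 : g' = nn * (nn⁻¹ * g' * nn⁻¹⁻¹) * nn⁻¹ := by group
  rw [h6, map_mul, map_mul, map_mul, map_mul, h5, map_inv, map_inv, h1]

include hp hn h32 hβe hβf hid in
/-- **rigidity**: an automorphism fixing two opposite root subgroups and inducing the identity on
the complement is trivial -/
theorem rigid : β = 1 := by
  have h1 : fixSub β = ⊤ := by
    apply gen_top P hF hn h32
    · intro g hg
      exact beta_Qe P p hF hn β hβe hβf hid h32 g hg
    · intro g hg
      exact beta_Qf P p hF hn h32 β hβe hβf hid g hg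
  ext x
  obtain ⟨g, rfl⟩ := pu_surjective x
  have : g ∈ fixSub β := by rw [h1]; trivial
  exact this

end rigid

end

end Cfsg.Agent.Lib.Helper6.AutPSU
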