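import Mathlib
import Cfsg.Agent.Lib.Helper6.AutPSU11
import Cfsg.Agent.Lib.Helper6.AutPSU13

/-!
# Automorphisms of `PSU_n(q)`, part 14: every automorphism is induced by a semilinear isometry
-/

set_option autoImplicit false
set_option linter.unusedSectionVars false
set_option linter.unusedVariables false
open Cfsg

namespace Cfsg.Agent.Lib.Helper6.AutPSU

open Matrix Module Cfsg.Agent.Lib.Helper6 Cfsg.Agent.S0779 Cfsg.Agent.S0781
open Cfsg.Agent.Lib.Helper6.SUG Cfsg.Agent.Lib.Helper6.AutPSL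
open scoped Pointwise

section
variable {F : Type*} [Field F] [Fintype F] {q n : ℕ}

theorem img_eq_of_le {G : Type*} [Group G] [Finite G] (γ : MulAut G) (H : Subgroup G)
    (h : img γ H ≤ H) : img γ H = H := by
  apply Subgroup.eq_of_le_of_card_ge h
  unfold img
  rw [Subgroup.card_map_of_injective (MulEquiv.injective γ)]

variable (P : HPair n F q)

section build
variable (hF : Fintype.card F = q ^ 2) (T : (Fin n → F) → (Fin n → F)) (σ : F ≃+* F) (ν c₀ : F)
  (hTW : ∀ w, P.W w → P.W (T w))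
  (hTadd : ∀ w w', P.W w → P.W w' → T (w + w') = T w + T w')
  (hTsemi : ∀ (a : F) (x : Fin n → F), P.W x → T (a • x) = σ a • T x)
  (hTform : ∀ w w', P.W w → P.W w' →
    hermForm n F q (T w) (T w') = ν * σ (hermForm n F q w w'))
  (hν : ν ^ q = ν) (hc₀ : c₀ * c₀ ^ q * ν = 1)

/-- the semilinear extension of `T` -/
def S0 (x : Fin n → F) : Fin n → F :=
  (c₀ * ν * σ (hermForm n F q x P.f)) • P.e + (c₀ * σ (hermForm n F q x P.e)) • P.f +
    c₀ • T (P.proj x)

include hTadd in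
theorem S0_add (x y : Fin n → F) : S0 P T σ ν c₀ (x + y) = S0 P T σ ν c₀ x + S0 P T σ ν c₀ y := by
  unfold S0
  rw [herm_add_left, herm_add_left, proj_add, hTadd _ _ (P.proj_W x) (P.proj_W y), map_add,
    map_add]
  module

include hTsemi in
theorem S0_smul (a : F) (x : Fin n → F) : S0 P T σ ν c₀ (a • x) = σ a • S0 P T σ ν c₀ x := by
  unfold S0
  rw [herm_smul_left, herm_smul_left, proj_smul, hTsemi _ _ (P.proj_W x), map_mul, map_mul]
  module

include hF hTW hTform hν hc₀ in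
theorem S0_herm (x y : Fin n → F) :
    hermForm n F q (S0 P T σ ν c₀ x) (S0 P T σ ν c₀ y) = σ (hermForm n F q x y) := by
  have hx := hTW _ (P.proj_W x)
  have hy := hTW _ (P.proj_W y)
  have hy' := P.W_swap hF hy
  unfold S0
  rw [herm_decomp P hF x y]
  simp only [herm_add_left, herm_add_right hF, herm_smul_left, herm_smul_right, P.hee, P.hff,
    P.hef, P.hfe, hx.1, hx.2, hy'.1, hy'.2, hTform _ _ (P.proj_W x) (P.proj_W y), map_add, map_mul,
    map_pow, mul_pow, hν]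
  linear_combination (σ (hermForm n F q x P.f) * σ (hermForm n F q y P.e) ^ q +
    σ (hermForm n F q x P.e) * σ (hermForm n F q y P.f) ^ q +
    σ (hermForm n F q (P.proj x) (P.proj y))) * hc₀

/-- the semilinear isometry extending `T` -/
def mkSemi : SemiIso n F q where
  S := S0 P T σ ν c₀
  σ := σ
  add := S0_add P T σ ν c₀ hTadd
  smul := S0_smul P T σ ν c₀ hTsemi
  herm := S0_herm P hF T σ ν c₀ hTW hTform hν hc₀

include hTadd in
theorem T_zero' : T 0 = 0 := by
  have := hTadd 0 0 ⟨herm_zero_left _, herm_zero_left _⟩ ⟨herm_zero_left _, herm_zero_left _⟩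
  rw [add_zero] at this
  exact left_eq_add.mp this

theorem mkSemi_e :
    (mkSemi P hF T σ ν c₀ hTW hTadd hTsemi hTform hν hc₀).S P.e = (c₀ * ν) • P.e := by
  change S0 P T σ ν c₀ P.e = _
  unfold S0
  rw [P.hef, P.hee, proj_e, T_zero' P T hTadd, map_one, map_zero]
  module

theorem mkSemi_f :
    (mkSemi P hF T σ ν c₀ hTW hTadd hTsemi hTform hν hc₀).S P.f = c₀ • P.f := by
  change S0 P T σ ν c₀ P.f = _
  unfold S0
  rw [P.hff, P.hfe, proj_f, T_zero' P T hTadd, map_one, map_zero]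
  module

theorem mkSemi_W (w : Fin n → F) (hw : P.W w) :
    (mkSemi P hF T σ ν c₀ hTW hTadd hTsemi hTform hν hc₀).S w = c₀ • T w := by
  change S0 P T σ ν c₀ w = _
  unfold S0
  rw [hw.1, hw.2, P.proj_of_W hw, map_zero]
  module

theorem gam_sg (w : Fin n → F) (b : F) (hw : P.W w)
    (hb : b + b ^ q + hermForm n F q w w = 0)
    (hb' : ν * σ b + (ν * σ b) ^ q + hermForm n F q (T w) (T w) = 0) :
    (mkSemi P hF T σ ν c₀ hTW hTadd hTsemi hTform hν hc₀).gam hF (pu (sg P hF w b hw hb)) =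
      pu (sg P hF (T w) (ν * σ b) (hTW w hw) hb') := by
  have h1 : sg P hF w b hw hb = siegG hF P.e w b P.hee hw.1 hb := rfl
  rw [h1, SemiIso.gam_siegG]
  congr 1
  apply ext_av
  intro x
  rw [av_siegG, av_sg, mkSemi_e, mkSemi_W P hF T σ ν c₀ hTW hTadd hTsemi hTform hν hc₀ w hw]
  change x + _ + (σ b * _ - _) • _ = _
  rw [herm_smul_right, herm_smul_right, smul_smul, smul_smul, mul_pow, hν]
  have hA : c₀ ^ q * ν * hermForm n F q x P.e * c₀ = hermForm n F q x P.e := by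
    linear_combination hermForm n F q x P.e * hc₀
  have hB : (σ b * (c₀ ^ q * ν * hermForm n F q x P.e) - c₀ ^ q * hermForm n F q x (T w)) *
      (c₀ * ν) = ν * σ b * hermForm n F q x P.e - hermForm n F q x (T w) := by
    linear_combination (ν * σ b * hermForm n F q x P.e - hermForm n F q x (T w)) * hc₀
  rw [hA, hB]

include hc₀ in
theorem c₀_ne : c₀ ≠ 0 := by
  rintro rfl
  rw [zero_mul, zero_mul] at hc₀
  exact zero_ne_one hc₀

include hc₀ in
theorem ν_ne : ν ≠ 0 := by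
  rintro rfl
  rw [mul_zero] at hc₀
  exact zero_ne_one hc₀

theorem gam_Rb_e :
    img ((mkSemi P hF T σ ν c₀ hTW hTadd hTsemi hTform hν hc₀).gam hF) (Rb hF P.e) =
      Rb hF P.e := by
  apply img_eq_of_le
  intro y hy
  obtain ⟨x, hx, rfl⟩ := (mem_img _ _ _).mp hy
  obtain ⟨c, hc, rfl⟩ := (mem_Rb hF P.e P.hee x).mp hx
  rw [SemiIso.gam_tv]
  have h2 : Rb hF ((mkSemi P hF T σ ν c₀ hTW hTadd hTsemi hTform hν hc₀).S P.e) = Rb hF P.e := by
    rw [mkSemi_e, Rb_smul hF _ (mul_ne_zero (c₀_ne ν c₀ hc₀) (ν_ne ν c₀ hc₀)) P.e P.hee]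
  rw [← h2]
  exact (mem_Rb hF _ (by rw [SemiIso.herm, P.hee, map_zero]) _).mpr ⟨_, _, rfl⟩

theorem gam_Rb_f :
    img ((mkSemi P hF T σ ν c₀ hTW hTadd hTsemi hTform hν hc₀).gam hF) (Rb hF P.f) =
      Rb hF P.f := by
  apply img_eq_of_le
  intro y hy
  obtain ⟨x, hx, rfl⟩ := (mem_img _ _ _).mp hy
  obtain ⟨c, hc, rfl⟩ := (mem_Rb hF P.f P.hff x).mp hx
  rw [SemiIso.gam_tv]
  have h2 : Rb hF ((mkSemi P hF T σ ν c₀ hTW hTadd hTsemi hTform hν hc₀).S P.f) = Rb hF P.f := by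
    rw [mkSemi_f, Rb_smul hF _ (c₀_ne ν c₀ hc₀) P.f P.hff]
  rw [← h2]
  exact (mem_Rb hF _ (by rw [SemiIso.herm, P.hff, map_zero]) _).mpr ⟨_, _, rfl⟩

end build

end

end Cfsg.Agent.Lib.Helper6.AutPSU
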