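import Mathlib
import Cfsg.Agent.Lib.Helper6.AutPSU14

/-!
# Automorphisms of `PSU_n(q)`, part 15: the main theorem
-/

set_option autoImplicit false
set_option linter.unusedSectionVars false
set_option linter.unusedVariables false
open Cfsg

namespace Cfsg.Agent.Lib.Helper6.AutPSU

open Matrix Module Cfsg.Agent.Lib.Helper6 Cfsg.Agent.S0779 Cfsg.Agent.S0781
open Cfsg.Agent.Lib.Helper6.SUG Cfsg.Agent.Lib.Helper6.AutPSL
open scoped Pointwise

section
variable {F : Type*} [Field F] [Fintype F] {q n : ℕ}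

theorem charP_of_card_pow {p k : ℕ} [hp : Fact p.Prime] (hF : Fintype.card F = p ^ k) :
    CharP F p := by
  obtain ⟨p', hp'⟩ := CharP.exists F
  haveI := hp'
  haveI : Fact p'.Prime := ⟨CharP.char_is_prime F p'⟩
  obtain ⟨m, -, hm⟩ := FiniteField.card F p'
  have hdvd : p' ∣ p ^ k := by
    rw [← hF, hm]
    exact dvd_pow_self p' m.ne_zero
  have h1 : p' = p :=
    (Nat.prime_dvd_prime_iff_eq (CharP.char_is_prime F p') hp.out).1
      ((CharP.char_is_prime F p').dvd_of_dvd_pow hdvd)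
  subst h1
  exact hp'

/-- **every automorphism of `PSU_n(q)` is, up to an inner automorphism, induced by a semilinear
isometry** -/
theorem exists_semi (p : ℕ) [hp : Fact p.Prime] [CharP F p] (hF : Fintype.card F = q ^ 2)
    (hn : 3 ≤ n) (h32 : ¬ (n = 3 ∧ q = 2)) (β : MulAut (Cfsg.PSU n F q)) :
    ∃ (g₀ : ↥(Cfsg.SU n F q)) (Φ : SemiIso n F q), MulAut.conj (pu g₀) * β = Φ.gam hF := by
  obtain ⟨P⟩ := exists_hpair hF (show 2 ≤ n by omega)
  obtain ⟨g₀, hβe, hβf⟩ := exists_normalise P p hF hn β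
  obtain ⟨β', hβ'⟩ : ∃ β', β' = MulAut.conj (pu g₀) * β := ⟨_, rfl⟩
  rw [← hβ'] at hβe hβf
  have hβe' := img_symm_eq β' _ hβe
  have hβf' := img_symm_eq β' _ hβf
  have hTW := bbar_W P p hF hn β' hβe
  have hT'W := bbar_W P p hF hn (MulEquiv.symm β') hβe'
  have hTadd := bbar_add P p hF hn β' hβe
  have hT'add := bbar_add P p hF hn (MulEquiv.symm β') hβe'
  have hT'T := bbar_symm P p hF hn β' hβe
  have hTT' : ∀ w, P.W w → bbar P hF β' (bbar P hF (MulEquiv.symm β') w) = w := by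
    intro w hw
    have := bbar_symm P p hF hn (MulEquiv.symm β') hβe' w hw
    rwa [MulEquiv.symm_symm] at this
  have hTeq : ∀ k ∈ Kp P, ∃ k' ∈ Kp P, ∀ w, P.W w →
      bbar P hF β' (rho P k w) = rho P k' (bbar P hF β' w) := by
    intro k hk
    obtain ⟨k', hkk'⟩ := pu_surjective (β' (pu k))
    have hk' := Kp_of_img P p hF hn β' hβe hβf k k' hk hkk'
    exact ⟨k', hk', fun w hw => bbar_rho P p hF hn β' hβe k k' hk hk' hkk' w hw⟩
  have hT'eq : ∀ k ∈ Kp P, ∃ k' ∈ Kp P, ∀ w, P.W w →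
      bbar P hF (MulEquiv.symm β') (rho P k w) = rho P k' (bbar P hF (MulEquiv.symm β') w) := by
    intro k hk
    obtain ⟨k', hkk'⟩ := pu_surjective ((MulEquiv.symm β') (pu k))
    have hk' := Kp_of_img P p hF hn (MulEquiv.symm β') hβe' hβf' k k' hk hkk'
    exact ⟨k', hk', fun w hw =>
      bbar_rho P p hF hn (MulEquiv.symm β') hβe' k k' hk hk' hkk' w hw⟩
  obtain ⟨σ, hσ⟩ := exists_semilinear P (bbar P hF β') (bbar P hF (MulEquiv.symm β'))
    hTW hT'W hTadd hT'add hTT' hT'T hTeq hT'eq hF hn h32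
  have hC : ∀ w₁ w₁' w₂ w₂', P.W w₁ → P.W w₁' → P.W w₂ → P.W w₂' →
      hermForm n F q w₁ w₁' - hermForm n F q w₁' w₁ =
        hermForm n F q w₂ w₂' - hermForm n F q w₂' w₂ →
      hermForm n F q (bbar P hF β' w₁) (bbar P hF β' w₁') -
          hermForm n F q (bbar P hF β' w₁') (bbar P hF β' w₁) =
        hermForm n F q (bbar P hF β' w₂) (bbar P hF β' w₂') -
          hermForm n F q (bbar P hF β' w₂') (bbar P hF β' w₂) := by
    intro w₁ w₁' w₂ w₂' h₁ h₁' h₂ h₂' heq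
    obtain ⟨c, hc⟩ : ∃ c, c = hermForm n F q w₁ w₁' - hermForm n F q w₁' w₁ := ⟨_, rfl⟩
    have hcq : c ^ q = -c := by
      rw [hc, sub_pow_q hF, herm_conj hF, herm_conj hF]
      ring
    have e1 := bbar_comm P p hF hn β' hβe w₁ w₁' h₁ h₁' c hcq hc
    have e2 := bbar_comm P p hF hn β' hβe w₂ w₂' h₂ h₂' c hcq (hc.trans heq)
    rw [← e1, ← e2]
  obtain ⟨ν, hν0, hνq, hform⟩ := exists_similitude P (bbar P hF β')
    (bbar P hF (MulEquiv.symm β')) hTW hT'W hTT' hF hn σ hσ hC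
  obtain ⟨c₀, hc₀⟩ := exists_norm (conjQ hF) (conjQ_ne_id hF) (conjQ_conjQ hF) ν⁻¹
    (inv_ne_zero hν0) (by rw [conjQ_apply, inv_pow, hνq])
  rw [conjQ_apply] at hc₀
  have hc₀' : c₀ * c₀ ^ q * ν = 1 := by rw [hc₀, inv_mul_cancel₀ hν0]
  obtain ⟨Φ, hΦ⟩ : ∃ Φ, Φ = mkSemi P hF (bbar P hF β') σ ν c₀ hTW hTadd hσ hform hνq hc₀' :=
    ⟨_, rfl⟩
  refine ⟨g₀, Φ, ?_⟩
  have hγe : img (Φ.gam hF) (Rb hF P.e) = Rb hF P.e := by
    rw [hΦ]
    exact gam_Rb_e P hF _ σ ν c₀ hTW hTadd hσ hform hνq hc₀'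
  have hγf : img (Φ.gam hF) (Rb hF P.f) = Rb hF P.f := by
    rw [hΦ]
    exact gam_Rb_f P hF _ σ ν c₀ hTW hTadd hσ hform hνq hc₀'
  have hβ₁e : img ((Φ.gam hF)⁻¹ * β') (Rb hF P.e) = Rb hF P.e := by
    rw [img_mul', hβe]
    conv_lhs => rw [← hγe]
    exact img_inv_img _ _
  have hβ₁f : img ((Φ.gam hF)⁻¹ * β') (Rb hF P.f) = Rb hF P.f := by
    rw [img_mul', hβf]
    conv_lhs => rw [← hγf]
    exact img_inv_img _ _
  have hid : ∀ w, P.W w → bbar P hF ((Φ.gam hF)⁻¹ * β') w = w := by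
    intro w hw
    obtain ⟨b, hb⟩ := exists_siegel_param hF w
    have hg := sg_mem P hF w b hw hb
    obtain ⟨hg₁, hpu⟩ := lft_spec P p hF hn β' hβe _ hg
    obtain ⟨g₁, hg₁def⟩ : ∃ g₁, g₁ = lft P β' (sg P hF w b hw hb) := ⟨_, rfl⟩
    rw [← hg₁def] at hg₁ hpu
    have hwc : wc P g₁ = bbar P hF β' w := by
      rw [hg₁def, wc_lft P p hF hn β' hβe _ hg, wc_sg]
    obtain ⟨b₁, hb₁def⟩ : ∃ b₁, b₁ = bc P g₁ := ⟨_, rfl⟩
    have hb₁ : b₁ + b₁ ^ q + hermForm n F q (bbar P hF β' w) (bbar P hF β' w) = 0 := by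
      have := bc_rel P hF g₁ hg₁.1
      rwa [hwc, ← hb₁def] at this
    obtain ⟨b'', hb''def⟩ : ∃ b'', b'' = σ.symm (ν⁻¹ * b₁) := ⟨_, rfl⟩
    have hνb : ν * σ b'' = b₁ := by
      rw [hb''def, RingEquiv.apply_symm_apply, mul_inv_cancel_left₀ hν0]
    have hb''rel : b'' + b'' ^ q + hermForm n F q w w = 0 := by
      have h1 : σ (b'' + b'' ^ q + hermForm n F q w w) = 0 := by
        have h2 : ν * σ (b'' + b'' ^ q + hermForm n F q w w) = 0 := by
          have h3 := hform w w hw hw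
          rw [map_add, map_add, map_pow]
          have h4 : ν * (σ b'' + σ b'' ^ q + σ (hermForm n F q w w)) =
              ν * σ b'' + (ν * σ b'') ^ q + ν * σ (hermForm n F q w w) := by
            rw [mul_pow, hνq]
            ring
          rw [h4, hνb, ← h3]
          exact hb₁
        rcases mul_eq_zero.mp h2 with h | h
        · exact absurd h hν0
        · exact h
      exact (map_eq_zero_iff σ σ.injective).mp h1
    have hb' : ν * σ b'' + (ν * σ b'') ^ q +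
        hermForm n F q (bbar P hF β' w) (bbar P hF β' w) = 0 := by
      rw [hνb]
      exact hb₁
    have e1 := gam_sg P hF (bbar P hF β') σ ν c₀ hTW hTadd hσ hform hνq hc₀' w b'' hw hb''rel hb'
    rw [← hΦ] at e1
    have e2 : sg P hF (bbar P hF β' w) (ν * σ b'') (hTW w hw) hb' = g₁ := by
      apply Qv_ext' P hF _ _ (sg_mem P hF _ _ _ _) hg₁
      · rw [wc_sg, hwc]
      · rw [bc_sg, hνb, hb₁def]
    rw [e2] at e1
    have e3 : ((Φ.gam hF)⁻¹ * β') (pu (sg P hF w b hw hb)) = pu (sg P hF w b'' hw hb''rel) := by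
      rw [MulAut.mul_apply, ← hpu, ← e1, MulAut.inv_apply_self]
    have e4 := lft_unique P p hF hn ((Φ.gam hF)⁻¹ * β') hβ₁e _ hg _
      (sg_mem P hF w b'' hw hb''rel) e3.symm
    rw [bbar_sg P p hF hn ((Φ.gam hF)⁻¹ * β') hβ₁e w b hw hb, e4, wc_sg]
  have h1 := rigid P p hF hn h32 ((Φ.gam hF)⁻¹ * β') hβ₁e hβ₁f hid
  rw [← hβ']
  calc β' = Φ.gam hF * ((Φ.gam hF)⁻¹ * β') := by group
    _ = Φ.gam hF := by rw [h1, mul_one]

theorem fU_refl : (fU (RingEquiv.refl F) : MulAut (Cfsg.PSU n F q)) = 1 := by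
  ext x
  obtain ⟨s, rfl⟩ := pu_surjective x
  rw [fU_mk]
  change pu _ = pu s
  congr 1

/-- **`Aut(PSU_n(q)) = PΓU_n(q)`** -/
theorem gamma_eq_top (p : ℕ) [hp : Fact p.Prime] [CharP F p] (hF : Fintype.card F = q ^ 2)
    (hn : 3 ≤ n) (h32 : ¬ (n = 3 ∧ q = 2)) : Cfsg.gammaPSU n F q = ⊤ := by
  rw [eq_top_iff]
  intro β _
  obtain ⟨g₀, Φ, h⟩ := exists_semi p hF hn h32 β
  have h1 : β = (MulAut.conj (pu g₀))⁻¹ * Φ.gam hF := by
    rw [← h]
    group
  have h2 : MulAut.conj (pu g₀) ∈ Cfsg.gammaPSU n F q := by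
    have := cU_fU_mem_gamma (suGU g₀) (RingEquiv.refl F)
    rwa [fU_refl, mul_one, cU_suGU] at this
  rw [h1]
  exact Subgroup.mul_mem _ (Subgroup.inv_mem _ h2) (Φ.gam_mem hF)

/-- every automorphism is inner-diagonal times field -/
theorem exists_cU_fU (p : ℕ) [hp : Fact p.Prime] [CharP F p] (hF : Fintype.card F = q ^ 2)
    (hn : 3 ≤ n) (h32 : ¬ (n = 3 ∧ q = 2)) (β : MulAut (Cfsg.PSU n F q)) :
    ∃ (g : ↥(Cfsg.GU n F q)) (σ : F ≃+* F), β = cU g * fU σ := by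
  obtain ⟨g₀, Φ, h⟩ := exists_semi p hF hn h32 β
  refine ⟨(suGU g₀)⁻¹ * Φ.gl hF, Φ.σ, ?_⟩
  rw [map_mul, map_inv, cU_suGU, mul_assoc]
  change β = (MulAut.conj (pu g₀))⁻¹ * Φ.gam hF
  rw [← h]
  group

end

end Cfsg.Agent.Lib.Helper6.AutPSU
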