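import Mathlib
import Cfsg.Agent.Lib.Helper6.AutPSU15
import Cfsg.Agent.Lib.Helper6.AutPSL10

/-!
# Automorphisms of `PSU_n(q)`, part 16: uniqueness of the decomposition
-/

set_option autoImplicit false
set_option linter.unusedSectionVars false
set_option linter.unusedVariables false
open Cfsg

namespace Cfsg.Agent.Lib.Helper6.AutPSU

open Matrix Module Cfsg.Agent.Lib.Helper6 Cfsg.Agent.S0779 Cfsg.Agent.S0781
open Cfsg.Agent.Lib.Helper6.SUG Cfsg.Agent.Lib.Helper6.AutPSL
open scoped Pointwise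

section
variable {F : Type*} [Field F] [Fintype F] {q n : ℕ}

theorem fSU_mul (σ τ : RingAut F) :
    (fSU (σ * τ) : MulAut ↥(Cfsg.SU n F q)) = fSU σ * fSU τ := by
  ext s : 1
  apply Subtype.ext
  apply Subtype.ext
  rw [MulAut.mul_apply, fSU_val, fSU_val, fSU_val, Matrix.map_map]
  rfl

theorem fU_mul (σ τ : RingAut F) :
    (fU (σ * τ) : MulAut (Cfsg.PSU n F q)) = fU σ * fU τ := by
  unfold fU
  rw [fSU_mul, map_mul]

theorem fU_one : (fU (1 : RingAut F) : MulAut (Cfsg.PSU n F q)) = 1 := fU_refl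

/-- the field automorphisms as a homomorphism -/
noncomputable def fUhom : RingAut F →* MulAut (Cfsg.PSU n F q) where
  toFun := fU
  map_one' := fU_one
  map_mul' := fU_mul

theorem fUhom_apply (σ : RingAut F) : (fUhom σ : MulAut (Cfsg.PSU n F q)) = fU σ := rfl

theorem fU_inv (σ : RingAut F) : (fU σ⁻¹ : MulAut (Cfsg.PSU n F q)) = (fU σ)⁻¹ := by
  rw [← fUhom_apply, map_inv, fUhom_apply]

/-- a matrix preserving the form still does after applying a field automorphism -/
theorem map_pres (σ : F ≃+* F) (M : Matrix (Fin n) (Fin n) F)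
    (hM : ∀ u v, hermForm n F q (M *ᵥ u) (M *ᵥ v) = hermForm n F q u v) (u v : Fin n → F) :
    hermForm n F q (M.map σ *ᵥ u) (M.map σ *ᵥ v) = hermForm n F q u v := by
  have hu : u = fun i => σ (σ.symm (u i)) := by funext i; simp
  have hv : v = fun i => σ (σ.symm (v i)) := by funext i; simp
  have h2 := hM (fun i => σ.symm (u i)) (fun i => σ.symm (v i))
  conv_lhs => rw [hu, hv]
  rw [map_mulVec_apply, map_mulVec_apply, herm_map, h2, ← herm_map, ← hu, ← hv]

/-- a field automorphism applied to an element of `GU` -/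
def sGU (σ : RingAut F) (g : ↥(Cfsg.GU n F q)) : ↥(Cfsg.GU n F q) :=
  ⟨sG σ g.1, fun u v => map_pres σ g.1.1 (fun u v => g.2 u v) u v⟩

theorem rel_fSU_cSU (σ : RingAut F) (g : ↥(Cfsg.GU n F q)) :
    (fSU σ * cSU g : MulAut ↥(Cfsg.SU n F q)) = cSU (sGU σ g) * fSU σ := by
  ext s : 1
  apply Subtype.ext
  have := congrArg (fun φ : MulAut (Matrix.SpecialLinearGroup (Fin n) F) => φ s.1)
    (rel_fA_cG σ g.1)
  exact this

theorem rel_fU_cU (σ : RingAut F) (g : ↥(Cfsg.GU n F q)) :
    (fU σ * cU g : MulAut (Cfsg.PSU n F q)) = cU (sGU σ g) * fU σ := by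
  unfold fU cU
  rw [MonoidHom.comp_apply, MonoidHom.comp_apply, ← map_mul, ← map_mul, rel_fSU_cSU]

theorem cU_scalar (h : ↥(Cfsg.GU n F q)) (a : F) (ha : h.1.1 = a • (1 : Matrix (Fin n) (Fin n) F)) :
    (cU h : MulAut (Cfsg.PSU n F q)) = 1 := by
  ext x
  obtain ⟨s, rfl⟩ := pu_surjective x
  rw [cU_mk]
  change pu _ = pu s
  congr 1
  apply Subtype.ext
  apply Subtype.ext
  rw [cSU_val]
  have h1 : h.1.1 * s.1.1 = s.1.1 * h.1.1 := by
    rw [ha, Matrix.smul_mul, Matrix.one_mul, Matrix.mul_smul, Matrix.mul_one]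
  rw [h1, mul_assoc, gl_mul_inv, mul_one]

variable (P : HPair n F q)

/-- vectors of the complement with prescribed norm -/
theorem exists_W_norm (hF : Fintype.card F = q ^ 2) (hn : 3 ≤ n) (r : F) (hr : r ^ q = r) :
    ∃ w, P.W w ∧ hermForm n F q w w = r := by
  by_cases hr0 : r = 0
  · exact ⟨0, P.W_zero hF, by rw [herm_zero_left, hr0]⟩
  · obtain ⟨w, w', hw, hw', hww'⟩ := exists_W_pair P hF hn
    have hw'w : hermForm n F q w' w = 1 := by rw [← herm_conj hF, hww', one_pow]
    -- an anisotropic vector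
    have hex : ∃ w₁, P.W w₁ ∧ hermForm n F q w₁ w₁ ≠ 0 := by
      by_cases h1 : hermForm n F q w w = 0
      · by_cases h2 : hermForm n F q w' w' = 0
        · obtain ⟨a, ha⟩ := exists_trace_eq hF (1 : F) (one_pow q)
          refine ⟨w + a • w', P.W_add hw (P.W_smul _ hw'), ?_⟩
          simp only [herm_add_left, herm_add_right hF, herm_smul_left, herm_smul_right, h1, h2,
            hww', hw'w]
          have : (0 : F) + a * 1 + a ^ q * (1 + a * 0) = a + a ^ q := by ring
          rw [this, ha]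
          exact one_ne_zero
        · exact ⟨w', hw', h2⟩
      · exact ⟨w, hw, h1⟩
    obtain ⟨w₁, hw₁, hw₁n⟩ := hex
    obtain ⟨c, hc⟩ := exists_norm (conjQ hF) (conjQ_ne_id hF) (conjQ_conjQ hF)
      (r / hermForm n F q w₁ w₁) (div_ne_zero hr0 hw₁n)
      (by rw [conjQ_apply, div_pow, hr, herm_conj hF])
    rw [conjQ_apply] at hc
    refine ⟨c • w₁, P.W_smul _ hw₁, ?_⟩
    rw [herm_smul_left, herm_smul_right, ← mul_assoc, hc, div_mul_cancel₀ _ hw₁n]

/-- **an inner-diagonal automorphism which is a field automorphism is trivial** -/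
theorem cU_eq_fU (p : ℕ) [hp : Fact p.Prime] [CharP F p] (hF : Fintype.card F = q ^ 2)
    (hn : 3 ≤ n) (h : ↥(Cfsg.GU n F q)) (ρ : RingAut F)
    (e : (cU h : MulAut (Cfsg.PSU n F q)) = fU ρ) :
    ρ = 1 ∧ ∃ a : F, h.1.1 = a • (1 : Matrix (Fin n) (Fin n) F) := by
  obtain ⟨P⟩ := exists_hpair hF (show 2 ≤ n by omega)
  obtain ⟨τ, hτ⟩ : ∃ τ : F ≃+* F, τ = ρ.symm := ⟨_, rfl⟩
  obtain ⟨ψ, hψ⟩ : ∃ ψ : (Fin n → F) → (Fin n → F),
      ψ = fun x => fun i => τ ((h.1.1 *ᵥ x) i) := ⟨_, rfl⟩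
  have hψadd : ∀ x y, ψ (x + y) = ψ x + ψ y := by
    intro x y
    rw [hψ]
    funext i
    simp only [mulVec_add, Pi.add_apply, map_add]
  have hψsmul : ∀ (a : F) x, ψ (a • x) = τ a • ψ x := by
    intro a x
    rw [hψ]
    funext i
    simp only [mulVec_smul, Pi.smul_apply, smul_eq_mul, map_mul]
  have hψzero : ψ 0 = 0 := by
    have := hψsmul 0 0
    rwa [zero_smul, map_zero, zero_smul] at this
  -- commutation with `p`-elements
  have hcomm : ∀ (s : ↥(Cfsg.SU n F q)) (k : ℕ), s ^ (p ^ k) = 1 → ∀ x, ψ (av s x) = av s (ψ x) := by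
    intro s k hs x
    have e1 := congrArg (fun β : MulAut (Cfsg.PSU n F q) => β (pu s)) e
    simp only [cU_mk, fU_mk] at e1
    have e2 : cSU h s = fSU ρ s := by
      apply eq_of_pu_eq (p := p) hF (by omega) _ _ k _ _ e1
      · rw [← map_pow, hs, map_one]
      · rw [← map_pow, hs, map_one]
    have e3 : h.1.1 * s.1.1 * (h.1⁻¹).1 = s.1.1.map ρ := by
      rw [← cSU_val, e2, fSU_val]
    have e4 : h.1.1 * s.1.1 = s.1.1.map ρ * h.1.1 := by
      rw [← e3, mul_assoc, mul_assoc, gl_inv_mul, mul_one]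
    rw [hψ]
    change (fun i => τ ((h.1.1 *ᵥ (s.1.1 *ᵥ x)) i)) = s.1.1 *ᵥ (fun i => τ ((h.1.1 *ᵥ x) i))
    rw [mulVec_mulVec, e4, ← mulVec_mulVec, ← map_mulVec_apply τ, Matrix.map_map]
    congr 1
    ext i j
    simp [hτ]
  -- isotropic points are fixed
  have hpt : ∀ u : Fin n → F, u ≠ 0 → hermForm n F q u u = 0 → ∃ b : F, ψ u = b • u := by
    intro u hu0 hu
    obtain ⟨θ, hθ0, hθ⟩ := exists_trace_zero hF
    obtain ⟨u', hu'u, -, -⟩ := exists_herm_partner hF u hu0 hu
    have h1 := hcomm (tv hF u θ hu hθ) 2 (tv_pow (p := p) hF (by omega) u θ hu hθ) u'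
    rw [av_tv, av_tv, hu'u, mul_one, hψadd, hψsmul] at h1
    have h2 : τ θ • ψ u = (θ * hermForm n F q (ψ u') u) • u := add_left_cancel h1
    have hτθ : τ θ ≠ 0 := (map_ne_zero_iff τ τ.injective).mpr hθ0
    refine ⟨(τ θ)⁻¹ * (θ * hermForm n F q (ψ u') u), ?_⟩
    rw [← smul_smul, ← h2, smul_smul, inv_mul_cancel₀ hτθ, one_smul]
  obtain ⟨be, hbe⟩ := hpt P.e P.e_ne P.hee
  obtain ⟨bf, hbf⟩ := hpt P.f P.f_ne P.hff
  -- `ψ e ≠ 0`
  have hbe0 : be ≠ 0 := by
    rintro rfl
    rw [zero_smul, hψ] at hbe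
    have h1 : h.1.1 *ᵥ P.e = 0 := by
      funext i
      have := congrFun hbe i
      exact (map_eq_zero_iff τ τ.injective).mp this
    have h2 := h.2 P.e P.f
    change hermForm n F q (h.1.1 *ᵥ P.e) (h.1.1 *ᵥ P.f) = _ at h2
    rw [h1, herm_zero_left, P.hef] at h2
    exact zero_ne_one h2
  -- the two formulas for `ψ` on the complement
  have hA : ∀ (w : Fin n → F) (b : F), P.W w → b + b ^ q + hermForm n F q w w = 0 →
      ψ w = bf • w + (bf * b - τ b * be) • P.e := by
    intro w b hw hb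
    have h1 := hcomm (sg P hF w b hw hb) 2 (Qv_pow (p := p) hF (by omega) P.e _ (sg_mem P hF w b hw hb))
      P.f
    rw [av_sg_f, hbf, av_smul, av_sg_f, hψadd, hψadd, hψsmul, hbf, hbe] at h1
    have h2 : ψ w = bf • (P.f + w + b • P.e) - bf • P.f - τ b • be • P.e := by
      rw [← h1]
      abel
    rw [h2]
    module
  have hB : ∀ (w : Fin n → F) (b : F), P.W w → b + b ^ q + hermForm n F q w w = 0 →
      ψ w = be • w + (be * b - τ b * bf) • P.f := by
    intro w b hw hb
    have hw' : P.swap.W w := ⟨hw.2, hw.1⟩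
    have h1 := hcomm (sg P.swap hF w b hw' hb) 2
      (Qv_pow (p := p) hF (by omega) P.swap.e _ (sg_mem P.swap hF w b hw' hb)) P.swap.f
    rw [av_sg_f] at h1
    change ψ (P.e + w + b • P.f) = av (sg P.swap hF w b hw' hb) (ψ P.e) at h1
    rw [hbe, av_smul] at h1
    have h3 : av (sg P.swap hF w b hw' hb) P.e = P.e + w + b • P.f := av_sg_f P.swap hF w b hw' hb
    rw [h3, hψadd, hψadd, hψsmul, hbf, hbe] at h1
    have h2 : ψ w = be • (P.e + w + b • P.f) - be • P.e - τ b • bf • P.f := by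
      rw [← h1]
      abel
    rw [h2]
    module
  -- comparison
  have hcmp : ∀ (w : Fin n → F) (b : F), P.W w → b + b ^ q + hermForm n F q w w = 0 →
      (bf * b - τ b * be = 0) ∧ (∀ w', P.W w' → (bf - be) * hermForm n F q w w' = 0) := by
    intro w b hw hb
    have h1 := hA w b hw hb
    have h2 := hB w b hw hb
    have h3 : bf • w + (bf * b - τ b * be) • P.e = be • w + (be * b - τ b * bf) • P.f := by
      rw [← h1, h2]
    constructor
    · have := congrArg (fun v => hermForm n F q v P.f) h3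
      simp only [herm_add_left, herm_smul_left, hw.2, P.hef, P.hff, mul_zero, zero_add, mul_one,
        add_zero] at this
      exact this
    · intro w' hw'
      have hs := P.W_swap hF hw'
      have := congrArg (fun v => hermForm n F q v w') h3
      simp only [herm_add_left, herm_smul_left, hs.1, hs.2, mul_zero, add_zero] at this
      linear_combination this
  -- `bf = be`
  have hbfe : bf = be := by
    obtain ⟨w, w', hw, hw', hww'⟩ := exists_W_pair P hF hn
    obtain ⟨b, hb⟩ := exists_siegel_param hF w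
    have := (hcmp w b hw hb).2 w' hw'
    rw [hww', mul_one] at this
    exact sub_eq_zero.mp this
  -- `τ = id`
  have hτid : ∀ b : F, τ b = b := by
    intro b
    obtain ⟨w, hw, hww⟩ := exists_W_norm P hF hn (-(b + b ^ q))
      (by rw [neg_pow_q hF, add_pow_q hF, pow_q_q hF]; ring)
    have := (hcmp w b hw (by rw [hww]; ring)).1
    rw [hbfe] at this
    have h2 : be * (b - τ b) = 0 := by linear_combination this
    rcases mul_eq_zero.mp h2 with h3 | h3
    · exact absurd h3 hbe0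
    · exact (sub_eq_zero.mp h3).symm
  have hρ1 : ρ = 1 := by
    apply RingEquiv.ext
    intro x
    have := hτid (ρ x)
    rw [hτ, RingEquiv.symm_apply_apply] at this
    exact this.symm
  refine ⟨hρ1, be, ?_⟩
  -- `ψ` is the scalar `be`
  have hψW : ∀ w, P.W w → ψ w = be • w := by
    intro w hw
    obtain ⟨b, hb⟩ := exists_siegel_param hF w
    rw [hA w b hw hb, hbfe, hτid]
    have : be * b - b * be = 0 := by ring
    rw [this, zero_smul, add_zero]
  have hψall : ∀ x, ψ x = be • x := by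
    intro x
    conv_lhs => rw [P.decomp x]
    rw [hψadd, hψadd, hψsmul, hψsmul, hbe, hbf, hbfe, hτid, hτid, hψW _ (P.proj_W x)]
    conv_rhs => rw [P.decomp x]
    module
  apply mat_ext
  intro x
  have h1 := hψall x
  rw [hψ] at h1
  funext i
  have h2 := congrFun h1 i
  simp only [hτid] at h2
  rw [h2, Matrix.smul_mulVec, one_mulVec]

end

end Cfsg.Agent.Lib.Helper6.AutPSU
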