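import Mathlib
import Cfsg.Agent.Lib.Helper6.AutPSU16
import Cfsg.Agent.Lib.Helper16.UnitaryCount4
import Cfsg.Agent.Lib.Helper16.SUCenter
import Cfsg.Agent.Lib.Helper15.Dk27

/-!
# Automorphisms of `PSU_n(q)`, part 17: the order of the automorphism group
-/

set_option autoImplicit false
set_option linter.unusedSectionVars false
set_option linter.unusedVariables false
open Cfsg

namespace Cfsg.Agent.Lib.Helper6.AutPSU

open Matrix Module Cfsg.Agent.Lib.Helper6 Cfsg.Agent.S0779 Cfsg.Agent.S0781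
open Cfsg.Agent.Lib.Helper6.SUG Cfsg.Agent.Lib.Helper6.AutPSL
open scoped Pointwise

section
variable {F : Type*} [Field F] [Fintype F] {q n : ℕ}

/-- `β` is an inner-diagonal automorphism times the field automorphism of `σ` -/
def HasDecU (β : MulAut (Cfsg.PSU n F q)) (σ : RingAut F) : Prop :=
  ∃ g : ↥(Cfsg.GU n F q), β = cU g * fU σ

theorem HasDecU.mul {β β' : MulAut (Cfsg.PSU n F q)} {σ σ' : RingAut F}
    (h : HasDecU β σ) (h' : HasDecU β' σ') : HasDecU (β * β') (σ * σ') := by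
  obtain ⟨g, rfl⟩ := h
  obtain ⟨g', rfl⟩ := h'
  refine ⟨g * sGU σ g', ?_⟩
  rw [map_mul, fU_mul]
  calc cU g * fU σ * (cU g' * fU σ') = cU g * (fU σ * cU g') * fU σ' := by group
    _ = cU g * (cU (sGU σ g') * fU σ) * fU σ' := by rw [rel_fU_cU]
    _ = _ := by group

variable (p : ℕ) [hp : Fact p.Prime] [CharP F p] (hF : Fintype.card F = q ^ 2) (hn : 3 ≤ n)

include hp hF hn in
theorem decomp_unique (g g' : ↥(Cfsg.GU n F q)) (σ σ' : RingAut F)
    (e : (cU g * fU σ : MulAut (Cfsg.PSU n F q)) = cU g' * fU σ') :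
    σ = σ' ∧ ∃ a : F, (g'⁻¹ * g).1.1 = a • (1 : Matrix (Fin n) (Fin n) F) := by
  have h1 : (cU (g'⁻¹ * g) : MulAut (Cfsg.PSU n F q)) = fU (σ' * σ⁻¹) := by
    rw [map_mul, map_inv, fU_mul, fU_inv]
    calc (cU g')⁻¹ * cU g = (cU g')⁻¹ * (cU g * fU σ) * (fU σ)⁻¹ := by group
      _ = (cU g')⁻¹ * (cU g' * fU σ') * (fU σ)⁻¹ := by rw [e]
      _ = _ := by group
  obtain ⟨h2, h3⟩ := cU_eq_fU p hF hn _ _ h1
  refine ⟨?_, h3⟩
  have : σ' = σ := by
    have h4 := congrArg (fun x => x * σ) h2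
    simpa using h4
  exact this.symm

include hp hF hn in
theorem HasDecU.unique {β : MulAut (Cfsg.PSU n F q)} {σ σ' : RingAut F}
    (h : HasDecU β σ) (h' : HasDecU β σ') : σ = σ' := by
  obtain ⟨g, rfl⟩ := h
  obtain ⟨g', e⟩ := h'
  exact (decomp_unique p hF hn g g' σ σ' e).1

/-- the field part of an automorphism -/
noncomputable def psiUFun (β : MulAut (Cfsg.PSU n F q)) : RingAut F := by
  classical
  exact if h : ∃ σ : RingAut F, HasDecU β σ then h.choose else 1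

variable (h32 : ¬ (n = 3 ∧ q = 2))

include hp hF hn h32 in
theorem exists_hasDecU (β : MulAut (Cfsg.PSU n F q)) : ∃ σ : RingAut F, HasDecU β σ := by
  obtain ⟨g, σ, e⟩ := exists_cU_fU p hF hn h32 β
  exact ⟨σ, g, e⟩

include hp hF hn h32 in
theorem psiUFun_eq (β : MulAut (Cfsg.PSU n F q)) (σ : RingAut F) (h : HasDecU β σ) :
    psiUFun β = σ := by
  have hex := exists_hasDecU p hF hn h32 β
  unfold psiUFun
  rw [dif_pos hex]
  exact HasDecU.unique p hF hn hex.choose_spec h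

include hp hF hn h32 in
theorem psiUFun_mul (β β' : MulAut (Cfsg.PSU n F q)) :
    psiUFun (β * β') = psiUFun β * psiUFun β' := by
  obtain ⟨σ, h⟩ := exists_hasDecU p hF hn h32 β
  obtain ⟨σ', h'⟩ := exists_hasDecU p hF hn h32 β'
  rw [psiUFun_eq p hF hn h32 β σ h, psiUFun_eq p hF hn h32 β' σ' h',
    psiUFun_eq p hF hn h32 (β * β') (σ * σ') (h.mul h')]

/-- the homomorphism `Aut(PSU) → Aut(F)` -/
noncomputable def psiU : MulAut (Cfsg.PSU n F q) →* RingAut F :=
  MonoidHom.mk' psiUFun (psiUFun_mul p hF hn h32)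

theorem psiU_apply (β : MulAut (Cfsg.PSU n F q)) : psiU p hF hn h32 β = psiUFun β := rfl

theorem psiU_surjective : Function.Surjective (psiU p hF hn h32) := by
  intro σ
  refine ⟨fU σ, ?_⟩
  rw [psiU_apply, psiUFun_eq p hF hn h32 _ σ ⟨1, by rw [map_one, one_mul]⟩]

theorem psiU_ker : (psiU p hF hn h32).ker =
    (cU : ↥(Cfsg.GU n F q) →* MulAut (Cfsg.PSU n F q)).range := by
  ext β
  rw [MonoidHom.mem_ker, MonoidHom.mem_range, psiU_apply]
  constructor
  · intro h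
    obtain ⟨σ, hd⟩ := exists_hasDecU p hF hn h32 β
    rw [psiUFun_eq p hF hn h32 β σ hd] at h
    subst h
    obtain ⟨g, rfl⟩ := hd
    exact ⟨g, by rw [fU_one, mul_one]⟩
  · rintro ⟨g, rfl⟩
    exact psiUFun_eq p hF hn h32 _ 1 ⟨g, by rw [fU_one, mul_one]⟩

include hF in
/-- the scalar matrix in `GU` attached to a norm-one element -/
theorem exists_scalar_GU (a : F) (ha : a ^ (q + 1) = 1) :
    ∃ g : ↥(Cfsg.GU n F q), g.1.1 = a • (1 : Matrix (Fin n) (Fin n) F) := by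
  obtain ⟨g, hg⟩ := exists_GU_of_pres hF (Matrix.diagonal fun _ => a)
    (diag_pres (fun _ => a) (fun _ => ha))
  refine ⟨g, ?_⟩
  rw [hg]
  ext i j
  simp [Matrix.diagonal_apply, Matrix.one_apply]

include hF hn in
theorem scalar_norm (g : ↥(Cfsg.GU n F q)) (a : F)
    (hg : g.1.1 = a • (1 : Matrix (Fin n) (Fin n) F)) : a ^ (q + 1) = 1 := by
  obtain ⟨P⟩ := exists_hpair hF (show 2 ≤ n by omega)
  have h1 := g.2 P.e P.f
  change hermForm n F q (g.1.1 *ᵥ P.e) (g.1.1 *ᵥ P.f) = _ at h1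
  rw [hg, Matrix.smul_mulVec, Matrix.smul_mulVec, one_mulVec, one_mulVec, herm_smul_left,
    herm_smul_right, P.hef, mul_one] at h1
  rw [pow_succ, mul_comm]
  exact h1

include hp hF hn in
theorem card_ker_cU :
    Nat.card (cU : ↥(Cfsg.GU n F q) →* MulAut (Cfsg.PSU n F q)).ker = q + 1 := by
  classical
  have h1 : Nat.card {x : F // x ^ (q + 1) = 1} = q + 1 := by
    rw [Cfsg.Agent.Lib.Helper16.card_pow_fiber hF 1 (one_pow q), if_neg one_ne_zero]
  rw [← h1]
  symm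
  have hn1 : 0 < n := by omega
  let f : {x : F // x ^ (q + 1) = 1} →
      (cU : ↥(Cfsg.GU n F q) →* MulAut (Cfsg.PSU n F q)).ker := fun a =>
    ⟨(exists_scalar_GU hF a.1 a.2).choose, by
      rw [MonoidHom.mem_ker]
      exact cU_scalar _ a.1 (exists_scalar_GU hF a.1 a.2).choose_spec⟩
  have hf : ∀ a, (f a).1.1.1 = a.1 • (1 : Matrix (Fin n) (Fin n) F) := fun a =>
    (exists_scalar_GU hF a.1 a.2).choose_spec
  apply Nat.card_eq_of_bijective f
  constructor
  · intro a a' h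
    apply Subtype.ext
    have h2 : (f a).1.1.1 = (f a').1.1.1 := by rw [h]
    rw [hf, hf] at h2
    have h3 := congrFun (congrFun h2 ⟨0, hn1⟩) ⟨0, hn1⟩
    simpa using h3
  · intro g
    have h2 : (cU g.1 : MulAut (Cfsg.PSU n F q)) = fU 1 := by
      rw [fU_one]
      exact g.2
    obtain ⟨-, a, ha⟩ := cU_eq_fU p hF hn g.1 1 h2
    refine ⟨⟨a, scalar_norm hF hn g.1 a ha⟩, ?_⟩
    apply Subtype.ext
    apply Subtype.ext
    apply Units.ext
    rw [hf, ha]

include hp hF hn h32 in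
/-- **the order of `Aut(PSU_n(q))`** -/
theorem card_aut {f : ℕ} (hf : 1 ≤ f) (hq : q = p ^ f) :
    Nat.card (MulAut (Cfsg.PSU n F q)) =
      Nat.gcd n (q + 1) * (2 * f) * Nat.card (Cfsg.PSU n F q) := by
  have hF' : Fintype.card F = p ^ (2 * f) := by rw [hF, hq, ← pow_mul, mul_comm]
  have hRA : Nat.card (RingAut F) = 2 * f := by
    obtain ⟨e⟩ := Cfsg.Agent.Lib.Helper15.Dk.exists_ringAut_mulEquiv (F := F) p (2 * f) hF'
    rw [Nat.card_congr e.toEquiv]
    have : NeZero (2 * f) := ⟨by omega⟩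
    change Nat.card (ZMod (2 * f)) = 2 * f
    rw [Nat.card_eq_fintype_card, ZMod.card]
  have h1 := Subgroup.card_mul_index (psiU p hF hn h32).ker
  rw [Subgroup.index_ker, MonoidHom.range_eq_top.mpr (psiU_surjective p hF hn h32),
    Subgroup.card_top, hRA, psiU_ker] at h1
  have h2 := Subgroup.card_mul_index (cU : ↥(Cfsg.GU n F q) →* MulAut (Cfsg.PSU n F q)).ker
  rw [Subgroup.index_ker, card_ker_cU p hF hn] at h2
  have h3 := Cfsg.Agent.Lib.Helper16.card_SU_mul hF n (by omega)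
  have h4 := Subgroup.card_eq_card_quotient_mul_card_subgroup (Subgroup.center (Cfsg.SU n F q))
  rw [Cfsg.Agent.Lib.Helper16.card_center_SU hF (by omega)] at h4
  have h5 : Nat.card (cU : ↥(Cfsg.GU n F q) →* MulAut (Cfsg.PSU n F q)).range =
      Nat.card ↥(Cfsg.SU n F q) := by
    have : (q + 1) * Nat.card (cU : ↥(Cfsg.GU n F q) →* MulAut (Cfsg.PSU n F q)).range =
        (q + 1) * Nat.card ↥(Cfsg.SU n F q) := by rw [h2, h3]
    exact Nat.eq_of_mul_eq_mul_left (by omega) this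
  rw [← h1, h5, h4]
  ring

end

end Cfsg.Agent.Lib.Helper6.AutPSU
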