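import Mathlib
import Cfsg.Agent.Lib.Helper6.AutPSU17

/-!
# Automorphisms of `PSU_n(q)`, part 18: the outer automorphism group
-/

set_option autoImplicit false
set_option linter.unusedSectionVars false
set_option linter.unusedVariables false
open Cfsg

namespace Cfsg.Agent.Lib.Helper6.AutPSU

open Matrix Module Cfsg.Agent.Lib.Helper6 Cfsg.Agent.S0779 Cfsg.Agent.S0781
open Cfsg.Agent.Lib.Helper6.SUG Cfsg.Agent.Lib.Helper6.AutPSL Cfsg.Agent.Lib.Helper16
open scoped Pointwise

section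
variable {F : Type*} [Field F] [Fintype F] {q n : ℕ}

/-- the group of norm-one elements -/
def N1 (F : Type*) [Field F] (q : ℕ) : Subgroup Fˣ := (powMonoidHom (q + 1) : Fˣ →* Fˣ).ker

theorem mem_N1 (u : Fˣ) : u ∈ N1 F q ↔ u ^ (q + 1) = 1 := MonoidHom.mem_ker

variable (hF : Fintype.card F = q ^ 2)

include hF in
theorem card_N1 : Nat.card (N1 F q) = q + 1 := by
  classical
  have h1 : Nat.card {x : F // x ^ (q + 1) = 1} = q + 1 := by
    rw [card_pow_fiber hF 1 (one_pow q), if_neg one_ne_zero]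
  rw [← h1]
  let f : N1 F q → {x : F // x ^ (q + 1) = 1} := fun u =>
    ⟨(u.1 : F), by
      have := (mem_N1 u.1).mp u.2
      rw [← Units.val_pow_eq_pow_val, this, Units.val_one]⟩
  apply Nat.card_eq_of_bijective f
  constructor
  · intro u u' h
    apply Subtype.ext
    apply Units.ext
    exact congrArg Subtype.val h
  · intro x
    have hx0 : x.1 ≠ 0 := by
      intro h
      have := x.2
      rw [h, zero_pow (by omega)] at this
      exact zero_ne_one this
    refine ⟨⟨Units.mk0 x.1 hx0, ?_⟩, ?_⟩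
    · rw [mem_N1]
      apply Units.ext
      rw [Units.val_pow_eq_pow_val, Units.val_mk0, x.2, Units.val_one]
    · apply Subtype.ext
      rfl

include hF in
theorem guDet_mem_N1 (g : ↥(Cfsg.GU n F q)) : guDet n g ∈ N1 F q := by
  rw [mem_N1]
  apply Units.ext
  rw [Units.val_pow_eq_pow_val, guDet_val, Units.val_one]
  exact det_norm_of_pres hF _ (GU_pres g)

/-- the determinant on `GU` with values in the norm-one group -/
noncomputable def guDet1 : ↥(Cfsg.GU n F q) →* N1 F q :=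
  (guDet n).codRestrict (N1 F q) (guDet_mem_N1 hF)

theorem guDet1_val (g : ↥(Cfsg.GU n F q)) : (((guDet1 hF g : N1 F q) : Fˣ) : F) = g.1.1.det := rfl

theorem guDet1_surjective (hn : 1 ≤ n) : Function.Surjective (guDet1 (n := n) hF) := by
  classical
  intro u
  have hu : (u.1 : F) ^ (q + 1) = 1 := by
    have := (mem_N1 u.1).mp u.2
    rw [← Units.val_pow_eq_pow_val, this, Units.val_one]
  let d : Fin n → F := Function.update (fun _ => (1 : F)) ⟨0, hn⟩ (u.1 : F)
  have hd : ∀ i, d i ^ (q + 1) = 1 := by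
    intro i
    by_cases hi : i = ⟨0, hn⟩
    · subst hi; simp only [d, Function.update_self]; exact hu
    · simp only [d, Function.update_of_ne hi, one_pow]
  obtain ⟨g, hg⟩ := exists_GU_of_pres hF (Matrix.diagonal d) (diag_pres d hd)
  refine ⟨g, ?_⟩
  apply Subtype.ext
  apply Units.ext
  rw [guDet1_val, hg, Matrix.det_diagonal, Finset.prod_eq_single (⟨0, hn⟩ : Fin n)]
  · simp only [d, Function.update_self]
  · intro i _ hi
    simp only [d, Function.update_of_ne hi]
  · intro h; exact absurd (Finset.mem_univ _) h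

/-- `GU → N1 / (N1)ⁿ` -/
noncomputable def deltaU (n : ℕ) :
    ↥(Cfsg.GU n F q) →* N1 F q ⧸ (powMonoidHom n : N1 F q →* N1 F q).range :=
  (QuotientGroup.mk' _).comp (guDet1 hF)

theorem deltaU_surjective (hn : 1 ≤ n) : Function.Surjective (deltaU hF n) :=
  (QuotientGroup.mk'_surjective _).comp (guDet1_surjective hF hn)

/-- `GU → Out(PSU)` -/
noncomputable def rhoU (n : ℕ) (F : Type*) [Field F] [Fintype F] (q : ℕ) :
    ↥(Cfsg.GU n F q) →* Cfsg.Out (Cfsg.PSU n F q) :=
  (QuotientGroup.mk' (Cfsg.Inn (Cfsg.PSU n F q))).comp cU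

variable (p : ℕ) [hp : Fact p.Prime] [CharP F p] (hn : 3 ≤ n)

include hp hn in
theorem rhoU_ker : (rhoU n F q).ker = (deltaU hF n).ker := by
  ext g
  rw [MonoidHom.mem_ker, MonoidHom.mem_ker]
  unfold rhoU deltaU
  rw [MonoidHom.comp_apply, MonoidHom.comp_apply, QuotientGroup.mk'_apply, QuotientGroup.mk'_apply,
    QuotientGroup.eq_one_iff, QuotientGroup.eq_one_iff]
  constructor
  · rintro ⟨x, hx⟩
    obtain ⟨s, rfl⟩ := pu_surjective x
    rw [← cU_suGU] at hx
    have h1 : (cU ((suGU s)⁻¹ * g) : MulAut (Cfsg.PSU n F q)) = fU 1 := by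
      rw [map_mul, map_inv, hx, inv_mul_cancel, fU_one]
    obtain ⟨-, a, ha⟩ := cU_eq_fU p hF hn _ _ h1
    have ha1 := scalar_norm hF hn _ a ha
    have ha0 : a ≠ 0 := by
      rintro rfl
      rw [zero_pow (by omega)] at ha1
      exact zero_ne_one ha1
    have hmem : Units.mk0 a ha0 ∈ N1 F q := by
      rw [mem_N1]
      apply Units.ext
      rw [Units.val_pow_eq_pow_val, Units.val_mk0, ha1, Units.val_one]
    refine ⟨⟨Units.mk0 a ha0, hmem⟩, ?_⟩
    apply Subtype.ext
    apply Units.ext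
    change (Units.mk0 a ha0 : Fˣ).1 ^ n = g.1.1.det
    rw [Units.val_mk0]
    have hg : g = suGU s * ((suGU s)⁻¹ * g) := by group
    have hdet : g.1.1.det = (suGU s).1.1.det * ((suGU s)⁻¹ * g).1.1.det := by
      conv_lhs => rw [hg]
      change ((suGU s).1.1 * ((suGU s)⁻¹ * g).1.1).det = _
      rw [Matrix.det_mul]
    rw [hdet, ha, suGU_val, Matrix.det_smul, Matrix.det_one, Fintype.card_fin, mul_one]
    have : s.1.1.det = 1 := s.1.2
    rw [this, one_mul]
  · rintro ⟨c, hc⟩
    have hc1 : ((c.1 : Fˣ) : F) ^ (q + 1) = 1 := by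
      have := (mem_N1 c.1).mp c.2
      rw [← Units.val_pow_eq_pow_val, this, Units.val_one]
    obtain ⟨z, hz⟩ := exists_scalar_GU (n := n) hF ((c.1 : Fˣ) : F) hc1
    have hcz : (cU z : MulAut (Cfsg.PSU n F q)) = 1 := cU_scalar z _ hz
    have hcdet : ((c.1 : Fˣ) : F) ^ n = g.1.1.det := by
      have := congrArg (fun u : N1 F q => ((u.1 : Fˣ) : F)) hc
      simp only [powMonoidHom_apply, Subgroup.coe_pow, Units.val_pow_eq_pow_val] at this
      rw [this]
      rfl
    have hdet : (g * z⁻¹).1.1.det = 1 := by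
      have h1 : (g * z⁻¹).1.1 * z.1.1 = g.1.1 := by
        change ((g * z⁻¹) * z).1.1 = g.1.1
        rw [inv_mul_cancel_right]
      have h2 := congrArg Matrix.det h1
      rw [Matrix.det_mul, hz, Matrix.det_smul, Matrix.det_one, Fintype.card_fin, mul_one,
        hcdet] at h2
      have hg0 : g.1.1.det ≠ 0 := by
        rw [← hcdet]
        exact pow_ne_zero _ (c.1 : Fˣ).ne_zero
      exact mul_right_cancel₀ hg0 (by rw [h2, one_mul])
    let s : ↥(Cfsg.SU n F q) := ⟨⟨(g * z⁻¹).1.1, hdet⟩, fun u v => (g * z⁻¹).2 u v⟩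
    have hs : suGU s = g * z⁻¹ := by
      apply Subtype.ext
      apply Units.ext
      rfl
    refine ⟨pu s, ?_⟩
    rw [← cU_suGU, hs, map_mul, map_inv, hcz, inv_one, mul_one]

variable (h32 : ¬ (n = 3 ∧ q = 2))

include hp hF hn h32 in
/-- **the outer automorphism group of `PSU_n(q)`** -/
theorem out_psu {f : ℕ} (hf : 1 ≤ f) (hq : q = p ^ f) :
    ∃ φ : Cfsg.Out (Cfsg.PSU n F q) →* Multiplicative (ZMod (2 * f)),
      Function.Surjective φ ∧ IsCyclic φ.ker ∧ Nat.card φ.ker = Nat.gcd n (q + 1) := by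
  have hF' : Fintype.card F = p ^ (2 * f) := by rw [hF, hq, ← pow_mul, mul_comm]
  obtain ⟨e⟩ := Cfsg.Agent.Lib.Helper15.Dk.exists_ringAut_mulEquiv (F := F) p (2 * f) hF'
  let ψ' : MulAut (Cfsg.PSU n F q) →* Multiplicative (ZMod (2 * f)) :=
    e.toMonoidHom.comp (psiU p hF hn h32)
  have hψ'ker : ψ'.ker = (psiU p hF hn h32).ker := by
    ext β
    rw [MonoidHom.mem_ker, MonoidHom.mem_ker]
    change e (psiU p hF hn h32 β) = 1 ↔ _
    rw [MulEquiv.map_eq_one_iff]
  have hInn : Cfsg.Inn (Cfsg.PSU n F q) ≤ ψ'.ker := by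
    rintro β ⟨x, rfl⟩
    obtain ⟨s, rfl⟩ := pu_surjective x
    rw [hψ'ker, psiU_ker, ← cU_suGU]
    exact ⟨_, rfl⟩
  let φ : Cfsg.Out (Cfsg.PSU n F q) →* Multiplicative (ZMod (2 * f)) :=
    QuotientGroup.lift _ ψ' hInn
  have hφmk : ∀ β, φ (QuotientGroup.mk β) = ψ' β := fun β => rfl
  have hker : φ.ker = (rhoU n F q).range := by
    ext x
    obtain ⟨β, rfl⟩ := QuotientGroup.mk_surjective x
    rw [MonoidHom.mem_ker, hφmk, ← MonoidHom.mem_ker, hψ'ker, psiU_ker]
    constructor
    · rintro ⟨g, rfl⟩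
      exact ⟨g, rfl⟩
    · rintro ⟨g, hg⟩
      change (QuotientGroup.mk (cU g) : Cfsg.Out _) = QuotientGroup.mk β at hg
      rw [QuotientGroup.eq] at hg
      obtain ⟨x, hx⟩ := hg
      obtain ⟨s, rfl⟩ := pu_surjective x
      rw [← cU_suGU] at hx
      refine ⟨g * suGU s, ?_⟩
      rw [map_mul, hx, mul_inv_cancel_left]
  have hsurj : Function.Surjective φ := by
    intro y
    obtain ⟨z, hz⟩ := e.surjective y
    obtain ⟨β, hβ⟩ := psiU_surjective p hF hn h32 z
    refine ⟨QuotientGroup.mk β, ?_⟩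
    rw [hφmk]
    change e (psiU p hF hn h32 β) = y
    rw [hβ, hz]
  let iso : (N1 F q ⧸ (powMonoidHom n : N1 F q →* N1 F q).range) ≃* (rhoU n F q).range :=
    ((QuotientGroup.quotientKerEquivOfSurjective (deltaU hF n)
      (deltaU_surjective hF (by omega))).symm.trans
      (QuotientGroup.quotientMulEquivOfEq (rhoU_ker hF p hn).symm)).trans
      (QuotientGroup.quotientKerEquivRange (rhoU n F q))
  have hcycN : IsCyclic (N1 F q) := inferInstance
  have hcyc0 : IsCyclic (N1 F q ⧸ (powMonoidHom n : N1 F q →* N1 F q).range) :=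
    isCyclic_of_surjective (QuotientGroup.mk' _) (QuotientGroup.mk'_surjective _)
  refine ⟨φ, hsurj, ?_, ?_⟩
  · rw [hker]
    exact isCyclic_of_surjective iso.toMonoidHom iso.surjective
  · rw [hker, ← Nat.card_congr iso.toEquiv]
    change (powMonoidHom n : N1 F q →* N1 F q).range.index = _
    rw [IsCyclic.index_powMonoidHom_range, card_N1 hF, Nat.gcd_comm]

end

end Cfsg.Agent.Lib.Helper6.AutPSU
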