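import Mathlib
import Cfsg.Prelude.Def_RootSubgroups
import Cfsg.Agent.S0768
import Cfsg.Agent.H26.SL2RankOne

/-!
# The symplectic transvection subgroups as a class of abstract root subgroups
-/

set_option autoImplicit false
open Cfsg

namespace Cfsg.Agent.Lib.Helper6.SympRoot

open Matrix Cfsg.Agent.Lib.Helper6 Cfsg.Agent.H26

variable {m : ℕ} {F : Type*} [Field F]

local notation "Mat" => Matrix (Fin m ⊕ Fin m) (Fin m ⊕ Fin m) F

/-- the transvection `x ↦ x + c f(x,p) p` as an element of the symplectic group -/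
def tv (p : Fin m ⊕ Fin m → F) (c : F) : ↥(Matrix.symplecticGroup (Fin m) F) :=
  ⟨Cfsg.sympTransvection m p c, sympTransvection_mem p c⟩

/-- the transvection subgroup with centre `p` -/
def Tp (p : Fin m ⊕ Fin m → F) : Subgroup ↥(Matrix.symplecticGroup (Fin m) F) :=
  Subgroup.closure {g : ↥(Matrix.symplecticGroup (Fin m) F) | ∃ c : F, ∀ v : Fin m ⊕ Fin m → F,
    (g : Mat) *ᵥ v = v + (c * (v ⬝ᵥ (Matrix.J (Fin m) F *ᵥ p))) • p}

/-- the class of transvection subgroups -/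
def Sig (m : ℕ) (F : Type*) [Field F] : Set (Subgroup ↥(Matrix.symplecticGroup (Fin m) F)) :=
  {A | ∃ p : Fin m ⊕ Fin m → F, p ≠ 0 ∧ A = Tp p}

theorem tv_apply (p : Fin m ⊕ Fin m → F) (c : F) (x : Fin m ⊕ Fin m → F) :
    ((tv p c : ↥(Matrix.symplecticGroup (Fin m) F)) : Mat) *ᵥ x =
      x + (c * Cfsg.sympForm m F x p) • p :=
  sympTransvection_mulVec p c x

theorem sp_ext {g h : ↥(Matrix.symplecticGroup (Fin m) F)}
    (hgh : ∀ x : Fin m ⊕ Fin m → F, (g : Mat) *ᵥ x = (h : Mat) *ᵥ x) : g = h := by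
  apply Subtype.ext
  exact matrix_ext_mulVec hgh

theorem mul_apply (g h : ↥(Matrix.symplecticGroup (Fin m) F)) (x : Fin m ⊕ Fin m → F) :
    ((g * h : ↥(Matrix.symplecticGroup (Fin m) F)) : Mat) *ᵥ x = (g : Mat) *ᵥ ((h : Mat) *ᵥ x) :=
  Cfsg.Agent.S0765.mul_mulVec' g h x

theorem one_apply (x : Fin m ⊕ Fin m → F) :
    ((1 : ↥(Matrix.symplecticGroup (Fin m) F)) : Mat) *ᵥ x = x := by
  change (1 : Mat) *ᵥ x = x
  exact Matrix.one_mulVec x

theorem inv_apply (g : ↥(Matrix.symplecticGroup (Fin m) F)) (x : Fin m ⊕ Fin m → F) :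
    (g : Mat) *ᵥ ((g⁻¹ : ↥(Matrix.symplecticGroup (Fin m) F)) : Mat) *ᵥ x = x := by
  rw [← mul_apply, mul_inv_cancel, one_apply]

theorem inv_apply' (g : ↥(Matrix.symplecticGroup (Fin m) F)) (x : Fin m ⊕ Fin m → F) :
    ((g⁻¹ : ↥(Matrix.symplecticGroup (Fin m) F)) : Mat) *ᵥ ((g : Mat) *ᵥ x) = x := by
  rw [← mul_apply, inv_mul_cancel, one_apply]

theorem pres (g : ↥(Matrix.symplecticGroup (Fin m) F)) (x y : Fin m ⊕ Fin m → F) :
    Cfsg.sympForm m F ((g : Mat) *ᵥ x) ((g : Mat) *ᵥ y) = Cfsg.sympForm m F x y :=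
  Cfsg.Agent.S0765.preserves g x y

theorem tv_mul (p : Fin m ⊕ Fin m → F) (c d : F) : tv p c * tv p d = tv p (c + d) := by
  apply Subtype.ext
  exact sympTransvection_mul p c d

theorem tv_zero (p : Fin m ⊕ Fin m → F) : tv p 0 = 1 := by
  apply sp_ext
  intro x
  rw [tv_apply, one_apply, zero_mul, zero_smul, add_zero]

theorem tv_inv (p : Fin m ⊕ Fin m → F) (c : F) : (tv p c)⁻¹ = tv p (-c) := by
  apply inv_eq_of_mul_eq_one_left
  rw [tv_mul, neg_add_cancel, tv_zero]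

theorem mem_Tp_iff (p : Fin m ⊕ Fin m → F) (g : ↥(Matrix.symplecticGroup (Fin m) F)) :
    g ∈ Tp p ↔ ∃ c : F, g = tv p c := by
  constructor
  · intro hg
    unfold Tp at hg
    induction hg using Subgroup.closure_induction with
    | mem x hx =>
      obtain ⟨c, hc⟩ := hx
      refine ⟨c, sp_ext fun v => ?_⟩
      rw [hc v, tv_apply]
      rfl
    | one => exact ⟨0, (tv_zero p).symm⟩
    | mul a b _ _ iha ihb =>
      obtain ⟨c, rfl⟩ := iha
      obtain ⟨d, rfl⟩ := ihb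
      exact ⟨c + d, tv_mul p c d⟩
    | inv a _ iha =>
      obtain ⟨c, rfl⟩ := iha
      exact ⟨-c, tv_inv p c⟩
  · rintro ⟨c, rfl⟩
    apply Subgroup.subset_closure
    refine ⟨c, fun v => ?_⟩
    rw [tv_apply]
    rfl

theorem tv_mem (p : Fin m ⊕ Fin m → F) (c : F) : tv p c ∈ Tp p := (mem_Tp_iff p _).mpr ⟨c, rfl⟩

theorem tv_eq_one_iff (p : Fin m ⊕ Fin m → F) (hp : p ≠ 0) (c : F) : tv p c = 1 ↔ c = 0 := by
  constructor
  · intro h
    obtain ⟨a, ha⟩ := Cfsg.Agent.S0768.nondeg p hp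
    have h1 : ((tv p c : ↥(Matrix.symplecticGroup (Fin m) F)) : Mat) *ᵥ a =
        ((1 : ↥(Matrix.symplecticGroup (Fin m) F)) : Mat) *ᵥ a := by rw [h]
    rw [tv_apply, one_apply, sympForm_swap, ha] at h1
    have h2 : (c * -1) • p = 0 := by
      have := congrArg (fun y => y - a) h1
      simpa using this
    rcases smul_eq_zero.mp h2 with h3 | h3
    · simpa using h3
    · exact absurd h3 hp
  · rintro rfl
    exact tv_zero p

theorem tv_injective (p : Fin m ⊕ Fin m → F) (hp : p ≠ 0) (c d : F) (h : tv p c = tv p d) :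
    c = d := by
  have h1 : tv p (c - d) = 1 := by
    rw [sub_eq_add_neg, ← tv_mul, ← tv_inv, h, mul_inv_cancel]
  exact sub_eq_zero.mp ((tv_eq_one_iff p hp _).mp h1)

theorem conj_tv (g : ↥(Matrix.symplecticGroup (Fin m) F)) (p : Fin m ⊕ Fin m → F) (c : F) :
    g * tv p c * g⁻¹ = tv ((g : Mat) *ᵥ p) c := by
  apply sp_ext
  intro x
  rw [mul_apply, mul_apply, tv_apply, tv_apply, Matrix.mulVec_add, inv_apply, Matrix.mulVec_smul]
  congr 3
  have h := pres g (((g⁻¹ : ↥(Matrix.symplecticGroup (Fin m) F)) : Mat) *ᵥ x) p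
  rw [inv_apply] at h
  exact h.symm

theorem conjBy_Tp (g : ↥(Matrix.symplecticGroup (Fin m) F)) (p : Fin m ⊕ Fin m → F) :
    conjBy (Tp p) g = Tp ((g : Mat) *ᵥ p) := by
  ext x
  rw [mem_conjBy, mem_Tp_iff, mem_Tp_iff]
  constructor
  · rintro ⟨c, hc⟩
    refine ⟨c, ?_⟩
    rw [← conj_tv, ← hc]
    group
  · rintro ⟨c, rfl⟩
    refine ⟨c, ?_⟩
    rw [← conj_tv]
    group

theorem tv_smul (a : F) (p : Fin m ⊕ Fin m → F) (c : F) : tv (a • p) c = tv p (a * a * c) := by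
  apply sp_ext
  intro x
  rw [tv_apply, tv_apply, sympForm_smul_right, smul_smul]
  congr 2
  ring

theorem Tp_smul (a : F) (ha : a ≠ 0) (p : Fin m ⊕ Fin m → F) : Tp (a • p) = Tp p := by
  ext x
  rw [mem_Tp_iff, mem_Tp_iff]
  constructor
  · rintro ⟨c, rfl⟩
    exact ⟨a * a * c, tv_smul a p c⟩
  · rintro ⟨c, rfl⟩
    refine ⟨c / (a * a), ?_⟩
    rw [tv_smul]
    congr 1
    field_simp

theorem Tp_comm (p : Fin m ⊕ Fin m → F) : IsMulCommutative (Tp p) := by
  refine ⟨⟨fun a b => ?_⟩⟩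
  apply Subtype.ext
  obtain ⟨c, hc⟩ := (mem_Tp_iff p _).mp a.2
  obtain ⟨d, hd⟩ := (mem_Tp_iff p _).mp b.2
  change (a : ↥(Matrix.symplecticGroup (Fin m) F)) * b = b * a
  rw [hc, hd, tv_mul, tv_mul, add_comm]

theorem Tp_ne_bot (p : Fin m ⊕ Fin m → F) (hp : p ≠ 0) : Tp p ≠ ⊥ := by
  intro h
  have h1 : tv p 1 ∈ Tp p := tv_mem p 1
  rw [h, Subgroup.mem_bot, tv_eq_one_iff p hp] at h1
  exact one_ne_zero h1

theorem tv_comm_of_orth (p r : Fin m ⊕ Fin m → F) (h : Cfsg.sympForm m F p r = 0) (c d : F) :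
    tv p c * tv r d = tv r d * tv p c := by
  have h' : Cfsg.sympForm m F r p = 0 := by rw [sympForm_swap, h, neg_zero]
  apply sp_ext
  intro x
  rw [mul_apply, mul_apply, tv_apply, tv_apply, tv_apply, tv_apply, sympForm_add_left,
    sympForm_add_left, sympForm_smul_left, sympForm_smul_left, h, h']
  simp only [mul_zero, add_zero]
  abel

theorem commutator_eq_bot_of_orth (p r : Fin m ⊕ Fin m → F) (h : Cfsg.sympForm m F p r = 0) :
    ⁅Tp p, Tp r⁆ = ⊥ := by
  rw [Subgroup.commutator_eq_bot_iff_le_centralizer]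
  intro x hx
  rw [Subgroup.mem_centralizer_iff]
  intro y hy
  obtain ⟨c, rfl⟩ := (mem_Tp_iff p _).mp hx
  obtain ⟨d, rfl⟩ := (mem_Tp_iff r _).mp hy
  exact (tv_comm_of_orth p r h c d).symm


theorem Tp_ne_of_form (p r : Fin m ⊕ Fin m → F) (h : Cfsg.sympForm m F p r ≠ 0) : Tp p ≠ Tp r := by
  intro heq
  have h1 : tv p 1 ∈ Tp r := heq ▸ tv_mem p 1
  obtain ⟨d, hd⟩ := (mem_Tp_iff r _).mp h1
  have h2 : ((tv p 1 : ↥(Matrix.symplecticGroup (Fin m) F)) : Mat) *ᵥ r =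
      ((tv r d : ↥(Matrix.symplecticGroup (Fin m) F)) : Mat) *ᵥ r := by rw [hd]
  rw [tv_apply, tv_apply, sympForm_self, mul_zero, zero_smul, add_zero, one_mul] at h2
  have h3 : Cfsg.sympForm m F r p • p = 0 := by
    have := congrArg (fun y => y - r) h2
    simpa using this
  have hp : p ≠ 0 := Cfsg.Agent.S0768.ne_zero_of_form_left h
  rcases smul_eq_zero.mp h3 with h4 | h4
  · apply h
    rw [sympForm_swap, h4, neg_zero]
  · exact hp h4

theorem rankOneCond (p r : Fin m ⊕ Fin m → F) (h : Cfsg.sympForm m F p r ≠ 0) :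
    RankOneCondition (Tp p) (Tp r) := by
  intro a ha ha1
  obtain ⟨c, rfl⟩ := (mem_Tp_iff p _).mp ha
  have hp : p ≠ 0 := Cfsg.Agent.S0768.ne_zero_of_form_left h
  have hr : r ≠ 0 := Cfsg.Agent.S0768.ne_zero_of_form_right h
  have hc : c ≠ 0 := fun hc => ha1 ((tv_eq_one_iff p hp c).mpr hc)
  set e := Cfsg.sympForm m F p r with he
  have he' : Cfsg.sympForm m F r p = -e := by rw [sympForm_swap]
  have hd : -(c * e * e)⁻¹ ≠ 0 := neg_ne_zero.mpr (inv_ne_zero (mul_ne_zero (mul_ne_zero hc h) h))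
  refine ⟨tv r (-(c * e * e)⁻¹), tv_mem _ _, ?_, ?_⟩
  · intro h1
    exact hd ((tv_eq_one_iff r hr _).mp h1)
  · rw [conjBy_Tp, conjBy_Tp, tv_inv, tv_inv, tv_apply, tv_apply, ← he, he']
    have hce : c * e ≠ 0 := mul_ne_zero hc h
    rw [← Tp_smul (c * e)⁻¹ (inv_ne_zero hce) (r + (-c * -e) • p)]
    congr 1
    rw [smul_add, smul_smul, show (c * e)⁻¹ * (-c * -e) = 1 by field_simp, one_smul, add_comm]
    congr 2
    field_simp

theorem rankOnePair (p r : Fin m ⊕ Fin m → F) (h : Cfsg.sympForm m F p r ≠ 0) :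
    IsRankOnePair (Tp p) (Tp r) := by
  have h' : Cfsg.sympForm m F r p ≠ 0 := by
    rw [sympForm_swap]
    exact neg_ne_zero.mpr h
  refine ⟨Tp_ne_of_form p r h, ?_, ?_, rankOneCond p r h, rankOneCond r p h'⟩
  · exact ⟨⟨1, Subgroup.upperCentralSeries_one_eq_top_iff.mpr (Tp_comm p)⟩⟩
  · exact ⟨⟨1, Subgroup.upperCentralSeries_one_eq_top_iff.mpr (Tp_comm r)⟩⟩


theorem apply_ne_zero (g : ↥(Matrix.symplecticGroup (Fin m) F)) (p : Fin m ⊕ Fin m → F) (hp : p ≠ 0) :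
    (g : Mat) *ᵥ p ≠ 0 := by
  intro h
  apply hp
  rw [← inv_apply' g p, h, Matrix.mulVec_zero]

theorem Tp_mem_Sig (p : Fin m ⊕ Fin m → F) (hp : p ≠ 0) : Tp p ∈ Sig m F := ⟨p, hp, rfl⟩

theorem form_ne_of_not_comm (p r : Fin m ⊕ Fin m → F) : Cfsg.sympForm m F p r = 0 ∨
    Cfsg.sympForm m F p r ≠ 0 := em _

theorem Sig_generates : (⨆ A ∈ Sig m F, A) = ⊤ := by
  rw [eq_top_iff, ← Cfsg.Agent.S0765.result m, Subgroup.closure_le]
  rintro g ⟨w, c, hg⟩
  have hg' : g = tv w c := Subtype.ext hg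
  by_cases hw : w = 0
  · have : g = 1 := by
      rw [hg']
      apply sp_ext
      intro x
      rw [tv_apply, one_apply, hw, smul_zero, add_zero]
    rw [this]
    exact Subgroup.one_mem _
  · have h1 : Tp w ≤ ⨆ A ∈ Sig m F, A := le_biSup (fun A => A) (Tp_mem_Sig w hw)
    apply h1
    rw [hg']
    exact tv_mem w c

theorem Sig_rootSet : IsRootSubgroupSet (Sig m F) where
  commutative := by
    rintro A ⟨p, hp, rfl⟩
    exact Tp_comm p
  ne_bot := by
    rintro A ⟨p, hp, rfl⟩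
    exact Tp_ne_bot p hp
  generates := Sig_generates
  conj_mem := by
    rintro A ⟨p, hp, rfl⟩ g
    rw [conjBy_Tp]
    exact Tp_mem_Sig _ (apply_ne_zero g p hp)
  pair := by
    rintro A ⟨p, hp, rfl⟩ B ⟨r, hr, rfl⟩
    by_cases h : Cfsg.sympForm m F p r = 0
    · exact Or.inl (commutator_eq_bot_of_orth p r h)
    · exact Or.inr (Or.inl (rankOnePair p r h))

theorem exists_map (p r : Fin m ⊕ Fin m → F) (hp : p ≠ 0) (hr : r ≠ 0) :
    ∃ g : ↥(Matrix.symplecticGroup (Fin m) F), (g : Mat) *ᵥ p = r := by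
  obtain ⟨a, ha⟩ := Cfsg.Agent.S0768.nondeg p hp
  obtain ⟨b, hb⟩ := Cfsg.Agent.S0768.nondeg r hr
  obtain ⟨g, _, hg, _⟩ := Cfsg.Agent.S0766.result m p a r b ha hb
  exact ⟨g, hg⟩

theorem Sig_conjClass (hm : 0 < m) : IsConjClassOfSubgroups (Sig m F) := by
  classical
  constructor
  · refine ⟨Tp (Pi.single (Sum.inl ⟨0, hm⟩) 1), Tp_mem_Sig _ ?_⟩
    intro h
    have := congrFun h (Sum.inl ⟨0, hm⟩)
    simp at this
  · rintro A ⟨p, hp, rfl⟩ B ⟨r, hr, rfl⟩
    obtain ⟨g, hg⟩ := exists_map p r hp hr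
    exact ⟨g, by rw [conjBy_Tp, hg]⟩

theorem Sig_connected : IsConnectedFamily (FAdj (Sig m F)) (Sig m F) := by
  rintro A ⟨p, hp, rfl⟩ B ⟨r, hr, rfl⟩
  obtain ⟨s, hps, hrs⟩ := Cfsg.Agent.S0768.exists_common p r hp hr
  have hs : s ≠ 0 := Cfsg.Agent.S0768.ne_zero_of_form_right hps
  have hsr : Cfsg.sympForm m F s r ≠ 0 := by
    rw [sympForm_swap]
    exact neg_ne_zero.mpr hrs
  exact Relation.ReflTransGen.head ⟨Tp_mem_Sig p hp, Tp_mem_Sig s hs, rankOnePair p s hps⟩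
    (Relation.ReflTransGen.single ⟨Tp_mem_Sig s hs, Tp_mem_Sig r hr, rankOnePair s r hsr⟩)

/-- commuting transvections have orthogonal centres -/
theorem orth_of_tv_comm (w p : Fin m ⊕ Fin m → F) (hp : p ≠ 0)
    (h : tv w 1 * tv p 1 = tv p 1 * tv w 1) : Cfsg.sympForm m F p w = 0 := by
  have h1 : ((tv w 1 * tv p 1 : ↥(Matrix.symplecticGroup (Fin m) F)) : Mat) *ᵥ p =
      ((tv p 1 * tv w 1 : ↥(Matrix.symplecticGroup (Fin m) F)) : Mat) *ᵥ p := by rw [h]
  rw [mul_apply, mul_apply, tv_apply, tv_apply, sympForm_self, mul_zero, zero_smul, add_zero,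
    tv_apply, tv_apply, sympForm_add_left, sympForm_smul_left, sympForm_self] at h1
  simp only [zero_add, one_mul] at h1
  have h2 : (Cfsg.sympForm m F p w * Cfsg.sympForm m F w p) • p = 0 := by
    have := congrArg (fun y => y - (p + Cfsg.sympForm m F p w • w)) h1
    simp only [sub_self, add_sub_cancel_left] at this
    exact this.symm
  rcases smul_eq_zero.mp h2 with h3 | h3
  · rw [sympForm_swap w p] at h3
    have : Cfsg.sympForm m F p w * Cfsg.sympForm m F p w = 0 := by linear_combination -h3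
    exact mul_self_eq_zero.mp this
  · exact absurd h3 hp

theorem sup_sub_mem_span (p r : Fin m ⊕ Fin m → F) (g : ↥(Matrix.symplecticGroup (Fin m) F))
    (hg : g ∈ Tp p ⊔ Tp r) (v : Fin m ⊕ Fin m → F) :
    (g : Mat) *ᵥ v - v ∈ Submodule.span F {p, r} := by
  rw [← Subgroup.closure_eq (Tp p), ← Subgroup.closure_eq (Tp r), ← Subgroup.closure_union] at hg
  induction hg using Subgroup.closure_induction generalizing v with
  | mem x hx =>
    rcases hx with hx | hx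
    · obtain ⟨c, rfl⟩ := (mem_Tp_iff p _).mp hx
      rw [tv_apply, add_sub_cancel_left]
      exact Submodule.smul_mem _ _ (Submodule.subset_span (by simp))
    · obtain ⟨c, rfl⟩ := (mem_Tp_iff r _).mp hx
      rw [tv_apply, add_sub_cancel_left]
      exact Submodule.smul_mem _ _ (Submodule.subset_span (by simp))
  | one => rw [one_apply, sub_self]; exact Submodule.zero_mem _
  | mul a b _ _ iha ihb =>
    rw [mul_apply]
    have := Submodule.add_mem _ (iha ((b : Mat) *ᵥ v)) (ihb v)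
    rwa [sub_add_sub_cancel] at this
  | inv a _ iha =>
    have h1 := iha (((a⁻¹ : ↥(Matrix.symplecticGroup (Fin m) F)) : Mat) *ᵥ v)
    rw [inv_apply] at h1
    have h2 := Submodule.neg_mem _ h1
    rwa [neg_sub] at h2

/-- the commutator case never occurs -/
theorem Sig_degenerate : IsDegenerateRootSet (Sig m F) := by
  rintro A ⟨p, hp, rfl⟩ B ⟨r, hr, rfl⟩ ⟨⟨w, hw, hAB⟩, hcent, -, -⟩
  by_cases h : Cfsg.sympForm m F p r = 0
  · rw [commutator_eq_bot_of_orth p r h] at hAB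
    exact Tp_ne_bot w hw hAB.symm
  have hwm : tv w 1 ∈ ⁅Tp p, Tp r⁆ := hAB ▸ tv_mem w 1
  have hle : ⁅Tp p, Tp r⁆ ≤ Tp p ⊔ Tp r := by
    rw [Subgroup.commutator_le]
    intro a ha b hb
    have ha' : a ∈ Tp p ⊔ Tp r := (le_sup_left : Tp p ≤ _) ha
    have hb' : b ∈ Tp p ⊔ Tp r := (le_sup_right : Tp r ≤ _) hb
    exact Subgroup.mul_mem _ (Subgroup.mul_mem _ (Subgroup.mul_mem _ ha' hb')
      (Subgroup.inv_mem _ ha')) (Subgroup.inv_mem _ hb')
  have h1 : Cfsg.sympForm m F p w = 0 :=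
    orth_of_tv_comm w p hp (hcent _ hwm _ ((le_sup_left : Tp p ≤ _) (tv_mem p 1)))
  have h2 : Cfsg.sympForm m F r w = 0 :=
    orth_of_tv_comm w r hr (hcent _ hwm _ ((le_sup_right : Tp r ≤ _) (tv_mem r 1)))
  obtain ⟨v, hv⟩ := Cfsg.Agent.S0768.nondeg w hw
  have h3 := sup_sub_mem_span p r (tv w 1) (hle hwm) v
  rw [tv_apply, add_sub_cancel_left, sympForm_swap, hv, Submodule.mem_span_pair] at h3
  obtain ⟨α, β, hαβ⟩ := h3
  have hw' : w = -(α • p + β • r) := by
    rw [hαβ]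
    simp
  have h4 : Cfsg.sympForm m F p w = -(β * Cfsg.sympForm m F p r) := by
    rw [hw', sympForm_neg_right, sympForm_add_right, sympForm_smul_right, sympForm_smul_right,
      sympForm_self, mul_zero, zero_add]
  have h5 : Cfsg.sympForm m F r w = α * Cfsg.sympForm m F p r := by
    rw [hw', sympForm_neg_right, sympForm_add_right, sympForm_smul_right, sympForm_smul_right,
      sympForm_self, mul_zero, add_zero, sympForm_swap r p]
    ring
  rw [h1] at h4
  rw [h2] at h5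
  have hβ : β = 0 := by
    rcases mul_eq_zero.mp (neg_eq_zero.mp h4.symm) with h6 | h6
    · exact h6
    · exact absurd h6 h
  have hα : α = 0 := by
    rcases mul_eq_zero.mp h5.symm with h6 | h6
    · exact h6
    · exact absurd h6 h
  apply hw
  rw [hw', hα, hβ]
  simp


/-! ### The embedding of `SL₂` attached to a hyperbolic pair -/

/-- the matrix acting as `M` on the plane `⟨p, r⟩` and trivially on its orthogonal complement -/
def phiMat (p r : Fin m ⊕ Fin m → F) (M : Matrix (Fin 2) (Fin 2) F) : Mat :=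
  1 + Matrix.vecMulVec ((M 0 0 - 1) • p + M 1 0 • r) (Matrix.J (Fin m) F *ᵥ r)
    - Matrix.vecMulVec (M 0 1 • p + (M 1 1 - 1) • r) (Matrix.J (Fin m) F *ᵥ p)

theorem phiMat_apply (p r : Fin m ⊕ Fin m → F) (M : Matrix (Fin 2) (Fin 2) F)
    (v : Fin m ⊕ Fin m → F) :
    phiMat p r M *ᵥ v = v +
      ((M 0 0 - 1) * Cfsg.sympForm m F v r - M 0 1 * Cfsg.sympForm m F v p) • p +
      (M 1 0 * Cfsg.sympForm m F v r - (M 1 1 - 1) * Cfsg.sympForm m F v p) • r := by
  unfold phiMat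
  rw [sub_mulVec, add_mulVec, one_mulVec, vecMulVec_mulVec, vecMulVec_mulVec, sympForm_def,
    sympForm_def, dotProduct_comm v, dotProduct_comm v]
  ext i
  simp only [Pi.add_apply, Pi.sub_apply, Pi.smul_apply, MulOpposite.smul_eq_mul_unop,
    MulOpposite.unop_op, smul_eq_mul]
  ring

theorem phiMat_coord_r (p r : Fin m ⊕ Fin m → F) (hpr : Cfsg.sympForm m F p r = 1)
    (M : Matrix (Fin 2) (Fin 2) F) (v : Fin m ⊕ Fin m → F) :
    Cfsg.sympForm m F (phiMat p r M *ᵥ v) r =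
      M 0 0 * Cfsg.sympForm m F v r - M 0 1 * Cfsg.sympForm m F v p := by
  rw [phiMat_apply, sympForm_add_left, sympForm_add_left, sympForm_smul_left, sympForm_smul_left,
    sympForm_self, hpr]
  ring

theorem phiMat_coord_p (p r : Fin m ⊕ Fin m → F) (hpr : Cfsg.sympForm m F p r = 1)
    (M : Matrix (Fin 2) (Fin 2) F) (v : Fin m ⊕ Fin m → F) :
    Cfsg.sympForm m F (phiMat p r M *ᵥ v) p =
      - (M 1 0 * Cfsg.sympForm m F v r) + M 1 1 * Cfsg.sympForm m F v p := by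
  have hrp : Cfsg.sympForm m F r p = -1 := by rw [sympForm_swap, hpr]
  rw [phiMat_apply, sympForm_add_left, sympForm_add_left, sympForm_smul_left, sympForm_smul_left,
    sympForm_self, hrp]
  ring

theorem phiMat_mul (p r : Fin m ⊕ Fin m → F) (hpr : Cfsg.sympForm m F p r = 1)
    (M N : Matrix (Fin 2) (Fin 2) F) : phiMat p r (M * N) = phiMat p r M * phiMat p r N := by
  apply matrix_ext_mulVec
  intro v
  rw [← mulVec_mulVec, phiMat_apply p r M, phiMat_coord_r p r hpr, phiMat_coord_p p r hpr,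
    phiMat_apply, phiMat_apply]
  simp only [Matrix.mul_apply, Fin.sum_univ_two]
  module

theorem phiMat_one (p r : Fin m ⊕ Fin m → F) : phiMat p r 1 = 1 := by
  apply matrix_ext_mulVec
  intro v
  rw [phiMat_apply, one_mulVec]
  simp

theorem phiMat_mem (p r : Fin m ⊕ Fin m → F) (hpr : Cfsg.sympForm m F p r = 1)
    (M : Matrix (Fin 2) (Fin 2) F) (hM : M 0 0 * M 1 1 - M 0 1 * M 1 0 = 1) :
    phiMat p r M ∈ Matrix.symplecticGroup (Fin m) F := by
  rw [mem_symplecticGroup_iff_preserves]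
  intro x y
  have hrp : Cfsg.sympForm m F r p = -1 := by rw [sympForm_swap, hpr]
  rw [phiMat_apply, phiMat_apply]
  simp only [sympForm_add_left, sympForm_add_right, sympForm_smul_left, sympForm_smul_right,
    sympForm_self, hpr, hrp]
  rw [sympForm_swap p y, sympForm_swap r y]
  linear_combination (Cfsg.sympForm m F x p * Cfsg.sympForm m F y r -
    Cfsg.sympForm m F x r * Cfsg.sympForm m F y p) * hM


/-- the homomorphism `SL₂(F) → Sp` attached to a hyperbolic pair -/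
def phi (p r : Fin m ⊕ Fin m → F) (hpr : Cfsg.sympForm m F p r = 1) :
    Matrix.SpecialLinearGroup (Fin 2) F →* ↥(Matrix.symplecticGroup (Fin m) F) where
  toFun M := ⟨phiMat p r M.1, phiMat_mem p r hpr M.1 (sl2_det M)⟩
  map_one' := Subtype.ext (by
    change phiMat p r (1 : Matrix.SpecialLinearGroup (Fin 2) F).1 = 1
    rw [Matrix.SpecialLinearGroup.coe_one, phiMat_one])
  map_mul' M N := Subtype.ext (by
    change phiMat p r (M * N).1 = phiMat p r M.1 * phiMat p r N.1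
    rw [Matrix.SpecialLinearGroup.coe_mul, phiMat_mul p r hpr])

theorem phi_apply (p r : Fin m ⊕ Fin m → F) (hpr : Cfsg.sympForm m F p r = 1)
    (M : Matrix.SpecialLinearGroup (Fin 2) F) (v : Fin m ⊕ Fin m → F) :
    ((phi p r hpr M : ↥(Matrix.symplecticGroup (Fin m) F)) : Mat) *ᵥ v = v +
      ((M.1 0 0 - 1) * Cfsg.sympForm m F v r - M.1 0 1 * Cfsg.sympForm m F v p) • p +
      (M.1 1 0 * Cfsg.sympForm m F v r - (M.1 1 1 - 1) * Cfsg.sympForm m F v p) • r :=
  phiMat_apply p r M.1 v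

theorem phi_uM (p r : Fin m ⊕ Fin m → F) (hpr : Cfsg.sympForm m F p r = 1) (β : F) :
    phi p r hpr (uM β) = tv p (-β) := by
  apply sp_ext
  intro v
  rw [phi_apply, tv_apply]
  simp only [uM_00, uM_01, uM_10, uM_11]
  module

theorem phi_lM (p r : Fin m ⊕ Fin m → F) (hpr : Cfsg.sympForm m F p r = 1) (γ : F) :
    phi p r hpr (lM γ) = tv r γ := by
  apply sp_ext
  intro v
  rw [phi_apply, tv_apply]
  simp only [lM_00, lM_01, lM_10, lM_11]
  module

theorem phi_ker (p r : Fin m ⊕ Fin m → F) (hpr : Cfsg.sympForm m F p r = 1) :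
    (phi p r hpr).ker = ⊥ := by
  rw [eq_bot_iff]
  intro M hM
  rw [MonoidHom.mem_ker] at hM
  have hrp : Cfsg.sympForm m F r p = -1 := by rw [sympForm_swap, hpr]
  have h1 := phi_apply p r hpr M p
  have h2 := phi_apply p r hpr M r
  rw [hM, one_apply] at h1 h2
  rw [sympForm_self, hpr] at h1
  rw [sympForm_self, hrp] at h2
  have e1 := congrArg (fun x => Cfsg.sympForm m F x r) h1
  have e2 := congrArg (fun x => Cfsg.sympForm m F x p) h1
  have e3 := congrArg (fun x => Cfsg.sympForm m F x r) h2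
  have e4 := congrArg (fun x => Cfsg.sympForm m F x p) h2
  simp only [sympForm_add_left, sympForm_smul_left, sympForm_self, hpr, hrp] at e1 e2 e3 e4
  rw [Subgroup.mem_bot]
  apply sl2_ext
  · change M.1 0 0 = (1 : Matrix.SpecialLinearGroup (Fin 2) F).1 0 0
    rw [Matrix.SpecialLinearGroup.coe_one, Matrix.one_apply_eq]
    linear_combination -e1
  · change M.1 0 1 = (1 : Matrix.SpecialLinearGroup (Fin 2) F).1 0 1
    rw [Matrix.SpecialLinearGroup.coe_one, Matrix.one_apply_ne (by decide)]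
    linear_combination -e3
  · change M.1 1 0 = (1 : Matrix.SpecialLinearGroup (Fin 2) F).1 1 0
    rw [Matrix.SpecialLinearGroup.coe_one, Matrix.one_apply_ne (by decide)]
    linear_combination e2
  · change M.1 1 1 = (1 : Matrix.SpecialLinearGroup (Fin 2) F).1 1 1
    rw [Matrix.SpecialLinearGroup.coe_one, Matrix.one_apply_eq]
    linear_combination e4

theorem map_upper (p r : Fin m ⊕ Fin m → F) (hpr : Cfsg.sympForm m F p r = 1) :
    (upperUnipotentSL2 F).map (phi p r hpr) = Tp p := by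
  ext x
  rw [Subgroup.mem_map, mem_Tp_iff]
  constructor
  · rintro ⟨g, hg, rfl⟩
    rw [eq_uM_of_mem hg, phi_uM]
    exact ⟨_, rfl⟩
  · rintro ⟨c, rfl⟩
    refine ⟨uM (-c), uM_mem _, ?_⟩
    rw [phi_uM, neg_neg]

theorem map_lower (p r : Fin m ⊕ Fin m → F) (hpr : Cfsg.sympForm m F p r = 1) :
    (lowerUnipotentSL2 F).map (phi p r hpr) = Tp r := by
  ext x
  rw [Subgroup.mem_map, mem_Tp_iff]
  constructor
  · rintro ⟨g, hg, rfl⟩
    rw [eq_lM_of_mem hg, phi_lM]
    exact ⟨_, rfl⟩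
  · rintro ⟨c, rfl⟩
    exact ⟨lM c, lM_mem _, phi_lM p r hpr c⟩

theorem psl2_of_hyp (p r : Fin m ⊕ Fin m → F) (hpr : Cfsg.sympForm m F p r = 1) :
    IsPSL2PairOver F (Tp p) (Tp r) := by
  refine ⟨phi p r hpr, ?_, ?_, map_upper p r hpr, map_lower p r hpr⟩
  · rw [MonoidHom.range_eq_map, ← lower_sup_upper, Subgroup.map_sup, map_upper, map_lower, sup_comm]
  · rw [phi_ker]
    exact bot_le

theorem psl2 (p r : Fin m ⊕ Fin m → F) (h : Cfsg.sympForm m F p r ≠ 0) :
    IsPSL2PairOver F (Tp p) (Tp r) := by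
  have h1 : Cfsg.sympForm m F p ((Cfsg.sympForm m F p r)⁻¹ • r) = 1 := by
    rw [sympForm_smul_right, inv_mul_cancel₀ h]
  have := psl2_of_hyp p _ h1
  rwa [Tp_smul _ (inv_ne_zero h)] at this

theorem form_ne_zero_of_rankOne (p r : Fin m ⊕ Fin m → F) (hp : p ≠ 0)
    (h : IsRankOnePair (Tp p) (Tp r)) : Cfsg.sympForm m F p r ≠ 0 := by
  intro h0
  have h0' : Cfsg.sympForm m F r p = 0 := by rw [sympForm_swap, h0, neg_zero]
  have ha1 : tv p 1 ≠ 1 := fun h1 => one_ne_zero ((tv_eq_one_iff p hp 1).mp h1)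
  obtain ⟨b, hb, -, hconj⟩ := h.cond_left (tv p 1) (tv_mem p 1) ha1
  obtain ⟨d, rfl⟩ := (mem_Tp_iff r _).mp hb
  rw [conjBy_Tp, conjBy_Tp, tv_inv, tv_inv, tv_apply, tv_apply, h0, h0', mul_zero, mul_zero,
    zero_smul, zero_smul, add_zero, add_zero] at hconj
  exact h.ne hconj

theorem Sig_kroot : IsKRootSubgroupSet F (Sig m F) := by
  refine ⟨Sig_rootSet, ?_⟩
  rintro A ⟨p, hp, rfl⟩ B ⟨r, hr, rfl⟩ h
  exact psl2 p r (form_ne_zero_of_rankOne p r hp h)

theorem Sig_all (hm : 0 < m) : IsRootSubgroupClass (Sig m F) ∧ IsDegenerateRootSet (Sig m F) ∧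
    IsKRootSubgroupSet F (Sig m F) ∧ IsConnectedFamily (FAdj (Sig m F)) (Sig m F) :=
  ⟨⟨Sig_rootSet, Sig_conjClass hm⟩, Sig_degenerate, Sig_kroot, Sig_connected⟩

end Cfsg.Agent.Lib.Helper6.SympRoot
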