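import Mathlib
import Cfsg.Agent.Lib.Helper6.SympRoot
import Cfsg.Agent.Lib.Helper2.SympCenter
import Cfsg.Agent.Lib.Helper6.AutPSU13
import Cfsg.Agent.S0766

/-!
# Automorphisms of `PSp_{2m}(q)`, part 1: basic API, the projection to `PSp`, point stabilisers
and their unipotent radicals
-/

set_option autoImplicit false
set_option linter.unusedSectionVars false
set_option linter.unusedVariables false
open Cfsg

namespace Cfsg.Agent.Lib.Helper6.AutPSp

open Matrix Cfsg.Agent.Lib.Helper6 Cfsg.Agent.Lib.Helper6.SympRoot Cfsg.Agent.Lib.Helper6.AutPSL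

section
variable {m : ℕ} {F : Type*} [Field F]

set_option quotPrecheck false in
local notation "SpG" => ↥(Matrix.symplecticGroup (Fin m) F)
local notation "Vec" => (Fin m ⊕ Fin m → F)
local notation "Bf" => Cfsg.sympForm m F

/-- the action of the symplectic group on vectors -/
def av (g : SpG) (x : Vec) : Vec := (g : Matrix (Fin m ⊕ Fin m) (Fin m ⊕ Fin m) F) *ᵥ x

theorem av_mul (g h : SpG) (x : Vec) : av (g * h) x = av g (av h x) := mul_apply g h x

theorem av_one (x : Vec) : av (1 : SpG) x = x := one_apply x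

theorem av_inv_av (g : SpG) (x : Vec) : av g⁻¹ (av g x) = x := inv_apply' g x

theorem av_av_inv (g : SpG) (x : Vec) : av g (av g⁻¹ x) = x := inv_apply g x

theorem av_add (g : SpG) (x y : Vec) : av g (x + y) = av g x + av g y := Matrix.mulVec_add _ _ _

theorem av_smul (g : SpG) (a : F) (x : Vec) : av g (a • x) = a • av g x :=
  Matrix.mulVec_smul _ _ _

theorem av_zero (g : SpG) : av g (0 : Vec) = 0 := Matrix.mulVec_zero _

theorem av_neg (g : SpG) (x : Vec) : av g (-x) = - av g x := Matrix.mulVec_neg _ _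

theorem av_sub (g : SpG) (x y : Vec) : av g (x - y) = av g x - av g y := Matrix.mulVec_sub _ _ _

theorem B_av (g : SpG) (x y : Vec) : Bf (av g x) (av g y) = Bf x y := pres g x y

theorem ext_av {g h : SpG} (hgh : ∀ x : Vec, av g x = av h x) : g = h := sp_ext hgh

theorem av_tv (p : Vec) (c : F) (x : Vec) : av (tv p c) x = x + (c * Bf x p) • p := tv_apply p c x

theorem av_ne_zero (g : SpG) {x : Vec} (hx : x ≠ 0) : av g x ≠ 0 := apply_ne_zero g x hx

theorem B_av_left (g : SpG) (x y : Vec) : Bf (av g x) y = Bf x (av g⁻¹ y) := by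
  conv_lhs => rw [← av_av_inv g y]
  rw [B_av]

theorem B_av_right (g : SpG) (x y : Vec) : Bf x (av g y) = Bf (av g⁻¹ x) y := by
  conv_lhs => rw [← av_av_inv g x]
  rw [B_av]

theorem B_nondeg {x : Vec} (h : ∀ y, Bf x y = 0) : x = 0 := by
  by_contra hx
  obtain ⟨a, ha⟩ := Cfsg.Agent.S0768.nondeg x hx
  rw [h a] at ha
  exact zero_ne_one ha

theorem B_self (x : Vec) : Bf x x = 0 := sympForm_self x

theorem B_swap (x y : Vec) : Bf x y = - Bf y x := sympForm_swap x y

theorem B_swap_zero {x y : Vec} (h : Bf x y = 0) : Bf y x = 0 := by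
  rw [B_swap, h, neg_zero]

/-- projection to `PSp` -/
def pu : SpG →* Cfsg.PSp m F := QuotientGroup.mk' _

theorem pu_surjective : Function.Surjective (pu : SpG →* Cfsg.PSp m F) :=
  QuotientGroup.mk'_surjective _

theorem pu_eq_one_iff (x : SpG) : pu x = 1 ↔ x ∈ Subgroup.center SpG :=
  QuotientGroup.eq_one_iff x

theorem pu_eq_iff (x y : SpG) : pu x = pu y ↔ x⁻¹ * y ∈ Subgroup.center SpG :=
  QuotientGroup.eq

/-- the central element `-1` -/
def negOne : SpG := Cfsg.Agent.Lib.Helper2.sympNegOne m F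

theorem av_negOne (x : Vec) : av (negOne : SpG) x = -x := by
  change (-1 : Matrix (Fin m ⊕ Fin m) (Fin m ⊕ Fin m) F) *ᵥ x = -x
  rw [Matrix.neg_mulVec, Matrix.one_mulVec]

theorem negOne_mem_center : (negOne : SpG) ∈ Subgroup.center SpG :=
  Cfsg.Agent.Lib.Helper2.sympNegOne_mem_center

theorem center_cases (hm : 1 ≤ m) (z : SpG) (hz : z ∈ Subgroup.center SpG) :
    z = 1 ∨ z = negOne := by
  have h := Cfsg.Agent.Lib.Helper2.symp_center_eq_pair (m := m) (F := F) hm
  have h2 : z ∈ ((Subgroup.center SpG : Subgroup _) : Set SpG) := hz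
  rw [h] at h2
  unfold negOne
  simpa using h2

theorem av_center (hm : 1 ≤ m) (z : SpG) (hz : z ∈ Subgroup.center SpG) :
    (∀ x : Vec, av z x = x) ∨ (∀ x : Vec, av z x = -x) := by
  rcases center_cases hm z hz with h | h
  · left
    intro x
    rw [h, av_one]
  · right
    intro x
    rw [h, av_negOne]

variable {p : ℕ} [hp : Fact p.Prime] [CharP F p]

theorem neg_one_pow_char (k : ℕ) : (-1 : F) ^ (p ^ k) = -1 := by
  by_cases h2 : p = 2
  · subst h2
    have : (-1 : F) = 1 := CharTwo.neg_eq 1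
    rw [this, one_pow]
  · have hodd : Odd (p ^ k) := (hp.out.odd_of_ne_two h2).pow
    exact hodd.neg_one_pow

theorem av_pow_neg (z : SpG) (hz : ∀ x : Vec, av z x = -x) (k : ℕ) (x : Vec) :
    av (z ^ k) x = ((-1 : F) ^ k) • x := by
  induction k with
  | zero => rw [pow_zero, pow_zero, av_one, one_smul]
  | succ k ih =>
    rw [pow_succ, av_mul, hz, av_neg, ih, pow_succ]
    module

theorem center_eq_one_of_pow (hm : 1 ≤ m) (z : SpG) (hz : z ∈ Subgroup.center SpG) (k : ℕ)
    (h : z ^ (p ^ k) = 1) : z = 1 := by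
  rcases av_center hm z hz with h1 | h1
  · apply ext_av
    intro x
    rw [h1, av_one]
  · apply ext_av
    intro x
    have h2 := av_pow_neg z h1 (p ^ k) x
    rw [h, av_one, neg_one_pow_char (p := p)] at h2
    rw [h1, av_one]
    calc -x = (-1 : F) • x := by module
      _ = x := h2.symm

/-- `p`-elements commuting modulo the centre commute -/
theorem comm_of_pu_comm (hm : 1 ≤ m) (z u : SpG)
    (k : ℕ) (hu : u ^ (p ^ k) = 1) (h : pu z * pu u = pu u * pu z) : z * u = u * z := by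
  obtain ⟨c, hc⟩ : ∃ c, c = z * u * z⁻¹ * u⁻¹ := ⟨_, rfl⟩
  have hcz : c ∈ Subgroup.center SpG := by
    rw [← pu_eq_one_iff, hc, map_mul, map_mul, map_mul, map_inv, map_inv, h]
    group
  have h1 : z * u * z⁻¹ = c * u := by rw [hc]; group
  have h2 : (z * u * z⁻¹) ^ (p ^ k) = 1 := by
    rw [conj_pow, hu, mul_one, mul_inv_cancel]
  have hcomm : Commute c u := (Subgroup.mem_center_iff.mp hcz u).symm
  rw [h1, hcomm.mul_pow, hu, mul_one] at h2
  have hc1 := center_eq_one_of_pow (p := p) hm c hcz k h2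
  rw [hc1, one_mul] at h1
  calc z * u = z * u * z⁻¹ * z := by group
    _ = u * z := by rw [h1]

/-- the projection is injective on `p`-elements -/
theorem eq_of_pu_eq (hm : 1 ≤ m) (x y : SpG)
    (k : ℕ) (hx : x ^ (p ^ k) = 1) (hy : y ^ (p ^ k) = 1) (h : pu x = pu y) : x = y := by
  have hz : x⁻¹ * y ∈ Subgroup.center SpG := (pu_eq_iff x y).mp h
  have hcomm : Commute x⁻¹ y := by
    have := Subgroup.mem_center_iff.mp hz x
    have h2 : y * x = x * y := by
      calc y * x = x * (x⁻¹ * y * x) := by group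
        _ = x * (x * (x⁻¹ * y)) := by rw [this]
        _ = x * y := by group
    change x⁻¹ * y = y * x⁻¹
    calc x⁻¹ * y = x⁻¹ * (y * x) * x⁻¹ := by group
      _ = x⁻¹ * (x * y) * x⁻¹ := by rw [h2]
      _ = y * x⁻¹ := by group
  have h1 : (x⁻¹ * y) ^ (p ^ k) = 1 := by
    rw [hcomm.mul_pow, inv_pow, hx, hy, inv_one, one_mul]
  have := center_eq_one_of_pow (p := p) hm _ hz k h1
  exact inv_mul_eq_one.mp this

end

section
variable {m : ℕ} {F : Type*} [Field F]

set_option quotPrecheck false in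
local notation "SpG" => ↥(Matrix.symplecticGroup (Fin m) F)
local notation "Vec" => (Fin m ⊕ Fin m → F)
local notation "Bf" => Cfsg.sympForm m F

/-- the stabiliser of a vector -/
def Fx (u : Vec) : Subgroup SpG where
  carrier := {g | av g u = u}
  mul_mem' := by
    intro a b ha hb
    change av (a * b) u = u
    rw [av_mul, hb, ha]
  one_mem' := av_one u
  inv_mem' := by
    intro a ha
    change av a⁻¹ u = u
    have := av_inv_av a u
    rw [ha] at this
    exact this

theorem mem_Fx (u : Vec) (g : SpG) : g ∈ Fx u ↔ av g u = u := Iff.rfl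

/-- the unipotent radical of the stabiliser of the point `u` -/
def Qv (u : Vec) : Subgroup SpG where
  carrier := {g | av g u = u ∧ ∀ x, Bf x u = 0 → ∃ t : F, av g x = x + t • u}
  mul_mem' := by
    rintro a b ⟨ha, ha'⟩ ⟨hb, hb'⟩
    refine ⟨?_, ?_⟩
    · rw [av_mul, hb, ha]
    · intro x hx
      obtain ⟨t, ht⟩ := hb' x hx
      obtain ⟨s, hs⟩ := ha' x hx
      refine ⟨s + t, ?_⟩
      rw [av_mul, ht, av_add, av_smul, ha, hs]
      module
  one_mem' := ⟨av_one u, fun x _ => ⟨0, by rw [av_one]; simp⟩⟩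
  inv_mem' := by
    rintro a ⟨ha, ha'⟩
    have hau : av a⁻¹ u = u := by
      have := av_inv_av a u
      rw [ha] at this
      exact this
    refine ⟨hau, ?_⟩
    intro x hx
    obtain ⟨t, ht⟩ := ha' x hx
    refine ⟨-t, ?_⟩
    have := av_inv_av a x
    rw [ht, av_add, av_smul, hau] at this
    rw [eq_sub_of_add_eq this]
    module

theorem mem_Qv (u : Vec) (g : SpG) :
    g ∈ Qv u ↔ av g u = u ∧ ∀ x, Bf x u = 0 → ∃ t : F, av g x = x + t • u := Iff.rfl

theorem Qv_le_Fx (u : Vec) : Qv u ≤ (Fx u : Subgroup SpG) := fun g hg => hg.1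

/-- elements fixing the point `⟨u⟩` normalise `Qv u` -/
theorem Qv_conj (u : Vec) (k : SpG) (a : F) (ha : a ≠ 0)
    (hk : av k u = a • u) (g : SpG) (hg : g ∈ Qv u) : k * g * k⁻¹ ∈ Qv u := by
  have hk' : av k⁻¹ u = a⁻¹ • u := by
    have := av_inv_av k u
    rw [hk, av_smul] at this
    calc av k⁻¹ u = a⁻¹ • (a • av k⁻¹ u) := by rw [smul_smul, inv_mul_cancel₀ ha, one_smul]
      _ = a⁻¹ • u := by rw [this]
  refine ⟨?_, ?_⟩
  · rw [av_mul, av_mul, hk', av_smul, hg.1, av_smul, hk, smul_smul, inv_mul_cancel₀ ha, one_smul]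
  · intro x hx
    have hx' : Bf (av k⁻¹ x) u = 0 := by
      rw [B_av_left, inv_inv, hk, sympForm_smul_right, hx, mul_zero]
    obtain ⟨t, ht⟩ := hg.2 _ hx'
    refine ⟨t * a, ?_⟩
    rw [av_mul, av_mul, ht, av_add, av_smul, av_av_inv, hk, smul_smul]

theorem Fx_le_normalizer_Qv (u : Vec) :
    (Fx u : Subgroup SpG) ≤ Subgroup.normalizer ((Qv u : Subgroup SpG) : Set SpG) := by
  intro k hk
  rw [Subgroup.mem_normalizer_iff]
  intro g
  have hk1 : av k u = (1 : F) • u := by rw [one_smul]; exact hk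
  have hk2 : av k⁻¹ u = (1 : F) • u := by rw [one_smul]; exact (Fx u).inv_mem hk
  constructor
  · intro hg
    exact Qv_conj u k 1 one_ne_zero hk1 g hg
  · intro hg
    have := Qv_conj u k⁻¹ 1 one_ne_zero hk2 _ hg
    rw [inv_inv] at this
    have e : k⁻¹ * (k * g * k⁻¹) * k = g := by group
    rwa [e] at this

theorem Qv_conj_gen (u : Vec) (t g : SpG) (hg : g ∈ Qv u) :
    t * g * t⁻¹ ∈ Qv (av t u) := by
  refine ⟨?_, ?_⟩
  · rw [av_mul, av_mul, av_inv_av, hg.1]
  · intro x hx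
    have hx' : Bf (av t⁻¹ x) u = 0 := by
      rw [B_av_left, inv_inv]
      exact hx
    obtain ⟨s, hs⟩ := hg.2 _ hx'
    refine ⟨s, ?_⟩
    rw [av_mul, av_mul, hs, av_add, av_smul, av_av_inv]

theorem Qv_smul_le (a : F) (ha : a ≠ 0) (u : Vec) :
    Qv (a • u) ≤ (Qv u : Subgroup SpG) := by
  intro g hg
  refine ⟨?_, ?_⟩
  · have h1 := hg.1
    rw [av_smul] at h1
    have h2 := congrArg (fun v => a⁻¹ • v) h1
    simp only [smul_smul, inv_mul_cancel₀ ha, one_smul] at h2
    exact h2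
  · intro x hx
    have hx' : Bf x (a • u) = 0 := by rw [sympForm_smul_right, hx, mul_zero]
    obtain ⟨s, hs⟩ := hg.2 x hx'
    exact ⟨s * a, by rw [hs, smul_smul]⟩

theorem tv_mem_Qv (u : Vec) (c : F) : tv u c ∈ Qv u := by
  refine ⟨?_, ?_⟩
  · rw [av_tv, B_self, mul_zero, zero_smul, add_zero]
  · intro x hx
    exact ⟨0, by rw [av_tv, hx, mul_zero]⟩

theorem Tp_le_Qv (u : Vec) : Tp u ≤ Qv u := by
  intro g hg
  obtain ⟨c, rfl⟩ := (mem_Tp_iff u g).mp hg
  exact tv_mem_Qv u c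

/-- the elements of `Qv u` are unipotent of exponent dividing `p ^ 2` -/
theorem Qv_pow (p : ℕ) [hp : Fact p.Prime] [CharP F p] (hm : 1 ≤ m) (u : Vec)
    (g : SpG) (hg : g ∈ Qv u) : g ^ (p ^ 2) = 1 := by
  have : Nonempty (Fin m ⊕ Fin m) := ⟨Sum.inl ⟨0, by omega⟩⟩
  have : CharP (Matrix (Fin m ⊕ Fin m) (Fin m ⊕ Fin m) F) p := Matrix.charP p
  obtain ⟨M, hM⟩ : ∃ M : Matrix (Fin m ⊕ Fin m) (Fin m ⊕ Fin m) F, M = g.1 := ⟨_, rfl⟩
  have hMv : ∀ x, M *ᵥ x = av g x := fun x => by rw [hM]; rfl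
  have hN : ∀ x, (M - 1) *ᵥ x = av g x - x := by
    intro x
    rw [Matrix.sub_mulVec, one_mulVec, hMv]
  have hperp : ∀ x, Bf (av g x - x) u = 0 := by
    intro x
    rw [sympForm_sub_left]
    have : Bf (av g x) u = Bf (av g x) (av g u) := by rw [hg.1]
    rw [this, B_av, sub_self]
  have hN3 : (M - 1) ^ 3 = 0 := by
    apply matrix_ext_mulVec
    intro x
    rw [pow_succ, pow_succ, pow_one, ← mulVec_mulVec, ← mulVec_mulVec, zero_mulVec, hN x]
    obtain ⟨t, ht⟩ := hg.2 _ (hperp x)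
    rw [hN (av g x - x), ht, add_sub_cancel_left, mulVec_smul, hN u, hg.1, sub_self, smul_zero]
  have h1 : M ^ (p ^ 2) = 1 := by
    have h2 : M = (M - 1) + 1 := by abel
    rw [h2, add_pow_char_pow_of_commute p 2 (Commute.one_right _), one_pow]
    have h3 : 3 ≤ p ^ 2 := by
      have := hp.out.two_le
      nlinarith
    have h4 : (M - 1) ^ (p ^ 2) = (M - 1) ^ 3 * (M - 1) ^ (p ^ 2 - 3) := by
      rw [← pow_add]
      congr 1
      omega
    rw [h4, hN3, zero_mul, zero_add]
  apply Subtype.ext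
  rw [SubmonoidClass.coe_pow, ← hM, h1]
  rfl

theorem isPGroup_Qv (p : ℕ) [hp : Fact p.Prime] [CharP F p] (hm : 1 ≤ m) (u : Vec) :
    IsPGroup p (Qv u : Subgroup SpG) := by
  intro g
  refine ⟨2, ?_⟩
  apply Subtype.ext
  rw [Subgroup.coe_pow]
  exact Qv_pow p hm u g.1 g.2

end

end Cfsg.Agent.Lib.Helper6.AutPSp
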