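import Mathlib
import Cfsg.Agent.Lib.Helper6.AutPSp1

/-!
# Automorphisms of `PSp_{2m}(q)`, part 2: hyperbolic pairs, Siegel elements and the structure of
the unipotent radical of a point stabiliser
-/

set_option autoImplicit false
set_option linter.unusedSectionVars false
set_option linter.unusedVariables false
open Cfsg

namespace Cfsg.Agent.Lib.Helper6.AutPSp

open Matrix Cfsg.Agent.Lib.Helper6 Cfsg.Agent.Lib.Helper6.SympRoot Cfsg.Agent.Lib.Helper6.AutPSL

/-- a hyperbolic pair -/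
structure HPair (m : ℕ) (F : Type*) [Field F] where
  e : Fin m ⊕ Fin m → F
  f : Fin m ⊕ Fin m → F
  hef : Cfsg.sympForm m F e f = 1

section
variable {m : ℕ} {F : Type*} [Field F]

set_option quotPrecheck false in
local notation "SpG" => ↥(Matrix.symplecticGroup (Fin m) F)
local notation "Vec" => (Fin m ⊕ Fin m → F)
local notation "Bf" => Cfsg.sympForm m F

namespace HPair
variable (P : HPair m F)

theorem hfe : Bf P.f P.e = -1 := by
  rw [B_swap, P.hef]

theorem hee : Bf P.e P.e = 0 := B_self _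

theorem hff : Bf P.f P.f = 0 := B_self _

/-- the swapped pair `(f, -e)` -/
def swap : HPair m F where
  e := P.f
  f := -P.e
  hef := by rw [sympForm_neg_right, P.hfe, neg_neg]

theorem e_ne : P.e ≠ 0 := by
  intro h
  have := P.hef
  rw [h, sympForm_zero_left] at this
  exact zero_ne_one this

theorem f_ne : P.f ≠ 0 := P.swap.e_ne

/-- the orthogonal complement of the pair -/
def W (x : Vec) : Prop := Bf x P.e = 0 ∧ Bf x P.f = 0

/-- the projection to the complement -/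
def proj (x : Vec) : Vec := x - Bf x P.f • P.e + Bf x P.e • P.f

theorem decomp (x : Vec) : x = Bf x P.f • P.e + (- Bf x P.e) • P.f + P.proj x := by
  unfold proj
  module

theorem proj_W (x : Vec) : P.W (P.proj x) := by
  unfold proj W
  simp only [sympForm_add_left, sympForm_sub_left, sympForm_smul_left, P.hee, P.hff, P.hef, P.hfe]
  constructor <;> ring

theorem proj_of_W {x : Vec} (hx : P.W x) : P.proj x = x := by
  unfold proj
  rw [hx.1, hx.2]
  module

theorem W_zero : P.W 0 := ⟨sympForm_zero_left _, sympForm_zero_left _⟩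

theorem W_add {x y : Vec} (hx : P.W x) (hy : P.W y) : P.W (x + y) :=
  ⟨by rw [sympForm_add_left, hx.1, hy.1, add_zero], by rw [sympForm_add_left, hx.2, hy.2, add_zero]⟩

theorem W_smul (a : F) {x : Vec} (hx : P.W x) : P.W (a • x) :=
  ⟨by rw [sympForm_smul_left, hx.1, mul_zero], by rw [sympForm_smul_left, hx.2, mul_zero]⟩

theorem W_neg {x : Vec} (hx : P.W x) : P.W (-x) := by
  have := P.W_smul (-1) hx
  rwa [neg_one_smul] at this

theorem W_sub {x y : Vec} (hx : P.W x) (hy : P.W y) : P.W (x - y) := by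
  rw [sub_eq_add_neg]
  exact P.W_add hx (P.W_neg hy)

theorem W_swap {x : Vec} (hx : P.W x) : Bf P.e x = 0 ∧ Bf P.f x = 0 :=
  ⟨B_swap_zero hx.1, B_swap_zero hx.2⟩

theorem W_of_swap {x : Vec} (hx : P.swap.W x) : P.W x := by
  obtain ⟨h1, h2⟩ := hx
  change Bf x P.f = 0 at h1
  change Bf x (-P.e) = 0 at h2
  rw [sympForm_neg_right, neg_eq_zero] at h2
  exact ⟨h2, h1⟩

theorem swap_W {x : Vec} (hx : P.W x) : P.swap.W x := by
  refine ⟨hx.2, ?_⟩
  change Bf x (-P.e) = 0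
  rw [sympForm_neg_right, hx.1, neg_zero]

theorem proj_add (x y : Vec) : P.proj (x + y) = P.proj x + P.proj y := by
  unfold proj
  rw [sympForm_add_left, sympForm_add_left]
  module

theorem proj_smul (a : F) (x : Vec) : P.proj (a • x) = a • P.proj x := by
  unfold proj
  rw [sympForm_smul_left, sympForm_smul_left]
  module

theorem proj_e : P.proj P.e = 0 := by
  unfold proj
  rw [P.hee, P.hef]
  module

theorem proj_f : P.proj P.f = 0 := by
  unfold proj
  rw [P.hff, P.hfe]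
  module

theorem B_proj (x y : Vec) (hx : P.W x) : Bf x (P.proj y) = Bf x y := by
  unfold proj
  obtain ⟨h1, h2⟩ := hx
  rw [sympForm_add_right, sympForm_sub_right, sympForm_smul_right, sympForm_smul_right, h1, h2]
  ring

theorem W_nondeg {x : Vec} (hx : P.W x) (h : ∀ y, P.W y → Bf x y = 0) : x = 0 := by
  apply B_nondeg
  intro y
  rw [← P.B_proj x y hx]
  exact h _ (P.proj_W y)

theorem exists_W_partner {x : Vec} (hx : P.W x) (hx0 : x ≠ 0) : ∃ y, P.W y ∧ Bf x y = 1 := by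
  have : ∃ y, P.W y ∧ Bf x y ≠ 0 := by
    by_contra hcon
    push Not at hcon
    exact hx0 (P.W_nondeg hx hcon)
  obtain ⟨y, hy, hxy⟩ := this
  refine ⟨(Bf x y)⁻¹ • y, P.W_smul _ hy, ?_⟩
  rw [sympForm_smul_right, inv_mul_cancel₀ hxy]

/-- the Siegel element `x ↦ x + B(e,x) w + (B(w,x) + b B(e,x)) e` -/
def sg (w : Vec) (b : F) : SpG := tv (P.e - w) 1 * tv w (-1) * tv P.e (-1 - b)

theorem av_sg (w : Vec) (b : F) (hw : P.W w) (x : Vec) :
    av (P.sg w b) x = x + Bf P.e x • w + (Bf w x + b * Bf P.e x) • P.e := by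
  have h1 : Bf x P.e = - Bf P.e x := B_swap _ _
  have h2 : Bf x w = - Bf w x := B_swap _ _
  have h3 := (P.W_swap hw).1
  unfold sg
  rw [av_mul, av_mul, av_tv, av_tv, av_tv]
  simp only [sympForm_add_left, sympForm_smul_left, sympForm_sub_right, P.hee, hw.1, h3, B_self,
    h1, h2]
  module

theorem sg_mem (w : Vec) (b : F) (hw : P.W w) : P.sg w b ∈ Qv P.e := by
  refine ⟨?_, ?_⟩
  · rw [P.av_sg w b hw, P.hee, hw.1]
    simp
  · intro x hx
    refine ⟨Bf w x, ?_⟩
    rw [P.av_sg w b hw, B_swap_zero hx]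
    simp

theorem av_sg_f (w : Vec) (b : F) (hw : P.W w) : av (P.sg w b) P.f = P.f + w + b • P.e := by
  rw [P.av_sg w b hw, P.hef, hw.2]
  simp

theorem av_sg_W (w : Vec) (b : F) (hw : P.W w) (x : Vec) (hx : P.W x) :
    av (P.sg w b) x = x + Bf w x • P.e := by
  rw [P.av_sg w b hw, (P.W_swap hx).1]
  simp

/-- the `W`-coordinate of an element of `Qv e` -/
def wc (g : SpG) : Vec := P.proj (av g P.f)

/-- the `e`-coordinate of an element of `Qv e` -/
def bc (g : SpG) : F := Bf (av g P.f) P.f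

theorem av_f_eq (g : SpG) (hg : av g P.e = P.e) : av g P.f = P.f + P.wc g + P.bc g • P.e := by
  have h1 : Bf (av g P.f) P.e = -1 := by
    conv_lhs => rw [← hg]
    rw [B_av, P.hfe]
  unfold wc bc
  conv_lhs => rw [P.decomp (av g P.f), h1]
  module

theorem wc_W (g : SpG) : P.W (P.wc g) := P.proj_W _

theorem wc_bc_of (g : SpG) (w : Vec) (b : F) (hw : P.W w)
    (h : av g P.f = P.f + w + b • P.e) : P.wc g = w ∧ P.bc g = b := by
  unfold wc bc
  rw [h]
  constructor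
  · rw [proj_add, proj_add, proj_smul, proj_e, proj_f, P.proj_of_W hw]
    module
  · rw [sympForm_add_left, sympForm_add_left, sympForm_smul_left, P.hff, hw.2, P.hef]
    ring

theorem wc_sg (w : Vec) (b : F) (hw : P.W w) : P.wc (P.sg w b) = w :=
  (P.wc_bc_of _ w b hw (P.av_sg_f w b hw)).1

theorem bc_sg (w : Vec) (b : F) (hw : P.W w) : P.bc (P.sg w b) = b :=
  (P.wc_bc_of _ w b hw (P.av_sg_f w b hw)).2

/-- an element of `Qv e` fixing `f` is trivial -/
theorem Qv_eq_one (k : SpG) (hk : k ∈ Qv P.e) (hf : av k P.f = P.f) : k = 1 := by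
  apply ext_av
  intro x
  rw [av_one]
  have hW : ∀ w, P.W w → av k w = w := by
    intro w hw
    obtain ⟨t, ht⟩ := hk.2 w hw.1
    have h1 : Bf (av k w) (av k P.f) = 0 := by rw [B_av, hw.2]
    rw [hf, ht, sympForm_add_left, sympForm_smul_left, hw.2, P.hef] at h1
    have ht0 : t = 0 := by linear_combination h1
    rw [ht, ht0, zero_smul, add_zero]
  conv_lhs => rw [P.decomp x]
  rw [av_add, av_add, av_smul, av_smul, hk.1, hf, hW _ (P.proj_W x)]
  exact (P.decomp x).symm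

theorem Qv_ext (g g' : SpG) (hg : g ∈ Qv P.e) (hg' : g' ∈ Qv P.e)
    (h : av g P.f = av g' P.f) : g = g' := by
  have h1 : g'⁻¹ * g ∈ Qv P.e := (Qv P.e).mul_mem ((Qv P.e).inv_mem hg') hg
  have h2 : av (g'⁻¹ * g) P.f = P.f := by rw [av_mul, h, av_inv_av]
  have := P.Qv_eq_one _ h1 h2
  calc g = g' * (g'⁻¹ * g) := by group
    _ = g' := by rw [this, mul_one]

theorem Qv_ext' (g g' : SpG) (hg : g ∈ Qv P.e) (hg' : g' ∈ Qv P.e)
    (hw : P.wc g = P.wc g') (hb : P.bc g = P.bc g') : g = g' := by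
  apply P.Qv_ext g g' hg hg'
  rw [P.av_f_eq g hg.1, P.av_f_eq g' hg'.1, hw, hb]

theorem Qv_eq_sg (g : SpG) (hg : g ∈ Qv P.e) : g = P.sg (P.wc g) (P.bc g) := by
  apply P.Qv_ext' g _ hg (P.sg_mem _ _ (P.wc_W g))
  · rw [P.wc_sg _ _ (P.wc_W g)]
  · rw [P.bc_sg _ _ (P.wc_W g)]

theorem av_Qv (g : SpG) (hg : g ∈ Qv P.e) (x : Vec) :
    av g x = x + Bf P.e x • P.wc g + (Bf (P.wc g) x + P.bc g * Bf P.e x) • P.e := by
  conv_lhs => rw [P.Qv_eq_sg g hg]
  exact P.av_sg _ _ (P.wc_W g) x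

theorem sg_mul (w w' : Vec) (b b' : F) (hw : P.W w) (hw' : P.W w') :
    P.sg w b * P.sg w' b' = P.sg (w + w') (b + b' + Bf w w') := by
  apply P.Qv_ext _ _ ((Qv P.e).mul_mem (P.sg_mem w b hw) (P.sg_mem w' b' hw'))
    (P.sg_mem _ _ (P.W_add hw hw'))
  rw [av_mul, P.av_sg_f w' b' hw', av_add, av_add, av_smul, P.av_sg_f w b hw,
    P.av_sg_W w b hw w' hw', (P.sg_mem w b hw).1, P.av_sg_f _ _ (P.W_add hw hw')]
  module

theorem wc_mul (g g' : SpG) (hg : g ∈ Qv P.e) (hg' : g' ∈ Qv P.e) :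
    P.wc (g * g') = P.wc g + P.wc g' := by
  conv_lhs => rw [P.Qv_eq_sg g hg, P.Qv_eq_sg g' hg', P.sg_mul _ _ _ _ (P.wc_W g) (P.wc_W g')]
  rw [P.wc_sg _ _ (P.W_add (P.wc_W g) (P.wc_W g'))]

theorem bc_mul (g g' : SpG) (hg : g ∈ Qv P.e) (hg' : g' ∈ Qv P.e) :
    P.bc (g * g') = P.bc g + P.bc g' + Bf (P.wc g) (P.wc g') := by
  conv_lhs => rw [P.Qv_eq_sg g hg, P.Qv_eq_sg g' hg', P.sg_mul _ _ _ _ (P.wc_W g) (P.wc_W g')]
  rw [P.bc_sg _ _ (P.W_add (P.wc_W g) (P.wc_W g'))]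

theorem wc_one : P.wc (1 : SpG) = 0 := by
  unfold wc
  rw [av_one, proj_f]

theorem bc_one : P.bc (1 : SpG) = 0 := by
  unfold bc
  rw [av_one, P.hff]

theorem wc_inv (g : SpG) (hg : g ∈ Qv P.e) : P.wc g⁻¹ = - P.wc g := by
  have := P.wc_mul g g⁻¹ hg ((Qv P.e).inv_mem hg)
  rw [mul_inv_cancel, wc_one] at this
  exact (neg_eq_of_add_eq_zero_right this.symm).symm

theorem sg_zero : P.sg 0 0 = 1 := by
  apply P.Qv_ext _ _ (P.sg_mem 0 0 P.W_zero) (Qv P.e).one_mem
  rw [P.av_sg_f 0 0 P.W_zero, av_one]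
  module

theorem sg_tv (c : F) : P.sg 0 c = tv P.e (-c) := by
  apply ext_av
  intro x
  rw [P.av_sg 0 c P.W_zero, av_tv, sympForm_zero_left, B_swap x P.e]
  module

theorem wc_tv (c : F) : P.wc (tv P.e c) = 0 := by
  have : tv P.e c = P.sg 0 (-c) := by rw [sg_tv, neg_neg]
  rw [this, P.wc_sg _ _ P.W_zero]

theorem bc_tv (c : F) : P.bc (tv P.e c) = -c := by
  have : tv P.e c = P.sg 0 (-c) := by rw [sg_tv, neg_neg]
  rw [this, P.bc_sg _ _ P.W_zero]

theorem mem_Tp_of_wc (g : SpG) (hg : g ∈ Qv P.e) (h : P.wc g = 0) : g ∈ Tp P.e := by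
  rw [P.Qv_eq_sg g hg, h, sg_tv]
  exact tv_mem _ _

/-- an element fixing `e` and commuting with all Siegel elements lies in `Qv e` -/
theorem mem_Qv_of_comm (z : SpG) (hz : av z P.e = P.e)
    (hcomm : ∀ (w : Vec), P.W w → z * P.sg w 0 = P.sg w 0 * z) : z ∈ Qv P.e := by
  obtain ⟨d, hd⟩ : ∃ d, d = av z P.f - P.f := ⟨_, rfl⟩
  have hzf : av z P.f = P.f + d := by rw [hd]; abel
  have hde : Bf P.e d = 0 := by
    rw [hd, sympForm_sub_right, P.hef]
    have : Bf P.e (av z P.f) = Bf (av z P.e) (av z P.f) := by rw [hz]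
    rw [this, B_av, P.hef, sub_self]
  have key : ∀ w, P.W w → av z w = w + Bf w d • P.e := by
    intro w hw
    have h1 := congrArg (fun g => av g P.f) (hcomm w hw)
    simp only [av_mul] at h1
    rw [P.av_sg_f w 0 hw, av_add, av_add, av_smul, hz, hzf, P.av_sg w 0 hw] at h1
    simp only [sympForm_add_right, P.hef, hde, hw.2] at h1
    have h2 : av z w = (P.f + d + (1 + 0 : F) • w + (0 + Bf w d + 0 * (1 + 0)) • P.e) - (P.f + d)
        - (0 : F) • P.e := by rw [← h1]; abel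
    rw [h2]
    module
  refine ⟨hz, ?_⟩
  intro x hx
  obtain ⟨y, hy⟩ : ∃ y, y = P.proj x := ⟨_, rfl⟩
  obtain ⟨c, hc⟩ : ∃ c, c = Bf x P.f := ⟨_, rfl⟩
  have hyW : P.W y := by rw [hy]; exact P.proj_W x
  have h3 : x = c • P.e + y := by
    rw [hy, hc]
    conv_lhs => rw [P.decomp x, hx]
    module
  refine ⟨Bf y d, ?_⟩
  rw [h3, av_add, av_smul, hz, key _ hyW]
  module

/-- in odd characteristic such an element is a transvection -/
theorem mem_Tp_of_comm (h2 : (2 : F) ≠ 0) (z : SpG) (hz : av z P.e = P.e)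
    (hcomm : ∀ (w : Vec), P.W w → z * P.sg w 0 = P.sg w 0 * z) : z ∈ Tp P.e := by
  have hQ := P.mem_Qv_of_comm z hz hcomm
  apply P.mem_Tp_of_wc z hQ
  apply P.W_nondeg (P.wc_W z)
  intro w hw
  have h1 := hcomm w hw
  have h3 := congrArg P.bc h1
  rw [P.bc_mul _ _ hQ (P.sg_mem w 0 hw), P.bc_mul _ _ (P.sg_mem w 0 hw) hQ, P.wc_sg w 0 hw,
    B_swap w (P.wc z)] at h3
  have h4 : (2 : F) * Bf (P.wc z) w = 0 := by linear_combination h3
  rcases mul_eq_zero.mp h4 with h | h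
  · exact absurd h h2
  · exact h

end HPair

/-- every non-zero vector is the first vector of a hyperbolic pair -/
theorem exists_hpair (u : Vec) (hu : u ≠ 0) : ∃ P : HPair m F, P.e = u := by
  obtain ⟨a, ha⟩ := Cfsg.Agent.S0768.nondeg u hu
  exact ⟨⟨u, a, ha⟩, rfl⟩

end

end Cfsg.Agent.Lib.Helper6.AutPSp
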