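import Mathlib
import Cfsg.Agent.Lib.Helper6.AutPSp2

/-!
# Automorphisms of `PSp_{2m}(q)`, part 3: Sylow subgroups, their centres, and the root subgroups
of `PSp`
-/

set_option autoImplicit false
set_option linter.unusedSectionVars false
set_option linter.unusedVariables false
open Cfsg

namespace Cfsg.Agent.Lib.Helper6.AutPSp

open Matrix Cfsg.Agent.Lib.Helper6 Cfsg.Agent.Lib.Helper6.SympRoot Cfsg.Agent.Lib.Helper6.AutPSL
open scoped Pointwise

section
variable {m : ℕ} {F : Type*} [Field F]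

set_option quotPrecheck false in
local notation "SpG" => ↥(Matrix.symplecticGroup (Fin m) F)
local notation "Vec" => (Fin m ⊕ Fin m → F)
local notation "Bf" => Cfsg.sympForm m F

theorem tv_pow_nat (u : Vec) (c : F) (n : ℕ) : tv u c ^ n = tv u (n * c) := by
  induction n with
  | zero => rw [pow_zero, Nat.cast_zero, zero_mul, tv_zero]
  | succ k ih =>
    rw [pow_succ, ih, tv_mul]
    congr 1
    push_cast
    ring

theorem tv_pow_char (p : ℕ) [CharP F p] (u : Vec) (c : F) : tv u c ^ p = 1 := by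
  rw [tv_pow_nat, CharP.cast_eq_zero F p, zero_mul, tv_zero]

theorem tv_pow_char' (p : ℕ) [CharP F p] (u : Vec) (c : F) : tv u c ^ (p ^ 1) = 1 := by
  rw [pow_one]
  exact tv_pow_char p u c

/-- the root subgroup of `PSp` attached to the vector `u` -/
noncomputable def Rb (u : Vec) : Subgroup (Cfsg.PSp m F) := (Tp u).map pu

theorem mem_Rb (u : Vec) (x : Cfsg.PSp m F) : x ∈ Rb u ↔ ∃ c : F, x = pu (tv u c) := by
  unfold Rb
  rw [Subgroup.mem_map]
  constructor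
  · rintro ⟨g, hg, rfl⟩
    obtain ⟨c, rfl⟩ := (mem_Tp_iff u g).mp hg
    exact ⟨c, rfl⟩
  · rintro ⟨c, rfl⟩
    exact ⟨_, tv_mem u c, rfl⟩

theorem Rb_smul (a : F) (ha : a ≠ 0) (u : Vec) : Rb (a • u) = Rb u := by
  unfold Rb
  rw [Tp_smul a ha u]

theorem img_conj_Rb (g : SpG) (u : Vec) :
    img (MulAut.conj (pu g)) (Rb u) = Rb (av g u) := by
  ext x
  rw [mem_img, mem_Rb]
  constructor
  · rintro ⟨y, hy, rfl⟩
    obtain ⟨c, rfl⟩ := (mem_Rb u y).mp hy
    refine ⟨c, ?_⟩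
    rw [MulAut.conj_apply, ← map_inv, ← map_mul, ← map_mul, conj_tv]
    rfl
  · rintro ⟨c, rfl⟩
    refine ⟨pu (tv u c), (mem_Rb u _).mpr ⟨c, rfl⟩, ?_⟩
    rw [MulAut.conj_apply, ← map_inv, ← map_mul, ← map_mul, conj_tv]
    rfl

theorem tv_eq_imp (u u' : Vec) (hu0 : u ≠ 0) (c c' : F) (hc : c ≠ 0)
    (h : tv u c = tv u' c') : ∃ a : F, a ≠ 0 ∧ u = a • u' := by
  obtain ⟨x, hx⟩ := Cfsg.Agent.S0768.nondeg u hu0
  have hx' : Bf x u = -1 := by rw [B_swap, hx]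
  have h1 := congrArg (fun g => av g x) h
  simp only [av_tv] at h1
  rw [hx'] at h1
  have h2 : (c * -1) • u = (c' * Bf x u') • u' := add_left_cancel h1
  have h3 : u = ((c * -1)⁻¹ * (c' * Bf x u')) • u' := by
    rw [← smul_smul, ← h2, smul_smul, inv_mul_cancel₀ (by simpa using hc), one_smul]
  refine ⟨_, ?_, h3⟩
  intro h0
  rw [h0, zero_smul] at h3
  exact hu0 h3

theorem exists_form_ne (u : Vec) (hu0 : u ≠ 0) : ∃ c : F, c ≠ 0 := ⟨1, one_ne_zero⟩

theorem Rb_le_imp (p : ℕ) [hp : Fact p.Prime] [CharP F p] (hm : 1 ≤ m) (u u' : Vec)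
    (hu0 : u ≠ 0) (h : Rb u ≤ Rb u') : ∃ a : F, a ≠ 0 ∧ u = a • u' := by
  have h1 : pu (tv u 1) ∈ Rb u' := h ((mem_Rb u _).mpr ⟨1, rfl⟩)
  obtain ⟨c', hc'⟩ := (mem_Rb u' _).mp h1
  have h2 := eq_of_pu_eq (p := p) hm _ _ 1 (tv_pow_char' p u 1) (tv_pow_char' p u' c') hc'
  exact tv_eq_imp u u' hu0 1 c' one_ne_zero h2

theorem tv_comm_of_perp (u u' : Vec) (h : Bf u' u = 0) (c c' : F) :
    tv u c * tv u' c' = tv u' c' * tv u c :=
  tv_comm_of_orth u u' (B_swap_zero h) c c'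

theorem Rb_comm_iff (p : ℕ) [hp : Fact p.Prime] [CharP F p] (hm : 1 ≤ m) (u u' : Vec)
    (hu0 : u ≠ 0) (hu'0 : u' ≠ 0) :
    (∀ x ∈ Rb u, ∀ y ∈ Rb u', x * y = y * x) ↔ Bf u' u = 0 := by
  constructor
  · intro h
    have h1 := h _ ((mem_Rb u _).mpr ⟨1, rfl⟩) _ ((mem_Rb u' _).mpr ⟨1, rfl⟩)
    have h2 := comm_of_pu_comm (p := p) hm (tv u 1) (tv u' 1) 1 (tv_pow_char' p u' 1) h1
    have h3 := orth_of_tv_comm u u' hu'0 h2
    exact h3
  · intro h x hx y hy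
    obtain ⟨c, rfl⟩ := (mem_Rb u x).mp hx
    obtain ⟨c', rfl⟩ := (mem_Rb u' y).mp hy
    rw [← map_mul, ← map_mul, tv_comm_of_perp u u' h]

end

section
variable {m : ℕ} {F : Type*} [Field F] [Fintype F]
variable {p : ℕ} [hp : Fact p.Prime] [CharP F p]

set_option quotPrecheck false in
local notation "SpG" => ↥(Matrix.symplecticGroup (Fin m) F)
local notation "Vec" => (Fin m ⊕ Fin m → F)
local notation "Bf" => Cfsg.sympForm m F

theorem p_dvd_card_F : p ∣ Fintype.card F := by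
  have h := Nat.cast_card_eq_zero F
  exact (CharP.cast_eq_zero_iff F p _).mp h

/-- a `p`-subgroup of the symplectic group fixes a non-zero vector -/
theorem exists_fixed (hm : 1 ≤ m) (U : Subgroup SpG) (hU : IsPGroup p U) :
    ∃ u : Vec, u ≠ 0 ∧ ∀ g ∈ U, av g u = u := by
  classical
  let act : MulAction ↥U Vec :=
    { smul := fun g v => av g.1 v
      one_smul := fun v => av_one v
      mul_smul := fun g h v => av_mul g.1 h.1 v }
  have hsm : ∀ (g : ↥U) (v : Vec), g • v = av g.1 v := fun g v => rfl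
  have hcard : p ∣ Nat.card Vec := by
    rw [Nat.card_eq_fintype_card, Fintype.card_fun]
    apply dvd_pow (p_dvd_card_F (p := p))
    rw [Fintype.card_sum, Fintype.card_fin]
    omega
  have h0 : (0 : Vec) ∈ MulAction.fixedPoints ↥U Vec := fun g => av_zero g.1
  obtain ⟨v, hv, hv0⟩ := hU.exists_fixed_point_of_prime_dvd_card_of_fixed_point _ hcard h0
  exact ⟨v, fun h => hv0 h.symm, fun g hg => hv ⟨g, hg⟩⟩

/-- a Sylow `p`-subgroup fixing the vector `u` contains `Qv u` -/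
theorem Qv_le_sylow (hm : 1 ≤ m) (u : Vec)
    (S : Sylow p SpG) (hS : ∀ g ∈ S, av g u = u) : Qv u ≤ (S : Subgroup SpG) := by
  have h1 : (S : Subgroup SpG) ≤ Subgroup.normalizer ((Qv u : Subgroup SpG) : Set SpG) :=
    fun g hg => Fx_le_normalizer_Qv u (hS g hg)
  have h2 : IsPGroup p ((S : Subgroup SpG) ⊔ Qv u : Subgroup SpG) :=
    IsPGroup.to_sup_of_normal_right' S.2 (isPGroup_Qv p hm u) h1
  have h3 := S.is_maximal' h2 le_sup_left
  rw [← h3]
  exact le_sup_right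

variable (P : HPair m F)

/-- the centre of a Sylow `p`-subgroup fixing `e` lies in `Qv e` -/
theorem sylow_center_le_Qv (hm : 1 ≤ m) (S : Sylow p SpG) (hS : ∀ g ∈ S, av g P.e = P.e)
    (z : SpG) (hz : z ∈ S) (hcomm : ∀ y ∈ S, z * y = y * z) : z ∈ Qv P.e := by
  have hQ := Qv_le_sylow (p := p) hm P.e S hS
  apply P.mem_Qv_of_comm z (hS z hz)
  intro w hw
  exact hcomm _ (hQ (P.sg_mem w 0 hw))

/-- in odd characteristic the centre of a Sylow `p`-subgroup fixing `e` lies in `Tp e` -/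
theorem sylow_center_le_Tp (hm : 1 ≤ m) (h2 : (2 : F) ≠ 0) (S : Sylow p SpG)
    (hS : ∀ g ∈ S, av g P.e = P.e)
    (z : SpG) (hz : z ∈ S) (hcomm : ∀ y ∈ S, z * y = y * z) : z ∈ Tp P.e := by
  have hQ := Qv_le_sylow (p := p) hm P.e S hS
  apply P.mem_Tp_of_comm h2 z (hS z hz)
  intro w hw
  exact hcomm _ (hQ (P.sg_mem w 0 hw))

theorem Tp_le_sylow_center (hm : 1 ≤ m) (u : Vec) (S : Sylow p SpG)
    (hS : ∀ g ∈ S, av g u = u)
    (z : SpG) (hz : z ∈ Tp u) : z ∈ S ∧ ∀ y ∈ S, z * y = y * z := by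
  have hQ := Qv_le_sylow (p := p) hm u S hS
  refine ⟨hQ (Tp_le_Qv u hz), ?_⟩
  intro y hy
  obtain ⟨c, rfl⟩ := (mem_Tp_iff u z).mp hz
  have h1 := conj_tv y u c
  change y * tv u c * y⁻¹ = tv (av y u) c at h1
  rw [hS y hy] at h1
  calc tv u c * y = y * tv u c * y⁻¹ * y := by rw [h1]
    _ = y * tv u c := by group

theorem sylow_pow (S : Sylow p SpG) (y : SpG) (hy : y ∈ S) : ∃ k : ℕ, y ^ (p ^ k) = 1 := by
  obtain ⟨k, hk⟩ := S.2 ⟨y, hy⟩
  refine ⟨k, ?_⟩
  have := congrArg Subtype.val hk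
  rwa [Subgroup.coe_pow] at this

/-- the centre of the image of a Sylow subgroup fixing `u` contains the root subgroup -/
theorem Rb_le_cen_sylow_map (hm : 1 ≤ m) (u : Vec)
    (S : Sylow p SpG) (hS : ∀ g ∈ S, av g u = u) :
    Rb u ≤ AutPSU.cen ((S : Subgroup SpG).map pu) := by
  intro x hx
  rw [AutPSU.mem_cen]
  obtain ⟨z, hz, rfl⟩ := Subgroup.mem_map.mp hx
  obtain ⟨h1, h2⟩ := Tp_le_sylow_center (p := p) hm u S hS z hz
  refine ⟨Subgroup.mem_map_of_mem _ h1, ?_⟩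
  intro y hy
  obtain ⟨y', hy', rfl⟩ := Subgroup.mem_map.mp hy
  rw [← map_mul, ← map_mul, h2 y' hy']

/-- the centre of the image of a Sylow subgroup fixing `e` lies in the image of `Qv e` -/
theorem cen_sylow_map_le (hm : 1 ≤ m)
    (S : Sylow p SpG) (hS : ∀ g ∈ S, av g P.e = P.e) (x : Cfsg.PSp m F)
    (hx : x ∈ AutPSU.cen ((S : Subgroup SpG).map pu)) :
    ∃ z : SpG, z ∈ Qv P.e ∧ pu z = x := by
  rw [AutPSU.mem_cen] at hx
  obtain ⟨hx, hcomm⟩ := hx
  obtain ⟨z, hz, rfl⟩ := Subgroup.mem_map.mp hx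
  have h1 : ∀ y ∈ S, z * y = y * z := by
    intro y hy
    obtain ⟨k, hk⟩ := sylow_pow S y hy
    exact comm_of_pu_comm (p := p) hm z y k hk (hcomm _ (Subgroup.mem_map_of_mem _ hy)).symm
  exact ⟨z, sylow_center_le_Qv (p := p) P hm S hS z hz h1, rfl⟩

/-- in odd characteristic, the centre of the image of a Sylow subgroup fixing `e` is the root
subgroup -/
theorem cen_sylow_map (hm : 1 ≤ m) (h2 : (2 : F) ≠ 0)
    (S : Sylow p SpG) (hS : ∀ g ∈ S, av g P.e = P.e) :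
    AutPSU.cen ((S : Subgroup SpG).map pu) = Rb P.e := by
  apply le_antisymm _ (Rb_le_cen_sylow_map (p := p) hm P.e S hS)
  intro x hx
  rw [AutPSU.mem_cen] at hx
  obtain ⟨hx, hcomm⟩ := hx
  obtain ⟨z, hz, rfl⟩ := Subgroup.mem_map.mp hx
  have h1 : ∀ y ∈ S, z * y = y * z := by
    intro y hy
    obtain ⟨k, hk⟩ := sylow_pow S y hy
    exact comm_of_pu_comm (p := p) hm z y k hk (hcomm _ (Subgroup.mem_map_of_mem _ hy)).symm
  exact Subgroup.mem_map_of_mem _ (sylow_center_le_Tp (p := p) P hm h2 S hS z hz h1)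

/-- every Sylow `p`-subgroup of `PSp` is the image of a Sylow `p`-subgroup of `Sp` -/
theorem exists_sylow_rep (Sb : Sylow p (Cfsg.PSp m F)) :
    ∃ S : Sylow p SpG, (Sb : Subgroup (Cfsg.PSp m F)) = (S : Subgroup SpG).map pu := by
  classical
  let S0 : Sylow p SpG := default
  let Sb0 : Sylow p (Cfsg.PSp m F) := S0.mapSurjective pu_surjective
  have hSb0 : (Sb0 : Subgroup _) = (S0 : Subgroup SpG).map pu := by
    rw [Sylow.coe_mapSurjective]
  obtain ⟨gb, hgb⟩ := MulAction.exists_smul_eq (Cfsg.PSp m F) Sb0 Sb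
  obtain ⟨g, rfl⟩ := pu_surjective gb
  refine ⟨g • S0, ?_⟩
  rw [← hgb]
  ext x
  rw [Sylow.smul_def, Sylow.pointwise_smul_def, Subgroup.mem_pointwise_smul_iff_inv_smul_mem, hSb0,
    Subgroup.mem_map, Subgroup.mem_map]
  constructor
  · rintro ⟨s, hs, hsx⟩
    refine ⟨g * s * g⁻¹, ?_, ?_⟩
    · rw [Sylow.smul_def, Sylow.pointwise_smul_def, Subgroup.mem_pointwise_smul_iff_inv_smul_mem]
      change (MulAut.conj g)⁻¹ (g * s * g⁻¹) ∈ S0
      rw [← map_inv, MulAut.conj_apply]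
      have : g⁻¹ * (g * s * g⁻¹) * g⁻¹⁻¹ = s := by group
      rw [this]
      exact hs
    · rw [map_mul, map_mul, map_inv, hsx]
      change pu g * ((MulAut.conj (pu g))⁻¹ x) * (pu g)⁻¹ = x
      rw [← map_inv, MulAut.conj_apply]
      group
  · rintro ⟨s, hs, rfl⟩
    rw [Sylow.smul_def, Sylow.pointwise_smul_def, Subgroup.mem_pointwise_smul_iff_inv_smul_mem] at hs
    refine ⟨(MulAut.conj g)⁻¹ s, hs, ?_⟩
    change _ = (MulAut.conj (pu g))⁻¹ (pu s)
    rw [← map_inv, ← map_inv, MulAut.conj_apply, MulAut.conj_apply, map_mul, map_mul]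
    simp only [map_inv]

/-- some Sylow `p`-subgroup fixes a given non-zero vector -/
theorem exists_sylow_fixing (hm : 1 ≤ m) (u : Vec) (hu0 : u ≠ 0) :
    ∃ S : Sylow p SpG, ∀ g ∈ S, av g u = u := by
  classical
  let S0 : Sylow p SpG := default
  obtain ⟨u₀, hu₀0, hS0⟩ := exists_fixed (p := p) hm (S0 : Subgroup SpG) S0.2
  obtain ⟨t, ht⟩ := exists_map u₀ u hu₀0 hu0
  change av t u₀ = u at ht
  refine ⟨t • S0, ?_⟩
  intro g hg
  rw [Sylow.smul_def] at hg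
  change g ∈ ((MulAut.conj t • S0 : Sylow p SpG) : Subgroup SpG) at hg
  rw [Sylow.pointwise_smul_def, Subgroup.mem_pointwise_smul_iff_inv_smul_mem] at hg
  change (MulAut.conj t)⁻¹ g ∈ S0 at hg
  rw [← map_inv, MulAut.conj_apply, inv_inv] at hg
  have h1 := hS0 _ hg
  rw [av_mul, av_mul, ht] at h1
  have h2 := congrArg (av t) h1
  rw [av_av_inv, ht] at h2
  exact h2

theorem img_sylow (γ : MulAut (Cfsg.PSp m F)) (Sb : Sylow p (Cfsg.PSp m F)) :
    img γ (Sb : Subgroup (Cfsg.PSp m F)) = ((γ • Sb : Sylow p (Cfsg.PSp m F)) : Subgroup _) := by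
  ext x
  rw [mem_img', Sylow.pointwise_smul_def, Subgroup.mem_pointwise_smul_iff_inv_smul_mem]
  rfl

/-- in odd characteristic automorphisms of `PSp` permute the root subgroups -/
theorem root_perm_odd (p : ℕ) [hp : Fact p.Prime] [CharP F p] (hm : 1 ≤ m) (h2 : (2 : F) ≠ 0)
    (γ : MulAut (Cfsg.PSp m F)) (u : Vec) (hu0 : u ≠ 0) :
    ∃ u' : Vec, u' ≠ 0 ∧ img γ (Rb u) = Rb u' := by
  classical
  obtain ⟨S, hS⟩ := exists_sylow_fixing (p := p) hm u hu0
  let Sb : Sylow p (Cfsg.PSp m F) := S.mapSurjective pu_surjective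
  have hSb : (Sb : Subgroup _) = (S : Subgroup SpG).map pu := by
    rw [Sylow.coe_mapSurjective]
  obtain ⟨S', hS'⟩ := exists_sylow_rep (γ • Sb)
  obtain ⟨u', hu'0, hS'u⟩ := exists_fixed (p := p) hm (S' : Subgroup SpG) S'.2
  refine ⟨u', hu'0, ?_⟩
  have h1 : img γ ((S : Subgroup SpG).map pu) = (S' : Subgroup SpG).map pu := by
    rw [← hS', ← hSb, img_sylow]
  obtain ⟨P, hP⟩ := exists_hpair u hu0
  obtain ⟨P', hP'⟩ := exists_hpair u' hu'0
  subst hP hP'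
  rw [← cen_sylow_map (p := p) P hm h2 S hS, AutPSU.img_cen, h1,
    cen_sylow_map (p := p) P' hm h2 S' hS'u]

end

end Cfsg.Agent.Lib.Helper6.AutPSp
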