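import Mathlib
import Cfsg.Agent.Lib.Helper6.AutPSp3

/-!
# Automorphisms of `PSp_{2m}(q)`, part 4: characteristic two.  Transvections are not squares,
the other elements of the unipotent radical are; automorphisms permute the root subgroups.
-/

set_option autoImplicit false
set_option linter.unusedSectionVars false
set_option linter.unusedVariables false
open Cfsg

namespace Cfsg.Agent.Lib.Helper6.AutPSp

open Matrix Cfsg.Agent.Lib.Helper6 Cfsg.Agent.Lib.Helper6.SympRoot Cfsg.Agent.Lib.Helper6.AutPSL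
open scoped Pointwise

section
variable {m : ℕ} {F : Type*} [Field F]

set_option quotPrecheck false in
local notation "SpG" => ↥(Matrix.symplecticGroup (Fin m) F)
local notation "Vec" => (Fin m ⊕ Fin m → F)
local notation "Bf" => Cfsg.sympForm m F

theorem vec_add_self (h2 : (2 : F) = 0) (v : Vec) : v + v = 0 := by
  rw [← two_smul F v, h2, zero_smul]

theorem vec_neg (h2 : (2 : F) = 0) (v : Vec) : -v = v :=
  neg_eq_of_add_eq_zero_left (vec_add_self h2 v)

theorem F_add_self (h2 : (2 : F) = 0) (a : F) : a + a = 0 := by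
  rw [← two_mul, h2, zero_mul]

theorem F_neg (h2 : (2 : F) = 0) (a : F) : -a = a :=
  neg_eq_of_add_eq_zero_left (F_add_self h2 a)

/-- in characteristic two the projection to `PSp` is injective -/
theorem pu_inj_two (hm : 1 ≤ m) (h2 : (2 : F) = 0) (x y : SpG) (h : pu x = pu y) : x = y := by
  have hz : x⁻¹ * y ∈ Subgroup.center SpG := (pu_eq_iff x y).mp h
  have h1 : x⁻¹ * y = 1 := by
    rcases center_cases hm _ hz with h3 | h3
    · exact h3
    · rw [h3]
      apply ext_av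
      intro v
      rw [av_negOne, av_one, vec_neg h2]
  exact inv_mul_eq_one.mp h1

variable (P : HPair m F)

/-- conjugation of Siegel elements by elements stabilising the two points of the pair -/
theorem sg_conj (k : SpG) (l : F) (hl : l ≠ 0) (hke : av k P.e = l • P.e)
    (hkf : av k P.f = l⁻¹ • P.f) (w : Vec) (b : F) (hw : P.W w) :
    P.W (av k w) ∧ k * P.sg w b * k⁻¹ = P.sg (l • av k w) (l * l * b) := by
  have hW : P.W (av k w) := by
    constructor
    · have : Bf (av k w) (av k P.e) = 0 := by rw [B_av, hw.1]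
      rw [hke, sympForm_smul_right] at this
      rcases mul_eq_zero.mp this with h | h
      · exact absurd h hl
      · exact h
    · have : Bf (av k w) (av k P.f) = 0 := by rw [B_av, hw.2]
      rw [hkf, sympForm_smul_right] at this
      rcases mul_eq_zero.mp this with h | h
      · exact absurd h (inv_ne_zero hl)
      · exact h
  refine ⟨hW, ?_⟩
  have hkf' : av k⁻¹ P.f = l • P.f := by
    have := av_inv_av k P.f
    rw [hkf, av_smul] at this
    calc av k⁻¹ P.f = l • (l⁻¹ • av k⁻¹ P.f) := by rw [smul_smul, mul_inv_cancel₀ hl, one_smul]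
      _ = l • P.f := by rw [this]
  apply P.Qv_ext _ _ (Qv_conj P.e k l hl hke _ (P.sg_mem w b hw)) (P.sg_mem _ _ (P.W_smul l hW))
  rw [av_mul, av_mul, hkf', av_smul, P.av_sg_f w b hw, av_smul, av_add, av_add, av_smul, hkf, hke,
    P.av_sg_f _ _ (P.W_smul l hW)]
  rw [smul_add, smul_add, smul_smul, mul_inv_cancel₀ hl, one_smul, smul_smul, smul_smul]
  congr 2
  ring

theorem sg_conj_one (k : SpG) (hke : av k P.e = P.e) (hkf : av k P.f = P.f) (w : Vec) (b : F)
    (hw : P.W w) : P.W (av k w) ∧ k * P.sg w b * k⁻¹ = P.sg (av k w) b := by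
  have h := sg_conj P k 1 one_ne_zero (by rw [one_smul]; exact hke)
    (by rw [inv_one, one_smul]; exact hkf) w b hw
  rw [one_smul, one_mul, one_mul] at h
  exact h

/-- in characteristic two a transvection is not a square -/
theorem not_square (h2 : (2 : F) = 0) (u : Vec) (hu0 : u ≠ 0) (c : F) (hc : c ≠ 0) (g : SpG) :
    g * g ≠ tv u c := by
  intro h
  have h1 : g * tv u c * g⁻¹ = tv u c := by rw [← h]; group
  have h1' := conj_tv g u c
  change g * tv u c * g⁻¹ = tv (av g u) c at h1'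
  rw [h1] at h1'
  obtain ⟨a, ha0, ha⟩ := tv_eq_imp (av g u) u (av_ne_zero g hu0) c c hc h1'.symm
  have h3 : tv u c = tv u (a * a * c) := by
    rw [← tv_smul, ← ha]
    exact h1'
  have h4 := tv_injective u hu0 _ _ h3
  have h5 : (a - 1) * (a + 1) = 0 := by
    have : (a * a - 1) * c = 0 := by linear_combination -h4
    rcases mul_eq_zero.mp this with h | h
    · linear_combination h
    · exact absurd h hc
  have ha1 : a = 1 := by
    rcases mul_eq_zero.mp h5 with h | h
    · exact sub_eq_zero.mp h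
    · have : a = -1 := eq_neg_of_add_eq_zero_left h
      rw [this, F_neg h2]
  rw [ha1, one_smul] at ha
  obtain ⟨x, hx⟩ := Cfsg.Agent.S0768.nondeg u hu0
  have hx' : Bf x u = -1 := by rw [B_swap, hx]
  have h6 : av g (av g x) = x + (c * Bf x u) • u := by
    rw [← av_mul, h, av_tv]
  have h7 : Bf (av g x) (av g (av g x)) = Bf x (av g x) := B_av g x (av g x)
  have h8 : Bf (av g x) u = Bf x u := by
    conv_lhs => rw [← ha]
    rw [B_av]
  rw [h6, sympForm_add_right, sympForm_smul_right, h8, hx', B_swap x (av g x)] at h7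
  have h9 : (2 : F) * Bf (av g x) x + c = 0 := by linear_combination h7
  rw [h2, zero_mul, zero_add] at h9
  exact hc h9

end

section
variable {m : ℕ} {F : Type*} [Field F] [Fintype F]

set_option quotPrecheck false in
local notation "SpG" => ↥(Matrix.symplecticGroup (Fin m) F)
local notation "Vec" => (Fin m ⊕ Fin m → F)
local notation "Bf" => Cfsg.sympForm m F

theorem card_Vec : Fintype.card Vec = Fintype.card F ^ (m + m) := by
  classical
  rw [Fintype.card_fun, Fintype.card_sum, Fintype.card_fin]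

variable (P : HPair m F)

/-- the complement of a hyperbolic pair is non-zero in dimension at least four -/
theorem exists_ne_W (hm : 2 ≤ m) : ∃ w : Vec, P.W w ∧ w ≠ 0 := by
  classical
  by_contra hcon
  push Not at hcon
  have hsurj : Function.Surjective (fun ab : F × F => ab.1 • P.e + ab.2 • P.f) := by
    intro x
    refine ⟨(Bf x P.f, - Bf x P.e), ?_⟩
    have h1 := hcon _ (P.proj_W x)
    have h2 := P.decomp x
    rw [h1, add_zero] at h2
    exact h2.symm
  have h1 := Fintype.card_le_of_surjective _ hsurj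
  rw [card_Vec, Fintype.card_prod] at h1
  have hq : 1 < Fintype.card F := Fintype.one_lt_card
  have h2 : Fintype.card F ^ 2 < Fintype.card F ^ (m + m) :=
    Nat.pow_lt_pow_right hq (by omega)
  rw [pow_two] at h2
  omega

/-- a hyperbolic pair inside the complement -/
theorem exists_pair_W (hm : 2 ≤ m) : ∃ R : HPair m F, P.W R.e ∧ P.W R.f := by
  obtain ⟨w, hw, hw0⟩ := exists_ne_W P hm
  obtain ⟨y, hy, hwy⟩ := P.exists_W_partner hw hw0
  exact ⟨⟨w, y, hwy⟩, hw, hy⟩

theorem exists_ne_W2 (hm : 3 ≤ m) (P' : HPair m F) (h1 : P.W P'.e) (h2 : P.W P'.f) :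
    ∃ r : Vec, P.W r ∧ P'.W r ∧ r ≠ 0 := by
  classical
  by_contra hcon
  push Not at hcon
  have hsurj : Function.Surjective
      (fun ab : (F × F) × (F × F) => ab.1.1 • P.e + ab.1.2 • P.f + ab.2.1 • P'.e + ab.2.2 • P'.f) := by
    intro x
    obtain ⟨z, hz⟩ : ∃ z, z = P.proj x := ⟨_, rfl⟩
    have hzW : P.W z := by rw [hz]; exact P.proj_W x
    have hyW : P.W (P'.proj z) := by
      unfold HPair.proj
      exact P.W_add (P.W_sub hzW (P.W_smul _ h1)) (P.W_smul _ h2)
    have h3 := hcon _ hyW (P'.proj_W z)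
    have h4 := P'.decomp z
    rw [h3, add_zero] at h4
    have h5 := P.decomp x
    rw [← hz] at h5
    refine ⟨((Bf x P.f, - Bf x P.e), (Bf z P'.f, - Bf z P'.e)), ?_⟩
    change Bf x P.f • P.e + (- Bf x P.e) • P.f + Bf z P'.f • P'.e + (- Bf z P'.e) • P'.f = x
    conv_rhs => rw [h5]
    conv_rhs => rw [h4]
    module
  have h1 := Fintype.card_le_of_surjective _ hsurj
  rw [card_Vec, Fintype.card_prod, Fintype.card_prod] at h1
  have hq : 1 < Fintype.card F := Fintype.one_lt_card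
  have h2 : Fintype.card F ^ 4 < Fintype.card F ^ (m + m) :=
    Nat.pow_lt_pow_right hq (by omega)
  have h3 : Fintype.card F ^ 4 = Fintype.card F * Fintype.card F * (Fintype.card F * Fintype.card F) := by
    ring
  omega

theorem exists_pair_W2 (hm : 3 ≤ m) (P' : HPair m F) (h1 : P.W P'.e) (h2 : P.W P'.f) :
    ∃ R : HPair m F, P.W R.e ∧ P.W R.f ∧ P'.W R.e ∧ P'.W R.f := by
  obtain ⟨r, hr, hr', hr0⟩ := exists_ne_W2 P hm P' h1 h2
  obtain ⟨y, hy⟩ := Cfsg.Agent.S0768.nondeg r hr0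
  obtain ⟨z, hz⟩ : ∃ z, z = P.proj y := ⟨_, rfl⟩
  have hzW : P.W z := by rw [hz]; exact P.proj_W y
  have hyW : P.W (P'.proj z) := by
    unfold HPair.proj
    exact P.W_add (P.W_sub hzW (P.W_smul _ h1)) (P.W_smul _ h2)
  have h3 : Bf r (P'.proj z) = 1 := by
    rw [P'.B_proj r z hr', hz, P.B_proj r y hr, hy]
  exact ⟨⟨r, P'.proj z, h3⟩, hr, hyW, hr', P'.proj_W z⟩

/-- in characteristic two and dimension at least six, the elements of the unipotent radical
which are not transvections are squares -/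
theorem exists_square (h2 : (2 : F) = 0) (hm : 3 ≤ m) (x : SpG) (hx : x ∈ Qv P.e)
    (hw0 : P.wc x ≠ 0) : ∃ g : SpG, g * g = x := by
  obtain ⟨w, hw⟩ : ∃ w, w = P.wc x := ⟨_, rfl⟩
  obtain ⟨b, hb⟩ : ∃ b, b = P.bc x := ⟨_, rfl⟩
  have hwW : P.W w := by rw [hw]; exact P.wc_W x
  have hxsg : x = P.sg w b := by rw [hw, hb]; exact P.Qv_eq_sg x hx
  rw [← hw] at hw0
  obtain ⟨y, hyW, hwy⟩ := P.exists_W_partner hwW hw0
  have hyw : Bf y w = 1 := by rw [B_swap, hwy, F_neg h2]
  by_cases hb0 : b = 0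
  · -- short root elements
    obtain ⟨R, hRe, hRf, hRe', hRf'⟩ := exists_pair_W2 P hm ⟨w, y, hwy⟩ hwW hyW
    obtain ⟨P', hP'⟩ : ∃ P' : HPair m F, P' = ⟨w, y, hwy⟩ := ⟨_, rfl⟩
    rw [← hP'] at hRe' hRf'
    have hP'e : P'.e = w := by rw [hP']
    have hP'f : P'.f = y := by rw [hP']
    obtain ⟨h₁, hh₁⟩ : ∃ h₁, h₁ = P'.sg R.e 0 := ⟨_, rfl⟩
    have hRew : Bf R.e w = 0 := by rw [← hP'e]; exact hRe'.1
    have hRfw : Bf R.f w = 0 := by rw [← hP'e]; exact hRf'.1
    have h₁e : av h₁ P.e = P.e := by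
      rw [hh₁, P'.av_sg R.e 0 hRe', hP'e, hwW.1, hRe.1]
      simp
    have h₁f : av h₁ P.f = P.f := by
      rw [hh₁, P'.av_sg R.e 0 hRe', hP'e, hwW.2, hRe.2]
      simp
    have h₁sq : h₁ * h₁ = 1 := by
      rw [hh₁, P'.sg_mul _ _ _ _ hRe' hRe', vec_add_self h2, B_self, add_zero, add_zero]
      exact P'.sg_zero
    have h₁inv : h₁⁻¹ = h₁ := inv_eq_of_mul_eq_one_left h₁sq
    have h₁Rf : av h₁ R.f = R.f + w := by
      rw [hh₁, P'.av_sg R.e 0 hRe', hP'e, B_swap_zero hRfw, R.hef]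
      simp
    obtain ⟨-, hconj⟩ := sg_conj_one P h₁ h₁e h₁f R.f 0 hRf
    rw [h₁inv, h₁Rf] at hconj
    refine ⟨h₁ * P.sg R.f 0, ?_⟩
    have e1 : h₁ * P.sg R.f 0 * (h₁ * P.sg R.f 0) = (h₁ * P.sg R.f 0 * h₁) * P.sg R.f 0 := by
      group
    rw [e1, hconj, P.sg_mul _ _ _ _ (P.W_add hRf hwW) hRf, hxsg, hb0]
    have e2 : R.f + w + R.f = w := by
      have := vec_add_self h2 R.f
      calc R.f + w + R.f = w + (R.f + R.f) := by abel
        _ = w := by rw [this, add_zero]
    have e3 : (0 : F) + 0 + Bf (R.f + w) R.f = 0 := by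
      rw [sympForm_add_left, B_self, B_swap_zero hRfw]
      ring
    rw [e2, e3]
  · -- mixed elements
    obtain ⟨h₁, hh₁⟩ : ∃ h₁, h₁ = tv w b⁻¹ := ⟨_, rfl⟩
    have h₁e : av h₁ P.e = P.e := by
      rw [hh₁, av_tv, (P.W_swap hwW).1, mul_zero, zero_smul, add_zero]
    have h₁f : av h₁ P.f = P.f := by
      rw [hh₁, av_tv, (P.W_swap hwW).2, mul_zero, zero_smul, add_zero]
    have h₁sq : h₁ * h₁ = 1 := by
      rw [hh₁, tv_mul, F_add_self h2, tv_zero]
    have h₁inv : h₁⁻¹ = h₁ := inv_eq_of_mul_eq_one_left h₁sq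
    have h₁y : av h₁ (b • y) = b • y + w := by
      rw [hh₁, av_tv, sympForm_smul_left, hyw, mul_one, inv_mul_cancel₀ hb0, one_smul]
    obtain ⟨-, hconj⟩ := sg_conj_one P h₁ h₁e h₁f (b • y) 0 (P.W_smul b hyW)
    rw [h₁inv, h₁y] at hconj
    refine ⟨h₁ * P.sg (b • y) 0, ?_⟩
    have e1 : h₁ * P.sg (b • y) 0 * (h₁ * P.sg (b • y) 0) =
        (h₁ * P.sg (b • y) 0 * h₁) * P.sg (b • y) 0 := by group
    rw [e1, hconj, P.sg_mul _ _ _ _ (P.W_add (P.W_smul b hyW) hwW) (P.W_smul b hyW), hxsg]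
    have e2 : b • y + w + b • y = w := by
      have := vec_add_self h2 (b • y)
      calc b • y + w + b • y = w + (b • y + b • y) := by abel
        _ = w := by rw [this, add_zero]
    have e3 : (0 : F) + 0 + Bf (b • y + w) (b • y) = b := by
      rw [sympForm_add_left, sympForm_smul_left, sympForm_smul_right, sympForm_smul_right, B_self,
        hwy]
      ring
    rw [e2, e3]

variable {p : ℕ} [hp : Fact p.Prime] [CharP F p]

/-- in characteristic two, an automorphism maps a root subgroup into a root subgroup -/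
theorem root_le_two (p : ℕ) [hp : Fact p.Prime] [CharP F p] (hm : 3 ≤ m) (h2 : (2 : F) = 0)
    (γ : MulAut (Cfsg.PSp m F)) (u : Vec) (hu0 : u ≠ 0) :
    ∃ u' : Vec, u' ≠ 0 ∧ img γ (Rb u) ≤ Rb u' := by
  classical
  have hm1 : 1 ≤ m := by omega
  obtain ⟨S, hS⟩ := exists_sylow_fixing (p := p) hm1 u hu0
  let Sb : Sylow p (Cfsg.PSp m F) := S.mapSurjective pu_surjective
  have hSb : (Sb : Subgroup _) = (S : Subgroup SpG).map pu := by
    rw [Sylow.coe_mapSurjective]
  obtain ⟨S', hS'⟩ := exists_sylow_rep (γ • Sb)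
  obtain ⟨u', hu'0, hS'u⟩ := exists_fixed (p := p) hm1 (S' : Subgroup SpG) S'.2
  refine ⟨u', hu'0, ?_⟩
  have h1 : img γ ((S : Subgroup SpG).map pu) = (S' : Subgroup SpG).map pu := by
    rw [← hS', ← hSb, img_sylow]
  obtain ⟨P', hP'⟩ := exists_hpair u' hu'0
  subst hP'
  intro x hx
  obtain ⟨y, hy, rfl⟩ := (mem_img _ _ _).mp hx
  have h3 : γ y ∈ AutPSU.cen ((S' : Subgroup SpG).map pu) := by
    rw [← h1, ← AutPSU.img_cen]
    exact mem_img_of γ _ (Rb_le_cen_sylow_map (p := p) hm1 u S hS hy)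
  obtain ⟨z, hz, hzx⟩ := cen_sylow_map_le (p := p) P' hm1 S' hS'u _ h3
  rw [← hzx]
  apply Subgroup.mem_map_of_mem
  apply P'.mem_Tp_of_wc z hz
  by_contra hw0
  obtain ⟨g, hg⟩ := exists_square P' h2 hm z hz hw0
  obtain ⟨g', hg'⟩ := pu_surjective (γ.symm (pu g))
  have h4 : y = pu (g' * g') := by
    rw [map_mul, hg', ← map_mul, ← map_mul, hg, hzx, MulEquiv.symm_apply_apply]
  obtain ⟨c, hc⟩ := (mem_Rb u y).mp hy
  rw [hc] at h4
  have h5 := pu_inj_two hm1 h2 _ _ h4
  by_cases hc0 : c = 0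
  · rw [hc0, tv_zero, map_one] at hc
    rw [hc, map_one] at hzx
    have h6 : z = 1 := pu_inj_two hm1 h2 _ _ (by rw [hzx, map_one])
    rw [h6, HPair.wc_one] at hw0
    exact hw0 rfl
  · exact not_square h2 u hu0 c hc0 g' h5.symm

/-- in characteristic two and dimension at least six automorphisms of `PSp` permute the root
subgroups -/
theorem root_perm_two (p : ℕ) [hp : Fact p.Prime] [CharP F p] (hm : 3 ≤ m) (h2 : (2 : F) = 0)
    (γ : MulAut (Cfsg.PSp m F)) (u : Vec) (hu0 : u ≠ 0) :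
    ∃ u' : Vec, u' ≠ 0 ∧ img γ (Rb u) = Rb u' := by
  obtain ⟨u', hu'0, h1⟩ := root_le_two p hm h2 γ u hu0
  obtain ⟨u'', hu''0, h3⟩ := root_le_two p hm h2 γ.symm u' hu'0
  refine ⟨u', hu'0, le_antisymm h1 ?_⟩
  have h4 : Rb u ≤ Rb u'' := by
    have := (img_mono γ.symm h1).trans h3
    rwa [img_symm_img] at this
  obtain ⟨a, ha0, ha⟩ := Rb_le_imp p (by omega) u u'' hu0 h4
  have h5 : Rb u'' = Rb u := by rw [ha, Rb_smul a ha0]
  rw [h5] at h3
  have := img_mono γ h3
  rwa [img_img_symm] at this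

/-- automorphisms of `PSp_{2m}(q)` permute the root subgroups -/
theorem root_perm (p : ℕ) [hp : Fact p.Prime] [CharP F p] (hm : 2 ≤ m) (h4 : m = 2 → p ≠ 2)
    (γ : MulAut (Cfsg.PSp m F)) (u : Vec) (hu0 : u ≠ 0) :
    ∃ u' : Vec, u' ≠ 0 ∧ img γ (Rb u) = Rb u' := by
  by_cases h2 : (2 : F) = 0
  · have hp2 : p = 2 := by
      have h3 : ((2 : ℕ) : F) = 0 := by exact_mod_cast h2
      have h5 := (CharP.cast_eq_zero_iff F p 2).mp h3
      exact ((Nat.prime_dvd_prime_iff_eq hp.out Nat.prime_two).mp h5)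
    have hm3 : 3 ≤ m := by
      by_contra h
      exact h4 (by omega) hp2
    exact root_perm_two p hm3 h2 γ u hu0
  · exact root_perm_odd p (by omega) h2 γ u hu0

end

end Cfsg.Agent.Lib.Helper6.AutPSp
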