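import Mathlib
import Cfsg.Agent.Lib.Helper6.AutPSp4

/-!
# Automorphisms of `PSp_{2m}(q)`, part 5: normal `p`-subgroups of point stabilisers; an
automorphism fixing a root subgroup fixes the image of the unipotent radical
-/

set_option autoImplicit false
set_option linter.unusedSectionVars false
set_option linter.unusedVariables false
open Cfsg

namespace Cfsg.Agent.Lib.Helper6.AutPSp

open Matrix Cfsg.Agent.Lib.Helper6 Cfsg.Agent.Lib.Helper6.SympRoot Cfsg.Agent.Lib.Helper6.AutPSL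
open scoped Pointwise

section
variable {m : ℕ} {F : Type*} [Field F] [Fintype F]

set_option quotPrecheck false in
local notation "SpG" => ↥(Matrix.symplecticGroup (Fin m) F)
local notation "Vec" => (Fin m ⊕ Fin m → F)
local notation "Bf" => Cfsg.sympForm m F

variable (P : HPair m F)

/-- the number of vectors of the complement -/
theorem card_W : Fintype.card F * Fintype.card F * Nat.card {w : Vec // P.W w} =
    Fintype.card F ^ (m + m) := by
  classical
  have : Fintype {w : Vec // P.W w} := Fintype.ofFinite _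
  rw [Nat.card_eq_fintype_card, ← card_Vec, ← Fintype.card_prod, ← Fintype.card_prod]
  apply Fintype.card_congr
  exact
    { toFun := fun abw => abw.1.1 • P.e + abw.1.2 • P.f + abw.2.1
      invFun := fun x => ((Bf x P.f, - Bf x P.e), ⟨P.proj x, P.proj_W x⟩)
      left_inv := by
        rintro ⟨⟨a, b⟩, ⟨w, hw⟩⟩
        simp only [sympForm_add_left, sympForm_smul_left, P.hee, P.hff, P.hef, P.hfe, hw.1, hw.2,
          HPair.proj_add, HPair.proj_smul, HPair.proj_e, HPair.proj_f, P.proj_of_W hw]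
        refine Prod.ext (Prod.ext ?_ ?_) (Subtype.ext ?_)
        · simp
        · simp
        · simp
      right_inv := by
        intro x
        exact (P.decomp x).symm }

variable {p : ℕ} [hp : Fact p.Prime] [CharP F p]

theorem p_dvd_card_W (hm : 2 ≤ m) : p ∣ Nat.card {w : Vec // P.W w} := by
  have h1 := card_W P
  have hq : 0 < Fintype.card F := Fintype.card_pos
  have h2 : Fintype.card F ^ (m + m) = Fintype.card F * Fintype.card F *
      Fintype.card F ^ (m + m - 2) := by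
    rw [← pow_two, ← pow_add]
    congr 1
    omega
  rw [h2] at h1
  have h3 := Nat.eq_of_mul_eq_mul_left (Nat.mul_pos hq hq) h1
  rw [h3]
  apply dvd_pow (p_dvd_card_F (p := p))
  omega

theorem av_pow_smul (g : SpG) (u : Vec) (a : F) (h : av g u = a • u) (k : ℕ) :
    av (g ^ k) u = a ^ k • u := by
  induction k with
  | zero => rw [pow_zero, pow_zero, av_one, one_smul]
  | succ k ih => rw [pow_succ, av_mul, h, av_smul, ih, smul_smul, pow_succ, mul_comm]

/-- a `p`-element fixing a point fixes the vector -/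
theorem fix_of_pow (g : SpG) (u : Vec) (hu0 : u ≠ 0) (a : F)
    (h : av g u = a • u) (k : ℕ) (hk : g ^ (p ^ k) = 1) : av g u = u := by
  have h1 := av_pow_smul g u a h (p ^ k)
  rw [hk, av_one] at h1
  have h2 : a ^ (p ^ k) = 1 := by
    have h3 : (a ^ (p ^ k) - 1) • u = 0 := by rw [sub_smul, one_smul, ← h1, sub_self]
    rcases smul_eq_zero.mp h3 with h4 | h4
    · exact sub_eq_zero.mp h4
    · exact absurd h4 hu0
  have h3 : (a - 1) ^ (p ^ k) = 0 := by rw [sub_pow_char_pow, h2, one_pow, sub_self]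
  have h4 : a = 1 := sub_eq_zero.mp ((pow_eq_zero_iff (pow_ne_zero k hp.out.ne_zero)).mp h3)
  rw [h, h4, one_smul]

theorem exists_pow_of_mem (N : Subgroup SpG) (hN : IsPGroup p N)
    (y : SpG) (hy : y ∈ N) : ∃ k : ℕ, y ^ (p ^ k) = 1 := by
  obtain ⟨k, hk⟩ := hN ⟨y, hy⟩
  refine ⟨k, ?_⟩
  have := congrArg Subtype.val hk
  rwa [Subgroup.coe_pow] at this

/-- decomposition of the image of a vector of the complement under an element fixing `e` -/
theorem av_W_decomp (g : SpG) (hg : av g P.e = P.e) (w : Vec) (hw : P.W w) :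
    av g w = P.proj (av g w) + Bf (av g w) P.f • P.e := by
  have h1 : Bf (av g w) P.e = 0 := by
    have : Bf (av g w) P.e = Bf (av g w) (av g P.e) := by rw [hg]
    rw [this, B_av, hw.1]
  conv_lhs => rw [P.decomp (av g w), h1]
  module

theorem proj_av_add (g : SpG) (hg : av g P.e = P.e) (x : Vec) (t : F) :
    P.proj (av g (x + t • P.e)) = P.proj (av g x) := by
  rw [av_add, av_smul, hg, HPair.proj_add, HPair.proj_smul, HPair.proj_e, smul_zero, add_zero]

/-- **a normal `p`-subgroup of the stabiliser of the point `e` lies in `Qv e`** -/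
theorem Op_le_Qv (hm : 2 ≤ m) (N : Subgroup SpG)
    (hN : IsPGroup p N) (hNe : ∀ g ∈ N, ∃ a : F, av g P.e = a • P.e)
    (hnorm : ∀ b : SpG, av b P.e = P.e → ∀ g ∈ N, b * g * b⁻¹ ∈ N) :
    N ≤ Qv P.e := by
  classical
  have hfix : ∀ g ∈ N, av g P.e = P.e := by
    intro g hg
    obtain ⟨a, ha⟩ := hNe g hg
    obtain ⟨k, hk⟩ := exists_pow_of_mem (p := p) N hN g hg
    exact fix_of_pow (p := p) g P.e P.e_ne a ha k hk
  -- the action on the complement
  let act : MulAction ↥N {w : Vec // P.W w} :=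
    { smul := fun g w => ⟨P.proj (av g.1 w.1), P.proj_W _⟩
      one_smul := fun w => Subtype.ext (by
        change P.proj (av (1 : SpG) w.1) = w.1
        rw [av_one, P.proj_of_W w.2])
      mul_smul := fun g g' w => Subtype.ext (by
        change P.proj (av (g.1 * g'.1) w.1) = P.proj (av g.1 (P.proj (av g'.1 w.1)))
        rw [av_mul]
        conv_lhs => rw [av_W_decomp P g'.1 (hfix _ g'.2) w.1 w.2]
        rw [proj_av_add P g.1 (hfix _ g.2)]) }
  have hsm : ∀ (g : ↥N) (w : {w : Vec // P.W w}), (g • w).1 = P.proj (av g.1 w.1) :=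
    fun g w => rfl
  have : Finite {w : Vec // P.W w} := inferInstance
  have hcard : p ∣ Nat.card {w : Vec // P.W w} := p_dvd_card_W (p := p) P hm
  have h0 : (⟨0, P.W_zero⟩ : {w : Vec // P.W w}) ∈
      MulAction.fixedPoints ↥N {w : Vec // P.W w} := by
    intro g
    apply Subtype.ext
    rw [hsm]
    change P.proj (av g.1 0) = 0
    rw [av_zero]
    exact P.proj_of_W P.W_zero
  obtain ⟨w₁, hw₁, hw₁0⟩ := hN.exists_fixed_point_of_prime_dvd_card_of_fixed_point _ hcard h0
  -- the fixed space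
  obtain ⟨U, hU⟩ : ∃ U : Vec → Prop,
      U = fun w => P.W w ∧ ∀ g ∈ N, ∃ t : F, av g w = w + t • P.e := ⟨_, rfl⟩
  have hUadd : ∀ x y, U x → U y → U (x + y) := by
    intro x y hx hy
    rw [hU] at hx hy ⊢
    refine ⟨P.W_add hx.1 hy.1, fun g hg => ?_⟩
    obtain ⟨t, ht⟩ := hx.2 g hg
    obtain ⟨s, hs⟩ := hy.2 g hg
    exact ⟨t + s, by rw [av_add, ht, hs]; module⟩
  have hUsmul : ∀ (a : F) x, U x → U (a • x) := by
    intro a x hx
    rw [hU] at hx ⊢
    refine ⟨P.W_smul a hx.1, fun g hg => ?_⟩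
    obtain ⟨t, ht⟩ := hx.2 g hg
    exact ⟨a * t, by rw [av_smul, ht]; module⟩
  have hUw₁ : U w₁.1 := by
    rw [hU]
    refine ⟨w₁.2, fun g hg => ?_⟩
    have h1 := congrArg Subtype.val (hw₁ ⟨g, hg⟩)
    rw [hsm] at h1
    change P.proj (av g w₁.1) = w₁.1 at h1
    refine ⟨Bf (av g w₁.1) P.f, ?_⟩
    conv_lhs => rw [av_W_decomp P g (hfix g hg) w₁.1 w₁.2, h1]
  have hw₁ne : w₁.1 ≠ 0 := by
    intro h
    apply hw₁0
    apply Subtype.ext
    exact h.symm
  -- invariance under the transvections of the Levi factor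
  have hUtv : ∀ (w u : Vec), U w → P.W u → Bf w u ≠ 0 → U u := by
    intro w u hw huW hwu
    obtain ⟨t, ht⟩ : ∃ t, t = tv u 1 := ⟨_, rfl⟩
    have hte : av t P.e = P.e := by
      rw [ht, av_tv, (P.W_swap huW).1, mul_zero, zero_smul, add_zero]
    have hte' : av t⁻¹ P.e = P.e := by
      have := av_inv_av t P.e
      rwa [hte] at this
    have h1 : U (av t w) := by
      rw [hU] at hw ⊢
      refine ⟨?_, fun g hg => ?_⟩
      · rw [ht, av_tv]
        exact P.W_add hw.1 (P.W_smul _ huW)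
      · have h2 := hnorm t⁻¹ hte' g hg
        rw [inv_inv] at h2
        obtain ⟨s, hs⟩ := hw.2 _ h2
        refine ⟨s, ?_⟩
        have h3 : av g (av t w) = av t (av (t⁻¹ * g * t) w) := by
          rw [← av_mul, ← av_mul]
          congr 1
          group
        rw [h3, hs, av_add, av_smul, hte]
    have h2 : (1 * Bf w u) • u = av t w + (-1 : F) • w := by
      rw [ht, av_tv]
      module
    have h3 : U ((1 * Bf w u) • u) := by
      rw [h2]
      exact hUadd _ _ h1 (hUsmul _ _ hw)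
    have h4 := hUsmul (1 * Bf w u)⁻¹ _ h3
    rwa [smul_smul, inv_mul_cancel₀ (by rw [one_mul]; exact hwu), one_smul] at h4
  -- the fixed space is everything
  have hUall : ∀ w, P.W w → U w := by
    intro w hw
    by_cases h1 : Bf w₁.1 w = 0
    · obtain ⟨x, hxW, hx⟩ := P.exists_W_partner w₁.2 hw₁ne
      have hUx : U x := hUtv _ _ hUw₁ hxW (by rw [hx]; exact one_ne_zero)
      have hUxw : U (x + w) := hUtv _ _ hUw₁ (P.W_add hxW hw) (by
        rw [sympForm_add_right, hx, h1, add_zero]; exact one_ne_zero)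
      have : w = (x + w) + (-1 : F) • x := by module
      rw [this]
      exact hUadd _ _ hUxw (hUsmul _ _ hUx)
    · exact hUtv _ _ hUw₁ hw h1
  -- conclusion
  intro g hg
  refine ⟨hfix g hg, ?_⟩
  intro x hx
  have hpx := hUall _ (P.proj_W x)
  rw [hU] at hpx
  obtain ⟨t, ht⟩ := hpx.2 g hg
  refine ⟨t, ?_⟩
  have hd := P.decomp x
  rw [hx, neg_zero, zero_smul, add_zero] at hd
  conv_lhs => rw [hd]
  rw [av_add, av_smul, hfix g hg, ht]
  conv_rhs => rw [hd]
  module

/-- the image in `PSp` of the unipotent radical -/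
noncomputable def Qb (u : Vec) : Subgroup (Cfsg.PSp m F) := (Qv u).map pu

theorem exists_lift_pgroup (M : Subgroup (Cfsg.PSp m F)) (hM : IsPGroup p M) :
    ∃ N : Subgroup SpG, IsPGroup p N ∧ N.map pu = M := by
  obtain ⟨Sb, hSb⟩ := hM.exists_le_sylow
  obtain ⟨S, hS⟩ := exists_sylow_rep Sb
  refine ⟨(S : Subgroup SpG) ⊓ M.comap pu, S.2.to_le inf_le_left, ?_⟩
  ext x
  rw [Subgroup.mem_map]
  constructor
  · rintro ⟨g, hg, rfl⟩
    exact (Subgroup.mem_inf.mp hg).2
  · intro hx
    have h1 : x ∈ (Sb : Subgroup (Cfsg.PSp m F)) := hSb hx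
    rw [hS, Subgroup.mem_map] at h1
    obtain ⟨g, hg, rfl⟩ := h1
    exact ⟨g, Subgroup.mem_inf.mpr ⟨hg, hx⟩, rfl⟩

theorem isPGroup_Qb (p : ℕ) [hp : Fact p.Prime] [CharP F p] (hm : 1 ≤ m) (u : Vec) :
    IsPGroup p (Qb u : Subgroup (Cfsg.PSp m F)) := by
  unfold Qb
  exact (isPGroup_Qv p hm u).map _

/-- an element normalising the root subgroup of `u` fixes the point `u` -/
theorem point_of_norm (p : ℕ) [hp : Fact p.Prime] [CharP F p] (hm : 1 ≤ m) (u : Vec)
    (hu0 : u ≠ 0) (g : SpG)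
    (h : img (MulAut.conj (pu g)) (Rb u) = Rb u) : ∃ a : F, a ≠ 0 ∧ av g u = a • u := by
  rw [img_conj_Rb g u] at h
  exact Rb_le_imp p hm (av g u) u (av_ne_zero g hu0) (le_of_eq h)

/-- a normal `p`-subgroup of the normaliser of a root subgroup lies in `Qb` -/
theorem Op_le_Qb (hm : 2 ≤ m) (M : Subgroup (Cfsg.PSp m F))
    (hM : IsPGroup p M)
    (hM1 : ∀ x ∈ M, img (MulAut.conj x) (Rb P.e) = Rb P.e)
    (hM2 : ∀ b : SpG, av b P.e = P.e → ∀ x ∈ M, pu b * x * (pu b)⁻¹ ∈ M) :
    M ≤ Qb P.e := by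
  obtain ⟨N, hN, hNM⟩ := exists_lift_pgroup (p := p) M hM
  have h1 : N ≤ Qv P.e := by
    apply Op_le_Qv (p := p) P hm N hN
    · intro g hg
      have h2 : pu g ∈ M := by rw [← hNM]; exact Subgroup.mem_map_of_mem _ hg
      obtain ⟨a, -, ha⟩ := point_of_norm p (by omega) P.e P.e_ne g (hM1 _ h2)
      exact ⟨a, ha⟩
    · intro b hb g hg
      have h2 : pu g ∈ M := by rw [← hNM]; exact Subgroup.mem_map_of_mem _ hg
      have h3 := hM2 b hb _ h2
      rw [← hNM, Subgroup.mem_map] at h3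
      obtain ⟨g', hg', hgg'⟩ := h3
      obtain ⟨k, hk⟩ := exists_pow_of_mem (p := p) N hN g hg
      obtain ⟨k', hk'⟩ := exists_pow_of_mem (p := p) N hN g' hg'
      have e1 : g' ^ (p ^ (k + k')) = 1 := by
        rw [pow_add, mul_comm, pow_mul, hk', one_pow]
      have e2 : (b * g * b⁻¹) ^ (p ^ (k + k')) = 1 := by
        rw [conj_pow, pow_add, pow_mul, hk, one_pow, mul_one, mul_inv_cancel]
      have e3 : pu g' = pu (b * g * b⁻¹) := by
        rw [hgg', map_mul, map_mul, map_inv]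
      have := eq_of_pu_eq (p := p) (by omega) _ _ _ e1 e2 e3
      rw [← this]
      exact hg'
  rw [← hNM]
  exact Subgroup.map_mono h1

/-- elements normalising the root subgroup normalise the image of the unipotent radical -/
theorem conj_mem_Qb (p : ℕ) [hp : Fact p.Prime] [CharP F p] (hm : 1 ≤ m) (y : Cfsg.PSp m F)
    (hy : img (MulAut.conj y) (Rb P.e) = Rb P.e) (x : Cfsg.PSp m F) (hx : x ∈ Qb P.e) :
    y * x * y⁻¹ ∈ Qb P.e := by
  obtain ⟨b, rfl⟩ := pu_surjective y
  obtain ⟨a, ha0, ha⟩ := point_of_norm p hm P.e P.e_ne b hy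
  unfold Qb at hx ⊢
  rw [Subgroup.mem_map] at hx ⊢
  obtain ⟨g, hg, rfl⟩ := hx
  refine ⟨b * g * b⁻¹, Qv_conj P.e b a ha0 ha g hg, ?_⟩
  rw [map_mul, map_mul, map_inv]

theorem Qb_norm_Rb (x : Cfsg.PSp m F) (hx : x ∈ Qb P.e) :
    img (MulAut.conj x) (Rb P.e) = Rb P.e := by
  unfold Qb at hx
  rw [Subgroup.mem_map] at hx
  obtain ⟨g, hg, rfl⟩ := hx
  rw [img_conj_Rb g P.e, hg.1]

theorem img_Qb_le (p : ℕ) [hp : Fact p.Prime] [CharP F p] (hm : 2 ≤ m)
    (β : MulAut (Cfsg.PSp m F))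
    (hβ : img β (Rb P.e) = Rb P.e) : img β (Qb P.e) ≤ Qb P.e := by
  apply Op_le_Qb (p := p) P hm _ (AutPSU.isPGroup_img β _ (isPGroup_Qb p (by omega) P.e))
  · intro x hx
    obtain ⟨y, hy, rfl⟩ := (mem_img _ _ _).mp hx
    have h1 := img_conj_comm β y (Rb P.e)
    rw [Qb_norm_Rb P y hy, hβ] at h1
    exact h1.symm
  · intro b hb x hx
    obtain ⟨y, hy, rfl⟩ := (mem_img _ _ _).mp hx
    have h1 : img (MulAut.conj (pu b)) (Rb P.e) = Rb P.e := by
      rw [img_conj_Rb b P.e, hb]
    have h2 := AutPSU.img_conj_symm β (pu b) (Rb P.e) hβ h1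
    have h3 := conj_mem_Qb P p (by omega) _ h2 y hy
    have h4 := mem_img_of β _ h3
    rw [map_mul, map_mul, map_inv, MulEquiv.apply_symm_apply] at h4
    exact h4

/-- **an automorphism fixing the root subgroup of `e` fixes the image of the unipotent radical** -/
theorem img_Qb (p : ℕ) [hp : Fact p.Prime] [CharP F p] (hm : 2 ≤ m)
    (β : MulAut (Cfsg.PSp m F))
    (hβ : img β (Rb P.e) = Rb P.e) : img β (Qb P.e) = Qb P.e := by
  apply le_antisymm (img_Qb_le P p hm β hβ)
  have h1 : img β.symm (Rb P.e) = Rb P.e := by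
    conv_lhs => rw [← hβ]
    exact img_symm_img β _
  have h2 := img_Qb_le P p hm β.symm h1
  have h3 := img_mono β h2
  rwa [img_img_symm] at h3

end

end Cfsg.Agent.Lib.Helper6.AutPSp
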