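import Mathlib
import Cfsg.Agent.Lib.Helper6.AutPSp5

/-!
# Automorphisms of `PSp_{2m}(q)`, part 6: the map induced on the complement of a hyperbolic pair
by an automorphism fixing the two root subgroups of the pair
-/

set_option autoImplicit false
set_option linter.unusedSectionVars false
set_option linter.unusedVariables false
open Cfsg

namespace Cfsg.Agent.Lib.Helper6.AutPSp

open Matrix Cfsg.Agent.Lib.Helper6 Cfsg.Agent.Lib.Helper6.SympRoot Cfsg.Agent.Lib.Helper6.AutPSL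
open scoped Pointwise

section
variable {m : ℕ} {F : Type*} [Field F] [Fintype F]

set_option quotPrecheck false in
local notation "SpG" => ↥(Matrix.symplecticGroup (Fin m) F)
local notation "Vec" => (Fin m ⊕ Fin m → F)
local notation "Bf" => Cfsg.sympForm m F

variable (P : HPair m F)

/-- after composing with an inner automorphism, the two root subgroups of the pair are fixed -/
theorem exists_normalise (p : ℕ) [hp : Fact p.Prime] [CharP F p] (hm : 2 ≤ m)
    (h4 : m = 2 → p ≠ 2) (β : MulAut (Cfsg.PSp m F)) :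
    ∃ g : SpG, img (MulAut.conj (pu g) * β) (Rb P.e) = Rb P.e ∧
      img (MulAut.conj (pu g) * β) (Rb P.f) = Rb P.f := by
  have hm1 : 1 ≤ m := by omega
  obtain ⟨e', he'0, hβe⟩ := root_perm p hm h4 β P.e P.e_ne
  obtain ⟨f', hf'0, hβf⟩ := root_perm p hm h4 β P.f P.f_ne
  have hne : Bf e' f' ≠ 0 := by
    intro h0
    have h1 := (Rb_comm_iff p hm1 f' e' hf'0 he'0).mpr h0
    have h2 : ∀ x ∈ Rb P.f, ∀ y ∈ Rb P.e, x * y = y * x := by
      intro x hx y hy
      have := h1 (β x) (by rw [← hβf]; exact mem_img_of β _ hx) (β y)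
        (by rw [← hβe]; exact mem_img_of β _ hy)
      rw [← map_mul, ← map_mul] at this
      exact β.injective this
    have := (Rb_comm_iff p hm1 P.f P.e P.f_ne P.e_ne).mp h2
    rw [P.hef] at this
    exact one_ne_zero this
  obtain ⟨f'', hf''⟩ : ∃ f'', f'' = (Bf e' f')⁻¹ • f' := ⟨_, rfl⟩
  have hef'' : Bf e' f'' = 1 := by
    rw [hf'', sympForm_smul_right, inv_mul_cancel₀ hne]
  have hRf'' : Rb f'' = Rb f' := by
    rw [hf'']
    exact Rb_smul _ (inv_ne_zero hne) f'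
  obtain ⟨g, -, hge, hgf⟩ := Cfsg.Agent.S0766.result m e' f'' P.e P.f hef'' P.hef
  change av g e' = P.e at hge
  change av g f'' = P.f at hgf
  refine ⟨g, ?_, ?_⟩
  · rw [img_mul', hβe, img_conj_Rb, hge]
  · rw [img_mul', hβf, ← hRf'', img_conj_Rb, hgf]

open Classical in
/-- the lift to `Qv e` of the action of an automorphism on the image of `Qv e` -/
noncomputable def lft (β : MulAut (Cfsg.PSp m F)) (g : SpG) : SpG :=
  if h : ∃ g' : SpG, g' ∈ Qv P.e ∧ pu g' = β (pu g) then Classical.choose h else 1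

/-- `k` stabilises the two points of the pair, with eigenvalue `l` on `e` -/
def IsKp (k : SpG) (l : F) : Prop := l ≠ 0 ∧ av k P.e = l • P.e ∧ av k P.f = l⁻¹ • P.f

theorem isKp_of_fix (k : SpG) (he : av k P.e = P.e) (hf : av k P.f = P.f) : IsKp P k 1 :=
  ⟨one_ne_zero, by rw [one_smul]; exact he, by rw [inv_one, one_smul]; exact hf⟩

section lift
variable (p : ℕ) [hp : Fact p.Prime] [CharP F p] (hm : 2 ≤ m)
  (β : MulAut (Cfsg.PSp m F)) (hβe : img β (Rb P.e) = Rb P.e)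

include hp hm hβe in
theorem exists_lift (g : SpG) (hg : g ∈ Qv P.e) :
    ∃ g' : SpG, g' ∈ Qv P.e ∧ pu g' = β (pu g) := by
  have h1 : β (pu g) ∈ img β (Qb P.e) := mem_img_of β _ (Subgroup.mem_map_of_mem _ hg)
  rw [img_Qb P p hm β hβe] at h1
  exact Subgroup.mem_map.mp h1

include hp hm hβe in
theorem lft_spec (g : SpG) (hg : g ∈ Qv P.e) :
    lft P β g ∈ Qv P.e ∧ pu (lft P β g) = β (pu g) := by
  unfold lft
  rw [dif_pos (exists_lift P p hm β hβe g hg)]
  exact Classical.choose_spec (exists_lift P p hm β hβe g hg)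

include hp hm hβe in
theorem lft_unique (g : SpG) (hg : g ∈ Qv P.e) (g' : SpG)
    (hg' : g' ∈ Qv P.e) (h : pu g' = β (pu g)) : lft P β g = g' := by
  obtain ⟨h1, h2⟩ := lft_spec P p hm β hβe g hg
  exact eq_of_pu_eq (p := p) (by omega) _ _ 2 (Qv_pow p (by omega) P.e _ h1)
    (Qv_pow p (by omega) P.e _ hg') (by rw [h2, h])

include hp hm hβe in
theorem lft_mul (g g' : SpG) (hg : g ∈ Qv P.e) (hg' : g' ∈ Qv P.e) :
    lft P β (g * g') = lft P β g * lft P β g' := by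
  obtain ⟨h1, h2⟩ := lft_spec P p hm β hβe g hg
  obtain ⟨h1', h2'⟩ := lft_spec P p hm β hβe g' hg'
  apply lft_unique P p hm β hβe _ ((Qv P.e).mul_mem hg hg') _ ((Qv P.e).mul_mem h1 h1')
  rw [map_mul, map_mul, map_mul, h2, h2']

include hp hm hβe in
theorem lft_inv (g : SpG) (hg : g ∈ Qv P.e) :
    lft P β g⁻¹ = (lft P β g)⁻¹ := by
  obtain ⟨h1, h2⟩ := lft_spec P p hm β hβe g hg
  apply lft_unique P p hm β hβe _ ((Qv P.e).inv_mem hg) _ ((Qv P.e).inv_mem h1)
  rw [map_inv, map_inv, map_inv, h2]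

include hp hm hβe in
theorem lft_Tp (g : SpG) (hg : g ∈ Tp P.e) : lft P β g ∈ Tp P.e := by
  have h1 : β (pu g) ∈ img β (Rb P.e) := mem_img_of β _ (Subgroup.mem_map_of_mem _ hg)
  rw [hβe] at h1
  obtain ⟨g'', hg'', h2⟩ := Subgroup.mem_map.mp h1
  have := lft_unique P p hm β hβe g (Tp_le_Qv P.e hg) g'' (Tp_le_Qv P.e hg'') h2
  rw [this]
  exact hg''

include hp hm hβe in
theorem lft_symm (g : SpG) (hg : g ∈ Qv P.e) :
    lft P (MulEquiv.symm β) (lft P β g) = g := by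
  obtain ⟨h1, h2⟩ := lft_spec P p hm β hβe g hg
  apply lft_unique P p hm (MulEquiv.symm β) (AutPSU.img_symm_eq β _ hβe) _ h1 _ hg
  rw [h2, MulEquiv.symm_apply_apply]

/-- the map induced on the complement -/
noncomputable def bbar (w : Vec) : Vec := P.wc (lft P β (P.sg w 0))

include hp hm hβe in
theorem wc_lft (g : SpG) (hg : g ∈ Qv P.e) :
    P.wc (lft P β g) = bbar P β (P.wc g) := by
  have hw := P.wc_W g
  unfold bbar
  obtain ⟨g₀, hg₀⟩ : ∃ g₀, g₀ = P.sg (P.wc g) 0 := ⟨_, rfl⟩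
  rw [← hg₀]
  have hg₀m : g₀ ∈ Qv P.e := by rw [hg₀]; exact P.sg_mem _ _ hw
  have hwg₀ : P.wc g₀ = P.wc g := by rw [hg₀, P.wc_sg _ _ hw]
  have hm' : g₀⁻¹ * g ∈ Qv P.e := (Qv P.e).mul_mem ((Qv P.e).inv_mem hg₀m) hg
  have h1 : P.wc (g₀⁻¹ * g) = 0 := by
    rw [P.wc_mul _ _ ((Qv P.e).inv_mem hg₀m) hg, P.wc_inv _ hg₀m, hwg₀, neg_add_cancel]
  have h2 := lft_Tp P p hm β hβe _ (P.mem_Tp_of_wc _ hm' h1)
  obtain ⟨c, h3⟩ := (mem_Tp_iff P.e _).mp h2
  have h4 : lft P β g = lft P β g₀ * lft P β (g₀⁻¹ * g) := by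
    rw [← lft_mul P p hm β hβe _ _ hg₀m hm']
    congr 1
    group
  rw [h4, P.wc_mul _ _ (lft_spec P p hm β hβe _ hg₀m).1 (lft_spec P p hm β hβe _ hm').1,
    h3, P.wc_tv, add_zero]

include hp hm hβe in
theorem bbar_W (w : Vec) : P.W (bbar P β w) := P.wc_W _

include hp hm hβe in
theorem bbar_sg (w : Vec) (b : F) (hw : P.W w) :
    bbar P β w = P.wc (lft P β (P.sg w b)) := by
  rw [wc_lft P p hm β hβe _ (P.sg_mem _ _ hw), P.wc_sg _ _ hw]

include hp hm hβe in
theorem bbar_add (w w' : Vec) (hw : P.W w) (hw' : P.W w') :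
    bbar P β (w + w') = bbar P β w + bbar P β w' := by
  have hg := P.sg_mem w 0 hw
  have hg' := P.sg_mem w' 0 hw'
  have h1 : P.wc (P.sg w 0 * P.sg w' 0) = w + w' := by
    rw [P.wc_mul _ _ hg hg', P.wc_sg _ _ hw, P.wc_sg _ _ hw']
  rw [← h1, ← wc_lft P p hm β hβe _ ((Qv P.e).mul_mem hg hg'), lft_mul P p hm β hβe _ _ hg hg',
    P.wc_mul _ _ (lft_spec P p hm β hβe _ hg).1 (lft_spec P p hm β hβe _ hg').1]
  rfl

include hp hm hβe in
theorem bbar_symm (w : Vec) (hw : P.W w) :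
    bbar P (MulEquiv.symm β) (bbar P β w) = w := by
  have hg := P.sg_mem w 0 hw
  change bbar P (MulEquiv.symm β) (P.wc (lft P β (P.sg w 0))) = w
  rw [← wc_lft P p hm (MulEquiv.symm β) (AutPSU.img_symm_eq β _ hβe) _
    (lft_spec P p hm β hβe _ hg).1, lft_symm P p hm β hβe _ hg, P.wc_sg _ _ hw]

include hp hm hβe in
theorem bbar_zero : bbar P β 0 = 0 := by
  have := bbar_add P p hm β hβe 0 0 P.W_zero P.W_zero
  rw [add_zero] at this
  exact left_eq_add.mp this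

include hp hm hβe in
/-- preimages of the image of an element stabilising the two points stabilise the two points -/
theorem Kp_of_img (hβf : img β (Rb P.f) = Rb P.f) (k k' : SpG) (l : F) (hk : IsKp P k l)
    (hkk' : pu k' = β (pu k)) : ∃ l' : F, IsKp P k' l' := by
  obtain ⟨hl, hke, hkf⟩ := hk
  have h1 : img (MulAut.conj (pu k)) (Rb P.e) = Rb P.e := by
    rw [img_conj_Rb k P.e, hke, Rb_smul _ hl P.e]
  have h2 : img (MulAut.conj (pu k)) (Rb P.f) = Rb P.f := by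
    rw [img_conj_Rb k P.f, hkf, Rb_smul _ (inv_ne_zero hl) P.f]
  have h3 := img_conj_comm β (pu k) (Rb P.e)
  rw [h1, hβe, ← hkk'] at h3
  have h4' := img_conj_comm β (pu k) (Rb P.f)
  rw [h2, hβf, ← hkk'] at h4'
  obtain ⟨a, ha0, ha⟩ := point_of_norm p (by omega) P.e P.e_ne k' h3.symm
  obtain ⟨b, hb0, hb⟩ := point_of_norm p (by omega) P.f P.f_ne k' h4'.symm
  refine ⟨a, ha0, ha, ?_⟩
  have h5 : Bf (av k' P.e) (av k' P.f) = 1 := by rw [B_av, P.hef]
  rw [ha, hb, sympForm_smul_left, sympForm_smul_right, P.hef, mul_one] at h5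
  rw [hb]
  congr 1
  exact eq_inv_of_mul_eq_one_right h5

include hp hm hβe in
theorem lft_conj (k k' : SpG) (l l' : F) (hk : IsKp P k l)
    (hk' : IsKp P k' l') (hkk' : pu k' = β (pu k)) (g : SpG) (hg : g ∈ Qv P.e) :
    lft P β (k * g * k⁻¹) = k' * lft P β g * k'⁻¹ := by
  obtain ⟨h1, h2⟩ := lft_spec P p hm β hβe g hg
  apply lft_unique P p hm β hβe _ (Qv_conj P.e k l hk.1 hk.2.1 g hg) _
    (Qv_conj P.e k' l' hk'.1 hk'.2.1 _ h1)
  simp only [map_mul, map_inv, h2, hkk']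

include hp hm hβe in
/-- equivariance of the induced map -/
theorem bbar_conj (k k' : SpG) (l l' : F) (hk : IsKp P k l)
    (hk' : IsKp P k' l') (hkk' : pu k' = β (pu k)) (w : Vec) (b : F) (hw : P.W w) :
    bbar P β (l • av k w) = l' • av k' (bbar P β w) ∧
      P.bc (lft P β (P.sg (l • av k w) (l * l * b))) = l' * l' * P.bc (lft P β (P.sg w b)) := by
  have hg := P.sg_mem w b hw
  obtain ⟨h1, h2⟩ := lft_spec P p hm β hβe _ hg
  obtain ⟨hW, e1⟩ := sg_conj P k l hk.1 hk.2.1 hk.2.2 w b hw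
  have e2 := lft_conj P p hm β hβe k k' l l' hk hk' hkk' _ hg
  rw [e1] at e2
  have e3 := P.Qv_eq_sg _ h1
  rw [e3] at e2
  obtain ⟨hW', e4⟩ := sg_conj P k' l' hk'.1 hk'.2.1 hk'.2.2 _ (P.bc (lft P β (P.sg w b)))
    (P.wc_W (lft P β (P.sg w b)))
  rw [e4] at e2
  constructor
  · rw [bbar_sg P p hm β hβe _ (l * l * b) (P.W_smul l hW), e2, P.wc_sg _ _ (P.W_smul l' hW'),
      ← bbar_sg P p hm β hβe w b hw]
  · rw [e2, P.bc_sg _ _ (P.W_smul l' hW')]

end lift

end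

end Cfsg.Agent.Lib.Helper6.AutPSp
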