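import Mathlib
import Cfsg.Agent.Lib.Helper6.AutPSp6

/-!
# Automorphisms of `PSp_{2m}(q)`, part 7: additive bijections of the complement which are
equivariant for the transvections of the Levi factor are semilinear similitudes
-/

set_option autoImplicit false
set_option linter.unusedSectionVars false
set_option linter.unusedVariables false
open Cfsg

namespace Cfsg.Agent.Lib.Helper6.AutPSp

open Matrix Cfsg.Agent.Lib.Helper6 Cfsg.Agent.Lib.Helper6.SympRoot Cfsg.Agent.Lib.Helper6.AutPSL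

section
variable {m : ℕ} {F : Type*} [Field F] [Fintype F]

set_option quotPrecheck false in
local notation "SpG" => ↥(Matrix.symplecticGroup (Fin m) F)
local notation "Vec" => (Fin m ⊕ Fin m → F)
local notation "Bf" => Cfsg.sympForm m F

variable (P : HPair m F)

/-- two non-zero vectors of the complement have a common non-orthogonal vector -/
theorem exists_common_W (u v : Vec) (hu : P.W u) (hv : P.W v) (hu0 : u ≠ 0) (hv0 : v ≠ 0) :
    ∃ z, P.W z ∧ Bf u z ≠ 0 ∧ Bf v z ≠ 0 := by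
  obtain ⟨yu, hyu, hu1⟩ := P.exists_W_partner hu hu0
  obtain ⟨yv, hyv, hv1⟩ := P.exists_W_partner hv hv0
  by_cases h1 : Bf v yu = 0
  · by_cases h2 : Bf u yv = 0
    · refine ⟨yu + yv, P.W_add hyu hyv, ?_, ?_⟩
      · rw [sympForm_add_right, hu1, h2, add_zero]; exact one_ne_zero
      · rw [sympForm_add_right, hv1, h1, zero_add]; exact one_ne_zero
    · exact ⟨yv, hyv, h2, by rw [hv1]; exact one_ne_zero⟩
  · exact ⟨yu, hyu, by rw [hu1]; exact one_ne_zero, h1⟩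

section semi
variable (T T' : (Fin m ⊕ Fin m → F) → (Fin m ⊕ Fin m → F))
  (hTW : ∀ w, P.W w → P.W (T w)) (hT'W : ∀ w, P.W w → P.W (T' w))
  (hTadd : ∀ w w', P.W w → P.W w' → T (w + w') = T w + T w')
  (hT'add : ∀ w w', P.W w → P.W w' → T' (w + w') = T' w + T' w')
  (hTT' : ∀ w, P.W w → T (T' w) = w) (hT'T : ∀ w, P.W w → T' (T w) = w)
  (hTtv : ∀ u, P.W u → u ≠ 0 → ∀ a : F, ∃ (u' : Fin m ⊕ Fin m → F) (a' : F), P.W u' ∧
    ∀ w, P.W w → T (w + (a * Cfsg.sympForm m F w u) • u) = T w + (a' * Cfsg.sympForm m F (T w) u') • u')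
  (hT'tv : ∀ u, P.W u → u ≠ 0 → ∀ a : F, ∃ (u' : Fin m ⊕ Fin m → F) (a' : F), P.W u' ∧
    ∀ w, P.W w → T' (w + (a * Cfsg.sympForm m F w u) • u) = T' w + (a' * Cfsg.sympForm m F (T' w) u') • u')

include hTadd in
theorem T_zero' : T 0 = 0 := by
  have := hTadd 0 0 P.W_zero P.W_zero
  rw [add_zero] at this
  exact left_eq_add.mp this

include hT'T hTadd in
theorem T_ne_zero (u : Vec) (hu : P.W u) (hu0 : u ≠ 0) : T u ≠ 0 := by
  intro h
  apply hu0
  have h1 := hT'T u hu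
  have h2 := hT'T 0 P.W_zero
  rw [T_zero' P T hTadd] at h2
  rw [h] at h1
  rw [← h1, h2]

include hTW hTadd hT'T hTtv in
/-- lines go to lines -/
theorem T_line (u : Vec) (hu : P.W u) (c : F) : ∃ d : F, T (c • u) = d • T u := by
  by_cases hu0 : u = 0
  · refine ⟨0, ?_⟩
    rw [hu0, smul_zero, T_zero' P T hTadd, smul_zero]
  obtain ⟨y, hy, huy⟩ := P.exists_W_partner hu hu0
  obtain ⟨w₁, hw₁⟩ : ∃ w₁, w₁ = -y := ⟨_, rfl⟩
  have hw₁W : P.W w₁ := by rw [hw₁]; exact P.W_neg hy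
  have hw₁u : Bf w₁ u = 1 := by rw [hw₁, sympForm_neg_left, B_swap, huy, neg_neg]
  obtain ⟨u', a', hu'W, htv⟩ := hTtv u hu hu0 1
  have key : ∀ w, P.W w → T (Bf w u • u) = (a' * Bf (T w) u') • u' := by
    intro w hw
    have h1 := htv w hw
    rw [one_mul, hTadd _ _ hw (P.W_smul _ hu)] at h1
    exact add_left_cancel h1
  have h1 := key w₁ hw₁W
  rw [hw₁u, one_smul] at h1
  have hs0 : a' * Bf (T w₁) u' ≠ 0 := by
    intro h0
    rw [h0, zero_smul] at h1
    exact T_ne_zero P T T' hTadd hT'T u hu hu0 h1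
  have h2 := key (c • w₁) (P.W_smul c hw₁W)
  rw [sympForm_smul_left, hw₁u, mul_one] at h2
  refine ⟨(a' * Bf (T (c • w₁)) u') * (a' * Bf (T w₁) u')⁻¹, ?_⟩
  rw [h2, h1, smul_smul, mul_assoc, inv_mul_cancel₀ hs0, mul_one]

include hTW hT'W hTadd hT'add hTT' hT'T hTtv hT'tv in
/-- non-orthogonal vectors have independent images -/
theorem T_indep (u v : Vec) (hu : P.W u) (hv : P.W v) (huv : Bf u v ≠ 0) (a b : F)
    (h : a • T u + b • T v = 0) : a = 0 ∧ b = 0 := by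
  have hu0 : u ≠ 0 := Cfsg.Agent.S0768.ne_zero_of_form_left huv
  have hb : b = 0 := by
    by_contra hb0
    have h1 : T v = (-(a / b)) • T u := by
      have h2 : b • T v = (-a) • T u := by
        rw [neg_smul]
        exact eq_neg_of_add_eq_zero_right h
      calc T v = b⁻¹ • (b • T v) := by rw [smul_smul, inv_mul_cancel₀ hb0, one_smul]
        _ = (-(a / b)) • T u := by rw [h2, smul_smul]; congr 1; field_simp
    obtain ⟨d, hd⟩ := T_line P T' T hT'W hT'add hTT' hT'tv (T u) (hTW u hu) (-(a / b))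
    rw [← h1, hT'T v hv, hT'T u hu] at hd
    rw [hd, sympForm_smul_right, B_self, mul_zero] at huv
    exact huv rfl
  refine ⟨?_, hb⟩
  rw [hb, zero_smul, add_zero] at h
  rcases smul_eq_zero.mp h with h1 | h1
  · exact h1
  · exact absurd h1 (T_ne_zero P T T' hTadd hT'T u hu hu0)

include hTW hT'W hTadd hT'add hTT' hT'T hTtv hT'tv in
theorem exists_scalar (c : F) : ∃ d : F, ∀ x, P.W x → T (c • x) = d • T x := by
  classical
  by_cases hW : ∀ x, P.W x → x = 0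
  · refine ⟨0, fun x hx => ?_⟩
    rw [hW x hx, smul_zero, T_zero' P T hTadd, smul_zero]
  push Not at hW
  obtain ⟨u₀, hu₀, hu₀0⟩ := hW
  choose d hd using fun (u : {u : Vec // P.W u}) => T_line P T T' hTW hTadd hT'T hTtv u.1 u.2 c
  have hstep : ∀ u v : Vec, ∀ (hu : P.W u) (hv : P.W v), Bf u v ≠ 0 → d ⟨u, hu⟩ = d ⟨v, hv⟩ := by
    intro u v hu hv huv
    have huvW := P.W_add hu hv
    have h1 := hd ⟨u + v, huvW⟩
    change T (c • (u + v)) = _ • T (u + v) at h1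
    rw [smul_add, hTadd _ _ (P.W_smul c hu) (P.W_smul c hv), hTadd u v hu hv] at h1
    have h2 := hd ⟨u, hu⟩
    have h3 := hd ⟨v, hv⟩
    change T (c • u) = _ • T u at h2
    change T (c • v) = _ • T v at h3
    rw [h2, h3] at h1
    have h4 : (d ⟨u, hu⟩ - d ⟨u + v, huvW⟩) • T u + (d ⟨v, hv⟩ - d ⟨u + v, huvW⟩) • T v = 0 := by
      have : (d ⟨u, hu⟩ - d ⟨u + v, huvW⟩) • T u + (d ⟨v, hv⟩ - d ⟨u + v, huvW⟩) • T v =
          (d ⟨u, hu⟩ • T u + d ⟨v, hv⟩ • T v) - d ⟨u + v, huvW⟩ • (T u + T v) := by module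
      rw [this, h1, sub_self]
    obtain ⟨h5, h6⟩ := T_indep P T T' hTW hT'W hTadd hT'add hTT' hT'T hTtv hT'tv u v hu hv huv _ _ h4
    rw [sub_eq_zero.mp h5, sub_eq_zero.mp h6]
  refine ⟨d ⟨u₀, hu₀⟩, fun x hx => ?_⟩
  by_cases hx0 : x = 0
  · rw [hx0, smul_zero, T_zero' P T hTadd, smul_zero]
  obtain ⟨z, hz, hxz, hu₀z⟩ := exists_common_W P x u₀ hx hu₀ hx0 hu₀0
  have := hd ⟨x, hx⟩
  change T (c • x) = _ • T x at this
  rw [this, hstep x z hx hz hxz, ← hstep u₀ z hu₀ hz hu₀z]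

include hTW hT'W hTadd hT'add hTT' hT'T hTtv hT'tv in
/-- **equivariant additive bijections of the complement are semilinear** -/
theorem exists_semilinear (hm : 2 ≤ m) :
    ∃ σ : F ≃+* F, ∀ (a : F) (x : Vec), P.W x → T (a • x) = σ a • T x := by
  choose σ₀ hσ₀ using exists_scalar P T T' hTW hT'W hTadd hT'add hTT' hT'T hTtv hT'tv
  obtain ⟨w₀, hw₀, hw₀0⟩ := exists_ne_W P hm
  obtain ⟨x₁, hx₁⟩ : ∃ x₁, x₁ = T' w₀ := ⟨_, rfl⟩
  have hx₁W : P.W x₁ := by rw [hx₁]; exact hT'W _ hw₀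
  have hTx₁ : T x₁ = w₀ := by rw [hx₁]; exact hTT' _ hw₀
  have hinj : ∀ a b : F, a • w₀ = b • w₀ → a = b := by
    intro a b h
    have h1 : (a - b) • w₀ = 0 := by rw [sub_smul, h, sub_self]
    rcases smul_eq_zero.mp h1 with h2 | h2
    · exact sub_eq_zero.mp h2
    · exact absurd h2 hw₀0
  have hadd : ∀ c d, σ₀ (c + d) = σ₀ c + σ₀ d := by
    intro c d
    apply hinj
    rw [← hTx₁, ← hσ₀ _ _ hx₁W, add_smul, add_smul,
      hTadd _ _ (P.W_smul _ hx₁W) (P.W_smul _ hx₁W), hσ₀ _ _ hx₁W, hσ₀ _ _ hx₁W]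
  have hmul : ∀ c d, σ₀ (c * d) = σ₀ c * σ₀ d := by
    intro c d
    apply hinj
    rw [← hTx₁, ← hσ₀ _ _ hx₁W, mul_smul, hσ₀ _ _ (P.W_smul _ hx₁W), hσ₀ _ _ hx₁W, smul_smul]
  have hone : σ₀ 1 = 1 := by
    apply hinj
    rw [← hTx₁, ← hσ₀ _ _ hx₁W, one_smul, one_smul]
  have hzero : σ₀ 0 = 0 := by
    have := hadd 0 0
    rw [add_zero] at this
    exact left_eq_add.mp this
  let σh : F →+* F :=
    { toFun := σ₀
      map_one' := hone
      map_mul' := hmul
      map_zero' := hzero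
      map_add' := hadd }
  have hbij : Function.Bijective σh :=
    ⟨σh.injective, Finite.injective_iff_surjective.mp σh.injective⟩
  refine ⟨RingEquiv.ofBijective σh hbij, ?_⟩
  intro a x hx
  exact hσ₀ a x hx

include hTW hT'W hTadd hT'add hTT' hT'T hTtv in
/-- **the form is scaled and twisted** -/
theorem exists_similitude (hm : 2 ≤ m) (σ : F ≃+* F)
    (hσ : ∀ (a : F) (x : Vec), P.W x → T (a • x) = σ a • T x) :
    ∃ ν : F, ν ≠ 0 ∧ ∀ w w', P.W w → P.W w' → Bf (T w) (T w') = ν * σ (Bf w w') := by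
  classical
  -- the local constants
  have hloc : ∀ u, P.W u → u ≠ 0 → ∃ cu : F, ∀ w, P.W w → Bf (T w) (T u) = cu * σ (Bf w u) := by
    intro u hu hu0
    obtain ⟨y, hy, huy⟩ := P.exists_W_partner hu hu0
    obtain ⟨w₁, hw₁⟩ : ∃ w₁, w₁ = -y := ⟨_, rfl⟩
    have hw₁W : P.W w₁ := by rw [hw₁]; exact P.W_neg hy
    have hw₁u : Bf w₁ u = 1 := by rw [hw₁, sympForm_neg_left, B_swap, huy, neg_neg]
    obtain ⟨u', a', hu'W, htv⟩ := hTtv u hu hu0 1
    have key : ∀ w, P.W w → σ (Bf w u) • T u = (a' * Bf (T w) u') • u' := by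
      intro w hw
      have h1 := htv w hw
      rw [one_mul, hTadd _ _ hw (P.W_smul _ hu), hσ _ _ hu] at h1
      exact add_left_cancel h1
    have h1 := key w₁ hw₁W
    rw [hw₁u, map_one, one_smul] at h1
    have hTu0 := T_ne_zero P T T' hTadd hT'T u hu hu0
    have hs0 : a' * Bf (T w₁) u' ≠ 0 := by
      intro h0
      rw [h0, zero_smul] at h1
      exact hTu0 h1
    obtain ⟨s, hs⟩ : ∃ s, s = (a' * Bf (T w₁) u')⁻¹ := ⟨_, rfl⟩
    have hu' : u' = s • T u := by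
      rw [h1, hs, smul_smul, inv_mul_cancel₀ hs0, one_smul]
    have hss : a' * s * s ≠ 0 := by
      intro h0
      have h2 := key w₁ hw₁W
      rw [hw₁u, map_one, one_smul] at h2
      rw [hu', sympForm_smul_right, smul_smul] at h2
      have h3 : a' * (s * Bf (T w₁) (T u)) * s = a' * s * s * Bf (T w₁) (T u) := by ring
      rw [h3, h0, zero_mul, zero_smul] at h2
      exact hTu0 h2
    refine ⟨(a' * s * s)⁻¹, fun w hw => ?_⟩
    have h2 := key w hw
    rw [hu', sympForm_smul_right, smul_smul] at h2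
    have h3 : (σ (Bf w u) - a' * s * s * Bf (T w) (T u)) • T u = 0 := by
      rw [sub_smul, h2, sub_eq_zero]
      congr 1
      ring
    rcases smul_eq_zero.mp h3 with h4 | h4
    · have h5 : σ (Bf w u) = a' * s * s * Bf (T w) (T u) := sub_eq_zero.mp h4
      rw [h5, ← mul_assoc, inv_mul_cancel₀ hss, one_mul]
    · exact absurd h4 hTu0
  obtain ⟨u₀, hu₀, hu₀0⟩ := exists_ne_W P hm
  obtain ⟨ν, hν⟩ := hloc u₀ hu₀ hu₀0
  have hstep : ∀ u v (cu cv : F), P.W u → P.W v → Bf u v ≠ 0 →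
      (∀ w, P.W w → Bf (T w) (T u) = cu * σ (Bf w u)) →
      (∀ w, P.W w → Bf (T w) (T v) = cv * σ (Bf w v)) → cu = cv := by
    intro u v cu cv hu hv huv h1 h2
    have e1 := h1 v hv
    have e2 := h2 u hu
    rw [B_swap (T v) (T u), e2, B_swap v u, map_neg] at e1
    have h3 : σ (Bf u v) ≠ 0 := by
      intro h
      exact huv ((map_eq_zero_iff σ σ.injective).mp h)
    have : (cu - cv) * σ (Bf u v) = 0 := by linear_combination e1
    rcases mul_eq_zero.mp this with h | h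
    · exact sub_eq_zero.mp h
    · exact absurd h h3
  have hall : ∀ u, P.W u → u ≠ 0 → ∀ w, P.W w → Bf (T w) (T u) = ν * σ (Bf w u) := by
    intro u hu hu0
    obtain ⟨cu, hcu⟩ := hloc u hu hu0
    obtain ⟨z, hz, huz, hu₀z⟩ := exists_common_W P u u₀ hu hu₀ hu0 hu₀0
    have hz0 : z ≠ 0 := Cfsg.Agent.S0768.ne_zero_of_form_right huz
    obtain ⟨cz, hcz⟩ := hloc z hz hz0
    have e1 := hstep u z cu cz hu hz huz hcu hcz
    have e2 := hstep u₀ z ν cz hu₀ hz hu₀z hν hcz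
    rw [e1, ← e2] at hcu
    exact hcu
  refine ⟨ν, ?_, ?_⟩
  · intro h0
    have h1 : T u₀ = 0 := by
      apply P.W_nondeg (hTW _ hu₀)
      intro y hy
      have := hν (T' y) (hT'W y hy)
      rw [hTT' y hy, h0, zero_mul] at this
      rw [B_swap, this, neg_zero]
    exact T_ne_zero P T T' hTadd hT'T u₀ hu₀ hu₀0 h1
  · intro w w' hw hw'
    by_cases hw'0 : w' = 0
    · rw [hw'0, T_zero' P T hTadd, sympForm_zero_right, sympForm_zero_right, map_zero, mul_zero]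
    · exact hall w' hw' hw'0 w hw

end semi

end

end Cfsg.Agent.Lib.Helper6.AutPSp
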