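import Mathlib
import Cfsg.Agent.Lib.Helper6.AutPSp7
import Cfsg.Prelude.Def_LieTypeDatum

/-!
# Automorphisms of `PSp_{2m}(q)`, part 8: the standard automorphisms of `PSp_{2m}(q)` and the
automorphism attached to a semilinear similitude
-/

set_option autoImplicit false
set_option linter.unusedSectionVars false
set_option linter.unusedVariables false
open Cfsg

namespace Cfsg.Agent.Lib.Helper6.AutPSp

open Matrix Cfsg.Agent.Lib.Helper6 Cfsg.Agent.Lib.Helper6.SympRoot Cfsg.Agent.Lib.Helper6.AutPSL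

section
variable {m : ℕ} {F : Type*} [Field F]

set_option quotPrecheck false in
local notation "SpG" => ↥(Matrix.symplecticGroup (Fin m) F)
local notation "Vec" => (Fin m ⊕ Fin m → F)
local notation "Bf" => Cfsg.sympForm m F
local notation "Mat" => Matrix (Fin m ⊕ Fin m) (Fin m ⊕ Fin m) F

theorem sympForm_map (σ : F ≃+* F) (x y : Vec) :
    Bf (fun i => σ (x i)) (fun i => σ (y i)) = σ (Bf x y) := by
  rw [sympForm_eq_sum, sympForm_eq_sum, map_sum]
  apply Finset.sum_congr rfl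
  intro i _
  rw [map_sub, map_mul, map_mul]

theorem map_mulVec_apply (σ : F ≃+* F) (M : Mat) (x : Vec) :
    M.map σ *ᵥ (fun i => σ (x i)) = fun i => σ ((M *ᵥ x) i) := by
  funext i
  have := RingHom.map_mulVec (σ : F →+* F) M x i
  exact this.symm

theorem gsp_conj_mem (g : GL (Fin m ⊕ Fin m) F) (hg : g ∈ Cfsg.GSp m F) (s : SpG) :
    g.1 * s.1 * (g⁻¹).1 ∈ Matrix.symplecticGroup (Fin m) F := by
  rw [mem_symplecticGroup_iff_preserves]
  intro u v
  obtain ⟨c, hc⟩ := hg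
  have h1 := hc (s.1 *ᵥ ((g⁻¹).1 *ᵥ u)) (s.1 *ᵥ ((g⁻¹).1 *ᵥ v))
  have h2 := (mem_symplecticGroup_iff_preserves s.1).mp s.2 ((g⁻¹).1 *ᵥ u) ((g⁻¹).1 *ᵥ v)
  have h3 := hc ((g⁻¹).1 *ᵥ u) ((g⁻¹).1 *ᵥ v)
  rw [mulVec_mulVec, mulVec_mulVec] at h3
  have e1 : (g : Mat) * (g⁻¹).1 = 1 := gl_mul_inv g
  rw [e1, one_mulVec, one_mulVec] at h3
  rw [← mulVec_mulVec, ← mulVec_mulVec, ← mulVec_mulVec, ← mulVec_mulVec]
  rw [h1, h2, ← h3]

/-- conjugation by a conformal symplectic matrix as an automorphism of `Sp` -/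
noncomputable def cSp (g : GL (Fin m ⊕ Fin m) F) (hg : g ∈ Cfsg.GSp m F) : MulAut SpG where
  toFun s := ⟨g.1 * s.1 * (g⁻¹).1, gsp_conj_mem g hg s⟩
  invFun s := ⟨(g⁻¹).1 * s.1 * g.1, by
    have := gsp_conj_mem g⁻¹ ((Cfsg.GSp m F).inv_mem hg) s
    rwa [inv_inv] at this⟩
  left_inv s := by
    apply Subtype.ext
    change (g⁻¹).1 * (g.1 * s.1 * (g⁻¹).1) * g.1 = s.1
    have : (g⁻¹).1 * (g.1 * s.1 * (g⁻¹).1) * g.1 = ((g⁻¹).1 * g.1) * s.1 * ((g⁻¹).1 * g.1) := by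
      simp only [mul_assoc]
    rw [this, gl_inv_mul, one_mul, mul_one]
  right_inv s := by
    apply Subtype.ext
    change g.1 * ((g⁻¹).1 * s.1 * g.1) * (g⁻¹).1 = s.1
    have : g.1 * ((g⁻¹).1 * s.1 * g.1) * (g⁻¹).1 = (g.1 * (g⁻¹).1) * s.1 * (g.1 * (g⁻¹).1) := by
      simp only [mul_assoc]
    rw [this, gl_mul_inv, one_mul, mul_one]
  map_mul' s t := by
    apply Subtype.ext
    change g.1 * (s.1 * t.1) * (g⁻¹).1 = (g.1 * s.1 * (g⁻¹).1) * (g.1 * t.1 * (g⁻¹).1)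
    have : (g.1 * s.1 * (g⁻¹).1) * (g.1 * t.1 * (g⁻¹).1) =
        g.1 * s.1 * ((g⁻¹).1 * g.1) * t.1 * (g⁻¹).1 := by
      simp only [mul_assoc]
    rw [this, gl_inv_mul, mul_one]
    simp only [mul_assoc]

theorem cSp_val (g : GL (Fin m ⊕ Fin m) F) (hg : g ∈ Cfsg.GSp m F) (s : SpG) :
    (cSp g hg s).1 = g.1 * s.1 * (g⁻¹).1 := rfl

theorem map_mem (σ : F ≃+* F) (s : SpG) : s.1.map σ ∈ Matrix.symplecticGroup (Fin m) F := by
  rw [mem_symplecticGroup_iff_preserves]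
  intro u v
  have hu : u = fun i => σ (σ.symm (u i)) := by funext i; simp
  have hv : v = fun i => σ (σ.symm (v i)) := by funext i; simp
  have h2 := (mem_symplecticGroup_iff_preserves s.1).mp s.2 (fun i => σ.symm (u i))
    (fun i => σ.symm (v i))
  conv_lhs => rw [hu, hv]
  rw [map_mulVec_apply, map_mulVec_apply, sympForm_map, h2, ← sympForm_map, ← hu, ← hv]

/-- entrywise field automorphism of `Sp` -/
noncomputable def fSp (σ : F ≃+* F) : MulAut SpG where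
  toFun s := ⟨s.1.map σ, map_mem σ s⟩
  invFun s := ⟨s.1.map σ.symm, map_mem σ.symm s⟩
  left_inv s := by
    apply Subtype.ext
    change (s.1.map σ).map σ.symm = s.1
    ext i j
    simp
  right_inv s := by
    apply Subtype.ext
    change (s.1.map σ.symm).map σ = s.1
    ext i j
    simp
  map_mul' s t := by
    apply Subtype.ext
    change (s.1 * t.1).map σ = s.1.map σ * t.1.map σ
    exact Matrix.map_mul

theorem fSp_val (σ : F ≃+* F) (s : SpG) : (fSp σ s).1 = s.1.map σ := rfl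

/-- inner-diagonal automorphisms of `PSp` -/
noncomputable def cP (g : GL (Fin m ⊕ Fin m) F) (hg : g ∈ Cfsg.GSp m F) :
    MulAut (Cfsg.PSp m F) :=
  AutInduced.autQuot (Subgroup.center SpG) (cSp g hg)

theorem cP_mk (g : GL (Fin m ⊕ Fin m) F) (hg : g ∈ Cfsg.GSp m F) (s : SpG) :
    cP g hg (pu s) = pu (cSp g hg s) :=
  AutInduced.autQuot_mk _ _ _

/-- field automorphisms of `PSp` -/
noncomputable def fP (σ : F ≃+* F) : MulAut (Cfsg.PSp m F) :=
  AutInduced.autQuot (Subgroup.center SpG) (fSp σ)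

theorem fP_mk (σ : F ≃+* F) (s : SpG) : fP σ (pu s) = pu (fSp σ s) :=
  AutInduced.autQuot_mk _ _ _

theorem isSemi_cP_fP (g : GL (Fin m ⊕ Fin m) F) (hg : g ∈ Cfsg.GSp m F) (σ : F ≃+* F) :
    Cfsg.IsInducedBySemilinearPSp g σ (cP g hg * fP σ : MulAut (Cfsg.PSp m F)) := by
  intro s s' h
  change cP g hg (fP σ (pu s)) = pu s'
  rw [fP_mk, cP_mk]
  congr 1
  apply Subtype.ext
  rw [h]
  rfl

theorem cP_fP_mem_gamma (g : GL (Fin m ⊕ Fin m) F) (hg : g ∈ Cfsg.GSp m F) (σ : F ≃+* F) :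
    (cP g hg * fP σ : MulAut (Cfsg.PSp m F)) ∈ Cfsg.gammaPSp m F :=
  Subgroup.subset_closure ⟨g, σ, hg, isSemi_cP_fP g hg σ⟩

end

/-- semilinear similitudes -/
structure SemiSim (m : ℕ) (F : Type*) [Field F] where
  S : (Fin m ⊕ Fin m → F) → (Fin m ⊕ Fin m → F)
  σ : F ≃+* F
  ν : F
  hν : ν ≠ 0
  add : ∀ x y, S (x + y) = S x + S y
  smul : ∀ (a : F) x, S (a • x) = σ a • S x
  form : ∀ x y, Cfsg.sympForm m F (S x) (S y) = ν * σ (Cfsg.sympForm m F x y)

namespace SemiSim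

section
variable {m : ℕ} {F : Type*} [Field F]

set_option quotPrecheck false in
local notation "SpG" => ↥(Matrix.symplecticGroup (Fin m) F)
local notation "Vec" => (Fin m ⊕ Fin m → F)
local notation "Bf" => Cfsg.sympForm m F
local notation "Mat" => Matrix (Fin m ⊕ Fin m) (Fin m ⊕ Fin m) F

variable (Φ : SemiSim m F)

/-- the linear map `S ∘ σ⁻¹` -/
def lin : Vec →ₗ[F] Vec where
  toFun x := Φ.S (fun i => Φ.σ.symm (x i))
  map_add' x y := by
    have : (fun i => Φ.σ.symm ((x + y) i)) =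
        (fun i => Φ.σ.symm (x i)) + (fun i => Φ.σ.symm (y i)) := by
      funext i
      simp
    rw [this, Φ.add]
  map_smul' a x := by
    have : (fun i => Φ.σ.symm ((a • x) i)) = Φ.σ.symm a • (fun i => Φ.σ.symm (x i)) := by
      funext i
      simp
    rw [this, Φ.smul]
    simp

/-- the matrix of `S ∘ σ⁻¹` -/
def mat : Mat := LinearMap.toMatrix' Φ.lin

theorem mat_mulVec (x : Vec) : Φ.mat *ᵥ x = Φ.S (fun i => Φ.σ.symm (x i)) :=
  LinearMap.toMatrix'_mulVec _ _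

theorem mat_mulVec' (y : Vec) : Φ.mat *ᵥ (fun i => Φ.σ (y i)) = Φ.S y := by
  rw [mat_mulVec]
  congr 1
  funext i
  simp

theorem mat_sim (x y : Vec) : Bf (Φ.mat *ᵥ x) (Φ.mat *ᵥ y) = Φ.ν * Bf x y := by
  rw [mat_mulVec, mat_mulVec, Φ.form, ← sympForm_map Φ.σ]
  simp

theorem exists_gl : ∃ g : GL (Fin m ⊕ Fin m) F, g ∈ Cfsg.GSp m F ∧ g.1 = Φ.mat := by
  have hunit : IsUnit Φ.mat := by
    rw [← Matrix.mulVec_injective_iff_isUnit]
    intro x y hxy
    have h0 : Φ.mat *ᵥ (x - y) = 0 := by rw [Matrix.mulVec_sub, hxy, sub_self]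
    have : x - y = 0 := by
      apply B_nondeg
      intro z
      have h1 := Φ.mat_sim (x - y) z
      rw [h0, sympForm_zero_left] at h1
      rcases mul_eq_zero.mp h1.symm with h | h
      · exact absurd h Φ.hν
      · exact h
    exact sub_eq_zero.mp this
  have hval : ((hunit.unit : GL (Fin m ⊕ Fin m) F) : Mat) = Φ.mat := IsUnit.unit_spec hunit
  refine ⟨hunit.unit, ?_, hval⟩
  refine ⟨Units.mk0 Φ.ν Φ.hν, ?_⟩
  intro u v
  rw [hval]
  exact Φ.mat_sim u v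

/-- the conformal symplectic matrix attached to the semilinear similitude -/
noncomputable def gl : GL (Fin m ⊕ Fin m) F := Classical.choose Φ.exists_gl

theorem gl_mem : Φ.gl ∈ Cfsg.GSp m F := (Classical.choose_spec Φ.exists_gl).1

theorem gl_val : Φ.gl.1 = Φ.mat := (Classical.choose_spec Φ.exists_gl).2

/-- the automorphism of `PSp` attached to the semilinear similitude -/
noncomputable def gam : MulAut (Cfsg.PSp m F) := cP Φ.gl Φ.gl_mem * fP Φ.σ

theorem gam_mem : Φ.gam ∈ Cfsg.gammaPSp m F := cP_fP_mem_gamma _ _ _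

theorem gam_pu (s : SpG) : Φ.gam (pu s) = pu (cSp Φ.gl Φ.gl_mem (fSp Φ.σ s)) := by
  change cP Φ.gl Φ.gl_mem (fP Φ.σ (pu s)) = _
  rw [fP_mk, cP_mk]

/-- the defining relation of the conjugate of `s` by the semilinear similitude -/
theorem av_gam (s : SpG) (y : Vec) :
    av (cSp Φ.gl Φ.gl_mem (fSp Φ.σ s)) (Φ.S y) = Φ.S (av s y) := by
  have hM := Φ.gl_val
  have h1 : av (cSp Φ.gl Φ.gl_mem (fSp Φ.σ s)) (Φ.S y) =
      Φ.gl.1 *ᵥ ((s.1.map Φ.σ) *ᵥ ((Φ.gl⁻¹).1 *ᵥ (Φ.S y))) := by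
    unfold av
    rw [cSp_val, fSp_val, ← mulVec_mulVec, ← mulVec_mulVec]
  have h2 : (Φ.gl⁻¹).1 *ᵥ (Φ.S y) = fun i => Φ.σ (y i) := by
    rw [← mat_mulVec' Φ y, ← hM, mulVec_mulVec, gl_inv_mul, one_mulVec]
  rw [h1, h2, map_mulVec_apply, hM, mat_mulVec']
  rfl

theorem S_zero : Φ.S 0 = 0 := by
  have := Φ.smul 0 0
  rwa [zero_smul, map_zero, zero_smul] at this

theorem S_sub (x y : Vec) : Φ.S (x - y) = Φ.S x - Φ.S y := by
  have h1 : x - y = x + (-1 : F) • y := by module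
  rw [h1, Φ.add, Φ.smul, map_neg, map_one]
  module

theorem S_injective : Function.Injective Φ.S := by
  intro x y hxy
  have h1 : Φ.S (x - y) = 0 := by rw [S_sub, hxy, sub_self]
  have h2 : x - y = 0 := by
    apply B_nondeg
    intro z
    have := Φ.form (x - y) z
    rw [h1, sympForm_zero_left] at this
    rcases mul_eq_zero.mp this.symm with h | h
    · exact absurd h Φ.hν
    · exact (map_eq_zero_iff _ Φ.σ.injective).mp h
  exact sub_eq_zero.mp h2

theorem S_surjective [Fintype F] : Function.Surjective Φ.S :=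
  Finite.injective_iff_surjective.mp Φ.S_injective

/-- characterisation of the image of an element under the attached automorphism -/
theorem gam_eq_of [Fintype F] (s s' : SpG) (h : ∀ y, av s' (Φ.S y) = Φ.S (av s y)) :
    Φ.gam (pu s) = pu s' := by
  rw [gam_pu]
  congr 1
  apply ext_av
  intro x
  obtain ⟨y, rfl⟩ := Φ.S_surjective x
  rw [av_gam, h]

theorem gam_tv [Fintype F] (u : Vec) (c : F) :
    Φ.gam (pu (tv u c)) = pu (tv (Φ.S u) (Φ.σ c * Φ.ν⁻¹)) := by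
  apply Φ.gam_eq_of
  intro y
  rw [av_tv, av_tv, Φ.add, Φ.smul, Φ.form, map_mul]
  congr 2
  have := Φ.hν
  field_simp

theorem img_gam_Rb [Fintype F] (u : Vec) : img Φ.gam (Rb u) = Rb (Φ.S u) := by
  ext x
  rw [mem_img, mem_Rb]
  constructor
  · rintro ⟨y, hy, rfl⟩
    obtain ⟨c, rfl⟩ := (mem_Rb u y).mp hy
    exact ⟨_, Φ.gam_tv u c⟩
  · rintro ⟨c, rfl⟩
    refine ⟨pu (tv u (Φ.σ.symm (c * Φ.ν))), (mem_Rb u _).mpr ⟨_, rfl⟩, ?_⟩
    rw [Φ.gam_tv]
    congr 2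
    rw [RingEquiv.apply_symm_apply, mul_assoc, mul_inv_cancel₀ Φ.hν, mul_one]

end

end SemiSim

end Cfsg.Agent.Lib.Helper6.AutPSp
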