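import Mathlib
import Cfsg.Agent.Lib.Helper6.AutPSp8

/-!
# Automorphisms of `PSp_{2m}(q)`, part 9: the semilinear similitude attached to an automorphism
fixing the two root subgroups of a hyperbolic pair
-/

set_option autoImplicit false
set_option linter.unusedSectionVars false
set_option linter.unusedVariables false
open Cfsg

namespace Cfsg.Agent.Lib.Helper6.AutPSp

open Matrix Cfsg.Agent.Lib.Helper6 Cfsg.Agent.Lib.Helper6.SympRoot Cfsg.Agent.Lib.Helper6.AutPSL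

section
variable {m : ℕ} {F : Type*} [Field F] [Fintype F]

set_option quotPrecheck false in
local notation "SpG" => ↥(Matrix.symplecticGroup (Fin m) F)
local notation "Vec" => (Fin m ⊕ Fin m → F)
local notation "Bf" => Cfsg.sympForm m F

variable (P : HPair m F)

theorem B_decomp (x y : Vec) :
    Bf x y = Bf x P.f * (- Bf y P.e) + Bf x P.e * Bf y P.f + Bf (P.proj x) (P.proj y) := by
  have hy := P.proj_W y
  have h1 : Bf x (P.proj y) = Bf (P.proj x) (P.proj y) := by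
    conv_lhs => rw [P.decomp x]
    rw [sympForm_add_left, sympForm_add_left, sympForm_smul_left, sympForm_smul_left,
      (P.W_swap hy).1, (P.W_swap hy).2]
    ring
  conv_lhs => rw [P.decomp y]
  rw [sympForm_add_right, sympForm_add_right, sympForm_smul_right, sympForm_smul_right, h1]
  ring

section lift
variable (p : ℕ) [hp : Fact p.Prime] [CharP F p] (hm : 2 ≤ m) (h4 : m = 2 → p ≠ 2)
  (β : MulAut (Cfsg.PSp m F)) (hβe : img β (Rb P.e) = Rb P.e) (hβf : img β (Rb P.f) = Rb P.f)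

include hp hm h4 hβe hβf in
/-- the image of a transvection of the Levi factor is a transvection of the Levi factor -/
theorem exists_tv_img (u : Vec) (hu : P.W u) (hu0 : u ≠ 0) (a : F) :
    ∃ (u' : Vec) (a' : F), P.W u' ∧ u' ≠ 0 ∧ β (pu (tv u a)) = pu (tv u' a') := by
  have hm1 : 1 ≤ m := by omega
  obtain ⟨u', hu'0, hβu⟩ := root_perm p hm h4 β u hu0
  have h1 : β (pu (tv u a)) ∈ Rb u' := by
    rw [← hβu]
    exact mem_img_of β _ ((mem_Rb u _).mpr ⟨a, rfl⟩)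
  obtain ⟨a', ha'⟩ := (mem_Rb u' _).mp h1
  refine ⟨u', a', ⟨?_, ?_⟩, hu'0, ha'⟩
  · have h2 := (Rb_comm_iff p hm1 P.e u P.e_ne hu0).mpr hu.1
    have h3 : ∀ x ∈ Rb P.e, ∀ y ∈ Rb u', x * y = y * x := by
      intro x hx y hy
      rw [← hβe] at hx
      rw [← hβu] at hy
      obtain ⟨x', hx', rfl⟩ := (mem_img _ _ _).mp hx
      obtain ⟨y', hy', rfl⟩ := (mem_img _ _ _).mp hy
      rw [← map_mul, ← map_mul, h2 x' hx' y' hy']
    exact (Rb_comm_iff p hm1 P.e u' P.e_ne hu'0).mp h3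
  · have h2 := (Rb_comm_iff p hm1 P.f u P.f_ne hu0).mpr hu.2
    have h3 : ∀ x ∈ Rb P.f, ∀ y ∈ Rb u', x * y = y * x := by
      intro x hx y hy
      rw [← hβf] at hx
      rw [← hβu] at hy
      obtain ⟨x', hx', rfl⟩ := (mem_img _ _ _).mp hx
      obtain ⟨y', hy', rfl⟩ := (mem_img _ _ _).mp hy
      rw [← map_mul, ← map_mul, h2 x' hx' y' hy']
    exact (Rb_comm_iff p hm1 P.f u' P.f_ne hu'0).mp h3

theorem isKp_tv (u : Vec) (hu : P.W u) (a : F) : IsKp P (tv u a) 1 := by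
  apply isKp_of_fix
  · rw [av_tv, (P.W_swap hu).1, mul_zero, zero_smul, add_zero]
  · rw [av_tv, (P.W_swap hu).2, mul_zero, zero_smul, add_zero]

include hp hm h4 hβe hβf in
/-- equivariance of the induced map for the transvections of the Levi factor -/
theorem bbar_tv (u : Vec) (hu : P.W u) (hu0 : u ≠ 0) (a : F) :
    ∃ (u' : Vec) (a' : F), P.W u' ∧
      ∀ w, P.W w → bbar P β (w + (a * Bf w u) • u) =
        bbar P β w + (a' * Bf (bbar P β w) u') • u' := by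
  obtain ⟨u', a', hu', hu'0, hk⟩ := exists_tv_img P p hm h4 β hβe hβf u hu hu0 a
  refine ⟨u', a', hu', ?_⟩
  intro w hw
  have h1 := (bbar_conj P p hm β hβe (tv u a) (tv u' a') 1 1 (isKp_tv P u hu a)
    (isKp_tv P u' hu' a') hk.symm w 0 hw).1
  rw [one_smul, one_smul, av_tv, av_tv] at h1
  exact h1

include hp hm h4 hβe hβf in
theorem exists_sigma_nu : ∃ (σ : F ≃+* F) (ν : F), ν ≠ 0 ∧
    (∀ (a : F) (x : Vec), P.W x → bbar P β (a • x) = σ a • bbar P β x) ∧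
    (∀ w w', P.W w → P.W w' → Bf (bbar P β w) (bbar P β w') = ν * σ (Bf w w')) := by
  have hβe' := AutPSU.img_symm_eq β _ hβe
  have hβf' := AutPSU.img_symm_eq β _ hβf
  have hTW : ∀ w, P.W w → P.W (bbar P β w) := fun w _ => bbar_W P p hm β hβe w
  have hT'W : ∀ w, P.W w → P.W (bbar P (MulEquiv.symm β) w) :=
    fun w _ => bbar_W P p hm (MulEquiv.symm β) hβe' w
  have hTadd := bbar_add P p hm β hβe
  have hT'add := bbar_add P p hm (MulEquiv.symm β) hβe'
  have hT'T := bbar_symm P p hm β hβe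
  have hTT' : ∀ w, P.W w → bbar P β (bbar P (MulEquiv.symm β) w) = w := by
    intro w hw
    have := bbar_symm P p hm (MulEquiv.symm β) hβe' w hw
    rwa [MulEquiv.symm_symm] at this
  have hTtv := bbar_tv P p hm h4 β hβe hβf
  have hT'tv := bbar_tv P p hm h4 (MulEquiv.symm β) hβe' hβf'
  obtain ⟨σ, hσ⟩ := exists_semilinear P (bbar P β) (bbar P (MulEquiv.symm β)) hTW hT'W hTadd
    hT'add hTT' hT'T hTtv hT'tv hm
  obtain ⟨ν, hν, hform⟩ := exists_similitude P (bbar P β) (bbar P (MulEquiv.symm β)) hTW hT'W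
    hTadd hT'add hTT' hT'T hTtv hm σ hσ
  exact ⟨σ, ν, hν, hσ, hform⟩

end lift

/-- the semilinear similitude built from a semilinear similitude of the complement -/
noncomputable def mkSemi (T : Vec → Vec) (σ : F ≃+* F) (ν : F) (hν : ν ≠ 0)
    (hTW : ∀ w, P.W w → P.W (T w))
    (hTadd : ∀ w w', P.W w → P.W w' → T (w + w') = T w + T w')
    (hσ : ∀ (a : F) (x : Vec), P.W x → T (a • x) = σ a • T x)
    (hform : ∀ w w', P.W w → P.W w' → Bf (T w) (T w') = ν * σ (Bf w w')) : SemiSim m F where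
  S x := σ (Bf x P.f) • (ν • P.e) + σ (- Bf x P.e) • P.f + T (P.proj x)
  σ := σ
  ν := ν
  hν := hν
  add x y := by
    rw [sympForm_add_left, sympForm_add_left, HPair.proj_add,
      hTadd _ _ (P.proj_W x) (P.proj_W y), neg_add, map_add, map_add]
    module
  smul a x := by
    rw [sympForm_smul_left, sympForm_smul_left, HPair.proj_smul, hσ _ _ (P.proj_W x),
      ← mul_neg, map_mul, map_mul]
    module
  form x y := by
    have hx := hTW _ (P.proj_W x)
    have hy := hTW _ (P.proj_W y)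
    simp only [sympForm_add_left, sympForm_add_right, sympForm_smul_left, sympForm_smul_right,
      P.hee, P.hff, P.hef, P.hfe, hx.1, hx.2, (P.W_swap hy).1, (P.W_swap hy).2,
      hform _ _ (P.proj_W x) (P.proj_W y)]
    conv_rhs => rw [B_decomp P x y]
    simp only [map_add, map_mul, map_neg]
    ring

section mk
variable (T : (Fin m ⊕ Fin m → F) → (Fin m ⊕ Fin m → F)) (σ : F ≃+* F) (ν : F) (hν : ν ≠ 0)
    (hTW : ∀ w, P.W w → P.W (T w))
    (hTadd : ∀ w w', P.W w → P.W w' → T (w + w') = T w + T w')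
    (hσ : ∀ (a : F) (x : Fin m ⊕ Fin m → F), P.W x → T (a • x) = σ a • T x)
    (hform : ∀ w w', P.W w → P.W w' →
      Cfsg.sympForm m F (T w) (T w') = ν * σ (Cfsg.sympForm m F w w'))

theorem mkSemi_S (x : Vec) : (mkSemi P T σ ν hν hTW hTadd hσ hform).S x =
    σ (Bf x P.f) • (ν • P.e) + σ (- Bf x P.e) • P.f + T (P.proj x) := rfl

include hTadd in
theorem T_zero'' : T 0 = 0 := by
  have := hTadd 0 0 P.W_zero P.W_zero
  rw [add_zero] at this
  exact left_eq_add.mp this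

theorem mkSemi_e : (mkSemi P T σ ν hν hTW hTadd hσ hform).S P.e = ν • P.e := by
  rw [mkSemi_S, P.hef, P.hee, HPair.proj_e, T_zero'' P T hTadd]
  simp

theorem mkSemi_f : (mkSemi P T σ ν hν hTW hTadd hσ hform).S P.f = P.f := by
  rw [mkSemi_S, P.hff, P.hfe, HPair.proj_f, T_zero'' P T hTadd]
  simp

theorem mkSemi_W (w : Vec) (hw : P.W w) :
    (mkSemi P T σ ν hν hTW hTadd hσ hform).S w = T w := by
  rw [mkSemi_S, hw.1, hw.2, P.proj_of_W hw]
  simp

/-- the attached automorphism on the Siegel elements -/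
theorem gam_sg (w : Vec) (b : F) (hw : P.W w) :
    (mkSemi P T σ ν hν hTW hTadd hσ hform).gam (pu (P.sg w b)) =
      pu (P.sg (T w) (σ b * ν)) := by
  obtain ⟨Φ, hΦ⟩ : ∃ Φ, Φ = mkSemi P T σ ν hν hTW hTadd hσ hform := ⟨_, rfl⟩
  rw [← hΦ]
  have hΦe : Φ.S P.e = ν • P.e := by rw [hΦ]; exact mkSemi_e P T σ ν hν hTW hTadd hσ hform
  have hΦw : Φ.S w = T w := by rw [hΦ]; exact mkSemi_W P T σ ν hν hTW hTadd hσ hform w hw
  have hΦσ : Φ.σ = σ := by rw [hΦ]; rfl
  have hΦν : Φ.ν = ν := by rw [hΦ]; rfl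
  apply Φ.gam_eq_of
  intro y
  have h1 : Bf P.e (Φ.S y) = σ (Bf P.e y) := by
    have := Φ.form P.e y
    rw [hΦe, sympForm_smul_left, hΦσ, hΦν] at this
    exact mul_left_cancel₀ hν this
  have h2 : Bf (T w) (Φ.S y) = ν * σ (Bf w y) := by
    have := Φ.form w y
    rw [hΦw, hΦσ, hΦν] at this
    exact this
  rw [P.av_sg w b hw, P.av_sg _ _ (hTW w hw), Φ.add, Φ.add, Φ.smul, Φ.smul, hΦe, hΦw, hΦσ, h1, h2,
    map_add, map_mul]
  module

theorem img_gam_e : img (mkSemi P T σ ν hν hTW hTadd hσ hform).gam (Rb P.e) = Rb P.e := by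
  rw [SemiSim.img_gam_Rb, mkSemi_e, Rb_smul ν hν]

theorem img_gam_f : img (mkSemi P T σ ν hν hTW hTadd hσ hform).gam (Rb P.f) = Rb P.f := by
  rw [SemiSim.img_gam_Rb, mkSemi_f]

end mk

section main
variable (p : ℕ) [hp : Fact p.Prime] [CharP F p] (hm : 2 ≤ m) (h4 : m = 2 → p ≠ 2)
  (β : MulAut (Cfsg.PSp m F)) (hβe : img β (Rb P.e) = Rb P.e) (hβf : img β (Rb P.f) = Rb P.f)

include hp hm h4 hβe hβf in
/-- after composing with an automorphism induced by a semilinear similitude, the induced map on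
the complement is the identity -/
theorem exists_gam : ∃ γ : MulAut (Cfsg.PSp m F), γ ∈ Cfsg.gammaPSp m F ∧
    img (γ⁻¹ * β) (Rb P.e) = Rb P.e ∧ img (γ⁻¹ * β) (Rb P.f) = Rb P.f ∧
    ∀ w, P.W w → bbar P (γ⁻¹ * β) w = w := by
  obtain ⟨σ, ν, hν, hσ, hform⟩ := exists_sigma_nu P p hm h4 β hβe hβf
  have hTW : ∀ w, P.W w → P.W (bbar P β w) := fun w _ => bbar_W P p hm β hβe w
  have hTadd := bbar_add P p hm β hβe
  obtain ⟨Φ, hΦ⟩ : ∃ Φ, Φ = mkSemi P (bbar P β) σ ν hν hTW hTadd hσ hform := ⟨_, rfl⟩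
  have hγe : img Φ.gam (Rb P.e) = Rb P.e := by rw [hΦ]; exact img_gam_e P _ σ ν hν hTW hTadd hσ hform
  have hγf : img Φ.gam (Rb P.f) = Rb P.f := by rw [hΦ]; exact img_gam_f P _ σ ν hν hTW hTadd hσ hform
  have hγe' : img Φ.gam⁻¹ (Rb P.e) = Rb P.e := by
    conv_lhs => rw [← hγe]
    exact img_inv_img _ _
  have hγf' : img Φ.gam⁻¹ (Rb P.f) = Rb P.f := by
    conv_lhs => rw [← hγf]
    exact img_inv_img _ _
  have he : img (Φ.gam⁻¹ * β) (Rb P.e) = Rb P.e := by rw [img_mul', hβe, hγe']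
  have hf : img (Φ.gam⁻¹ * β) (Rb P.f) = Rb P.f := by rw [img_mul', hβf, hγf']
  refine ⟨Φ.gam, Φ.gam_mem, he, hf, ?_⟩
  intro w hw
  obtain ⟨h1, h2⟩ := lft_spec P p hm β hβe _ (P.sg_mem w 0 hw)
  have h3 := P.Qv_eq_sg _ h1
  obtain ⟨b₁, hb₁⟩ : ∃ b₁, b₁ = P.bc (lft P β (P.sg w 0)) := ⟨_, rfl⟩
  have h4' : lft P β (P.sg w 0) = P.sg (bbar P β w) b₁ := by
    rw [hb₁]
    exact h3
  obtain ⟨b₂, hb₂⟩ : ∃ b₂, b₂ = σ.symm (b₁ * ν⁻¹) := ⟨_, rfl⟩
  have h5 : Φ.gam (pu (P.sg w b₂)) = pu (P.sg (bbar P β w) b₁) := by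
    rw [hΦ, gam_sg P _ σ ν hν hTW hTadd hσ hform w b₂ hw, hb₂, RingEquiv.apply_symm_apply,
      mul_assoc, inv_mul_cancel₀ hν, mul_one]
  have h6 : (Φ.gam⁻¹ * β) (pu (P.sg w 0)) = pu (P.sg w b₂) := by
    change Φ.gam⁻¹ (β (pu (P.sg w 0))) = _
    rw [← h2, h4', ← h5]
    exact MulAut.inv_apply_self _ _ _
  have h7 := lft_unique P p hm (Φ.gam⁻¹ * β) he _ (P.sg_mem w 0 hw) _ (P.sg_mem w b₂ hw) h6.symm
  unfold bbar
  rw [h7, P.wc_sg _ _ hw]

end main

end

end Cfsg.Agent.Lib.Helper6.AutPSp
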