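import Mathlib
import Cfsg.Agent.Lib.Helper6.AutPSp9

/-!
# Automorphisms of `PSp_{2m}(q)`, part 10: rigidity and the main theorem
-/

set_option autoImplicit false
set_option linter.unusedSectionVars false
set_option linter.unusedVariables false
open Cfsg

namespace Cfsg.Agent.Lib.Helper6.AutPSp

open Matrix Cfsg.Agent.Lib.Helper6 Cfsg.Agent.Lib.Helper6.SympRoot Cfsg.Agent.Lib.Helper6.AutPSL

section
variable {m : ℕ} {F : Type*} [Field F] [Fintype F]

set_option quotPrecheck false in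
local notation "SpG" => ↥(Matrix.symplecticGroup (Fin m) F)
local notation "Vec" => (Fin m ⊕ Fin m → F)
local notation "Bf" => Cfsg.sympForm m F

variable (P : HPair m F)

section rigid
variable (p : ℕ) [hp : Fact p.Prime] [CharP F p] (hm : 2 ≤ m) (h4 : m = 2 → p ≠ 2)
  (β : MulAut (Cfsg.PSp m F)) (hβe : img β (Rb P.e) = Rb P.e)
  (hβf : img β (Rb P.f) = Rb P.f)
  (hid : ∀ w, P.W w → bbar P β w = w)

/-- the defect of the lift on the `e`-coordinate -/
noncomputable def dl (g : SpG) : F := P.bc (lft P β g) - P.bc g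

include hp hm hβe hid in
theorem wc_lft_id (g : SpG) (hg : g ∈ Qv P.e) : P.wc (lft P β g) = P.wc g := by
  rw [wc_lft P p hm β hβe g hg, hid _ (P.wc_W g)]

include hp hm hβe hid in
theorem dl_mul (g g' : SpG) (hg : g ∈ Qv P.e) (hg' : g' ∈ Qv P.e) :
    dl P β (g * g') = dl P β g + dl P β g' := by
  unfold dl
  rw [lft_mul P p hm β hβe g g' hg hg',
    P.bc_mul _ _ (lft_spec P p hm β hβe g hg).1 (lft_spec P p hm β hβe g' hg').1,
    P.bc_mul g g' hg hg', wc_lft_id P p hm β hβe hid g hg,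
    wc_lft_id P p hm β hβe hid g' hg']
  ring

include hp hm hβe hid in
theorem dl_sg (w : Vec) (b : F) (hw : P.W w) :
    dl P β (P.sg w b) = dl P β (P.sg w 0) + dl P β (P.sg 0 b) := by
  rw [← dl_mul P p hm β hβe hid _ _ (P.sg_mem w 0 hw) (P.sg_mem 0 b P.W_zero),
    P.sg_mul _ _ _ _ hw P.W_zero, sympForm_zero_right]
  congr 2
  · rw [add_zero]
  · ring

include hp hm hβe hid in
theorem tau_add (b b' : F) :
    dl P β (P.sg 0 (b + b')) = dl P β (P.sg 0 b) + dl P β (P.sg 0 b') := by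
  rw [← dl_mul P p hm β hβe hid _ _ (P.sg_mem 0 b P.W_zero) (P.sg_mem 0 b' P.W_zero),
    P.sg_mul _ _ _ _ P.W_zero P.W_zero, sympForm_zero_right]
  congr 2
  · rw [add_zero]
  · ring

include hp hm hβe hid in
theorem tau_zero : dl P β (P.sg 0 0) = 0 := by
  have := tau_add P p hm β hβe hid 0 0
  rw [add_zero] at this
  exact left_eq_add.mp this

include hp hm hβe hid in
theorem psi_add (w w' : Vec) (hw : P.W w) (hw' : P.W w') :
    dl P β (P.sg (w + w') 0) =
      dl P β (P.sg w 0) + dl P β (P.sg w' 0) - dl P β (P.sg 0 (Bf w w')) := by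
  have h1 := dl_mul P p hm β hβe hid _ _ (P.sg_mem w 0 hw) (P.sg_mem w' 0 hw')
  rw [P.sg_mul _ _ _ _ hw hw', dl_sg P p hm β hβe hid _ _ (P.W_add hw hw')] at h1
  have h2 : (0 : F) + 0 + Bf w w' = Bf w w' := by ring
  rw [h2] at h1
  linear_combination h1

include hp hm h4 hβe hβf hid in
theorem psi_tv (u : Vec) (hu : P.W u) (hu0 : u ≠ 0) (a : F) (w : Vec) (hw : P.W w) :
    dl P β (P.sg (w + (a * Bf w u) • u) 0) = dl P β (P.sg w 0) := by
  obtain ⟨u', a', hu', hu'0, hk⟩ := exists_tv_img P p hm h4 β hβe hβf u hu hu0 a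
  have h1 := (bbar_conj P p hm β hβe (tv u a) (tv u' a') 1 1 (isKp_tv P u hu a)
    (isKp_tv P u' hu' a') hk.symm w 0 hw).2
  rw [one_smul, one_mul, one_mul, av_tv] at h1
  unfold dl
  rw [h1, P.bc_sg _ _ hw, P.bc_sg _ _ (P.W_add hw (P.W_smul _ hu))]
  ring

include hp hm h4 hβe hβf hid in
theorem psi_smul (u : Vec) (hu : P.W u) (hu0 : u ≠ 0) (a : F) :
    dl P β (P.sg (a • u) 0) = dl P β (P.sg 0 a) := by
  obtain ⟨y, hy, huy⟩ := P.exists_W_partner hu hu0
  obtain ⟨w₁, hw₁⟩ : ∃ w₁, w₁ = -y := ⟨_, rfl⟩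
  have hw₁W : P.W w₁ := by rw [hw₁]; exact P.W_neg hy
  have hw₁u : Bf w₁ u = 1 := by rw [hw₁, sympForm_neg_left, B_swap, huy, neg_neg]
  have h1 := psi_tv P p hm h4 β hβe hβf hid u hu hu0 a w₁ hw₁W
  rw [hw₁u, mul_one, psi_add P p hm β hβe hid _ _ hw₁W (P.W_smul a hu), sympForm_smul_right,
    hw₁u, mul_one] at h1
  linear_combination h1

include hp hm h4 hβe hβf hid in
theorem tau_const (a : F) (ha : a ≠ 0) : dl P β (P.sg 0 a) = dl P β (P.sg 0 1) := by
  obtain ⟨u₀, hu₀, hu₀0⟩ := exists_ne_W P hm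
  have h1 := psi_smul P p hm h4 β hβe hβf hid u₀ hu₀ hu₀0 a
  have h2 := psi_smul P p hm h4 β hβe hβf hid (a • u₀) (P.W_smul a hu₀)
    (smul_ne_zero ha hu₀0) 1
  rw [one_smul] at h2
  rw [← h1, h2]

include hp hm h4 hβe hβf hid in
theorem tau_one : dl P β (P.sg 0 1) = 0 := by
  by_cases hex : ∃ a : F, a ≠ 0 ∧ a ≠ 1
  · obtain ⟨a, ha0, ha1⟩ := hex
    have h1 := tau_const P p hm h4 β hβe hβf hid a ha0
    have h2 := tau_const P p hm h4 β hβe hβf hid (a - 1) (sub_ne_zero.mpr ha1)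
    have h3 := tau_add P p hm β hβe hid (a - 1) 1
    rw [sub_add_cancel] at h3
    linear_combination h1 - h3 - h2
  · push Not at hex
    have hF01 : ∀ a : F, a = 0 ∨ a = 1 := by
      intro a
      by_cases ha : a = 0
      · exact Or.inl ha
      · exact Or.inr (hex a ha)
    rcases hF01 (dl P β (P.sg 0 1)) with h | h
    · exact h
    · exfalso
      have h11 : (1 : F) + 1 = 0 := by
        rcases hF01 (1 + 1) with h' | h'
        · exact h'
        · exact absurd (by linear_combination h') one_ne_zero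
      have hg := P.sg_mem 0 1 P.W_zero
      obtain ⟨h1, h2⟩ := lft_spec P p hm β hβe _ hg
      have hb : P.bc (lft P β (P.sg 0 1)) = 0 := by
        have : dl P β (P.sg 0 1) = P.bc (lft P β (P.sg 0 1)) - P.bc (P.sg 0 1) := rfl
        rw [h, P.bc_sg _ _ P.W_zero] at this
        linear_combination h11 - this
      have hw : P.wc (lft P β (P.sg 0 1)) = 0 := by
        rw [wc_lft_id P p hm β hβe hid _ hg, P.wc_sg _ _ P.W_zero]
      have h3 : lft P β (P.sg 0 1) = 1 := by
        apply P.Qv_ext' _ _ h1 (Qv P.e).one_mem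
        · rw [hw, P.wc_one]
        · rw [hb, P.bc_one]
      rw [h3, map_one] at h2
      have h5 : pu (P.sg 0 1) = 1 := by
        have := congrArg (MulEquiv.symm β) h2
        rw [MulEquiv.symm_apply_apply, map_one] at this
        exact this.symm
      have h6 : P.sg 0 1 = 1 := by
        apply eq_of_pu_eq (p := p) (by omega) _ _ 2 (Qv_pow p (by omega) P.e _ hg)
          (one_pow _)
        rw [h5, map_one]
      have h7 := congrArg P.bc h6
      rw [P.bc_sg _ _ P.W_zero, P.bc_one] at h7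
      exact one_ne_zero h7

include hp hm h4 hβe hβf hid in
theorem dl_zero (g : SpG) (hg : g ∈ Qv P.e) : dl P β g = 0 := by
  have hτ : ∀ a : F, dl P β (P.sg 0 a) = 0 := by
    intro a
    by_cases ha : a = 0
    · rw [ha]
      exact tau_zero P p hm β hβe hid
    · rw [tau_const P p hm h4 β hβe hβf hid a ha]
      exact tau_one P p hm h4 β hβe hβf hid
  have hψ : ∀ w, P.W w → dl P β (P.sg w 0) = 0 := by
    intro w hw
    by_cases hw0 : w = 0
    · rw [hw0]
      exact hτ 0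
    · have := psi_smul P p hm h4 β hβe hβf hid w hw hw0 1
      rw [one_smul] at this
      rw [this]
      exact hτ 1
  rw [P.Qv_eq_sg g hg, dl_sg P p hm β hβe hid _ _ (P.wc_W g), hψ _ (P.wc_W g), hτ, add_zero]

include hp hm h4 hβe hβf hid in
theorem lft_id (g : SpG) (hg : g ∈ Qv P.e) : lft P β g = g := by
  apply P.Qv_ext' _ _ (lft_spec P p hm β hβe g hg).1 hg (wc_lft_id P p hm β hβe hid g hg)
  have := dl_zero P p hm h4 β hβe hβf hid g hg
  unfold dl at this
  exact sub_eq_zero.mp this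

include hp hm h4 hβe hβf hid in
/-- **the automorphism is the identity on the image of the unipotent radical** -/
theorem beta_Qe (g : SpG) (hg : g ∈ Qv P.e) : β (pu g) = pu g := by
  rw [← (lft_spec P p hm β hβe g hg).2, lft_id P p hm h4 β hβe hβf hid g hg]

end rigid

theorem av_weyl (c d : F) :
    av (tv P.e c * tv P.f d * tv P.e c) P.e = (1 - c * d) • P.e + d • P.f := by
  have h1 : av (tv P.e c) P.e = P.e := by
    rw [av_tv, P.hee, mul_zero, zero_smul, add_zero]
  have h2 : av (tv P.f d) P.e = P.e + d • P.f := by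
    rw [av_tv, P.hef, mul_one]
  rw [av_mul, av_mul, h1, h2, av_tv, sympForm_add_left, sympForm_smul_left, P.hee, P.hfe]
  module

theorem Tp_av_le (H : Subgroup SpG) (g : SpG) (hg : g ∈ H) (v : Vec)
    (h : Tp v ≤ H) : Tp (av g v) ≤ H := by
  intro x hx
  obtain ⟨c, rfl⟩ := (mem_Tp_iff _ _).mp hx
  have h1 := conj_tv g v c
  change g * tv v c * g⁻¹ = tv (av g v) c at h1
  rw [← h1]
  exact H.mul_mem (H.mul_mem hg (h (tv_mem v c))) (H.inv_mem hg)

theorem Tp_le_of_opp (H : Subgroup SpG) (hQ : Qv P.e ≤ H) (hA : Tp P.f ≤ H) (u : Vec)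
    (hue : Bf P.e u ≠ 0) : Tp u ≤ H := by
  obtain ⟨a, ha⟩ : ∃ a, a = Bf P.e u := ⟨_, rfl⟩
  rw [← ha] at hue
  obtain ⟨u', hu'⟩ : ∃ u', u' = a⁻¹ • u := ⟨_, rfl⟩
  have hu'e : Bf P.e u' = 1 := by
    rw [hu', sympForm_smul_right, ← ha, inv_mul_cancel₀ hue]
  have hu'e' : Bf u' P.e = -1 := by rw [B_swap, hu'e]
  have huu' : u = a • u' := by rw [hu', smul_smul, mul_inv_cancel₀ hue, one_smul]
  obtain ⟨w, hw⟩ : ∃ w, w = P.proj u' := ⟨_, rfl⟩
  obtain ⟨b, hb⟩ : ∃ b, b = Bf u' P.f := ⟨_, rfl⟩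
  have hwW : P.W w := by rw [hw]; exact P.proj_W u'
  have h1 : av (P.sg w b) P.f = u' := by
    rw [P.av_sg_f w b hwW]
    conv_rhs => rw [P.decomp u', hu'e', ← hb, ← hw]
    module
  have h2 := Tp_av_le H _ (hQ (P.sg_mem w b hwW)) P.f hA
  rw [h1] at h2
  rw [huu', Tp_smul a hue u']
  exact h2

/-- `Sp` is generated by the unipotent radicals of two opposite point stabilisers -/
theorem gen_top (H : Subgroup SpG) (hQe : Qv P.e ≤ H) (hQf : Qv P.f ≤ H) : H = ⊤ := by
  have hAe : Tp P.e ≤ H := (Tp_le_Qv P.e).trans hQe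
  have hAf : Tp P.f ≤ H := (Tp_le_Qv P.f).trans hQf
  have hAe' : Tp P.swap.f ≤ H := by
    have : P.swap.f = (-1 : F) • P.e := by
      change -P.e = _
      module
    rw [this, Tp_smul (-1) (by norm_num) P.e]
    exact hAe
  have key : ∀ v : Vec, v ≠ 0 → Tp v ≤ H := by
    intro v hv0
    by_cases h1 : Bf P.e v = 0
    · by_cases h2 : Bf P.f v = 0
      · have hvW : P.W v := ⟨B_swap_zero h1, B_swap_zero h2⟩
        obtain ⟨w, hwW, hvw⟩ := P.exists_W_partner hvW hv0
        have hg := hQe (P.sg_mem w 0 hwW)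
        have h3 : av (P.sg w 0) v = v + Bf w v • P.e := P.av_sg_W w 0 hwW v hvW
        have h4 : Bf P.f (av (P.sg w 0) v) ≠ 0 := by
          rw [h3, sympForm_add_right, sympForm_smul_right, h2, P.hfe, B_swap w v, hvw]
          norm_num
        have h6 := Tp_le_of_opp P.swap H hQf hAe' _ h4
        have h7 := Tp_av_le H _ (H.inv_mem hg) _ h6
        rwa [av_inv_av] at h7
      · exact Tp_le_of_opp P.swap H hQf hAe' v h2
    · exact Tp_le_of_opp P H hQe hAf v h1
  rw [eq_top_iff, ← Sig_generates (m := m) (F := F)]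
  apply iSup₂_le
  rintro A ⟨v, hv, rfl⟩
  exact key v hv

/-- the subgroup of `Sp` fixed by an automorphism of `PSp` -/
def fixSub (β : MulAut (Cfsg.PSp m F)) : Subgroup SpG where
  carrier := {g | β (pu g) = pu g}
  mul_mem' := by
    intro a b ha hb
    change β (pu (a * b)) = pu (a * b)
    rw [map_mul, map_mul, ha, hb]
  one_mem' := by
    change β (pu 1) = pu 1
    rw [map_one, map_one]
  inv_mem' := by
    intro a ha
    change β (pu a⁻¹) = pu a⁻¹
    rw [map_inv, map_inv, ha]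

section rigid2
variable (p : ℕ) [hp : Fact p.Prime] [CharP F p] (hm : 2 ≤ m) (h4 : m = 2 → p ≠ 2)
  (β : MulAut (Cfsg.PSp m F)) (hβe : img β (Rb P.e) = Rb P.e)
  (hβf : img β (Rb P.f) = Rb P.f)
  (hid : ∀ w, P.W w → bbar P β w = w)

include hp hm h4 hβe hβf hid in
theorem beta_tv_f (d : F) : β (pu (tv P.f d)) = pu (tv P.f d) := by
  have hm1 : 1 ≤ m := by omega
  by_cases hd0 : d = 0
  · subst hd0
    rw [tv_zero, map_one, map_one]
  · have h1 : β (pu (tv P.f d)) ∈ Rb P.f := by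
      rw [← hβf]
      exact mem_img_of β _ ((mem_Rb P.f _).mpr ⟨d, rfl⟩)
    obtain ⟨d', h2⟩ := (mem_Rb P.f _).mp h1
    obtain ⟨c, hc⟩ : ∃ c, c = d⁻¹ := ⟨_, rfl⟩
    have hcd : 1 - c * d = 0 := by
      rw [hc, inv_mul_cancel₀ hd0, sub_self]
    have hc0 : c ≠ 0 := by
      rw [hc]
      exact inv_ne_zero hd0
    have hx := beta_Qe P p hm h4 β hβe hβf hid _ (tv_mem_Qv P.e c)
    have e1 : β (pu (tv P.e c * tv P.f d * tv P.e c)) =
        pu (tv P.e c * tv P.f d' * tv P.e c) := by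
      rw [map_mul, map_mul, map_mul, map_mul, hx, h2, map_mul, map_mul]
    have e2 : img (MulAut.conj (pu (tv P.e c * tv P.f d * tv P.e c))) (Rb P.e) = Rb P.f := by
      rw [img_conj_Rb _ P.e, av_weyl, hcd, zero_smul, zero_add, Rb_smul d hd0 P.f]
    have e3 := img_conj_comm β (pu (tv P.e c * tv P.f d * tv P.e c)) (Rb P.e)
    rw [e2, hβf, hβe, e1, img_conj_Rb _ P.e] at e3
    obtain ⟨a, ha0, ha⟩ := Rb_le_imp p hm1 _ P.f (av_ne_zero _ P.e_ne) (le_of_eq e3.symm)
    rw [av_weyl] at ha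
    have h3 := congrArg (fun v => Bf v P.f) ha
    simp only [sympForm_add_left, sympForm_smul_left, P.hef, P.hff, mul_one, mul_zero,
      add_zero] at h3
    have hdd' : d' = d := by
      have : c * (d' - d) = 0 := by linear_combination hcd - h3
      rcases mul_eq_zero.mp this with h | h
      · exact absurd h hc0
      · exact sub_eq_zero.mp h
    rw [h2, hdd']

include hp hm h4 hβe hβf hid in
theorem beta_Qf (g' : SpG) (hg' : g' ∈ Qv P.f) : β (pu g') = pu g' := by
  obtain ⟨nn, hnn⟩ : ∃ nn, nn = tv P.e 1 * tv P.f 1 * tv P.e 1 := ⟨_, rfl⟩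
  have hx := beta_Qe P p hm h4 β hβe hβf hid _ (tv_mem_Qv P.e 1)
  have hy := beta_tv_f P p hm h4 β hβe hβf hid 1
  have h1 : β (pu nn) = pu nn := by
    rw [hnn, map_mul, map_mul, map_mul, map_mul, hx, hy]
  have h2 : av nn P.e = P.f := by
    rw [hnn, av_weyl]
    simp
  have h3 : av nn⁻¹ P.f = P.e := by
    rw [← h2, av_inv_av]
  have h4' : nn⁻¹ * g' * nn⁻¹⁻¹ ∈ Qv P.e := by
    rw [← h3]
    exact Qv_conj_gen P.f nn⁻¹ g' hg'
  have h5 := beta_Qe P p hm h4 β hβe hβf hid _ h4'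
  have h6 : g' = nn * (nn⁻¹ * g' * nn⁻¹⁻¹) * nn⁻¹ := by group
  rw [h6, map_mul, map_mul, map_mul, map_mul, h5, map_inv, map_inv, h1]

include hp hm h4 hβe hβf hid in
/-- **rigidity**: an automorphism fixing two opposite root subgroups and inducing the identity on
the complement is trivial -/
theorem rigid : β = 1 := by
  have h1 : fixSub β = ⊤ := by
    apply gen_top P
    · intro g hg
      exact beta_Qe P p hm h4 β hβe hβf hid g hg
    · intro g hg
      exact beta_Qf P p hm h4 β hβe hβf hid g hg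
  ext x
  obtain ⟨g, rfl⟩ := pu_surjective x
  have : g ∈ fixSub β := by rw [h1]; trivial
  exact this

end rigid2

/-- a symplectic matrix as an element of the general linear group -/
def spToGL (g : SpG) : GL (Fin m ⊕ Fin m) F :=
  ⟨g.1, (g⁻¹).1, by
    have : (g * g⁻¹).1 = g.1 * (g⁻¹).1 := rfl
    rw [← this, mul_inv_cancel]
    rfl, by
    have : (g⁻¹ * g).1 = (g⁻¹).1 * g.1 := rfl
    rw [← this, inv_mul_cancel]
    rfl⟩

theorem spToGL_mem (g : SpG) : spToGL g ∈ Cfsg.GSp m F := by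
  refine ⟨1, ?_⟩
  intro u v
  rw [Units.val_one, one_mul]
  exact pres g u v

theorem conj_mem_gamma (g : SpG) : MulAut.conj (pu g) ∈ Cfsg.gammaPSp m F := by
  apply Subgroup.subset_closure
  refine ⟨spToGL g, RingEquiv.refl F, spToGL_mem g, ?_⟩
  intro s s' h
  change MulAut.conj (pu g) (pu s) = pu s'
  rw [MulAut.conj_apply, ← map_inv, ← map_mul, ← map_mul]
  congr 1
  apply Subtype.ext
  rw [h]
  have : (s.1.map (RingEquiv.refl F)) = s.1 := by
    ext i j
    simp
  rw [this]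
  rfl

/-- **the automorphism group of `PSp_{2m}(q)` is `PΓSp_{2m}(q)`** -/
theorem gamma_eq_top (p : ℕ) [hp : Fact p.Prime] [CharP F p] (hm : 2 ≤ m)
    (h4 : m = 2 → p ≠ 2) : Cfsg.gammaPSp m F = ⊤ := by
  rw [eq_top_iff]
  intro β _
  have hv : (Pi.single (Sum.inl ⟨0, by omega⟩) 1 : Vec) ≠ 0 := by
    intro h
    have := congrFun h (Sum.inl ⟨0, by omega⟩)
    simp at this
  obtain ⟨P, -⟩ := exists_hpair _ hv
  obtain ⟨g, hge, hgf⟩ := exists_normalise P p hm h4 β
  obtain ⟨γ, hγ, he, hf, hid⟩ := exists_gam P p hm h4 _ hge hgf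
  have h1 := rigid P p hm h4 _ he hf hid
  have h2 : β = (MulAut.conj (pu g))⁻¹ * γ := by
    have : MulAut.conj (pu g) * β = γ := by
      have h3 : γ * (γ⁻¹ * (MulAut.conj (pu g) * β)) = γ := by rw [h1, mul_one]
      rw [← h3]
      group
    rw [← this]
    group
  rw [h2]
  exact (Cfsg.gammaPSp m F).mul_mem ((Cfsg.gammaPSp m F).inv_mem (conj_mem_gamma g)) hγ

end

end Cfsg.Agent.Lib.Helper6.AutPSp
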