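import Mathlib
import Cfsg.Agent.S2725
import Cfsg.Agent.Lib.Helper16.FieldCentOmegaOdd

/-!
# Field automorphisms of `PΩ⁺`, part A: the class preserving similarities (characteristic free)
-/

set_option autoImplicit false
set_option linter.unusedSectionVars false
set_option linter.unusedVariables false
set_option linter.style.haveILetI false

namespace Cfsg.Agent.Lib.Helper6.PlusCent

open Module QuadraticMap Matrix Cfsg.Agent.Lib.Helper6 Cfsg.Agent.Lib.Helper15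
  Cfsg.Agent.Lib.Helper6.OmegaAut Cfsg.Agent.Lib.Helper6.SimAut Cfsg.Agent.Lib.Helper6.SingClass
  Cfsg.Agent.Lib.Helper6.Inndiag Cfsg.Agent.Lib.Helper6.AutInduced Cfsg.Agent.S2722 Cfsg.Agent.S2725

section generic
variable {F : Type*} [Field F] {ι : Type} [Fintype ι] [DecidableEq ι] (Q : QuadraticForm F (ι → F))

/-- the class preserving similarities form a subgroup of index at most two -/
theorem psc_mul_iff (hQ : (polarBilin Q).Nondegenerate) (m : ℕ) (hV : Fintype.card ι = 2 * m)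
    (U₀ : Submodule F (ι → F)) (hU₀ : TS Q U₀) (hU₀m : finrank F U₀ = m) (g h : GL ι F) (μ ν : F)
    (hg : ∀ v, Q ((g : Matrix ι ι F) *ᵥ v) = μ * Q v)
    (hh : ∀ v, Q ((h : Matrix ι ι F) *ᵥ v) = ν * Q v) :
    Cfsg.PreservesSingularClasses ⇑Q ((g * h : GL ι F) : Matrix ι ι F) ↔
      (Cfsg.PreservesSingularClasses ⇑Q (g : Matrix ι ι F) ↔
        Cfsg.PreservesSingularClasses ⇑Q (h : Matrix ι ι F)) := by
  have hgh : ∀ v, Q (((g * h : GL ι F) : Matrix ι ι F) *ᵥ v) = (μ * ν) * Q v := by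
    intro v
    rw [Units.val_mul, ← Matrix.mulVec_mulVec, hg, hh, mul_assoc]
  rw [psc_iff Q hQ m hV U₀ hU₀ hU₀m (g * h) (μ * ν) hgh, psc_iff Q hQ m hV U₀ hU₀ hU₀m g μ hg,
    psc_iff Q hQ m hV U₀ hU₀ hU₀m h ν hh]
  have e : Cfsg.imageSubmodule ((g * h : GL ι F) : Matrix ι ι F) U₀ =
      Cfsg.imageSubmodule (g : Matrix ι ι F) (Cfsg.imageSubmodule (h : Matrix ι ι F) U₀) := by
    rw [Units.val_mul, image_mul]
  have t := dd_three Q hQ m hV U₀ (Cfsg.imageSubmodule (g : Matrix ι ι F) U₀)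
    (Cfsg.imageSubmodule ((g * h : GL ι F) : Matrix ι ι F) U₀) hU₀ hU₀m
    (TS_image Q _ μ hg U₀ hU₀) ((finrank_image g U₀).trans hU₀m)
    (TS_image Q _ (μ * ν) hgh U₀ hU₀) ((finrank_image (g * h) U₀).trans hU₀m)
  have e2 : dd m (Cfsg.imageSubmodule (g : Matrix ι ι F) U₀)
      (Cfsg.imageSubmodule ((g * h : GL ι F) : Matrix ι ι F) U₀) =
      dd m U₀ (Cfsg.imageSubmodule (h : Matrix ι ι F) U₀) := by
    rw [e, dd_image]
  rw [e2] at t
  simp only [Nat.even_add] at t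
  tauto

theorem psc_one : Cfsg.PreservesSingularClasses ⇑Q ((1 : GL ι F) : Matrix ι ι F) := by
  intro U _
  unfold Cfsg.SameParityClass Cfsg.imageSubmodule
  rw [Units.val_one, Matrix.toLin'_one, Submodule.map_id, inf_idem, Nat.sub_self]
  exact ⟨0, rfl⟩

end generic

section plus
variable (F : Type*) [Field F] (m : ℕ)

theorem card_idx : Fintype.card (Fin m ⊕ Fin m) = 2 * m := by
  rw [Fintype.card_sum, Fintype.card_fin]; ring

/-- the predicate: class preserving -/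
def PSCp (g : GL (Fin m ⊕ Fin m) F) : Prop :=
  Cfsg.PreservesSingularClasses ⇑(QPlus F m) (g : Matrix (Fin m ⊕ Fin m) (Fin m ⊕ Fin m) F)

variable {F m}

theorem pscp_mul_iff (g h : ↥(GO (QPlus F m))) :
    PSCp F m (g * h : ↥(GO (QPlus F m))).1 ↔ (PSCp F m g.1 ↔ PSCp F m h.1) :=
  psc_mul_iff (QPlus F m) (nondegenerate_QPlus F m) m (card_idx m) (U0 F m) (U0_TS F m)
    (U0_finrank F m) g.1 h.1 (mulr _ g) (mulr _ h) (mulr_spec _ g) (mulr_spec _ h)

theorem pscp_one : PSCp F m (1 : ↥(GO (QPlus F m))).1 := psc_one (QPlus F m)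

theorem pscp_inv (g : ↥(GO (QPlus F m))) : PSCp F m (g⁻¹ : ↥(GO (QPlus F m))).1 ↔ PSCp F m g.1 := by
  have h := pscp_mul_iff g g⁻¹
  rw [mul_inv_cancel] at h
  have h1 := pscp_one (F := F) (m := m)
  tauto

variable (F m)

/-- the subgroup of class preserving similarities -/
def Kp : Subgroup ↥(GO (QPlus F m)) where
  carrier := {g | PSCp F m g.1}
  one_mem' := pscp_one
  mul_mem' := by
    intro a b ha hb
    exact (pscp_mul_iff a b).mpr ⟨fun _ => hb, fun _ => ha⟩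
  inv_mem' := by
    intro a ha
    exact (pscp_inv a).mpr ha

variable {F m}

theorem mem_Kp (g : ↥(GO (QPlus F m))) : g ∈ Kp F m ↔
    Cfsg.PreservesSingularClasses ⇑(QPlus F m)
      ((g.1 : GL (Fin m ⊕ Fin m) F) : Matrix (Fin m ⊕ Fin m) (Fin m ⊕ Fin m) F) := Iff.rfl

theorem mul_mem_Kp_iff (g h : ↥(GO (QPlus F m))) : g * h ∈ Kp F m ↔ (g ∈ Kp F m ↔ h ∈ Kp F m) :=
  pscp_mul_iff g h

theorem inv_mem_Kp_iff (g : ↥(GO (QPlus F m))) : g⁻¹ ∈ Kp F m ↔ g ∈ Kp F m := pscp_inv g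

instance Kp_normal : (Kp F m).Normal := by
  constructor
  intro k hk g
  rw [mul_mem_Kp_iff, mul_mem_Kp_iff, inv_mem_Kp_iff]
  tauto

/-- commutators are class preserving -/
theorem comm_mem_Kp (a b : ↥(GO (QPlus F m))) : a * b * a⁻¹ * b⁻¹ ∈ Kp F m := by
  rw [mul_mem_Kp_iff, mul_mem_Kp_iff, mul_mem_Kp_iff, inv_mem_Kp_iff, inv_mem_Kp_iff]
  tauto

/-- a similarity stabilising the standard maximal totally singular subspace preserves the classes -/
theorem mem_Kp_of_le (g : ↥(GO (QPlus F m)))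
    (hle : Cfsg.imageSubmodule ((g.1 : GL (Fin m ⊕ Fin m) F) : Matrix _ _ F) (U0 F m) ≤ U0 F m) :
    g ∈ Kp F m := by
  rw [mem_Kp, psc_iff (QPlus F m) (nondegenerate_QPlus F m) m (card_idx m) (U0 F m) (U0_TS F m)
    (U0_finrank F m) g.1 (mulr _ g) (mulr_spec _ g),
    dd_of_le m (U0 F m) (U0_finrank F m) g.1 hle, dd_self m (U0 F m) (U0_finrank F m)]
  exact ⟨0, rfl⟩

theorem plusSim_mem_Kp (lam : Fˣ) : (⟨plusSim m lam, plusSim_mem m lam⟩ : ↥(GO (QPlus F m))) ∈ Kp F m :=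
  mem_Kp_of_le _ (plusSim_U0 F m lam)

theorem scal_mem_Kp (c : Fˣ) :
    (⟨scalGL c, scalGL_mem_GO (QPlus F m) c⟩ : ↥(GO (QPlus F m))) ∈ Kp F m := by
  apply mem_Kp_of_le
  intro x hx
  obtain ⟨y, hy, rfl⟩ := (mem_image _ (U0 F m) x).mp hx
  rw [scalGL_val, Matrix.smul_mulVec, Matrix.one_mulVec]
  exact (U0 F m).smul_mem _ hy

/-- reflections interchange the two classes -/
theorem refl_not_mem_Kp (r : ↥(GO (QPlus F m))) (v : Fin m ⊕ Fin m → F) (hv : QPlus F m v ≠ 0)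
    (hr : ((r.1 : GL (Fin m ⊕ Fin m) F) : Matrix _ _ F) = Cfsg.reflectionMatrix ⇑(QPlus F m) v) :
    r ∉ Kp F m := by
  rw [mem_Kp, psc_iff (QPlus F m) (nondegenerate_QPlus F m) m (card_idx m) (U0 F m) (U0_TS F m)
    (U0_finrank F m) r.1 (mulr _ r) (mulr_spec _ r), hr,
    dd_refl (QPlus F m) (nondegenerate_QPlus F m) m (card_idx m) (U0 F m) (U0_TS F m)
      (U0_finrank F m) v hv]
  decide

end plus

end Cfsg.Agent.Lib.Helper6.PlusCent
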