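import Mathlib
import Cfsg.Agent.Lib.Helper6.PlusCentA

/-!
# Field automorphisms of `PΩ⁺`, part B: decomposition into reflections and base change
-/

set_option autoImplicit false
set_option linter.unusedSectionVars false
set_option linter.unusedVariables false
set_option linter.style.haveILetI false

namespace Cfsg.Agent.Lib.Helper6.PlusCent

open Module QuadraticMap Matrix Cfsg.Agent.Lib.Helper6 Cfsg.Agent.Lib.Helper15
  Cfsg.Agent.Lib.Helper6.OmegaAut Cfsg.Agent.Lib.Helper6.SimAut Cfsg.Agent.Lib.Helper6.SingClass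
  Cfsg.Agent.Lib.Helper6.Inndiag Cfsg.Agent.Lib.Helper6.AutInduced Cfsg.Agent.S2722 Cfsg.Agent.S2725
  Cfsg.Agent.Lib.Helper16.FieldCentOmegaOdd

section lists
variable {F : Type*} [Field F] [Fintype F] {m : ℕ}

/-- the element of the similarity group with a given matrix product of reflections -/
theorem exists_GO_of_list (vs : List (Fin m ⊕ Fin m → F)) (hvs : ∀ v ∈ vs, QPlus F m v ≠ 0) :
    ∃ g : ↥(GO (QPlus F m)), g.1 ∈ Cfsg.isometryGroup F ⇑(QPlus F m) ∧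
      ((g.1 : GL (Fin m ⊕ Fin m) F) : Matrix (Fin m ⊕ Fin m) (Fin m ⊕ Fin m) F) =
        (vs.map (fun v => Cfsg.reflectionMatrix ⇑(QPlus F m) v)).prod := by
  classical
  obtain ⟨g, hg⟩ := exists_of_list' (QPlus F m) vs hvs
  exact ⟨⟨g.1, isometryGroup_le_GO _ g.2⟩, g.2, hg⟩

/-- a product of reflections preserves the classes iff their number is even -/
theorem list_mem_Kp_iff (vs : List (Fin m ⊕ Fin m → F)) (hvs : ∀ v ∈ vs, QPlus F m v ≠ 0) :
    ∀ g : ↥(GO (QPlus F m)), ((g.1 : GL (Fin m ⊕ Fin m) F) : Matrix (Fin m ⊕ Fin m) (Fin m ⊕ Fin m) F) =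
        (vs.map (fun v => Cfsg.reflectionMatrix ⇑(QPlus F m) v)).prod →
      (g ∈ Kp F m ↔ Even vs.length) := by
  induction vs with
  | nil =>
    intro g hg
    have : g = 1 := by
      apply Subtype.ext
      apply Units.ext
      rw [hg]
      rfl
    rw [this]
    exact ⟨fun _ => ⟨0, rfl⟩, fun _ => Subgroup.one_mem _⟩
  | cons v vs ih =>
    intro g hg
    have hv : QPlus F m v ≠ 0 := hvs v List.mem_cons_self
    have hvs' : ∀ w ∈ vs, QPlus F m w ≠ 0 := fun w hw => hvs w (List.mem_cons_of_mem _ hw)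
    obtain ⟨r, -, hr⟩ := exists_GO_of_list [v] (by
      intro w hw
      rw [List.mem_singleton] at hw
      rw [hw]; exact hv)
    rw [List.map_cons, List.map_nil, List.prod_cons, List.prod_nil, mul_one] at hr
    obtain ⟨g', -, hg'⟩ := exists_GO_of_list vs hvs'
    have e : g = r * g' := by
      apply Subtype.ext
      apply Units.ext
      rw [hg, List.map_cons, List.prod_cons]
      change _ = ((r.1 : GL (Fin m ⊕ Fin m) F) : Matrix (Fin m ⊕ Fin m) (Fin m ⊕ Fin m) F) *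
        ((g'.1 : GL (Fin m ⊕ Fin m) F) : Matrix (Fin m ⊕ Fin m) (Fin m ⊕ Fin m) F)
      rw [hr, hg']
    rw [e, mul_mem_Kp_iff, ih hvs' g' hg', List.length_cons, Nat.even_add_one]
    have := refl_not_mem_Kp r v hv hr
    tauto

/-- every similarity is the standard similarity with the same multiplier times a product of
reflections -/
theorem exists_decomp (hm : 3 ≤ m) (g : ↥(GO (QPlus F m))) :
    ∃ vs : List (Fin m ⊕ Fin m → F), (∀ v ∈ vs, QPlus F m v ≠ 0) ∧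
      ((g.1 : GL (Fin m ⊕ Fin m) F) : Matrix (Fin m ⊕ Fin m) (Fin m ⊕ Fin m) F) =
        ((plusSim m (mulr (QPlus F m) g) : GL (Fin m ⊕ Fin m) F) : Matrix (Fin m ⊕ Fin m) (Fin m ⊕ Fin m) F) *
          (vs.map (fun v => Cfsg.reflectionMatrix ⇑(QPlus F m) v)).prod := by
  set d : ↥(GO (QPlus F m)) := ⟨plusSim m (mulr (QPlus F m) g), plusSim_mem m _⟩ with hd
  have ho : (d⁻¹ * g).1 ∈ Cfsg.isometryGroup F ⇑(QPlus F m) := by
    rw [OmegaAut.mem_isometryGroup_iff]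
    intro x
    have h1 := plusSim_spec m (mulr (QPlus F m) g)
      ((((d⁻¹ * g : ↥(GO (QPlus F m))).1 : GL (Fin m ⊕ Fin m) F) : Matrix (Fin m ⊕ Fin m) (Fin m ⊕ Fin m) F) *ᵥ x)
    have h2 : ((plusSim m (mulr (QPlus F m) g) : GL (Fin m ⊕ Fin m) F) : Matrix (Fin m ⊕ Fin m) (Fin m ⊕ Fin m) F) *ᵥ
        ((((d⁻¹ * g : ↥(GO (QPlus F m))).1 : GL (Fin m ⊕ Fin m) F) : Matrix (Fin m ⊕ Fin m) (Fin m ⊕ Fin m) F) *ᵥ x) =
        ((g.1 : GL (Fin m ⊕ Fin m) F) : Matrix (Fin m ⊕ Fin m) (Fin m ⊕ Fin m) F) *ᵥ x := by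
      rw [Matrix.mulVec_mulVec]
      change (((d * (d⁻¹ * g) : ↥(GO (QPlus F m))).1 : GL (Fin m ⊕ Fin m) F) : Matrix (Fin m ⊕ Fin m) (Fin m ⊕ Fin m) F) *ᵥ x = _
      rw [mul_inv_cancel_left]
    rw [h2, mulr_spec] at h1
    exact (mul_left_cancel₀ (Units.ne_zero _) h1).symm
  obtain ⟨vs, hvs, hprod⟩ := exists_list' (QPlus F m) (nondegenerate_QPlus F m)
    (Or.inr (by rw [card_idx]; omega)) ⟨(d⁻¹ * g).1, ho⟩
  refine ⟨vs, hvs, ?_⟩
  rw [← hprod]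
  change _ = (((d * (d⁻¹ * g) : ↥(GO (QPlus F m))).1 : GL (Fin m ⊕ Fin m) F) : Matrix (Fin m ⊕ Fin m) (Fin m ⊕ Fin m) F)
  rw [mul_inv_cancel_left]

/-- the criterion through a decomposition -/
theorem mem_Kp_iff_of_decomp (g : ↥(GO (QPlus F m))) (lam : Fˣ)
    (vs : List (Fin m ⊕ Fin m → F)) (hvs : ∀ v ∈ vs, QPlus F m v ≠ 0)
    (hg : ((g.1 : GL (Fin m ⊕ Fin m) F) : Matrix (Fin m ⊕ Fin m) (Fin m ⊕ Fin m) F) =
      ((plusSim m lam : GL (Fin m ⊕ Fin m) F) : Matrix (Fin m ⊕ Fin m) (Fin m ⊕ Fin m) F) *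
        (vs.map (fun v => Cfsg.reflectionMatrix ⇑(QPlus F m) v)).prod) :
    g ∈ Kp F m ↔ Even vs.length := by
  obtain ⟨g', -, hg'⟩ := exists_GO_of_list vs hvs
  have e : g = ⟨plusSim m lam, plusSim_mem m lam⟩ * g' := by
    apply Subtype.ext
    apply Units.ext
    rw [hg, ← hg']
    rfl
  rw [e, mul_mem_Kp_iff, list_mem_Kp_iff vs hvs g' hg']
  have := plusSim_mem_Kp (F := F) (m := m) lam
  tauto

end lists

section basechange
variable {F : Type*} [Field F] [Fintype F] {F₀ : Type*} [Field F₀] [Fintype F₀] (j : F₀ →+* F)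
  {m : ℕ}

theorem QPlus_map (v : Fin m ⊕ Fin m → F₀) :
    QPlus F m (fun i => j (v i)) = j (QPlus F₀ m v) := by
  rw [QPlus_apply, QPlus_apply]
  unfold Cfsg.quadFormPlus
  rw [map_sum]
  apply Finset.sum_congr rfl
  intro i _
  rw [map_mul]

theorem plusSim_map (lam : F₀ˣ) :
    ((plusSim m lam : GL (Fin m ⊕ Fin m) F₀) : Matrix (Fin m ⊕ Fin m) (Fin m ⊕ Fin m) F₀).map j =
      ((plusSim m (Units.map (j : F₀ →* F) lam) : GL (Fin m ⊕ Fin m) F) : Matrix (Fin m ⊕ Fin m) (Fin m ⊕ Fin m) F) := by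
  change (Matrix.diagonal _).map j = Matrix.diagonal _
  rw [Matrix.diagonal_map (map_zero j)]
  congr 1
  funext k
  rcases k with i | i
  · rfl
  · simp

/-- the base change of a similarity is a similarity -/
theorem map_mem_GO' (hm : 3 ≤ m) (g₀ : ↥(GO (QPlus F₀ m))) :
    Matrix.GeneralLinearGroup.map j g₀.1 ∈ GO (QPlus F m) := by
  obtain ⟨vs, hvs, hg⟩ := exists_decomp hm g₀
  obtain ⟨ws, hws⟩ : ∃ ws : List (Fin m ⊕ Fin m → F),
      ws = vs.map (fun v : Fin m ⊕ Fin m → F₀ => (fun i => j (v i))) := ⟨_, rfl⟩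
  have hl : ∀ w ∈ ws, QPlus F m w ≠ 0 := by
    intro w hw
    rw [hws] at hw
    obtain ⟨v, hv, rfl⟩ := List.mem_map.mp hw
    rw [QPlus_map]
    exact (map_ne_zero j).mpr (hvs v hv)
  obtain ⟨o, -, ho⟩ := exists_GO_of_list ws hl
  have e : Matrix.GeneralLinearGroup.map j g₀.1 =
      plusSim m (Units.map (j : F₀ →* F) (mulr (QPlus F₀ m) g₀)) * o.1 := by
    apply Units.ext
    change ((g₀.1 : GL (Fin m ⊕ Fin m) F₀) : Matrix (Fin m ⊕ Fin m) (Fin m ⊕ Fin m) F₀).map j = _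
    rw [hg, Matrix.map_mul, plusSim_map, refl_list_map j (QPlus F₀ m) (QPlus F m) (QPlus_map j),
      ← hws, ← ho]
    rfl
  rw [e]
  exact Subgroup.mul_mem _ (plusSim_mem m _) o.2

/-- base change of similarities, characteristic free -/
noncomputable def mapGO' (hm : 3 ≤ m) : ↥(GO (QPlus F₀ m)) →* ↥(GO (QPlus F m)) :=
  MonoidHom.codRestrict ((Matrix.GeneralLinearGroup.map j).comp (GO (QPlus F₀ m)).subtype)
    (GO (QPlus F m)) (fun g₀ => map_mem_GO' j hm g₀)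

theorem mapGO'_val (hm : 3 ≤ m) (g₀ : ↥(GO (QPlus F₀ m))) :
    ((mapGO' j hm g₀).1 : Matrix (Fin m ⊕ Fin m) (Fin m ⊕ Fin m) F) =
      (g₀.1 : Matrix (Fin m ⊕ Fin m) (Fin m ⊕ Fin m) F₀).map j := rfl

/-- base change respects class preservation -/
theorem mem_Kp_map_iff (hm : 3 ≤ m) (g₀ : ↥(GO (QPlus F₀ m))) (g : ↥(GO (QPlus F m)))
    (hg : ((g.1 : GL (Fin m ⊕ Fin m) F) : Matrix (Fin m ⊕ Fin m) (Fin m ⊕ Fin m) F) =
      ((g₀.1 : GL (Fin m ⊕ Fin m) F₀) : Matrix (Fin m ⊕ Fin m) (Fin m ⊕ Fin m) F₀).map j) :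
    g ∈ Kp F m ↔ g₀ ∈ Kp F₀ m := by
  obtain ⟨vs, hvs, hg₀⟩ := exists_decomp hm g₀
  obtain ⟨ws, hws⟩ : ∃ ws : List (Fin m ⊕ Fin m → F),
      ws = vs.map (fun v : Fin m ⊕ Fin m → F₀ => (fun i => j (v i))) := ⟨_, rfl⟩
  have hl : ∀ w ∈ ws, QPlus F m w ≠ 0 := by
    intro w hw
    rw [hws] at hw
    obtain ⟨v, hv, rfl⟩ := List.mem_map.mp hw
    rw [QPlus_map]
    exact (map_ne_zero j).mpr (hvs v hv)
  have e : ((g.1 : GL (Fin m ⊕ Fin m) F) : Matrix (Fin m ⊕ Fin m) (Fin m ⊕ Fin m) F) =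
      ((plusSim m (Units.map (j : F₀ →* F) (mulr (QPlus F₀ m) g₀)) : GL (Fin m ⊕ Fin m) F) :
        Matrix (Fin m ⊕ Fin m) (Fin m ⊕ Fin m) F) * (ws.map (fun v => Cfsg.reflectionMatrix ⇑(QPlus F m) v)).prod := by
    rw [hg, hg₀, Matrix.map_mul, plusSim_map,
      refl_list_map j (QPlus F₀ m) (QPlus F m) (QPlus_map j), ← hws]
  rw [mem_Kp_iff_of_decomp g _ ws hl e, mem_Kp_iff_of_decomp g₀ _ vs hvs hg₀, hws, List.length_map]

theorem mapGO'_mem_Kp_iff (hm : 3 ≤ m) (g₀ : ↥(GO (QPlus F₀ m))) :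
    mapGO' j hm g₀ ∈ Kp F m ↔ g₀ ∈ Kp F₀ m :=
  mem_Kp_map_iff j hm g₀ _ (mapGO'_val j hm g₀)

end basechange

end Cfsg.Agent.Lib.Helper6.PlusCent
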