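import Mathlib
import Cfsg.Agent.Lib.Helper15.QuadF2a

/-!
# Triality for `PΩ⁺₈`, part A: the split octonion algebra on `F^8` (Zorn vector matrices)
-/

set_option autoImplicit false
set_option linter.unusedSectionVars false
set_option linter.unusedVariables false

open Cfsg Matrix QuadraticMap

namespace Cfsg.Agent.Lib.Helper6.Tri

open Cfsg.Agent.Lib.Helper15

/-- the index type of the eight-dimensional hyperbolic space -/
abbrev I8 := Fin 4 ⊕ Fin 4

theorem I8_cases {P : I8 → Prop} (h0 : P (Sum.inl 0)) (h1 : P (Sum.inl 1)) (h2 : P (Sum.inl 2))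
    (h3 : P (Sum.inl 3)) (h4 : P (Sum.inr 0)) (h5 : P (Sum.inr 1)) (h6 : P (Sum.inr 2))
    (h7 : P (Sum.inr 3)) : ∀ i, P i := by
  intro i
  rcases i with i | i
  · fin_cases i
    · exact h0
    · exact h1
    · exact h2
    · exact h3
  · fin_cases i
    · exact h4
    · exact h5
    · exact h6
    · exact h7

variable {F : Type*} [Field F]

/-- the split octonion product -/
def omul (x y : I8 → F) : I8 → F := Sum.elim
  ![-x (Sum.inl 3)*y (Sum.inr 3) - x (Sum.inl 2)*y (Sum.inr 2) - x (Sum.inl 1)*y (Sum.inr 1) + x (Sum.inl 0)*y (Sum.inl 0),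
    x (Sum.inr 3)*y (Sum.inr 2) - x (Sum.inr 2)*y (Sum.inr 3) + x (Sum.inl 1)*y (Sum.inr 0) + x (Sum.inl 0)*y (Sum.inl 1),
    -x (Sum.inr 3)*y (Sum.inr 1) + x (Sum.inr 1)*y (Sum.inr 3) + x (Sum.inl 2)*y (Sum.inr 0) + x (Sum.inl 0)*y (Sum.inl 2),
    x (Sum.inr 2)*y (Sum.inr 1) - x (Sum.inr 1)*y (Sum.inr 2) + x (Sum.inl 3)*y (Sum.inr 0) + x (Sum.inl 0)*y (Sum.inl 3)]
  ![-x (Sum.inr 3)*y (Sum.inl 3) - x (Sum.inr 2)*y (Sum.inl 2) - x (Sum.inr 1)*y (Sum.inl 1) + x (Sum.inr 0)*y (Sum.inr 0),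
    x (Sum.inr 1)*y (Sum.inl 0) + x (Sum.inr 0)*y (Sum.inr 1) + x (Sum.inl 3)*y (Sum.inl 2) - x (Sum.inl 2)*y (Sum.inl 3),
    x (Sum.inr 2)*y (Sum.inl 0) + x (Sum.inr 0)*y (Sum.inr 2) - x (Sum.inl 3)*y (Sum.inl 1) + x (Sum.inl 1)*y (Sum.inl 3),
    x (Sum.inr 3)*y (Sum.inl 0) + x (Sum.inr 0)*y (Sum.inr 3) + x (Sum.inl 2)*y (Sum.inl 1) - x (Sum.inl 1)*y (Sum.inl 2)]

theorem omul_l0 (x y : I8 → F) : omul x y (Sum.inl 0) =
    -x (Sum.inl 3)*y (Sum.inr 3) - x (Sum.inl 2)*y (Sum.inr 2) - x (Sum.inl 1)*y (Sum.inr 1) + x (Sum.inl 0)*y (Sum.inl 0) := rfl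

theorem omul_l1 (x y : I8 → F) : omul x y (Sum.inl 1) =
    x (Sum.inr 3)*y (Sum.inr 2) - x (Sum.inr 2)*y (Sum.inr 3) + x (Sum.inl 1)*y (Sum.inr 0) + x (Sum.inl 0)*y (Sum.inl 1) := rfl

theorem omul_l2 (x y : I8 → F) : omul x y (Sum.inl 2) =
    -x (Sum.inr 3)*y (Sum.inr 1) + x (Sum.inr 1)*y (Sum.inr 3) + x (Sum.inl 2)*y (Sum.inr 0) + x (Sum.inl 0)*y (Sum.inl 2) := rfl

theorem omul_l3 (x y : I8 → F) : omul x y (Sum.inl 3) =
    x (Sum.inr 2)*y (Sum.inr 1) - x (Sum.inr 1)*y (Sum.inr 2) + x (Sum.inl 3)*y (Sum.inr 0) + x (Sum.inl 0)*y (Sum.inl 3) := rfl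

theorem omul_r0 (x y : I8 → F) : omul x y (Sum.inr 0) =
    -x (Sum.inr 3)*y (Sum.inl 3) - x (Sum.inr 2)*y (Sum.inl 2) - x (Sum.inr 1)*y (Sum.inl 1) + x (Sum.inr 0)*y (Sum.inr 0) := rfl

theorem omul_r1 (x y : I8 → F) : omul x y (Sum.inr 1) =
    x (Sum.inr 1)*y (Sum.inl 0) + x (Sum.inr 0)*y (Sum.inr 1) + x (Sum.inl 3)*y (Sum.inl 2) - x (Sum.inl 2)*y (Sum.inl 3) := rfl

theorem omul_r2 (x y : I8 → F) : omul x y (Sum.inr 2) =
    x (Sum.inr 2)*y (Sum.inl 0) + x (Sum.inr 0)*y (Sum.inr 2) - x (Sum.inl 3)*y (Sum.inl 1) + x (Sum.inl 1)*y (Sum.inl 3) := rfl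

theorem omul_r3 (x y : I8 → F) : omul x y (Sum.inr 3) =
    x (Sum.inr 3)*y (Sum.inl 0) + x (Sum.inr 0)*y (Sum.inr 3) + x (Sum.inl 2)*y (Sum.inl 1) - x (Sum.inl 1)*y (Sum.inl 2) := rfl

/-- the identity element -/
def one8 : I8 → F := Sum.elim ![1, 0, 0, 0] ![1, 0, 0, 0]

theorem one8_l0 : (one8 : I8 → F) (Sum.inl 0) = 1 := rfl

theorem one8_l1 : (one8 : I8 → F) (Sum.inl 1) = 0 := rfl

theorem one8_l2 : (one8 : I8 → F) (Sum.inl 2) = 0 := rfl

theorem one8_l3 : (one8 : I8 → F) (Sum.inl 3) = 0 := rfl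

theorem one8_r0 : (one8 : I8 → F) (Sum.inr 0) = 1 := rfl

theorem one8_r1 : (one8 : I8 → F) (Sum.inr 1) = 0 := rfl

theorem one8_r2 : (one8 : I8 → F) (Sum.inr 2) = 0 := rfl

theorem one8_r3 : (one8 : I8 → F) (Sum.inr 3) = 0 := rfl

/-- the conjugation -/
def cj (x : I8 → F) : I8 → F := Sum.elim
  ![x (Sum.inr 0), -x (Sum.inl 1), -x (Sum.inl 2), -x (Sum.inl 3)]
  ![x (Sum.inl 0), -x (Sum.inr 1), -x (Sum.inr 2), -x (Sum.inr 3)]

theorem cj_l0 (x : I8 → F) : cj x (Sum.inl 0) = x (Sum.inr 0) := rfl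

theorem cj_l1 (x : I8 → F) : cj x (Sum.inl 1) = -x (Sum.inl 1) := rfl

theorem cj_l2 (x : I8 → F) : cj x (Sum.inl 2) = -x (Sum.inl 2) := rfl

theorem cj_l3 (x : I8 → F) : cj x (Sum.inl 3) = -x (Sum.inl 3) := rfl

theorem cj_r0 (x : I8 → F) : cj x (Sum.inr 0) = x (Sum.inl 0) := rfl

theorem cj_r1 (x : I8 → F) : cj x (Sum.inr 1) = -x (Sum.inr 1) := rfl

theorem cj_r2 (x : I8 → F) : cj x (Sum.inr 2) = -x (Sum.inr 2) := rfl

theorem cj_r3 (x : I8 → F) : cj x (Sum.inr 3) = -x (Sum.inr 3) := rfl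

/-- the norm form in coordinates -/
def nm (x : I8 → F) : F :=
  x (Sum.inl 0) * x (Sum.inr 0) + x (Sum.inl 1) * x (Sum.inr 1) + x (Sum.inl 2) * x (Sum.inr 2) +
    x (Sum.inl 3) * x (Sum.inr 3)

/-- the polar form in coordinates -/
def bl (x y : I8 → F) : F :=
  x (Sum.inl 0) * y (Sum.inr 0) + x (Sum.inr 0) * y (Sum.inl 0) +
  (x (Sum.inl 1) * y (Sum.inr 1) + x (Sum.inr 1) * y (Sum.inl 1)) +
  (x (Sum.inl 2) * y (Sum.inr 2) + x (Sum.inr 2) * y (Sum.inl 2)) +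
  (x (Sum.inl 3) * y (Sum.inr 3) + x (Sum.inr 3) * y (Sum.inl 3))

theorem QPlus_eq_nm (x : I8 → F) : QPlus F 4 x = nm x := by
  rw [QPlus_apply]
  unfold Cfsg.quadFormPlus nm
  rw [Fin.sum_univ_four]

theorem polar_eq_bl (x y : I8 → F) : polar (⇑(QPlus F 4)) x y = bl x y := by
  rw [polar_QPlus, Fin.sum_univ_four]
  unfold bl
  ring

theorem omul_add_left (x x' y : I8 → F) :
    omul (x + x') y = omul x y + omul x' y := by
  funext i; revert i
  apply I8_cases <;> simp only [omul_l0, omul_l1, omul_l2, omul_l3, omul_r0, omul_r1, omul_r2, omul_r3, one8_l0, one8_l1, one8_l2, one8_l3, one8_r0, one8_r1, one8_r2, one8_r3, cj_l0, cj_l1, cj_l2, cj_l3, cj_r0, cj_r1, cj_r2, cj_r3, Pi.add_apply, Pi.sub_apply, Pi.smul_apply, Pi.neg_apply, Pi.zero_apply, smul_eq_mul, nm, bl] <;> ring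

theorem omul_add_right (x y y' : I8 → F) :
    omul x (y + y') = omul x y + omul x y' := by
  funext i; revert i
  apply I8_cases <;> simp only [omul_l0, omul_l1, omul_l2, omul_l3, omul_r0, omul_r1, omul_r2, omul_r3, one8_l0, one8_l1, one8_l2, one8_l3, one8_r0, one8_r1, one8_r2, one8_r3, cj_l0, cj_l1, cj_l2, cj_l3, cj_r0, cj_r1, cj_r2, cj_r3, Pi.add_apply, Pi.sub_apply, Pi.smul_apply, Pi.neg_apply, Pi.zero_apply, smul_eq_mul, nm, bl] <;> ring

theorem omul_smul_left (c : F) (x y : I8 → F) :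
    omul (c • x) y = c • omul x y := by
  funext i; revert i
  apply I8_cases <;> simp only [omul_l0, omul_l1, omul_l2, omul_l3, omul_r0, omul_r1, omul_r2, omul_r3, one8_l0, one8_l1, one8_l2, one8_l3, one8_r0, one8_r1, one8_r2, one8_r3, cj_l0, cj_l1, cj_l2, cj_l3, cj_r0, cj_r1, cj_r2, cj_r3, Pi.add_apply, Pi.sub_apply, Pi.smul_apply, Pi.neg_apply, Pi.zero_apply, smul_eq_mul, nm, bl] <;> ring

theorem omul_smul_right (c : F) (x y : I8 → F) :
    omul x (c • y) = c • omul x y := by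
  funext i; revert i
  apply I8_cases <;> simp only [omul_l0, omul_l1, omul_l2, omul_l3, omul_r0, omul_r1, omul_r2, omul_r3, one8_l0, one8_l1, one8_l2, one8_l3, one8_r0, one8_r1, one8_r2, one8_r3, cj_l0, cj_l1, cj_l2, cj_l3, cj_r0, cj_r1, cj_r2, cj_r3, Pi.add_apply, Pi.sub_apply, Pi.smul_apply, Pi.neg_apply, Pi.zero_apply, smul_eq_mul, nm, bl] <;> ring

theorem omul_sub_left (x x' y : I8 → F) :
    omul (x - x') y = omul x y - omul x' y := by
  funext i; revert i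
  apply I8_cases <;> simp only [omul_l0, omul_l1, omul_l2, omul_l3, omul_r0, omul_r1, omul_r2, omul_r3, one8_l0, one8_l1, one8_l2, one8_l3, one8_r0, one8_r1, one8_r2, one8_r3, cj_l0, cj_l1, cj_l2, cj_l3, cj_r0, cj_r1, cj_r2, cj_r3, Pi.add_apply, Pi.sub_apply, Pi.smul_apply, Pi.neg_apply, Pi.zero_apply, smul_eq_mul, nm, bl] <;> ring

theorem omul_sub_right (x y y' : I8 → F) :
    omul x (y - y') = omul x y - omul x y' := by
  funext i; revert i
  apply I8_cases <;> simp only [omul_l0, omul_l1, omul_l2, omul_l3, omul_r0, omul_r1, omul_r2, omul_r3, one8_l0, one8_l1, one8_l2, one8_l3, one8_r0, one8_r1, one8_r2, one8_r3, cj_l0, cj_l1, cj_l2, cj_l3, cj_r0, cj_r1, cj_r2, cj_r3, Pi.add_apply, Pi.sub_apply, Pi.smul_apply, Pi.neg_apply, Pi.zero_apply, smul_eq_mul, nm, bl] <;> ring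

theorem omul_neg_left (x y : I8 → F) :
    omul (-x) y = -omul x y := by
  funext i; revert i
  apply I8_cases <;> simp only [omul_l0, omul_l1, omul_l2, omul_l3, omul_r0, omul_r1, omul_r2, omul_r3, one8_l0, one8_l1, one8_l2, one8_l3, one8_r0, one8_r1, one8_r2, one8_r3, cj_l0, cj_l1, cj_l2, cj_l3, cj_r0, cj_r1, cj_r2, cj_r3, Pi.add_apply, Pi.sub_apply, Pi.smul_apply, Pi.neg_apply, Pi.zero_apply, smul_eq_mul, nm, bl] <;> ring

theorem omul_neg_right (x y : I8 → F) :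
    omul x (-y) = -omul x y := by
  funext i; revert i
  apply I8_cases <;> simp only [omul_l0, omul_l1, omul_l2, omul_l3, omul_r0, omul_r1, omul_r2, omul_r3, one8_l0, one8_l1, one8_l2, one8_l3, one8_r0, one8_r1, one8_r2, one8_r3, cj_l0, cj_l1, cj_l2, cj_l3, cj_r0, cj_r1, cj_r2, cj_r3, Pi.add_apply, Pi.sub_apply, Pi.smul_apply, Pi.neg_apply, Pi.zero_apply, smul_eq_mul, nm, bl] <;> ring

theorem omul_zero_left (y : I8 → F) :
    omul (0 : I8 → F) y = 0 := by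
  funext i; revert i
  apply I8_cases <;> simp only [omul_l0, omul_l1, omul_l2, omul_l3, omul_r0, omul_r1, omul_r2, omul_r3, one8_l0, one8_l1, one8_l2, one8_l3, one8_r0, one8_r1, one8_r2, one8_r3, cj_l0, cj_l1, cj_l2, cj_l3, cj_r0, cj_r1, cj_r2, cj_r3, Pi.add_apply, Pi.sub_apply, Pi.smul_apply, Pi.neg_apply, Pi.zero_apply, smul_eq_mul, nm, bl] <;> ring

theorem omul_zero_right (x : I8 → F) :
    omul x (0 : I8 → F) = 0 := by
  funext i; revert i
  apply I8_cases <;> simp only [omul_l0, omul_l1, omul_l2, omul_l3, omul_r0, omul_r1, omul_r2, omul_r3, one8_l0, one8_l1, one8_l2, one8_l3, one8_r0, one8_r1, one8_r2, one8_r3, cj_l0, cj_l1, cj_l2, cj_l3, cj_r0, cj_r1, cj_r2, cj_r3, Pi.add_apply, Pi.sub_apply, Pi.smul_apply, Pi.neg_apply, Pi.zero_apply, smul_eq_mul, nm, bl] <;> ring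

theorem one8_omul (x : I8 → F) :
    omul one8 x = x := by
  funext i; revert i
  apply I8_cases <;> simp only [omul_l0, omul_l1, omul_l2, omul_l3, omul_r0, omul_r1, omul_r2, omul_r3, one8_l0, one8_l1, one8_l2, one8_l3, one8_r0, one8_r1, one8_r2, one8_r3, cj_l0, cj_l1, cj_l2, cj_l3, cj_r0, cj_r1, cj_r2, cj_r3, Pi.add_apply, Pi.sub_apply, Pi.smul_apply, Pi.neg_apply, Pi.zero_apply, smul_eq_mul, nm, bl] <;> ring

theorem omul_one8 (x : I8 → F) :
    omul x one8 = x := by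
  funext i; revert i
  apply I8_cases <;> simp only [omul_l0, omul_l1, omul_l2, omul_l3, omul_r0, omul_r1, omul_r2, omul_r3, one8_l0, one8_l1, one8_l2, one8_l3, one8_r0, one8_r1, one8_r2, one8_r3, cj_l0, cj_l1, cj_l2, cj_l3, cj_r0, cj_r1, cj_r2, cj_r3, Pi.add_apply, Pi.sub_apply, Pi.smul_apply, Pi.neg_apply, Pi.zero_apply, smul_eq_mul, nm, bl] <;> ring

theorem nm_omul (x y : I8 → F) :
    nm (omul x y) = nm x * nm y := by
  simp only [omul_l0, omul_l1, omul_l2, omul_l3, omul_r0, omul_r1, omul_r2, omul_r3, one8_l0, one8_l1, one8_l2, one8_l3, one8_r0, one8_r1, one8_r2, one8_r3, cj_l0, cj_l1, cj_l2, cj_l3, cj_r0, cj_r1, cj_r2, cj_r3, Pi.add_apply, Pi.sub_apply, Pi.smul_apply, Pi.neg_apply, Pi.zero_apply, smul_eq_mul, nm, bl]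
  ring

theorem nm_one8  :
    nm (one8 : I8 → F) = 1 := by
  simp only [omul_l0, omul_l1, omul_l2, omul_l3, omul_r0, omul_r1, omul_r2, omul_r3, one8_l0, one8_l1, one8_l2, one8_l3, one8_r0, one8_r1, one8_r2, one8_r3, cj_l0, cj_l1, cj_l2, cj_l3, cj_r0, cj_r1, cj_r2, cj_r3, Pi.add_apply, Pi.sub_apply, Pi.smul_apply, Pi.neg_apply, Pi.zero_apply, smul_eq_mul, nm, bl]
  ring

theorem cj_cj (x : I8 → F) :
    cj (cj x) = x := by
  funext i; revert i
  apply I8_cases <;> simp only [omul_l0, omul_l1, omul_l2, omul_l3, omul_r0, omul_r1, omul_r2, omul_r3, one8_l0, one8_l1, one8_l2, one8_l3, one8_r0, one8_r1, one8_r2, one8_r3, cj_l0, cj_l1, cj_l2, cj_l3, cj_r0, cj_r1, cj_r2, cj_r3, Pi.add_apply, Pi.sub_apply, Pi.smul_apply, Pi.neg_apply, Pi.zero_apply, smul_eq_mul, nm, bl] <;> ring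

theorem cj_add (x y : I8 → F) :
    cj (x + y) = cj x + cj y := by
  funext i; revert i
  apply I8_cases <;> simp only [omul_l0, omul_l1, omul_l2, omul_l3, omul_r0, omul_r1, omul_r2, omul_r3, one8_l0, one8_l1, one8_l2, one8_l3, one8_r0, one8_r1, one8_r2, one8_r3, cj_l0, cj_l1, cj_l2, cj_l3, cj_r0, cj_r1, cj_r2, cj_r3, Pi.add_apply, Pi.sub_apply, Pi.smul_apply, Pi.neg_apply, Pi.zero_apply, smul_eq_mul, nm, bl] <;> ring

theorem cj_sub (x y : I8 → F) :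
    cj (x - y) = cj x - cj y := by
  funext i; revert i
  apply I8_cases <;> simp only [omul_l0, omul_l1, omul_l2, omul_l3, omul_r0, omul_r1, omul_r2, omul_r3, one8_l0, one8_l1, one8_l2, one8_l3, one8_r0, one8_r1, one8_r2, one8_r3, cj_l0, cj_l1, cj_l2, cj_l3, cj_r0, cj_r1, cj_r2, cj_r3, Pi.add_apply, Pi.sub_apply, Pi.smul_apply, Pi.neg_apply, Pi.zero_apply, smul_eq_mul, nm, bl] <;> ring

theorem cj_smul (c : F) (x : I8 → F) :
    cj (c • x) = c • cj x := by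
  funext i; revert i
  apply I8_cases <;> simp only [omul_l0, omul_l1, omul_l2, omul_l3, omul_r0, omul_r1, omul_r2, omul_r3, one8_l0, one8_l1, one8_l2, one8_l3, one8_r0, one8_r1, one8_r2, one8_r3, cj_l0, cj_l1, cj_l2, cj_l3, cj_r0, cj_r1, cj_r2, cj_r3, Pi.add_apply, Pi.sub_apply, Pi.smul_apply, Pi.neg_apply, Pi.zero_apply, smul_eq_mul, nm, bl] <;> ring

theorem cj_neg (x : I8 → F) :
    cj (-x) = -cj x := by
  funext i; revert i
  apply I8_cases <;> simp only [omul_l0, omul_l1, omul_l2, omul_l3, omul_r0, omul_r1, omul_r2, omul_r3, one8_l0, one8_l1, one8_l2, one8_l3, one8_r0, one8_r1, one8_r2, one8_r3, cj_l0, cj_l1, cj_l2, cj_l3, cj_r0, cj_r1, cj_r2, cj_r3, Pi.add_apply, Pi.sub_apply, Pi.smul_apply, Pi.neg_apply, Pi.zero_apply, smul_eq_mul, nm, bl] <;> ring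

theorem cj_one8  :
    cj (one8 : I8 → F) = one8 := by
  funext i; revert i
  apply I8_cases <;> simp only [omul_l0, omul_l1, omul_l2, omul_l3, omul_r0, omul_r1, omul_r2, omul_r3, one8_l0, one8_l1, one8_l2, one8_l3, one8_r0, one8_r1, one8_r2, one8_r3, cj_l0, cj_l1, cj_l2, cj_l3, cj_r0, cj_r1, cj_r2, cj_r3, Pi.add_apply, Pi.sub_apply, Pi.smul_apply, Pi.neg_apply, Pi.zero_apply, smul_eq_mul, nm, bl] <;> ring

theorem nm_cj (x : I8 → F) :
    nm (cj x) = nm x := by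
  simp only [omul_l0, omul_l1, omul_l2, omul_l3, omul_r0, omul_r1, omul_r2, omul_r3, one8_l0, one8_l1, one8_l2, one8_l3, one8_r0, one8_r1, one8_r2, one8_r3, cj_l0, cj_l1, cj_l2, cj_l3, cj_r0, cj_r1, cj_r2, cj_r3, Pi.add_apply, Pi.sub_apply, Pi.smul_apply, Pi.neg_apply, Pi.zero_apply, smul_eq_mul, nm, bl]
  ring

theorem cj_omul (x y : I8 → F) :
    cj (omul x y) = omul (cj y) (cj x) := by
  funext i; revert i
  apply I8_cases <;> simp only [omul_l0, omul_l1, omul_l2, omul_l3, omul_r0, omul_r1, omul_r2, omul_r3, one8_l0, one8_l1, one8_l2, one8_l3, one8_r0, one8_r1, one8_r2, one8_r3, cj_l0, cj_l1, cj_l2, cj_l3, cj_r0, cj_r1, cj_r2, cj_r3, Pi.add_apply, Pi.sub_apply, Pi.smul_apply, Pi.neg_apply, Pi.zero_apply, smul_eq_mul, nm, bl] <;> ring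

theorem cj_omul_omul (x y : I8 → F) :
    omul (cj x) (omul x y) = nm x • y := by
  funext i; revert i
  apply I8_cases <;> simp only [omul_l0, omul_l1, omul_l2, omul_l3, omul_r0, omul_r1, omul_r2, omul_r3, one8_l0, one8_l1, one8_l2, one8_l3, one8_r0, one8_r1, one8_r2, one8_r3, cj_l0, cj_l1, cj_l2, cj_l3, cj_r0, cj_r1, cj_r2, cj_r3, Pi.add_apply, Pi.sub_apply, Pi.smul_apply, Pi.neg_apply, Pi.zero_apply, smul_eq_mul, nm, bl] <;> ring

theorem omul_omul_cj (x y : I8 → F) :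
    omul (omul y x) (cj x) = nm x • y := by
  funext i; revert i
  apply I8_cases <;> simp only [omul_l0, omul_l1, omul_l2, omul_l3, omul_r0, omul_r1, omul_r2, omul_r3, one8_l0, one8_l1, one8_l2, one8_l3, one8_r0, one8_r1, one8_r2, one8_r3, cj_l0, cj_l1, cj_l2, cj_l3, cj_r0, cj_r1, cj_r2, cj_r3, Pi.add_apply, Pi.sub_apply, Pi.smul_apply, Pi.neg_apply, Pi.zero_apply, smul_eq_mul, nm, bl] <;> ring

theorem bl_eq (x y : I8 → F) :
    bl x y = nm (x + y) - nm x - nm y := by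
  simp only [omul_l0, omul_l1, omul_l2, omul_l3, omul_r0, omul_r1, omul_r2, omul_r3, one8_l0, one8_l1, one8_l2, one8_l3, one8_r0, one8_r1, one8_r2, one8_r3, cj_l0, cj_l1, cj_l2, cj_l3, cj_r0, cj_r1, cj_r2, cj_r3, Pi.add_apply, Pi.sub_apply, Pi.smul_apply, Pi.neg_apply, Pi.zero_apply, smul_eq_mul, nm, bl]
  ring

theorem bl_comm (x y : I8 → F) :
    bl x y = bl y x := by
  simp only [omul_l0, omul_l1, omul_l2, omul_l3, omul_r0, omul_r1, omul_r2, omul_r3, one8_l0, one8_l1, one8_l2, one8_l3, one8_r0, one8_r1, one8_r2, one8_r3, cj_l0, cj_l1, cj_l2, cj_l3, cj_r0, cj_r1, cj_r2, cj_r3, Pi.add_apply, Pi.sub_apply, Pi.smul_apply, Pi.neg_apply, Pi.zero_apply, smul_eq_mul, nm, bl]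
  ring

theorem sieg_triple (u w x y : I8 → F) :
    omul x y + (bl w (omul x y) - nm w * bl u (omul x y)) • u + (-(bl u (omul x y))) • w =
      omul (x - omul w (omul (cj u) x)) (y - omul (omul y (cj u)) w) +
        nm u • omul (omul w (cj (omul x y))) w + bl u w • (omul x y - bl u (omul x y) • w) := by
  funext i; revert i
  apply I8_cases <;> simp only [omul_l0, omul_l1, omul_l2, omul_l3, omul_r0, omul_r1, omul_r2, omul_r3, one8_l0, one8_l1, one8_l2, one8_l3, one8_r0, one8_r1, one8_r2, one8_r3, cj_l0, cj_l1, cj_l2, cj_l3, cj_r0, cj_r1, cj_r2, cj_r3, Pi.add_apply, Pi.sub_apply, Pi.smul_apply, Pi.neg_apply, Pi.zero_apply, smul_eq_mul, nm, bl] <;> ring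

theorem nm_S1 (u w x : I8 → F) :
    nm (x - omul w (omul (cj u) x)) = nm x * (1 - bl u w + nm u * nm w) := by
  simp only [omul_l0, omul_l1, omul_l2, omul_l3, omul_r0, omul_r1, omul_r2, omul_r3, one8_l0, one8_l1, one8_l2, one8_l3, one8_r0, one8_r1, one8_r2, one8_r3, cj_l0, cj_l1, cj_l2, cj_l3, cj_r0, cj_r1, cj_r2, cj_r3, Pi.add_apply, Pi.sub_apply, Pi.smul_apply, Pi.neg_apply, Pi.zero_apply, smul_eq_mul, nm, bl]
  ring

theorem nm_S2 (u w y : I8 → F) :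
    nm (y - omul (omul y (cj u)) w) = nm y * (1 - bl u w + nm u * nm w) := by
  simp only [omul_l0, omul_l1, omul_l2, omul_l3, omul_r0, omul_r1, omul_r2, omul_r3, one8_l0, one8_l1, one8_l2, one8_l3, one8_r0, one8_r1, one8_r2, one8_r3, cj_l0, cj_l1, cj_l2, cj_l3, cj_r0, cj_r1, cj_r2, cj_r3, Pi.add_apply, Pi.sub_apply, Pi.smul_apply, Pi.neg_apply, Pi.zero_apply, smul_eq_mul, nm, bl]
  ring

theorem D1_sq (u w x : I8 → F) :
    omul w (omul (cj u) (omul w (omul (cj u) x))) =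
      bl u w • omul w (omul (cj u) x) - (nm w * nm u) • x := by
  funext i; revert i
  apply I8_cases <;> simp only [omul_l0, omul_l1, omul_l2, omul_l3, omul_r0, omul_r1, omul_r2, omul_r3, one8_l0, one8_l1, one8_l2, one8_l3, one8_r0, one8_r1, one8_r2, one8_r3, cj_l0, cj_l1, cj_l2, cj_l3, cj_r0, cj_r1, cj_r2, cj_r3, Pi.add_apply, Pi.sub_apply, Pi.smul_apply, Pi.neg_apply, Pi.zero_apply, smul_eq_mul, nm, bl] <;> ring

theorem D2_sq (u w y : I8 → F) :
    omul (omul (omul (omul y (cj u)) w) (cj u)) w =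
      bl u w • omul (omul y (cj u)) w - (nm w * nm u) • y := by
  funext i; revert i
  apply I8_cases <;> simp only [omul_l0, omul_l1, omul_l2, omul_l3, omul_r0, omul_r1, omul_r2, omul_r3, one8_l0, one8_l1, one8_l2, one8_l3, one8_r0, one8_r1, one8_r2, one8_r3, cj_l0, cj_l1, cj_l2, cj_l3, cj_r0, cj_r1, cj_r2, cj_r3, Pi.add_apply, Pi.sub_apply, Pi.smul_apply, Pi.neg_apply, Pi.zero_apply, smul_eq_mul, nm, bl] <;> ring

theorem moufang_L (a x y : I8 → F) :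
    omul (omul (omul a x) a) (omul (cj a) y) = nm a • omul a (omul x y) := by
  funext i; revert i
  apply I8_cases <;> simp only [omul_l0, omul_l1, omul_l2, omul_l3, omul_r0, omul_r1, omul_r2, omul_r3, one8_l0, one8_l1, one8_l2, one8_l3, one8_r0, one8_r1, one8_r2, one8_r3, cj_l0, cj_l1, cj_l2, cj_l3, cj_r0, cj_r1, cj_r2, cj_r3, Pi.add_apply, Pi.sub_apply, Pi.smul_apply, Pi.neg_apply, Pi.zero_apply, smul_eq_mul, nm, bl] <;> ring

theorem B_cj (a x : I8 → F) :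
    omul (omul a (cj x)) a = bl a x • a - nm a • x := by
  funext i; revert i
  apply I8_cases <;> simp only [omul_l0, omul_l1, omul_l2, omul_l3, omul_r0, omul_r1, omul_r2, omul_r3, one8_l0, one8_l1, one8_l2, one8_l3, one8_r0, one8_r1, one8_r2, one8_r3, cj_l0, cj_l1, cj_l2, cj_l3, cj_r0, cj_r1, cj_r2, cj_r3, Pi.add_apply, Pi.sub_apply, Pi.smul_apply, Pi.neg_apply, Pi.zero_apply, smul_eq_mul, nm, bl] <;> ring

theorem nucleus (a : I8 → F) (h : ∀ x y, omul x (omul a y) = omul (omul x a) y) :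
    a = a (Sum.inl 0) • one8 := by
  have e3 := congrFun (h (Pi.single (Sum.inl 0) 1) (Pi.single (Sum.inl 1) 1)) (Sum.inr 2)
  have e2 := congrFun (h (Pi.single (Sum.inl 0) 1) (Pi.single (Sum.inl 1) 1)) (Sum.inr 3)
  have e1 := congrFun (h (Pi.single (Sum.inl 0) 1) (Pi.single (Sum.inl 2) 1)) (Sum.inr 3)
  have e6 := congrFun (h (Pi.single (Sum.inl 0) 1) (Pi.single (Sum.inr 1) 1)) (Sum.inl 3)
  have e7 := congrFun (h (Pi.single (Sum.inl 0) 1) (Pi.single (Sum.inr 1) 1)) (Sum.inl 2)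
  have e5 := congrFun (h (Pi.single (Sum.inl 0) 1) (Pi.single (Sum.inr 2) 1)) (Sum.inl 3)
  have e4 := congrFun (h (Pi.single (Sum.inl 1) 1) (Pi.single (Sum.inl 2) 1)) (Sum.inr 3)
  simp [omul_l0, omul_l1, omul_l2, omul_l3, omul_r0, omul_r1, omul_r2, omul_r3] at e1 e2 e3 e4 e5 e6 e7
  funext i
  revert i
  apply I8_cases <;> simp only [Pi.smul_apply, one8_l0, one8_l1, one8_l2, one8_l3, one8_r0, one8_r1,
    one8_r2, one8_r3, smul_eq_mul, mul_one, mul_zero]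
  · exact e1
  · exact e2.symm
  · exact e3
  · exact e4.symm
  · exact e5
  · exact e6
  · exact e7

/-- a second non-singular vector -/
def two8 : I8 → F := Sum.elim ![0, 1, 0, 0] ![0, 1, 0, 0]

theorem nm_two8 : nm (two8 : I8 → F) = 1 := by
  simp [nm, two8]

/-- vectors of the standard basis are differences of two non-singular vectors -/
theorem exists_nonsing_decomp (i : I8) (c : F) :
    ∃ n n' : I8 → F, nm n ≠ 0 ∧ nm n' ≠ 0 ∧ (Pi.single i c : I8 → F) = n - n' := by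
  revert i
  apply I8_cases
  · refine ⟨Pi.single (Sum.inl 0) c + two8, two8, ?_, ?_, by abel⟩
    · simp [nm, two8]
    · rw [nm_two8]; exact one_ne_zero
  · refine ⟨Pi.single (Sum.inl 1) c + one8, one8, ?_, ?_, by abel⟩
    · simp [nm, one8]
    · rw [nm_one8]; exact one_ne_zero
  · refine ⟨Pi.single (Sum.inl 2) c + one8, one8, ?_, ?_, by abel⟩
    · simp [nm, one8]
    · rw [nm_one8]; exact one_ne_zero
  · refine ⟨Pi.single (Sum.inl 3) c + one8, one8, ?_, ?_, by abel⟩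
    · simp [nm, one8]
    · rw [nm_one8]; exact one_ne_zero
  · refine ⟨Pi.single (Sum.inr 0) c + two8, two8, ?_, ?_, by abel⟩
    · simp [nm, two8]
    · rw [nm_two8]; exact one_ne_zero
  · refine ⟨Pi.single (Sum.inr 1) c + one8, one8, ?_, ?_, by abel⟩
    · simp [nm, one8]
    · rw [nm_one8]; exact one_ne_zero
  · refine ⟨Pi.single (Sum.inr 2) c + one8, one8, ?_, ?_, by abel⟩
    · simp [nm, one8]
    · rw [nm_one8]; exact one_ne_zero
  · refine ⟨Pi.single (Sum.inr 3) c + one8, one8, ?_, ?_, by abel⟩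
    · simp [nm, one8]
    · rw [nm_one8]; exact one_ne_zero

/-- an additive property holding for non-singular vectors holds for all vectors -/
theorem nonsing_induction {P : (I8 → F) → Prop} (hns : ∀ w, nm w ≠ 0 → P w)
    (hsub : ∀ w w', P w → P w' → P (w - w')) (hadd : ∀ w w', P w → P w' → P (w + w'))
    (h0 : P 0) : ∀ w, P w := by
  intro w
  rw [← Finset.univ_sum_single w]
  apply Finset.sum_induction _ P hadd h0
  intro i _
  obtain ⟨n, n', hn, hn', e⟩ := exists_nonsing_decomp i (w i)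
  rw [e]
  exact hsub _ _ (hns n hn) (hns n' hn')

end Cfsg.Agent.Lib.Helper6.Tri
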