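import Mathlib
import Cfsg.Agent.Lib.Helper6.TriA
import Cfsg.Agent.Lib.Helper6.AutOrt17

/-!
# Triality for `PΩ⁺₈`, part B: related triples and the triality automorphism
-/

set_option autoImplicit false
set_option linter.unusedSectionVars false
set_option linter.unusedVariables false

open Cfsg Matrix QuadraticMap

namespace Cfsg.Agent.Lib.Helper6.Tri

open Cfsg.Agent.Lib.Helper6 Cfsg.Agent.Lib.Helper15 Cfsg.Agent.Lib.Helper6.AutOrt

variable {F : Type*} [Field F]

/-- the isometry group of the hyperbolic form in dimension eight -/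
abbrev G8 (F : Type*) [Field F] := ↥(Cfsg.isometryGroup F ⇑(QPlus F 4))

theorem nm_gact (g : G8 F) (x : I8 → F) : nm (gact (QPlus F 4) g x) = nm x := by
  rw [← QPlus_eq_nm, Q_gact, QPlus_eq_nm]

/-- isometries from linear maps -/
noncomputable def linIso (f g : (I8 → F) →ₗ[F] (I8 → F)) (h1 : ∀ x, f (g x) = x)
    (h2 : ∀ x, g (f x) = x) (hf : ∀ x, nm (f x) = nm x) : G8 F :=
  mkIso (QPlus F 4) (LinearMap.toMatrix' f) (LinearMap.toMatrix' g)
    (by
      rw [← LinearMap.toMatrix'_comp]
      have : f.comp g = LinearMap.id := LinearMap.ext h1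
      rw [this, LinearMap.toMatrix'_id])
    (by
      rw [← LinearMap.toMatrix'_comp]
      have : g.comp f = LinearMap.id := LinearMap.ext h2
      rw [this, LinearMap.toMatrix'_id])
    (by
      intro x
      rw [LinearMap.toMatrix'_mulVec, QPlus_eq_nm, QPlus_eq_nm, hf])

theorem gact_linIso (f g : (I8 → F) →ₗ[F] (I8 → F)) (h1 : ∀ x, f (g x) = x)
    (h2 : ∀ x, g (f x) = x) (hf : ∀ x, nm (f x) = nm x) (x : I8 → F) :
    gact (QPlus F 4) (linIso f g h1 h2 hf) x = f x := by
  unfold linIso
  rw [gact_mkIso, LinearMap.toMatrix'_mulVec]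

/-- the linear map `x ↦ w (ū x)` -/
def D1 (u w : I8 → F) : (I8 → F) →ₗ[F] (I8 → F) where
  toFun x := omul w (omul (cj u) x)
  map_add' x y := by rw [omul_add_right, omul_add_right]
  map_smul' c x := by rw [omul_smul_right, omul_smul_right]; rfl

/-- the linear map `y ↦ (y ū) w` -/
def D2 (u w : I8 → F) : (I8 → F) →ₗ[F] (I8 → F) where
  toFun y := omul (omul y (cj u)) w
  map_add' x y := by rw [omul_add_left, omul_add_left]
  map_smul' c x := by rw [omul_smul_left, omul_smul_left]; rfl

theorem D1_apply (u w x : I8 → F) : D1 u w x = omul w (omul (cj u) x) := rfl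
theorem D2_apply (u w y : I8 → F) : D2 u w y = omul (omul y (cj u)) w := rfl

theorem D1_D1 (u w : I8 → F) (hu : nm u = 0) (huw : bl u w = 0) (x : I8 → F) :
    D1 u w (D1 u w x) = 0 := by
  rw [D1_apply, D1_apply, D1_sq, huw, hu, mul_zero, zero_smul, zero_smul, sub_zero]

theorem D2_D2 (u w : I8 → F) (hu : nm u = 0) (huw : bl u w = 0) (y : I8 → F) :
    D2 u w (D2 u w y) = 0 := by
  rw [D2_apply, D2_apply, D2_sq, huw, hu, mul_zero, zero_smul, zero_smul, sub_zero]

/-- the first companion of a Siegel transformation -/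
noncomputable def S1 (u w : I8 → F) (hu : nm u = 0) (huw : bl u w = 0) : G8 F :=
  linIso (LinearMap.id - D1 u w) (LinearMap.id + D1 u w)
    (by
      intro x
      simp only [LinearMap.sub_apply, LinearMap.add_apply, LinearMap.id_apply, map_add,
        D1_D1 u w hu huw]
      abel)
    (by
      intro x
      simp only [LinearMap.sub_apply, LinearMap.add_apply, LinearMap.id_apply, map_sub,
        D1_D1 u w hu huw]
      abel)
    (by
      intro x
      rw [LinearMap.sub_apply, LinearMap.id_apply, D1_apply, nm_S1, huw, hu]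
      ring)

/-- the second companion of a Siegel transformation -/
noncomputable def S2 (u w : I8 → F) (hu : nm u = 0) (huw : bl u w = 0) : G8 F :=
  linIso (LinearMap.id - D2 u w) (LinearMap.id + D2 u w)
    (by
      intro x
      simp only [LinearMap.sub_apply, LinearMap.add_apply, LinearMap.id_apply, map_add,
        D2_D2 u w hu huw]
      abel)
    (by
      intro x
      simp only [LinearMap.sub_apply, LinearMap.add_apply, LinearMap.id_apply, map_sub,
        D2_D2 u w hu huw]
      abel)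
    (by
      intro x
      rw [LinearMap.sub_apply, LinearMap.id_apply, D2_apply, nm_S2, huw, hu]
      ring)

theorem gact_S1 (u w : I8 → F) (hu : nm u = 0) (huw : bl u w = 0) (x : I8 → F) :
    gact (QPlus F 4) (S1 u w hu huw) x = x - omul w (omul (cj u) x) := by
  unfold S1
  rw [gact_linIso]
  rfl

theorem gact_S2 (u w : I8 → F) (hu : nm u = 0) (huw : bl u w = 0) (y : I8 → F) :
    gact (QPlus F 4) (S2 u w hu huw) y = y - omul (omul y (cj u)) w := by
  unfold S2
  rw [gact_linIso]
  rfl

/-- the conjugation as an isometry -/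
def cjL : (I8 → F) →ₗ[F] (I8 → F) where
  toFun := cj
  map_add' := cj_add
  map_smul' c x := by rw [cj_smul]; rfl

theorem cjL_apply (x : I8 → F) : cjL x = cj x := rfl

theorem cj_zero : cj (0 : I8 → F) = 0 := by
  have := cj_smul (0 : F) (0 : I8 → F)
  rwa [zero_smul, zero_smul] at this

noncomputable def cjI : G8 F := linIso cjL cjL
  (fun x => by rw [cjL_apply, cjL_apply, cj_cj]) (fun x => by rw [cjL_apply, cjL_apply, cj_cj])
  (fun x => by rw [cjL_apply, nm_cj])

theorem gact_cjI (x : I8 → F) : gact (QPlus F 4) (cjI : G8 F) x = cj x := by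
  unfold cjI
  rw [gact_linIso]
  rfl

/-- related triples of isometries: `t₀ (x y) = t₁ x · t₂ y` -/
def RT : Subgroup (G8 F × G8 F × G8 F) where
  carrier := {t | ∀ x y, gact (QPlus F 4) t.1 (omul x y) =
    omul (gact (QPlus F 4) t.2.1 x) (gact (QPlus F 4) t.2.2 y)}
  one_mem' := by
    intro x y
    simp only [Prod.fst_one, Prod.snd_one, gact_one]
  mul_mem' := by
    intro t t' ht ht' x y
    simp only [Prod.fst_mul, Prod.snd_mul, gact_mul]
    rw [ht', ht]
  inv_mem' := by
    intro t ht x y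
    simp only [Prod.fst_inv, Prod.snd_inv]
    have h := ht (gact (QPlus F 4) t.2.1⁻¹ x) (gact (QPlus F 4) t.2.2⁻¹ y)
    rw [gact_gact_inv, gact_gact_inv] at h
    rw [← h, gact_inv_gact]

theorem mem_RT (t : G8 F × G8 F × G8 F) : t ∈ RT ↔ ∀ x y, gact (QPlus F 4) t.1 (omul x y) =
    omul (gact (QPlus F 4) t.2.1 x) (gact (QPlus F 4) t.2.2 y) := Iff.rfl

/-- uniqueness of the companions up to a scalar -/
theorem RT_unique_one (u : G8 F × G8 F × G8 F) (hu : u ∈ RT) (h1 : u.1 = 1) :
    ∃ c : F, c * c = 1 ∧ (∀ x, gact (QPlus F 4) u.2.1 x = c • x) ∧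
      (∀ y, gact (QPlus F 4) u.2.2 y = c • y) := by
  have hu' : ∀ x y, omul x y = omul (gact (QPlus F 4) u.2.1 x) (gact (QPlus F 4) u.2.2 y) := by
    intro x y
    have := hu x y
    rwa [h1, gact_one] at this
  obtain ⟨a, ha⟩ : ∃ a, a = gact (QPlus F 4) u.2.1 one8 := ⟨_, rfl⟩
  obtain ⟨b, hb⟩ : ∃ b, b = gact (QPlus F 4) u.2.2 one8 := ⟨_, rfl⟩
  have hna : nm a = 1 := by rw [ha, nm_gact, nm_one8]
  have hnb : nm b = 1 := by rw [hb, nm_gact, nm_one8]
  have e1 : ∀ x, x = omul (gact (QPlus F 4) u.2.1 x) b := by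
    intro x
    have := hu' x one8
    rwa [omul_one8, ← hb] at this
  have e2 : ∀ y, y = omul a (gact (QPlus F 4) u.2.2 y) := by
    intro y
    have := hu' one8 y
    rwa [one8_omul, ← ha] at this
  have hp : ∀ x, gact (QPlus F 4) u.2.1 x = omul x (cj b) := by
    intro x
    conv_rhs => rw [e1 x]
    rw [omul_omul_cj, hnb, one_smul]
  have hq : ∀ y, gact (QPlus F 4) u.2.2 y = omul (cj a) y := by
    intro y
    conv_rhs => rw [e2 y]
    rw [cj_omul_omul, hna, one_smul]
  have hab : one8 = omul a b := by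
    have := hu' one8 one8
    rwa [omul_one8, ← ha, ← hb] at this
  have hb' : b = cj a := by
    have : omul (cj a) (omul a b) = nm a • b := cj_omul_omul a b
    rw [← hab, omul_one8, hna, one_smul] at this
    exact this.symm
  have hcb : cj b = a := by rw [hb', cj_cj]
  have hnuc : ∀ x y, omul x (omul a y) = omul (omul x a) y := by
    intro x y
    have := hu' x (omul a y)
    rw [hp, hq, hcb, cj_omul_omul, hna, one_smul] at this
    exact this
  have hsc := nucleus a hnuc
  obtain ⟨c, hc⟩ : ∃ c, c = a (Sum.inl 0) := ⟨_, rfl⟩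
  rw [← hc] at hsc
  have hcc : c * c = 1 := by
    have := hna
    rw [hsc] at this
    simp only [nm, Pi.smul_apply, one8_l0, one8_l1, one8_l2, one8_l3, one8_r0, one8_r1, one8_r2,
      one8_r3, smul_eq_mul, mul_one, mul_zero, add_zero] at this
    exact this
  refine ⟨c, hcc, ?_, ?_⟩
  · intro x
    rw [hp, hcb, hsc, omul_smul_right, omul_one8]
  · intro y
    rw [hq, hsc, cj_smul, cj_one8, omul_smul_left, one8_omul]

theorem RT_unique (t t' : G8 F × G8 F × G8 F) (ht : t ∈ RT) (ht' : t' ∈ RT) (h : t.1 = t'.1) :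
    ∃ c : F, c * c = 1 ∧ (∀ x, gact (QPlus F 4) t'.2.1 x = c • gact (QPlus F 4) t.2.1 x) ∧
      (∀ y, gact (QPlus F 4) t'.2.2 y = c • gact (QPlus F 4) t.2.2 y) := by
  have hu : t⁻¹ * t' ∈ RT := RT.mul_mem (RT.inv_mem ht) ht'
  have h1 : (t⁻¹ * t').1 = 1 := by
    rw [Prod.fst_mul, Prod.fst_inv, h, inv_mul_cancel]
  obtain ⟨c, hcc, hc1, hc2⟩ := RT_unique_one _ hu h1
  refine ⟨c, hcc, ?_, ?_⟩
  · intro x
    have := hc1 x
    simp only [Prod.snd_mul, Prod.fst_mul, Prod.snd_inv, Prod.fst_inv, gact_mul] at this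
    have h2 := congrArg (gact (QPlus F 4) t.2.1) this
    rwa [gact_gact_inv, gact_smul] at h2
  · intro y
    have := hc2 y
    simp only [Prod.snd_mul, Prod.snd_inv, gact_mul] at this
    have h2 := congrArg (gact (QPlus F 4) t.2.2) this
    rwa [gact_gact_inv, gact_smul] at h2

/-- the triple of a Siegel transformation -/
theorem sieg_mem_RT (u w : I8 → F) (hu : QPlus F 4 u = 0) (huw : polar (⇑(QPlus F 4)) u w = 0) :
    (siegIso (QPlus F 4) u w hu huw,
      S1 u w (by rw [← QPlus_eq_nm]; exact hu) (by rw [← polar_eq_bl]; exact huw),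
      S2 u w (by rw [← QPlus_eq_nm]; exact hu) (by rw [← polar_eq_bl]; exact huw)) ∈ RT := by
  have hu' : nm u = 0 := by rw [← QPlus_eq_nm]; exact hu
  have huw' : bl u w = 0 := by rw [← polar_eq_bl]; exact huw
  intro x y
  rw [gact_siegIso, gact_S1, gact_S2, polar_eq_bl, polar_eq_bl, QPlus_eq_nm, sieg_triple, hu',
    huw', zero_smul, zero_smul, add_zero, add_zero]

/-- rotation of related triples -/
theorem RT_rot (t : G8 F × G8 F × G8 F) (ht : t ∈ RT) :
    ((t.2.1, t.1, cjI * t.2.2 * cjI) : G8 F × G8 F × G8 F) ∈ RT := by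
  intro z w
  simp only
  rw [gact_mul, gact_mul, gact_cjI, gact_cjI]
  revert w
  apply nonsing_induction
  · intro w hw
    have h := ht (omul z w) (cj w)
    rw [omul_omul_cj, gact_smul] at h
    have h2 : omul (nm w • gact (QPlus F 4) t.1 z) (cj (gact (QPlus F 4) t.2.2 (cj w))) =
        omul (omul (gact (QPlus F 4) t.2.1 (omul z w)) (gact (QPlus F 4) t.2.2 (cj w)))
          (cj (gact (QPlus F 4) t.2.2 (cj w))) := by rw [h]
    rw [omul_omul_cj, nm_gact, nm_cj, omul_smul_left] at h2
    exact (smul_right_injective _ hw h2).symm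
  · intro w w' h h'
    rw [omul_sub_right, gact_sub, h, h', cj_sub, gact_sub, cj_sub, omul_sub_right]
  · intro w w' h h'
    rw [omul_add_right, gact_add, h, h', cj_add, gact_add, cj_add, omul_add_right]
  · rw [omul_zero_right, gact_zero, cj_zero, gact_zero, cj_zero, omul_zero_right]

end Cfsg.Agent.Lib.Helper6.Tri
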