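import Mathlib
import Cfsg.Agent.Lib.Helper6.TriB
import Cfsg.Agent.Lib.Helper6.AutOrt16

/-!
# Triality for `PΩ⁺₈`, part C: the triality automorphism of `PΩ⁺₈(F)`
-/

set_option autoImplicit false
set_option linter.unusedSectionVars false
set_option linter.unusedVariables false

open Cfsg Matrix QuadraticMap

namespace Cfsg.Agent.Lib.Helper6.Tri

open Cfsg.Agent.Lib.Helper6 Cfsg.Agent.Lib.Helper15 Cfsg.Agent.Lib.Helper6.AutOrt

variable {F : Type*} [Field F] [Fintype F]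

theorem card_I8 : Fintype.card I8 = 8 := by
  rw [Fintype.card_sum, Fintype.card_fin]

instance std8 : Std (QPlus F 4) :=
  { nondeg := nondegenerate_QPlus F 4
    seven := by rw [card_I8]; omega
    triple := ⟨plusTriple' F 4 (by omega)⟩ }

/-- the orthogonal group `Ω⁺₈` as a type -/
abbrev Om8 (F : Type*) [Field F] := ↥(Cfsg.Omega F ⇑(QPlus F 4))

/-- `Ω` is contained in the first projection of the related triples -/
theorem Omega_le_map_RT :
    Cfsg.Omega F ⇑(QPlus F 4) ≤ (RT (F := F)).map (MonoidHom.fst (G8 F) (G8 F × G8 F)) := by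
  rw [← Sg_eq_Omega (QPlus F 4) (nondegenerate_QPlus F 4) (by rw [card_I8]; omega)]
  unfold Sg
  rw [Subgroup.closure_le]
  rintro g ⟨u, w, hu, huw, rfl⟩
  exact ⟨_, sieg_mem_RT u w hu huw, rfl⟩

/-- the commutator subgroup of the related triples -/
noncomputable def RTc : Subgroup (G8 F × G8 F × G8 F) := ⁅(RT (F := F)), (RT (F := F))⁆

theorem RTc_le : (RTc (F := F)) ≤ RT := by
  unfold RTc
  rw [Subgroup.commutator_le]
  intro g hg h hh
  exact RT.mul_mem (RT.mul_mem (RT.mul_mem hg hh) (RT.inv_mem hg)) (RT.inv_mem hh)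

theorem RTc_le_top : (RTc (F := F)) ≤ ⁅(⊤ : Subgroup (G8 F × G8 F × G8 F)), ⊤⁆ :=
  Subgroup.commutator_mono le_top le_top

theorem Omega_eq_comm : Cfsg.Omega F ⇑(QPlus F 4) = ⁅(⊤ : Subgroup (G8 F)), ⊤⁆ := rfl

theorem map_comm_le {G H : Type*} [Group G] [Group H] (f : G →* H) :
    Subgroup.map f ⁅(⊤ : Subgroup G), (⊤ : Subgroup G)⁆ ≤ ⁅(⊤ : Subgroup H), (⊤ : Subgroup H)⁆ := by
  rw [Subgroup.map_commutator]
  exact Subgroup.commutator_mono le_top le_top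

theorem RTc_fst (t : G8 F × G8 F × G8 F) (ht : t ∈ RTc) : t.1 ∈ Cfsg.Omega F ⇑(QPlus F 4) :=
  map_comm_le (MonoidHom.fst (G8 F) (G8 F × G8 F)) ⟨t, RTc_le_top ht, rfl⟩

theorem RTc_snd (t : G8 F × G8 F × G8 F) (ht : t ∈ RTc) : t.2.1 ∈ Cfsg.Omega F ⇑(QPlus F 4) :=
  map_comm_le ((MonoidHom.fst (G8 F) (G8 F)).comp (MonoidHom.snd (G8 F) (G8 F × G8 F)))
    ⟨t, RTc_le_top ht, rfl⟩

theorem RTc_trd (t : G8 F × G8 F × G8 F) (ht : t ∈ RTc) : t.2.2 ∈ Cfsg.Omega F ⇑(QPlus F 4) :=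
  map_comm_le ((MonoidHom.snd (G8 F) (G8 F)).comp (MonoidHom.snd (G8 F) (G8 F × G8 F)))
    ⟨t, RTc_le_top ht, rfl⟩

theorem Omega_comm_self :
    ⁅Cfsg.Omega F ⇑(QPlus F 4), Cfsg.Omega F ⇑(QPlus F 4)⁆ = Cfsg.Omega F ⇑(QPlus F 4) := by
  have h := Omega_perfect (QPlus F 4) (nondegenerate_QPlus F 4) (by rw [card_I8]; omega)
  rw [← Subgroup.map_subtype_commutator, h, ← MonoidHom.range_eq_map, Subgroup.range_subtype]

theorem exists_RTc (g : G8 F) (hg : g ∈ Cfsg.Omega F ⇑(QPlus F 4)) :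
    ∃ t ∈ RTc (F := F), t.1 = g := by
  have h1 : Cfsg.Omega F ⇑(QPlus F 4) ≤
      (RTc (F := F)).map (MonoidHom.fst (G8 F) (G8 F × G8 F)) := by
    unfold RTc
    rw [Subgroup.map_commutator]
    conv_lhs => rw [← Omega_comm_self]
    exact Subgroup.commutator_mono Omega_le_map_RT Omega_le_map_RT
  obtain ⟨t, ht, rfl⟩ := h1 hg
  exact ⟨t, ht, rfl⟩

/-- elements of `Ω` differing by a scalar have the same image in `PΩ` -/
theorem pu_eq_of_smul (a b : Om8 F) (c : F) (h : ∀ x, av a x = c • av b x) : pu a = pu b := by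
  rw [pu_eq_iff, Subgroup.mem_center_iff]
  intro g
  apply ext_av
  intro x
  have hc : c ≠ 0 := by
    intro hc
    have := h (one8)
    rw [hc, zero_smul] at this
    have h3 := (av_eq_zero_iff a one8).mp this
    have := congrFun h3 (Sum.inl 0)
    rw [one8_l0] at this
    exact one_ne_zero this
  have h2 : ∀ y, av (a⁻¹ * b) y = c⁻¹ • y := by
    intro y
    have e1 : av b y = c⁻¹ • av a y := by
      rw [h y, smul_smul, inv_mul_cancel₀ hc, one_smul]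
    rw [av_mul, e1, av_smul, av_inv_av]
  rw [av_mul g, h2, av_smul, av_mul (a⁻¹ * b) g, h2]

/-- the choice of a related triple -/
noncomputable def tauFun (g : Om8 F) : Cfsg.POmega F ⇑(QPlus F 4) :=
  pu ⟨(Classical.choose (exists_RTc g.1 g.2)).2.1,
    RTc_snd _ (Classical.choose_spec (exists_RTc g.1 g.2)).1⟩

theorem tauFun_spec (t : G8 F × G8 F × G8 F) (ht : t ∈ RT)
    (h0 : t.1 ∈ Cfsg.Omega F ⇑(QPlus F 4)) (h1 : t.2.1 ∈ Cfsg.Omega F ⇑(QPlus F 4)) :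
    tauFun ⟨t.1, h0⟩ = pu ⟨t.2.1, h1⟩ := by
  unfold tauFun
  obtain ⟨hs1, hs2⟩ := Classical.choose_spec (exists_RTc t.1 h0)
  obtain ⟨c, -, hc, -⟩ := RT_unique t _ ht (RTc_le hs1) hs2.symm
  exact pu_eq_of_smul _ _ c hc

/-- the triality map on `Ω` -/
noncomputable def tauHom : Om8 F →* Cfsg.POmega F ⇑(QPlus F 4) where
  toFun := tauFun
  map_one' := by
    have := tauFun_spec (1 : G8 F × G8 F × G8 F) RT.one_mem (Subgroup.one_mem _) (Subgroup.one_mem _)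
    exact this
  map_mul' := by
    intro g h
    obtain ⟨t, ht, htg⟩ := exists_RTc g.1 g.2
    obtain ⟨s, hs, hsh⟩ := exists_RTc h.1 h.2
    have e1 := tauFun_spec t (RTc_le ht) (RTc_fst t ht) (RTc_snd t ht)
    have e2 := tauFun_spec s (RTc_le hs) (RTc_fst s hs) (RTc_snd s hs)
    have e3 := tauFun_spec (t * s) (RT.mul_mem (RTc_le ht) (RTc_le hs))
      (Subgroup.mul_mem _ (RTc_fst t ht) (RTc_fst s hs))
      (Subgroup.mul_mem _ (RTc_snd t ht) (RTc_snd s hs))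
    have hg : g = ⟨t.1, RTc_fst t ht⟩ := Subtype.ext htg.symm
    have hh : h = ⟨s.1, RTc_fst s hs⟩ := Subtype.ext hsh.symm
    rw [hg, hh, e1, e2, ← map_mul]
    exact e3

theorem tauHom_spec (t : G8 F × G8 F × G8 F) (ht : t ∈ RT)
    (h0 : t.1 ∈ Cfsg.Omega F ⇑(QPlus F 4)) (h1 : t.2.1 ∈ Cfsg.Omega F ⇑(QPlus F 4)) :
    tauHom ⟨t.1, h0⟩ = pu ⟨t.2.1, h1⟩ := tauFun_spec t ht h0 h1

theorem center_le_ker_tauHom :
    Subgroup.center (Om8 F) ≤ (tauHom (F := F)).ker := by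
  intro z hz
  rw [MonoidHom.mem_ker]
  have ht : ((z.1, (1 : G8 F), z.1) : G8 F × G8 F × G8 F) ∈ RT := by
    intro x y
    simp only
    rw [gact_one]
    rcases av_center z hz with h | h
    · have hx : ∀ v, gact (QPlus F 4) z.1 v = v := h
      rw [hx, hx]
    · have hx : ∀ v, gact (QPlus F 4) z.1 v = -v := h
      rw [hx, hx, omul_neg_right]
  have := tauHom_spec _ ht z.2 (Subgroup.one_mem _)
  simp only at this
  rw [show (⟨z.1, z.2⟩ : Om8 F) = z from rfl] at this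
  rw [this]
  exact map_one pu

/-- the triality endomorphism of `PΩ⁺₈(F)` -/
noncomputable def tau : Cfsg.POmega F ⇑(QPlus F 4) →* Cfsg.POmega F ⇑(QPlus F 4) :=
  QuotientGroup.lift (Subgroup.center (Om8 F)) tauHom center_le_ker_tauHom

theorem tau_pu (g : Om8 F) : tau (pu g) = tauHom g := rfl

theorem tau_spec (t : G8 F × G8 F × G8 F) (ht : t ∈ RT)
    (h0 : t.1 ∈ Cfsg.Omega F ⇑(QPlus F 4)) (h1 : t.2.1 ∈ Cfsg.Omega F ⇑(QPlus F 4)) :
    tau (pu ⟨t.1, h0⟩) = pu ⟨t.2.1, h1⟩ := by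
  rw [tau_pu, tauHom_spec t ht h0 h1]

theorem tau_tau (x : Cfsg.POmega F ⇑(QPlus F 4)) : tau (tau x) = x := by
  obtain ⟨g, rfl⟩ := pu_surjective x
  obtain ⟨t, ht, htg⟩ := exists_RTc g.1 g.2
  have hg : g = ⟨t.1, RTc_fst t ht⟩ := Subtype.ext htg.symm
  rw [hg, tau_spec t (RTc_le ht) (RTc_fst t ht) (RTc_snd t ht)]
  exact tau_spec _ (RT_rot t (RTc_le ht)) (RTc_snd t ht) (RTc_fst t ht)

/-- the triality automorphism of `PΩ⁺₈(F)` (an involution) -/
noncomputable def tauAut : MulAut (Cfsg.POmega F ⇑(QPlus F 4)) :=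
  { toFun := tau
    invFun := tau
    left_inv := tau_tau
    right_inv := tau_tau
    map_mul' := map_mul tau }

theorem tauAut_apply (x : Cfsg.POmega F ⇑(QPlus F 4)) : tauAut x = tau x := rfl

theorem tauAut_mul_self : (tauAut : MulAut (Cfsg.POmega F ⇑(QPlus F 4))) * tauAut = 1 := by
  ext x
  exact tau_tau x

end Cfsg.Agent.Lib.Helper6.Tri
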