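import Mathlib
import Cfsg.Agent.Lib.Helper6.TriC

/-!
# Triality for `PΩ⁺₈`, part D: triality is not induced by a semilinear map
-/

set_option autoImplicit false
set_option linter.unusedSectionVars false
set_option linter.unusedVariables false

open Cfsg Matrix QuadraticMap

namespace Cfsg.Agent.Lib.Helper6.Tri

open Cfsg.Agent.Lib.Helper6 Cfsg.Agent.Lib.Helper15 Cfsg.Agent.Lib.Helper6.AutOrt
  Cfsg.Agent.Lib.Helper6.AutPSL

variable {F : Type*} [Field F] [Fintype F]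

/-- the first basis vector -/
def e0 : I8 → F := Pi.single (Sum.inl 0) 1

/-- the second basis vector -/
def x2 : I8 → F := Pi.single (Sum.inl 1) 1

theorem nm_e0 : nm (e0 : I8 → F) = 0 := by
  simp [nm, e0]

theorem Q_e0 : QPlus F 4 (e0 : I8 → F) = 0 := by rw [QPlus_eq_nm, nm_e0]

theorem e0_ne : (e0 : I8 → F) ≠ 0 := by
  intro h
  have := congrFun h (Sum.inl 0)
  simp [e0] at this

theorem cj_e0_e0 : omul (cj (e0 : I8 → F)) e0 = 0 := by
  funext i; revert i
  apply I8_cases <;> simp [omul_l0, omul_l1, omul_l2, omul_l3, omul_r0, omul_r1, omul_r2, omul_r3,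
    cj_l0, cj_l1, cj_l2, cj_l3, cj_r0, cj_r1, cj_r2, cj_r3, e0]

theorem cj_e0_x2 : omul (cj (e0 : I8 → F)) x2 = 0 := by
  funext i; revert i
  apply I8_cases <;> simp [omul_l0, omul_l1, omul_l2, omul_l3, omul_r0, omul_r1, omul_r2, omul_r3,
    cj_l0, cj_l1, cj_l2, cj_l3, cj_r0, cj_r1, cj_r2, cj_r3, e0, x2]

theorem av_pow_smul (g : Om8 F) (x : I8 → F) (d : F) (h : av g x = d • x) (k : ℕ) :
    av (g ^ k) x = d ^ k • x := by
  induction k with
  | zero => rw [pow_zero, pow_zero, av_one, one_smul]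
  | succ k ih => rw [pow_succ, av_mul, h, av_smul, ih, smul_smul, pow_succ, mul_comm]

section
variable (p : ℕ) [hp : Fact p.Prime] [hcp : CharP F p]
include hp hcp

/-- unipotent elements in the image of `Q_{e₀}` under triality fix the kernel of `x ↦ ē₀ x` -/
theorem tau_fix (w : I8 → F) (hw : polar (⇑(QPlus F 4)) e0 w = 0) (g : Om8 F)
    (hg : pu g = tauAut (pu (sg (QPlus F 4) e0 w))) (hgp : g ^ (p ^ 1) = 1)
    (x : I8 → F) (hx : omul (cj e0) x = 0) : av g x = x := by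
  by_cases hx0 : x = 0
  · rw [hx0, av_zero]
  obtain ⟨t, ht, ht1⟩ := exists_RTc (sg (QPlus F 4) e0 w).1 (sg (QPlus F 4) e0 w).2
  have hval := sg_val (Q := QPlus F 4) Q_e0 hw
  obtain ⟨c, hcc, hc, -⟩ := RT_unique _ t (sieg_mem_RT e0 w Q_e0 hw) (RTc_le ht)
    (by rw [ht1, hval])
  have e1 : tauAut (pu (sg (QPlus F 4) e0 w)) = pu ⟨t.2.1, RTc_snd t ht⟩ := by
    rw [tauAut_apply]
    have := tau_spec t (RTc_le ht) (RTc_fst t ht) (RTc_snd t ht)
    rw [← this]
    congr 2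
    exact Subtype.ext ht1.symm
  rw [e1, pu_eq_iff] at hg
  have hS1 : gact (QPlus F 4) t.2.1 x = c • x := by
    rw [hc, gact_S1, hx, omul_zero_right, sub_zero]
  have hd : ∃ d : F, av g x = d • x := by
    rcases av_center _ hg with h | h
    · have := h x
      rw [av_mul] at this
      have h2 : av g (av g⁻¹ (av (⟨t.2.1, RTc_snd t ht⟩ : Om8 F) x)) = av g x := by rw [this]
      rw [av_av_inv] at h2
      refine ⟨c, ?_⟩
      rw [← h2]
      exact hS1
    · have := h x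
      rw [av_mul] at this
      have h2 : av g (av g⁻¹ (av (⟨t.2.1, RTc_snd t ht⟩ : Om8 F) x)) = av g (-x) := by rw [this]
      rw [av_av_inv, av_neg] at h2
      refine ⟨-c, ?_⟩
      have h3 : av (⟨t.2.1, RTc_snd t ht⟩ : Om8 F) x = c • x := hS1
      rw [h3] at h2
      rw [neg_smul, h2, neg_neg]
  obtain ⟨d, hd⟩ := hd
  have h1 := av_pow_smul g x d hd (p ^ 1)
  rw [hgp, av_one, pow_one] at h1
  have h2 : (d ^ p - 1) • x = 0 := by rw [sub_smul, one_smul, ← h1, sub_self]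
  rcases smul_eq_zero.mp h2 with h3 | h3
  · have h4 : (d - 1) ^ p = 0 := by rw [sub_pow_char, one_pow, h3]
    have h5 : d = 1 := by
      have := pow_eq_zero_iff (hp.out.ne_zero) |>.mp h4
      exact sub_eq_zero.mp this
    rw [hd, h5, one_smul]
  · exact absurd h3 hx0

/-- triality does not map `Q_{e₀}` to a group `Q_{e'}` -/
theorem tau_img_ne (e' : I8 → F) (he'0 : e' ≠ 0) (he' : QPlus F 4 e' = 0) :
    img tauAut (Qb (Q := QPlus F 4) e0) ≠ Qb e' := by
  intro heq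
  have key : ∀ g ∈ Qv (QPlus F 4) e', ∀ x : I8 → F, omul (cj e0) x = 0 → av g x = x := by
    intro g hg x hx
    have h1 : pu g ∈ Qb (Q := QPlus F 4) e' := Subgroup.mem_map_of_mem _ hg
    rw [← heq, mem_img] at h1
    obtain ⟨y, hy, hyg⟩ := h1
    obtain ⟨w, hw, rfl⟩ := (mem_Qb e0_ne Q_e0 y).mp hy
    exact tau_fix p w hw g hyg.symm (Qv_pow p he'0 he' g hg) x hx
  obtain ⟨c, hc⟩ := fixed_of_Qv he'0 he' (fun g hg => key g hg e0 cj_e0_e0)
  obtain ⟨c', hc'⟩ := fixed_of_Qv he'0 he' (fun g hg => key g hg x2 cj_e0_x2)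
  have hc0 : c ≠ 0 := by
    intro h0
    rw [h0, zero_smul] at hc
    exact e0_ne hc
  have h1 : (x2 : I8 → F) = (c' * c⁻¹) • e0 := by
    rw [hc', hc, smul_smul, mul_assoc, inv_mul_cancel₀ hc0, mul_one]
  have := congrFun h1 (Sum.inl 1)
  simp [x2, e0] at this

end

end Cfsg.Agent.Lib.Helper6.Tri
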