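import Mathlib
import Cfsg.Agent.Lib.Helper6.AutOrt17

/-!
# Triality for `PΩ⁺₈`, part E: an automorphism mapping one group `Q_u` to a group `Q_u'` is
induced by a semilinear map (generic form, no hypothesis on totally singular 4-spaces)
-/

set_option autoImplicit false
set_option linter.unusedSectionVars false
set_option linter.unusedVariables false

open Cfsg Matrix QuadraticMap

namespace Cfsg.Agent.Lib.Helper6.Tri

open Cfsg.Agent.Lib.Helper6 Cfsg.Agent.Lib.Helper15 Cfsg.Agent.Lib.Helper6.AutOrt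
  Cfsg.Agent.Lib.Helper6.AutPSL

theorem aut_mul_conj {G : Type*} [Group G] (β : MulAut G) (x : G) :
    β * MulAut.conj x = MulAut.conj (β x) * β := by
  ext y
  simp [MulAut.conj_apply]

variable {F : Type*} [Field F] [Fintype F] {ι : Type} [Fintype ι] [DecidableEq ι]
variable {Q : QuadraticForm F (ι → F)} [hS : Std Q]
variable (p : ℕ) [hp : Fact p.Prime] [hcp : CharP F p]
include hp hcp

/-- after composing with an inner automorphism, the groups `Q_e` and `Q_f` are normalised -/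
theorem exists_normalise' (P : HPr Q) (β : MulAut (Cfsg.POmega F ⇑Q))
    (he : ∃ e' : ι → F, e' ≠ 0 ∧ Q e' = 0 ∧ img β (Qb (Q := Q) P.e) = Qb e')
    (hf : ∃ f' : ι → F, f' ≠ 0 ∧ Q f' = 0 ∧ img β (Qb (Q := Q) P.f) = Qb f') :
    ∃ g : ↥(Cfsg.Omega F ⇑Q), img (MulAut.conj (pu g) * β) (Qb (Q := Q) P.e) = Qb P.e ∧
      img (MulAut.conj (pu g) * β) (Qb (Q := Q) P.f) = Qb P.f := by
  obtain ⟨e', he'0, he', hβe⟩ := he
  obtain ⟨f', hf'0, hf', hβf⟩ := hf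
  have hne : polar (⇑Q) e' f' ≠ 0 := by
    intro h0
    have h1 := Qb_inf_ne_bot p he'0 hf'0 he' hf' h0
    rw [← hβe, ← hβf, ← img_inf, Qb_inf_hyp p P, img_bot] at h1
    exact h1 rfl
  obtain ⟨g₁, hg₁, hg₁e⟩ := exists_Sg_move Q hS.nondeg (five_le Q) e' P.e he'0 P.e_ne he' P.he
  rw [Sg_eq_Omega Q hS.nondeg (five_le Q)] at hg₁
  obtain ⟨k₁, hk₁⟩ : ∃ k₁ : ↥(Cfsg.Omega F ⇑Q), k₁ = ⟨g₁, hg₁⟩ := ⟨_, rfl⟩
  have hk₁e : av k₁ e' = P.e := by rw [hk₁]; exact hg₁e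
  obtain ⟨c, hc⟩ : ∃ c, c = polar (⇑Q) P.e (av k₁ f') := ⟨_, rfl⟩
  have hc0 : c ≠ 0 := by rw [hc, ← hk₁e, B_av]; exact hne
  obtain ⟨f₂, hf₂⟩ : ∃ f₂, f₂ = c⁻¹ • av k₁ f' := ⟨_, rfl⟩
  have hQf₂ : Q f₂ = 0 := by rw [hf₂, Q_smul, Q_av, hf', mul_zero]
  have hef₂ : polar (⇑Q) P.e f₂ = 1 := by
    rw [hf₂, polar_smul_right, ← hc, smul_eq_mul, inv_mul_cancel₀ hc0]
  obtain ⟨w, huw, hwe, hwf⟩ := exists_sieg_move_partner Q P.e f₂ P.f P.he hQf₂ P.hf hef₂ P.hef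
  obtain ⟨k₂, hk₂⟩ : ∃ k₂ : ↥(Cfsg.Omega F ⇑Q), k₂ = sg Q P.e w := ⟨_, rfl⟩
  have hk₂e : av k₂ P.e = P.e := by
    rw [hk₂]; unfold av; rw [sg_val P.he huw]; exact hwe
  have hk₂f : av k₂ f₂ = P.f := by
    rw [hk₂]; unfold av; rw [sg_val P.he huw]; exact hwf
  refine ⟨k₂ * k₁, ?_, ?_⟩
  · rw [img_mul', hβe, img_conj_Qb _ he'0 he', av_mul, hk₁e, hk₂e]
  · rw [img_mul', hβf, img_conj_Qb _ hf'0 hf', av_mul]
    have h1 : av k₁ f' = c • f₂ := by rw [hf₂, smul_smul, mul_inv_cancel₀ hc0, one_smul]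
    rw [h1, av_smul, hk₂f]
    unfold Qb
    rw [Qv_smul c hc0]

/-- an automorphism mapping `Q_e` and `Q_f` to groups of the same kind is in `PΓO` -/
theorem mem_gamma_of_two (P : HPr Q) (β₀ : MulAut (Cfsg.POmega F ⇑Q))
    (he : ∃ e' : ι → F, e' ≠ 0 ∧ Q e' = 0 ∧ img β₀ (Qb (Q := Q) P.e) = Qb e')
    (hf : ∃ f' : ι → F, f' ≠ 0 ∧ Q f' = 0 ∧ img β₀ (Qb (Q := Q) P.f) = Qb f') :
    β₀ ∈ Cfsg.gammaPOmega F ⇑Q := by
  obtain ⟨g, hge, hgf⟩ := exists_normalise' p P β₀ he hf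
  obtain ⟨β, hβ⟩ : ∃ β, β = MulAut.conj (pu g) * β₀ := ⟨_, rfl⟩
  rw [← hβ] at hge hgf
  obtain ⟨σ, ν, hν, h1, h2, h3⟩ := exists_semisim_TT p P β hge
  obtain ⟨Φ, hΦ⟩ : ∃ Φ, Φ = mkSemi P (TT P β) σ ν hν
      (fun w hw => (TT_spec p P β hge w hw.1).1)
      (fun w w' hw hw' => TT_add p P β hge w w' hw.1 hw'.1)
      (fun c w hw => h1 c w hw) (fun w hw => h3 w hw) := ⟨_, rfl⟩
  have hΦm : Φ.gam ∈ Cfsg.gammaPOmega F ⇑Q := Φ.gam_mem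
  have hfix : ∀ x ∈ Qb (Q := Q) P.e, (Φ.gam⁻¹ * β) x = x := by
    intro x hx
    obtain ⟨w'', hw'', rfl⟩ := (mem_Qb P.e_ne P.he x).mp hx
    have hwW := P.proj_W hw''
    have e1 : sg Q P.e w'' = sg Q P.e (w'' - polar (⇑Q) P.f w'' • P.e) := by
      rw [sub_eq_add_neg, ← neg_smul, sg_add_smul _ P.he hw'']
    rw [e1]
    change Φ.gam⁻¹ (β (pu _)) = _
    rw [(TT_spec p P β hge _ hwW.1).2]
    have e2 := gam_sg_e P (TT P β) σ ν hν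
      (fun w hw => (TT_spec p P β hge w hw.1).1)
      (fun w w' hw hw' => TT_add p P β hge w w' hw.1 hw'.1)
      (fun c w hw => h1 c w hw) (fun w hw => h3 w hw) _ hwW
    rw [← hΦ] at e2
    rw [← e2]
    exact MulEquiv.symm_apply_apply Φ.gam _
  have h4 : img Φ.gam (Qb (Q := Q) P.f) = Qb P.f := by
    apply img_eq_of_le''
    intro x hx
    obtain ⟨y, hy, rfl⟩ := (mem_img _ _ _).mp hx
    obtain ⟨w'', hw'', rfl⟩ := (mem_Qb P.f_ne P.hf y).mp hy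
    have hwW : P.swap.W (w'' - polar (⇑Q) P.e w'' • P.f) := P.swap.proj_W hw''
    have e1 : sg Q P.f w'' = sg Q P.f (w'' - polar (⇑Q) P.e w'' • P.f) := by
      rw [sub_eq_add_neg, ← neg_smul, sg_add_smul _ P.hf hw'']
    rw [e1]
    have e2 := gam_sg_f P (TT P β) σ ν hν
      (fun w hw => (TT_spec p P β hge w hw.1).1)
      (fun w w' hw hw' => TT_add p P β hge w w' hw.1 hw'.1)
      (fun c w hw => h1 c w hw) (fun w hw => h3 w hw) _ ((P.W_swap _).mp hwW)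
    rw [← hΦ] at e2
    rw [e2]
    refine Subgroup.mem_map_of_mem _ (sg_mem_Qv P.hf ?_)
    rw [polar_smul_right, (TT_spec p P β hge _ ((P.W_swap _).mp hwW).1).1.2, smul_zero]
  have hf' : img (Φ.gam⁻¹ * β) (Qb (Q := Q) P.f) = Qb P.f := by
    rw [img_mul', hgf]
    conv_lhs => rw [← h4]
    exact img_inv_img _ _
  have hr := rigid p P (Φ.gam⁻¹ * β) hfix hf'
  have hβΦ : β = Φ.gam := by
    have : Φ.gam * (Φ.gam⁻¹ * β) = Φ.gam * 1 := by rw [hr]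
    rwa [mul_inv_cancel_left, mul_one] at this
  have hβ₀ : β₀ = (MulAut.conj (pu g))⁻¹ * β := by rw [hβ, inv_mul_cancel_left]
  rw [hβ₀, hβΦ]
  exact Subgroup.mul_mem _ (Subgroup.inv_mem _ (conj_mem_gamma g)) hΦm

/-- an automorphism mapping one group `Q_u` to a group `Q_u'` is in `PΓO` -/
theorem mem_gamma_of_one (β : MulAut (Cfsg.POmega F ⇑Q)) (u u' : ι → F) (hu0 : u ≠ 0)
    (hu : Q u = 0) (hu'0 : u' ≠ 0) (hu' : Q u' = 0) (h : img β (Qb (Q := Q) u) = Qb u') :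
    β ∈ Cfsg.gammaPOmega F ⇑Q := by
  obtain ⟨f, hf, huf⟩ := Cfsg.Agent.Lib.Helper6.AutOrt.exists_partner u hu0 hu
  obtain ⟨P, hP⟩ : ∃ P : HPr Q, P = ⟨u, f, hu, hf, huf⟩ := ⟨_, rfl⟩
  have hPe : P.e = u := by rw [hP]
  have hPf : P.f = f := by rw [hP]
  apply mem_gamma_of_two p P β
  · rw [hPe]; exact ⟨u', hu'0, hu', h⟩
  · rw [hPf]
    have hf0 : f ≠ 0 := by rw [← hPf]; exact P.f_ne
    obtain ⟨g₁, hg₁, hg₁e⟩ := exists_Sg_move Q hS.nondeg (five_le Q) u f hu0 hf0 hu hf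
    rw [Sg_eq_Omega Q hS.nondeg (five_le Q)] at hg₁
    obtain ⟨k, hk⟩ : ∃ k : ↥(Cfsg.Omega F ⇑Q), k = ⟨g₁, hg₁⟩ := ⟨_, rfl⟩
    have hku : av k u = f := by rw [hk]; exact hg₁e
    obtain ⟨k', hk'⟩ := pu_surjective (β (pu k))
    refine ⟨av k' u', av_ne_zero k' hu'0, by rw [Q_av, hu'], ?_⟩
    rw [← hku, ← img_conj_Qb k hu0 hu, ← img_mul', aut_mul_conj, img_mul', h, ← hk',
      img_conj_Qb k' hu'0 hu']

end Cfsg.Agent.Lib.Helper6.Tri
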