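import Mathlib
import Cfsg.Agent.Lib.Helper6.TriE

/-!
# Triality for `PΩ⁺₈`, part F: the dichotomy for images of the groups `Q_u`; the group `PΓO`
(generic form)
-/

set_option autoImplicit false
set_option linter.unusedSectionVars false
set_option linter.unusedVariables false

open Cfsg Matrix QuadraticMap

namespace Cfsg.Agent.Lib.Helper6.Tri

open Cfsg.Agent.Lib.Helper6 Cfsg.Agent.Lib.Helper15 Cfsg.Agent.Lib.Helper6.AutOrt
  Cfsg.Agent.Lib.Helper6.AutPSL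

variable {F : Type*} [Field F] [Fintype F] {ι : Type} [Fintype ι] [DecidableEq ι]
variable {Q : QuadraticForm F (ι → F)} [hS : Std Q]

/-- elements of `PΓO` are attached to semilinear similarities -/
theorem exists_semi_of_mem (β : MulAut (Cfsg.POmega F ⇑Q)) (hβ : β ∈ Cfsg.gammaPOmega F ⇑Q) :
    ∃ Φ : SemiSimO Q, Φ.gam = β := by
  unfold Cfsg.gammaPOmega Cfsg.autSubgroupOf at hβ
  induction hβ using Subgroup.closure_induction with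
  | mem x hx =>
    obtain ⟨g, σ, h1, h2⟩ := hx
    exact ⟨SemiSimO.ofPair g σ h1, (SemiSimO.eq_gam_of_induced g σ h1 x h2).symm⟩
  | one => exact ⟨SemiSimO.one Q, SemiSimO.gam_one⟩
  | mul x y hx hy ihx ihy =>
    obtain ⟨Φ, rfl⟩ := ihx
    obtain ⟨Ψ, rfl⟩ := ihy
    exact ⟨Φ.comp Ψ, SemiSimO.gam_comp Φ Ψ⟩
  | inv x hx ih =>
    obtain ⟨Φ, rfl⟩ := ih
    exact ⟨Φ.symm, SemiSimO.gam_symm Φ⟩

theorem S_ne_zero (Φ : SemiSimO Q) {u : ι → F} (hu0 : u ≠ 0) : Φ.S u ≠ 0 := by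
  intro h
  apply hu0
  apply Φ.S_injective
  rw [h, Φ.S_zero]

theorem Q_S_sing (Φ : SemiSimO Q) {u : ι → F} (hu : Q u = 0) : Q (Φ.S u) = 0 := by
  rw [Φ.form, hu, map_zero, mul_zero]

theorem img_gam_Qb_le (Φ : SemiSimO Q) (u : ι → F) (hu0 : u ≠ 0) (hu : Q u = 0) :
    img Φ.gam (Qb (Q := Q) u) ≤ Qb (Φ.S u) := by
  intro x hx
  obtain ⟨y, hy, rfl⟩ := (mem_img _ _ _).mp hx
  obtain ⟨w, hw, rfl⟩ := (mem_Qb hu0 hu y).mp hy
  rw [Φ.gam_sg hu hw]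
  refine Subgroup.mem_map_of_mem _ (sg_mem_Qv (Q_S_sing Φ hu) ?_)
  rw [polar_smul_right, Φ.polar_S, hw, map_zero, mul_zero, smul_zero]

theorem img_gam_Qb (Φ : SemiSimO Q) (u : ι → F) (hu0 : u ≠ 0) (hu : Q u = 0) :
    img Φ.gam (Qb (Q := Q) u) = Qb (Φ.S u) := by
  apply le_antisymm (img_gam_Qb_le Φ u hu0 hu)
  have h1 := img_gam_Qb_le Φ.symm (Φ.S u) (S_ne_zero Φ hu0) (Q_S_sing Φ hu)
  rw [SemiSimO.symm_S, SemiSimO.Sinv_S, SemiSimO.gam_symm] at h1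
  intro x hx
  have h2 : Φ.gam⁻¹ x ∈ Qb (Q := Q) u := h1 ((mem_img _ _ _).mpr ⟨x, hx, rfl⟩)
  rw [mem_img]
  exact ⟨Φ.gam⁻¹ x, h2, by
    change Φ.gam (Φ.gam⁻¹ x) = x
    exact MulEquiv.apply_symm_apply Φ.gam x⟩

/-- elements of `PΓO` permute the groups `Q_u` -/
theorem img_Qb_of_mem (β : MulAut (Cfsg.POmega F ⇑Q)) (hβ : β ∈ Cfsg.gammaPOmega F ⇑Q)
    (u : ι → F) (hu0 : u ≠ 0) (hu : Q u = 0) :
    ∃ u' : ι → F, u' ≠ 0 ∧ Q u' = 0 ∧ img β (Qb (Q := Q) u) = Qb u' := by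
  obtain ⟨Φ, rfl⟩ := exists_semi_of_mem β hβ
  exact ⟨Φ.S u, S_ne_zero Φ hu0, Q_S_sing Φ hu, img_gam_Qb Φ u hu0 hu⟩

/-- the image of a root group under an automorphism attached to a linear isometry -/
theorem img_gam_Rb (Φ : SemiSimO Q) (hσ : Φ.σ = RingEquiv.refl F) (hν : Φ.ν = 1) (L L' : Ln Q)
    (hp : Φ.S L.p = L'.p) (hr : Φ.S L.r = L'.r) : img Φ.gam (Rb L) = Rb L' := by
  have key : ∀ t : F, Φ.gam (pu (sg Q L.p (t • L.r))) = pu (sg Q L'.p (t • L'.r)) := by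
    intro t
    rw [Φ.gam_sg L.hp (L.hpt t), hp, hν, inv_one, one_smul, Φ.smul, hr, hσ]
    rfl
  ext x
  rw [mem_img, mem_Rb]
  constructor
  · rintro ⟨y, hy, rfl⟩
    obtain ⟨t, rfl⟩ := (mem_Rb L y).mp hy
    exact ⟨t, key t⟩
  · rintro ⟨t, rfl⟩
    exact ⟨_, pu_sg_mem_Rb L t, key t⟩

section dich
variable (p : ℕ) [hp : Fact p.Prime] [hcp : CharP F p]
include hp hcp

/-- the dichotomy: the image of `Q_u` is a group `Q_u'` or comes from a totally singular 4-space -/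
theorem dichotomy (β : MulAut (Cfsg.POmega F ⇑Q)) (L K : Ln Q) (hKp : K.p = L.p)
    (hxy : polar (⇑Q) L.r K.r = 1) :
    (∃ u' : ι → F, u' ≠ 0 ∧ Q u' = 0 ∧ img β (Qb (Q := Q) L.p) = Qb u') ∨
    ∃ L' K' : Ln Q, img β (Rb L) = Rb L' ∧ img β (Rb K) = Rb K' ∧
      (polar (⇑Q) L'.p K'.p = 0 ∧ polar (⇑Q) L'.p K'.r = 0 ∧ polar (⇑Q) L'.r K'.p = 0 ∧
        polar (⇑Q) L'.r K'.r = 0) ∧ LinearIndependent F ![L'.p, L'.r, K'.p, K'.r] := by
  have hM := IsM_geom p L K hKp hxy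
  have hPt := Pt_geom p L K hKp hxy
  have hX := RS_inv (Q := Q) p
  obtain ⟨L', hL'⟩ := root_perm p β L
  obtain ⟨K', hK'⟩ := root_perm p β K
  have hM' := IsM_img hX β hM
  rw [hL', hK'] at hM'
  have hPt' := img_Pt hX β (Rb L) (Rb K)
  rw [hPt, hL', hK'] at hPt'
  obtain ⟨hne, hcomm, hncop, hab⟩ := hM'
  rcases comm_cases L' K' (comm_of_Rb_comm p L' K' hcomm) with hO | ⟨L₁, K₁, hXL, hXK, hKp', hxy'⟩
  · right
    by_cases hli : LinearIndependent F ![L'.p, L'.r, K'.p, K'.r]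
    · exact ⟨L', K', hL', hK', hO, hli⟩
    · exfalso
      obtain ⟨a, b, c, d, hab', hcommon⟩ := exists_common_of_dep L' K' hli
      rcases eq_or_cop_of_geom p L' K' hO a b c d hab' hcommon with h | h
      · exact hne h
      · exact hncop h
  · left
    refine ⟨L₁.p, L₁.hp0, L₁.hp, ?_⟩
    rw [hPt', ← Rb_eq_of_Xr hXL, ← Rb_eq_of_Xr hXK]
    exact Pt_geom p L₁ K₁ hKp' hxy'

/-- an automorphism fixing both root groups of a pair of lines through `u` lies in `PΓO` -/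
theorem mem_gamma_of_fix_pair (δ : MulAut (Cfsg.POmega F ⇑Q)) (L K : Ln Q) (hKp : K.p = L.p)
    (hxy : polar (⇑Q) L.r K.r = 1) (hL : img δ (Rb L) = Rb L) (hK : img δ (Rb K) = Rb K) :
    δ ∈ Cfsg.gammaPOmega F ⇑Q := by
  have hPt := Pt_geom p L K hKp hxy
  have hX := RS_inv (Q := Q) p
  have hPt' := img_Pt hX δ (Rb L) (Rb K)
  rw [hPt, hL, hK, hPt] at hPt'
  exact mem_gamma_of_one p δ L.p L.p L.hp0 L.hp L.hp0 L.hp hPt'

end dich

end Cfsg.Agent.Lib.Helper6.Tri
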