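import Mathlib
import Cfsg.Agent.Lib.Helper6.TriD
import Cfsg.Agent.Lib.Helper6.TriF

/-!
# Triality for `PΩ⁺₈`, part G: relations between triality and the automorphisms induced by
similarities
-/

set_option autoImplicit false
set_option linter.unusedSectionVars false
set_option linter.unusedVariables false

open Cfsg Matrix QuadraticMap

namespace Cfsg.Agent.Lib.Helper6.Tri

open Cfsg.Agent.Lib.Helper6 Cfsg.Agent.Lib.Helper15 Cfsg.Agent.Lib.Helper6.AutOrt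
  Cfsg.Agent.Lib.Helper6.AutPSL

variable {F : Type*} [Field F] [Fintype F]

/-- linear similarities from functions -/
noncomputable def linSemi (f : (I8 → F) → (I8 → F)) (ν : F) (hν : ν ≠ 0) (hadd : ∀ x y, f (x + y) = f x + f y)
    (hsmul : ∀ (a : F) x, f (a • x) = a • f x) (hf : ∀ x, nm (f x) = ν * nm x) :
    SemiSimO (QPlus F 4) where
  S := f
  σ := RingEquiv.refl F
  ν := ν
  hν := hν
  add := hadd
  smul := hsmul
  form := fun x => by rw [QPlus_eq_nm, QPlus_eq_nm, hf]; rfl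

/-- the semilinear similarity of an isometry -/
noncomputable def isoSemi (g : G8 F) : SemiSimO (QPlus F 4) :=
  linSemi (gact (QPlus F 4) g) 1 one_ne_zero (gact_add _ g) (fun a x => gact_smul _ g a x)
    (fun x => by rw [nm_gact, one_mul])

theorem isoSemi_S (g : G8 F) (x : I8 → F) : (isoSemi g).S x = gact (QPlus F 4) g x := rfl

/-- the automorphism of `PΩ` induced by an isometry -/
noncomputable def isoAut : G8 F →* MulAut (Cfsg.POmega F ⇑(QPlus F 4)) where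
  toFun g := (isoSemi g).gam
  map_one' := by
    apply SemiSimO.gam_eq_one_of_smul _ 1
    intro x
    rw [isoSemi_S, gact_one, one_smul]
  map_mul' g h := by
    rw [← SemiSimO.gam_comp]
    apply SemiSimO.gam_eq_of_S_eq
    intro x
    rw [SemiSimO.comp_S, isoSemi_S, isoSemi_S, isoSemi_S, gact_mul]

theorem isoAut_apply (g : G8 F) : isoAut g = (isoSemi g).gam := rfl

theorem isoAut_mem (g : G8 F) : isoAut g ∈ Cfsg.gammaPOmega F ⇑(QPlus F 4) := (isoSemi g).gam_mem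

/-- the conjugation as a similarity -/
noncomputable def cjSemi : SemiSimO (QPlus F 4) :=
  linSemi cj 1 one_ne_zero cj_add cj_smul (fun x => by rw [nm_cj, one_mul])

theorem cjSemi_S (x : I8 → F) : (cjSemi (F := F)).S x = cj x := rfl

/-- the graph automorphism induced by the conjugation -/
noncomputable def gc : MulAut (Cfsg.POmega F ⇑(QPlus F 4)) := (cjSemi (F := F)).gam

theorem gc_mem : (gc : MulAut (Cfsg.POmega F ⇑(QPlus F 4))) ∈ Cfsg.gammaPOmega F ⇑(QPlus F 4) :=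
  (cjSemi (F := F)).gam_mem

theorem gc_mul_self : (gc : MulAut (Cfsg.POmega F ⇑(QPlus F 4))) * gc = 1 := by
  unfold gc
  rw [← SemiSimO.gam_comp]
  apply SemiSimO.gam_eq_one_of_smul _ 1
  intro x
  rw [SemiSimO.comp_S, cjSemi_S, cjSemi_S, cj_cj, one_smul]

theorem cIsoFun_cj (s : G8 F) : (cjSemi (F := F)).cIsoFun s = cjI * s * cjI := by
  apply iso_ext_gact
  intro x
  have h := (cjSemi (F := F)).gact_cIsoFun s (cj x)
  rw [cjSemi_S, cj_cj, cjSemi_S] at h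
  rw [h, gact_mul, gact_mul, gact_cjI, gact_cjI]

theorem cjI_mul_self : (cjI : G8 F) * cjI = 1 := by
  apply iso_ext_gact
  intro x
  rw [gact_mul, gact_cjI, gact_cjI, cj_cj, gact_one]

/-- conjugating a related triple by three similarities related in the same way -/
theorem RT_conj (Φ₀ Φ₁ Φ₂ : SemiSimO (QPlus F 4))
    (hrel : ∀ x y, Φ₀.S (omul x y) = omul (Φ₁.S x) (Φ₂.S y))
    (t : G8 F × G8 F × G8 F) (ht : t ∈ RT) :
    ((Φ₀.cIsoFun t.1, Φ₁.cIsoFun t.2.1, Φ₂.cIsoFun t.2.2) : G8 F × G8 F × G8 F) ∈ RT := by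
  intro X Y
  obtain ⟨x, rfl⟩ := Φ₁.S_surjective X
  obtain ⟨y, rfl⟩ := Φ₂.S_surjective Y
  simp only
  rw [← hrel, SemiSimO.gact_cIsoFun, SemiSimO.gact_cIsoFun, SemiSimO.gact_cIsoFun, ht, hrel]

/-- conjugating a related triple by three similarities related in the opposite way -/
theorem RT_conj_anti (Φ₀ Φ₁ Φ₂ : SemiSimO (QPlus F 4))
    (hrel : ∀ x y, Φ₀.S (omul x y) = omul (Φ₁.S y) (Φ₂.S x))
    (t : G8 F × G8 F × G8 F) (ht : t ∈ RT) :
    ((Φ₀.cIsoFun t.1, Φ₁.cIsoFun t.2.2, Φ₂.cIsoFun t.2.1) : G8 F × G8 F × G8 F) ∈ RT := by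
  intro X Y
  obtain ⟨y, rfl⟩ := Φ₁.S_surjective X
  obtain ⟨x, rfl⟩ := Φ₂.S_surjective Y
  simp only
  rw [← hrel, SemiSimO.gact_cIsoFun, SemiSimO.gact_cIsoFun, SemiSimO.gact_cIsoFun, ht, hrel]

theorem cOm_mem (Φ : SemiSimO (QPlus F 4)) (s : G8 F) (hs : s ∈ Cfsg.Omega F ⇑(QPlus F 4)) :
    Φ.cIsoFun s ∈ Cfsg.Omega F ⇑(QPlus F 4) := (Φ.cOm ⟨s, hs⟩).2

/-- triality and the automorphisms induced by related similarities -/
theorem tau_rel (Φ₀ Φ₁ Φ₂ : SemiSimO (QPlus F 4))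
    (hrel : ∀ x y, Φ₀.S (omul x y) = omul (Φ₁.S x) (Φ₂.S y)) :
    tauAut * Φ₀.gam = Φ₁.gam * tauAut := by
  ext X
  obtain ⟨g, rfl⟩ := pu_surjective X
  obtain ⟨t, ht, htg⟩ := exists_RTc g.1 g.2
  have hg : g = ⟨t.1, RTc_fst t ht⟩ := Subtype.ext htg.symm
  change tauAut (Φ₀.gam (pu g)) = Φ₁.gam (tauAut (pu g))
  rw [hg, tauAut_apply, tauAut_apply, tau_spec t (RTc_le ht) (RTc_fst t ht) (RTc_snd t ht),
    SemiSimO.gam_pu, SemiSimO.gam_pu]
  exact tau_spec _ (RT_conj Φ₀ Φ₁ Φ₂ hrel t (RTc_le ht)) (cOm_mem Φ₀ _ (RTc_fst t ht))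
    (cOm_mem Φ₁ _ (RTc_snd t ht))

/-- the second triality automorphism -/
noncomputable def tauAut' : MulAut (Cfsg.POmega F ⇑(QPlus F 4)) := gc * tauAut * gc

theorem cj_rel (x y : I8 → F) :
    (cjSemi (F := F)).S (omul x y) = omul ((cjSemi (F := F)).S y) ((cjSemi (F := F)).S x) := by
  rw [cjSemi_S, cjSemi_S, cjSemi_S, cj_omul]

/-- the second triality automorphism reads off the third component of a related triple -/
theorem tau'_spec (t : G8 F × G8 F × G8 F) (ht : t ∈ RT)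
    (h0 : t.1 ∈ Cfsg.Omega F ⇑(QPlus F 4)) (h2 : t.2.2 ∈ Cfsg.Omega F ⇑(QPlus F 4)) :
    tauAut' (pu ⟨t.1, h0⟩) = pu ⟨t.2.2, h2⟩ := by
  change gc (tauAut (gc (pu ⟨t.1, h0⟩))) = _
  unfold gc
  rw [SemiSimO.gam_pu, tauAut_apply]
  have h := tau_spec _ (RT_conj_anti cjSemi cjSemi cjSemi cj_rel t ht) (cOm_mem cjSemi _ h0)
    (cOm_mem cjSemi _ h2)
  simp only at h
  have e : (cjSemi (F := F)).cOm ⟨t.1, h0⟩ = ⟨(cjSemi (F := F)).cIsoFun t.1, cOm_mem cjSemi _ h0⟩ :=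
    rfl
  rw [e, h]
  have e2 : (⟨(cjSemi (F := F)).cIsoFun t.2.2, cOm_mem cjSemi _ h2⟩ : Om8 F) =
      (cjSemi (F := F)).cOm ⟨t.2.2, h2⟩ := rfl
  rw [e2, ← SemiSimO.gam_pu]
  have h3 := DFunLike.congr_fun (gc_mul_self (F := F)) (pu ⟨t.2.2, h2⟩)
  rw [MulAut.mul_apply, MulAut.one_apply] at h3
  exact h3

/-- the braid relation between triality and the graph automorphism -/
theorem braid : tauAut * gc * tauAut = (tauAut' : MulAut (Cfsg.POmega F ⇑(QPlus F 4))) := by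
  ext X
  obtain ⟨g, rfl⟩ := pu_surjective X
  obtain ⟨t, ht, htg⟩ := exists_RTc g.1 g.2
  have hg : g = ⟨t.1, RTc_fst t ht⟩ := Subtype.ext htg.symm
  rw [hg, tau'_spec t (RTc_le ht) (RTc_fst t ht) (RTc_trd t ht)]
  change tauAut (gc (tauAut (pu ⟨t.1, RTc_fst t ht⟩))) = _
  rw [tauAut_apply, tauAut_apply, tau_spec t (RTc_le ht) (RTc_fst t ht) (RTc_snd t ht)]
  unfold gc
  rw [SemiSimO.gam_pu]
  have hR := RT_rot t (RTc_le ht)
  have h := tau_spec _ (RT_conj_anti cjSemi cjSemi cjSemi cj_rel _ hR)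
    (cOm_mem cjSemi _ (RTc_snd t ht)) (by
      simp only
      rw [cIsoFun_cj, ← mul_assoc, ← mul_assoc, cjI_mul_self, one_mul, mul_assoc, cjI_mul_self,
        mul_one]
      exact RTc_trd t ht)
  simp only at h
  have e : (cjSemi (F := F)).cOm ⟨t.2.1, RTc_snd t ht⟩ =
      ⟨(cjSemi (F := F)).cIsoFun t.2.1, cOm_mem cjSemi _ (RTc_snd t ht)⟩ := rfl
  rw [e, h]
  congr 1
  apply Subtype.ext
  simp only
  rw [cIsoFun_cj, ← mul_assoc, ← mul_assoc, cjI_mul_self, one_mul, mul_assoc, cjI_mul_self,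
    mul_one]

end Cfsg.Agent.Lib.Helper6.Tri
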