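import Mathlib
import Cfsg.Agent.Lib.Helper6.TriG
import Cfsg.Agent.Lib.Helper6.Spinor3
import Cfsg.Agent.Lib.Helper6.CDTwo

/-!
# Triality for `PΩ⁺₈`, part H: reflections and triality; the isometry group permutes the two
triality cosets
-/

set_option autoImplicit false
set_option linter.unusedSectionVars false
set_option linter.unusedVariables false

open Cfsg Matrix QuadraticMap

namespace Cfsg.Agent.Lib.Helper6.Tri

open Cfsg.Agent.Lib.Helper6 Cfsg.Agent.Lib.Helper15 Cfsg.Agent.Lib.Helper6.AutOrt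
  Cfsg.Agent.Lib.Helper6.AutPSL Cfsg.Agent.Lib.Helper14

section alg
variable {F : Type*} [Field F]

theorem flex (a x : I8 → F) : omul (omul a x) a = omul a (omul x a) := by
  funext i; revert i
  apply I8_cases <;> simp only [omul_l0, omul_l1, omul_l2, omul_l3, omul_r0, omul_r1, omul_r2,
    omul_r3] <;> ring

end alg

section grp
variable {G : Type*} [Group G]

theorem grp_case1 (c h l' τ γ : G) (F1 : c * c = 1) (F4 : τ * l' = c * h * c * τ) :
    h * c * (τ * γ) = c * τ * c * (c * l' * γ) := by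
  have e1 : c * τ * c * (c * l' * γ) = c * τ * (c * c) * l' * γ := by simp only [mul_assoc]
  rw [e1, F1, mul_one]
  have e2 : c * τ * l' * γ = c * (τ * l') * γ := by simp only [mul_assoc]
  rw [e2, F4]
  have e3 : c * (c * h * c * τ) * γ = (c * c) * h * c * τ * γ := by simp only [mul_assoc]
  rw [e3, F1, one_mul]
  simp only [mul_assoc]

theorem grp_case2 (c h l τ γ : G) (F1 : c * c = 1) (F3 : τ * l = h * τ) :
    h * c * (c * τ * c * γ) = τ * (l * c * γ) := by
  have e1 : h * c * (c * τ * c * γ) = h * (c * c) * τ * c * γ := by simp only [mul_assoc]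
  rw [e1, F1, mul_one]
  have e2 : τ * (l * c * γ) = (τ * l) * c * γ := by simp only [mul_assoc]
  rw [e2, F3]

end grp

section cd
variable {F : Type*} [Field F] [Fintype F] {ι : Type} [Fintype ι] [DecidableEq ι]
  (Q : QuadraticForm F (ι → F))

omit [Fintype F] in
theorem refl_refl' (a : ι → F) (ha : Q a ≠ 0) :
    Cfsg.reflectionMatrix ⇑Q a * Cfsg.reflectionMatrix ⇑Q a = 1 := by
  apply matrix_ext_mulVec
  intro x
  rw [← Matrix.mulVec_mulVec, Matrix.one_mulVec, reflectionMatrix_mulVec, reflectionMatrix_mulVec,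
    QuadraticMap.polar_sub_right, QuadraticMap.polar_smul_right, QuadraticMap.polar_self]
  have : (Q a)⁻¹ * (QuadraticMap.polar ⇑Q a x - ((Q a)⁻¹ * QuadraticMap.polar ⇑Q a x) • (2 • Q a))
      = - ((Q a)⁻¹ * QuadraticMap.polar ⇑Q a x) := by
    rw [smul_eq_mul, nsmul_eq_mul]
    push_cast
    field_simp
    ring
  rw [this, neg_smul]
  abel

/-- **Cartan–Dieudonné**, in the form: a subgroup containing all reflections is everything -/
theorem cd_subgroup (hQ : (QuadraticMap.polarBilin Q).Nondegenerate)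
    (h : Fintype.card F ≠ 2 ∨ Fintype.card ι ≠ 4)
    (K : Subgroup ↥(Cfsg.isometryGroup F ⇑Q))
    (hK : ∀ (r : ↥(Cfsg.isometryGroup F ⇑Q)) (a : ι → F), Q a ≠ 0 →
      ((r.1 : GL ι F) : Matrix ι ι F) = Cfsg.reflectionMatrix ⇑Q a → r ∈ K) : K = ⊤ := by
  classical
  have hQ' := nondegenerate_transfer Q (QFin Q) (reIdx F ι) (QFin_apply Q) hQ
  have hcl : Subgroup.closure (Cfsg.Agent.S0792.Rset (QFin Q)) = ⊤ := by
    by_cases h2 : (2 : F) = 0
    · exact cd_two h2 hQ' h
    · rw [eq_top_iff]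
      intro g _
      exact Cfsg.Agent.S0792.cd_aux (QFin Q) h2 hQ' (Fintype.card ι) 0 Fin.elim0 (by omega)
        (fun i => i.elim0) (fun i => i.elim0) g (fun i => i.elim0)
  have hle : Subgroup.closure (Cfsg.Agent.S0792.Rset (QFin Q)) ≤ K.map (isoFin Q) := by
    rw [Subgroup.closure_le]
    rintro r' ⟨u', hu', hr'⟩
    obtain ⟨r, rfl⟩ := (isoFin_bijective Q).2 r'
    refine ⟨r, ?_, rfl⟩
    apply hK r ((reIdx F ι).symm u')
    · rw [← QFin_apply, LinearEquiv.apply_symm_apply]; exact hu'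
    · apply (matCongr (reIdx F ι)).injective
      rw [matCongr_refl Q (QFin Q) (reIdx F ι) (QFin_apply Q), LinearEquiv.apply_symm_apply, ← hr']
      rfl
  rw [hcl] at hle
  rw [eq_top_iff]
  intro g _
  obtain ⟨k, hk, hkg⟩ := hle (Subgroup.mem_top (isoFin Q g))
  rw [← (isoFin_bijective Q).1 hkg]
  exact hk

end cd

variable {F : Type*} [Field F] [Fintype F]

/-- left multiplication by a non-singular octonion -/
noncomputable def Lsemi (a : I8 → F) (ha : nm a ≠ 0) : SemiSimO (QPlus F 4) :=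
  linSemi (omul a) (nm a) ha (omul_add_right a) (fun c x => omul_smul_right c a x)
    (fun x => nm_omul a x)

/-- the bimultiplication by a non-singular octonion, normalised to an isometry -/
noncomputable def hSemi (a : I8 → F) (ha : nm a ≠ 0) : SemiSimO (QPlus F 4) :=
  linSemi (fun x => (-(nm a)⁻¹) • omul (omul a x) a) 1 one_ne_zero
    (fun x y => by rw [omul_add_right, omul_add_left, smul_add])
    (fun c x => by rw [omul_smul_right, omul_smul_left, smul_comm])
    (fun x => by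
      have : nm ((-(nm a)⁻¹) • omul (omul a x) a) =
          (-(nm a)⁻¹) * (-(nm a)⁻¹) * nm (omul (omul a x) a) := by
        simp only [nm, Pi.smul_apply, smul_eq_mul]
        ring
      rw [this, nm_omul, nm_omul]
      field_simp)

/-- the negative of the left multiplication by the conjugate -/
noncomputable def LnSemi (a : I8 → F) (ha : nm a ≠ 0) : SemiSimO (QPlus F 4) :=
  linSemi (fun y => -omul (cj a) y) (nm a) ha
    (fun x y => by rw [omul_add_right, neg_add])
    (fun c x => by rw [omul_smul_right, smul_neg])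
    (fun x => by
      have : nm (-omul (cj a) x) = nm (omul (cj a) x) := by
        simp only [nm, Pi.neg_apply]
        ring
      rw [this, nm_omul, nm_cj])

theorem Lsemi_S (a : I8 → F) (ha : nm a ≠ 0) (x : I8 → F) : (Lsemi a ha).S x = omul a x := rfl

theorem hSemi_S (a : I8 → F) (ha : nm a ≠ 0) (x : I8 → F) :
    (hSemi a ha).S x = (-(nm a)⁻¹) • omul (omul a x) a := rfl

theorem LnSemi_S (a : I8 → F) (ha : nm a ≠ 0) (y : I8 → F) :
    (LnSemi a ha).S y = -omul (cj a) y := rfl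

/-- triality turns left multiplications into bimultiplications -/
theorem tau_L (a : I8 → F) (ha : nm a ≠ 0) :
    tauAut * (Lsemi a ha).gam = (hSemi a ha).gam * tauAut := by
  apply tau_rel (Lsemi a ha) (hSemi a ha) (LnSemi a ha)
  intro x y
  rw [Lsemi_S, hSemi_S, LnSemi_S, omul_smul_left, omul_neg_right, moufang_L, smul_neg, neg_smul,
    neg_neg, smul_smul, inv_mul_cancel₀ ha, one_smul]

theorem nm_cj_ne {a : I8 → F} (ha : nm a ≠ 0) : nm (cj a) ≠ 0 := by rw [nm_cj]; exact ha

/-- conjugating the bimultiplication by the graph automorphism -/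
theorem gc_h_gc (a : I8 → F) (ha : nm a ≠ 0) :
    gc * (hSemi a ha).gam * gc = (hSemi (cj a) (nm_cj_ne ha)).gam := by
  unfold gc
  rw [← SemiSimO.gam_comp, ← SemiSimO.gam_comp]
  apply SemiSimO.gam_eq_of_S_eq
  intro x
  rw [SemiSimO.comp_S, SemiSimO.comp_S, cjSemi_S, cjSemi_S, hSemi_S, hSemi_S, cj_smul, cj_omul,
    cj_omul, cj_cj, nm_cj, flex]

/-- a reflection is a bimultiplication composed with the conjugation -/
theorem isoAut_refl (r : G8 F) (a : I8 → F) (ha : nm a ≠ 0)
    (hr : ((r.1 : GL I8 F) : Matrix I8 I8 F) = Cfsg.reflectionMatrix ⇑(QPlus F 4) a) :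
    isoAut r = (hSemi a ha).gam * gc := by
  unfold gc
  rw [isoAut_apply, ← SemiSimO.gam_comp]
  apply SemiSimO.gam_eq_of_S_eq
  intro x
  rw [SemiSimO.comp_S, cjSemi_S, hSemi_S, isoSemi_S, gact_def, hr, reflectionMatrix_mulVec,
    QPlus_eq_nm, polar_eq_bl, B_cj, smul_sub, smul_smul, smul_smul]
  have e : -(nm a)⁻¹ * nm a = -1 := by field_simp
  rw [e]
  module

/-- the union of the two triality cosets of `PΓO` -/
def TT2 : Set (MulAut (Cfsg.POmega F ⇑(QPlus F 4))) :=
  {β | ∃ γ ∈ Cfsg.gammaPOmega F ⇑(QPlus F 4), β = tauAut * γ ∨ β = tauAut' * γ}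

theorem refl_TT2 (r : G8 F) (a : I8 → F) (ha : nm a ≠ 0)
    (hr : ((r.1 : GL I8 F) : Matrix I8 I8 F) = Cfsg.reflectionMatrix ⇑(QPlus F 4) a)
    (β : MulAut (Cfsg.POmega F ⇑(QPlus F 4))) (hβ : β ∈ TT2) : isoAut r * β ∈ TT2 := by
  obtain ⟨γ, hγ, hβγ⟩ := hβ
  have F1 := gc_mul_self (F := F)
  have F3 := tau_L a ha
  have F4 := tau_L (cj a) (nm_cj_ne ha)
  rw [← gc_h_gc a ha] at F4
  have F5 := isoAut_refl r a ha hr
  rcases hβγ with rfl | rfl
  · refine ⟨gc * (Lsemi (cj a) (nm_cj_ne ha)).gam * γ,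
      Subgroup.mul_mem _ (Subgroup.mul_mem _ gc_mem (SemiSimO.gam_mem _)) hγ, Or.inr ?_⟩
    rw [F5]
    exact grp_case1 gc _ _ tauAut γ F1 F4
  · refine ⟨(Lsemi a ha).gam * gc * γ,
      Subgroup.mul_mem _ (Subgroup.mul_mem _ (SemiSimO.gam_mem _) gc_mem) hγ, Or.inl ?_⟩
    rw [F5]
    exact grp_case2 gc _ _ tauAut γ F1 F3

/-- the isometries permuting the two triality cosets -/
def Kstab : Subgroup (G8 F) where
  carrier := {g | ∀ β, β ∈ TT2 ↔ isoAut g * β ∈ TT2}
  one_mem' := by
    intro β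
    rw [map_one, one_mul]
  mul_mem' := by
    intro g h hg hh β
    rw [map_mul, mul_assoc, ← hg, ← hh]
  inv_mem' := by
    intro g hg β
    rw [hg (isoAut g⁻¹ * β), ← mul_assoc, ← map_mul, mul_inv_cancel, map_one, one_mul]

theorem refl_sq (r : G8 F) (a : I8 → F) (ha : QPlus F 4 a ≠ 0)
    (hr : ((r.1 : GL I8 F) : Matrix I8 I8 F) = Cfsg.reflectionMatrix ⇑(QPlus F 4) a) :
    isoAut r * isoAut r = 1 := by
  rw [← map_mul]
  have : r * r = 1 := by
    apply Subtype.ext
    apply Units.ext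
    change ((r.1 : GL I8 F) : Matrix I8 I8 F) * ((r.1 : GL I8 F) : Matrix I8 I8 F) = 1
    rw [hr, refl_refl' (QPlus F 4) a ha]
  rw [this, map_one]

theorem Kstab_eq_top : (Kstab : Subgroup (G8 F)) = ⊤ := by
  apply cd_subgroup (QPlus F 4) (nondegenerate_QPlus F 4) (Or.inr (by rw [card_I8]; omega))
  intro r a ha hr β
  have ha' : nm a ≠ 0 := by rw [← QPlus_eq_nm]; exact ha
  constructor
  · exact refl_TT2 r a ha' hr β
  · intro h
    have := refl_TT2 r a ha' hr _ h
    rwa [← mul_assoc, refl_sq r a ha hr, one_mul] at this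

theorem isoAut_tau_mem (g : G8 F) : isoAut g * tauAut ∈ TT2 := by
  have hg : g ∈ (Kstab : Subgroup (G8 F)) := by rw [Kstab_eq_top]; exact Subgroup.mem_top g
  apply (hg tauAut).mp
  exact ⟨1, Subgroup.one_mem _, Or.inl (mul_one _).symm⟩

end Cfsg.Agent.Lib.Helper6.Tri
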