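import Mathlib
import Cfsg.Agent.Lib.Helper6.TriH
import Cfsg.Agent.S0750

/-!
# Triality for `PΩ⁺₈`, part I: `PΓO⁺₈` has index three in `Aut(PΩ⁺₈)`
-/

set_option autoImplicit false
set_option linter.unusedSectionVars false
set_option linter.unusedVariables false

open Cfsg Matrix QuadraticMap

namespace Cfsg.Agent.Lib.Helper6.Tri

open Cfsg.Agent.Lib.Helper6 Cfsg.Agent.Lib.Helper15 Cfsg.Agent.Lib.Helper6.AutOrt
  Cfsg.Agent.Lib.Helper6.AutPSL

section witt
variable {F : Type*} [Field F] [Fintype F] {ι : Type} [Fintype ι] [DecidableEq ι]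
  {Q : QuadraticForm F (ι → F)}

/-- isometries from linear equivalences -/
noncomputable def isoOfEquiv (g : (ι → F) ≃ₗ[F] (ι → F)) (hg : ∀ v, Q (g v) = Q v) :
    ↥(Cfsg.isometryGroup F ⇑Q) :=
  mkIso Q (LinearMap.toMatrix' g.toLinearMap) (LinearMap.toMatrix' g.symm.toLinearMap)
    (by
      rw [← LinearMap.toMatrix'_comp]
      have : g.toLinearMap.comp g.symm.toLinearMap = LinearMap.id := by
        ext x; simp
      rw [this, LinearMap.toMatrix'_id])
    (by
      rw [← LinearMap.toMatrix'_comp]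
      have : g.symm.toLinearMap.comp g.toLinearMap = LinearMap.id := by
        ext x; simp
      rw [this, LinearMap.toMatrix'_id])
    (by
      intro x
      rw [LinearMap.toMatrix'_mulVec]
      exact hg x)

theorem gact_isoOfEquiv (g : (ι → F) ≃ₗ[F] (ι → F)) (hg : ∀ v, Q (g v) = Q v) (x : ι → F) :
    gact Q (isoOfEquiv g hg) x = g x := by
  unfold isoOfEquiv
  rw [gact_mkIso, LinearMap.toMatrix'_mulVec]
  rfl

/-- Witt's theorem for two bases of totally singular 4-spaces -/
theorem witt_four (hQ : (polarBilin Q).Nondegenerate) (v v' : Fin 4 → (ι → F))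
    (hv : LinearIndependent F v) (hv' : LinearIndependent F v')
    (hs : ∀ x ∈ Submodule.span F (Set.range v), Q x = 0)
    (hs' : ∀ x ∈ Submodule.span F (Set.range v'), Q x = 0) :
    ∃ g : ↥(Cfsg.isometryGroup F ⇑Q), ∀ i, gact Q g (v i) = v' i := by
  have hmem : ∀ (w : Fin 4 → (ι → F)) (c : Fin 4 → F),
      Fintype.linearCombination F w c ∈ Submodule.span F (Set.range w) := by
    intro w c
    rw [Fintype.linearCombination_apply]
    exact Submodule.sum_mem _ (fun i _ => Submodule.smul_mem _ _ (Submodule.subset_span ⟨i, rfl⟩))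
  have hinj : Function.Injective (Fintype.linearCombination F v) :=
    linearIndependent_iff_injective_fintypeLinearCombination.mp hv
  have hinj' : Function.Injective (Fintype.linearCombination F v') :=
    linearIndependent_iff_injective_fintypeLinearCombination.mp hv'
  have hle : Module.finrank F (Fin 4 → F) ≤ Module.finrank F (ι → F) :=
    LinearMap.finrank_le_finrank_of_injective hinj
  obtain ⟨g, hg1, hg2⟩ := Cfsg.Agent.S0750.witt_quad Q hQ
    (Module.finrank F (ι → F) - Module.finrank F (Fin 4 → F)) (Fin 4 → F)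
    (Fintype.linearCombination F v) (Fintype.linearCombination F v') hinj hinj'
    (fun c => by rw [hs _ (hmem v c), hs' _ (hmem v' c)]) (by omega)
  refine ⟨isoOfEquiv g hg1, fun i => ?_⟩
  rw [gact_isoOfEquiv]
  have := hg2 (Pi.single i 1)
  rwa [Fintype.linearCombination_apply_single, Fintype.linearCombination_apply_single, one_smul,
    one_smul] at this

end witt

variable {F : Type*} [Field F] [Fintype F]

section main
variable (p : ℕ) [hp : Fact p.Prime] [hcp : CharP F p]
include hp hcp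

/-- triality is not in `PΓO` -/
theorem tau_not_mem : (tauAut : MulAut (Cfsg.POmega F ⇑(QPlus F 4))) ∉
    Cfsg.gammaPOmega F ⇑(QPlus F 4) := by
  intro h
  obtain ⟨e', he'0, he', heq⟩ := img_Qb_of_mem tauAut h e0 e0_ne Q_e0
  exact tau_img_ne p e' he'0 he' heq

theorem tau'_not_mem : (tauAut' : MulAut (Cfsg.POmega F ⇑(QPlus F 4))) ∉
    Cfsg.gammaPOmega F ⇑(QPlus F 4) := by
  intro h
  apply tau_not_mem (F := F) p
  have e : (tauAut : MulAut (Cfsg.POmega F ⇑(QPlus F 4))) = gc * tauAut' * gc := by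
    unfold tauAut'
    have h1 := gc_mul_self (F := F)
    calc (tauAut : MulAut (Cfsg.POmega F ⇑(QPlus F 4)))
        = (gc * gc) * tauAut * (gc * gc) := by rw [h1, one_mul, mul_one]
      _ = gc * (gc * tauAut * gc) * gc := by simp only [mul_assoc]
  rw [e]
  exact Subgroup.mul_mem _ (Subgroup.mul_mem _ gc_mem h) gc_mem

theorem tau_tau'_not_mem : (tauAut : MulAut (Cfsg.POmega F ⇑(QPlus F 4)))⁻¹ * tauAut' ∉
    Cfsg.gammaPOmega F ⇑(QPlus F 4) := by
  intro h
  apply tau'_not_mem (F := F) p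
  have hinv : (tauAut : MulAut (Cfsg.POmega F ⇑(QPlus F 4)))⁻¹ = tauAut :=
    inv_eq_of_mul_eq_one_right tauAut_mul_self
  have e : (tauAut : MulAut (Cfsg.POmega F ⇑(QPlus F 4)))⁻¹ * tauAut' = tauAut' * gc := by
    rw [hinv]
    conv_rhs => rw [← braid]
    unfold tauAut'
    simp only [mul_assoc]
  rw [e] at h
  have h2 := Subgroup.mul_mem _ h (gc_mem (F := F))
  rwa [mul_assoc, gc_mul_self, mul_one] at h2

/-- every automorphism lies in one of three cosets of `PΓO` -/
theorem aut_cases (β : MulAut (Cfsg.POmega F ⇑(QPlus F 4))) :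
    β ∈ Cfsg.gammaPOmega F ⇑(QPlus F 4) ∨ β ∈ TT2 := by
  by_cases hβ : β ∈ Cfsg.gammaPOmega F ⇑(QPlus F 4)
  · left; exact hβ
  right
  have hfin : 5 ≤ Module.finrank F (I8 → F) := by
    rw [Module.finrank_fintype_fun_eq_card, card_I8]; omega
  obtain ⟨x, y, hx, hy, hxy, hux, huy⟩ :=
    exists_hyp_pair_perp (QPlus F 4) (nondegenerate_QPlus F 4) hfin e0 e0_ne Q_e0
  let L : Ln (QPlus F 4) :=
    { p := e0, r := x, hp := Q_e0, hr := hx, hpr := hux, hp0 := e0_ne
      hind := by
        intro c hc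
        have := hxy
        rw [hc, polar_smul_left, huy] at this
        simp at this }
  let K : Ln (QPlus F 4) :=
    { p := e0, r := y, hp := Q_e0, hr := hy, hpr := huy, hp0 := e0_ne
      hind := by
        intro c hc
        have := hxy
        rw [hc, polar_smul_right, polar_comm (⇑(QPlus F 4)) x e0, hux] at this
        simp at this }
  have hKp : K.p = L.p := rfl
  have hLK : polar (⇑(QPlus F 4)) L.r K.r = 1 := hxy
  -- the images under triality
  rcases dichotomy p tauAut L K hKp hLK with ⟨u', hu'0, hu', hτ⟩ | ⟨L₁, K₁, hL₁, hK₁, hO₁, hli₁⟩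
  · exact absurd hτ (tau_img_ne p u' hu'0 hu')
  rcases dichotomy p β L K hKp hLK with ⟨u', hu'0, hu', hβu⟩ | ⟨L₂, K₂, hL₂, hK₂, hO₂, hli₂⟩
  · exact absurd (mem_gamma_of_one p β e0 u' e0_ne Q_e0 hu'0 hu' hβu) hβ
  -- Witt
  obtain ⟨g, hg⟩ := witt_four (nondegenerate_QPlus F 4) ![L₁.p, L₁.r, K₁.p, K₁.r]
    ![L₂.p, L₂.r, K₂.p, K₂.r] hli₁ hli₂
    (ts_span4 hO₁.1 hO₁.2.1 hO₁.2.2.1 hO₁.2.2.2 L₁.hp L₁.hr K₁.hp K₁.hr L₁.hpr K₁.hpr)
    (ts_span4 hO₂.1 hO₂.2.1 hO₂.2.2.1 hO₂.2.2.2 L₂.hp L₂.hr K₂.hp K₂.hr L₂.hpr K₂.hpr)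
  have hg0 : gact (QPlus F 4) g L₁.p = L₂.p := hg 0
  have hg1 : gact (QPlus F 4) g L₁.r = L₂.r := hg 1
  have hg2 : gact (QPlus F 4) g K₁.p = K₂.p := hg 2
  have hg3 : gact (QPlus F 4) g K₁.r = K₂.r := hg 3
  have hgL : img (isoAut g) (Rb L₁) = Rb L₂ :=
    img_gam_Rb (isoSemi g) rfl rfl L₁ L₂ hg0 hg1
  have hgK : img (isoAut g) (Rb K₁) = Rb K₂ :=
    img_gam_Rb (isoSemi g) rfl rfl K₁ K₂ hg2 hg3
  obtain ⟨δ, hδ⟩ : ∃ δ, δ = (isoAut g * tauAut)⁻¹ * β := ⟨_, rfl⟩
  have hgtL : img (isoAut g * tauAut) (Rb L) = Rb L₂ := by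
    rw [img_mul', hL₁, hgL]
  have hgtK : img (isoAut g * tauAut) (Rb K) = Rb K₂ := by
    rw [img_mul', hK₁, hgK]
  have hδL : img δ (Rb L) = Rb L := by
    rw [hδ, img_mul', hL₂, ← hgtL, img_inv_img]
  have hδK : img δ (Rb K) = Rb K := by
    rw [hδ, img_mul', hK₂, ← hgtK, img_inv_img]
  have hδm := mem_gamma_of_fix_pair p δ L K hKp hLK hδL hδK
  have hβeq : β = isoAut g * tauAut * δ := by rw [hδ, mul_inv_cancel_left]
  obtain ⟨γ, hγ, hγ'⟩ := isoAut_tau_mem g
  rcases hγ' with h | h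
  · exact ⟨γ * δ, Subgroup.mul_mem _ hγ hδm, Or.inl (by rw [hβeq, h, mul_assoc])⟩
  · exact ⟨γ * δ, Subgroup.mul_mem _ hγ hδm, Or.inr (by rw [hβeq, h, mul_assoc])⟩

/-- **`PΓO⁺₈(F)` has index three in `Aut(PΩ⁺₈(F))`** -/
theorem index_gamma_eq_three : (Cfsg.gammaPOmega F ⇑(QPlus F 4)).index = 3 := by
  rw [Subgroup.index_eq_card]
  let f : Fin 3 → MulAut (Cfsg.POmega F ⇑(QPlus F 4)) ⧸ Cfsg.gammaPOmega F ⇑(QPlus F 4) :=
    ![QuotientGroup.mk 1, QuotientGroup.mk tauAut, QuotientGroup.mk tauAut']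
  have hf : Function.Bijective f := by
    constructor
    · intro i j hij
      have h01 : f 0 ≠ f 1 := by
        intro h
        have h' := QuotientGroup.eq.mp h
        rw [inv_one, one_mul] at h'
        exact tau_not_mem p h'
      have h02 : f 0 ≠ f 2 := by
        intro h
        have h' := QuotientGroup.eq.mp h
        rw [inv_one, one_mul] at h'
        exact tau'_not_mem p h'
      have h12 : f 1 ≠ f 2 := by
        intro h
        exact tau_tau'_not_mem p (QuotientGroup.eq.mp h)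
      fin_cases i <;> fin_cases j <;> first
        | rfl
        | exact absurd hij h01
        | exact absurd hij h02
        | exact absurd hij h12
        | exact absurd hij.symm h01
        | exact absurd hij.symm h02
        | exact absurd hij.symm h12
    · intro X
      obtain ⟨β, rfl⟩ := QuotientGroup.mk_surjective X
      rcases aut_cases p β with h | ⟨γ, hγ, h | h⟩
      · refine ⟨0, ?_⟩
        change QuotientGroup.mk 1 = _
        rw [QuotientGroup.eq, inv_one, one_mul]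
        exact h
      · refine ⟨1, ?_⟩
        change QuotientGroup.mk tauAut = _
        rw [QuotientGroup.eq, h, inv_mul_cancel_left]
        exact hγ
      · refine ⟨2, ?_⟩
        change QuotientGroup.mk tauAut' = _
        rw [QuotientGroup.eq, h, inv_mul_cancel_left]
        exact hγ
  rw [← Nat.card_eq_of_bijective f hf, Nat.card_eq_fintype_card, Fintype.card_fin]

end main

end Cfsg.Agent.Lib.Helper6.Tri
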