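import Mathlib
import Cfsg.Agent.Lib.Helper6.TriI
import Cfsg.Agent.Lib.Helper6.AutOrt21
import Cfsg.Agent.S2724

/-!
# Triality for `PΩ⁺₈`, part J: the order of `PΓO` and of `Aut(PΩ⁺_{2m}(q))`
-/

set_option autoImplicit false
set_option linter.unusedSectionVars false
set_option linter.unusedVariables false

open Cfsg Matrix QuadraticMap

namespace Cfsg.Agent.Lib.Helper6.Tri

open Cfsg.Agent.Lib.Helper6 Cfsg.Agent.Lib.Helper15 Cfsg.Agent.Lib.Helper6.AutOrt
  Cfsg.Agent.Lib.Helper6.AutPSL Cfsg.Agent.Lib.Helper6.AutInduced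
  Cfsg.Agent.Lib.Helper6.OmegaAut Cfsg.Agent.Lib.Helper6.SimAut

section generic
variable {F : Type*} [Field F] [Fintype F] {ι : Type} [Fintype ι] [DecidableEq ι]
variable {Q : QuadraticForm F (ι → F)} [hS : Std Q]

/-- the field automorphism attached to an element of `PΓO` -/
noncomputable def psiGFun (β : ↥(Cfsg.gammaPOmega F ⇑Q)) : RingAut F :=
  (Classical.choose (exists_semi_of_mem β.1 β.2)).σ

theorem pgoAut_le_gamma : Cfsg.pgoAut F ⇑Q ≤ Cfsg.gammaPOmega F ⇑Q := by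
  unfold Cfsg.pgoAut Cfsg.autSubgroupOf
  rw [Subgroup.closure_le]
  rintro β ⟨g, ⟨c, hc⟩, hβ⟩
  have h1 : Cfsg.IsSemisimilarityPair (⇑Q) g (RingEquiv.refl F) := ⟨c, fun v => hc v⟩
  rw [SetLike.mem_coe, SemiSimO.eq_gam_of_induced g _ h1 β hβ]
  exact SemiSimO.gam_mem _

variable (p : ℕ) [hp : Fact p.Prime] [hcp : CharP F p]
include hp hcp

theorem psiGFun_eq (Φ : SemiSimO Q) : psiGFun (Q := Q) ⟨Φ.gam, Φ.gam_mem⟩ = Φ.σ :=
  σ_eq_of_gam_eq p _ _ (Classical.choose_spec (exists_semi_of_mem Φ.gam Φ.gam_mem))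

/-- **the homomorphism `PΓO → Aut(F)`** -/
noncomputable def psiG : ↥(Cfsg.gammaPOmega F ⇑Q) →* RingAut F where
  toFun := psiGFun
  map_one' := by
    have h : (1 : ↥(Cfsg.gammaPOmega F ⇑Q)) =
        ⟨(SemiSimO.one Q).gam, (SemiSimO.one Q).gam_mem⟩ := by
      apply Subtype.ext
      exact SemiSimO.gam_one.symm
    rw [h, psiGFun_eq p]
    rfl
  map_mul' β β' := by
    obtain ⟨β, hβ⟩ := β
    obtain ⟨β', hβ'⟩ := β'
    obtain ⟨Φ, rfl⟩ := exists_semi_of_mem β hβ
    obtain ⟨Ψ, rfl⟩ := exists_semi_of_mem β' hβ'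
    have h : (⟨Φ.gam, hβ⟩ * ⟨Ψ.gam, hβ'⟩ : ↥(Cfsg.gammaPOmega F ⇑Q)) =
        ⟨(Φ.comp Ψ).gam, (Φ.comp Ψ).gam_mem⟩ := by
      apply Subtype.ext
      exact (SemiSimO.gam_comp Φ Ψ).symm
    rw [h, psiGFun_eq p, psiGFun_eq p Φ, psiGFun_eq p Ψ]
    rfl

theorem psiG_gam (Φ : SemiSimO Q) : psiG p ⟨Φ.gam, Φ.gam_mem⟩ = Φ.σ := psiGFun_eq p Φ

/-- the kernel is the image of the similarity group -/
theorem psiG_ker :
    (psiG (Q := Q) p).ker = (Cfsg.pgoAut F ⇑Q).subgroupOf (Cfsg.gammaPOmega F ⇑Q) := by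
  ext ⟨β, hβ⟩
  rw [MonoidHom.mem_ker, Subgroup.mem_subgroupOf]
  constructor
  · intro h
    obtain ⟨Φ, rfl⟩ := exists_semi_of_mem β hβ
    rw [psiG_gam] at h
    have h1 := Φ.gam_induced
    have h2 := Φ.isSemi
    rw [h] at h1 h2
    refine Subgroup.subset_closure ⟨Φ.gl, ?_, h1⟩
    obtain ⟨c, hc⟩ := h2
    exact ⟨c, fun v => hc v⟩
  · intro h
    have key : Cfsg.pgoAut F ⇑Q ≤ ((psiG (Q := Q) p).ker).map (Subgroup.subtype _) := by
      unfold Cfsg.pgoAut Cfsg.autSubgroupOf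
      rw [Subgroup.closure_le]
      rintro β ⟨g, ⟨c, hc⟩, hβ⟩
      have h1 : Cfsg.IsSemisimilarityPair (⇑Q) g (RingEquiv.refl F) := ⟨c, fun v => hc v⟩
      rw [SetLike.mem_coe, SemiSimO.eq_gam_of_induced g _ h1 β hβ]
      refine ⟨⟨_, SemiSimO.gam_mem _⟩, ?_, rfl⟩
      rw [SetLike.mem_coe, MonoidHom.mem_ker, psiG_gam]
      rfl
    obtain ⟨γ, hγ, hγβ⟩ := key h
    have h3 : γ = ⟨β, hβ⟩ := Subtype.ext hγβ
    rw [← h3]
    exact hγ

/-- the order of `PΓO` in terms of the image of the similarity group -/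
theorem card_gamma_eq (hsurj : ∀ σ : F ≃+* F, ∃ Φ : SemiSimO Q, Φ.σ = σ) :
    Nat.card (Cfsg.gammaPOmega F ⇑Q) =
      Nat.card (Cfsg.pgoAut F ⇑Q) * Nat.card (RingAut F) := by
  have hs : Function.Surjective (psiG (Q := Q) p) := by
    intro σ
    obtain ⟨Φ, hΦ⟩ := hsurj σ
    exact ⟨⟨Φ.gam, Φ.gam_mem⟩, by rw [psiG_gam, hΦ]⟩
  have h1 := Subgroup.card_mul_index (psiG (Q := Q) p).ker
  rw [Subgroup.index_ker, MonoidHom.range_eq_top.mpr hs, Subgroup.card_top, psiG_ker,
    Nat.card_congr (Subgroup.subgroupOfEquivOfLe (pgoAut_le_gamma (Q := Q))).toEquiv] at h1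
  exact h1.symm

end generic

section plus
variable (F : Type*) [Field F] [Fintype F] (m : ℕ)

/-- the field automorphisms of the plus-type form -/
noncomputable def fieldPlus (σ : F ≃+* F) : SemiSimO (QPlus F m) where
  S x := fun i => σ (x i)
  σ := σ
  ν := 1
  hν := one_ne_zero
  add x y := by
    funext i
    simp
  smul a x := by
    funext i
    simp
  form x := by
    rw [one_mul, QPlus_apply, QPlus_apply]
    unfold Cfsg.quadFormPlus
    rw [map_sum]
    apply Finset.sum_congr rfl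
    intro i _
    rw [map_mul]

theorem fieldPlus_σ (σ : F ≃+* F) : (fieldPlus F m σ).σ = σ := rfl

theorem fieldPlus_S (σ : F ≃+* F) (x : Fin m ⊕ Fin m → F) :
    (fieldPlus F m σ).S x = fun i => σ (x i) := rfl

variable {F} {m}

theorem card_KK : Fintype.card (Fin m ⊕ Fin m) = 2 * m := by
  rw [Fintype.card_sum, Fintype.card_fin]; omega

theorem std_QPlus (hm : 4 ≤ m) : Std (QPlus F m) :=
  { nondeg := nondegenerate_QPlus F m
    seven := by rw [card_KK]; omega
    triple := ⟨plusTriple' F m (by omega)⟩ }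

/-- the order of the image of the similarity group, plus type, `q` odd -/
theorem card_pgoAut_plus_odd [DecidableEq F] (hodd : Odd (Fintype.card F)) (hm : 4 ≤ m) :
    Nat.card (Cfsg.pgoAut F ⇑(QPlus F m)) =
      (if Odd m ∧ Fintype.card F % 4 = 3 then 4 else 8) *
        Nat.card (Cfsg.POmega F ⇑(QPlus F m)) := by
  have hfun : Cfsg.quadFormPlus m F = ⇑(QPlus F m) := (funext (QPlus_apply F m)).symm
  have hnd := nondegenerate_QPlus F m
  have h5 : 5 ≤ Fintype.card (Fin m ⊕ Fin m) := by rw [card_KK]; omega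
  have hI := card_Inn_of_perfect_quot (Omega_perfect (QPlus F m) hnd h5)
  obtain ⟨h1, h2⟩ := Cfsg.Agent.S2724.result hodd hm
  rw [hfun] at h1 h2
  split_ifs with hc
  · obtain ⟨φ, hφ, hker⟩ := h1 hc
    rw [card_of_surj_ker _ _ (Inn_le_pgoAut _) φ hφ hker]
    congr 1
    rw [Nat.card_eq_fintype_card]
    rfl
  · obtain ⟨φ, hφ, hker⟩ := h2 hc
    rw [card_of_surj_ker _ _ (Inn_le_pgoAut _) φ hφ hker]
    congr 1
    rw [Nat.card_eq_fintype_card, DihedralGroup.card]

/-- **`|Aut(PΩ⁺_{2m}(q))|`**, `m ≥ 4` -/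
theorem card_aut_plus (p f : ℕ) [Fact p.Prime] (hf : 1 ≤ f) (hF : Fintype.card F = p ^ f)
    (hm : 4 ≤ m) :
    Nat.card (MulAut (Cfsg.POmega F (Cfsg.quadFormPlus m F))) =
      (if m = 4 then 3 else 1) *
        (if p = 2 then 2 else (if Even (m * (p ^ f - 1) / 2) then 8 else 4)) * f *
          Nat.card (Cfsg.POmega F (Cfsg.quadFormPlus m F)) := by
  classical
  have hfun : Cfsg.quadFormPlus m F = ⇑(QPlus F m) := (funext (QPlus_apply F m)).symm
  have hΓtop : m ≠ 4 → Cfsg.gammaPOmega F ⇑(QPlus F m) = ⊤ := by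
    intro h4
    have := gamma_plus_eq_top (F := F) (m := m) (by omega)
    rwa [hfun] at this
  rw [hfun]
  haveI := std_QPlus (F := F) hm
  haveI : CharP F p := charP_of_card_pow' hF
  have hp : p.Prime := Fact.out
  have h5 : 5 ≤ Fintype.card (Fin m ⊕ Fin m) := by rw [card_KK]; omega
  -- the order of `PΓO`
  have hG : Nat.card (Cfsg.gammaPOmega F ⇑(QPlus F m)) =
      Nat.card (Cfsg.pgoAut F ⇑(QPlus F m)) * f := by
    rw [card_gamma_eq p (fun σ => ⟨fieldPlus F m σ, rfl⟩), card_ringAut' hF hf]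
  -- the order of `Aut`
  have hA : Nat.card (MulAut (Cfsg.POmega F ⇑(QPlus F m))) =
      (if m = 4 then 3 else 1) * Nat.card (Cfsg.gammaPOmega F ⇑(QPlus F m)) := by
    split_ifs with h4
    · subst h4
      rw [← Subgroup.card_mul_index (Cfsg.gammaPOmega F ⇑(QPlus F 4)),
        index_gamma_eq_three p, mul_comm]
    · rw [hΓtop h4, Subgroup.card_top, one_mul]
  -- the order of `PGO`
  have hK : Nat.card (Cfsg.pgoAut F ⇑(QPlus F m)) =
      (if p = 2 then 2 else (if Even (m * (p ^ f - 1) / 2) then 8 else 4)) *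
        Nat.card (Cfsg.POmega F ⇑(QPlus F m)) := by
    split_ifs with h2 he
    · subst h2
      have h2F : (2 : F) = 0 := by
        have := CharP.cast_eq_zero F 2
        exact_mod_cast this
      exact card_pgoAut_two (QPlus F m) h2F (nondegenerate_QPlus F m) h5
        (plusTriple' F m (by omega))
    · have hpodd : Odd p := hp.odd_of_ne_two h2
      have hoddF : Odd (Fintype.card F) := by rw [hF]; exact hpodd.pow
      rw [card_pgoAut_plus_odd hoddF hm, if_neg]
      rintro ⟨hmo, hq⟩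
      rw [hF] at hq
      obtain ⟨k, hk⟩ := hmo
      obtain ⟨j, hj⟩ : ∃ j, p ^ f = 4 * j + 3 := ⟨p ^ f / 4, by omega⟩
      rw [hj, hk] at he
      have e1 : (2 * k + 1) * (4 * j + 3 - 1) / 2 = (2 * k + 1) * (2 * j + 1) := by
        have : (2 * k + 1) * (4 * j + 3 - 1) = 2 * ((2 * k + 1) * (2 * j + 1)) := by
          have : 4 * j + 3 - 1 = 2 * (2 * j + 1) := by omega
          rw [this]; ring
        rw [this, Nat.mul_div_cancel_left _ (by norm_num : 0 < 2)]
      rw [e1] at he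
      have : Odd ((2 * k + 1) * (2 * j + 1)) := Odd.mul ⟨k, rfl⟩ ⟨j, rfl⟩
      exact (Nat.not_even_iff_odd.mpr this) he
    · have hpodd : Odd p := hp.odd_of_ne_two h2
      have hoddF : Odd (Fintype.card F) := by rw [hF]; exact hpodd.pow
      rw [card_pgoAut_plus_odd hoddF hm, if_pos]
      rw [hF]
      obtain ⟨j, hj⟩ := hoddF
      rw [hF] at hj
      rcases Nat.even_or_odd m with hme | hmo
      · exfalso
        apply he
        obtain ⟨k, hk⟩ := hme
        rw [hj, hk]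
        have : (k + k) * (2 * j + 1 - 1) / 2 = 2 * (k * j) := by
          have : (k + k) * (2 * j + 1 - 1) = 2 * (2 * (k * j)) := by
            have : 2 * j + 1 - 1 = 2 * j := by omega
            rw [this]; ring
          rw [this, Nat.mul_div_cancel_left _ (by norm_num : 0 < 2)]
        rw [this]
        exact even_two_mul _
      · refine ⟨hmo, ?_⟩
        by_contra hq
        apply he
        obtain ⟨i, hi⟩ : ∃ i, p ^ f = 4 * i + 1 := ⟨p ^ f / 4, by omega⟩
        rw [hi]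
        have : m * (4 * i + 1 - 1) / 2 = 2 * (m * i) := by
          have : m * (4 * i + 1 - 1) = 2 * (2 * (m * i)) := by
            have : 4 * i + 1 - 1 = 4 * i := by omega
            rw [this]; ring
          rw [this, Nat.mul_div_cancel_left _ (by norm_num : 0 < 2)]
        rw [this]
        exact even_two_mul _
  rw [hA, hG, hK]
  ring

end plus

end Cfsg.Agent.Lib.Helper6.Tri
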