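import Mathlib
import Cfsg.Agent.Lib.Helper6.PlusCentB
import Cfsg.Agent.Lib.Helper6.TriJ

/-!
# Field automorphisms of `PΩ⁺`, part C: the inner-diagonal group `Ip`, its normality
-/

set_option autoImplicit false
set_option linter.unusedSectionVars false
set_option linter.unusedVariables false
set_option linter.style.haveILetI false

namespace Cfsg.Agent.Lib.Helper6.PlusCent

open Module QuadraticMap Matrix Cfsg.Agent.Lib.Helper6 Cfsg.Agent.Lib.Helper15
  Cfsg.Agent.Lib.Helper6.OmegaAut Cfsg.Agent.Lib.Helper6.SimAut Cfsg.Agent.Lib.Helper6.SingClass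
  Cfsg.Agent.Lib.Helper6.Inndiag Cfsg.Agent.Lib.Helper6.AutInduced Cfsg.Agent.S2722 Cfsg.Agent.S2725
  Cfsg.Agent.Lib.Helper16.FieldCentOmegaOdd Cfsg.Agent.Lib.Helper16.FieldCentOrth
  Cfsg.Agent.Lib.Helper6.AutOrt Cfsg.Agent.Lib.Helper6.Tri

variable {F : Type*} [Field F] [Fintype F] {m : ℕ}

variable (F m) in
/-- the image of the class preserving similarities in the automorphism group -/
noncomputable def Ip : Subgroup (MulAut (Cfsg.POmega F ⇑(QPlus F m))) :=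
  (Kp F m).map (fGO (QPlus F m))

theorem closure_eq_Ip :
    Subgroup.closure {β : MulAut (Cfsg.POmega F ⇑(QPlus F m)) | ∃ g : GL (Fin m ⊕ Fin m) F,
      g ∈ Cfsg.Geo.quadSimilarityGroup (F := F) ⇑(QPlus F m) ∧
      Cfsg.PreservesSingularClasses ⇑(QPlus F m) (g : Matrix (Fin m ⊕ Fin m) (Fin m ⊕ Fin m) F) ∧
      Cfsg.IsInducedBySemilinearPOmega ⇑(QPlus F m) g (RingEquiv.refl F) β} = Ip F m := by
  classical
  exact inndiag_eq (QPlus F m) (Kp F m) (fun g => (mem_Kp g).symm)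

theorem Ip_le_pgoAut : Ip F m ≤ Cfsg.pgoAut F ⇑(QPlus F m) := by
  classical
  rw [pgoAut_eq_range]
  rintro _ ⟨g, -, rfl⟩
  exact ⟨g, rfl⟩

/-- the inner automorphisms are inner-diagonal -/
theorem Inn_le_Ip : Cfsg.Inn (Cfsg.POmega F ⇑(QPlus F m)) ≤ Ip F m := by
  classical
  set O := Cfsg.isometryGroup F ⇑(QPlus F m) with hO
  set ιO : ↥O →* ↥(GO (QPlus F m)) := Subgroup.inclusion (isometryGroup_le_GO (QPlus F m)) with hι
  have hcomm : commutator ↥O ≤ (Kp F m).comap ιO := by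
    rw [commutator_def, Subgroup.commutator_le]
    intro a _ b _
    rw [Subgroup.mem_comap, commutatorElement_def, map_mul, map_mul, map_mul, map_inv, map_inv]
    exact comm_mem_Kp _ _
  rw [Inn_eq, img_eq_map (QPlus F m) _ ((OmX_le _).trans (isometryGroup_le_GO (QPlus F m)))]
  rintro _ ⟨g, hg, rfl⟩
  rw [SetLike.mem_coe, Subgroup.mem_subgroupOf, mem_OmX] at hg
  obtain ⟨s, hs⟩ := hg
  refine ⟨g, ?_, rfl⟩
  have h1 := hcomm s.2
  rw [Subgroup.mem_comap] at h1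
  have h2 : ιO s.1 = g := Subtype.ext hs
  rwa [h2] at h1

section charp
variable (p : ℕ) [hp : Fact p.Prime] [hcp : CharP F p]

include hp hcp in
theorem ker_fGO_le_Kp (hm : 4 ≤ m) : (fGO (QPlus F m)).ker ≤ Kp F m := by
  haveI := std_QPlus (F := F) hm
  intro g hg
  rw [MonoidHom.mem_ker, fGO_eq_one_iff' p] at hg
  obtain ⟨c, hc⟩ := hg
  apply mem_Kp_of_le
  intro x hx
  obtain ⟨y, hy, rfl⟩ := (mem_image _ (U0 F m) x).mp hx
  rw [hc, Matrix.smul_mulVec, Matrix.one_mulVec]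
  exact (U0 F m).smul_mem _ hy

include hp hcp in
theorem fGO_mem_Ip_iff (hm : 4 ≤ m) (g : ↥(GO (QPlus F m))) :
    fGO (QPlus F m) g ∈ Ip F m ↔ g ∈ Kp F m := by
  classical
  exact fGO_mem_map_iff (QPlus F m) (Kp F m) (ker_fGO_le_Kp p hm) g

/-- twisting a similarity by a field automorphism -/
noncomputable def twist (hm : 4 ≤ m) (σ : F ≃+* F) : ↥(GO (QPlus F m)) →* ↥(GO (QPlus F m)) :=
  mapGO' (σ : F →+* F) (by omega)

theorem twist_val (hm : 4 ≤ m) (σ : F ≃+* F) (g : ↥(GO (QPlus F m))) :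
    ((twist hm σ g).1 : Matrix (Fin m ⊕ Fin m) (Fin m ⊕ Fin m) F) =
      (g.1 : Matrix (Fin m ⊕ Fin m) (Fin m ⊕ Fin m) F).map σ := rfl

theorem twist_mem_Kp_iff (hm : 4 ≤ m) (σ : F ≃+* F) (g : ↥(GO (QPlus F m))) :
    twist hm σ g ∈ Kp F m ↔ g ∈ Kp F m :=
  mapGO'_mem_Kp_iff (σ : F →+* F) (by omega) g

/-- conjugating by a field automorphism -/
theorem conj_field [Std (QPlus F m)] (hm : 4 ≤ m) (σ : F ≃+* F) (g : ↥(GO (QPlus F m))) :
    (fieldPlus F m σ).gam * fGO (QPlus F m) g * ((fieldPlus F m σ).gam)⁻¹ =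
      fGO (QPlus F m) (twist hm σ g) := by
  rw [mul_inv_eq_iff_eq_mul, fGO_eq_gam, fGO_eq_gam, ← SemiSimO.gam_comp, ← SemiSimO.gam_comp]
  apply SemiSimO.gam_eq_of_S_eq
  intro x
  change (fieldPlus F m σ).S (((g.1 : GL (Fin m ⊕ Fin m) F) : Matrix _ _ F) *ᵥ x) =
    ((twist hm σ g).1 : Matrix (Fin m ⊕ Fin m) (Fin m ⊕ Fin m) F) *ᵥ (fieldPlus F m σ).S x
  rw [fieldPlus_S, fieldPlus_S, twist_val, map_mulVec_apply']

include hp hcp in
/-- field automorphisms normalise the inner-diagonal group -/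
theorem Ip_conj_field [Std (QPlus F m)] (hm : 4 ≤ m) (σ : F ≃+* F) (β : MulAut (Cfsg.POmega F ⇑(QPlus F m)))
    (hβ : β ∈ Ip F m) :
    (fieldPlus F m σ).gam * β * ((fieldPlus F m σ).gam)⁻¹ ∈ Ip F m := by
  obtain ⟨g, hg, rfl⟩ := hβ
  rw [conj_field hm σ g, fGO_mem_Ip_iff p hm]
  exact (twist_mem_Kp_iff hm σ g).mpr hg

include hp hcp in
/-- the similarity group normalises the inner-diagonal group -/
theorem Ip_conj_fGO (hm : 4 ≤ m) (k : ↥(GO (QPlus F m))) (β : MulAut (Cfsg.POmega F ⇑(QPlus F m)))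
    (hβ : β ∈ Ip F m) :
    fGO (QPlus F m) k * β * (fGO (QPlus F m) k)⁻¹ ∈ Ip F m := by
  obtain ⟨g, hg, rfl⟩ := hβ
  rw [← map_inv, ← map_mul, ← map_mul, fGO_mem_Ip_iff p hm]
  exact Kp_normal.conj_mem g hg k

include hp hcp in
/-- for `m ≥ 5` the inner-diagonal group is normal in the automorphism group -/
theorem Ip_normal_of_HP [Std (QPlus F m)] (hm : 4 ≤ m) (hP : HP (QPlus F m)) :
    (Ip F m).Normal := by
  classical
  constructor
  intro β hβ α
  have h1 : α * ((fieldPlus F m (psiO p hP α)).gam)⁻¹ ∈ (psiO p hP).ker := by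
    rw [MonoidHom.mem_ker, map_mul, map_inv, psiO_gam, fieldPlus_σ, mul_inv_cancel]
  rw [psiO_ker, pgoAut_eq_range] at h1
  obtain ⟨k, hk⟩ := h1
  have e : α = fGO (QPlus F m) k * (fieldPlus F m (psiO p hP α)).gam := by
    rw [hk, inv_mul_cancel_right]
  set φ := (fieldPlus F m (psiO p hP α)).gam with hφ
  have e2 : α * β * α⁻¹ = fGO (QPlus F m) k * (φ * β * φ⁻¹) * (fGO (QPlus F m) k)⁻¹ := by
    rw [e]; group
  rw [e2]
  exact Ip_conj_fGO p hm k _ (Ip_conj_field p hm _ β hβ)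

end charp

section odd

/-- odd characteristic: class preserving iff `det g = μ(g)^m` -/
theorem mem_Kp_iff_det (h2 : (2 : F) ≠ 0) (hm : 3 ≤ m) (g : ↥(GO (QPlus F m))) :
    g ∈ Kp F m ↔ ((g.1 : GL (Fin m ⊕ Fin m) F) : Matrix (Fin m ⊕ Fin m) (Fin m ⊕ Fin m) F).det =
      (mulr (QPlus F m) g : F) ^ m := by
  obtain ⟨vs, hvs, hg⟩ := exists_decomp hm g
  rw [mem_Kp_iff_of_decomp g _ vs hvs hg, hg, Matrix.det_mul, plusSim_det,
    det_refl_list (QPlus F m) h2 vs hvs]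
  have hne : (-1 : F) ≠ 1 := by
    intro h
    apply h2
    linear_combination -h
  have hm0 : ((mulr (QPlus F m) g : Fˣ) : F) ^ m ≠ 0 := pow_ne_zero _ (Units.ne_zero _)
  constructor
  · intro he
    rw [he.neg_one_pow, mul_one]
  · intro h
    have h1 : (-1 : F) ^ vs.length = 1 := by
      apply mul_left_cancel₀ hm0
      rw [h, mul_one]
    exact (neg_one_pow_eq_one_iff_even hne).mp h1

end odd

section two

/-- characteristic two: the inner-diagonal group is the group of inner automorphisms -/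
theorem Ip_eq_Inn_two (h2 : (2 : F) = 0) (hm : 4 ≤ m) :
    Ip F m = Cfsg.Inn (Cfsg.POmega F ⇑(QPlus F m)) := by
  classical
  haveI : Fact (Nat.Prime 2) := ⟨Nat.prime_two⟩
  haveI : CharP F 2 := CharTwo.of_one_ne_zero_of_two_eq_zero one_ne_zero h2
  have hnd := nondegenerate_QPlus F m
  have h5 : 5 ≤ Fintype.card (Fin m ⊕ Fin m) := by rw [card_idx]; omega
  have T := plusTriple' F m (by omega)
  have hidx : (Cfsg.Inn (Cfsg.POmega F ⇑(QPlus F m))).relIndex
      (Cfsg.pgoAut F ⇑(QPlus F m)) = 2 := by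
    rw [pgoAut_eq_poAut_two (QPlus F m) h2 hnd h5]
    exact relIndex_Inn_poAut_two (QPlus F m) h2 hnd h5 T
  have hmul := Subgroup.relIndex_mul_relIndex _ _ _ (Inn_le_Ip (F := F) (m := m))
    (Ip_le_pgoAut (F := F) (m := m))
  rw [hidx] at hmul
  -- a reflection is not inner-diagonal
  have hv := T_nonsingular (QPlus F m) T
  obtain ⟨r, -, hr⟩ := exists_GO_of_list [T.u 0 + T.w 0] (by
    intro w hw
    rw [List.mem_singleton] at hw
    rw [hw]; exact hv)
  rw [List.map_cons, List.map_nil, List.prod_cons, List.prod_nil, mul_one] at hr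
  have hrK := refl_not_mem_Kp r _ hv hr
  have hne : (Ip F m).relIndex (Cfsg.pgoAut F ⇑(QPlus F m)) ≠ 1 := by
    intro h1
    rw [Subgroup.relIndex_eq_one] at h1
    apply hrK
    rw [← fGO_mem_Ip_iff 2 hm]
    apply h1
    rw [pgoAut_eq_range]
    exact ⟨r, rfl⟩
  have h3 : (Cfsg.Inn (Cfsg.POmega F ⇑(QPlus F m))).relIndex (Ip F m) = 1 := by
    have hd : (Ip F m).relIndex (Cfsg.pgoAut F ⇑(QPlus F m)) ∣ 2 := ⟨_, (mul_comm _ _).trans hmul |>.symm⟩
    rcases (Nat.dvd_prime Nat.prime_two).mp hd with h | h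
    · exact absurd h hne
    · rw [h] at hmul
      omega
  exact le_antisymm (Subgroup.relIndex_eq_one.mp h3) Inn_le_Ip

end two

end Cfsg.Agent.Lib.Helper6.PlusCent
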