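import Mathlib

/-!
# Group theory for outer automorphism groups: recognising `S₄ × C`
-/

set_option autoImplicit false
set_option linter.unusedSectionVars false
set_option linter.unusedVariables false

namespace Cfsg.Agent.Lib.Helper6.OutGrp

section s3

variable {G : Type*} [Group G] (a b : G)

/-- the elements of the group generated by two involutions satisfying the braid relation -/
theorem mem_closure_braid (ha : a * a = 1) (hb : b * b = 1) (hbraid : a * b * a = b * a * b)
    (h : G) (hh : h ∈ Subgroup.closure ({a, b} : Set G)) :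
    h = 1 ∨ h = a ∨ h = b ∨ h = a * b ∨ h = b * a ∨ h = a * b * a := by
  have hainv : a⁻¹ = a := inv_eq_of_mul_eq_one_right ha
  have hbinv : b⁻¹ = b := inv_eq_of_mul_eq_one_right hb
  have key : ∀ x ∈ ({a, b} : Set G), ∀ y : G,
      (y = 1 ∨ y = a ∨ y = b ∨ y = a * b ∨ y = b * a ∨ y = a * b * a) →
      (x * y = 1 ∨ x * y = a ∨ x * y = b ∨ x * y = a * b ∨ x * y = b * a ∨ x * y = a * b * a) := by
    intro x hx y hy
    rcases hx with rfl | hx
    · rcases hy with rfl | rfl | rfl | rfl | rfl | rfl
      · right; left; rw [mul_one]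
      · left; exact ha
      · right; right; right; left; rfl
      · right; right; left; rw [← mul_assoc, ha, one_mul]
      · right; right; right; right; right; rw [mul_assoc]
      · right; right; right; right; left
        rw [← mul_assoc, ← mul_assoc, ha, one_mul]
    · rw [Set.mem_singleton_iff] at hx
      subst hx
      rcases hy with rfl | rfl | rfl | rfl | rfl | rfl
      · right; right; left; rw [mul_one]
      · right; right; right; right; left; rfl
      · left; exact hb
      · right; right; right; right; right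
        rw [← mul_assoc, hbraid]
      · right; left; rw [← mul_assoc, hb, one_mul]
      · right; right; right; left
        rw [hbraid, ← mul_assoc, ← mul_assoc, hb, one_mul]
  induction hh using Subgroup.closure_induction_left with
  | one => left; rfl
  | mul_left x hx y hy ih => exact key x hx y ih
  | inv_mul_cancel x hx y hy ih =>
    have hx' : x⁻¹ ∈ ({a, b} : Set G) := by
      rcases hx with rfl | hx
      · rw [hainv]; left; rfl
      · rw [Set.mem_singleton_iff] at hx
        subst hx
        rw [hbinv]; right; rfl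
    exact key _ hx' y ih

theorem braid_cube (ha : a * a = 1) (hb : b * b = 1) (hbraid : a * b * a = b * a * b) :
    (a * b) ^ 3 = 1 := by
  have e : (a * b) ^ 3 = (a * b * a) * (b * a * b) := by
    rw [pow_succ, pow_two]
    simp only [mul_assoc]
  rw [e, ← hbraid]
  calc a * b * a * (a * b * a) = a * b * (a * a) * b * a := by simp only [mul_assoc]
    _ = a * (b * b) * a := by rw [ha, mul_one]; simp only [mul_assoc]
    _ = 1 := by rw [hb, mul_one, ha]

end s3

/-- recognising `S₄ × C` -/
theorem nonempty_mulEquiv_S4_prod {G P C : Type*} [Group G] [Finite G] [Group P] [Group C]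
    [Finite C] {f : ℕ} (hf : 1 ≤ f) (hG : Nat.card G = 24 * f) (hC : Nat.card C = f)
    (π : G →* P) (Ψ : G →* C) (s : C →* G) (a b z : G)
    (ha : a * a = 1) (hb : b * b = 1) (hbraid : a * b * a = b * a * b)
    (hΨa : Ψ a = 1) (hΨb : Ψ b = 1) (hπa : π a ≠ 1) (hπb : π b ≠ 1) (hπab : π a ≠ π b)
    (hΨs : ∀ c, Ψ (s c) = c)
    (hsa : ∀ c, s c * a = a * s c) (hsb : ∀ c, s c * b = b * s c)
    (hπz : π z = 1) (hz : z * (b * a) ≠ (b * a) * z) :
    Nonempty (G ≃* Equiv.Perm (Fin 4) × C) := by
  classical
  have hainv : a⁻¹ = a := inv_eq_of_mul_eq_one_right ha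
  have hbinv : b⁻¹ = b := inv_eq_of_mul_eq_one_right hb
  set H : Subgroup G := Subgroup.closure ({a, b} : Set G) with hH
  have haH : a ∈ H := Subgroup.subset_closure (Or.inl rfl)
  have hbH : b ∈ H := Subgroup.subset_closure (Or.inr rfl)
  have hL := mem_closure_braid a b ha hb hbraid
  -- `π` separates the elements of `H`
  have hπ1 : ∀ h ∈ H, π h = 1 → h = 1 := by
    intro h hh hπh
    rcases hL h hh with rfl | rfl | rfl | rfl | rfl | rfl
    · rfl
    · exact absurd hπh hπa
    · exact absurd hπh hπb
    · exfalso
      apply hπab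
      rw [map_mul] at hπh
      have h1 := eq_inv_of_mul_eq_one_left hπh
      rw [h1, ← map_inv, hbinv]
    · exfalso
      apply hπab
      rw [map_mul] at hπh
      have h1 := eq_inv_of_mul_eq_one_right hπh
      rw [h1, ← map_inv, hbinv]
    · exfalso
      apply hπb
      rw [map_mul, map_mul] at hπh
      have h2 : π a * π a = 1 := by rw [← map_mul, ha, map_one]
      calc π b = (π a * π a) * π b * (π a * π a) := by rw [h2, one_mul, mul_one]
        _ = π a * (π a * π b * π a) * π a := by simp only [mul_assoc]
        _ = 1 := by rw [hπh, mul_one, h2]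
  have hΨH : ∀ h ∈ H, Ψ h = 1 := by
    have : H ≤ Ψ.ker := by
      rw [hH, Subgroup.closure_le]
      rintro x (rfl | hx)
      · exact hΨa
      · rw [Set.mem_singleton_iff] at hx
        subst hx
        exact hΨb
    intro h hh
    exact this hh
  have hcomm : ∀ h ∈ H, ∀ c, s c * h = h * s c := by
    intro h hh c
    have : H ≤ Subgroup.centralizer {s c} := by
      rw [hH, Subgroup.closure_le]
      rintro x (rfl | hx)
      · intro y hy
        rw [Set.mem_singleton_iff] at hy
        subst hy
        exact hsa c
      · rw [Set.mem_singleton_iff] at hx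
        subst hx
        intro y hy
        rw [Set.mem_singleton_iff] at hy
        subst hy
        exact hsb c
    exact this hh (s c) rfl
  -- the complement
  set ν : ↥H × C →* G := MonoidHom.noncommCoprod H.subtype s
    (fun h c => (hcomm h.1 h.2 c).symm) with hν
  have hνa : ∀ x : ↥H × C, ν x = (x.1 : G) * s x.2 := fun x => rfl
  set M : Subgroup G := ν.range with hM
  have hνinj : Function.Injective ν := by
    rw [injective_iff_map_eq_one]
    intro x hx
    rw [hνa] at hx
    have h1 : Ψ ((x.1 : G) * s x.2) = 1 := by rw [hx, map_one]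
    rw [map_mul, hΨH _ x.1.2, one_mul, hΨs] at h1
    rw [h1, map_one, mul_one] at hx
    exact Prod.ext (Subtype.ext hx) h1
  have hMH : ∀ x ∈ M, Ψ x = 1 → x ∈ H := by
    rintro x ⟨y, rfl⟩ hx
    rw [hνa, map_mul, hΨH _ y.1.2, one_mul, hΨs] at hx
    rw [hνa, hx, map_one, mul_one]
    exact y.1.2
  -- the normal core of `H` is trivial
  have hcore : ∀ x ∈ H.normalCore, x = 1 := by
    intro x hx
    by_contra hx1
    have hN : H.normalCore.Normal := Subgroup.normalCore_normal H
    have hba : b * a ∈ H.normalCore := by
      rcases hL x (Subgroup.normalCore_le H hx) with h | h | h | h | h | h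
      · exact absurd h hx1
      · have hx : a ∈ H.normalCore := h ▸ hx
        have h1 := hN.conj_mem _ hx b
        have h2 := Subgroup.mul_mem _ hx h1
        rw [hbinv] at h2
        have e : a * (b * a * b) = b * a := by
          rw [← hbraid, ← mul_assoc, ← mul_assoc, ha, one_mul]
        rwa [e] at h2
      · have hx : b ∈ H.normalCore := h ▸ hx
        have h1 := hN.conj_mem _ hx a
        have h2 := Subgroup.mul_mem _ h1 hx
        rw [hainv] at h2
        have e : a * b * a * b = b * a := by
          rw [hbraid, mul_assoc, hb, mul_one]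
        rwa [e] at h2
      · have hx : a * b ∈ H.normalCore := h ▸ hx
        have h1 := Subgroup.inv_mem _ hx
        rwa [mul_inv_rev, hainv, hbinv] at h1
      · exact h ▸ hx
      · have hx : a * b * a ∈ H.normalCore := h ▸ hx
        have h1 := hN.conj_mem _ hx a
        rw [hainv] at h1
        have e : a * (a * b * a) * a = b := by
          calc a * (a * b * a) * a = (a * a) * b * (a * a) := by simp only [mul_assoc]
            _ = b := by rw [ha, one_mul, mul_one]
        rw [e] at h1
        have h2 := hN.conj_mem _ h1 a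
        have h3 := Subgroup.mul_mem _ h2 h1
        rw [hainv] at h3
        have e2 : a * b * a * b = b * a := by
          rw [hbraid, mul_assoc, hb, mul_one]
        rwa [e2] at h3
    have h1 : z * (b * a) * z⁻¹ ∈ H := hba z
    have h2 : (b * a)⁻¹ * (z * (b * a) * z⁻¹) ∈ H :=
      Subgroup.mul_mem _ (Subgroup.inv_mem _ (Subgroup.mul_mem _ hbH haH)) h1
    have h3 : π ((b * a)⁻¹ * (z * (b * a) * z⁻¹)) = 1 := by
      rw [map_mul, map_mul, map_mul, map_inv, map_inv, hπz, inv_one, mul_one, one_mul,
        inv_mul_cancel]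
    have h4 := hπ1 _ h2 h3
    apply hz
    have h5 : z * (b * a) * z⁻¹ = b * a := (inv_mul_eq_one.mp h4).symm
    calc z * (b * a) = (z * (b * a) * z⁻¹) * z := by group
      _ = b * a * z := by rw [h5]
  -- the action on the cosets of the complement
  set ρ : G →* Equiv.Perm (G ⧸ M) := MulAction.toPermHom G (G ⧸ M) with hρ
  set Θ : G →* Equiv.Perm (G ⧸ M) × C := ρ.prod Ψ with hΘ
  have hΘinj : Function.Injective Θ := by
    rw [injective_iff_map_eq_one]
    intro x hx
    have hx' : x ∈ Θ.ker := hx
    rw [hΘ, MonoidHom.ker_prod, Subgroup.mem_inf, hρ, ← Subgroup.normalCore_eq_ker] at hx'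
    obtain ⟨h1, h2⟩ := hx'
    apply hcore
    intro g
    apply hMH _ (h1 g)
    rw [map_mul, map_mul, map_inv, MonoidHom.mem_ker.mp h2, mul_one, mul_inv_cancel]
  -- the order of the complement
  have hcardM : Nat.card M = Nat.card H * f := by
    rw [hM, ← Nat.card_congr (MonoidHom.ofInjective hνinj).toEquiv, Nat.card_prod, hC]
  have h6 : 6 ∣ Nat.card H := by
    have h2 : orderOf (⟨a, haH⟩ : ↥H) = 2 := by
      haveI : Fact (Nat.Prime 2) := ⟨Nat.prime_two⟩
      apply orderOf_eq_prime
      · apply Subtype.ext
        rw [pow_two]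
        exact ha
      · intro h
        apply hπa
        have : a = 1 := congrArg Subtype.val h
        rw [this, map_one]
    have h3 : orderOf (⟨a * b, Subgroup.mul_mem _ haH hbH⟩ : ↥H) = 3 := by
      haveI : Fact (Nat.Prime 3) := ⟨Nat.prime_three⟩
      apply orderOf_eq_prime
      · apply Subtype.ext
        exact braid_cube a b ha hb hbraid
      · intro h
        have h' : a * b = 1 := congrArg Subtype.val h
        apply hπab
        have h1 := eq_inv_of_mul_eq_one_left h'
        rw [h1, hbinv]
    have d2 : 2 ∣ Nat.card H := h2 ▸ orderOf_dvd_natCard _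
    have d3 : 3 ∣ Nat.card H := h3 ▸ orderOf_dvd_natCard _
    exact Nat.Coprime.mul_dvd_of_dvd_of_dvd (by norm_num) d2 d3
  have hidx := Subgroup.index_mul_card M
  rw [hcardM, hG] at hidx
  have hfpos : 0 < f := by omega
  have hidx' : M.index * Nat.card H = 24 := by
    apply Nat.eq_of_mul_eq_mul_right hfpos
    rw [mul_assoc]
    exact hidx
  have hHpos : 0 < Nat.card H := Nat.card_pos
  have hle4 : M.index ≤ 4 := by
    obtain ⟨k, hk⟩ := h6
    rw [hk] at hidx' hHpos
    have hk1 : 1 ≤ k := by omega
    by_contra hcon
    push Not at hcon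
    have : 5 * (6 * 1) ≤ M.index * (6 * k) := Nat.mul_le_mul hcon (Nat.mul_le_mul_left 6 hk1)
    omega
  haveI : Finite (G ⧸ M) := inferInstance
  have hcardQ : Nat.card (G ⧸ M) = M.index := (Subgroup.index_eq_card M).symm
  have hge4 : 4 ≤ M.index := by
    by_contra hcon
    push Not at hcon
    have h1 : Nat.card G ≤ Nat.card (Equiv.Perm (G ⧸ M) × C) :=
      Nat.card_le_card_of_injective Θ hΘinj
    rw [Nat.card_prod, Nat.card_perm, hcardQ, hC, hG] at h1
    have h2 : (M.index).factorial ≤ 6 := by
      have : M.index ≤ 3 := by omega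
      calc (M.index).factorial ≤ (3).factorial := Nat.factorial_le this
        _ = 6 := rfl
    have h3 : (M.index).factorial * f ≤ 6 * f := Nat.mul_le_mul_right f h2
    omega
  have hidx4 : M.index = 4 := le_antisymm hle4 hge4
  have hbij : Function.Bijective Θ := by
    apply hΘinj.bijective_of_nat_card_le
    rw [Nat.card_prod, Nat.card_perm, hcardQ, hidx4, hC, hG]
    rfl
  have e1 : G ≃* Equiv.Perm (G ⧸ M) × C := MulEquiv.ofBijective Θ hbij
  have e2 : Equiv.Perm (G ⧸ M) ≃* Equiv.Perm (Fin 4) :=
    (Finite.equivFinOfCardEq (hcardQ.trans hidx4)).permCongrHom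
  exact ⟨e1.trans (MulEquiv.prodCongr e2 (MulEquiv.refl C))⟩

end Cfsg.Agent.Lib.Helper6.OutGrp
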