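import Mathlib
import Cfsg.Agent.Lib.Helper6.TriJ
import Cfsg.Agent.Lib.Helper6.AutOrt25

/-!
# Triality for `PΩ⁺₈`, part K: the three cosets of the similarity group, and the homomorphism
`Aut(PΩ⁺₈(F)) → Aut(F)`
-/

set_option autoImplicit false
set_option linter.unusedSectionVars false
set_option linter.unusedVariables false

open Cfsg Matrix QuadraticMap

namespace Cfsg.Agent.Lib.Helper6.Tri

open Cfsg.Agent.Lib.Helper6 Cfsg.Agent.Lib.Helper15 Cfsg.Agent.Lib.Helper6.AutOrt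
  Cfsg.Agent.Lib.Helper6.AutPSL Cfsg.Agent.Lib.Helper6.AutInduced
  Cfsg.Agent.Lib.Helper6.OmegaAut Cfsg.Agent.Lib.Helper6.SimAut

section generic
variable {F : Type*} [Field F] [Fintype F] {ι : Type} [Fintype ι] [DecidableEq ι]
variable {Q : QuadraticForm F (ι → F)} [hS : Std Q]

/-- linear similarities induce elements of the image of the similarity group -/
theorem gam_mem_pgoAut (Φ : SemiSimO Q) (h : Φ.σ = RingEquiv.refl F) :
    Φ.gam ∈ Cfsg.pgoAut F ⇑Q := by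
  have h1 := Φ.gam_induced
  have h2 := Φ.isSemi
  rw [h] at h1 h2
  refine Subgroup.subset_closure ⟨Φ.gl, ?_, h1⟩
  obtain ⟨c, hc⟩ := h2
  exact ⟨c, fun v => hc v⟩

end generic

variable {F : Type*} [Field F] [Fintype F]

/-- the automorphism group of `PΩ⁺₈(F)` -/
abbrev A8 (F : Type*) [Field F] [Fintype F] := MulAut (Cfsg.POmega F ⇑(QPlus F 4))

/-- the image of the similarity group -/
noncomputable abbrev D8 (F : Type*) [Field F] [Fintype F] : Subgroup (A8 F) := Cfsg.pgoAut F ⇑(QPlus F 4)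

/-- the image of the semisimilarity group -/
noncomputable abbrev Γ8 (F : Type*) [Field F] [Fintype F] : Subgroup (A8 F) := Cfsg.gammaPOmega F ⇑(QPlus F 4)

theorem gc_mem_D : (gc : A8 F) ∈ D8 F := gam_mem_pgoAut _ rfl

theorem Lsemi_mem_D (a : I8 → F) (ha : nm a ≠ 0) : (Lsemi a ha).gam ∈ D8 F :=
  gam_mem_pgoAut _ rfl

theorem isoAut_mem_D (k : G8 F) : isoAut k ∈ D8 F := gam_mem_pgoAut _ rfl

/-- a linear similarity of multiplier one is induced by an isometry -/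
theorem exists_iso_of_lin (Φ : SemiSimO (QPlus F 4)) (hσ : Φ.σ = RingEquiv.refl F)
    (hν : Φ.ν = 1) : ∃ k : G8 F, isoAut k = Φ.gam := by
  have hk : Φ.gl ∈ Cfsg.isometryGroup F ⇑(QPlus F 4) := by
    rw [OmegaAut.mem_isometryGroup_iff]
    intro u
    rw [SemiSimO.gl_val, SemiSimO.mat_mulVec_of_refl Φ hσ, Φ.form, hν, one_mul, hσ]
    rfl
  refine ⟨⟨Φ.gl, hk⟩, ?_⟩
  rw [isoAut_apply]
  apply SemiSimO.gam_eq_of_S_eq
  intro x
  rw [isoSemi_S, gact_def]
  change (Φ.gl : Matrix I8 I8 F) *ᵥ x = _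
  rw [SemiSimO.gl_val, SemiSimO.mat_mulVec_of_refl Φ hσ]

theorem exists_nm (ν : F) : ∃ a : I8 → F, nm a = ν := by
  refine ⟨Sum.elim ![ν, 0, 0, 0] ![1, 0, 0, 0], ?_⟩
  simp [nm]

/-! ### relations between the generators -/

theorem tau_inv : (tauAut : A8 F)⁻¹ = tauAut := inv_eq_of_mul_eq_one_right tauAut_mul_self

theorem gc_inv : (gc : A8 F)⁻¹ = gc := inv_eq_of_mul_eq_one_right gc_mul_self

theorem tau'_eq : (tauAut' : A8 F) = gc * tauAut * gc := rfl

theorem tau_mul_tau' : (tauAut : A8 F) * tauAut' = tauAut' * gc := by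
  have h1 : (tauAut : A8 F) * tauAut' = gc * tauAut := by
    rw [← braid, ← mul_assoc, ← mul_assoc, tauAut_mul_self, one_mul]
  have h2 : (tauAut' : A8 F) * gc = gc * tauAut := by
    rw [tau'_eq, mul_assoc, gc_mul_self, mul_one]
  rw [h1, h2]

theorem tau'_mul_self : (tauAut' : A8 F) * tauAut' = 1 := by
  rw [tau'_eq]
  calc gc * tauAut * gc * (gc * tauAut * gc)
      = gc * (tauAut * ((gc * gc) * tauAut)) * gc := by simp only [mul_assoc]
    _ = 1 := by rw [gc_mul_self, one_mul, tauAut_mul_self, mul_one, gc_mul_self]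

theorem tau'_inv : (tauAut' : A8 F)⁻¹ = tauAut' := inv_eq_of_mul_eq_one_right tau'_mul_self

theorem tau'_mul_tau : (tauAut' : A8 F) * tauAut = tauAut * gc := by
  rw [← braid, mul_assoc, tauAut_mul_self, mul_one]

/-- moving a left multiplication across triality -/
theorem L_tau (a : I8 → F) (ha : nm a ≠ 0) :
    (Lsemi a ha).gam * tauAut = tauAut * (hSemi a ha).gam := by
  have h := tau_L a ha
  calc (Lsemi a ha).gam * tauAut
      = (tauAut * tauAut) * (Lsemi a ha).gam * tauAut := by rw [tauAut_mul_self, one_mul]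
    _ = tauAut * (tauAut * (Lsemi a ha).gam) * tauAut := by simp only [mul_assoc]
    _ = tauAut * ((hSemi a ha).gam * tauAut) * tauAut := by rw [h]
    _ = tauAut * (hSemi a ha).gam * (tauAut * tauAut) := by simp only [mul_assoc]
    _ = tauAut * (hSemi a ha).gam := by rw [tauAut_mul_self, mul_one]

theorem Lsemi_cj_mul (a : I8 → F) (ha : nm a ≠ 0) :
    (Lsemi (cj a) (nm_cj_ne ha)).gam * (Lsemi a ha).gam = 1 := by
  rw [← SemiSimO.gam_comp]
  apply SemiSimO.gam_eq_one_of_smul _ (nm a)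
  intro x
  rw [SemiSimO.comp_S, Lsemi_S, Lsemi_S, cj_omul_omul]

theorem Lsemi_mul_cj (a : I8 → F) (ha : nm a ≠ 0) :
    (Lsemi a ha).gam * (Lsemi (cj a) (nm_cj_ne ha)).gam = 1 := by
  rw [← SemiSimO.gam_comp]
  apply SemiSimO.gam_eq_one_of_smul _ (nm a)
  intro x
  rw [SemiSimO.comp_S, Lsemi_S, Lsemi_S]
  have := cj_omul_omul (cj a) x
  rw [cj_cj, nm_cj] at this
  exact this

/-- the bimultiplication composed with the conjugation is induced by an isometry -/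
theorem exists_iso_h_gc (a : I8 → F) (ha : nm a ≠ 0) :
    ∃ r : G8 F, isoAut r = (hSemi a ha).gam * gc := by
  obtain ⟨r, hr⟩ := exists_iso_of_lin ((hSemi a ha).comp cjSemi) (by ext x; rfl) (by
    rw [SemiSimO.comp_ν]
    change (1 : F) * (RingEquiv.refl F) 1 = 1
    rw [one_mul]
    rfl)
  refine ⟨r, ?_⟩
  rw [hr, SemiSimO.gam_comp]
  rfl

/-! ### the refined cosets -/

/-- the union of the two triality cosets of the similarity group -/
def TTd : Set (A8 F) := {β | ∃ δ ∈ D8 F, β = tauAut * δ ∨ β = tauAut' * δ}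

/-- the union of the three cosets of the similarity group -/
def SS : Set (A8 F) := {β | ∃ δ ∈ D8 F, β = δ ∨ β = tauAut * δ ∨ β = tauAut' * δ}

theorem refl_TTd (r : G8 F) (a : I8 → F) (ha : nm a ≠ 0)
    (hr : ((r.1 : GL I8 F) : Matrix I8 I8 F) = Cfsg.reflectionMatrix ⇑(QPlus F 4) a)
    (β : A8 F) (hβ : β ∈ TTd) : isoAut r * β ∈ TTd := by
  obtain ⟨γ, hγ, hβγ⟩ := hβ
  have F1 := gc_mul_self (F := F)
  have F3 := tau_L a ha
  have F4 := tau_L (cj a) (nm_cj_ne ha)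
  rw [← gc_h_gc a ha] at F4
  have F5 := isoAut_refl r a ha hr
  rcases hβγ with rfl | rfl
  · refine ⟨gc * (Lsemi (cj a) (nm_cj_ne ha)).gam * γ,
      Subgroup.mul_mem _ (Subgroup.mul_mem _ gc_mem_D (Lsemi_mem_D _ _)) hγ, Or.inr ?_⟩
    rw [F5]
    exact grp_case1 gc _ _ tauAut γ F1 F4
  · refine ⟨(Lsemi a ha).gam * gc * γ,
      Subgroup.mul_mem _ (Subgroup.mul_mem _ (Lsemi_mem_D _ _) gc_mem_D) hγ, Or.inl ?_⟩
    rw [F5]
    exact grp_case2 gc _ _ tauAut γ F1 F3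

/-- the isometries permuting the two refined triality cosets -/
def Kd : Subgroup (G8 F) where
  carrier := {g | ∀ β, β ∈ TTd ↔ isoAut g * β ∈ TTd}
  one_mem' := by
    intro β
    rw [map_one, one_mul]
  mul_mem' := by
    intro g h hg hh β
    rw [map_mul, mul_assoc, ← hg, ← hh]
  inv_mem' := by
    intro g hg β
    rw [hg (isoAut g⁻¹ * β), ← mul_assoc, ← map_mul, mul_inv_cancel, map_one, one_mul]

theorem Kd_eq_top : (Kd : Subgroup (G8 F)) = ⊤ := by
  apply cd_subgroup (QPlus F 4) (nondegenerate_QPlus F 4) (Or.inr (by rw [card_I8]; omega))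
  intro r a ha hr β
  have ha' : nm a ≠ 0 := by rw [← QPlus_eq_nm]; exact ha
  constructor
  · exact refl_TTd r a ha' hr β
  · intro h
    have := refl_TTd r a ha' hr _ h
    rwa [← mul_assoc, refl_sq r a ha hr, one_mul] at this

theorem iso_TTd (k : G8 F) (β : A8 F) : β ∈ TTd ↔ isoAut k * β ∈ TTd := by
  have hk : k ∈ (Kd : Subgroup (G8 F)) := by rw [Kd_eq_top]; exact Subgroup.mem_top k
  exact hk β

theorem tau_mem_TTd : (tauAut : A8 F) ∈ TTd :=
  ⟨1, Subgroup.one_mem _, Or.inl (mul_one _).symm⟩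

theorem tau'_mem_TTd : (tauAut' : A8 F) ∈ TTd :=
  ⟨1, Subgroup.one_mem _, Or.inr (mul_one _).symm⟩

theorem TTd_mul (β : A8 F) (hβ : β ∈ TTd) (δ : A8 F) (hδ : δ ∈ D8 F) : β * δ ∈ TTd := by
  obtain ⟨γ, hγ, h⟩ := hβ
  refine ⟨γ * δ, Subgroup.mul_mem _ hγ hδ, ?_⟩
  rcases h with rfl | rfl
  · left; rw [mul_assoc]
  · right; rw [mul_assoc]

theorem TTd_sub_SS (β : A8 F) (hβ : β ∈ TTd) : β ∈ SS := by
  obtain ⟨γ, hγ, h⟩ := hβ
  exact ⟨γ, hγ, Or.inr h⟩

theorem D_sub_SS (δ : A8 F) (hδ : δ ∈ D8 F) : δ ∈ SS := ⟨δ, hδ, Or.inl rfl⟩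

/-- `τ · TTd ⊆ SS` -/
theorem tau_TTd (β : A8 F) (hβ : β ∈ TTd) : tauAut * β ∈ SS := by
  obtain ⟨γ, hγ, h⟩ := hβ
  rcases h with rfl | rfl
  · refine ⟨γ, hγ, Or.inl ?_⟩
    rw [← mul_assoc, tauAut_mul_self, one_mul]
  · refine ⟨gc * γ, Subgroup.mul_mem _ gc_mem_D hγ, Or.inr (Or.inr ?_)⟩
    rw [← mul_assoc, tau_mul_tau', mul_assoc]

theorem tau_SS (β : A8 F) (hβ : β ∈ SS) : tauAut * β ∈ SS := by
  obtain ⟨γ, hγ, h⟩ := hβ
  rcases h with h | h
  · exact ⟨γ, hγ, Or.inr (Or.inl (by rw [h]))⟩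
  · exact tau_TTd _ ⟨γ, hγ, h⟩

theorem iso_SS (k : G8 F) (β : A8 F) (hβ : β ∈ SS) : isoAut k * β ∈ SS := by
  obtain ⟨γ, hγ, h⟩ := hβ
  rcases h with h | h
  · rw [h]
    exact D_sub_SS _ (Subgroup.mul_mem _ (isoAut_mem_D k) hγ)
  · exact TTd_sub_SS _ ((iso_TTd k _).mp ⟨γ, hγ, h⟩)

theorem L_SS (a : I8 → F) (ha : nm a ≠ 0) (β : A8 F) (hβ : β ∈ SS) :
    (Lsemi a ha).gam * β ∈ SS := by
  obtain ⟨γ, hγ, h⟩ := hβ
  have hh : (hSemi a ha).gam ∈ D8 F := gam_mem_pgoAut _ rfl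
  rcases h with h | h | h <;> rw [h]
  · exact D_sub_SS _ (Subgroup.mul_mem _ (Lsemi_mem_D a ha) hγ)
  · refine ⟨(hSemi a ha).gam * γ, Subgroup.mul_mem _ hh hγ, Or.inr (Or.inl ?_)⟩
    rw [← mul_assoc, L_tau, mul_assoc]
  · obtain ⟨r, hr⟩ := exists_iso_h_gc a ha
    have e : (Lsemi a ha).gam * (tauAut' * γ) = tauAut * ((isoAut r * tauAut) * γ) := by
      rw [hr, ← braid]
      calc (Lsemi a ha).gam * (tauAut * gc * tauAut * γ)
          = ((Lsemi a ha).gam * tauAut) * gc * tauAut * γ := by simp only [mul_assoc]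
        _ = (tauAut * (hSemi a ha).gam) * gc * tauAut * γ := by rw [L_tau]
        _ = tauAut * ((hSemi a ha).gam * gc * tauAut * γ) := by simp only [mul_assoc]
    rw [e]
    apply tau_TTd
    exact TTd_mul _ ((iso_TTd r _).mp tau_mem_TTd) γ hγ

/-- the stabiliser of the union of the three cosets -/
def Estab : Subgroup (A8 F) where
  carrier := {x | ∀ β, β ∈ SS ↔ x * β ∈ SS}
  one_mem' := by
    intro β
    rw [one_mul]
  mul_mem' := by
    intro g h hg hh β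
    rw [mul_assoc, ← hg, ← hh]
  inv_mem' := by
    intro g hg β
    rw [hg (g⁻¹ * β), ← mul_assoc, mul_inv_cancel, one_mul]

theorem tau_mem_Estab : (tauAut : A8 F) ∈ Estab := by
  intro β
  constructor
  · exact tau_SS β
  · intro h
    have := tau_SS _ h
    rwa [← mul_assoc, tauAut_mul_self, one_mul] at this

theorem iso_mem_Estab (k : G8 F) : isoAut k ∈ (Estab : Subgroup (A8 F)) := by
  intro β
  constructor
  · exact iso_SS k β
  · intro h
    have := iso_SS k⁻¹ _ h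
    rwa [← mul_assoc, ← map_mul, inv_mul_cancel, map_one, one_mul] at this

theorem L_mem_Estab (a : I8 → F) (ha : nm a ≠ 0) :
    (Lsemi a ha).gam ∈ (Estab : Subgroup (A8 F)) := by
  intro β
  constructor
  · exact L_SS a ha β
  · intro h
    have := L_SS (cj a) (nm_cj_ne ha) _ h
    rwa [← mul_assoc, Lsemi_cj_mul, one_mul] at this

/-- the image of the similarity group stabilises the union of the three cosets -/
theorem D_le_Estab : D8 F ≤ Estab := by
  unfold D8 Cfsg.pgoAut Cfsg.autSubgroupOf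
  rw [Subgroup.closure_le]
  rintro β ⟨g, ⟨c, hc⟩, hβ⟩
  have h1 : Cfsg.IsSemisimilarityPair (⇑(QPlus F 4)) g (RingEquiv.refl F) := ⟨c, fun v => hc v⟩
  rw [SetLike.mem_coe, SemiSimO.eq_gam_of_induced g _ h1 β hβ]
  set Φ := SemiSimO.ofPair (Q := QPlus F 4) g (RingEquiv.refl F) h1 with hΦ
  obtain ⟨a, ha⟩ := exists_nm (Φ.ν)
  have ha0 : nm a ≠ 0 := by rw [ha]; exact Φ.hν
  set L := Lsemi a ha0 with hL
  have hLσ : L.σ = RingEquiv.refl F := rfl
  have hΦσ : Φ.σ = RingEquiv.refl F := rfl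
  have hνs : L.symm.ν = (nm a)⁻¹ := by
    have h := SemiSimO.ν_symm L
    rw [hLσ] at h
    change nm a * L.symm.ν = 1 at h
    exact eq_inv_of_mul_eq_one_right h
  obtain ⟨k, hk⟩ := exists_iso_of_lin (L.symm.comp Φ) (by
      rw [SemiSimO.comp_σ, SemiSimO.symm_σ, hLσ, hΦσ]
      ext x
      rfl) (by
      rw [SemiSimO.comp_ν, hνs, SemiSimO.symm_σ, hLσ, ha]
      change (Φ.ν)⁻¹ * Φ.ν = 1
      exact inv_mul_cancel₀ Φ.hν)
  rw [SemiSimO.gam_comp, SemiSimO.gam_symm] at hk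
  have e : Φ.gam = L.gam * isoAut k := by rw [hk, mul_inv_cancel_left]
  rw [e]
  exact Subgroup.mul_mem _ (L_mem_Estab a ha0) (iso_mem_Estab k)

theorem one_mem_SS : (1 : A8 F) ∈ SS := ⟨1, Subgroup.one_mem _, Or.inl rfl⟩

theorem Estab_sub_SS (x : A8 F) (hx : x ∈ (Estab : Subgroup (A8 F))) : x ∈ SS := by
  have := (hx 1).mp one_mem_SS
  rwa [mul_one] at this

theorem tau'_mem_Estab : (tauAut' : A8 F) ∈ Estab := by
  rw [tau'_eq]
  exact Subgroup.mul_mem _ (Subgroup.mul_mem _ (D_le_Estab gc_mem_D) tau_mem_Estab)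
    (D_le_Estab gc_mem_D)

theorem SS_sub_Estab (x : A8 F) (hx : x ∈ SS) : x ∈ (Estab : Subgroup (A8 F)) := by
  obtain ⟨δ, hδ, h⟩ := hx
  rcases h with h | h | h <;> rw [h]
  · exact D_le_Estab hδ
  · exact Subgroup.mul_mem _ tau_mem_Estab (D_le_Estab hδ)
  · exact Subgroup.mul_mem _ tau'_mem_Estab (D_le_Estab hδ)

theorem mem_Estab_iff (x : A8 F) : x ∈ (Estab : Subgroup (A8 F)) ↔ x ∈ SS :=
  ⟨Estab_sub_SS x, SS_sub_Estab x⟩

section main
variable (p : ℕ) [hp : Fact p.Prime] [hcp : CharP F p]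
include hp hcp

/-- the stabiliser meets `PΓO` in the image of the similarity group -/
theorem Estab_inf_gamma (x : A8 F) (hx : x ∈ (Estab : Subgroup (A8 F))) (hxΓ : x ∈ Γ8 F) :
    x ∈ D8 F := by
  obtain ⟨δ, hδ, h⟩ := Estab_sub_SS x hx
  have hδΓ : δ ∈ Γ8 F := pgoAut_le_gamma hδ
  rcases h with h | h | h
  · rw [h]; exact hδ
  · exfalso
    apply tau_not_mem (F := F) p
    have := Subgroup.mul_mem _ hxΓ (Subgroup.inv_mem _ hδΓ)
    rwa [h, mul_inv_cancel_right] at this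
  · exfalso
    apply tau'_not_mem (F := F) p
    have := Subgroup.mul_mem _ hxΓ (Subgroup.inv_mem _ hδΓ)
    rwa [h, mul_inv_cancel_right] at this

end main

end Cfsg.Agent.Lib.Helper6.Tri
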