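import Mathlib
import Cfsg.Agent.Lib.Helper6.TriK

/-!
# Triality for `PΩ⁺₈`, part L: field automorphisms and the homomorphism
`Aut(PΩ⁺₈(F)) → Aut(F)`
-/

set_option autoImplicit false
set_option linter.unusedSectionVars false
set_option linter.unusedVariables false

open Cfsg Matrix QuadraticMap

namespace Cfsg.Agent.Lib.Helper6.Tri

open Cfsg.Agent.Lib.Helper6 Cfsg.Agent.Lib.Helper15 Cfsg.Agent.Lib.Helper6.AutOrt
  Cfsg.Agent.Lib.Helper6.AutPSL Cfsg.Agent.Lib.Helper6.AutInduced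
  Cfsg.Agent.Lib.Helper6.OmegaAut Cfsg.Agent.Lib.Helper6.SimAut

section plus
variable {F : Type*} [Field F] [Fintype F] {m : ℕ}

/-- the field automorphisms as a homomorphism -/
noncomputable def fldPlus (hm : 4 ≤ m) : RingAut F →* MulAut (Cfsg.POmega F ⇑(QPlus F m)) :=
  haveI := std_QPlus (F := F) hm
  { toFun := fun σ => (fieldPlus F m σ).gam
    map_one' := by
      apply SemiSimO.gam_eq_one_of_smul _ 1
      intro x
      rw [one_smul]
      rfl
    map_mul' := by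
      intro σ τ
      rw [← SemiSimO.gam_comp]
      apply SemiSimO.gam_eq_of_S_eq
      intro x
      rfl }

end plus

variable {F : Type*} [Field F] [Fintype F]

/-- the field automorphisms of `PΩ⁺₈(F)` -/
noncomputable def fld8 : RingAut F →* A8 F := fldPlus (le_refl 4)

theorem fld8_apply (σ : RingAut F) : fld8 σ = (fieldPlus F 4 σ).gam := rfl

theorem fld8_mem (σ : RingAut F) : fld8 σ ∈ Γ8 F := (fieldPlus F 4 σ).gam_mem

theorem omul_map (σ : F ≃+* F) (x y : I8 → F) :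
    omul (fun i => σ (x i)) (fun i => σ (y i)) = fun i => σ (omul x y i) := by
  funext i; revert i
  apply I8_cases <;> simp only [omul_l0, omul_l1, omul_l2, omul_l3, omul_r0, omul_r1, omul_r2,
    omul_r3, map_add, map_sub, map_mul, map_neg]

theorem cj_map (σ : F ≃+* F) (x : I8 → F) :
    cj (fun i => σ (x i)) = fun i => σ (cj x i) := by
  funext i; revert i
  apply I8_cases <;> simp only [cj_l0, cj_l1, cj_l2, cj_l3, cj_r0, cj_r1, cj_r2, cj_r3, map_neg]

/-- field automorphisms commute with triality -/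
theorem fld8_tau (σ : RingAut F) : fld8 σ * tauAut = tauAut * fld8 σ := by
  rw [fld8_apply]
  symm
  apply tau_rel
  intro x y
  rw [fieldPlus_S, fieldPlus_S, fieldPlus_S, omul_map]

/-- field automorphisms commute with the graph automorphism -/
theorem fld8_gc (σ : RingAut F) : fld8 σ * gc = gc * fld8 σ := by
  rw [fld8_apply]
  unfold gc
  rw [← SemiSimO.gam_comp, ← SemiSimO.gam_comp]
  apply SemiSimO.gam_eq_of_S_eq
  intro x
  rw [SemiSimO.comp_S, SemiSimO.comp_S, cjSemi_S, cjSemi_S, fieldPlus_S, fieldPlus_S, cj_map]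

theorem fld8_tau' (σ : RingAut F) : fld8 σ * tauAut' = tauAut' * fld8 σ := by
  rw [tau'_eq]
  calc fld8 σ * (gc * tauAut * gc) = (fld8 σ * gc) * tauAut * gc := by simp only [mul_assoc]
    _ = gc * (fld8 σ * tauAut) * gc := by rw [fld8_gc]; simp only [mul_assoc]
    _ = gc * tauAut * (fld8 σ * gc) := by rw [fld8_tau]; simp only [mul_assoc]
    _ = gc * tauAut * gc * fld8 σ := by rw [fld8_gc]; simp only [mul_assoc]

section main
variable (p : ℕ) [hp : Fact p.Prime] [hcp : CharP F p]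
include hp hcp

theorem psiG_fld8 (σ : RingAut F) : psiG p ⟨fld8 σ, fld8_mem σ⟩ = σ :=
  psiG_gam p (fieldPlus F 4 σ)

theorem mem_D_iff' (x : ↥(Γ8 F)) : (x : A8 F) ∈ D8 F ↔ psiG p x = 1 := by
  rw [← MonoidHom.mem_ker, psiG_ker, Subgroup.mem_subgroupOf]

theorem mem_D_iff (x : A8 F) (hx : x ∈ Γ8 F) : x ∈ D8 F ↔ psiG p ⟨x, hx⟩ = 1 :=
  mem_D_iff' p ⟨x, hx⟩

/-- field automorphisms normalise the image of the similarity group -/
theorem fld8_conj_D (σ : RingAut F) (δ : A8 F) (hδ : δ ∈ D8 F) :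
    fld8 σ * δ * (fld8 σ)⁻¹ ∈ D8 F := by
  have hδΓ : δ ∈ Γ8 F := pgoAut_le_gamma hδ
  set a : ↥(Γ8 F) := ⟨fld8 σ, fld8_mem σ⟩ with ha
  set d : ↥(Γ8 F) := ⟨δ, hδΓ⟩ with hd
  have h1 : psiG p (a * d * a⁻¹) = 1 := by
    have h0 := (mem_D_iff' p d).mp hδ
    simp only [map_mul, map_inv, h0, mul_one, mul_inv_cancel]
  have h2 := (mem_D_iff' p (a * d * a⁻¹)).mpr h1
  rw [Subgroup.coe_mul, Subgroup.coe_mul, Subgroup.coe_inv] at h2
  exact h2

/-- field automorphisms normalise the union of the three cosets -/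
theorem fld8_conj_SS (σ : RingAut F) (x : A8 F) (hx : x ∈ SS) :
    fld8 σ * x * (fld8 σ)⁻¹ ∈ SS := by
  obtain ⟨δ, hδ, h⟩ := hx
  refine ⟨fld8 σ * δ * (fld8 σ)⁻¹, fld8_conj_D p σ δ hδ, ?_⟩
  rcases h with h | h | h <;> rw [h]
  · left; rfl
  · right; left
    calc fld8 σ * (tauAut * δ) * (fld8 σ)⁻¹ = (fld8 σ * tauAut) * δ * (fld8 σ)⁻¹ := by
          simp only [mul_assoc]
      _ = tauAut * (fld8 σ * δ * (fld8 σ)⁻¹) := by rw [fld8_tau]; simp only [mul_assoc]
  · right; right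
    calc fld8 σ * (tauAut' * δ) * (fld8 σ)⁻¹ = (fld8 σ * tauAut') * δ * (fld8 σ)⁻¹ := by
          simp only [mul_assoc]
      _ = tauAut' * (fld8 σ * δ * (fld8 σ)⁻¹) := by rw [fld8_tau']; simp only [mul_assoc]

theorem fld8_conj_Estab (σ : RingAut F) (x : A8 F) (hx : x ∈ (Estab : Subgroup (A8 F))) :
    fld8 σ * x * (fld8 σ)⁻¹ ∈ (Estab : Subgroup (A8 F)) := by
  rw [mem_Estab_iff] at hx ⊢
  exact fld8_conj_SS p σ x hx

/-- every element of `PΓO` is a similarity times a field automorphism -/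
theorem gamma_decomp (γ : A8 F) (hγ : γ ∈ Γ8 F) :
    γ * (fld8 (psiG p ⟨γ, hγ⟩))⁻¹ ∈ D8 F := by
  set c : ↥(Γ8 F) := ⟨γ, hγ⟩ with hc
  set a : ↥(Γ8 F) := ⟨fld8 (psiG p c), fld8_mem _⟩ with ha
  have h1 : psiG p (c * a⁻¹) = 1 := by
    have h0 : psiG p a = psiG p c := psiG_fld8 p _
    simp only [map_mul, map_inv, h0, mul_inv_cancel]
  have h2 := (mem_D_iff' p (c * a⁻¹)).mpr h1
  rw [Subgroup.coe_mul, Subgroup.coe_inv] at h2
  exact h2

/-- every automorphism is an element of the stabiliser times a field automorphism -/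
theorem exists_sigma (β : A8 F) : ∃ σ : RingAut F, β * (fld8 σ)⁻¹ ∈ (Estab : Subgroup (A8 F)) := by
  rcases aut_cases p β with hβ | ⟨γ, hγ, h⟩
  · exact ⟨_, D_le_Estab (gamma_decomp p β hβ)⟩
  · refine ⟨psiG p ⟨γ, hγ⟩, ?_⟩
    rcases h with h | h <;> rw [h, mul_assoc]
    · exact Subgroup.mul_mem _ tau_mem_Estab (D_le_Estab (gamma_decomp p γ hγ))
    · exact Subgroup.mul_mem _ tau'_mem_Estab (D_le_Estab (gamma_decomp p γ hγ))

theorem fld8_mem_Estab_iff (σ : RingAut F) : fld8 σ ∈ (Estab : Subgroup (A8 F)) ↔ σ = 1 := by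
  constructor
  · intro h
    have h1 := Estab_inf_gamma p _ h (fld8_mem σ)
    rw [mem_D_iff p _ (fld8_mem σ), psiG_fld8] at h1
    exact h1
  · rintro rfl
    rw [map_one]
    exact Subgroup.one_mem _

theorem sigma_unique (β : A8 F) (σ σ' : RingAut F)
    (h : β * (fld8 σ)⁻¹ ∈ (Estab : Subgroup (A8 F)))
    (h' : β * (fld8 σ')⁻¹ ∈ (Estab : Subgroup (A8 F))) : σ = σ' := by
  have h1 := Subgroup.mul_mem _ (Subgroup.inv_mem _ h) h'
  have e : (β * (fld8 σ)⁻¹)⁻¹ * (β * (fld8 σ')⁻¹) = fld8 (σ * σ'⁻¹) := by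
    rw [map_mul, map_inv]
    group
  rw [e, fld8_mem_Estab_iff p] at h1
  exact mul_inv_eq_one.mp h1

/-- the field automorphism attached to an automorphism of `PΩ⁺₈(F)` -/
noncomputable def PsiFun (β : A8 F) : RingAut F := Classical.choose (exists_sigma p β)

theorem PsiFun_spec (β : A8 F) : β * (fld8 (PsiFun p β))⁻¹ ∈ (Estab : Subgroup (A8 F)) :=
  Classical.choose_spec (exists_sigma p β)

theorem PsiFun_eq (β : A8 F) (σ : RingAut F) (h : β * (fld8 σ)⁻¹ ∈ (Estab : Subgroup (A8 F))) :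
    PsiFun p β = σ :=
  sigma_unique p β _ _ (PsiFun_spec p β) h

/-- **the homomorphism `Aut(PΩ⁺₈(F)) → Aut(F)`** -/
noncomputable def PsiA : A8 F →* RingAut F where
  toFun := PsiFun p
  map_one' := by
    apply PsiFun_eq
    rw [map_one, inv_one, mul_one]
    exact Subgroup.one_mem _
  map_mul' β β' := by
    apply PsiFun_eq
    have h1 := PsiFun_spec p β
    have h2 := PsiFun_spec p β'
    have h3 := fld8_conj_Estab p (PsiFun p β) _ h2
    have e : β * β' * (fld8 (PsiFun p β * PsiFun p β'))⁻¹ =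
        (β * (fld8 (PsiFun p β))⁻¹) *
          (fld8 (PsiFun p β) * (β' * (fld8 (PsiFun p β'))⁻¹) * (fld8 (PsiFun p β))⁻¹) := by
      rw [map_mul]
      group
    rw [e]
    exact Subgroup.mul_mem _ h1 h3

theorem PsiA_eq (β : A8 F) (σ : RingAut F) (h : β * (fld8 σ)⁻¹ ∈ (Estab : Subgroup (A8 F))) :
    PsiA p β = σ := PsiFun_eq p β σ h

theorem PsiA_fld8 (σ : RingAut F) : PsiA p (fld8 σ) = σ := by
  apply PsiA_eq
  rw [mul_inv_cancel]
  exact Subgroup.one_mem _

theorem PsiA_ker : (PsiA (F := F) p).ker = Estab := by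
  ext β
  rw [MonoidHom.mem_ker]
  constructor
  · intro h
    have := PsiFun_spec p β
    change PsiFun p β = 1 at h
    rwa [h, map_one, inv_one, mul_one] at this
  · intro h
    apply PsiA_eq
    rwa [map_one, inv_one, mul_one]

theorem PsiA_of_mem (γ : A8 F) (hγ : γ ∈ Γ8 F) : PsiA p γ = psiG p ⟨γ, hγ⟩ := by
  apply PsiA_eq
  exact D_le_Estab (gamma_decomp p γ hγ)

theorem PsiA_tau : PsiA p (tauAut : A8 F) = 1 := by
  rw [← MonoidHom.mem_ker, PsiA_ker]
  exact tau_mem_Estab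

theorem PsiA_of_mem_D (δ : A8 F) (hδ : δ ∈ D8 F) : PsiA p δ = 1 := by
  rw [← MonoidHom.mem_ker, PsiA_ker]
  exact D_le_Estab hδ

theorem PsiA_surjective : Function.Surjective (PsiA (F := F) p) :=
  fun σ => ⟨fld8 σ, PsiA_fld8 p σ⟩

/-- an element of `PΓO` in the kernel is in the image of the similarity group -/
theorem mem_D_of_PsiA (γ : A8 F) (hγ : γ ∈ Γ8 F) (h : PsiA p γ = 1) : γ ∈ D8 F := by
  rw [mem_D_iff p γ hγ, ← PsiA_of_mem p γ hγ]
  exact h

end main

end Cfsg.Agent.Lib.Helper6.Tri
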