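import Mathlib
import Cfsg.Agent.Lib.Helper6.TriL
import Cfsg.Agent.Lib.Helper6.AutOrt19

/-!
# Triality for `PΩ⁺₈`, part M: the outer automorphism group of `PΩ⁺_{2m}(2^f)`
-/

set_option autoImplicit false
set_option linter.unusedSectionVars false
set_option linter.unusedVariables false

open Cfsg Matrix QuadraticMap

namespace Cfsg.Agent.Lib.Helper6.Tri

open Cfsg.Agent.Lib.Helper6 Cfsg.Agent.Lib.Helper15 Cfsg.Agent.Lib.Helper6.AutOrt
  Cfsg.Agent.Lib.Helper6.AutPSL Cfsg.Agent.Lib.Helper6.AutInduced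
  Cfsg.Agent.Lib.Helper6.OmegaAut Cfsg.Agent.Lib.Helper6.SimAut

section grp

/-- a quotient is a direct product, from two homomorphisms whose kernels meet in the subgroup -/
theorem quot_equiv_prod {G P C : Type*} [Group G] [Finite G] [Group P] [Group C] [Finite P]
    [Finite C] (N : Subgroup G) [N.Normal] (π : G →* P) (Ψ : G →* C)
    (hker : π.ker ⊓ Ψ.ker = N)
    (hcard : Nat.card G = Nat.card N * (Nat.card P * Nat.card C)) :
    Nonempty (G ⧸ N ≃* P × C) := by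
  set Θ : G →* P × C := π.prod Ψ with hΘ
  have hk : Θ.ker = N := by rw [hΘ, MonoidHom.ker_prod, hker]
  have e1 : G ⧸ N ≃* G ⧸ Θ.ker := QuotientGroup.quotientMulEquivOfEq hk.symm
  have hinj := QuotientGroup.kerLift_injective Θ
  have hc : Nat.card (P × C) ≤ Nat.card (G ⧸ Θ.ker) := by
    have h1 := Subgroup.card_eq_card_quotient_mul_card_subgroup Θ.ker
    have hN : 0 < Nat.card N := Nat.card_pos
    rw [Nat.card_prod]
    have h2 : Nat.card (G ⧸ Θ.ker) * Nat.card N = (Nat.card P * Nat.card C) * Nat.card N := by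
      calc Nat.card (G ⧸ Θ.ker) * Nat.card N = Nat.card (G ⧸ Θ.ker) * Nat.card Θ.ker := by rw [hk]
        _ = Nat.card G := h1.symm
        _ = (Nat.card P * Nat.card C) * Nat.card N := by rw [hcard, mul_comm]
    rw [Nat.eq_of_mul_eq_mul_right hN h2]
  have hbij := hinj.bijective_of_nat_card_le hc
  exact ⟨e1.trans (MulEquiv.ofBijective _ hbij)⟩

end grp

variable {F : Type*} [Field F] [Fintype F]

/-- the action of the automorphism group on the three cosets of `PΓO` -/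
noncomputable def pi3 : A8 F →* Equiv.Perm (A8 F ⧸ Γ8 F) := MulAction.toPermHom (A8 F) (A8 F ⧸ Γ8 F)

theorem pi3_ker : (pi3 (F := F)).ker = (Γ8 F).normalCore := (Subgroup.normalCore_eq_ker _).symm

theorem Inn_le_D : Cfsg.Inn (Cfsg.POmega F ⇑(QPlus F 4)) ≤ D8 F := by
  classical
  exact Inn_le_pgoAut _

theorem Inn_le_pi3_ker : Cfsg.Inn (Cfsg.POmega F ⇑(QPlus F 4)) ≤ (pi3 (F := F)).ker := by
  rw [pi3_ker, Subgroup.normal_le_normalCore]
  exact Inn_le_D.trans pgoAut_le_gamma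

section main
variable (p : ℕ) [hp : Fact p.Prime] [hcp : CharP F p]
include hp hcp

theorem card_coset3 : Nat.card (A8 F ⧸ Γ8 F) = 3 := by
  rw [← Subgroup.index_eq_card, index_gamma_eq_three p]

theorem card_perm3 : Nat.card (Equiv.Perm (A8 F ⧸ Γ8 F)) = 6 := by
  haveI : Finite (A8 F ⧸ Γ8 F) := Nat.finite_of_card_ne_zero (by rw [card_coset3 p]; omega)
  rw [Nat.card_perm, card_coset3 p]
  rfl

theorem Inn_le_PsiA_ker : Cfsg.Inn (Cfsg.POmega F ⇑(QPlus F 4)) ≤ (PsiA (F := F) p).ker := by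
  rw [PsiA_ker]
  exact Inn_le_D.trans D_le_Estab

/-- the graph automorphism is not in the normal core of `PΓO` -/
theorem gc_not_mem_core : (gc : A8 F) ∉ (Γ8 F).normalCore := by
  intro h
  have h1 : tauAut * gc * (tauAut : A8 F)⁻¹ ∈ Γ8 F := h tauAut
  rw [tau_inv, braid] at h1
  exact tau'_not_mem p h1

/-- the kernel of the pair of homomorphisms, when the similarity group has index two over the
inner automorphisms -/
theorem ker_inf_of_index_two
    (hidx : (Cfsg.Inn (Cfsg.POmega F ⇑(QPlus F 4))).relIndex (D8 F) = 2) :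
    (pi3 (F := F)).ker ⊓ (PsiA (F := F) p).ker = Cfsg.Inn (Cfsg.POmega F ⇑(QPlus F 4)) := by
  apply le_antisymm
  · intro β hβ
    rw [Subgroup.mem_inf] at hβ
    obtain ⟨h1, h2⟩ := hβ
    rw [pi3_ker] at h1
    rw [MonoidHom.mem_ker] at h2
    have hβΓ : β ∈ Γ8 F := Subgroup.normalCore_le _ h1
    have hβD : β ∈ D8 F := mem_D_of_PsiA p β hβΓ h2
    by_contra hβI
    apply gc_not_mem_core (F := F) p
    have hIc : Cfsg.Inn (Cfsg.POmega F ⇑(QPlus F 4)) ≤ (Γ8 F).normalCore := by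
      rw [Subgroup.normal_le_normalCore]
      exact Inn_le_D.trans pgoAut_le_gamma
    by_cases hg : (gc : A8 F) ∈ Cfsg.Inn (Cfsg.POmega F ⇑(QPlus F 4))
    · exact hIc hg
    · have h3 := Subgroup.mul_mem_iff_of_index_two (H := (Cfsg.Inn (Cfsg.POmega F
        ⇑(QPlus F 4))).subgroupOf (D8 F)) hidx (a := ⟨β, hβD⟩) (b := ⟨gc, gc_mem_D⟩)
      rw [Subgroup.mem_subgroupOf, Subgroup.mem_subgroupOf, Subgroup.mem_subgroupOf] at h3
      have h4 : β * gc ∈ Cfsg.Inn (Cfsg.POmega F ⇑(QPlus F 4)) := h3.mpr ⟨fun h => absurd h hβI,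
        fun h => absurd h hg⟩
      have h5 := Subgroup.mul_mem _ (Subgroup.inv_mem _ h1) (hIc h4)
      rwa [inv_mul_cancel_left] at h5
  · exact le_inf Inn_le_pi3_ker (Inn_le_PsiA_ker p)

end main

section two
variable {f : ℕ}

/-- **`Out(PΩ⁺₈(2^f)) ≅ S₃ × C_f`** -/
theorem out8_two (hf : 1 ≤ f) (hF : Fintype.card F = 2 ^ f) :
    Nonempty (Cfsg.Out (Cfsg.POmega F ⇑(QPlus F 4)) ≃*
      Equiv.Perm (Fin 3) × Multiplicative (ZMod f)) := by
  classical
  haveI : Fact (Nat.Prime 2) := ⟨Nat.prime_two⟩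
  haveI : CharP F 2 := charP_of_card_pow' hF
  have h2F : (2 : F) = 0 := by
    have := CharP.cast_eq_zero F 2
    exact_mod_cast this
  have hnd := nondegenerate_QPlus F 4
  have h5 : 5 ≤ Fintype.card (Fin 4 ⊕ Fin 4) := by rw [card_KK]; omega
  have hidx : (Cfsg.Inn (Cfsg.POmega F ⇑(QPlus F 4))).relIndex (D8 F) = 2 := by
    unfold D8
    rw [pgoAut_eq_poAut_two (QPlus F 4) h2F hnd h5]
    exact relIndex_Inn_poAut_two (QPlus F 4) h2F hnd h5 (plusTriple' F 4 (by omega))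
  have hker := ker_inf_of_index_two (F := F) 2 hidx
  have hI : Nat.card (Cfsg.Inn (Cfsg.POmega F ⇑(QPlus F 4))) =
      Nat.card (Cfsg.POmega F ⇑(QPlus F 4)) :=
    card_Inn_of_perfect_quot (Omega_perfect (QPlus F 4) hnd h5)
  have hfun : Cfsg.quadFormPlus 4 F = ⇑(QPlus F 4) := (funext (QPlus_apply F 4)).symm
  have hA := card_aut_plus (F := F) (m := 4) 2 f hf hF (le_refl 4)
  rw [hfun, if_pos rfl, if_pos rfl] at hA
  haveI : Finite (A8 F ⧸ Γ8 F) := Nat.finite_of_card_ne_zero (by rw [card_coset3 2]; omega)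
  have hcard : Nat.card (A8 F) = Nat.card (Cfsg.Inn (Cfsg.POmega F ⇑(QPlus F 4))) *
      (Nat.card (Equiv.Perm (A8 F ⧸ Γ8 F)) * Nat.card (RingAut F)) := by
    rw [card_perm3 2, card_ringAut' hF hf, hI, hA]
    ring
  haveI : Finite (RingAut F) := Nat.finite_of_card_ne_zero (by rw [card_ringAut' hF hf]; omega)
  obtain ⟨e1⟩ := quot_equiv_prod (Cfsg.Inn (Cfsg.POmega F ⇑(QPlus F 4))) pi3 (PsiA 2) hker hcard
  obtain ⟨e2⟩ := Cfsg.Agent.Lib.Helper15.Dk.exists_ringAut_mulEquiv (F := F) 2 f hF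
  have e3 : Equiv.Perm (A8 F ⧸ Γ8 F) ≃* Equiv.Perm (Fin 3) :=
    (Finite.equivFinOfCardEq (card_coset3 2)).permCongrHom
  exact ⟨e1.trans (MulEquiv.prodCongr e3 e2)⟩

/-- **`Out(PΩ⁺_{2m}(2^f)) ≅ C₂ × C_f`**, `m ≥ 5` -/
theorem out_plus_two {m : ℕ} (hf : 1 ≤ f) (hF : Fintype.card F = 2 ^ f) (hm : 5 ≤ m) :
    Nonempty (Cfsg.Out (Cfsg.POmega F ⇑(QPlus F m)) ≃* Multiplicative (ZMod 2 × ZMod f)) := by
  classical
  haveI : Fact (Nat.Prime 2) := ⟨Nat.prime_two⟩
  haveI : CharP F 2 := charP_of_card_pow' hF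
  have h2F : (2 : F) = 0 := by
    have := CharP.cast_eq_zero F 2
    exact_mod_cast this
  have hm4 : 4 ≤ m := by omega
  haveI := std_QPlus (F := F) hm4
  have hnd := nondegenerate_QPlus F m
  have h5 : 5 ≤ Fintype.card (Fin m ⊕ Fin m) := by rw [card_KK]; omega
  have hP : HP (QPlus F m) := by
    apply HP_of_nine
    rw [card_KK]; omega
  obtain ⟨e⟩ := Cfsg.Agent.Lib.Helper15.Dk.exists_ringAut_mulEquiv (F := F) 2 f hF
  refine out_of_split hf (psiO 2 hP) (fldPlus hm4) (fun σ => psiO_gam 2 hP (fieldPlus F m σ)) ?_ ?_ e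
  · rw [psiO_ker]
    exact Inn_le_pgoAut (QPlus F m)
  · rw [psiO_ker, pgoAut_eq_poAut_two (QPlus F m) h2F hnd h5]
    exact relIndex_Inn_poAut_two (QPlus F m) h2F hnd h5 (plusTriple' F m (by omega))

end two

end Cfsg.Agent.Lib.Helper6.Tri
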