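import Mathlib
import Cfsg.Agent.Lib.Helper6.TriM
import Cfsg.Agent.Lib.Helper6.OutGrpB

/-!
# Triality for `PΩ⁺₈`, part N: the outer automorphism group of `PΩ⁺₈(q)`, `q` odd
-/

set_option autoImplicit false
set_option linter.unusedSectionVars false
set_option linter.unusedVariables false

open Cfsg Matrix QuadraticMap

namespace Cfsg.Agent.Lib.Helper6.Tri

open Cfsg.Agent.Lib.Helper6 Cfsg.Agent.Lib.Helper15 Cfsg.Agent.Lib.Helper6.AutOrt
  Cfsg.Agent.Lib.Helper6.AutPSL Cfsg.Agent.Lib.Helper6.AutInduced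
  Cfsg.Agent.Lib.Helper6.OmegaAut Cfsg.Agent.Lib.Helper6.SimAut

variable {F : Type*} [Field F] [Fintype F]

/-- the inner automorphism group of `PΩ⁺₈(F)` -/
noncomputable abbrev I8n (F : Type*) [Field F] [Fintype F] : Subgroup (A8 F) :=
  Cfsg.Inn (Cfsg.POmega F ⇑(QPlus F 4))

/-- conjugating the bimultiplication by triality -/
theorem tau_h_tau (a : I8 → F) (ha : nm a ≠ 0) :
    tauAut * (hSemi a ha).gam * tauAut = (Lsemi a ha).gam := by
  have h := tau_L a ha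
  calc tauAut * (hSemi a ha).gam * tauAut = tauAut * ((hSemi a ha).gam * tauAut) := by
        rw [mul_assoc]
    _ = tauAut * (tauAut * (Lsemi a ha).gam) := by rw [h]
    _ = (Lsemi a ha).gam := by rw [← mul_assoc, tauAut_mul_self, one_mul]

theorem grp_comm_aux {G : Type*} [Group G] (h g t h' L' : G) (ht : t⁻¹ = t) (hg : g⁻¹ = g)
    (h1 : g * h * g = h') (h2 : t * h' * t = L') :
    (h * (g * t))⁻¹ * ((g * t) * h) = L'⁻¹ * h := by
  subst h1 h2
  simp only [_root_.mul_inv_rev, ht, hg, mul_assoc]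

section main
variable (p : ℕ) [hp : Fact p.Prime] [hcp : CharP F p]
include hp hcp

/-- writing an automorphism as an element of `PΓO` times `1`, `τ` or `τ'` -/
theorem aut_cases_right (β : A8 F) :
    ∃ γ ∈ Γ8 F, β = γ ∨ β = γ * tauAut ∨ β = γ * tauAut' := by
  rcases aut_cases p β⁻¹ with h | ⟨γ, hγ, h | h⟩
  · exact ⟨β, by simpa using Subgroup.inv_mem _ h, Or.inl rfl⟩
  · refine ⟨γ⁻¹, Subgroup.inv_mem _ hγ, Or.inr (Or.inl ?_)⟩
    have : β = (tauAut * γ)⁻¹ := by rw [← h, inv_inv]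
    rw [this, _root_.mul_inv_rev, tau_inv]
  · refine ⟨γ⁻¹, Subgroup.inv_mem _ hγ, Or.inr (Or.inr ?_)⟩
    have : β = (tauAut' * γ)⁻¹ := by rw [← h, inv_inv]
    rw [this, _root_.mul_inv_rev, tau'_inv]

/-- field automorphisms lie in the normal core of `PΓO` -/
theorem fld8_mem_core (σ : RingAut F) : fld8 σ ∈ (Γ8 F).normalCore := by
  intro β
  obtain ⟨γ, hγ, h | h | h⟩ := aut_cases_right p β <;> rw [h]
  · exact Subgroup.mul_mem _ (Subgroup.mul_mem _ hγ (fld8_mem σ)) (Subgroup.inv_mem _ hγ)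
  · have e : γ * tauAut * fld8 σ * (γ * tauAut)⁻¹ = γ * fld8 σ * γ⁻¹ := by
      rw [_root_.mul_inv_rev, tau_inv]
      calc γ * tauAut * fld8 σ * (tauAut * γ⁻¹)
          = γ * (tauAut * fld8 σ) * tauAut * γ⁻¹ := by simp only [mul_assoc]
        _ = γ * (fld8 σ * tauAut) * tauAut * γ⁻¹ := by rw [fld8_tau]
        _ = γ * fld8 σ * (tauAut * tauAut) * γ⁻¹ := by simp only [mul_assoc]
        _ = γ * fld8 σ * γ⁻¹ := by rw [tauAut_mul_self, mul_one]
    rw [e]
    exact Subgroup.mul_mem _ (Subgroup.mul_mem _ hγ (fld8_mem σ)) (Subgroup.inv_mem _ hγ)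
  · have e : γ * tauAut' * fld8 σ * (γ * tauAut')⁻¹ = γ * fld8 σ * γ⁻¹ := by
      rw [_root_.mul_inv_rev, tau'_inv]
      calc γ * tauAut' * fld8 σ * (tauAut' * γ⁻¹)
          = γ * (tauAut' * fld8 σ) * tauAut' * γ⁻¹ := by simp only [mul_assoc]
        _ = γ * (fld8 σ * tauAut') * tauAut' * γ⁻¹ := by rw [fld8_tau']
        _ = γ * fld8 σ * (tauAut' * tauAut') * γ⁻¹ := by simp only [mul_assoc]
        _ = γ * fld8 σ * γ⁻¹ := by rw [tau'_mul_self, mul_one]
    rw [e]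
    exact Subgroup.mul_mem _ (Subgroup.mul_mem _ hγ (fld8_mem σ)) (Subgroup.inv_mem _ hγ)

/-- the bimultiplications lie in the normal core of `PΓO` -/
theorem h_mem_core (a : I8 → F) (ha : nm a ≠ 0) : (hSemi a ha).gam ∈ (Γ8 F).normalCore := by
  intro β
  have hh : ∀ (a : I8 → F) (ha : nm a ≠ 0), (hSemi a ha).gam ∈ Γ8 F := fun a ha =>
    SemiSimO.gam_mem _
  obtain ⟨γ, hγ, h | h | h⟩ := aut_cases_right p β <;> rw [h]
  · exact Subgroup.mul_mem _ (Subgroup.mul_mem _ hγ (hh a ha)) (Subgroup.inv_mem _ hγ)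
  · have e : γ * tauAut * (hSemi a ha).gam * (γ * tauAut)⁻¹ = γ * (Lsemi a ha).gam * γ⁻¹ := by
      rw [_root_.mul_inv_rev, tau_inv, ← tau_h_tau a ha]
      simp only [mul_assoc]
    rw [e]
    exact Subgroup.mul_mem _ (Subgroup.mul_mem _ hγ (SemiSimO.gam_mem _)) (Subgroup.inv_mem _ hγ)
  · have e : γ * tauAut' * (hSemi a ha).gam * (γ * tauAut')⁻¹ =
        γ * (gc * (Lsemi (cj a) (nm_cj_ne ha)).gam * gc) * γ⁻¹ := by
      rw [_root_.mul_inv_rev, tau'_inv, ← tau_h_tau (cj a) (nm_cj_ne ha), ← gc_h_gc a ha, tau'_eq]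
      simp only [mul_assoc]
    rw [e]
    exact Subgroup.mul_mem _ (Subgroup.mul_mem _ hγ
      (Subgroup.mul_mem _ (Subgroup.mul_mem _ gc_mem (SemiSimO.gam_mem _)) gc_mem))
      (Subgroup.inv_mem _ hγ)

/-- a bimultiplication by an octonion of non-square norm does not commute with the element of order
three, modulo inner automorphisms -/
theorem h_not_comm (a : I8 → F) (ha : nm a ≠ 0) (hns : ¬ IsSquare (nm a)) :
    ((hSemi a ha).gam * (gc * tauAut))⁻¹ * ((gc * tauAut) * (hSemi a ha).gam) ∉ I8n F := by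
  intro hmem
  have hcj := nm_cj_ne ha
  have e : ((hSemi a ha).gam * (gc * tauAut))⁻¹ * ((gc * tauAut) * (hSemi a ha).gam) =
      ((Lsemi (cj a) hcj).symm.comp (hSemi a ha)).gam := by
    rw [SemiSimO.gam_comp, SemiSimO.gam_symm]
    exact grp_comm_aux _ gc tauAut _ _ tau_inv gc_inv (gc_h_gc a ha) (tau_h_tau (cj a) hcj)
  rw [e] at hmem
  obtain ⟨c, hc, -⟩ := of_gam_mem_Inn p _ (by
    rw [SemiSimO.comp_σ, SemiSimO.symm_σ]
    ext x
    rfl) hmem
  rw [SemiSimO.comp_ν] at hc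
  have h1 := SemiSimO.ν_symm (Lsemi (cj a) hcj)
  have hLσ : (Lsemi (cj a) hcj).σ = RingEquiv.refl F := rfl
  rw [hLσ] at h1
  change nm (cj a) * (Lsemi (cj a) hcj).symm.ν = 1 at h1
  rw [nm_cj] at h1
  have h2 : (hSemi a ha).ν = 1 := rfl
  rw [h2, map_one, mul_one] at hc
  rw [hc] at h1
  have hc0 : c ≠ 0 := by
    rintro rfl
    rw [mul_zero, mul_zero] at h1
    exact zero_ne_one h1
  apply hns
  refine ⟨c⁻¹, ?_⟩
  field_simp
  linear_combination h1

end main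

section odd
variable {p f : ℕ} [hp : Fact p.Prime]

set_option maxHeartbeats 1600000 in
/-- **`Out(PΩ⁺₈(q)) ≅ S₄ × C_f`**, `q` odd -/
theorem out8_odd (hf : 1 ≤ f) (hF : Fintype.card F = p ^ f) (hp2 : p ≠ 2) :
    Nonempty (Cfsg.Out (Cfsg.POmega F ⇑(QPlus F 4)) ≃*
      Equiv.Perm (Fin 4) × Multiplicative (ZMod f)) := by
  classical
  haveI : CharP F p := charP_of_card_pow' hF
  have hpodd : Odd p := hp.out.odd_of_ne_two hp2
  have hoddF : Odd (Fintype.card F) := by rw [hF]; exact hpodd.pow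
  have h2 : (2 : F) ≠ 0 := two_ne_zero_of_odd hoddF
  have hnd := nondegenerate_QPlus F 4
  have h5 : 5 ≤ Fintype.card (Fin 4 ⊕ Fin 4) := by rw [card_KK]; omega
  have hI : Nat.card (I8n F) = Nat.card (Cfsg.POmega F ⇑(QPlus F 4)) :=
    card_Inn_of_perfect_quot (Omega_perfect (QPlus F 4) hnd h5)
  have hfun : Cfsg.quadFormPlus 4 F = ⇑(QPlus F 4) := (funext (QPlus_apply F 4)).symm
  have hA := card_aut_plus (F := F) (m := 4) p f hf hF (le_refl 4)
  have hev : Even (4 * (p ^ f - 1) / 2) := ⟨p ^ f - 1, by omega⟩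
  rw [hfun, if_pos rfl, if_neg hp2, if_pos hev] at hA
  have hG : Nat.card (Cfsg.Out (Cfsg.POmega F ⇑(QPlus F 4))) = 24 * f := by
    have h3 := Subgroup.card_eq_card_quotient_mul_card_subgroup (I8n F)
    rw [hA, hI] at h3
    have hpos : 0 < Nat.card (Cfsg.POmega F ⇑(QPlus F 4)) := by
      rw [← hI]
      exact Nat.card_pos
    apply Nat.eq_of_mul_eq_mul_right hpos
    exact h3.symm.trans (by ring)
  haveI : Finite (RingAut F) := Nat.finite_of_card_ne_zero (by rw [card_ringAut' hF hf]; omega)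
  -- a non-square
  have hchar : ringChar F ≠ 2 := by
    intro h
    apply h2
    have := ringChar.spec F 2
    have h3 : ((2 : ℕ) : F) = 0 := by rw [this, h]
    exact_mod_cast h3
  obtain ⟨μ, hμ⟩ := FiniteField.exists_nonsquare hchar
  have hμ0 : μ ≠ 0 := by
    rintro rfl
    exact hμ ⟨0, (mul_zero 0).symm⟩
  obtain ⟨a₀, ha₀⟩ := exists_nm μ
  have hna : nm a₀ ≠ 0 := by rw [ha₀]; exact hμ0
  have hns : ¬ IsSquare (nm a₀) := by rw [ha₀]; exact hμ
  -- the homomorphisms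
  set Ψb : Cfsg.Out (Cfsg.POmega F ⇑(QPlus F 4)) →* RingAut F :=
    QuotientGroup.lift (I8n F) (PsiA p) (Inn_le_PsiA_ker p) with hΨb
  set πb : Cfsg.Out (Cfsg.POmega F ⇑(QPlus F 4)) →* Equiv.Perm (A8 F ⧸ Γ8 F) :=
    QuotientGroup.lift (I8n F) pi3 Inn_le_pi3_ker with hπb
  set sb : RingAut F →* Cfsg.Out (Cfsg.POmega F ⇑(QPlus F 4)) :=
    (QuotientGroup.mk' (I8n F)).comp fld8 with hsb
  have hmk : ∀ x y : A8 F, (QuotientGroup.mk x : Cfsg.Out (Cfsg.POmega F ⇑(QPlus F 4))) *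
      QuotientGroup.mk y = QuotientGroup.mk (x * y) := fun x y => rfl
  have hnotcore : ∀ x : A8 F, x ∉ (Γ8 F).normalCore →
      πb (QuotientGroup.mk x) ≠ 1 := by
    intro x hx h
    apply hx
    rw [← pi3_ker, MonoidHom.mem_ker]
    exact h
  have c1 : (QuotientGroup.mk tauAut : Cfsg.Out (Cfsg.POmega F ⇑(QPlus F 4))) *
      QuotientGroup.mk tauAut = 1 := by
    rw [hmk, tauAut_mul_self]; rfl
  have c2 : (QuotientGroup.mk gc : Cfsg.Out (Cfsg.POmega F ⇑(QPlus F 4))) *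
      QuotientGroup.mk gc = 1 := by
    rw [hmk, gc_mul_self]; rfl
  have c3 : (QuotientGroup.mk tauAut : Cfsg.Out (Cfsg.POmega F ⇑(QPlus F 4))) *
      QuotientGroup.mk gc * QuotientGroup.mk tauAut =
      QuotientGroup.mk gc * QuotientGroup.mk tauAut * QuotientGroup.mk gc := by
    rw [hmk, hmk, hmk, hmk, braid, tau'_eq]
  have c4 : Ψb (QuotientGroup.mk tauAut) = 1 := PsiA_tau p
  have c5 : Ψb (QuotientGroup.mk gc) = 1 := PsiA_of_mem_D p _ gc_mem_D
  have c6 : πb (QuotientGroup.mk tauAut) ≠ 1 :=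
    hnotcore _ (fun h => tau_not_mem p (Subgroup.normalCore_le _ h))
  have c7 : πb (QuotientGroup.mk gc) ≠ 1 := hnotcore _ (gc_not_mem_core p)
  have c8 : πb (QuotientGroup.mk tauAut) ≠ πb (QuotientGroup.mk gc) := by
    intro h
    have h1 : (pi3 (F := F)) ((tauAut : A8 F)⁻¹ * gc) = 1 := by
      rw [map_mul, map_inv]
      have h' : pi3 (tauAut : A8 F) = pi3 (gc : A8 F) := h
      rw [h', inv_mul_cancel]
    rw [← MonoidHom.mem_ker, pi3_ker] at h1
    have h2 := Subgroup.normalCore_le _ h1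
    apply tau_not_mem (F := F) p
    have h3 := Subgroup.mul_mem _ h2 (gc_mem (F := F))
    rw [mul_assoc, gc_mul_self, mul_one] at h3
    have h4 := Subgroup.inv_mem _ h3
    rwa [inv_inv] at h4
  have c9 : ∀ σ, Ψb (sb σ) = σ := fun σ => PsiA_fld8 p σ
  have c10 : ∀ σ, sb σ * QuotientGroup.mk tauAut = QuotientGroup.mk tauAut * sb σ := by
    intro σ
    change (QuotientGroup.mk (fld8 σ) : Cfsg.Out _) * QuotientGroup.mk tauAut =
      QuotientGroup.mk tauAut * QuotientGroup.mk (fld8 σ)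
    rw [hmk, hmk, fld8_tau]
  have c11 : ∀ σ, sb σ * QuotientGroup.mk gc = QuotientGroup.mk gc * sb σ := by
    intro σ
    change (QuotientGroup.mk (fld8 σ) : Cfsg.Out _) * QuotientGroup.mk gc =
      QuotientGroup.mk gc * QuotientGroup.mk (fld8 σ)
    rw [hmk, hmk, fld8_gc]
  have c12 : πb (QuotientGroup.mk (hSemi a₀ hna).gam) = 1 := by
    have h1 : (hSemi a₀ hna).gam ∈ (pi3 (F := F)).ker := by
      rw [pi3_ker]
      exact h_mem_core p a₀ hna
    exact h1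
  have c13 : (QuotientGroup.mk (hSemi a₀ hna).gam : Cfsg.Out (Cfsg.POmega F ⇑(QPlus F 4))) *
      (QuotientGroup.mk gc * QuotientGroup.mk tauAut) ≠
      (QuotientGroup.mk gc * QuotientGroup.mk tauAut) * QuotientGroup.mk (hSemi a₀ hna).gam := by
    intro h
    rw [hmk, hmk, hmk] at h
    exact h_not_comm p a₀ hna hns (QuotientGroup.eq.mp h)
  obtain ⟨e1⟩ := OutGrp.nonempty_mulEquiv_S4_prod hf hG (card_ringAut' hF hf) πb Ψb sb
    (QuotientGroup.mk tauAut) (QuotientGroup.mk gc) (QuotientGroup.mk (hSemi a₀ hna).gam)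
    c1 c2 c3 c4 c5 c6 c7 c8 c9 c10 c11 c12 c13
  obtain ⟨e2⟩ := Cfsg.Agent.Lib.Helper15.Dk.exists_ringAut_mulEquiv (F := F) p f hF
  exact ⟨e1.trans (MulEquiv.prodCongr (MulEquiv.refl _) e2)⟩

end odd

end Cfsg.Agent.Lib.Helper6.Tri
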