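import Mathlib
import Cfsg.Agent.Lib.Helper6.PlusCentC
import Cfsg.Agent.Lib.Helper6.TriN
import Cfsg.Agent.S0790

/-!
# Field automorphisms of `PΩ⁺`, part D: normality of the inner-diagonal group for `m = 4`
-/

set_option autoImplicit false
set_option linter.unusedSectionVars false
set_option linter.unusedVariables false
set_option linter.style.haveILetI false

namespace Cfsg.Agent.Lib.Helper6.PlusCent

open Module QuadraticMap Matrix Cfsg.Agent.Lib.Helper6 Cfsg.Agent.Lib.Helper15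
  Cfsg.Agent.Lib.Helper6.OmegaAut Cfsg.Agent.Lib.Helper6.SimAut Cfsg.Agent.Lib.Helper6.SingClass
  Cfsg.Agent.Lib.Helper6.Inndiag Cfsg.Agent.Lib.Helper6.AutInduced Cfsg.Agent.S2722 Cfsg.Agent.S2725
  Cfsg.Agent.Lib.Helper16.FieldCentOmegaOdd Cfsg.Agent.Lib.Helper16.FieldCentOrth
  Cfsg.Agent.Lib.Helper6.AutOrt Cfsg.Agent.Lib.Helper6.Tri

section grp
variable {G : Type*} [Group G]

theorem conj_mul_aux (t a b : G) (ht : t * t = 1) :
    t * (a * b) * t = (t * a * t) * (t * b * t) := by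
  calc t * (a * b) * t = t * a * 1 * b * t := by group
    _ = t * a * (t * t) * b * t := by rw [ht]
    _ = _ := by group

theorem conj_inv_aux (t a : G) (ht : t * t = 1) : t * a⁻¹ * t = (t * a * t)⁻¹ := by
  have : t⁻¹ = t := inv_eq_of_mul_eq_one_right ht
  rw [_root_.mul_inv_rev, _root_.mul_inv_rev, this, mul_assoc]

theorem conj_conj_aux (t a : G) (ht : t * t = 1) : t * (t * a * t) * t = a := by
  calc t * (t * a * t) * t = (t * t) * a * (t * t) := by group
    _ = a := by rw [ht, one_mul, mul_one]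

theorem comm_aux (h x : G) : (h * x)⁻¹ * (x * h) = (x⁻¹ * h⁻¹ * x⁻¹⁻¹) * h := by group

theorem case2_aux (γ t β : G) (ht : t⁻¹ = t) :
    (γ * t) * β * (γ * t)⁻¹ = γ * (t * β * t) * γ⁻¹ := by
  rw [_root_.mul_inv_rev, ht]; group

theorem case3_aux (γ g t β : G) (ht : t⁻¹ = t) (hg : g⁻¹ = g) :
    (γ * (g * t * g)) * β * (γ * (g * t * g))⁻¹ =
      γ * (g * (t * (g * β * g⁻¹) * t) * g⁻¹) * γ⁻¹ := by
  simp only [_root_.mul_inv_rev, ht, hg]; group

theorem decomp_aux (γ k f β : G) (e : γ = k * f) :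
    γ * β * γ⁻¹ = k * (f * β * f⁻¹) * k⁻¹ := by
  rw [e]; group

/-- an involution which swaps two generators of `I` modulo `N` normalises `I` -/
theorem conj_invol_stable (t : G) (ht : t * t = 1) (N I : Subgroup G) (hNI : N ≤ I)
    (hidx : N.relIndex I = 4) (htN : ∀ β ∈ N, t * β * t ∈ N) (h L : G) (hh : h ∈ I) (hL : L ∈ I)
    (hthL : t * h * t = L) (h1 : h ∉ N) (h2 : L ∉ N) (h3 : h⁻¹ * L ∉ N) :
    ∀ β ∈ I, t * β * t ∈ I := by
  have htLh : t * L * t = h := by
    rw [← hthL]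
    exact conj_conj_aux t h ht
  set J : Subgroup G :=
    { carrier := {β | β ∈ I ∧ t * β * t ∈ I}
      one_mem' := by
        refine ⟨Subgroup.one_mem _, ?_⟩
        rw [mul_one, ht]
        exact Subgroup.one_mem _
      mul_mem' := by
        rintro a b ⟨ha1, ha2⟩ ⟨hb1, hb2⟩
        refine ⟨Subgroup.mul_mem _ ha1 hb1, ?_⟩
        rw [conj_mul_aux t a b ht]
        exact Subgroup.mul_mem _ ha2 hb2
      inv_mem' := by
        rintro a ⟨ha1, ha2⟩
        refine ⟨Subgroup.inv_mem _ ha1, ?_⟩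
        rw [conj_inv_aux t a ht]
        exact Subgroup.inv_mem _ ha2 } with hJ
  have hJle : J ≤ I := fun β hβ => hβ.1
  have hIJ : N ≤ J := fun β hβ => ⟨hNI hβ, hNI (htN β hβ)⟩
  have hhJ : h ∈ J := ⟨hh, by rw [hthL]; exact hL⟩
  have hLJ : L ∈ J := ⟨hL, by rw [htLh]; exact hh⟩
  have hmul := Subgroup.relIndex_mul_relIndex _ _ _ hIJ hJle
  rw [hidx] at hmul
  have hJtop : I ≤ J := by
    rw [← Subgroup.relIndex_eq_one]
    by_contra hne
    have hmul' : N.relIndex J * J.relIndex I = 2 ^ 2 := by rw [hmul]; norm_num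
    have hd : N.relIndex J ∣ 2 ^ 2 := ⟨_, hmul'.symm⟩
    have hd2 : J.relIndex I ∣ 2 ^ 2 := ⟨_, ((mul_comm _ _).trans hmul').symm⟩
    rw [Nat.dvd_prime_pow Nat.prime_two] at hd hd2
    obtain ⟨a, ha4, haeq⟩ := hd
    obtain ⟨b, hb4, hbeq⟩ := hd2
    rw [haeq, hbeq, ← pow_add] at hmul'
    have hab : a + b = 2 := Nat.pow_right_injective (le_refl 2) hmul'
    have hb0 : b ≠ 0 := by
      intro h0
      apply hne
      rw [hbeq, h0, pow_zero]
    interval_cases a
    · rw [pow_zero, Subgroup.relIndex_eq_one] at haeq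
      exact h1 (haeq hhJ)
    · rw [pow_one] at haeq
      have h4 := Subgroup.mul_mem_iff_of_index_two (H := N.subgroupOf J) haeq
        (a := ⟨h⁻¹, Subgroup.inv_mem _ hhJ⟩) (b := ⟨L, hLJ⟩)
      rw [Subgroup.mem_subgroupOf, Subgroup.mem_subgroupOf, Subgroup.mem_subgroupOf] at h4
      apply h3
      apply h4.mpr
      constructor
      · intro h
        exact absurd ((Subgroup.inv_mem_iff _).mp h) h1
      · intro h
        exact absurd h h2
    · omega
  intro β hβ
  exact (hJtop hβ).2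

end grp

variable {F : Type*} [Field F] [Fintype F]

section diag
variable {m : ℕ} [Std (QPlus F m)]

/-- a linear similarity with a diagonal matrix induces an inner-diagonal automorphism -/
theorem gam_mem_Ip_of_diag (Φ : SemiSimO (QPlus F m)) (hσ : Φ.σ = RingEquiv.refl F)
    (d : Fin m ⊕ Fin m → F) (hd : ∀ i, d i ≠ 0) (hS : ∀ x, Φ.S x = fun i => d i * x i) :
    Φ.gam ∈ Ip F m := by
  obtain ⟨D, hD⟩ : ∃ D : GL (Fin m ⊕ Fin m) F,
      (D : Matrix (Fin m ⊕ Fin m) (Fin m ⊕ Fin m) F) = Matrix.diagonal d := by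
    refine ⟨⟨Matrix.diagonal d, Matrix.diagonal (fun i => (d i)⁻¹), ?_, ?_⟩, rfl⟩
    · rw [Matrix.diagonal_mul_diagonal, ← Matrix.diagonal_one]
      congr 1
      funext i
      exact mul_inv_cancel₀ (hd i)
    · rw [Matrix.diagonal_mul_diagonal, ← Matrix.diagonal_one]
      congr 1
      funext i
      exact inv_mul_cancel₀ (hd i)
  have hDv : ∀ x : Fin m ⊕ Fin m → F,
      (D : Matrix (Fin m ⊕ Fin m) (Fin m ⊕ Fin m) F) *ᵥ x = fun i => d i * x i := by
    intro x
    rw [hD]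
    funext i
    rw [Matrix.mulVec_diagonal]
  have hDGO : D ∈ GO (QPlus F m) := by
    refine ⟨Units.mk0 Φ.ν Φ.hν, fun v => ?_⟩
    rw [hDv, ← hS, Φ.form, hσ]
    rfl
  have hK : (⟨D, hDGO⟩ : ↥(GO (QPlus F m))) ∈ Kp F m := by
    apply mem_Kp_of_le
    intro x hx
    obtain ⟨y, hy, rfl⟩ := (mem_image _ (U0 F m) x).mp hx
    rw [mem_U0] at hy ⊢
    intro i
    change ((D : Matrix (Fin m ⊕ Fin m) (Fin m ⊕ Fin m) F) *ᵥ y) (Sum.inr i) = 0
    rw [hDv]
    change d (Sum.inr i) * y (Sum.inr i) = 0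
    rw [hy i, mul_zero]
  refine ⟨⟨D, hDGO⟩, hK, ?_⟩
  rw [fGO_eq_gam]
  apply SemiSimO.gam_eq_of_S_eq
  intro x
  rw [hS, simGO_S]
  exact hDv x

end diag

section odd
variable {m : ℕ}

theorem Kp_eq_KK [DecidableEq F] (h2 : (2 : F) ≠ 0) (hm : 3 ≤ m) (v₀ : Fin m ⊕ Fin m → F)
    (hv₀ : QPlus F m v₀ ≠ 0) : Kp F m = KK (QPlus F m) v₀ hv₀ m := by
  ext g
  rw [mem_Kp_iff_det h2 hm, mem_KK_iff]

/-- the index of the inner automorphisms in the inner-diagonal group, `q` odd, `-1 ∈ Ω` -/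
theorem relIndex_Inn_Ip_of_mem (h2 : (2 : F) ≠ 0) (hm : 4 ≤ m)
    (hneg : negIso (QPlus F m) ∈ Cfsg.Omega F ⇑(QPlus F m)) :
    (Cfsg.Inn (Cfsg.POmega F ⇑(QPlus F m))).relIndex (Ip F m) = 4 := by
  classical
  have hQ := nondegenerate_QPlus F m
  have h5 : 5 ≤ Fintype.card (Fin m ⊕ Fin m) := by rw [card_idx]; omega
  have T := plusTriple' F m (by omega)
  have hv₀ := T_nonsingular _ T
  have hchar : ringChar F ≠ 2 := by
    intro h
    apply h2
    have := ringChar.spec F 2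
    have h3 : ((2 : ℕ) : F) = 0 := by rw [this, h]
    exact_mod_cast h3
  obtain ⟨lam, hlam⟩ := FiniteField.exists_nonsquare hchar
  have hlam0 : lam ≠ 0 := by
    rintro rfl
    exact hlam ⟨0, (mul_zero 0).symm⟩
  set lamU : Fˣ := Units.mk0 lam hlam0 with hlamU
  set h : ↥(GO (QPlus F m)) := ⟨plusSim m lamU, plusSim_mem m _⟩ with hh
  have hmulr : mulr (QPlus F m) h = lamU :=
    mulr_eq (QPlus F m) _ hv₀ _ lamU (plusSim_spec m _)
  have hhsq : ¬ IsSquare ((mulr (QPlus F m) h : Fˣ) : F) := by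
    rw [hmulr]
    exact hlam
  have hhK : h ∈ KK (QPlus F m) _ hv₀ m := by
    rw [mem_KK_iff, hmulr]
    exact plusSim_det F m lamU
  unfold Ip
  rw [Kp_eq_KK h2 (by omega) _ hv₀,
    ← Subgroup.relIndex_mul_relIndex _ _ _ (Inn_le_psoAut (QPlus F m))
      (psoAut_le_map (QPlus F m) h2 hQ h5 _ hv₀ m (card_idx m)),
    relIndex_Inn_psoAut_of_mem (QPlus F m) h2 hQ h5 T hneg,
    relIndex_psoAut_map (QPlus F m) h2 hQ h5 T _ hv₀ m (card_idx m) h hhsq hhK]

theorem negIso_mem_iff (hodd : Odd (Fintype.card F)) (hm : 1 ≤ m) :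
    negIso (QPlus F m) ∈ Cfsg.Omega F ⇑(QPlus F m) ↔ Fintype.card F ^ m % 4 = 1 := by
  have hfun : Cfsg.quadFormPlus m F = ⇑(QPlus F m) := (funext (QPlus_apply F m)).symm
  have hneg := Cfsg.Agent.S0790.result (F := F) rfl hodd m hm
  rw [hfun] at hneg
  exact (exists_neg_iff (QPlus F m)).symm.trans hneg

end odd

section tri

/-- the diagonal octonion of norm `lam` -/
def dOct (lam : F) : I8 → F := Sum.elim ![lam, 0, 0, 0] ![1, 0, 0, 0]

theorem nm_dOct (lam : F) : nm (dOct lam) = lam := by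
  simp [nm, dOct]

theorem nm_dOct_ne {lam : F} (hlam : lam ≠ 0) : nm (dOct lam) ≠ 0 := by
  rw [nm_dOct]; exact hlam

theorem L_dOct_mem {lam : F} (hlam : lam ≠ 0) :
    (Lsemi (dOct lam) (nm_dOct_ne hlam)).gam ∈ Ip F 4 := by
  apply gam_mem_Ip_of_diag _ rfl (Sum.elim (fun _ => lam) (fun _ => 1))
  · intro i
    rcases i with i | i
    · exact hlam
    · exact one_ne_zero
  · intro x
    rw [Lsemi_S]
    funext i
    revert i
    apply I8_cases <;> simp [omul_l0, omul_l1, omul_l2, omul_l3, omul_r0, omul_r1, omul_r2, omul_r3,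
      dOct]

theorem h_dOct_mem {lam : F} (hlam : lam ≠ 0) :
    (hSemi (dOct lam) (nm_dOct_ne hlam)).gam ∈ Ip F 4 := by
  apply gam_mem_Ip_of_diag _ rfl (Sum.elim ![-lam, -1, -1, -1] ![-lam⁻¹, -1, -1, -1])
  · apply I8_cases <;> simp [hlam]
  · intro x
    rw [hSemi_S, nm_dOct]
    funext i
    revert i
    apply I8_cases <;> simp [omul_l0, omul_l1, omul_l2, omul_l3, omul_r0, omul_r1, omul_r2, omul_r3,
      dOct] <;> field_simp

section main
variable (p : ℕ) [hp : Fact p.Prime] [hcp : CharP F p]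

set_option maxHeartbeats 1600000 in
include hp hcp in
/-- triality normalises the inner-diagonal group -/
theorem tau_Ip (β : A8 F) (hβ : β ∈ Ip F 4) : tauAut * β * tauAut ∈ Ip F 4 := by
  classical
  have hN := Cfsg.innNormal (Cfsg.POmega F ⇑(QPlus F 4))
  have htI : ∀ β : A8 F, β ∈ I8n F → tauAut * β * tauAut ∈ I8n F := by
    intro β hβ
    have := hN.conj_mem β hβ tauAut
    rwa [tau_inv] at this
  by_cases h2 : (2 : F) = 0
  · rw [Ip_eq_Inn_two h2 (le_refl 4)] at hβ ⊢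
    exact htI β hβ
  · have hodd : Odd (Fintype.card F) := by
      rcases Nat.even_or_odd (Fintype.card F) with he | ho
      · exfalso
        apply h2
        obtain ⟨k, hk⟩ := he
        have := Nat.cast_card_eq_zero F
        rw [hk, ← two_mul] at this
        have hchar := CharP.char_is_prime F p
        have h3 : (p : ℕ) ∣ 2 * k := (CharP.cast_eq_zero_iff F p _).mp this
        obtain ⟨n, hn⟩ := FiniteField.card F p
        have h4 : 2 ∣ (p : ℕ) ^ (n : ℕ) := by rw [← hn.2, hk, ← two_mul]; exact dvd_mul_right 2 k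
        have h5 : (2 : ℕ) ∣ p := Nat.Prime.dvd_of_dvd_pow Nat.prime_two h4
        have h6 : p = 2 := ((Nat.prime_dvd_prime_iff_eq Nat.prime_two hp.out).mp h5).symm
        have := CharP.cast_eq_zero F p
        rw [h6] at this
        exact_mod_cast this
      · exact ho
    have hneg : negIso (QPlus F 4) ∈ Cfsg.Omega F ⇑(QPlus F 4) := by
      rw [negIso_mem_iff hodd (by norm_num)]
      obtain ⟨k, hk⟩ := hodd
      rw [hk, Nat.pow_mod]
      have : (2 * k + 1) % 4 = 1 ∨ (2 * k + 1) % 4 = 3 := by omega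
      rcases this with h | h <;> rw [h] <;> norm_num
    have hidx := relIndex_Inn_Ip_of_mem h2 (le_refl 4) hneg
    have hchar : ringChar F ≠ 2 := by
      intro h
      apply h2
      have := ringChar.spec F 2
      have h3 : ((2 : ℕ) : F) = 0 := by rw [this, h]
      exact_mod_cast h3
    obtain ⟨lam, hlam⟩ := FiniteField.exists_nonsquare hchar
    have hlam0 : lam ≠ 0 := by
      rintro rfl
      exact hlam ⟨0, (mul_zero 0).symm⟩
    have ha := nm_dOct_ne hlam0
    have hns : ¬ IsSquare (nm (dOct lam)) := by rw [nm_dOct]; exact hlam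
    set hh := (hSemi (dOct lam) ha).gam with hhdef
    set LL := (Lsemi (dOct lam) ha).gam with hLdef
    have hhI : hh ∈ Ip F 4 := h_dOct_mem hlam0
    have hLI : LL ∈ Ip F 4 := L_dOct_mem hlam0
    have hthτ : tauAut * hh * tauAut = LL := tau_h_tau (dOct lam) ha
    have htLτ : tauAut * LL * tauAut = hh := by
      rw [← hthτ]
      exact conj_conj_aux tauAut hh tauAut_mul_self
    -- non-membership in the inner automorphisms
    have hh_not : hh ∉ I8n F := by
      intro hmem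
      apply h_not_comm p (dOct lam) ha hns
      have h1 := hN.conj_mem _ (Subgroup.inv_mem _ hmem) (gc * tauAut)⁻¹
      have e : ((hSemi (dOct lam) ha).gam * (gc * tauAut))⁻¹ * ((gc * tauAut) *
          (hSemi (dOct lam) ha).gam) = ((gc * tauAut)⁻¹ * hh⁻¹ * (gc * tauAut)⁻¹⁻¹) * hh :=
        comm_aux _ _
      rw [e]
      exact Subgroup.mul_mem _ h1 hmem
    have hL_not : LL ∉ I8n F := by
      intro hmem
      obtain ⟨c, hc, -⟩ := of_gam_mem_Inn p (Lsemi (dOct lam) ha) rfl hmem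
      apply hns
      exact ⟨c, hc⟩
    have hhL_not : hh⁻¹ * LL ∉ I8n F := by
      intro hmem
      have e : hh⁻¹ * LL = ((hSemi (dOct lam) ha).symm.comp (Lsemi (dOct lam) ha)).gam := by
        rw [SemiSimO.gam_comp, SemiSimO.gam_symm]
      rw [e] at hmem
      obtain ⟨c, hc, -⟩ := of_gam_mem_Inn p _ (by
        rw [SemiSimO.comp_σ, SemiSimO.symm_σ]
        ext x
        rfl) hmem
      rw [SemiSimO.comp_ν] at hc
      have h1 := SemiSimO.ν_symm (hSemi (dOct lam) ha)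
      have hσ1 : (hSemi (dOct lam) ha).σ = RingEquiv.refl F := rfl
      have hν1 : (hSemi (dOct lam) ha).ν = 1 := rfl
      rw [hσ1, hν1, one_mul] at h1
      change (hSemi (dOct lam) ha).symm.ν = 1 at h1
      rw [h1, one_mul] at hc
      have hσ2 : (hSemi (dOct lam) ha).symm.σ = RingEquiv.refl F := by
        rw [SemiSimO.symm_σ]
        ext x
        rfl
      rw [hσ2] at hc
      apply hns
      exact ⟨c, hc⟩
    exact conj_invol_stable tauAut tauAut_mul_self (I8n F) (Ip F 4) Inn_le_Ip hidx htI hh LL hhI hLI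
      hthτ hh_not hL_not hhL_not β hβ

include hp hcp in
/-- for `m = 4` the inner-diagonal group is normal in the automorphism group -/
theorem Ip_normal_four : (Ip F 4).Normal := by
  classical
  constructor
  intro β hβ α
  -- conjugation by elements of `PΓO`
  have hΓ : ∀ γ ∈ Γ8 F, ∀ β ∈ Ip F 4, γ * β * γ⁻¹ ∈ Ip F 4 := by
    intro γ hγ β hβ
    have h1 := gamma_decomp p γ hγ
    set σ := psiG p ⟨γ, hγ⟩ with hσ
    change _ ∈ Cfsg.pgoAut F ⇑(QPlus F 4) at h1
    rw [pgoAut_eq_range] at h1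
    obtain ⟨k, hk⟩ := h1
    have e : γ = fGO (QPlus F 4) k * fld8 σ := by rw [hk, inv_mul_cancel_right]
    have e2 : γ * β * γ⁻¹ =
        fGO (QPlus F 4) k * (fld8 σ * β * (fld8 σ)⁻¹) * (fGO (QPlus F 4) k)⁻¹ :=
      decomp_aux γ _ _ β e
    rw [e2]
    exact Ip_conj_fGO p (le_refl 4) k _ (Ip_conj_field p (le_refl 4) σ β hβ)
  have hgcΓ : (gc : A8 F) ∈ Γ8 F := gc_mem
  obtain ⟨γ, hγ, h | h | h⟩ := aut_cases_right p α
  · rw [h]
    exact hΓ γ hγ β hβ
  · have e : α * β * α⁻¹ = γ * (tauAut * β * tauAut) * γ⁻¹ := by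
      rw [h]
      exact case2_aux γ tauAut β tau_inv
    rw [e]
    exact hΓ γ hγ _ (tau_Ip p β hβ)
  · have e : α * β * α⁻¹ = γ * (gc * (tauAut * (gc * β * gc⁻¹) * tauAut) * gc⁻¹) * γ⁻¹ := by
      rw [h, tau'_eq]
      exact case3_aux γ gc tauAut β tau_inv gc_inv
    rw [e]
    exact hΓ γ hγ _ (hΓ gc hgcΓ _ (tau_Ip p _ (hΓ gc hgcΓ β hβ)))

end main

end tri

end Cfsg.Agent.Lib.Helper6.PlusCent
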