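import Mathlib
import Cfsg.Agent.Lib.Helper6.PlusCentC

/-!
# Field automorphisms of `PΩ⁺`, part E: the centraliser of a field automorphism in `Inndiag`
-/

set_option autoImplicit false
set_option linter.unusedSectionVars false
set_option linter.unusedVariables false
set_option linter.style.haveILetI false

namespace Cfsg.Agent.Lib.Helper6.PlusCent

open Module QuadraticMap Matrix Cfsg.Agent.Lib.Helper6 Cfsg.Agent.Lib.Helper15
  Cfsg.Agent.Lib.Helper6.OmegaAut Cfsg.Agent.Lib.Helper6.SimAut Cfsg.Agent.Lib.Helper6.SingClass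
  Cfsg.Agent.Lib.Helper6.Inndiag Cfsg.Agent.Lib.Helper6.AutInduced Cfsg.Agent.S2722 Cfsg.Agent.S2725
  Cfsg.Agent.Lib.Helper16.FieldCentOmegaOdd Cfsg.Agent.Lib.Helper16.FieldCentOrth
  Cfsg.Agent.Lib.Helper16.OrthDescent
  Cfsg.Agent.Lib.Helper6.AutOrt Cfsg.Agent.Lib.Helper6.Tri
open Cfsg.Agent.Lib.Helper16.FieldCentPSL (mem_cent_comap)

variable {F : Type*} [Field F] [Fintype F] {F₀ : Type*} [Field F₀] [Fintype F₀] (j : F₀ →+* F)
  {m : ℕ}

/-- a similarity which is fixed up to a scalar by `σ` descends, up to a scalar, to the fixed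
field (characteristic free) -/
theorem exists_descent' (hm : 4 ≤ m) [Std (QPlus F m)] [Std (QPlus F₀ m)] (σ : F ≃+* F)
    (hj : ∀ a : F, σ a = a ↔ a ∈ Set.range j) (g : ↥(GO (QPlus F m))) (μ : F)
    (hμ : (g.1 : Matrix (Fin m ⊕ Fin m) (Fin m ⊕ Fin m) F).map σ =
      μ • (g.1 : Matrix (Fin m ⊕ Fin m) (Fin m ⊕ Fin m) F)) :
    ∃ (g₀ : ↥(GO (QPlus F₀ m))) (a : F), a ≠ 0 ∧
      ((mapGO' j (by omega : 3 ≤ m) g₀).1 : Matrix (Fin m ⊕ Fin m) (Fin m ⊕ Fin m) F) =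
        a • (g.1 : Matrix (Fin m ⊕ Fin m) (Fin m ⊕ Fin m) F) := by
  haveI := nonempty_idx (QPlus F m)
  have hjinj : Function.Injective j := RingHom.injective j
  obtain ⟨a, ha0, ha⟩ := exists_fixed_smul σ
    (g.1 : Matrix (Fin m ⊕ Fin m) (Fin m ⊕ Fin m) F) (gl_ne_zero' g.1) μ hμ
  have hent : ∀ s t, ∃ b : F₀,
      j b = (a • (g.1 : Matrix (Fin m ⊕ Fin m) (Fin m ⊕ Fin m) F)) s t := by
    intro s t
    have h1 : σ ((a • (g.1 : Matrix (Fin m ⊕ Fin m) (Fin m ⊕ Fin m) F)) s t) =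
        (a • (g.1 : Matrix (Fin m ⊕ Fin m) (Fin m ⊕ Fin m) F)) s t := by
      have := congrFun (congrFun ha s) t
      rwa [Matrix.map_apply] at this
    obtain ⟨b, hb⟩ := (hj _).mp h1
    exact ⟨b, hb⟩
  choose M₀ hM₀ using hent
  have hM₀' : (Matrix.of M₀).map j =
      a • (g.1 : Matrix (Fin m ⊕ Fin m) (Fin m ⊕ Fin m) F) := by
    ext s t
    rw [Matrix.map_apply, Matrix.of_apply, hM₀]
  have hdet : (Matrix.of M₀).det ≠ 0 := by
    intro h0
    have h1 := RingHom.map_det j (Matrix.of M₀)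
    have h2' : j.mapMatrix (Matrix.of M₀) = (Matrix.of M₀).map j := rfl
    rw [h2', hM₀', h0, map_zero, Matrix.det_smul] at h1
    have h3 : (g.1 : Matrix (Fin m ⊕ Fin m) (Fin m ⊕ Fin m) F).det ≠ 0 := by
      have := (Matrix.GeneralLinearGroup.det g.1).ne_zero
      exact this
    exact mul_ne_zero (pow_ne_zero _ ha0) h3 h1.symm
  have hQM : ∀ v : Fin m ⊕ Fin m → F₀, j (QPlus F₀ m (Matrix.of M₀ *ᵥ v)) =
      (a * a * (mulr (QPlus F m) g : F)) * j (QPlus F₀ m v) := by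
    intro v
    rw [← QPlus_map j, ← QPlus_map j]
    have h1 : (fun i => j ((Matrix.of M₀ *ᵥ v) i)) =
        (Matrix.of M₀).map j *ᵥ (fun i => j (v i)) := by
      funext i
      exact RingHom.map_mulVec j (Matrix.of M₀) v i
    rw [h1, hM₀', Matrix.smul_mulVec, Q_smul, mulr_spec]
    ring
  obtain ⟨v₀, hv₀⟩ := SemiSimO.exists_Q_ne_zero (Q := QPlus F₀ m)
  obtain ⟨c₀, hc₀⟩ : ∃ c₀ : F₀, c₀ = QPlus F₀ m (Matrix.of M₀ *ᵥ v₀) / QPlus F₀ m v₀ := ⟨_, rfl⟩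
  have hjc₀ : j c₀ = a * a * (mulr (QPlus F m) g : F) := by
    rw [hc₀, map_div₀, hQM v₀]
    have : j (QPlus F₀ m v₀) ≠ 0 := (map_ne_zero j).mpr hv₀
    field_simp
  have hc₀0 : c₀ ≠ 0 := by
    intro h0
    rw [h0, map_zero] at hjc₀
    exact mul_ne_zero (mul_ne_zero ha0 ha0) (Units.ne_zero _) hjc₀.symm
  have hsim : ∀ v : Fin m ⊕ Fin m → F₀, QPlus F₀ m (Matrix.of M₀ *ᵥ v) = c₀ * QPlus F₀ m v := by
    intro v
    apply hjinj
    rw [hQM, map_mul, hjc₀]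
  obtain ⟨g₀, hg₀⟩ : ∃ g₀ : ↥(GO (QPlus F₀ m)),
      (g₀.1 : Matrix (Fin m ⊕ Fin m) (Fin m ⊕ Fin m) F₀) = Matrix.of M₀ :=
    ⟨⟨Matrix.GeneralLinearGroup.mkOfDetNeZero (Matrix.of M₀) hdet,
      ⟨Units.mk0 c₀ hc₀0, fun v => hsim v⟩⟩, rfl⟩
  refine ⟨g₀, a, ha0, ?_⟩
  rw [mapGO'_val, hg₀]
  exact hM₀'

section centiso
variable (p : ℕ) [hp : Fact p.Prime] [hcp : CharP F p] [hcp₀ : CharP F₀ p]

include hp hcp hcp₀ in
/-- the centraliser of a field automorphism in the inner-diagonal group is the inner-diagonal group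
over the fixed field -/
theorem cent_iso_plus (hm : 4 ≤ m) [Std (QPlus F m)] [Std (QPlus F₀ m)] (σ : F ≃+* F)
    (hj : ∀ a : F, σ a = a ↔ a ∈ Set.range j) (α : MulAut (Cfsg.POmega F ⇑(QPlus F m)))
    (hIn : (Ip F m).Normal) :
    Nonempty (↥(Ip F m ⊓ Subgroup.centralizer {α⁻¹ * (fieldPlus F m σ).gam * α}) ≃*
      ↥(Ip F₀ m)) := by
  classical
  haveI := nonempty_idx (QPlus F m)
  have hm3 : 3 ≤ m := by omega
  have hjinj : Function.Injective j := RingHom.injective j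
  have hFS : ∀ x, (fieldPlus F m σ).S x = fun i => σ (x i) := fun _ => rfl
  obtain ⟨Ψ, hΨ⟩ : ∃ Ψ : ↥(Kp F₀ m) →* MulAut (Cfsg.POmega F ⇑(QPlus F m)),
      Ψ = ((cA α).comp (mapGO' j hm3)).comp (Kp F₀ m).subtype := ⟨_, rfl⟩
  have hΨa : ∀ k₀ : ↥(Kp F₀ m), Ψ k₀ = cA α (mapGO' j hm3 k₀.1) := fun k₀ => by rw [hΨ]; rfl
  have hmem : ∀ g, cA α g ∈ Subgroup.centralizer {α⁻¹ * (fieldPlus F m σ).gam * α} ↔
      ∃ μ : F, (g.1 : Matrix (Fin m ⊕ Fin m) (Fin m ⊕ Fin m) F).map σ =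
        μ • (g.1 : Matrix (Fin m ⊕ Fin m) (Fin m ⊕ Fin m) F) := by
    intro g
    rw [← Subgroup.mem_comap, mem_cent_comap, cA_comm_iff p α σ (fieldPlus F m σ) hFS]
  have hιinj : Function.Injective
      (fun M : Matrix (Fin m ⊕ Fin m) (Fin m ⊕ Fin m) F₀ => M.map j) :=
    Matrix.map_injective hjinj
  have hcAI : ∀ g : ↥(GO (QPlus F m)), cA α g ∈ Ip F m ↔ g ∈ Kp F m := by
    intro g
    rw [cA_apply, ← fGO_mem_Ip_iff p hm]
    constructor
    · intro h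
      have := hIn.conj_mem _ h α
      have e : α * (α⁻¹ * fGO (QPlus F m) g * α) * α⁻¹ = fGO (QPlus F m) g := by group
      rwa [e] at this
    · intro h
      have := hIn.conj_mem _ h α⁻¹
      rwa [inv_inv] at this
  have hrange : Ψ.range =
      Ip F m ⊓ Subgroup.centralizer {α⁻¹ * (fieldPlus F m σ).gam * α} := by
    apply le_antisymm
    · rintro _ ⟨k₀, rfl⟩
      rw [hΨa]
      refine ⟨?_, ?_⟩
      · exact (hcAI _).mpr ((mapGO'_mem_Kp_iff j hm3 k₀.1).mpr k₀.2)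
      · apply (hmem _).mpr
        refine ⟨1, ?_⟩
        rw [one_smul, mapGO'_val]
        ext s t
        rw [Matrix.map_apply, Matrix.map_apply]
        exact (hj _).mpr ⟨_, rfl⟩
    · rintro β ⟨hβ1, hβ2⟩
      have h1 := hIn.conj_mem _ hβ1 α
      obtain ⟨k, hk, hkβ⟩ := h1
      have hβk : β = cA α k := by
        rw [cA_apply, hkβ]; group
      have hβ2' : cA α k ∈ Subgroup.centralizer {α⁻¹ * (fieldPlus F m σ).gam * α} := by
        rw [← hβk]; exact hβ2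
      obtain ⟨μ, hμ⟩ := (hmem k).mp hβ2'
      obtain ⟨g₀, a, ha0, hg₀⟩ := exists_descent' j hm σ hj k μ hμ
      have hgK : mapGO' j hm3 g₀ ∈ Kp F m := by
        have e : mapGO' j hm3 g₀ =
            ⟨scalGL (Units.mk0 a ha0), scalGL_mem_GO (QPlus F m) _⟩ * k := by
          apply Subtype.ext
          apply Units.ext
          rw [hg₀]
          change _ = ((scalGL (Units.mk0 a ha0) : GL (Fin m ⊕ Fin m) F) :
            Matrix (Fin m ⊕ Fin m) (Fin m ⊕ Fin m) F) *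
            (k.1 : Matrix (Fin m ⊕ Fin m) (Fin m ⊕ Fin m) F)
          rw [scalGL_val, Matrix.smul_mul, Matrix.one_mul]
          rfl
        rw [e]
        exact Subgroup.mul_mem _ (scal_mem_Kp _) hk
      have hg₀K : g₀ ∈ Kp F₀ m := (mapGO'_mem_Kp_iff j hm3 g₀).mp hgK
      refine ⟨⟨g₀, hg₀K⟩, ?_⟩
      rw [hΨa, hβk, cA_apply, cA_apply]
      congr 2
      exact fGO_eq_of_smul k _ a ha0 hg₀
  have hker : Ψ.ker = ((fGO (QPlus F₀ m)).comp (Kp F₀ m).subtype).ker := by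
    ext k₀
    rw [MonoidHom.mem_ker, MonoidHom.mem_ker, hΨa, cA_apply, MonoidHom.comp_apply]
    have h1 : α⁻¹ * fGO (QPlus F m) (mapGO' j hm3 k₀.1) * α = 1 ↔
        fGO (QPlus F m) (mapGO' j hm3 k₀.1) = 1 := by
      constructor
      · intro h
        calc fGO (QPlus F m) (mapGO' j hm3 k₀.1)
            = α * (α⁻¹ * fGO (QPlus F m) (mapGO' j hm3 k₀.1) * α) * α⁻¹ := by group
          _ = 1 := by rw [h]; group
      · intro h
        rw [h]; group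
    rw [h1, fGO_eq_one_iff' p, fGO_eq_one_iff' p, mapGO'_val]
    change _ ↔ ∃ c : F₀, (k₀.1.1 : Matrix (Fin m ⊕ Fin m) (Fin m ⊕ Fin m) F₀) = c • 1
    constructor
    · rintro ⟨μ, hμ⟩
      have i0 : Fin m ⊕ Fin m := Classical.arbitrary _
      have hμ0 : j ((k₀.1.1 : Matrix (Fin m ⊕ Fin m) (Fin m ⊕ Fin m) F₀) i0 i0) = μ := by
        have := congrFun (congrFun hμ i0) i0
        simpa using this
      refine ⟨(k₀.1.1 : Matrix (Fin m ⊕ Fin m) (Fin m ⊕ Fin m) F₀) i0 i0, ?_⟩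
      apply hιinj
      simp only
      rw [hμ]
      ext s t
      rw [Matrix.map_apply, Matrix.smul_apply, Matrix.smul_apply, Matrix.one_apply,
        Matrix.one_apply]
      by_cases hst : s = t
      · rw [if_pos hst, if_pos hst, smul_eq_mul, smul_eq_mul, mul_one, mul_one, hμ0]
      · rw [if_neg hst, if_neg hst, smul_zero, smul_zero, map_zero]
    · rintro ⟨c, hc⟩
      refine ⟨j c, ?_⟩
      rw [hc]
      ext s t
      rw [Matrix.map_apply, Matrix.smul_apply, Matrix.smul_apply, Matrix.one_apply,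
        Matrix.one_apply]
      by_cases hst : s = t
      · rw [if_pos hst, if_pos hst, smul_eq_mul, smul_eq_mul, mul_one, mul_one]
      · rw [if_neg hst, if_neg hst, smul_zero, smul_zero, map_zero]
  have hI₀ : ((fGO (QPlus F₀ m)).comp (Kp F₀ m).subtype).range = Ip F₀ m := by
    unfold Ip
    rw [MonoidHom.range_comp, Subgroup.range_subtype]
  have e1 : ↥(Kp F₀ m) ⧸ Ψ.ker ≃* ↥Ψ.range := QuotientGroup.quotientKerEquivRange Ψ
  have e2 : ↥Ψ.range ≃*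
      ↥(Ip F m ⊓ Subgroup.centralizer {α⁻¹ * (fieldPlus F m σ).gam * α}) :=
    MulEquiv.subgroupCongr hrange
  have e3 : ↥(Kp F₀ m) ⧸ ((fGO (QPlus F₀ m)).comp (Kp F₀ m).subtype).ker ≃*
      ↥(Kp F₀ m) ⧸ Ψ.ker :=
    QuotientGroup.quotientMulEquivOfEq hker.symm
  have e4 : ↥(Kp F₀ m) ⧸ ((fGO (QPlus F₀ m)).comp (Kp F₀ m).subtype).ker ≃*
      ↥((fGO (QPlus F₀ m)).comp (Kp F₀ m).subtype).range :=
    QuotientGroup.quotientKerEquivRange _
  have e5 : ↥((fGO (QPlus F₀ m)).comp (Kp F₀ m).subtype).range ≃* ↥(Ip F₀ m) :=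
    MulEquiv.subgroupCongr hI₀
  exact ⟨(e2.symm.trans (e1.symm.trans (e3.symm.trans (e4.trans e5))))⟩

end centiso

end Cfsg.Agent.Lib.Helper6.PlusCent
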