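import Mathlib
import Cfsg.Agent.Lib.Helper6.PlusCentE
import Cfsg.Agent.Lib.Helper6.PlusCentD

/-!
# Field automorphisms of `PΩ⁺`, part F: counting classes, the set-up and the case of odd order
-/

set_option autoImplicit false
set_option linter.unusedSectionVars false
set_option linter.unusedVariables false
set_option linter.style.haveILetI false

namespace Cfsg.Agent.Lib.Helper6.PlusCent

open Module QuadraticMap Matrix Cfsg.Agent.Lib.Helper6 Cfsg.Agent.Lib.Helper15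
  Cfsg.Agent.Lib.Helper6.OmegaAut Cfsg.Agent.Lib.Helper6.SimAut Cfsg.Agent.Lib.Helper6.SingClass
  Cfsg.Agent.Lib.Helper6.Inndiag Cfsg.Agent.Lib.Helper6.AutInduced Cfsg.Agent.S2722 Cfsg.Agent.S2725
  Cfsg.Agent.Lib.Helper16.FieldCentOmegaOdd Cfsg.Agent.Lib.Helper16.FieldCentOrth
  Cfsg.Agent.Lib.Helper16.OrthDescent Cfsg.Agent.Lib.Helper16.SplitCount
  Cfsg.Agent.Lib.Helper6.AutOrt Cfsg.Agent.Lib.Helper6.Tri
open Cfsg.Agent.Lib.Helper16.FieldCentPSL (mem_cent_comap)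

/-- a class does not split over the same group -/
theorem splitClassCount_self {X : Type*} [Group X] (H : Subgroup X) (x : X) :
    Cfsg.splitClassCount H H x = 1 := by
  unfold Cfsg.splitClassCount
  rw [Nat.card_eq_one_iff_unique]
  constructor
  · constructor
    intro a b
    induction a using Quot.ind with | _ y => ?_
    induction b using Quot.ind with | _ z => ?_
    apply Quot.sound
    obtain ⟨y, h, hh, rfl⟩ := y
    obtain ⟨z, h', hh', rfl⟩ := z
    refine ⟨h' * h⁻¹, H.mul_mem hh' (H.inv_mem hh), ?_⟩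
    change h' * x * h'⁻¹ = h' * h⁻¹ * (h * x * h⁻¹) * (h' * h⁻¹)⁻¹
    group
  · exact ⟨Quot.mk _ ⟨x, 1, H.one_mem, by group⟩⟩

variable {F : Type*} [Field F] [Fintype F] {m : ℕ}

section setup
variable [Std (QPlus F m)]

/-- the parametrisation of the inner-diagonal group, conjugated by `α` -/
noncomputable def cK (α : MulAut (Cfsg.POmega F ⇑(QPlus F m))) :
    ↥(Kp F m) →* MulAut (Cfsg.POmega F ⇑(QPlus F m)) :=
  (cA α).comp (Kp F m).subtype

theorem cK_apply (α : MulAut (Cfsg.POmega F ⇑(QPlus F m))) (k : ↥(Kp F m)) :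
    cK α k = α⁻¹ * fGO (QPlus F m) k.1 * α := cA_apply α k.1

variable (F m) in
/-- the class preserving similarities inducing inner automorphisms -/
noncomputable def NK : Subgroup ↥(Kp F m) :=
  (Cfsg.Inn (Cfsg.POmega F ⇑(QPlus F m))).comap ((fGO (QPlus F m)).comp (Kp F m).subtype)

instance NK_normal : (NK F m).Normal := by
  haveI := Cfsg.innNormal (Cfsg.POmega F ⇑(QPlus F m))
  unfold NK
  infer_instance

theorem mem_NK (k : ↥(Kp F m)) :
    k ∈ NK F m ↔ fGO (QPlus F m) k.1 ∈ Cfsg.Inn (Cfsg.POmega F ⇑(QPlus F m)) := Iff.rfl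

theorem conj_mem_Inn_iff (α β : MulAut (Cfsg.POmega F ⇑(QPlus F m))) :
    α⁻¹ * β * α ∈ Cfsg.Inn (Cfsg.POmega F ⇑(QPlus F m)) ↔
      β ∈ Cfsg.Inn (Cfsg.POmega F ⇑(QPlus F m)) := by
  have hN := Cfsg.innNormal (Cfsg.POmega F ⇑(QPlus F m))
  constructor
  · intro h
    have := hN.conj_mem _ h α
    have e : α * (α⁻¹ * β * α) * α⁻¹ = β := by group
    rwa [e] at this
  · intro h
    have := hN.conj_mem _ h α⁻¹
    rwa [inv_inv] at this

theorem cK_mem_Inn_iff (α : MulAut (Cfsg.POmega F ⇑(QPlus F m))) (k : ↥(Kp F m)) :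
    cK α k ∈ Cfsg.Inn (Cfsg.POmega F ⇑(QPlus F m)) ↔ QuotientGroup.mk' (NK F m) k = 1 := by
  rw [cK_apply, conj_mem_Inn_iff, QuotientGroup.mk'_apply, QuotientGroup.eq_one_iff, mem_NK]

section charp
variable (p : ℕ) [hp : Fact p.Prime] [hcp : CharP F p]

include hp hcp in
theorem cK_range (hm : 4 ≤ m) (α : MulAut (Cfsg.POmega F ⇑(QPlus F m))) (hIn : (Ip F m).Normal) :
    (cK α).range = Ip F m := by
  ext β
  constructor
  · rintro ⟨k, rfl⟩
    rw [cK_apply]
    have h : fGO (QPlus F m) k.1 ∈ Ip F m := ⟨k.1, k.2, rfl⟩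
    have := hIn.conj_mem _ h α⁻¹
    rwa [inv_inv] at this
  · intro hβ
    obtain ⟨k, hk, hkβ⟩ := hIn.conj_mem _ hβ α
    refine ⟨⟨k, hk⟩, ?_⟩
    rw [cK_apply, hkβ]
    group

include hp hcp in
/-- the number of classes as an index -/
theorem count_eq (hm : 4 ≤ m) (α x : MulAut (Cfsg.POmega F ⇑(QPlus F m)))
    (hIn : (Ip F m).Normal) :
    Cfsg.splitClassCount (Ip F m) (Cfsg.Inn (Cfsg.POmega F ⇑(QPlus F m))) x =
      (((Subgroup.centralizer {x}).comap (cK α)).map (QuotientGroup.mk' (NK F m))).index :=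
  splitClassCount_eq (Ip F m) _ x (cK α) (cK_range p hm α hIn) Inn_le_Ip
    (QuotientGroup.mk' (NK F m)) (QuotientGroup.mk'_surjective _) (cK_mem_Inn_iff α)

include hp hcp in
theorem cK_comm_iff (α : MulAut (Cfsg.POmega F ⇑(QPlus F m))) (σ : F ≃+* F) (k : ↥(Kp F m)) :
    k ∈ (Subgroup.centralizer {α⁻¹ * (fieldPlus F m σ).gam * α}).comap (cK α) ↔
      ∃ μ : F, (k.1.1 : Matrix (Fin m ⊕ Fin m) (Fin m ⊕ Fin m) F).map σ =
        μ • (k.1.1 : Matrix (Fin m ⊕ Fin m) (Fin m ⊕ Fin m) F) := by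
  rw [mem_cent_comap]
  exact cA_comm_iff p α σ (fieldPlus F m σ) (fun _ => rfl) k.1

include hp hcp in
/-- the order of the quotient -/
theorem card_quot_NK (hm : 4 ≤ m) :
    Nat.card (↥(Kp F m) ⧸ NK F m) =
      (Cfsg.Inn (Cfsg.POmega F ⇑(QPlus F m))).relIndex (Ip F m) := by
  classical
  rw [← Subgroup.index_eq_card]
  set f : ↥(Kp F m) →* ↥(Ip F m) :=
    MonoidHom.codRestrict ((fGO (QPlus F m)).comp (Kp F m).subtype) (Ip F m)
      (fun k => ⟨k.1, k.2, rfl⟩) with hf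
  have hsurj : Function.Surjective f := by
    rintro ⟨β, k, hk, rfl⟩
    exact ⟨⟨k, hk⟩, rfl⟩
  have e : NK F m = ((Cfsg.Inn (Cfsg.POmega F ⇑(QPlus F m))).subgroupOf (Ip F m)).comap f := by
    ext k
    rw [Subgroup.mem_comap, Subgroup.mem_subgroupOf, mem_NK]
    rfl
  rw [e, Subgroup.index_comap_of_surjective _ hsurj]
  rfl

/-- the criterion for lying in the image of the centraliser -/
theorem mem_D_of (α x : MulAut (Cfsg.POmega F ⇑(QPlus F m))) (k k' : ↥(Kp F m))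
    (hk' : k' ∈ (Subgroup.centralizer {x}).comap (cK α))
    (h : fGO (QPlus F m) (k'.1⁻¹ * k.1) ∈ Cfsg.Inn (Cfsg.POmega F ⇑(QPlus F m))) :
    QuotientGroup.mk' (NK F m) k ∈
      ((Subgroup.centralizer {x}).comap (cK α)).map (QuotientGroup.mk' (NK F m)) := by
  refine ⟨k', hk', ?_⟩
  rw [QuotientGroup.mk'_apply, QuotientGroup.mk'_apply, QuotientGroup.eq, mem_NK]
  exact h

end charp

end setup

section lists
variable (p : ℕ) [hp : Fact p.Prime] [hcp : CharP F p] [Std (QPlus F m)]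

include hp hcp in
/-- an even product of reflections of square spinor norm induces an inner automorphism -/
theorem fGO_list_mem_Inn (h2 : (2 : F) ≠ 0) (g : ↥(GO (QPlus F m)))
    (vs : List (Fin m ⊕ Fin m → F)) (hvs : ∀ v ∈ vs, QPlus F m v ≠ 0)
    (hg : ((g.1 : GL (Fin m ⊕ Fin m) F) : Matrix (Fin m ⊕ Fin m) (Fin m ⊕ Fin m) F) =
      (vs.map (fun v => Cfsg.reflectionMatrix ⇑(QPlus F m) v)).prod)
    (he : Even vs.length) (hsq : IsSquare (vs.map (fun v => QPlus F m v)).prod) :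
    fGO (QPlus F m) g ∈ Cfsg.Inn (Cfsg.POmega F ⇑(QPlus F m)) := by
  classical
  obtain ⟨o, ho⟩ := exists_of_list' (QPlus F m) vs hvs
  have hΩ : o ∈ Cfsg.Omega F ⇑(QPlus F m) := by
    rw [mem_Omega_iff_list' (QPlus F m) h2 (nondegenerate_QPlus F m)
      (by rw [card_idx]; have := (inferInstance : Std (QPlus F m)).seven; rw [card_idx] at this; omega)
      o vs hvs ho]
    exact ⟨he, hsq⟩
  rw [Cfsg.Agent.Lib.Helper16.FieldCentOmegaOdd.fGO_mem_Inn_iff p]
  refine ⟨1, o, hΩ, ?_⟩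
  rw [one_smul, hg, ho]

end lists

end Cfsg.Agent.Lib.Helper6.PlusCent
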