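import Mathlib
import Cfsg.Agent.Lib.Helper6.PlusCentF

/-!
# Field automorphisms of `PΩ⁺`, part G: a field automorphism of odd order does not split
-/

set_option autoImplicit false
set_option linter.unusedSectionVars false
set_option linter.unusedVariables false
set_option linter.style.haveILetI false

namespace Cfsg.Agent.Lib.Helper6.PlusCent

open Module QuadraticMap Matrix Cfsg.Agent.Lib.Helper6 Cfsg.Agent.Lib.Helper15
  Cfsg.Agent.Lib.Helper6.OmegaAut Cfsg.Agent.Lib.Helper6.SimAut Cfsg.Agent.Lib.Helper6.SingClass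
  Cfsg.Agent.Lib.Helper6.Inndiag Cfsg.Agent.Lib.Helper6.AutInduced Cfsg.Agent.S2722 Cfsg.Agent.S2725
  Cfsg.Agent.Lib.Helper16.FieldCentOmegaOdd Cfsg.Agent.Lib.Helper16.FieldCentOrth
  Cfsg.Agent.Lib.Helper16.OrthDescent Cfsg.Agent.Lib.Helper16.SplitCount
  Cfsg.Agent.Lib.Helper6.AutOrt Cfsg.Agent.Lib.Helper6.Tri
open Cfsg.Agent.Lib.Helper16.FieldCentPSL (mem_cent_comap)

variable {F : Type*} [Field F] [Fintype F] {F₀ : Type*} [Field F₀] [Fintype F₀] (j : F₀ →+* F)
  {m : ℕ}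

theorem ringChar_ne_two' {K : Type*} [Field K] (h2 : (2 : K) ≠ 0) : ringChar K ≠ 2 := by
  intro h
  apply h2
  have := ringChar.spec K 2
  have h3 : ((2 : ℕ) : K) = 0 := by rw [this, h]
  exact_mod_cast h3

/-- the product of two non-squares is a square -/
theorem isSquare_mul_of_not {K : Type*} [Field K] [Fintype K] (h2 : (2 : K) ≠ 0) (a b : K)
    (ha : ¬ IsSquare a) (hb : ¬ IsSquare b) : IsSquare (a * b) := by
  classical
  have ha0 : a ≠ 0 := by
    rintro rfl
    exact ha ⟨0, (mul_zero 0).symm⟩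
  have hb0 : b ≠ 0 := by
    rintro rfl
    exact hb ⟨0, (mul_zero 0).symm⟩
  rw [← quadraticChar_one_iff_isSquare (mul_ne_zero ha0 hb0), map_mul,
    quadraticChar_neg_one_iff_not_isSquare.mpr ha, quadraticChar_neg_one_iff_not_isSquare.mpr hb]
  norm_num

/-- similarities coming from the fixed field commute with the field automorphism -/
theorem mapGO'_fixed (hm3 : 3 ≤ m) (σ : F ≃+* F) (hj : ∀ a : F, σ a = a ↔ a ∈ Set.range j)
    (g₀ : ↥(GO (QPlus F₀ m))) :
    ∃ μ : F, ((mapGO' j hm3 g₀).1 : Matrix (Fin m ⊕ Fin m) (Fin m ⊕ Fin m) F).map σ =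
      μ • ((mapGO' j hm3 g₀).1 : Matrix (Fin m ⊕ Fin m) (Fin m ⊕ Fin m) F) := by
  refine ⟨1, ?_⟩
  rw [one_smul, mapGO'_val]
  ext s t
  rw [Matrix.map_apply, Matrix.map_apply]
  exact (hj _).mpr ⟨_, rfl⟩

/-- for an automorphism of odd order every scalar is a scalar of the fixed field times a square -/
theorem exists_sq_decomp (h2 : (2 : F) ≠ 0) (σ : F ≃+* F) {r : ℕ} (hσr : σ ^ r = 1) (hr : Odd r)
    (hj : ∀ a : F, σ a = a ↔ a ∈ Set.range j) (μ : Fˣ) :
    ∃ (μ₀ : F₀ˣ) (c : Fˣ), (μ : F) = j μ₀ * ((c : F) * c) := by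
  have h2₀ : (2 : F₀) ≠ 0 := by
    intro h
    apply h2
    have := congrArg j h
    rwa [map_ofNat, map_zero] at this
  by_cases hsq : IsSquare (μ : F)
  · obtain ⟨c, hc⟩ := hsq
    have hc0 : c ≠ 0 := by
      rintro rfl
      rw [mul_zero] at hc
      exact Units.ne_zero μ hc
    exact ⟨1, Units.mk0 c hc0, by rw [Units.val_one, map_one, one_mul, hc]; rfl⟩
  · obtain ⟨a, ha⟩ := FiniteField.exists_nonsquare (ringChar_ne_two' h2₀)
    have ha0 : a ≠ 0 := by
      rintro rfl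
      exact ha ⟨0, (mul_zero 0).symm⟩
    have hja := not_isSquare_of_odd j h2 σ hσr hr hj a ha
    have hja0 : j a ≠ 0 := (map_ne_zero j).mpr ha0
    have hinv : ¬ IsSquare (j a)⁻¹ := by
      intro h
      apply hja
      have := h.inv
      rwa [inv_inv] at this
    obtain ⟨c, hc⟩ := isSquare_mul_of_not h2 _ _ hsq hinv
    have hc0 : c ≠ 0 := by
      rintro rfl
      rw [mul_zero] at hc
      exact mul_ne_zero (Units.ne_zero μ) (inv_ne_zero hja0) hc
    refine ⟨Units.mk0 a ha0, Units.mk0 c hc0, ?_⟩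
    rw [Units.val_mk0, Units.val_mk0, ← hc]
    field_simp

section count
variable (p : ℕ) [hp : Fact p.Prime] [hcp : CharP F p] [hcp₀ : CharP F₀ p]

theorem mulr_scal (T : HypTriple (QPlus F m)) (c : Fˣ) :
    mulr (QPlus F m) ⟨scalGL c, scalGL_mem_GO (QPlus F m) c⟩ = c * c := by
  apply mulr_eq (QPlus F m) _ (T_nonsingular _ T)
  intro v
  rw [scalGL_val, Matrix.smul_mulVec, Matrix.one_mulVec, Q_smul, Units.val_mul]

theorem mulr_mapGO'_plusSim (hm3 : 3 ≤ m) (T : HypTriple (QPlus F m)) (μ₀ : F₀ˣ) :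
    mulr (QPlus F m) (mapGO' j hm3 ⟨plusSim m μ₀, plusSim_mem m μ₀⟩) =
      Units.map (j : F₀ →* F) μ₀ := by
  apply mulr_eq (QPlus F m) _ (T_nonsingular _ T)
  intro v
  rw [mapGO'_val, plusSim_map]
  exact plusSim_spec m _ v

include hp hcp in
theorem fGO_scal (hm : 4 ≤ m) [Std (QPlus F m)] (c : Fˣ) :
    fGO (QPlus F m) ⟨scalGL c, scalGL_mem_GO (QPlus F m) c⟩ = 1 := by
  rw [fGO_eq_one_iff' p]
  exact ⟨c, scalGL_val c⟩

set_option maxHeartbeats 1600000 in
include hp hcp hcp₀ in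
/-- a field automorphism of odd order: the class does not split -/
theorem count_odd (hm : 4 ≤ m) [Std (QPlus F m)] [Std (QPlus F₀ m)] (h2 : (2 : F) ≠ 0)
    (σ : F ≃+* F) (hj : ∀ a : F, σ a = a ↔ a ∈ Set.range j) {r : ℕ} (hσr : σ ^ r = 1)
    (hr : Odd r) (α : MulAut (Cfsg.POmega F ⇑(QPlus F m))) (hIn : (Ip F m).Normal) :
    Cfsg.splitClassCount (Ip F m) (Cfsg.Inn (Cfsg.POmega F ⇑(QPlus F m)))
      (α⁻¹ * (fieldPlus F m σ).gam * α) = 1 := by
  classical
  have hm3 : 3 ≤ m := by omega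
  have hQ := nondegenerate_QPlus F m
  have T := plusTriple' F m hm3
  have hv₀ := T_nonsingular _ T
  have h2₀ : (2 : F₀) ≠ 0 := by
    intro h
    apply h2
    have := congrArg j h
    rwa [map_ofNat, map_zero] at this
  rw [count_eq p hm α _ hIn]
  have htop : ((Subgroup.centralizer {α⁻¹ * (fieldPlus F m σ).gam * α}).comap (cK α)).map
      (QuotientGroup.mk' (NK F m)) = ⊤ := by
    rw [eq_top_iff]
    intro a _
    obtain ⟨k, rfl⟩ := QuotientGroup.mk'_surjective (NK F m) a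
    set μH := mulrHom (QPlus F m) _ hv₀ with hμH
    have hμHa : ∀ g, μH g = mulr (QPlus F m) g := fun g => rfl
    obtain ⟨μ₀, c, hμc⟩ := exists_sq_decomp j h2 σ hσr hr hj (mulr (QPlus F m) k.1)
    set P₀ : ↥(GO (QPlus F₀ m)) := ⟨plusSim m μ₀, plusSim_mem m μ₀⟩ with hP₀
    set P := mapGO' j hm3 P₀ with hP
    have hPK : P ∈ Kp F m := (mapGO'_mem_Kp_iff j hm3 P₀).mpr (plusSim_mem_Kp μ₀)
    set C : ↥(GO (QPlus F m)) := ⟨scalGL c, scalGL_mem_GO (QPlus F m) c⟩ with hC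
    have hCK : C ∈ Kp F m := scal_mem_Kp c
    have hfC : fGO (QPlus F m) C = 1 := fGO_scal p hm c
    set k₃ := C⁻¹ * P⁻¹ * k.1 with hk₃
    have hk₃K : k₃ ∈ Kp F m :=
      Subgroup.mul_mem _ (Subgroup.mul_mem _ (Subgroup.inv_mem _ hCK) (Subgroup.inv_mem _ hPK)) k.2
    have hmulr₃ : mulr (QPlus F m) k₃ = 1 := by
      rw [← hμHa, hk₃, map_mul, map_mul, map_inv, map_inv, hμHa, hμHa, hμHa, mulr_scal T,
        mulr_mapGO'_plusSim j hm3 T]
      apply Units.ext
      rw [Units.val_mul, Units.val_mul, hμc]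
      simp only [Units.val_inv_eq_inv_val, Units.val_mul, Units.coe_map, MonoidHom.coe_coe,
        Units.val_one]
      have h1 : j (μ₀ : F₀) ≠ 0 := (map_ne_zero j).mpr (Units.ne_zero μ₀)
      have h3 : (c : F) ≠ 0 := Units.ne_zero c
      field_simp
    have hk₃O : k₃.1 ∈ Cfsg.isometryGroup F ⇑(QPlus F m) := by
      rw [OmegaAut.mem_isometryGroup_iff]
      intro u
      rw [mulr_spec, hmulr₃, Units.val_one, one_mul]
    have hPk : P⁻¹ * k.1 = C * k₃ := by rw [hk₃]; group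
    obtain ⟨ws, hws, hk₃val⟩ := exists_list' (QPlus F m) hQ (Or.inr (by rw [card_idx]; omega))
      ⟨k₃.1, hk₃O⟩
    have hwlen : Even ws.length := (list_mem_Kp_iff ws hws k₃ hk₃val).mp hk₃K
    by_cases hI : fGO (QPlus F m) k₃ ∈ Cfsg.Inn (Cfsg.POmega F ⇑(QPlus F m))
    · apply mem_D_of α _ k ⟨P, hPK⟩
      · rw [cK_comm_iff p α σ]
        exact mapGO'_fixed j hm3 σ hj P₀
      · change fGO (QPlus F m) (P⁻¹ * k.1) ∈ _
        rw [hPk, map_mul, hfC, one_mul]
        exact hI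
    · have hns : ¬ IsSquare (ws.map (fun v => QPlus F m v)).prod := fun hsq =>
        hI (fGO_list_mem_Inn p h2 k₃ ws hws hk₃val hwlen hsq)
      obtain ⟨a, ha⟩ := FiniteField.exists_nonsquare (ringChar_ne_two' h2₀)
      have ha0 : a ≠ 0 := by
        rintro rfl
        exact ha ⟨0, (mul_zero 0).symm⟩
      have hja := not_isSquare_of_odd j h2 σ hσr hr hj a ha
      obtain ⟨u₀, hu₀⟩ := exists_Q_eq (QPlus F₀ m) 1
      obtain ⟨w₀, hw₀⟩ := exists_Q_eq (QPlus F₀ m) a
      have hl₀ : ∀ v ∈ [u₀, w₀], QPlus F₀ m v ≠ 0 := by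
        intro v hv
        simp only [List.mem_cons, List.not_mem_nil, or_false] at hv
        rcases hv with rfl | rfl
        · rw [hu₀]; exact one_ne_zero
        · rw [hw₀]; exact ha0
      obtain ⟨s₀, -, hs₀⟩ := exists_GO_of_list [u₀, w₀] hl₀
      have hs₀K : s₀ ∈ Kp F₀ m := (list_mem_Kp_iff _ hl₀ s₀ hs₀).mpr ⟨1, rfl⟩
      set s := mapGO' j hm3 s₀ with hs
      have hsK : s ∈ Kp F m := (mapGO'_mem_Kp_iff j hm3 s₀).mpr hs₀K
      have hk'K : P * s⁻¹ ∈ Kp F m := Subgroup.mul_mem _ hPK (Subgroup.inv_mem _ hsK)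
      apply mem_D_of α _ k ⟨P * s⁻¹, hk'K⟩
      · rw [cK_comm_iff p α σ]
        have e : P * s⁻¹ = mapGO' j hm3 (P₀ * s₀⁻¹) := by rw [map_mul, map_inv]
        have h := mapGO'_fixed j hm3 σ hj (P₀ * s₀⁻¹)
        rw [← e] at h
        exact h
      · change fGO (QPlus F m) ((P * s⁻¹)⁻¹ * k.1) ∈ _
        have e : (P * s⁻¹)⁻¹ * k.1 = s * C * k₃ := by
          calc (P * s⁻¹)⁻¹ * k.1 = s * (P⁻¹ * k.1) := by group
            _ = s * C * k₃ := by rw [hPk, mul_assoc]
        have e2 : fGO (QPlus F m) (s * C * k₃) = fGO (QPlus F m) (s * k₃) := by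
          rw [map_mul, map_mul, hfC, mul_one, ← map_mul]
        rw [e, e2]
        obtain ⟨us, hus⟩ : ∃ us : List (Fin m ⊕ Fin m → F),
            us = [u₀, w₀].map (fun v : Fin m ⊕ Fin m → F₀ => (fun i => j (v i))) := ⟨_, rfl⟩
        have hlu : ∀ w ∈ us, QPlus F m w ≠ 0 := by
          intro w hw
          rw [hus] at hw
          obtain ⟨v, hv, rfl⟩ := List.mem_map.mp hw
          rw [QPlus_map]
          exact (map_ne_zero j).mpr (hl₀ v hv)
        have hsval : ((s.1 : GL (Fin m ⊕ Fin m) F) : Matrix (Fin m ⊕ Fin m) (Fin m ⊕ Fin m) F) =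
            (us.map (fun v => Cfsg.reflectionMatrix ⇑(QPlus F m) v)).prod := by
          rw [hs, mapGO'_val, hs₀, refl_list_map j (QPlus F₀ m) (QPlus F m) (QPlus_map j), hus]
        apply fGO_list_mem_Inn p h2 (s * k₃) (us ++ ws)
        · intro v hv
          rcases List.mem_append.mp hv with h | h
          · exact hlu v h
          · exact hws v h
        · change ((s.1 : GL (Fin m ⊕ Fin m) F) : Matrix (Fin m ⊕ Fin m) (Fin m ⊕ Fin m) F) *
            ((k₃.1 : GL (Fin m ⊕ Fin m) F) : Matrix (Fin m ⊕ Fin m) (Fin m ⊕ Fin m) F) = _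
          rw [hsval, hk₃val, List.map_append, List.prod_append]
        · rw [List.length_append, hus, List.length_map]
          exact Even.add ⟨1, rfl⟩ hwlen
        · rw [List.map_append, List.prod_append, hus]
          simp only [List.map_cons, List.map_nil, List.prod_cons, List.prod_nil, mul_one, QPlus_map,
            hu₀, hw₀, map_one, one_mul]
          exact isSquare_mul_of_not h2 _ _ hja hns
  rw [htop, Subgroup.index_top]

end count

end Cfsg.Agent.Lib.Helper6.PlusCent
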