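import Mathlib
import Cfsg.Agent.Lib.Helper6.PlusCentG

/-!
# Field automorphisms of `PΩ⁺`, part H: an involutory field automorphism, `q` odd
-/

set_option autoImplicit false
set_option linter.unusedSectionVars false
set_option linter.unusedVariables false
set_option linter.style.haveILetI false

namespace Cfsg.Agent.Lib.Helper6.PlusCent

open Module QuadraticMap Matrix Cfsg.Agent.Lib.Helper6 Cfsg.Agent.Lib.Helper15
  Cfsg.Agent.Lib.Helper6.OmegaAut Cfsg.Agent.Lib.Helper6.SimAut Cfsg.Agent.Lib.Helper6.SingClass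
  Cfsg.Agent.Lib.Helper6.Inndiag Cfsg.Agent.Lib.Helper6.AutInduced Cfsg.Agent.S2722 Cfsg.Agent.S2725
  Cfsg.Agent.Lib.Helper16.FieldCentOmegaOdd Cfsg.Agent.Lib.Helper16.FieldCentOrth
  Cfsg.Agent.Lib.Helper16.OrthDescent Cfsg.Agent.Lib.Helper16.SplitCount
  Cfsg.Agent.Lib.Helper6.AutOrt Cfsg.Agent.Lib.Helper6.Tri Cfsg.Agent.Lib.Helper6.LamDiag
open Cfsg.Agent.Lib.Helper16.FieldCentPSL (mem_cent_comap)

variable {F : Type*} [Field F] [Fintype F] {F₀ : Type*} [Field F₀] [Fintype F₀] (j : F₀ →+* F)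
  {m : ℕ}

/-- a square root in the quadratic extension of an element of the subfield: when is it a square -/
theorem isSquare_sqrt_iff (h2 : (2 : F) ≠ 0) (hodd₀ : Odd (Fintype.card F₀))
    (hcard : Fintype.card F = Fintype.card F₀ ^ 2) (c : F) (μ₀ : F₀) (hμ₀ : μ₀ ≠ 0)
    (hc : c * c = j μ₀) :
    IsSquare c ↔ (Fintype.card F₀ % 4 = 3 ∨ IsSquare μ₀) := by
  have h2₀ : (2 : F₀) ≠ 0 := by
    intro h
    apply h2
    have := congrArg j h
    rwa [map_ofNat, map_zero] at this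
  have hch := ringChar_ne_two' h2
  have hch₀ := ringChar_ne_two' h2₀
  have hc0 : c ≠ 0 := by
    rintro rfl
    rw [mul_zero] at hc
    exact (map_ne_zero j).mpr hμ₀ hc.symm
  obtain ⟨n, hn⟩ := hodd₀
  have hq2 : Fintype.card F / 2 = 2 * (n * (n + 1)) := by
    rw [hcard, hn]
    have : (2 * n + 1) ^ 2 = 2 * (2 * (n * (n + 1))) + 1 := by ring
    rw [this]
    omega
  have hq₀2 : Fintype.card F₀ / 2 = n := by rw [hn]; omega
  have hne : (-1 : F) ≠ 1 := by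
    intro h
    apply h2
    linear_combination -h
  have hne₀ : (-1 : F₀) ≠ 1 := by
    intro h
    apply h2₀
    linear_combination -h
  rw [FiniteField.isSquare_iff hch hc0, FiniteField.isSquare_iff hch₀ hμ₀, hq2, hq₀2,
    pow_mul, pow_two, hc, pow_mul, ← map_pow]
  rcases FiniteField.pow_dichotomy hch₀ hμ₀ with h | h
  · rw [hq₀2] at h
    rw [h, map_one, one_pow]
    simp
  · rw [hq₀2] at h
    rw [h, map_neg, map_one, neg_one_pow_eq_one_iff_even hne]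
    have h1 : ¬ ((-1 : F₀) = 1) := hne₀
    simp only [h1, or_false]
    rw [hn, Nat.even_add_one, Nat.not_even_iff_odd]
    constructor
    · rintro ⟨t, ht⟩
      omega
    · intro h3
      rw [Nat.odd_iff]
      omega

/-- the multiplier of a base-changed similarity -/
theorem mulr_mapGO' (hm3 : 3 ≤ m) (g₀ : ↥(GO (QPlus F₀ m))) :
    mulr (QPlus F m) (mapGO' j hm3 g₀) = Units.map (j : F₀ →* F) (mulr (QPlus F₀ m) g₀) := by
  have T₀ := plusTriple' F₀ m hm3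
  have hv₀ := T_nonsingular _ T₀
  set v₀ := T₀.u 0 + T₀.w 0 with hv₀def
  have hjv : QPlus F m (fun i => j (v₀ i)) ≠ 0 := by
    rw [QPlus_map]
    exact (map_ne_zero j).mpr hv₀
  apply Units.ext
  have h1 := mulr_spec (QPlus F m) (mapGO' j hm3 g₀) (fun i => j (v₀ i))
  have h2 : ((mapGO' j hm3 g₀).1 : Matrix (Fin m ⊕ Fin m) (Fin m ⊕ Fin m) F) *ᵥ
      (fun i => j (v₀ i)) =
      fun i => j (((g₀.1 : Matrix (Fin m ⊕ Fin m) (Fin m ⊕ Fin m) F₀) *ᵥ v₀) i) := by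
    rw [mapGO'_val]
    funext i
    exact (RingHom.map_mulVec j _ v₀ i).symm
  rw [h2, QPlus_map, mulr_spec, map_mul, ← QPlus_map] at h1
  exact (mul_right_cancel₀ hjv h1).symm

section count
variable (p : ℕ) [hp : Fact p.Prime] [hcp : CharP F p] [hcp₀ : CharP F₀ p]

include hp hcp hcp₀ in
/-- when a class preserving similarity over the subfield of index two induces an inner
automorphism -/
theorem fGO_map_mem_Inn_iff (hm : 4 ≤ m) [Std (QPlus F m)] [Std (QPlus F₀ m)] (h2 : (2 : F) ≠ 0)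
    (hodd₀ : Odd (Fintype.card F₀)) (hcard : Fintype.card F = Fintype.card F₀ ^ 2)
    (hneg : negIso (QPlus F m) ∈ Cfsg.Omega F ⇑(QPlus F m))
    (k₀ : ↥(GO (QPlus F₀ m))) (hk₀ : k₀ ∈ Kp F₀ m) (c : Fˣ)
    (hc : (c : F) * c = j (mulr (QPlus F₀ m) k₀ : F₀)) :
    fGO (QPlus F m) (mapGO' j (by omega : 3 ≤ m) k₀) ∈ Cfsg.Inn (Cfsg.POmega F ⇑(QPlus F m)) ↔
      IsSquare ((c : F) ^ m) := by
  classical
  have hm3 : 3 ≤ m := by omega
  have hQ := nondegenerate_QPlus F m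
  have h5 : 5 ≤ Fintype.card (Fin m ⊕ Fin m) := by rw [card_idx]; omega
  have T := plusTriple' F m hm3
  obtain ⟨vs, hvs, hdec⟩ := exists_decomp hm3 k₀
  have hlen : Even vs.length := (mem_Kp_iff_of_decomp k₀ _ vs hvs hdec).mp hk₀
  obtain ⟨R₀, -, hR₀⟩ := exists_GO_of_list vs hvs
  set P₀ : ↥(GO (QPlus F₀ m)) := ⟨plusSim m (mulr (QPlus F₀ m) k₀), plusSim_mem m _⟩ with hP₀
  have hk₀e : k₀ = P₀ * R₀ := by
    apply Subtype.ext
    apply Units.ext
    rw [hdec, ← hR₀]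
    rfl
  -- the reflections part induces an inner automorphism
  obtain ⟨us, hus⟩ : ∃ us : List (Fin m ⊕ Fin m → F),
      us = vs.map (fun v : Fin m ⊕ Fin m → F₀ => (fun i => j (v i))) := ⟨_, rfl⟩
  have hlu : ∀ w ∈ us, QPlus F m w ≠ 0 := by
    intro w hw
    rw [hus] at hw
    obtain ⟨v, hv, rfl⟩ := List.mem_map.mp hw
    rw [QPlus_map]
    exact (map_ne_zero j).mpr (hvs v hv)
  have hRInn : fGO (QPlus F m) (mapGO' j hm3 R₀) ∈ Cfsg.Inn (Cfsg.POmega F ⇑(QPlus F m)) := by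
    apply fGO_list_mem_Inn p h2 _ us hlu
    · rw [mapGO'_val, hR₀, refl_list_map j (QPlus F₀ m) (QPlus F m) (QPlus_map j), hus]
    · rw [hus, List.length_map]; exact hlen
    · apply isSquare_list_prod
      intro b hb
      obtain ⟨w, hw, rfl⟩ := List.mem_map.mp hb
      rw [hus] at hw
      obtain ⟨v, hv, rfl⟩ := List.mem_map.mp hw
      rw [QPlus_map]
      exact isSquare_of_quadratic j hodd₀ hcard _
  -- the diagonal part
  obtain ⟨d, hdmat, hdΩ⟩ := exists_lamDiag F m h2 (by omega) (c : F) (Units.ne_zero c)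
  set dG : ↥(GO (QPlus F m)) := ⟨d.1, isometryGroup_le_GO _ d.2⟩ with hdG
  set C : ↥(GO (QPlus F m)) := ⟨scalGL c, scalGL_mem_GO (QPlus F m) c⟩ with hC
  have hPe : mapGO' j hm3 P₀ = C * dG := by
    apply Subtype.ext
    apply Units.ext
    rw [mapGO'_val, plusSim_map]
    change ((plusSim m (Units.map (j : F₀ →* F) (mulr (QPlus F₀ m) k₀)) : GL (Fin m ⊕ Fin m) F) :
        Matrix (Fin m ⊕ Fin m) (Fin m ⊕ Fin m) F) =
      ((scalGL c : GL (Fin m ⊕ Fin m) F) : Matrix (Fin m ⊕ Fin m) (Fin m ⊕ Fin m) F) *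
        ((d.1 : GL (Fin m ⊕ Fin m) F) : Matrix (Fin m ⊕ Fin m) (Fin m ⊕ Fin m) F)
    rw [hdmat, scalGL_val, Matrix.smul_mul, Matrix.one_mul, ← Matrix.diagonal_smul]
    change Matrix.diagonal _ = _
    congr 1
    funext k
    rcases k with i | i
    · simp only [Sum.elim_inl, Pi.smul_apply, smul_eq_mul, Units.coe_map, MonoidHom.coe_coe]
      exact hc.symm
    · simp only [Sum.elim_inr, Pi.smul_apply, smul_eq_mul]
      rw [mul_inv_cancel₀ (Units.ne_zero c)]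
  have hfC : fGO (QPlus F m) C = 1 := fGO_scal p hm c
  rw [hk₀e, map_mul, map_mul, hPe, map_mul, hfC, one_mul,
    Subgroup.mul_mem_cancel_right _ hRInn,
    SimAut.fGO_mem_Inn_iff (QPlus F m) hQ h5 T hneg dG d.2]
  exact hdΩ

include hp hcp hcp₀ in
/-- elements of the centraliser come from the fixed field -/
theorem exists_of_mem_comap (hm : 4 ≤ m) [Std (QPlus F m)] [Std (QPlus F₀ m)]
    (σ : F ≃+* F) (hj : ∀ a : F, σ a = a ↔ a ∈ Set.range j)
    (α : MulAut (Cfsg.POmega F ⇑(QPlus F m))) (k : ↥(Kp F m))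
    (hk : k ∈ (Subgroup.centralizer {α⁻¹ * (fieldPlus F m σ).gam * α}).comap (cK α)) :
    ∃ (g₀ : ↥(GO (QPlus F₀ m))) (a : Fˣ), g₀ ∈ Kp F₀ m ∧
      mapGO' j (by omega : 3 ≤ m) g₀ = ⟨scalGL a, scalGL_mem_GO (QPlus F m) a⟩ * k.1 := by
  have hm3 : 3 ≤ m := by omega
  rw [cK_comm_iff p α σ] at hk
  obtain ⟨μ, hμ⟩ := hk
  obtain ⟨g₀, a, ha0, hg₀⟩ := exists_descent' j hm σ hj k.1 μ hμ
  have e : mapGO' j hm3 g₀ =
      ⟨scalGL (Units.mk0 a ha0), scalGL_mem_GO (QPlus F m) _⟩ * k.1 := by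
    apply Subtype.ext
    apply Units.ext
    rw [hg₀]
    change _ = ((scalGL (Units.mk0 a ha0) : GL (Fin m ⊕ Fin m) F) :
      Matrix (Fin m ⊕ Fin m) (Fin m ⊕ Fin m) F) *
      (k.1.1 : Matrix (Fin m ⊕ Fin m) (Fin m ⊕ Fin m) F)
    rw [scalGL_val, Matrix.smul_mul, Matrix.one_mul]
    rfl
  have hgK : mapGO' j hm3 g₀ ∈ Kp F m := by
    rw [e]
    exact Subgroup.mul_mem _ (scal_mem_Kp _) k.2
  exact ⟨g₀, Units.mk0 a ha0, (mapGO'_mem_Kp_iff j hm3 g₀).mp hgK, e⟩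

theorem exists_sqrt_of_quadratic (hodd₀ : Odd (Fintype.card F₀))
    (hcard : Fintype.card F = Fintype.card F₀ ^ 2) (μ₀ : F₀ˣ) :
    ∃ c : Fˣ, (c : F) * c = j (μ₀ : F₀) := by
  obtain ⟨c, hc⟩ := isSquare_of_quadratic j hodd₀ hcard (μ₀ : F₀)
  have hc0 : c ≠ 0 := by
    rintro rfl
    rw [mul_zero] at hc
    exact (map_ne_zero j).mpr (Units.ne_zero μ₀) hc
  exact ⟨Units.mk0 c hc0, hc.symm⟩

set_option maxHeartbeats 1600000 in
include hp hcp hcp₀ in
/-- an involutory field automorphism, `q` odd: four classes unless `m` is odd and `q₀ ≡ 1 (4)` -/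
theorem count_two_four (hm : 4 ≤ m) [Std (QPlus F m)] [Std (QPlus F₀ m)] (h2 : (2 : F) ≠ 0)
    (hodd₀ : Odd (Fintype.card F₀)) (hcard : Fintype.card F = Fintype.card F₀ ^ 2)
    (hneg : negIso (QPlus F m) ∈ Cfsg.Omega F ⇑(QPlus F m))
    (σ : F ≃+* F) (hj : ∀ a : F, σ a = a ↔ a ∈ Set.range j)
    (α : MulAut (Cfsg.POmega F ⇑(QPlus F m))) (hIn : (Ip F m).Normal)
    (hcase : ¬ (Odd m ∧ Fintype.card F₀ % 4 = 1)) :
    Cfsg.splitClassCount (Ip F m) (Cfsg.Inn (Cfsg.POmega F ⇑(QPlus F m)))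
      (α⁻¹ * (fieldPlus F m σ).gam * α) = 4 := by
  classical
  have hm3 : 3 ≤ m := by omega
  rw [count_eq p hm α _ hIn]
  have hbot : ((Subgroup.centralizer {α⁻¹ * (fieldPlus F m σ).gam * α}).comap (cK α)).map
      (QuotientGroup.mk' (NK F m)) = ⊥ := by
    rw [eq_bot_iff]
    rintro _ ⟨k, hk, rfl⟩
    rw [Subgroup.mem_bot, QuotientGroup.mk'_apply, QuotientGroup.eq_one_iff, mem_NK]
    obtain ⟨g₀, a, hg₀K, hg₀⟩ := exists_of_mem_comap j p hm σ hj α k hk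
    have hfk : fGO (QPlus F m) k.1 = fGO (QPlus F m) (mapGO' j hm3 g₀) := by
      rw [hg₀, map_mul, fGO_scal p hm a, one_mul]
    rw [hfk]
    obtain ⟨c, hc⟩ := exists_sqrt_of_quadratic j hodd₀ hcard (mulr (QPlus F₀ m) g₀)
    rw [fGO_map_mem_Inn_iff j p hm h2 hodd₀ hcard hneg g₀ hg₀K c hc]
    rcases Nat.even_or_odd m with he | ho
    · obtain ⟨t, rfl⟩ := he
      exact ⟨(c : F) ^ t, by rw [← pow_add]⟩
    · have hq3 : Fintype.card F₀ % 4 = 3 := by
        obtain ⟨n, hn⟩ := hodd₀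
        have : Fintype.card F₀ % 4 ≠ 1 := fun h => hcase ⟨ho, h⟩
        omega
      have hsq : IsSquare (c : F) :=
        (isSquare_sqrt_iff j h2 hodd₀ hcard (c : F) _ (Units.ne_zero _) hc).mpr (Or.inl hq3)
      exact hsq.pow m
  rw [hbot, Subgroup.index_bot, card_quot_NK p hm, relIndex_Inn_Ip_of_mem h2 hm hneg]

set_option maxHeartbeats 1600000 in
include hp hcp hcp₀ in
/-- an involutory field automorphism, `q` odd: two classes when `m` is odd and `q₀ ≡ 1 (4)` -/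
theorem count_two_two (hm : 4 ≤ m) [Std (QPlus F m)] [Std (QPlus F₀ m)] (h2 : (2 : F) ≠ 0)
    (hodd₀ : Odd (Fintype.card F₀)) (hcard : Fintype.card F = Fintype.card F₀ ^ 2)
    (hneg : negIso (QPlus F m) ∈ Cfsg.Omega F ⇑(QPlus F m))
    (σ : F ≃+* F) (hj : ∀ a : F, σ a = a ↔ a ∈ Set.range j)
    (α : MulAut (Cfsg.POmega F ⇑(QPlus F m))) (hIn : (Ip F m).Normal)
    (hmodd : Odd m) (hq₀ : Fintype.card F₀ % 4 = 1) :
    Cfsg.splitClassCount (Ip F m) (Cfsg.Inn (Cfsg.POmega F ⇑(QPlus F m)))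
      (α⁻¹ * (fieldPlus F m σ).gam * α) = 2 := by
  classical
  have hm3 : 3 ≤ m := by omega
  have T := plusTriple' F m hm3
  have hv₀ := T_nonsingular _ T
  have h2₀ : (2 : F₀) ≠ 0 := by
    intro h
    apply h2
    have := congrArg j h
    rwa [map_ofNat, map_zero] at this
  rw [count_eq p hm α _ hIn]
  set D := ((Subgroup.centralizer {α⁻¹ * (fieldPlus F m σ).gam * α}).comap (cK α)).map
      (QuotientGroup.mk' (NK F m)) with hD
  have hcardA : Nat.card (↥(Kp F m) ⧸ NK F m) = 4 := by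
    rw [card_quot_NK p hm, relIndex_Inn_Ip_of_mem h2 hm hneg]
  haveI : Finite (↥(Kp F m) ⧸ NK F m) := Nat.finite_of_card_ne_zero (by rw [hcardA]; norm_num)
  -- `D` is not trivial
  have hDbot : D ≠ ⊥ := by
    obtain ⟨μ₀, hμ₀⟩ := FiniteField.exists_nonsquare (ringChar_ne_two' h2₀)
    have hμ₀0 : μ₀ ≠ 0 := by
      rintro rfl
      exact hμ₀ ⟨0, (mul_zero 0).symm⟩
    set μU : F₀ˣ := Units.mk0 μ₀ hμ₀0 with hμU
    set P₀ : ↥(GO (QPlus F₀ m)) := ⟨plusSim m μU, plusSim_mem m μU⟩ with hP₀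
    have hP₀K : P₀ ∈ Kp F₀ m := plusSim_mem_Kp μU
    have T₀ := plusTriple' F₀ m hm3
    have hmulr : mulr (QPlus F₀ m) P₀ = μU :=
      mulr_eq (QPlus F₀ m) _ (T_nonsingular _ T₀) _ μU (plusSim_spec m _)
    set P := mapGO' j hm3 P₀ with hP
    have hPK : P ∈ Kp F m := (mapGO'_mem_Kp_iff j hm3 P₀).mpr hP₀K
    obtain ⟨c, hc⟩ := exists_sqrt_of_quadratic j hodd₀ hcard (mulr (QPlus F₀ m) P₀)
    have hnotInn : fGO (QPlus F m) P ∉ Cfsg.Inn (Cfsg.POmega F ⇑(QPlus F m)) := by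
      rw [hP, fGO_map_mem_Inn_iff j p hm h2 hodd₀ hcard hneg P₀ hP₀K c hc]
      have hcns : ¬ IsSquare (c : F) := by
        rw [isSquare_sqrt_iff j h2 hodd₀ hcard (c : F) _ (Units.ne_zero _) hc, hmulr]
        rintro (h | h)
        · omega
        · exact hμ₀ h
      rw [isSquare_pow_iff F m (c : F) hcns (Units.ne_zero c)]
      exact Nat.not_even_iff_odd.mpr hmodd
    intro hbot
    have hmem : QuotientGroup.mk' (NK F m) ⟨P, hPK⟩ ∈ D := by
      refine ⟨⟨P, hPK⟩, (cK_comm_iff p α σ ⟨P, hPK⟩).mpr ?_, rfl⟩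
      exact mapGO'_fixed j hm3 σ hj P₀
    rw [hbot, Subgroup.mem_bot, QuotientGroup.mk'_apply, QuotientGroup.eq_one_iff, mem_NK] at hmem
    exact hnotInn hmem
  -- `D` is not everything
  have hDtop : D ≠ ⊤ := by
    obtain ⟨lam, hlam⟩ := FiniteField.exists_nonsquare (ringChar_ne_two' h2)
    have hlam0 : lam ≠ 0 := by
      rintro rfl
      exact hlam ⟨0, (mul_zero 0).symm⟩
    set lamU : Fˣ := Units.mk0 lam hlam0 with hlamU
    set L : ↥(GO (QPlus F m)) := ⟨plusSim m lamU, plusSim_mem m lamU⟩ with hL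
    have hLK : L ∈ Kp F m := plusSim_mem_Kp lamU
    have hmulrL : mulr (QPlus F m) L = lamU :=
      mulr_eq (QPlus F m) _ hv₀ _ lamU (plusSim_spec m _)
    intro htop
    have hmem : QuotientGroup.mk' (NK F m) ⟨L, hLK⟩ ∈ D := by rw [htop]; exact Subgroup.mem_top _
    obtain ⟨k, hk, hkL⟩ := hmem
    rw [QuotientGroup.mk'_apply, QuotientGroup.mk'_apply, QuotientGroup.eq, mem_NK] at hkL
    change fGO (QPlus F m) (k.1⁻¹ * L) ∈ _ at hkL
    rw [Cfsg.Agent.Lib.Helper16.FieldCentOmegaOdd.fGO_mem_Inn_iff p] at hkL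
    obtain ⟨c', ω, -, hω⟩ := hkL
    obtain ⟨g₀, a, hg₀K, hg₀⟩ := exists_of_mem_comap j p hm σ hj α k hk
    set μH := mulrHom (QPlus F m) _ hv₀ with hμH
    have hμHa : ∀ g, μH g = mulr (QPlus F m) g := fun g => rfl
    -- the multiplier of `k⁻¹ L`
    have h1 : ((mulr (QPlus F m) (k.1⁻¹ * L) : Fˣ) : F) = c' * c' := by
      have h3 := mulr_spec (QPlus F m) (k.1⁻¹ * L) (T.u 0 + T.w 0)
      rw [hω, Matrix.smul_mulVec, Q_smul, (OmegaAut.mem_isometryGroup_iff _ ω.1).mp ω.2] at h3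
      exact (mul_right_cancel₀ hv₀ h3).symm
    -- the multiplier of `k`
    have h4 : mulr (QPlus F m) (mapGO' j hm3 g₀) = a * a * mulr (QPlus F m) k.1 := by
      rw [hg₀, ← hμHa, map_mul, hμHa, hμHa, mulr_scal T]
    rw [mulr_mapGO' j hm3 g₀] at h4
    have h5 : mulr (QPlus F m) (k.1⁻¹ * L) = (mulr (QPlus F m) k.1)⁻¹ * lamU := by
      rw [← hμHa, map_mul, map_inv, hμHa, hμHa, hmulrL]
    obtain ⟨e, he⟩ := isSquare_of_quadratic j hodd₀ hcard (mulr (QPlus F₀ m) g₀ : F₀)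
    apply hlam
    have h6 : lam = (mulr (QPlus F m) k.1 : F) * (c' * c') := by
      rw [← h1, h5, Units.val_mul, Units.val_inv_eq_inv_val, hlamU, Units.val_mk0]
      field_simp
    have h7 : (mulr (QPlus F m) k.1 : F) = (e / a) * (e / a) := by
      have h8 := congrArg Units.val h4
      rw [Units.coe_map, Units.val_mul, Units.val_mul] at h8
      change j (mulr (QPlus F₀ m) g₀ : F₀) = _ at h8
      rw [he] at h8
      have ha0 : (a : F) ≠ 0 := Units.ne_zero a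
      field_simp
      linear_combination -h8
    rw [h6, h7]
    exact ⟨(e / a) * c', by ring⟩
  have hmul := Subgroup.card_mul_index D
  rw [hcardA] at hmul
  have hc1 : Nat.card D ≠ 1 := fun h => hDbot (Subgroup.card_eq_one.mp h)
  have hi1 : D.index ≠ 1 := fun h => hDtop (Subgroup.index_eq_one.mp h)
  have hdvd : D.index ∣ 4 := ⟨_, ((mul_comm _ _).trans hmul).symm⟩
  have hle : D.index ≤ 4 := Nat.le_of_dvd (by norm_num) hdvd
  have hpos : 0 < D.index := Nat.pos_of_ne_zero (fun h => by rw [h] at hmul; omega)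
  interval_cases hidx : D.index
  · exact absurd rfl hi1
  · rfl
  · omega
  · omega

end count

end Cfsg.Agent.Lib.Helper6.PlusCent
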