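import Mathlib
import Cfsg.Agent.Lib.Helper6.PlusCentH
import Cfsg.Agent.Lib.Helper6.TriL

/-!
# Field automorphisms of `PΩ⁺`, part I: the main theorem
-/

set_option autoImplicit false
set_option linter.unusedSectionVars false
set_option linter.unusedVariables false
set_option linter.style.haveILetI false

namespace Cfsg.Agent.Lib.Helper6.PlusCent

open Module QuadraticMap Matrix Cfsg.Agent.Lib.Helper6 Cfsg.Agent.Lib.Helper15
  Cfsg.Agent.Lib.Helper6.OmegaAut Cfsg.Agent.Lib.Helper6.SimAut Cfsg.Agent.Lib.Helper6.SingClass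
  Cfsg.Agent.Lib.Helper6.Inndiag Cfsg.Agent.Lib.Helper6.AutInduced Cfsg.Agent.S2722 Cfsg.Agent.S2725
  Cfsg.Agent.Lib.Helper16.FieldCentOmegaOdd Cfsg.Agent.Lib.Helper16.FieldCentOrth
  Cfsg.Agent.Lib.Helper16.OrthDescent Cfsg.Agent.Lib.Helper16.SplitCount
  Cfsg.Agent.Lib.Helper16.FieldCosetOmegaOdd
  Cfsg.Agent.Lib.Helper6.AutOrt Cfsg.Agent.Lib.Helper6.Tri Cfsg.Agent.Lib.Helper6.LamDiag

variable {F : Type*} [Field F] [Fintype F]

section normal
variable (p : ℕ) [hp : Fact p.Prime] [hcp : CharP F p] {m : ℕ}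

include hp hcp in
/-- the inner-diagonal group is normal in the automorphism group -/
theorem Ip_normal (hm : 4 ≤ m) : (Ip F m).Normal := by
  rcases Nat.eq_or_lt_of_le hm with h4 | h5
  · subst h4
    exact Ip_normal_four p
  · haveI := std_QPlus (F := F) hm
    have hP : HP (QPlus F m) := by
      apply HP_of_nine
      rw [card_idx]; omega
    exact Ip_normal_of_HP p hm hP

include hp hcp in
/-- the homomorphism reading off the field automorphism -/
theorem exists_Psi (hm : 4 ≤ m) [Std (QPlus F m)] :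
    ∃ Ψ : MulAut (Cfsg.POmega F ⇑(QPlus F m)) →* RingAut F,
      ∀ σ : RingAut F, Ψ (fieldPlus F m σ).gam = σ := by
  rcases Nat.eq_or_lt_of_le hm with h4 | h5
  · subst h4
    exact ⟨PsiA p, fun σ => PsiA_fld8 p σ⟩
  · have hP : HP (QPlus F m) := by
      apply HP_of_nine
      rw [card_idx]; omega
    exact ⟨psiO p hP, fun σ => psiO_gam p hP (fieldPlus F m σ)⟩

end normal

set_option maxHeartbeats 1600000 in
theorem main_field {p f : ℕ} [Fact p.Prime] (hF : Fintype.card F = p ^ f) (hf : 1 ≤ f) {m : ℕ}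
    (hm : 4 ≤ m) (q : (Fin m ⊕ Fin m → F) → F) (hq : q = ⇑(QPlus F m))
    (x : MulAut (Cfsg.POmega F q)) (hx : Cfsg.IsFieldAutClassPOmega q x) {r : ℕ} (hr : r.Prime)
    (hxr : orderOf x = r) (F₀ : Type*) [Field F₀] [Fintype F₀]
    (hF₀ : Fintype.card F₀ = p ^ (f / r)) (q₀ : (Fin m ⊕ Fin m → F₀) → F₀)
    (hq₀ : q₀ = ⇑(QPlus F₀ m)) :
    r ∣ f ∧
    Nonempty (↥(Subgroup.closure {β : MulAut (Cfsg.POmega F q) | ∃ g : GL (Fin m ⊕ Fin m) F,
        g ∈ Cfsg.Geo.quadSimilarityGroup (F := F) q ∧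
        Cfsg.PreservesSingularClasses q (g : Matrix (Fin m ⊕ Fin m) (Fin m ⊕ Fin m) F) ∧
        Cfsg.IsInducedBySemilinearPOmega q g (RingEquiv.refl F) β} ⊓ Subgroup.centralizer {x}) ≃*
      ↥(Subgroup.closure {β : MulAut (Cfsg.POmega F₀ q₀) | ∃ g : GL (Fin m ⊕ Fin m) F₀,
        g ∈ Cfsg.Geo.quadSimilarityGroup (F := F₀) q₀ ∧
        Cfsg.PreservesSingularClasses q₀ (g : Matrix (Fin m ⊕ Fin m) (Fin m ⊕ Fin m) F₀) ∧
        Cfsg.IsInducedBySemilinearPOmega q₀ g (RingEquiv.refl F₀) β})) ∧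
    ((Odd r ∨ p = 2) → Cfsg.splitClassCount
      (Subgroup.closure {β : MulAut (Cfsg.POmega F q) | ∃ g : GL (Fin m ⊕ Fin m) F,
        g ∈ Cfsg.Geo.quadSimilarityGroup (F := F) q ∧
        Cfsg.PreservesSingularClasses q (g : Matrix (Fin m ⊕ Fin m) (Fin m ⊕ Fin m) F) ∧
        Cfsg.IsInducedBySemilinearPOmega q g (RingEquiv.refl F) β})
      (Cfsg.Inn (Cfsg.POmega F q)) x = 1) ∧
    ((r = 2 ∧ p ≠ 2 ∧ Odd m ∧ p ^ (f / 2) % 4 = 1) → Cfsg.splitClassCount
      (Subgroup.closure {β : MulAut (Cfsg.POmega F q) | ∃ g : GL (Fin m ⊕ Fin m) F,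
        g ∈ Cfsg.Geo.quadSimilarityGroup (F := F) q ∧
        Cfsg.PreservesSingularClasses q (g : Matrix (Fin m ⊕ Fin m) (Fin m ⊕ Fin m) F) ∧
        Cfsg.IsInducedBySemilinearPOmega q g (RingEquiv.refl F) β})
      (Cfsg.Inn (Cfsg.POmega F q)) x = 2) ∧
    ((r = 2 ∧ p ≠ 2 ∧ ¬ (Odd m ∧ p ^ (f / 2) % 4 = 1)) → Cfsg.splitClassCount
      (Subgroup.closure {β : MulAut (Cfsg.POmega F q) | ∃ g : GL (Fin m ⊕ Fin m) F,
        g ∈ Cfsg.Geo.quadSimilarityGroup (F := F) q ∧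
        Cfsg.PreservesSingularClasses q (g : Matrix (Fin m ⊕ Fin m) (Fin m ⊕ Fin m) F) ∧
        Cfsg.IsInducedBySemilinearPOmega q g (RingEquiv.refl F) β})
      (Cfsg.Inn (Cfsg.POmega F q)) x = 4) := by
  classical
  subst hq hq₀
  rw [closure_eq_Ip, closure_eq_Ip]
  haveI : CharP F p := charP_of_card_pow' hF
  haveI : CharP F₀ p := charP_of_card_pow' hF₀
  haveI := std_QPlus (F := F) hm
  haveI := std_QPlus (F := F₀) hm
  have hIn := Ip_normal (F := F) p hm
  obtain ⟨Ψ, hΨ⟩ := exists_Psi (F := F) p hm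
  obtain ⟨α, φ, σ, hσ1, hφ, e⟩ := hx
  have eφ := eq_gam_of_isFieldAut σ (fieldPlus F m σ) (fun _ => rfl) rfl φ hφ
  have hx' : x = α⁻¹ * (fieldPlus F m σ).gam * α := by rw [← eφ, ← e]; group
  have hordφ : orderOf φ = r := by
    rw [← e]
    have : α * x * α⁻¹ = MulAut.conj α x := rfl
    rw [this, MulEquiv.orderOf_eq, hxr]
  have hψφ : Ψ φ = σ := by rw [eφ]; exact hΨ σ
  have hσpow : σ ^ r = 1 := by
    rw [← hψφ, ← map_pow, ← hordφ, pow_orderOf_eq_one, map_one]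
  have hσr : orderOf σ = r := by
    have h2' := orderOf_dvd_of_pow_eq_one hσpow
    rcases (Nat.dvd_prime hr).mp h2' with h3 | h3
    · exfalso
      apply hσ1
      exact orderOf_eq_one_iff.mp h3
    · exact h3
  obtain ⟨hdvd, -⟩ := fixed_field_card hF σ r hσr hr.pos
  obtain ⟨j, hj⟩ := exists_embedding hF σ r hσr hr.pos F₀ hF₀
  have h2of : p ≠ 2 → (2 : F) ≠ 0 := by
    intro hp2 h
    have h3 : ((2 : ℕ) : F) = 0 := by exact_mod_cast h
    have h4 := (CharP.cast_eq_zero_iff F p 2).mp h3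
    exact hp2 ((Nat.prime_dvd_prime_iff_eq (Fact.out : p.Prime) Nat.prime_two).mp h4)
  have hoddp : p ≠ 2 → Odd p := fun hp2 => (Fact.out : p.Prime).odd_of_ne_two hp2
  refine ⟨hdvd, ?_, ?_, ?_, ?_⟩
  · rw [hx']
    exact cent_iso_plus j p hm σ hj α hIn
  · intro hcase
    by_cases hp2 : p = 2
    · have h2 : (2 : F) = 0 := by
        have := CharP.cast_eq_zero F p
        rw [hp2] at this
        exact_mod_cast this
      rw [Ip_eq_Inn_two h2 hm]
      exact splitClassCount_self _ _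
    · have hrodd : Odd r := hcase.resolve_right hp2
      rw [hx']
      exact count_odd j p hm (h2of hp2) σ hj hσpow hrodd α hIn
  · rintro ⟨hr2, hp2, hmodd, hq4⟩
    subst hr2
    have hodd₀ : Odd (Fintype.card F₀) := by rw [hF₀]; exact (hoddp hp2).pow
    have hcard : Fintype.card F = Fintype.card F₀ ^ 2 := by
      rw [hF, hF₀, ← pow_mul, Nat.div_mul_cancel hdvd]
    have hneg : negIso (QPlus F m) ∈ Cfsg.Omega F ⇑(QPlus F m) := by
      have hoddF : Odd (Fintype.card F) := by rw [hF]; exact (hoddp hp2).pow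
      rw [negIso_mem_iff hoddF (by omega), hcard]
      obtain ⟨n, hn⟩ := hodd₀
      have h1 : (Fintype.card F₀ ^ 2) % 4 = 1 := by
        rw [hn]
        have : (2 * n + 1) ^ 2 = 4 * (n * (n + 1)) + 1 := by ring
        rw [this]
        omega
      rw [Nat.pow_mod, h1, one_pow]
      rfl
    rw [hx']
    exact count_two_two j p hm (h2of hp2) hodd₀ hcard hneg σ hj α hIn hmodd (by rw [hF₀]; exact hq4)
  · rintro ⟨hr2, hp2, hcase⟩
    subst hr2
    have hodd₀ : Odd (Fintype.card F₀) := by rw [hF₀]; exact (hoddp hp2).pow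
    have hcard : Fintype.card F = Fintype.card F₀ ^ 2 := by
      rw [hF, hF₀, ← pow_mul, Nat.div_mul_cancel hdvd]
    have hneg : negIso (QPlus F m) ∈ Cfsg.Omega F ⇑(QPlus F m) := by
      have hoddF : Odd (Fintype.card F) := by rw [hF]; exact (hoddp hp2).pow
      rw [negIso_mem_iff hoddF (by omega), hcard]
      obtain ⟨n, hn⟩ := hodd₀
      have h1 : (Fintype.card F₀ ^ 2) % 4 = 1 := by
        rw [hn]
        have : (2 * n + 1) ^ 2 = 4 * (n * (n + 1)) + 1 := by ring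
        rw [this]
        omega
      rw [Nat.pow_mod, h1, one_pow]
      rfl
    rw [hx']
    exact count_two_four j p hm (h2of hp2) hodd₀ hcard hneg σ hj α hIn
      (by rw [hF₀]; exact hcase)

end Cfsg.Agent.Lib.Helper6.PlusCent
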