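import Mathlib
import Cfsg.Agent.Lib.Helper6.PlusCentI
import Cfsg.Agent.Lib.Helper16.FieldCosetMinus

/-!
# The coset criterion for `PΩ⁺`, part A: the coset of a field automorphism modulo `Inndiag`
-/

set_option autoImplicit false
set_option linter.unusedSectionVars false
set_option linter.unusedVariables false
set_option linter.style.haveILetI false

namespace Cfsg.Agent.Lib.Helper6.PlusCoset

open Module QuadraticMap Matrix Cfsg.Agent.Lib.Helper6 Cfsg.Agent.Lib.Helper15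
  Cfsg.Agent.Lib.Helper6.OmegaAut Cfsg.Agent.Lib.Helper6.SimAut Cfsg.Agent.Lib.Helper6.SingClass
  Cfsg.Agent.Lib.Helper6.Inndiag Cfsg.Agent.Lib.Helper6.AutInduced Cfsg.Agent.S2722 Cfsg.Agent.S2725
  Cfsg.Agent.Lib.Helper16.FieldCentOmegaOdd Cfsg.Agent.Lib.Helper16.FieldCentOrth
  Cfsg.Agent.Lib.Helper16.OrthDescent
  Cfsg.Agent.Lib.Helper16.FieldCosetOmegaOdd
  Cfsg.Agent.Lib.Helper6.AutOrt Cfsg.Agent.Lib.Helper6.Tri
  Cfsg.Agent.Lib.Helper6.PlusCent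
  Cfsg.Agent.Lib.Helper16.FieldCosetOrth
  Cfsg.Agent.Lib.Helper16.QuadExt Cfsg.Agent.Lib.Helper16.SemiFrame

/-- conjugation stabilises a coset of a normal subgroup as soon as the commutator lies in it -/
theorem conj_coset_iff {G : Type*} [Group G] (N : Subgroup G) [hN : N.Normal] (H β φ : G)
    (h : H * φ * H⁻¹ * φ⁻¹ ∈ N) : H * β * H⁻¹ * φ⁻¹ ∈ N ↔ β * φ⁻¹ ∈ N := by
  have e : H * β * H⁻¹ * φ⁻¹ = (H * (β * φ⁻¹) * H⁻¹) * (H * φ * H⁻¹ * φ⁻¹) := by group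
  rw [e]
  constructor
  · intro h1
    have h2 := (Subgroup.mul_mem_cancel_right N h).mp h1
    have h3 := hN.conj_mem _ h2 H⁻¹
    have e2 : H⁻¹ * (H * (β * φ⁻¹) * H⁻¹) * H⁻¹⁻¹ = β * φ⁻¹ := by group
    rwa [e2] at h3
  · intro h1
    exact N.mul_mem (hN.conj_mem _ h1 H) h

theorem comm_eq' {G : Type*} [Group G] (a b : G) : a * b * a⁻¹ * b⁻¹ = a * (b * a * b⁻¹)⁻¹ := by
  group

theorem sq_of_comm {G : Type*} [Group G] (a b : G) (hab : a * b = b * a) (ha : a * a = 1)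
    (hb : b * b = 1) : (a * b) ^ 2 = 1 := by
  rw [pow_two]
  calc a * b * (a * b) = a * (b * a) * b := by group
    _ = a * (a * b) * b := by rw [hab]
    _ = (a * a) * (b * b) := by group
    _ = 1 := by rw [ha, hb, one_mul]

theorem conj_by_mul {G : Type*} [Group G] (h r x : G) (hc : r * x = x * r) :
    (h * r) * x * (h * r)⁻¹ = h * x * h⁻¹ := by
  rw [_root_.mul_inv_rev]
  calc h * r * x * (r⁻¹ * h⁻¹) = h * (r * x) * r⁻¹ * h⁻¹ := by group
    _ = h * (x * r) * r⁻¹ * h⁻¹ := by rw [hc]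
    _ = h * x * h⁻¹ := by group

section charp
variable {F : Type*} [Field F] [Fintype F] (p : ℕ) [hp : Fact p.Prime] [hcp : CharP F p] {m : ℕ}

include hp hcp in
/-- the coset `Inndiag · φ_σ` is stable under conjugation by the image of the similarity group -/
theorem coset_conj_iff [Std (QPlus F m)] (hm : 4 ≤ m) (σ : F ≃+* F) (h : ↥(GO (QPlus F m)))
    (β : MulAut (Cfsg.POmega F ⇑(QPlus F m))) :
    fGO (QPlus F m) h * β * (fGO (QPlus F m) h)⁻¹ * ((fieldPlus F m σ).gam)⁻¹ ∈ Ip F m ↔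
      β * ((fieldPlus F m σ).gam)⁻¹ ∈ Ip F m := by
  haveI := Ip_normal (F := F) p hm
  apply conj_coset_iff
  rw [comm_eq', conj_field hm σ h, ← map_inv, ← map_mul, fGO_mem_Ip_iff p hm, mul_mem_Kp_iff,
    inv_mem_Kp_iff, twist_mem_Kp_iff]

include hp hcp in
/-- a linear semisimilarity induces an element of the image of the similarity group -/
theorem exists_GO_of_lin [Std (QPlus F m)] (hP : HP (QPlus F m)) (H : SemiSimO (QPlus F m))
    (hσ : H.σ = RingEquiv.refl F) : ∃ h : ↥(GO (QPlus F m)), fGO (QPlus F m) h = H.gam := by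
  have h1 : H.gam ∈ (psiO p hP).ker := by
    rw [MonoidHom.mem_ker, psiO_gam, hσ]
    rfl
  rw [psiO_ker, pgoAut_eq_range] at h1
  exact h1

include hp hcp in
/-- an involution in the coset of a field automorphism of order two, outside `Inndiag · φ` -/
theorem exists_star [Std (QPlus F m)] (hm : 4 ≤ m) (σ : F ≃+* F) (hσ2 : ∀ a, σ (σ a) = a) :
    ∃ Φs : SemiSimO (QPlus F m), Φs.σ = σ ∧ Φs.gam ^ 2 = 1 ∧
      Φs.gam * ((fieldPlus F m σ).gam)⁻¹ ∉ Ip F m := by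
  classical
  have h0 : 0 < m := by omega
  obtain ⟨i₀, hi₀⟩ : ∃ i₀ : Fin m, i₀ = ⟨0, h0⟩ := ⟨_, rfl⟩
  obtain ⟨v₀, hv₀⟩ : ∃ v₀ : Fin m ⊕ Fin m → F,
      v₀ = Pi.single (Sum.inl i₀) 1 + Pi.single (Sum.inr i₀) 1 := ⟨_, rfl⟩
  have hQv : QPlus F m v₀ = 1 := by
    rw [QPlus_apply]
    unfold Cfsg.quadFormPlus
    rw [Finset.sum_eq_single i₀]
    · rw [hv₀]
      simp
    · intro i _ hi
      rw [hv₀]
      simp [hi]
    · simp
  have hQv0 : QPlus F m v₀ ≠ 0 := by rw [hQv]; exact one_ne_zero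
  have hσv : (fun i => σ (v₀ i)) = v₀ := by
    funext i
    rw [hv₀]
    simp only [Pi.add_apply, Pi.single_apply]
    split_ifs <;> simp
  obtain ⟨r₀, -, hr₀⟩ := exists_GO_of_list [v₀] (by
    intro v hv
    rw [List.mem_singleton] at hv
    rw [hv]
    exact hQv0)
  have hr₀' : ((r₀.1 : GL (Fin m ⊕ Fin m) F) : Matrix (Fin m ⊕ Fin m) (Fin m ⊕ Fin m) F) =
      Cfsg.reflectionMatrix ⇑(QPlus F m) v₀ := by
    rw [hr₀]
    simp
  have hvS : (fieldPlus F m σ).S v₀ = (1 : F) • v₀ := by rw [fieldPlus_S, hσv, one_smul]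
  have hcomm : fGO (QPlus F m) r₀ * (fieldPlus F m σ).gam =
      (fieldPlus F m σ).gam * fGO (QPlus F m) r₀ := by
    rw [fGO_eq_gam, ← SemiSimO.gam_comp, ← SemiSimO.gam_comp]
    apply SemiSimO.gam_eq_of_S_eq
    intro w
    rw [SemiSimO.comp_S, SemiSimO.comp_S, simGO_S, simGO_S, hr₀']
    exact (refl_comm (fieldPlus F m σ) v₀ 1 one_ne_zero hvS hQv0 w).symm
  have hγ2 : fGO (QPlus F m) r₀ * fGO (QPlus F m) r₀ = 1 := by
    rw [← map_mul]
    have : r₀ * r₀ = 1 := by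
      apply Subtype.ext
      apply Units.ext
      change ((r₀.1 : GL (Fin m ⊕ Fin m) F) : Matrix (Fin m ⊕ Fin m) (Fin m ⊕ Fin m) F) *
        ((r₀.1 : GL (Fin m ⊕ Fin m) F) : Matrix (Fin m ⊕ Fin m) (Fin m ⊕ Fin m) F) = 1
      rw [hr₀', Cfsg.Agent.Lib.Helper6.refl_sq (QPlus F m) v₀ hQv0]
    rw [this, map_one]
  have hφ2 : (fieldPlus F m σ).gam * (fieldPlus F m σ).gam = 1 := by
    rw [← SemiSimO.gam_comp, ← SemiSimO.gam_one (Q := QPlus F m)]
    apply SemiSimO.gam_eq_of_S_eq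
    intro w
    funext i
    exact hσ2 (w i)
  refine ⟨(simGO r₀).comp (fieldPlus F m σ), RingEquiv.ext fun a => rfl, ?_, ?_⟩
  · rw [SemiSimO.gam_comp, ← fGO_eq_gam]
    exact sq_of_comm _ _ hcomm hγ2 hφ2
  · rw [SemiSimO.gam_comp, ← fGO_eq_gam, mul_inv_cancel_right, fGO_mem_Ip_iff p hm]
    exact refl_not_mem_Kp r₀ v₀ hQv0 hr₀'

end charp

end Cfsg.Agent.Lib.Helper6.PlusCoset
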