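import Mathlib
import Cfsg.Agent.Lib.Helper6.PlusCosetA

/-!
# The coset criterion for `PΩ⁺`, part B: frames, descended forms and their types
-/

set_option autoImplicit false
set_option linter.unusedSectionVars false
set_option linter.unusedVariables false
set_option linter.style.haveILetI false

namespace Cfsg.Agent.Lib.Helper6.PlusCoset

open Module QuadraticMap Matrix Cfsg.Agent.Lib.Helper6 Cfsg.Agent.Lib.Helper15
  Cfsg.Agent.Lib.Helper6.OmegaAut Cfsg.Agent.Lib.Helper6.SimAut Cfsg.Agent.Lib.Helper6.SingClass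
  Cfsg.Agent.Lib.Helper6.Inndiag Cfsg.Agent.Lib.Helper6.AutInduced Cfsg.Agent.S2722 Cfsg.Agent.S2725
  Cfsg.Agent.Lib.Helper16.FieldCentOmegaOdd Cfsg.Agent.Lib.Helper16.FieldCentOrth
  Cfsg.Agent.Lib.Helper16.OrthDescent
  Cfsg.Agent.Lib.Helper16.FieldCosetOmegaOdd
  Cfsg.Agent.Lib.Helper6.AutOrt Cfsg.Agent.Lib.Helper6.Tri
  Cfsg.Agent.Lib.Helper6.PlusCent
  Cfsg.Agent.Lib.Helper16.FieldCosetOrth
  Cfsg.Agent.Lib.Helper16.QuadExt Cfsg.Agent.Lib.Helper16.SemiFrame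
  Cfsg.Agent.Lib.Helper16.MinusType
open Cfsg.Agent.Lib.Helper6.AutPSL (sG sG_val gl_mul_inv gl_inv_mul)

section generic
variable {F : Type*} [Field F] [Fintype F] {ι : Type} [Fintype ι] [DecidableEq ι]
  {Q : QuadraticForm F (ι → F)} {F₀ : Type*} [Field F₀] (j : F₀ →+* F)

/-- a frame of a semilinear similarity together with the descended form -/
structure FrameData (Φ : SemiSimO Q) where
  b : GL ι F
  μ : F
  hμ : μ ≠ 0
  hb : Φ.mat * b.1.map Φ.σ = μ • b.1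
  Q₀ : QuadraticForm F₀ (ι → F₀)
  c : F
  hc : c ≠ 0
  hnd : (polarBilin Q₀).Nondegenerate
  h : ∀ v, j (Q₀ v) = c * Q (b.1 *ᵥ (fun i => j (v i)))

variable [hS : Std Q]

theorem exists_frameData (p : ℕ) [hp : Fact p.Prime] [hcp : CharP F p] (Φ : SemiSimO Q)
    (hj : ∀ a : F, Φ.σ a = a ↔ a ∈ Set.range j) (r : ℕ)
    (hr : orderOf (Φ.σ : RingAut F) = r) (hr0 : 0 < r) (hpow : Φ.gam ^ r = 1) :
    Nonempty (FrameData j Φ) := by
  obtain ⟨b, μ, hμ, hb⟩ := exists_frame p Φ r hr hr0 hpow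
  obtain ⟨Q₀, c, hc, hQ₀, h⟩ := exists_descended j Φ hj b μ hμ hb
  exact ⟨⟨b, μ, hμ, hb, Q₀, c, hc, hQ₀, h⟩⟩

/-- conjugacy from a similarity of the descended forms -/
theorem conj_fd (Φ₁ Φ₂ : SemiSimO Q) (hσ : Φ₁.σ = Φ₂.σ) (hjfix : ∀ a : F₀, Φ₁.σ (j a) = j a)
    (D₁ : FrameData j Φ₁) (D₂ : FrameData j Φ₂) (k : Matrix ι ι F₀)
    (hk : ∀ v, D₁.Q₀ (k *ᵥ v) = D₂.Q₀ v) :
    ∃ H : SemiSimO Q, H.σ = RingEquiv.refl F ∧ H.gam * Φ₂.gam * H.gam⁻¹ = Φ₁.gam ∧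
      (∀ x, H.S x = (D₁.b.1 * k.map j * (D₂.b⁻¹).1) *ᵥ x) :=
  conj_of_frames j Φ₁ Φ₂ hσ hjfix D₁.b D₂.b D₁.μ D₂.μ D₁.hμ D₂.hμ D₁.hb D₂.hb D₁.Q₀ D₂.Q₀
    D₁.c D₂.c D₁.hc D₂.hc D₁.h D₂.h k 1 one_ne_zero (fun v => by rw [hk, one_mul])

/-- a nonsingular eigenvector from a frame -/
theorem exists_eigen [Nonempty ι] (Φ : SemiSimO Q) (hj : ∀ a : F, Φ.σ a = a ↔ a ∈ Set.range j)
    (D : FrameData j Φ) : ∃ v : ι → F, Q v ≠ 0 ∧ Φ.S v = D.μ • v := by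
  classical
  obtain ⟨v₀, hv₀⟩ : ∃ v₀, D.Q₀ v₀ ≠ 0 := by
    by_contra hcon
    push Not at hcon
    have i0 : ι := Classical.arbitrary ι
    have h0 : (Pi.single i0 (1 : F₀) : ι → F₀) = 0 := by
      apply D.hnd.1
      intro y
      rw [polarBilin_apply_apply]
      unfold polar
      rw [hcon, hcon, hcon]
      ring
    have := congrFun h0 i0
    simp at this
  refine ⟨D.b.1 *ᵥ (fun i => j (v₀ i)), ?_, ?_⟩
  · intro h0
    have := D.h v₀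
    rw [h0, mul_zero] at this
    exact hv₀ ((map_eq_zero j).mp this)
  · exact frame_S Φ D.b.1 D.μ D.hb _ (funext fun i => (hj _).mpr ⟨v₀ i, rfl⟩)

end generic

section types
variable {F₀ : Type*} [Field F₀] {m : ℕ}

/-- plus type -/
def IsPlusT (Q₀ : QuadraticForm F₀ (Fin m ⊕ Fin m → F₀)) : Prop :=
  ∃ g : (Fin m ⊕ Fin m → F₀) ≃ₗ[F₀] (Fin m ⊕ Fin m → F₀),
    ∀ v, Q₀ v = Cfsg.quadFormPlus m F₀ (g v)

/-- minus type -/
def IsMinusT (Q₀ : QuadraticForm F₀ (Fin m ⊕ Fin m → F₀)) : Prop :=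
  ∃ ζ : F₀, (∀ t : F₀, t ^ 2 + t + ζ ≠ 0) ∧
    ∃ g : (Fin m ⊕ Fin m → F₀) ≃ₗ[F₀] ((Fin (m - 1) ⊕ Fin (m - 1)) ⊕ Fin 2 → F₀),
      ∀ v, Q₀ v = Cfsg.quadFormMinus (m - 1) F₀ 1 ζ (g v)

theorem plus_or_minus [Finite F₀] (Q₀ : QuadraticForm F₀ (Fin m ⊕ Fin m → F₀))
    (hnd : (polarBilin Q₀).Nondegenerate) (hm : 1 ≤ m) : IsPlusT Q₀ ∨ IsMinusT Q₀ :=
  classify_even Q₀ hnd m hm (by rw [Module.finrank_fintype_fun_eq_card, card_idx])

theorem similar_of_plus (Q₁ Q₂ : QuadraticForm F₀ (Fin m ⊕ Fin m → F₀)) (h₁ : IsPlusT Q₁)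
    (h₂ : IsPlusT Q₂) :
    ∃ k : Matrix (Fin m ⊕ Fin m) (Fin m ⊕ Fin m) F₀, ∀ v, Q₁ (k *ᵥ v) = Q₂ v := by
  obtain ⟨g₁, hg₁⟩ := h₁
  obtain ⟨g₂, hg₂⟩ := h₂
  refine ⟨LinearMap.toMatrix' (g₁.symm.toLinearMap ∘ₗ g₂.toLinearMap), fun v => ?_⟩
  rw [LinearMap.toMatrix'_mulVec, hg₁]
  simp only [LinearMap.coe_comp, Function.comp_apply, LinearEquiv.coe_coe,
    LinearEquiv.apply_symm_apply]
  rw [hg₂]

theorem minus_eq_Qgen (k : ℕ) (a b : F₀) :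
    Cfsg.quadFormMinus k F₀ a b = ⇑(Qgen k (binForm a b)) := by
  funext v
  rw [Qgen_apply, binForm_apply]
  rfl

theorem similar_of_minus [Fintype F₀] (Q₁ Q₂ : QuadraticForm F₀ (Fin m ⊕ Fin m → F₀))
    (h₁ : IsMinusT Q₁) (h₂ : IsMinusT Q₂) :
    ∃ k : Matrix (Fin m ⊕ Fin m) (Fin m ⊕ Fin m) F₀, ∀ v, Q₁ (k *ᵥ v) = Q₂ v := by
  classical
  obtain ⟨ζ₁, hζ₁, g₁, hg₁⟩ := h₁
  obtain ⟨ζ₂, hζ₂, g₂, hg₂⟩ := h₂
  obtain ⟨K, hK⟩ := exists_QgenIso 1 ζ₂ 1 ζ₁ (aniso_of_irred ζ₂ hζ₂) (aniso_of_irred ζ₁ hζ₁) (m - 1)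
  refine ⟨LinearMap.toMatrix' (g₁.symm.toLinearMap ∘ₗ Matrix.toLin' K ∘ₗ g₂.toLinearMap),
    fun v => ?_⟩
  rw [LinearMap.toMatrix'_mulVec, hg₁]
  simp only [LinearMap.coe_comp, Function.comp_apply, LinearEquiv.coe_coe,
    LinearEquiv.apply_symm_apply, Matrix.toLin'_apply]
  rw [minus_eq_Qgen, hK, hg₂, minus_eq_Qgen]

end types

section plus
variable {F : Type*} [Field F] [Fintype F] {F₀ : Type*} [Field F₀] [Fintype F₀] (j : F₀ →+* F)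
  {m : ℕ}

theorem fieldPlus_mat (σ : F ≃+* F) : (fieldPlus F m σ).mat = 1 := by
  apply matrix_ext_mulVec
  intro x
  rw [SemiSimO.mat_mulVec, Matrix.one_mulVec, fieldPlus_S]
  funext i
  exact σ.apply_symm_apply (x i)

/-- the frame of a standard field automorphism -/
noncomputable def fdField (σ : F ≃+* F) : FrameData j (fieldPlus F m σ) where
  b := 1
  μ := 1
  hμ := one_ne_zero
  hb := by
    rw [fieldPlus_mat, Units.val_one, Matrix.one_mul, one_smul]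
    exact Matrix.map_one _ (map_zero _) (map_one _)
  Q₀ := QPlus F₀ m
  c := 1
  hc := one_ne_zero
  hnd := nondegenerate_QPlus F₀ m
  h v := by rw [Units.val_one, Matrix.one_mulVec, one_mul, QPlus_map]

theorem fdField_Q₀ (σ : F ≃+* F) : (fdField (m := m) j σ).Q₀ = QPlus F₀ m := rfl

theorem isPlusT_QPlus : IsPlusT (QPlus F₀ m) :=
  ⟨LinearEquiv.refl F₀ _, fun v => QPlus_apply F₀ m v⟩

section charp
variable (p : ℕ) [hp : Fact p.Prime] [hcp : CharP F p]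

include hp hcp in
/-- a plus type descended form: the automorphism lies in the coset of the field automorphism -/
theorem mem_of_plus [Std (QPlus F m)] (hm : 4 ≤ m) (hP : HP (QPlus F m)) (Φ : SemiSimO (QPlus F m))
    (hjfix : ∀ a : F₀, Φ.σ (j a) = j a) (D : FrameData j Φ) (hD : IsPlusT D.Q₀) :
    Φ.gam * ((fieldPlus F m Φ.σ).gam)⁻¹ ∈ Ip F m := by
  obtain ⟨k, hk⟩ := similar_of_plus D.Q₀ (fdField (m := m) j Φ.σ).Q₀ hD
    (by rw [fdField_Q₀]; exact isPlusT_QPlus)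
  obtain ⟨H, hHσ, hH, -⟩ := conj_fd j Φ (fieldPlus F m Φ.σ) rfl hjfix D (fdField j Φ.σ) k hk
  obtain ⟨h, hh⟩ := exists_GO_of_lin p hP H hHσ
  rw [← hH, ← hh, coset_conj_iff p hm, mul_inv_cancel]
  exact (Ip F m).one_mem

include hp hcp in
/-- a minus type descended form for an involutory field automorphism: the automorphism lies
outside the coset of the field automorphism -/
theorem not_mem_of_minus [Std (QPlus F m)] (hm : 4 ≤ m) (hP : HP (QPlus F m))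
    (Φ : SemiSimO (QPlus F m)) (hj : ∀ a : F, Φ.σ a = a ↔ a ∈ Set.range j)
    (hσ2 : orderOf (Φ.σ : RingAut F) = 2) (D : FrameData j Φ) (hD : IsMinusT D.Q₀) :
    Φ.gam * ((fieldPlus F m Φ.σ).gam)⁻¹ ∉ Ip F m := by
  have hjfix : ∀ a : F₀, Φ.σ (j a) = j a := fun a => (hj _).mpr ⟨a, rfl⟩
  have hσσ : ∀ a, Φ.σ (Φ.σ a) = a := by
    intro a
    have h1 := pow_orderOf_eq_one (Φ.σ : RingAut F)
    rw [hσ2] at h1
    have h2 := RingEquiv.congr_fun h1 a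
    rw [pow_two] at h2
    exact h2
  obtain ⟨Φs, hsσ, hs2, hsn⟩ := exists_star p hm Φ.σ hσσ
  have hjs : ∀ a : F, Φs.σ a = a ↔ a ∈ Set.range j := by rw [hsσ]; exact hj
  obtain ⟨Ds⟩ := exists_frameData j p Φs hjs 2 (by rw [hsσ]; exact hσ2) (by norm_num) hs2
  have hm1 : 1 ≤ m := by omega
  rcases plus_or_minus Ds.Q₀ Ds.hnd hm1 with hpl | hmi
  · exfalso
    apply hsn
    have := mem_of_plus j p hm hP Φs (by rw [hsσ]; exact hjfix) Ds hpl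
    rwa [hsσ] at this
  · obtain ⟨k, hk⟩ := similar_of_minus D.Q₀ Ds.Q₀ hD hmi
    obtain ⟨H, hHσ, hH, -⟩ := conj_fd j Φ Φs hsσ.symm hjfix D Ds k hk
    obtain ⟨h, hh⟩ := exists_GO_of_lin p hP H hHσ
    rw [← hH, ← hh, coset_conj_iff p hm]
    exact hsn

end charp

end plus

end Cfsg.Agent.Lib.Helper6.PlusCoset
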