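import Mathlib
import Cfsg.Agent.Lib.Helper6.PlusCosetB

/-!
# The coset criterion for `PΩ⁺`, part C: the main theorem
-/

set_option autoImplicit false
set_option linter.unusedSectionVars false
set_option linter.unusedVariables false
set_option linter.style.haveILetI false

namespace Cfsg.Agent.Lib.Helper6.PlusCoset

open Module QuadraticMap Matrix Cfsg.Agent.Lib.Helper6 Cfsg.Agent.Lib.Helper15
  Cfsg.Agent.Lib.Helper6.OmegaAut Cfsg.Agent.Lib.Helper6.SimAut Cfsg.Agent.Lib.Helper6.SingClass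
  Cfsg.Agent.Lib.Helper6.Inndiag Cfsg.Agent.Lib.Helper6.AutInduced Cfsg.Agent.S2722 Cfsg.Agent.S2725
  Cfsg.Agent.Lib.Helper16.FieldCentOmegaOdd Cfsg.Agent.Lib.Helper16.FieldCentOrth
  Cfsg.Agent.Lib.Helper16.OrthDescent
  Cfsg.Agent.Lib.Helper16.FieldCosetOmegaOdd
  Cfsg.Agent.Lib.Helper6.AutOrt Cfsg.Agent.Lib.Helper6.Tri
  Cfsg.Agent.Lib.Helper6.PlusCent
  Cfsg.Agent.Lib.Helper16.FieldCosetOrth
  Cfsg.Agent.Lib.Helper16.QuadExt Cfsg.Agent.Lib.Helper16.SemiFrame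
  Cfsg.Agent.Lib.Helper16.MinusType Cfsg.Agent.Lib.Helper16.UnitaryDescent
open Cfsg.Agent.Lib.Helper6.AutPSL (sG sG_val gl_mul_inv gl_inv_mul)

section odd
variable {F : Type*} [Field F] [Fintype F] {F₀ : Type*} [Field F₀] [Fintype F₀] (j : F₀ →+* F)
  {m : ℕ}

/-- an irreducible quadratic stays irreducible over an extension of odd degree -/
theorem irred_ext (σ : RingAut F) (r : ℕ) (hr : orderOf σ = r) (hodd : Odd r)
    (hj : ∀ a : F, σ a = a ↔ a ∈ Set.range j) (ζ : F₀) (hζ : ∀ t : F₀, t ^ 2 + t + ζ ≠ 0) :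
    ∀ t : F, t ^ 2 + t + j ζ ≠ 0 := by
  intro t ht
  have hroot_fix : σ t = t → False := by
    intro h
    obtain ⟨t₀, rfl⟩ := (hj t).mp h
    apply hζ t₀
    apply j.injective
    rw [map_add, map_add, map_pow, map_zero]
    exact ht
  have hσt : σ t ^ 2 + σ t + j ζ = 0 := by
    have := congrArg σ ht
    rw [map_add, map_add, map_pow, map_zero, (hj _).mpr ⟨ζ, rfl⟩] at this
    exact this
  have hprod : (σ t - t) * (σ t + t + 1) = 0 := by linear_combination hσt - ht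
  rcases mul_eq_zero.mp hprod with h | h
  · exact hroot_fix (sub_eq_zero.mp h)
  · have hσt' : σ t = -1 - t := by linear_combination h
    have hσσ : σ (σ t) = t := by
      rw [hσt', map_sub, map_neg, map_one, hσt']
      ring
    have h2k : ∀ (u : F), σ (σ u) = u → ∀ k : ℕ, (σ ^ (2 * k)) u = u := by
      intro u hu k
      induction k with
      | zero => simp
      | succ k ih =>
        rw [Nat.mul_succ, pow_add, RingAut.mul_apply, pow_two, RingAut.mul_apply, hu, ih]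
    obtain ⟨k, hk⟩ := hodd
    have h1 : (σ ^ r) t = t := by
      rw [← hr, pow_orderOf_eq_one]
      rfl
    rw [hk, pow_succ, RingAut.mul_apply] at h1
    have h3 := h2k (σ t) (by rw [hσσ]) k
    exact hroot_fix (h3.symm.trans h1)

theorem Qgen_map (k : ℕ) (ζ : F₀) (w : (Fin k ⊕ Fin k) ⊕ Fin 2 → F₀) :
    Qgen k (binForm 1 (j ζ)) (fun i => j (w i)) = j (Qgen k (binForm 1 ζ) w) := by
  rw [Qgen_apply, Qgen_apply, binForm_apply, binForm_apply, map_add, map_sum]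
  simp only [map_add, map_mul, map_pow, map_one]

/-- for a field automorphism of odd order the descended form is not of minus type -/
theorem not_minus_of_odd (hm : 1 ≤ m) (Φ : SemiSimO (QPlus F m))
    (hj : ∀ a : F, Φ.σ a = a ↔ a ∈ Set.range j) (r : ℕ)
    (hr : orderOf (Φ.σ : RingAut F) = r) (hodd : Odd r) (D : FrameData j Φ)
    (hD : IsMinusT D.Q₀) : False := by
  classical
  obtain ⟨ζ, hζ, g, hg⟩ := hD
  have hirr := irred_ext j Φ.σ r hr hodd hj ζ hζ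
  have hab := aniso_of_irred (j ζ) hirr
  obtain ⟨G, hG⟩ : ∃ G : Matrix ((Fin (m - 1) ⊕ Fin (m - 1)) ⊕ Fin 2) (Fin m ⊕ Fin m) F₀,
      G = LinearMap.toMatrix' g.toLinearMap := ⟨_, rfl⟩
  obtain ⟨G', hG'⟩ : ∃ G' : Matrix (Fin m ⊕ Fin m) ((Fin (m - 1) ⊕ Fin (m - 1)) ⊕ Fin 2) F₀,
      G' = LinearMap.toMatrix' g.symm.toLinearMap := ⟨_, rfl⟩
  have hG'G : G' * G = 1 := by
    rw [hG, hG', ← LinearMap.toMatrix'_comp]
    have : g.symm.toLinearMap ∘ₗ g.toLinearMap = LinearMap.id := by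
      apply LinearMap.ext; intro x; simp
    rw [this, LinearMap.toMatrix'_id]
  have key : ∀ y : Fin m ⊕ Fin m → F,
      Qgen (m - 1) (binForm 1 (j ζ)) (G.map j *ᵥ y) = D.c * QPlus F m (D.b.1 *ᵥ y) := by
    intro y
    have := qf_ext j ((Qgen (m - 1) (binForm 1 (j ζ))).comp (Matrix.toLin' (G.map j)))
      (D.c • (QPlus F m).comp (Matrix.toLin' D.b.1)) (fun v => ?_) y
    · rwa [QuadraticMap.comp_apply, Matrix.toLin'_apply, _root_.smul_apply,
        QuadraticMap.comp_apply, Matrix.toLin'_apply, smul_eq_mul] at this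
    · rw [QuadraticMap.comp_apply, Matrix.toLin'_apply, _root_.smul_apply,
        QuadraticMap.comp_apply, Matrix.toLin'_apply, smul_eq_mul, ← D.h v, hg v, minus_eq_Qgen]
      have e1 : G.map j *ᵥ (fun i => j (v i)) = fun i => j ((g v) i) := by
        funext i
        rw [hG]
        have := RingHom.map_mulVec j (LinearMap.toMatrix' g.toLinearMap) v i
        rw [LinearMap.toMatrix'_mulVec] at this
        exact this.symm
      rw [e1]
      exact Qgen_map j (m - 1) ζ (g v)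
  obtain ⟨T, hT⟩ : ∃ T : Matrix ((Fin (m - 1) ⊕ Fin (m - 1)) ⊕ Fin 2) (Fin m ⊕ Fin m) F,
      T = G.map j * (D.b⁻¹).1 := ⟨_, rfl⟩
  obtain ⟨T', hT'⟩ : ∃ T' : Matrix (Fin m ⊕ Fin m) ((Fin (m - 1) ⊕ Fin (m - 1)) ⊕ Fin 2) F,
      T' = D.b.1 * G'.map j := ⟨_, rfl⟩
  have hT'T : T' * T = 1 := by
    rw [hT, hT', Matrix.mul_assoc, ← Matrix.mul_assoc (G'.map j), ← Matrix.map_mul, hG'G,
      Matrix.map_one _ (map_zero j) (map_one j), Matrix.one_mul, gl_mul_inv]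
  have hinj : Function.Injective (Matrix.toLin' T) := by
    intro x y hxy
    rw [Matrix.toLin'_apply, Matrix.toLin'_apply] at hxy
    have h1 : ∀ z : Fin m ⊕ Fin m → F, T' *ᵥ (T *ᵥ z) = z := by
      intro z
      rw [Matrix.mulVec_mulVec, hT'T, Matrix.one_mulVec]
    rw [← h1 x, ← h1 y, hxy]
  obtain ⟨E, hEdef⟩ : ∃ E : Submodule F ((Fin (m - 1) ⊕ Fin (m - 1)) ⊕ Fin 2 → F),
      E = (U0 F m).map (Matrix.toLin' T) := ⟨_, rfl⟩
  have hE : ∀ x ∈ E, Qgen (m - 1) (binForm 1 (j ζ)) x = 0 := by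
    intro x hx
    rw [hEdef] at hx
    obtain ⟨u, hu, rfl⟩ := hx
    rw [Matrix.toLin'_apply, hT, ← Matrix.mulVec_mulVec, key, Matrix.mulVec_mulVec, gl_mul_inv,
      Matrix.one_mulVec, U0_TS F m u hu, mul_zero]
  have hfr : finrank F E = m := by
    rw [hEdef, ← (Submodule.equivMapOfInjective (Matrix.toLin' T) hinj (U0 F m)).finrank_eq]
    exact U0_finrank F m
  exact no_ts_Qgen (m - 1) (binForm 1 (j ζ)) (binForm_aniso 1 (j ζ) hab)
    (nondegenerate_Qgen (m - 1) (binForm 1 (j ζ)) (nondegenerate_binForm 1 (j ζ) hab)) E hE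
    (by rw [hfr, Module.finrank_fintype_fun_eq_card, card_JJ]; omega) (by rw [hfr]; omega)

end odd

section main
variable {F : Type*} [Field F] [Fintype F] (p : ℕ) [hp : Fact p.Prime] [hcp : CharP F p] {m : ℕ}

include hp hcp in
/-- the coset criterion: for an automorphism `x` of prime order `r` whose companion field
automorphism has order `r`, an element of the coset `Inndiag · x` of order `r` is conjugate to
`x` under `Inndiag` -/
theorem coset_plus [Std (QPlus F m)] (hm : 5 ≤ m) (hP : HP (QPlus F m))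
    (x δ : MulAut (Cfsg.POmega F ⇑(QPlus F m))) {r : ℕ} (hr : r.Prime) (hxr : orderOf x = r)
    (hτx : orderOf (psiO p hP x) = r) (hδ : δ ∈ Ip F m) (hord : orderOf (δ * x) = r) :
    ∃ h ∈ Ip F m, δ * x = h * x * h⁻¹ := by
  classical
  have hm4 : 4 ≤ m := by omega
  have hm1 : 1 ≤ m := by omega
  haveI : Nonempty (Fin m ⊕ Fin m) := ⟨Sum.inl ⟨0, by omega⟩⟩
  obtain ⟨Φ₂, rfl⟩ := exists_semi p hP x
  obtain ⟨Φ₁, hΦ₁⟩ := exists_semi p hP (δ * Φ₂.gam)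
  rw [psiO_gam] at hτx
  have hδker : psiO p hP δ = 1 := by
    have : δ ∈ Cfsg.pgoAut F ⇑(QPlus F m) := Ip_le_pgoAut hδ
    rwa [← psiO_ker p hP, MonoidHom.mem_ker] at this
  have hτ : Φ₁.σ = Φ₂.σ := by
    have h1 : psiO p hP (δ * Φ₂.gam) = psiO p hP Φ₂.gam := by rw [map_mul, hδker, one_mul]
    rw [← hΦ₁, psiO_gam, psiO_gam] at h1
    exact h1
  have hτ₁ : orderOf (Φ₁.σ : RingAut F) = r := by rw [hτ]; exact hτx
  have hpow₂ : Φ₂.gam ^ r = 1 := by rw [← hxr]; exact pow_orderOf_eq_one _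
  have hpow₁ : Φ₁.gam ^ r = 1 := by rw [hΦ₁, ← hord]; exact pow_orderOf_eq_one _
  -- the fixed field
  haveI : Fintype ↥(fixK (Φ₂.σ : RingAut F)) := Fintype.ofFinite _
  obtain ⟨j, hj⟩ : ∃ j : ↥(fixK (Φ₂.σ : RingAut F)) →+* F, j = (fixK (Φ₂.σ : RingAut F)).subtype :=
    ⟨_, rfl⟩
  have hj₂ : ∀ c : F, Φ₂.σ c = c ↔ c ∈ Set.range j := by
    intro c
    rw [hj]
    constructor
    · intro h
      exact ⟨⟨c, h⟩, rfl⟩
    · rintro ⟨d, rfl⟩
      exact d.2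
  have hj₁ : ∀ c : F, Φ₁.σ c = c ↔ c ∈ Set.range j := by
    intro c
    rw [hτ]
    exact hj₂ c
  have hjfix₁ : ∀ a, Φ₁.σ (j a) = j a := fun a => (hj₁ _).mpr ⟨a, rfl⟩
  obtain ⟨D₁⟩ := exists_frameData j p Φ₁ hj₁ r hτ₁ hr.pos hpow₁
  obtain ⟨D₂⟩ := exists_frameData j p Φ₂ hj₂ r hτx hr.pos hpow₂
  have hrel : Φ₁.gam * ((fieldPlus F m Φ₁.σ).gam)⁻¹ ∈ Ip F m ↔
      Φ₂.gam * ((fieldPlus F m Φ₂.σ).gam)⁻¹ ∈ Ip F m := by
    rw [hΦ₁, hτ, mul_assoc]
    exact Subgroup.mul_mem_cancel_left (Ip F m) hδ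
  -- the descended forms are similar
  have hsim : ∃ k : Matrix (Fin m ⊕ Fin m) (Fin m ⊕ Fin m) ↥(fixK (Φ₂.σ : RingAut F)),
      ∀ v, D₁.Q₀ (k *ᵥ v) = D₂.Q₀ v := by
    rcases plus_or_minus D₁.Q₀ D₁.hnd hm1 with h1 | h1 <;>
      rcases plus_or_minus D₂.Q₀ D₂.hnd hm1 with h2 | h2
    · exact similar_of_plus _ _ h1 h2
    · exfalso
      rcases hr.eq_two_or_odd' with h2r | hodd
      · subst h2r
        have hin := mem_of_plus j p hm4 hP Φ₁ hjfix₁ D₁ h1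
        exact not_mem_of_minus j p hm4 hP Φ₂ hj₂ hτx D₂ h2 (hrel.mp hin)
      · exact not_minus_of_odd j hm1 Φ₂ hj₂ r hτx hodd D₂ h2
    · exfalso
      rcases hr.eq_two_or_odd' with h2r | hodd
      · subst h2r
        have hin := mem_of_plus j p hm4 hP Φ₂ (fun a => (hj₂ _).mpr ⟨a, rfl⟩) D₂ h2
        exact not_mem_of_minus j p hm4 hP Φ₁ hj₁ hτ₁ D₁ h1 (hrel.mpr hin)
      · exact not_minus_of_odd j hm1 Φ₁ hj₁ r hτ₁ hodd D₁ h1
    · exact similar_of_minus _ _ h1 h2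
  obtain ⟨k, hk⟩ := hsim
  obtain ⟨H, hHσ, hH, -⟩ := conj_fd j Φ₁ Φ₂ hτ hjfix₁ D₁ D₂ k hk
  obtain ⟨hH', hhH⟩ := exists_GO_of_lin p hP H hHσ
  -- a nonsingular eigenvector
  obtain ⟨v, hQv, hvS⟩ := exists_eigen j Φ₂ hj₂ D₂
  obtain ⟨rv, -, hrv⟩ := exists_GO_of_list [v] (by
    intro w hw
    rw [List.mem_singleton] at hw
    rw [hw]
    exact hQv)
  have hrv' : ((rv.1 : GL (Fin m ⊕ Fin m) F) : Matrix (Fin m ⊕ Fin m) (Fin m ⊕ Fin m) F) =
      Cfsg.reflectionMatrix ⇑(QPlus F m) v := by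
    rw [hrv]
    simp
  have hcomm : fGO (QPlus F m) rv * Φ₂.gam = Φ₂.gam * fGO (QPlus F m) rv := by
    rw [fGO_eq_gam, ← SemiSimO.gam_comp, ← SemiSimO.gam_comp]
    apply SemiSimO.gam_eq_of_S_eq
    intro w
    rw [SemiSimO.comp_S, SemiSimO.comp_S, simGO_S, simGO_S, hrv']
    exact (refl_comm Φ₂ v D₂.μ D₂.hμ hvS hQv w).symm
  have hrvK : rv ∉ Kp F m := refl_not_mem_Kp rv v hQv hrv'
  by_cases hK : hH' ∈ Kp F m
  · refine ⟨fGO (QPlus F m) hH', (fGO_mem_Ip_iff p hm4 hH').mpr hK, ?_⟩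
    rw [hhH, hH, hΦ₁]
  · refine ⟨fGO (QPlus F m) (hH' * rv), ?_, ?_⟩
    · rw [fGO_mem_Ip_iff p hm4, mul_mem_Kp_iff]
      tauto
    · rw [map_mul, conj_by_mul _ _ _ hcomm, hhH, hH, hΦ₁]

end main

end Cfsg.Agent.Lib.Helper6.PlusCoset
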