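import Mathlib
import Cfsg.Agent.Lib.Helper6.PlusCosetC

/-!
# The coset criterion for `PΩ⁺`, part D: the statement for field and graph-field automorphisms
-/

set_option autoImplicit false
set_option linter.unusedSectionVars false
set_option linter.unusedVariables false
set_option linter.style.haveILetI false

namespace Cfsg.Agent.Lib.Helper6.PlusCoset

open Module QuadraticMap Matrix Cfsg.Agent.Lib.Helper6 Cfsg.Agent.Lib.Helper15
  Cfsg.Agent.Lib.Helper6.OmegaAut Cfsg.Agent.Lib.Helper6.SimAut Cfsg.Agent.Lib.Helper6.SingClass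
  Cfsg.Agent.Lib.Helper6.Inndiag Cfsg.Agent.Lib.Helper6.AutInduced Cfsg.Agent.S2722 Cfsg.Agent.S2725
  Cfsg.Agent.Lib.Helper16.FieldCentOmegaOdd Cfsg.Agent.Lib.Helper16.FieldCentOrth
  Cfsg.Agent.Lib.Helper16.OrthDescent
  Cfsg.Agent.Lib.Helper16.FieldCosetOmegaOdd
  Cfsg.Agent.Lib.Helper6.AutOrt Cfsg.Agent.Lib.Helper6.Tri
  Cfsg.Agent.Lib.Helper6.PlusCent
  Cfsg.Agent.Lib.Helper16.FieldCosetOrth
  Cfsg.Agent.Lib.Helper16.QuadExt Cfsg.Agent.Lib.Helper16.SemiFrame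

theorem order_of_hom {G A : Type*} [Group G] [Group A] (ψ : G →* A) (x α : G) (r : ℕ)
    (hr : r.Prime) (hxr : orderOf x = r) (h : ψ (α * x * α⁻¹) ≠ 1) : orderOf (ψ x) = r := by
  have h1 : ψ x ≠ 1 := by
    intro h0
    apply h
    rw [map_mul, map_mul, h0, mul_one, map_inv, mul_inv_cancel]
  have h2 : (ψ x) ^ r = 1 := by rw [← map_pow, ← hxr, pow_orderOf_eq_one, map_one]
  rcases (Nat.dvd_prime hr).mp (orderOf_dvd_of_pow_eq_one h2) with h3 | h3
  · exact absurd (orderOf_eq_one_iff.mp h3) h1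
  · exact h3

variable {F : Type*} [Field F] [Fintype F] {m : ℕ}

section charp
variable (p : ℕ) [hp : Fact p.Prime] [hcp : CharP F p]

include hp hcp in
/-- the companion field automorphism of a field or graph-field automorphism of prime order has
the same order -/
theorem psi_order [Std (QPlus F m)] (hP : HP (QPlus F m))
    (x : MulAut (Cfsg.POmega F ⇑(QPlus F m)))
    (hx : Cfsg.IsFieldAutClassPOmega ⇑(QPlus F m) x ∨
      ∃ (α γ φ : MulAut (Cfsg.POmega F ⇑(QPlus F m))) (σ : F ≃+* F) (v : Fin m ⊕ Fin m → F)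
        (r : GL (Fin m ⊕ Fin m) F),
      σ ≠ RingEquiv.refl F ∧ QPlus F m v ≠ 0 ∧ (∀ i, σ (v i) = v i) ∧
      (r : Matrix (Fin m ⊕ Fin m) (Fin m ⊕ Fin m) F) = Cfsg.reflectionMatrix ⇑(QPlus F m) v ∧
      Cfsg.IsInducedBySemilinearPOmega ⇑(QPlus F m) r (RingEquiv.refl F) γ ∧
      Cfsg.IsFieldAutPOmegaOf ⇑(QPlus F m) σ φ ∧ α * x * α⁻¹ = γ * φ)
    {r : ℕ} (hr : r.Prime) (hxr : orderOf x = r) : orderOf (psiO p hP x) = r := by
  rcases hx with ⟨α, φ, σ, hσ1, hφ, e⟩ | ⟨α, γ, φ, σ, v, rr, hσ1, hv, hσv, hrr, hγ, hφ, e⟩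
  · have eφ := eq_gam_of_isFieldAut σ (fieldPlus F m σ) (fun _ => rfl) rfl φ hφ
    apply order_of_hom (psiO p hP) x α r hr hxr
    rw [e, eφ, psiO_gam]
    exact hσ1
  · have eφ := eq_gam_of_isFieldAut σ (fieldPlus F m σ) (fun _ => rfl) rfl φ hφ
    have hpair : Cfsg.IsSemisimilarityPair ⇑(QPlus F m) rr (RingEquiv.refl F) := by
      refine ⟨1, fun w => ?_⟩
      rw [hrr]
      change QPlus F m (Cfsg.reflectionMatrix ⇑(QPlus F m) v *ᵥ w) = ((1 : Fˣ) : F) * QPlus F m w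
      rw [refl_form (QPlus F m) v hv, Units.val_one, one_mul]
    have eγ := SemiSimO.eq_gam_of_induced rr (RingEquiv.refl F) hpair γ hγ
    apply order_of_hom (psiO p hP) x α r hr hxr
    rw [e, map_mul, eφ, eγ, psiO_gam, psiO_gam]
    change (1 : RingAut F) * σ ≠ 1
    rw [one_mul]
    exact hσ1

end charp

/-- the coset criterion for field and graph-field automorphisms of `PΩ⁺`, `m ≥ 5` -/
theorem main (hm : 5 ≤ m) (q : (Fin m ⊕ Fin m → F) → F) (hq : q = ⇑(QPlus F m))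
    (x δ : MulAut (Cfsg.POmega F q))
    (hx : Cfsg.IsFieldAutClassPOmega q x ∨
      ∃ (α γ φ : MulAut (Cfsg.POmega F q)) (σ : F ≃+* F) (v : Fin m ⊕ Fin m → F)
        (r : GL (Fin m ⊕ Fin m) F),
      σ ≠ RingEquiv.refl F ∧ q v ≠ 0 ∧ (∀ i, σ (v i) = v i) ∧
      (r : Matrix (Fin m ⊕ Fin m) (Fin m ⊕ Fin m) F) = Cfsg.reflectionMatrix q v ∧
      Cfsg.IsInducedBySemilinearPOmega q r (RingEquiv.refl F) γ ∧
      Cfsg.IsFieldAutPOmegaOf q σ φ ∧ α * x * α⁻¹ = γ * φ)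
    {r : ℕ} (hr : r.Prime) (hxr : orderOf x = r)
    (hδ : δ ∈ Subgroup.closure {β : MulAut (Cfsg.POmega F q) | ∃ g : GL (Fin m ⊕ Fin m) F,
        g ∈ Cfsg.Geo.quadSimilarityGroup (F := F) q ∧
        Cfsg.PreservesSingularClasses q (g : Matrix (Fin m ⊕ Fin m) (Fin m ⊕ Fin m) F) ∧
        Cfsg.IsInducedBySemilinearPOmega q g (RingEquiv.refl F) β}) :
    orderOf (δ * x) = r ↔ Cfsg.IsConjUnder
      (Subgroup.closure {β : MulAut (Cfsg.POmega F q) | ∃ g : GL (Fin m ⊕ Fin m) F,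
        g ∈ Cfsg.Geo.quadSimilarityGroup (F := F) q ∧
        Cfsg.PreservesSingularClasses q (g : Matrix (Fin m ⊕ Fin m) (Fin m ⊕ Fin m) F) ∧
        Cfsg.IsInducedBySemilinearPOmega q g (RingEquiv.refl F) β}) x (δ * x) := by
  classical
  subst hq
  rw [closure_eq_Ip] at hδ ⊢
  obtain ⟨p, hp, hcp⟩ := exists_char F
  haveI : Fact p.Prime := ⟨hp⟩
  haveI := std_QPlus (F := F) (show 4 ≤ m by omega)
  have hP : HP (QPlus F m) := by
    apply HP_of_nine
    rw [card_idx]; omega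
  have hτx := psi_order p hP x hx hr hxr
  constructor
  · intro hord
    obtain ⟨h, hh, e⟩ := coset_plus p hm hP x δ hr hxr hτx hδ hord
    exact ⟨h, hh, e⟩
  · rintro ⟨h, -, e'⟩
    rw [e']
    have : h * x * h⁻¹ = MulAut.conj h x := rfl
    rw [this, MulEquiv.orderOf_eq, hxr]

end Cfsg.Agent.Lib.Helper6.PlusCoset
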