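import Mathlib
import Cfsg.Agent.Lib.Helper6.PlusCosetD

/-!
# The coset criterion for `PΩ⁺`, part E: the parity homomorphism on the automorphism group and
the uniqueness of involutory graph-field automorphisms
-/

set_option autoImplicit false
set_option linter.unusedSectionVars false
set_option linter.unusedVariables false
set_option linter.style.haveILetI false

namespace Cfsg.Agent.Lib.Helper6.PlusCoset

open Module QuadraticMap Matrix Cfsg.Agent.Lib.Helper6 Cfsg.Agent.Lib.Helper15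
  Cfsg.Agent.Lib.Helper6.OmegaAut Cfsg.Agent.Lib.Helper6.SimAut Cfsg.Agent.Lib.Helper6.SingClass
  Cfsg.Agent.Lib.Helper6.Inndiag Cfsg.Agent.Lib.Helper6.AutInduced Cfsg.Agent.S2722 Cfsg.Agent.S2725
  Cfsg.Agent.Lib.Helper16.FieldCentOmegaOdd Cfsg.Agent.Lib.Helper16.FieldCentOrth
  Cfsg.Agent.Lib.Helper16.OrthDescent
  Cfsg.Agent.Lib.Helper16.FieldCosetOmegaOdd
  Cfsg.Agent.Lib.Helper6.AutOrt Cfsg.Agent.Lib.Helper6.Tri
  Cfsg.Agent.Lib.Helper6.PlusCent
  Cfsg.Agent.Lib.Helper16.FieldCosetOrth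
  Cfsg.Agent.Lib.Helper16.QuadExt Cfsg.Agent.Lib.Helper16.SemiFrame

/-- a finite cyclic group has at most one involution -/
theorem involution_unique {G : Type*} [Group G] [Finite G] [IsCyclic G] (a b : G)
    (ha : orderOf a = 2) (hb : orderOf b = 2) : a = b := by
  classical
  by_contra hab
  haveI : Fintype G := Fintype.ofFinite G
  have h1 := IsCyclic.card_pow_eq_one_le (α := G) (n := 2) (by norm_num)
  have ha2 : a ^ 2 = 1 := by rw [← ha]; exact pow_orderOf_eq_one a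
  have hb2 : b ^ 2 = 1 := by rw [← hb]; exact pow_orderOf_eq_one b
  have ha1 : a ≠ 1 := by
    intro h
    rw [h, orderOf_one] at ha
    omega
  have hb1 : b ≠ 1 := by
    intro h
    rw [h, orderOf_one] at hb
    omega
  have hsub : ({1, a, b} : Finset G) ⊆ Finset.univ.filter (fun x : G => x ^ 2 = 1) := by
    intro x hx
    rw [Finset.mem_filter]
    refine ⟨Finset.mem_univ _, ?_⟩
    simp only [Finset.mem_insert, Finset.mem_singleton] at hx
    rcases hx with rfl | rfl | rfl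
    · exact one_pow 2
    · exact ha2
    · exact hb2
  have hcard : ({1, a, b} : Finset G).card = 3 := by
    rw [Finset.card_insert_of_notMem, Finset.card_insert_of_notMem, Finset.card_singleton]
    · rw [Finset.mem_singleton]; exact hab
    · simp only [Finset.mem_insert, Finset.mem_singleton]
      push Not
      exact ⟨fun h => ha1 h.symm, fun h => hb1 h.symm⟩
  have := Finset.card_le_card hsub
  omega

theorem isCyclic_ringAut (F : Type*) [Field F] [Fintype F] : IsCyclic (RingAut F) := by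
  obtain ⟨p, hp, hcp⟩ := exists_char F
  haveI : Fact p.Prime := ⟨hp⟩
  obtain ⟨n, hn⟩ := FiniteField.card F p
  obtain ⟨e⟩ := Cfsg.Agent.Lib.Helper15.Dk.exists_ringAut_mulEquiv (F := F) p n hn.2
  exact isCyclic_of_surjective e.symm e.symm.surjective

section par
variable {F : Type*} [Field F] [Fintype F] (p : ℕ) [hp : Fact p.Prime] [hcp : CharP F p] {m : ℕ}

theorem phi_mul [Std (QPlus F m)] (τ ρ : RingAut F) :
    (fieldPlus F m τ).gam * (fieldPlus F m ρ).gam = (fieldPlus F m (τ * ρ)).gam := by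
  rw [← SemiSimO.gam_comp]
  apply SemiSimO.gam_eq_of_S_eq
  intro x
  rfl

theorem phi_one [Std (QPlus F m)] : (fieldPlus F m (1 : RingAut F)).gam = 1 := by
  rw [← SemiSimO.gam_one (Q := QPlus F m)]
  apply SemiSimO.gam_eq_of_S_eq
  intro x
  rfl

include hp hcp in
theorem psiO_fGO [Std (QPlus F m)] (hP : HP (QPlus F m)) (k : ↥(GO (QPlus F m))) :
    psiO p hP (fGO (QPlus F m) k) = 1 := by
  rw [fGO_eq_gam, psiO_gam]
  rfl

include hp hcp in
/-- every automorphism is a similarity times a field automorphism -/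
theorem exists_decomp_aut [Std (QPlus F m)] (hP : HP (QPlus F m))
    (β : MulAut (Cfsg.POmega F ⇑(QPlus F m))) :
    ∃ k : ↥(GO (QPlus F m)), β = fGO (QPlus F m) k * (fieldPlus F m (psiO p hP β)).gam := by
  classical
  have h1 : β * ((fieldPlus F m (psiO p hP β)).gam)⁻¹ ∈ (psiO p hP).ker := by
    rw [MonoidHom.mem_ker, map_mul, map_inv, psiO_gam, fieldPlus_σ, mul_inv_cancel]
  rw [psiO_ker, pgoAut_eq_range] at h1
  obtain ⟨k, hk⟩ := h1
  exact ⟨k, by rw [hk, inv_mul_cancel_right]⟩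

/-- the parity of an automorphism: whether its similarity part preserves the two classes -/
def par [Std (QPlus F m)] (hP : HP (QPlus F m)) (β : MulAut (Cfsg.POmega F ⇑(QPlus F m))) :
    Prop :=
  β * ((fieldPlus F m (psiO p hP β)).gam)⁻¹ ∈ Ip F m

include hp hcp in
theorem par_iff [Std (QPlus F m)] (hm : 4 ≤ m) (hP : HP (QPlus F m)) (k : ↥(GO (QPlus F m)))
    (τ : RingAut F) : par p hP (fGO (QPlus F m) k * (fieldPlus F m τ).gam) ↔ k ∈ Kp F m := by
  unfold par
  rw [map_mul, psiO_fGO p hP, one_mul, psiO_gam, fieldPlus_σ, mul_inv_cancel_right,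
    fGO_mem_Ip_iff p hm]

include hp hcp in
/-- the parity is a homomorphism to the group with two elements -/
theorem par_mul [Std (QPlus F m)] (hm : 4 ≤ m) (hP : HP (QPlus F m))
    (β γ : MulAut (Cfsg.POmega F ⇑(QPlus F m))) :
    par p hP (β * γ) ↔ (par p hP β ↔ par p hP γ) := by
  obtain ⟨k, hk⟩ := exists_decomp_aut p hP β
  obtain ⟨l, hl⟩ := exists_decomp_aut p hP γ
  obtain ⟨τ, hτ⟩ : ∃ τ : RingAut F, τ = psiO p hP β := ⟨_, rfl⟩
  obtain ⟨ρ, hρ⟩ : ∃ ρ : RingAut F, ρ = psiO p hP γ := ⟨_, rfl⟩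
  rw [← hτ] at hk
  rw [← hρ] at hl
  have e : β * γ = fGO (QPlus F m) (k * twist hm τ l) * (fieldPlus F m (τ * ρ)).gam := by
    rw [map_mul, ← conj_field hm τ l, ← phi_mul, hk, hl]
    group
  rw [e, par_iff p hm hP, hk, par_iff p hm hP, hl, par_iff p hm hP, mul_mem_Kp_iff,
    twist_mem_Kp_iff]

include hp hcp in
theorem par_one [Std (QPlus F m)] (hm : 4 ≤ m) (hP : HP (QPlus F m)) :
    par p hP (1 : MulAut (Cfsg.POmega F ⇑(QPlus F m))) := by
  have h := par_mul p hm hP 1 1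
  rw [one_mul] at h
  tauto

include hp hcp in
theorem par_inv [Std (QPlus F m)] (hm : 4 ≤ m) (hP : HP (QPlus F m))
    (β : MulAut (Cfsg.POmega F ⇑(QPlus F m))) : par p hP β⁻¹ ↔ par p hP β := by
  have h := par_mul p hm hP β β⁻¹
  rw [mul_inv_cancel] at h
  have h1 := par_one p hm hP
  tauto

include hp hcp in
theorem par_conj [Std (QPlus F m)] (hm : 4 ≤ m) (hP : HP (QPlus F m))
    (α β : MulAut (Cfsg.POmega F ⇑(QPlus F m))) : par p hP (α * β * α⁻¹) ↔ par p hP β := by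
  rw [par_mul p hm hP, par_mul p hm hP, par_inv p hm hP]
  tauto

include hp hcp in
/-- in the kernel of `psiO` the parity is membership in the inner-diagonal group -/
theorem par_of_ker [Std (QPlus F m)] (hP : HP (QPlus F m))
    (β : MulAut (Cfsg.POmega F ⇑(QPlus F m))) (hβ : psiO p hP β = 1) :
    par p hP β ↔ β ∈ Ip F m := by
  unfold par
  rw [hβ, phi_one, inv_one, mul_one]

include hp hcp in
/-- a graph-field automorphism has odd parity -/
theorem not_par_graphfield [Std (QPlus F m)] (hm : 4 ≤ m) (hP : HP (QPlus F m))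
    (x : MulAut (Cfsg.POmega F ⇑(QPlus F m)))
    (hx : ∃ (α γ φ : MulAut (Cfsg.POmega F ⇑(QPlus F m))) (σ : F ≃+* F) (v : Fin m ⊕ Fin m → F)
        (r : GL (Fin m ⊕ Fin m) F),
      σ ≠ RingEquiv.refl F ∧ QPlus F m v ≠ 0 ∧ (∀ i, σ (v i) = v i) ∧
      (r : Matrix (Fin m ⊕ Fin m) (Fin m ⊕ Fin m) F) = Cfsg.reflectionMatrix ⇑(QPlus F m) v ∧
      Cfsg.IsInducedBySemilinearPOmega ⇑(QPlus F m) r (RingEquiv.refl F) γ ∧
      Cfsg.IsFieldAutPOmegaOf ⇑(QPlus F m) σ φ ∧ α * x * α⁻¹ = γ * φ) :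
    ¬ par p hP x := by
  classical
  obtain ⟨α, γ, φ, σ, v, rr, hσ1, hv, hσv, hrr, hγ, hφ, e⟩ := hx
  rw [← par_conj p hm hP α x, e]
  have eφ := eq_gam_of_isFieldAut σ (fieldPlus F m σ) (fun _ => rfl) rfl φ hφ
  have hrrGO : rr ∈ GO (QPlus F m) := by
    rw [mem_GO_iff]
    refine ⟨1, fun w => ?_⟩
    rw [hrr, refl_form (QPlus F m) v hv, Units.val_one, one_mul]
  have hγ' : γ = fGO (QPlus F m) ⟨rr, hrrGO⟩ := by
    have hpair : Cfsg.IsSemisimilarityPair ⇑(QPlus F m) rr (RingEquiv.refl F) := by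
      refine ⟨1, fun w => ?_⟩
      rw [hrr]
      change QPlus F m (Cfsg.reflectionMatrix ⇑(QPlus F m) v *ᵥ w) = ((1 : Fˣ) : F) * QPlus F m w
      rw [refl_form (QPlus F m) v hv, Units.val_one, one_mul]
    rw [SemiSimO.eq_gam_of_induced rr (RingEquiv.refl F) hpair γ hγ, fGO_eq_gam]
    apply SemiSimO.gam_eq_of_S_eq
    intro w
    rfl
  rw [hγ', eφ, par_iff p hm hP]
  exact refl_not_mem_Kp ⟨rr, hrrGO⟩ v hv hrr

end par

section unique
variable {F : Type*} [Field F] [Fintype F] {m : ℕ}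

/-- two involutory graph-field automorphisms of `PΩ⁺`, `m ≥ 5`, are conjugate under `Inndiag` -/
theorem graphfield_unique (hm : 5 ≤ m) (q : (Fin m ⊕ Fin m → F) → F) (hq : q = ⇑(QPlus F m))
    (x y : MulAut (Cfsg.POmega F q))
    (hx : ∃ (α γ φ : MulAut (Cfsg.POmega F q)) (σ : F ≃+* F) (v : Fin m ⊕ Fin m → F)
        (r : GL (Fin m ⊕ Fin m) F),
      σ ≠ RingEquiv.refl F ∧ q v ≠ 0 ∧ (∀ i, σ (v i) = v i) ∧
      (r : Matrix (Fin m ⊕ Fin m) (Fin m ⊕ Fin m) F) = Cfsg.reflectionMatrix q v ∧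
      Cfsg.IsInducedBySemilinearPOmega q r (RingEquiv.refl F) γ ∧
      Cfsg.IsFieldAutPOmegaOf q σ φ ∧ α * x * α⁻¹ = γ * φ)
    (hx2 : orderOf x = 2)
    (hy : ∃ (α γ φ : MulAut (Cfsg.POmega F q)) (σ : F ≃+* F) (v : Fin m ⊕ Fin m → F)
        (r : GL (Fin m ⊕ Fin m) F),
      σ ≠ RingEquiv.refl F ∧ q v ≠ 0 ∧ (∀ i, σ (v i) = v i) ∧
      (r : Matrix (Fin m ⊕ Fin m) (Fin m ⊕ Fin m) F) = Cfsg.reflectionMatrix q v ∧
      Cfsg.IsInducedBySemilinearPOmega q r (RingEquiv.refl F) γ ∧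
      Cfsg.IsFieldAutPOmegaOf q σ φ ∧ α * y * α⁻¹ = γ * φ)
    (hy2 : orderOf y = 2) :
    Cfsg.IsConjUnder
      (Subgroup.closure {β : MulAut (Cfsg.POmega F q) | ∃ g : GL (Fin m ⊕ Fin m) F,
        g ∈ Cfsg.Geo.quadSimilarityGroup (F := F) q ∧
        Cfsg.PreservesSingularClasses q (g : Matrix (Fin m ⊕ Fin m) (Fin m ⊕ Fin m) F) ∧
        Cfsg.IsInducedBySemilinearPOmega q g (RingEquiv.refl F) β}) x y := by
  classical
  subst hq
  rw [closure_eq_Ip]
  obtain ⟨p, hp, hcp⟩ := exists_char F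
  haveI : Fact p.Prime := ⟨hp⟩
  have hm4 : 4 ≤ m := by omega
  haveI := std_QPlus (F := F) hm4
  have hP : HP (QPlus F m) := by
    apply HP_of_nine
    rw [card_idx]; omega
  have hτx := psi_order p hP x (Or.inr hx) Nat.prime_two hx2
  have hτy := psi_order p hP y (Or.inr hy) Nat.prime_two hy2
  haveI := isCyclic_ringAut F
  haveI : Finite (RingAut F) :=
    Finite.of_injective (fun e : RingAut F => (e : F → F)) DFunLike.coe_injective
  have hτ : psiO p hP y = psiO p hP x := involution_unique _ _ hτy hτx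
  have hpx := not_par_graphfield p hm4 hP x hx
  have hpy := not_par_graphfield p hm4 hP y hy
  have hker : psiO p hP (y * x⁻¹) = 1 := by rw [map_mul, map_inv, hτ, mul_inv_cancel]
  have hδ : y * x⁻¹ ∈ Ip F m := by
    rw [← par_of_ker p hP _ hker, par_mul p hm4 hP, par_inv p hm4 hP]
    tauto
  have hord : orderOf (y * x⁻¹ * x) = 2 := by rw [inv_mul_cancel_right]; exact hy2
  obtain ⟨h, hh, e⟩ := coset_plus p hm hP x (y * x⁻¹) Nat.prime_two hx2 hτx hδ hord
  rw [inv_mul_cancel_right] at e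
  exact ⟨h, hh, e⟩

end unique

end Cfsg.Agent.Lib.Helper6.PlusCoset
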