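import Mathlib
import Cfsg.Prelude.Def_Solvable
import Cfsg.Prelude.Def_KGroupFacts

/-!
# A criterion for the `p'`-core of a centraliser in an almost simple group (abstract part)
-/

set_option autoImplicit false
set_option linter.unusedSectionVars false
set_option linter.unusedVariables false
set_option linter.style.haveILetI false

namespace Cfsg.Agent.Lib.Helper6.LocalBal

/-- the data: a simple subgroup `M` of `I ∩ C(x)`, normalised by `C(x)`, with `C(M) ∩ C(x) ≤ ⟨x⟩` -/
structure Good {G : Type*} [Group G] (I : Subgroup G) (x : G) (p : ℕ) (M : Subgroup G) : Prop where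
  le : M ≤ I ⊓ Subgroup.centralizer {x}
  simple : IsSimpleGroup M
  norm : ∀ c ∈ Subgroup.centralizer {x}, ∀ k ∈ M, c * k * c⁻¹ ∈ M
  dvd : p ∣ Nat.card ↥(I ⊓ Subgroup.centralizer {x}) → p ∣ Nat.card M
  cent : ∀ c ∈ Subgroup.centralizer {x}, (∀ k ∈ M, c * k = k * c) → c ∈ Subgroup.zpowers x

theorem mem_cent_singleton {G : Type*} [Group G] (x c : G) :
    c ∈ Subgroup.centralizer {x} ↔ c * x = x * c := by
  rw [Subgroup.mem_centralizer_iff]
  constructor
  · intro h
    exact (h x rfl).symm
  · intro h y hy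
    rw [Set.mem_singleton_iff] at hy
    rw [hy, h]

/-- the data transport along an automorphism of the ambient group preserving `I` -/
theorem Good.map {G : Type*} [Group G] {I : Subgroup G} {x : G} {p : ℕ} {M : Subgroup G}
    (h : Good I x p M) (e : G ≃* G) (heI : ∀ k, k ∈ I ↔ e k ∈ I) :
    Good I (e x) p (M.map e.toMonoidHom) := by
  have hcent : ∀ c, c ∈ Subgroup.centralizer {x} ↔ e c ∈ Subgroup.centralizer {e x} := by
    intro c
    rw [mem_cent_singleton, mem_cent_singleton, ← map_mul, ← map_mul]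
    exact e.injective.eq_iff.symm
  have hcent' : ∀ c, c ∈ Subgroup.centralizer {e x} ↔ e.symm c ∈ Subgroup.centralizer {x} := by
    intro c
    rw [hcent, e.apply_symm_apply]
  refine ⟨?_, ?_, ?_, ?_, ?_⟩
  · rintro _ ⟨k, hk, rfl⟩
    have := h.le hk
    exact ⟨(heI k).mp this.1, (hcent k).mp this.2⟩
  · haveI := h.simple
    exact MulEquiv.isSimpleGroup (M.equivMapOfInjective e.toMonoidHom e.injective).symm
  · rintro c hc _ ⟨k, hk, rfl⟩
    have h1 := h.norm (e.symm c) ((hcent' c).mp hc) k hk
    refine ⟨_, h1, ?_⟩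
    change e (e.symm c * k * (e.symm c)⁻¹) = c * e k * c⁻¹
    rw [map_mul, map_mul, map_inv, e.apply_symm_apply]
  · intro hd
    have e1 : Nat.card ↥(I ⊓ Subgroup.centralizer {e x}) =
        Nat.card ↥(I ⊓ Subgroup.centralizer {x}) := by
      have : (I ⊓ Subgroup.centralizer {x}).map e.toMonoidHom = I ⊓ Subgroup.centralizer {e x} := by
        ext c
        constructor
        · rintro ⟨k, hk, rfl⟩
          exact ⟨(heI k).mp hk.1, (hcent k).mp hk.2⟩
        · intro hc
          refine ⟨e.symm c, ⟨?_, (hcent' c).mp hc.2⟩, e.apply_symm_apply c⟩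
          apply (heI (e.symm c)).mpr
          rw [e.apply_symm_apply]
          exact hc.1
      rw [← this]
      exact Nat.card_congr
        ((I ⊓ Subgroup.centralizer {x}).equivMapOfInjective e.toMonoidHom e.injective).symm.toEquiv
    rw [e1] at hd
    have h2 := h.dvd hd
    rwa [Nat.card_congr (M.equivMapOfInjective e.toMonoidHom e.injective).toEquiv] at h2
  · intro c hc hcomm
    have h1 := h.cent (e.symm c) ((hcent' c).mp hc) (fun k hk => by
      have := hcomm (e k) ⟨k, hk, rfl⟩
      apply e.injective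
      rw [map_mul, map_mul, e.apply_symm_apply]
      exact this)
    obtain ⟨i, hi⟩ := Subgroup.mem_zpowers_iff.mp h1
    rw [Subgroup.mem_zpowers_iff]
    refine ⟨i, ?_⟩
    rw [← map_zpow, hi, e.apply_symm_apply]

/-- the criterion -/
theorem core_iff {G : Type*} [Group G] [Finite G] (I A : Subgroup G) [hI : I.Normal]
    (hIA : I ≤ A) (x : G) (hxA : x ∈ A) (p : ℕ) [hp : Fact p.Prime] (hxp : x ^ p = 1)
    (M : Subgroup G) (hM : Good I x p M) :
    Cfsg.pPrimeCore p ↥(A ⊓ Subgroup.centralizer {x}) ≠ ⊥ ↔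
      Nat.Coprime p (Nat.card ↥(I ⊓ Subgroup.centralizer {x})) := by
  classical
  obtain ⟨C, hC⟩ : ∃ C : Subgroup G, C = A ⊓ Subgroup.centralizer {x} := ⟨_, rfl⟩
  rw [← hC]
  have hCcent : C ≤ Subgroup.centralizer {x} := by rw [hC]; exact inf_le_right
  have hJC : I ⊓ Subgroup.centralizer {x} ≤ C := by
    rw [hC]
    exact inf_le_inf_right _ hIA
  have hMC : M ≤ C := hM.le.trans hJC
  haveI := hM.simple
  have hMne : M ≠ ⊥ := by
    intro h0
    have : Nontrivial ↥M := IsSimpleGroup.toNontrivial
    rw [h0] at this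
    exact not_nontrivial _ this
  constructor
  · -- nontrivial core ⟹ coprime
    intro hne
    by_contra hcop
    have hdvd : p ∣ Nat.card ↥(I ⊓ Subgroup.centralizer {x}) := by
      by_contra hnd
      exact hcop ((Nat.Prime.coprime_iff_not_dvd hp.out).mpr hnd)
    have hpM := hM.dvd hdvd
    apply hne
    unfold Cfsg.pPrimeCore
    rw [sSup_eq_bot]
    rintro N ⟨hNn, hNc⟩
    obtain ⟨M', hM'⟩ : ∃ M' : Subgroup ↥C, M' = M.subgroupOf C := ⟨_, rfl⟩
    have hM'n : M'.Normal := by
      constructor
      intro k hk c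
      rw [hM', Subgroup.mem_subgroupOf] at hk ⊢
      exact hM.norm c.1 (hCcent c.2) k.1 hk
    have eM' : ↥M' ≃* ↥M := by
      rw [hM']
      exact Subgroup.subgroupOfEquivOfLe hMC
    haveI : IsSimpleGroup ↥M' := MulEquiv.isSimpleGroup eM'
    haveI : (N.subgroupOf M').Normal := Subgroup.normal_subgroupOf
    rcases IsSimpleGroup.eq_bot_or_eq_top_of_normal (N.subgroupOf M') inferInstance with h1 | h1
    · rw [Subgroup.subgroupOf_eq_bot] at h1
      rw [Subgroup.eq_bot_iff_forall]
      intro n hn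
      have hcomm : ∀ k ∈ M, n.1 * k = k * n.1 := by
        intro k hk
        have hk' : (⟨k, hMC hk⟩ : ↥C) ∈ M' := by
          rw [hM', Subgroup.mem_subgroupOf]
          exact hk
        have := Subgroup.commute_of_normal_of_disjoint N M' hNn hM'n h1 n ⟨k, hMC hk⟩ hn hk'
        exact congrArg Subtype.val this
      have hz := hM.cent n.1 (hCcent n.2) hcomm
      obtain ⟨i, hi⟩ := Subgroup.mem_zpowers_iff.mp hz
      have hnp : n ^ p = 1 := by
        apply Subtype.ext
        rw [Subgroup.coe_pow, Subgroup.coe_one, ← hi, ← zpow_natCast, ← zpow_mul, mul_comm,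
          zpow_mul, zpow_natCast, hxp, one_zpow]
      have h2 : orderOf n ∣ p := orderOf_dvd_of_pow_eq_one hnp
      have h3 : orderOf n ∣ Nat.card ↥N := by
        have := orderOf_dvd_natCard (⟨n, hn⟩ : ↥N)
        rwa [Subgroup.orderOf_mk] at this
      have h4 : orderOf n ∣ Nat.gcd (Nat.card ↥N) p := Nat.dvd_gcd h3 h2
      rw [hNc.gcd_eq_one, Nat.dvd_one] at h4
      exact orderOf_eq_one_iff.mp h4
    · exfalso
      rw [Subgroup.subgroupOf_eq_top] at h1
      have h2 : Nat.card ↥M' ∣ Nat.card ↥N := Subgroup.card_dvd_of_le h1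
      rw [Nat.card_congr eM'.toEquiv] at h2
      have h3 : p ∣ Nat.card ↥N := hpM.trans h2
      have h4 : p ∣ Nat.gcd (Nat.card ↥N) p := Nat.dvd_gcd h3 dvd_rfl
      rw [hNc.gcd_eq_one, Nat.dvd_one] at h4
      exact hp.out.one_lt.ne' h4
  · -- coprime ⟹ nontrivial core
    intro hcop
    obtain ⟨J, hJ⟩ : ∃ J : Subgroup ↥C, J = (I ⊓ Subgroup.centralizer {x}).subgroupOf C :=
      ⟨_, rfl⟩
    have hJn : J.Normal := by
      constructor
      intro k hk c
      rw [hJ, Subgroup.mem_subgroupOf] at hk ⊢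
      refine ⟨hI.conj_mem k.1 hk.1 c.1, ?_⟩
      have hc := hCcent c.2
      exact Subgroup.mul_mem _ (Subgroup.mul_mem _ hc hk.2) (Subgroup.inv_mem _ hc)
    have eJ : ↥J ≃* ↥(I ⊓ Subgroup.centralizer {x}) := by
      rw [hJ]
      exact Subgroup.subgroupOfEquivOfLe hJC
    have hJc : (Nat.card ↥J).Coprime p := by
      rw [Nat.card_congr eJ.toEquiv]
      exact hcop.symm
    have hJle : J ≤ Cfsg.pPrimeCore p ↥C := by
      unfold Cfsg.pPrimeCore
      exact le_sSup ⟨hJn, hJc⟩
    intro h0
    rw [h0, le_bot_iff] at hJle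
    apply hMne
    rw [Subgroup.eq_bot_iff_forall]
    intro k hk
    have hk' : (⟨k, hMC hk⟩ : ↥C) ∈ J := by
      rw [hJ, Subgroup.mem_subgroupOf]
      exact hM.le hk
    rw [hJle, Subgroup.mem_bot] at hk'
    exact congrArg Subtype.val hk'

/-- for a group with trivial centre, the inner automorphisms commuting with `x` correspond to the
fixed points of `x` -/
theorem card_inn_cent {K : Type*} [Group K] (hZ : Subgroup.center K = ⊥) (x : MulAut K) :
    Nat.card ↥(Cfsg.Inn K ⊓ Subgroup.centralizer {x}) =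
      Nat.card ↥(MonoidHom.eqLocus x.toMonoidHom (MonoidHom.id K)) := by
  have hinj : Function.Injective (MulAut.conj : K →* MulAut K) := by
    rw [injective_iff_map_eq_one]
    intro k hk
    have : k ∈ Subgroup.center K := by
      rw [Subgroup.mem_center_iff]
      intro y
      have := congrArg (fun β : MulAut K => β y) hk
      simp only [MulAut.conj_apply, MulAut.one_apply] at this
      calc y * k = (k * y * k⁻¹) * k := by rw [this]
        _ = k * y := by group
    rw [hZ, Subgroup.mem_bot] at this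
    exact this
  have hconj : ∀ k : K, x * MulAut.conj k * x⁻¹ = MulAut.conj (x k) := by
    intro k
    ext y
    simp only [MulAut.mul_apply, MulAut.conj_apply, map_mul, map_inv]
    rw [MulAut.apply_inv_self]
  have hiff : ∀ k : K, MulAut.conj k ∈ Subgroup.centralizer {x} ↔ x k = k := by
    intro k
    rw [mem_cent_singleton]
    constructor
    · intro h
      apply hinj
      rw [← hconj, ← h, mul_inv_cancel_right]
    · intro h
      have := hconj k
      rw [h] at this
      calc MulAut.conj k * x = (x * MulAut.conj k * x⁻¹) * x := by rw [this]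
        _ = x * MulAut.conj k := by group
  symm
  apply Nat.card_congr
  refine Equiv.ofBijective (fun k => ⟨MulAut.conj k.1, ⟨⟨k.1, rfl⟩, (hiff k.1).mpr k.2⟩⟩) ⟨?_, ?_⟩
  · intro a b hab
    apply Subtype.ext
    apply hinj
    exact congrArg Subtype.val hab
  · rintro ⟨β, ⟨k, rfl⟩, hβ⟩
    exact ⟨⟨k, (hiff k).mp hβ⟩, rfl⟩

end Cfsg.Agent.Lib.Helper6.LocalBal
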