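import Mathlib
import Cfsg.Agent.Lib.Helper6.LocalBalA
import Cfsg.Agent.Lib.Helper16.FieldCentOmegaOdd

/-!
# Local balance for field automorphisms of orthogonal groups, part B: abstract lemmas, the
Galois lemma, base change of `Ω`
-/

set_option autoImplicit false
set_option linter.unusedSectionVars false
set_option linter.unusedVariables false
set_option linter.style.haveILetI false

namespace Cfsg.Agent.Lib.Helper6.LocalBal

open Matrix Cfsg QuadraticMap Cfsg.Agent.Lib.Helper6 Cfsg.Agent.Lib.Helper6.AutOrt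
  Cfsg.Agent.Lib.Helper6.SimAut Cfsg.Agent.Lib.Helper6.AutInduced Cfsg.Agent.Lib.Helper6.OmegaAut
  Cfsg.Agent.Lib.Helper16.H90GL Cfsg.Agent.Lib.Helper16.OrthClassify
  Cfsg.Agent.Lib.Helper16.OrthDescent Cfsg.Agent.Lib.Helper16.FieldCosetOrth
  Cfsg.Agent.Lib.Helper16.FieldCosetOmegaOdd Cfsg.Agent.Lib.Helper16.SplitCount
  Cfsg.Agent.Lib.Helper16.FieldCentOrth Cfsg.Agent.Lib.Helper16.FieldCentOmegaOdd

/-! ### abstract group lemmas -/

/-- images of a subgroup under two homomorphisms with the same kernel are isomorphic -/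
theorem map_equiv_of_ker_eq {G H₁ H₂ : Type*} [Group G] [Group H₁] [Group H₂] (f₁ : G →* H₁)
    (f₂ : G →* H₂) (hk : f₁.ker = f₂.ker) (S : Subgroup G) :
    Nonempty (↥(S.map f₁) ≃* ↥(S.map f₂)) := by
  have e1 : S.map f₁ = (f₁.comp S.subtype).range := by
    rw [MonoidHom.range_comp, Subgroup.range_subtype]
  have e2 : S.map f₂ = (f₂.comp S.subtype).range := by
    rw [MonoidHom.range_comp, Subgroup.range_subtype]
  have hk' : (f₁.comp S.subtype).ker = (f₂.comp S.subtype).ker := by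
    ext s
    rw [MonoidHom.mem_ker, MonoidHom.mem_ker]
    change f₁ s.1 = 1 ↔ f₂ s.1 = 1
    rw [← MonoidHom.mem_ker, hk, MonoidHom.mem_ker]
  exact ⟨(MulEquiv.subgroupCongr e1).trans
    ((QuotientGroup.quotientKerEquivRange _).symm.trans
      ((QuotientGroup.quotientMulEquivOfEq hk').trans
        ((QuotientGroup.quotientKerEquivRange _).trans (MulEquiv.subgroupCongr e2.symm))))⟩

/-- an automorphism of a centreless group commuting with all inner automorphisms is trivial -/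
theorem eq_one_of_comm_inn {K : Type*} [Group K] (hZ : Subgroup.center K = ⊥) (n : MulAut K)
    (h : ∀ k : K, n * MulAut.conj k = MulAut.conj k * n) : n = 1 := by
  ext k
  have h1 : MulAut.conj (n k) = MulAut.conj k := by
    have h2 : n * MulAut.conj k * n⁻¹ = MulAut.conj (n k) := by
      ext y
      rw [MulAut.mul_apply, MulAut.mul_apply, MulAut.conj_apply, MulAut.conj_apply, map_mul,
        map_mul, map_inv, MulAut.apply_inv_self]
    rw [← h2, h k, mul_inv_cancel_right]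
  have h3 : k⁻¹ * n k ∈ Subgroup.center K := by
    rw [Subgroup.mem_center_iff]
    intro y
    have h4 : n k * y * (n k)⁻¹ = k * y * k⁻¹ := by
      have := congrArg (fun f : MulAut K => f y) h1
      simpa [MulAut.conj_apply] using this
    have h5 : n k * y = k * y * k⁻¹ * n k := by
      rw [← h4, inv_mul_cancel_right]
    calc y * (k⁻¹ * n k) = k⁻¹ * (k * y * k⁻¹ * n k) := by group
      _ = k⁻¹ * (n k * y) := by rw [h5]
      _ = k⁻¹ * n k * y := by group
  rw [hZ, Subgroup.mem_bot] at h3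
  rw [MulAut.one_apply]
  exact (inv_mul_eq_one.mp h3).symm

/-! ### the Galois lemma -/

/-- an automorphism of a finite field fixing the fixed field of `τ` is a power of `τ` -/
theorem mem_zpowers_of_fixed {F : Type*} [Field F] [Finite F] (τ τ' : RingAut F)
    (h : ∀ a : F, τ a = a → τ' a = a) : τ' ∈ Subgroup.zpowers τ := by
  classical
  haveI : Fintype F := Fintype.ofFinite F
  haveI : Finite (RingAut F) := Finite.of_injective (fun e : RingAut F => (e : F → F))
    (fun a b hab => RingEquiv.ext (congrFun hab))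
  obtain ⟨H₁, hH₁⟩ : ∃ H₁ : Subgroup (RingAut F), H₁ = Subgroup.zpowers τ := ⟨_, rfl⟩
  obtain ⟨H₂, hH₂⟩ : ∃ H₂ : Subgroup (RingAut F), H₂ = H₁ ⊔ Subgroup.zpowers τ' := ⟨_, rfl⟩
  have hle : H₁ ≤ H₂ := by rw [hH₂]; exact le_sup_left
  haveI : Fintype ↥H₁ := Fintype.ofFinite _
  haveI : Fintype ↥H₂ := Fintype.ofFinite _
  have hS : FixedPoints.subfield ↥H₁ F = FixedPoints.subfield ↥H₂ F := by
    ext a
    constructor
    · intro ha g
      have hτ : τ ∈ MulAction.stabilizer (RingAut F) a := by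
        rw [MulAction.mem_stabilizer_iff]
        exact ha ⟨τ, by rw [hH₁]; exact Subgroup.mem_zpowers τ⟩
      have hτ' : τ' ∈ MulAction.stabilizer (RingAut F) a := by
        rw [MulAction.mem_stabilizer_iff]
        exact h a hτ
      have hle2 : H₂ ≤ MulAction.stabilizer (RingAut F) a := by
        rw [hH₂, hH₁]
        exact sup_le ((Subgroup.zpowers_le).mpr hτ) ((Subgroup.zpowers_le).mpr hτ')
      exact hle2 g.2
    · intro ha g
      exact ha ⟨g.1, hle g.2⟩
  have h1 := FixedPoints.finrank_eq_card ↥H₁ F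
  have h2 := FixedPoints.finrank_eq_card ↥H₂ F
  have h3 : Module.finrank ↥(FixedPoints.subfield ↥H₁ F) F =
      Module.finrank ↥(FixedPoints.subfield ↥H₂ F) F :=
    congrArg (fun S : Subfield F => Module.finrank ↥S F) hS
  have h4 : Nat.card ↥H₂ ≤ Nat.card ↥H₁ := by
    rw [Nat.card_eq_fintype_card, Nat.card_eq_fintype_card, ← h1, ← h2, h3]
  have h5 := Subgroup.eq_of_le_of_card_ge hle h4
  rw [← hH₁, h5, hH₂]
  exact (le_sup_right : Subgroup.zpowers τ' ≤ H₁ ⊔ Subgroup.zpowers τ') (Subgroup.mem_zpowers τ')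

/-- an automorphism preserving a subfield restricts to it -/
theorem exists_restrict_aut {F F₀ : Type*} [Field F] [Field F₀] [Finite F₀] (j : F₀ →+* F)
    (τ' : F ≃+* F) (hpres : ∀ a : F₀, τ' (j a) ∈ Set.range j) :
    ∃ τ₀ : F₀ ≃+* F₀, ∀ a, j (τ₀ a) = τ' (j a) := by
  choose f hf using hpres
  have hinj : Function.Injective j := j.injective
  obtain ⟨fh, hfh⟩ : ∃ fh : F₀ →+* F₀, ∀ a, fh a = f a :=
    ⟨{ toFun := f
       map_one' := hinj (by rw [hf, map_one, map_one])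
       map_mul' := fun a b => hinj (by rw [hf, map_mul, map_mul, map_mul, hf, hf])
       map_zero' := hinj (by rw [hf, map_zero, map_zero])
       map_add' := fun a b => hinj (by rw [hf, map_add, map_add, map_add, hf, hf]) },
      fun a => rfl⟩
  have hfinj : Function.Injective fh := fh.injective
  have hbij : Function.Bijective fh := ⟨hfinj, Finite.injective_iff_surjective.mp hfinj⟩
  refine ⟨RingEquiv.ofBijective fh hbij, fun a => ?_⟩
  change j (fh a) = _
  rw [hfh, hf]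

/-! ### generic facts on a family of field semisimilarities -/

variable {F : Type*} [Field F] [Fintype F] {ι : Type} [Fintype ι] [DecidableEq ι]

section fld
variable {Q : QuadraticForm F (ι → F)} [hS : Std Q] (fld : (σ : F ≃+* F) → SemiSimO Q)
  (hfS : ∀ σ x, (fld σ).S x = fun i => σ (x i))

include hfS in
theorem fld_mul (σ ρ : RingAut F) : (fld σ).gam * (fld ρ).gam = (fld (σ * ρ)).gam := by
  rw [← SemiSimO.gam_comp]
  apply SemiSimO.gam_eq_of_S_eq
  intro x
  change (fld σ).S ((fld ρ).S x) = _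
  rw [hfS, hfS, hfS]
  rfl

include hfS in
theorem fld_one : (fld 1).gam = 1 := by
  apply SemiSimO.gam_eq_one_of_smul _ 1
  intro x
  rw [one_smul, hfS]
  rfl

/-- the field automorphisms as a homomorphism -/
noncomputable def fldHom : RingAut F →* MulAut (Cfsg.POmega F ⇑Q) where
  toFun σ := (fld σ).gam
  map_one' := fld_one fld hfS
  map_mul' σ ρ := (fld_mul fld hfS σ ρ).symm

theorem fldHom_apply (σ : RingAut F) : fldHom fld hfS σ = (fld σ).gam := rfl

include hfS in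
/-- conjugating a similarity by a field automorphism -/
theorem conj_fld (σ : F ≃+* F) (g g' : ↥(GO Q))
    (h : (g'.1 : Matrix ι ι F) = (g.1 : Matrix ι ι F).map σ) :
    (fld σ).gam * fGO Q g * ((fld σ).gam)⁻¹ = fGO Q g' := by
  rw [mul_inv_eq_iff_eq_mul, fGO_eq_gam, fGO_eq_gam, ← SemiSimO.gam_comp, ← SemiSimO.gam_comp]
  apply SemiSimO.gam_eq_of_S_eq
  intro x
  change (fld σ).S ((g.1 : Matrix ι ι F) *ᵥ x) = (g'.1 : Matrix ι ι F) *ᵥ (fld σ).S x
  rw [hfS, hfS, h, map_mulVec_apply']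

section charp
variable (p : ℕ) [hp : Fact p.Prime] [hcp : CharP F p] (hP : HP Q)

include hp hcp in
theorem psiO_fGO' (k : ↥(GO Q)) : psiO p hP (fGO Q k) = 1 := by
  rw [fGO_eq_gam, psiO_gam]
  rfl

include hp hcp in
/-- every automorphism is a similarity times a field automorphism -/
theorem exists_decomp' (hfσ : ∀ σ, (fld σ).σ = σ) (β : MulAut (Cfsg.POmega F ⇑Q)) :
    ∃ k : ↥(GO Q), β = fGO Q k * (fld (psiO p hP β)).gam := by
  classical
  have h1 : β * ((fld (psiO p hP β)).gam)⁻¹ ∈ (psiO p hP).ker := by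
    rw [MonoidHom.mem_ker, map_mul, map_inv, psiO_gam, hfσ, mul_inv_cancel]
  rw [psiO_ker, pgoAut_eq_range] at h1
  obtain ⟨k, hk⟩ := h1
  exact ⟨k, by rw [hk, inv_mul_cancel_right]⟩

end charp

end fld

/-! ### base change of `Ω` -/

section omegamap
variable {F₀ : Type*} [Field F₀] (j : F₀ →+* F) (Q₀ : QuadraticForm F₀ (ι → F₀))
  (Q : QuadraticForm F (ι → F)) (hjQ : ∀ v : ι → F₀, Q (fun i => j (v i)) = j (Q₀ v))

include hjQ in
theorem map_mem_iso (h2 : (2 : F) ≠ 0) (g₀ : ↥(Cfsg.isometryGroup F₀ ⇑Q₀)) :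
    Matrix.GeneralLinearGroup.map j g₀.1 ∈ Cfsg.isometryGroup F ⇑Q := by
  have h2₀ : (2 : F₀) ≠ 0 := by
    intro h
    apply h2
    have := congrArg j h
    rwa [map_ofNat, map_zero] at this
  rw [mem_isometryGroup_iff]
  have h0 := (sim_iff_gram h2₀ (gramP Q₀) (gramP_symm Q₀) (gramP_spec h2₀ Q₀)
    (g₀.1 : Matrix ι ι F₀) 1).mp (fun v => by
      rw [one_mul]; exact (mem_isometryGroup_iff Q₀ g₀.1).mp g₀.2 v)
  have h1 : ((g₀.1 : Matrix ι ι F₀).map j)ᵀ * gramP Q * (g₀.1 : Matrix ι ι F₀).map j =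
      (1 : F) • gramP Q := by
    rw [← gramP_map j Q₀ Q hjQ, ← Matrix.transpose_map, ← Matrix.map_mul, ← Matrix.map_mul, h0,
      one_smul, one_smul]
  intro v
  have := (sim_iff_gram h2 (gramP Q) (gramP_symm Q) (gramP_spec h2 Q) _ _).mpr h1 v
  rw [one_mul] at this
  exact this

/-- base change of isometries -/
noncomputable def mapIso (h2 : (2 : F) ≠ 0) :
    ↥(Cfsg.isometryGroup F₀ ⇑Q₀) →* ↥(Cfsg.isometryGroup F ⇑Q) :=
  MonoidHom.codRestrict
    ((Matrix.GeneralLinearGroup.map j).comp (Cfsg.isometryGroup F₀ ⇑Q₀).subtype)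
    (Cfsg.isometryGroup F ⇑Q) (fun g₀ => map_mem_iso j Q₀ Q hjQ h2 g₀)

theorem mapIso_val (h2 : (2 : F) ≠ 0) (g₀ : ↥(Cfsg.isometryGroup F₀ ⇑Q₀)) :
    (((mapIso j Q₀ Q hjQ h2 g₀).1 : GL ι F) : Matrix ι ι F) =
      ((g₀.1 : GL ι F₀) : Matrix ι ι F₀).map j := rfl

theorem mapIso_mem_Omega (h2 : (2 : F) ≠ 0) (ω₀ : ↥(Cfsg.isometryGroup F₀ ⇑Q₀))
    (h : ω₀ ∈ Cfsg.Omega F₀ ⇑Q₀) : mapIso j Q₀ Q hjQ h2 ω₀ ∈ Cfsg.Omega F ⇑Q := by
  have hle : (commutator ↥(Cfsg.isometryGroup F₀ ⇑Q₀)).map (mapIso j Q₀ Q hjQ h2) ≤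
      commutator ↥(Cfsg.isometryGroup F ⇑Q) := by
    rw [commutator_def, commutator_def, Subgroup.map_commutator]
    exact Subgroup.commutator_mono le_top le_top
  exact hle ⟨ω₀, h, rfl⟩

end omegamap

section innmap
variable {F₀ : Type*} [Field F₀] [Fintype F₀] (j : F₀ →+* F) (Q₀ : QuadraticForm F₀ (ι → F₀))
  (Q : QuadraticForm F (ι → F)) [hS : Std Q] [hS₀ : Std Q₀]
  (hjQ : ∀ v : ι → F₀, Q (fun i => j (v i)) = j (Q₀ v))
  (p : ℕ) [hp : Fact p.Prime] [hcp : CharP F p] [hcp₀ : CharP F₀ p]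

include hp hcp hcp₀ in
/-- base change maps inner automorphisms to inner automorphisms -/
theorem map_inn (h2 : (2 : F) ≠ 0) (s₀ : ↥(GO Q₀))
    (h : fGO Q₀ s₀ ∈ Cfsg.Inn (Cfsg.POmega F₀ ⇑Q₀)) :
    fGO Q (mapGO j Q₀ Q hjQ h2 s₀) ∈ Cfsg.Inn (Cfsg.POmega F ⇑Q) := by
  rw [fGO_mem_Inn_iff p] at h ⊢
  obtain ⟨c, ω₀, hω₀, e⟩ := h
  refine ⟨j c, mapIso j Q₀ Q hjQ h2 ω₀, mapIso_mem_Omega j Q₀ Q hjQ h2 ω₀ hω₀, ?_⟩
  rw [mapGO_val, mapIso_val, e]
  ext a b
  simp

end innmap

end Cfsg.Agent.Lib.Helper6.LocalBal
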