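import Mathlib
import Cfsg.Agent.Lib.Helper6.LocalBalB
import Cfsg.Agent.Lib.Helper6.OmegaSimple

/-!
# Local balance for field automorphisms of orthogonal groups, part C: the subfield subgroup in the
centraliser of a field automorphism
-/

set_option autoImplicit false
set_option linter.unusedSectionVars false
set_option linter.unusedVariables false
set_option linter.style.haveILetI false

namespace Cfsg.Agent.Lib.Helper6.LocalBal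

open Matrix Cfsg QuadraticMap Cfsg.Agent.Lib.Helper6 Cfsg.Agent.Lib.Helper6.AutOrt
  Cfsg.Agent.Lib.Helper6.SimAut Cfsg.Agent.Lib.Helper6.AutInduced Cfsg.Agent.Lib.Helper6.OmegaAut
  Cfsg.Agent.Lib.Helper16.H90GL Cfsg.Agent.Lib.Helper16.OrthClassify
  Cfsg.Agent.Lib.Helper16.OrthDescent Cfsg.Agent.Lib.Helper16.FieldCosetOrth
  Cfsg.Agent.Lib.Helper16.FieldCosetOmegaOdd Cfsg.Agent.Lib.Helper16.SplitCount
  Cfsg.Agent.Lib.Helper16.FieldCentOrth Cfsg.Agent.Lib.Helper16.FieldCentOmegaOdd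

theorem ringAut_comm {F : Type*} [Field F] [Fintype F] (σ ρ : RingAut F) : σ * ρ = ρ * σ := by
  obtain ⟨p, hp, hcp⟩ := exists_char F
  haveI : Fact p.Prime := ⟨hp⟩
  obtain ⟨n, hn⟩ := FiniteField.card F p
  obtain ⟨e⟩ := Cfsg.Agent.Lib.Helper15.Dk.exists_ringAut_mulEquiv (F := F) p n hn.2
  apply e.injective
  rw [map_mul, map_mul, mul_comm]

/-- the inner automorphism group of a centreless group -/
theorem inn_equiv {K : Type*} [Group K] (hZ : Subgroup.center K = ⊥) :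
    Nonempty (K ≃* ↥(Cfsg.Inn K)) := by
  have hinj : Function.Injective (MulAut.conj : K →* MulAut K) := by
    rw [injective_iff_map_eq_one]
    intro k hk
    have : k ∈ Subgroup.center K := by
      rw [Subgroup.mem_center_iff]
      intro y
      have := congrArg (fun β : MulAut K => β y) hk
      simp only [MulAut.conj_apply, MulAut.one_apply] at this
      calc y * k = (k * y * k⁻¹) * k := by rw [this]
        _ = k * y := by group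
    rw [hZ, Subgroup.mem_bot] at this
    exact this
  exact ⟨MonoidHom.ofInjective hinj⟩

variable {F : Type*} [Field F] [Fintype F] {ι : Type} [Fintype ι] [DecidableEq ι]

theorem center_POmega (Q : QuadraticForm F (ι → F)) [hS : Std Q] :
    Subgroup.center (Cfsg.POmega F ⇑Q) = ⊥ := by
  haveI : Group.IsPerfect ↥(Cfsg.Omega F ⇑Q) := ⟨Omega_perfect Q hS.nondeg (five_le Q)⟩
  exact Group.IsPerfect.center_quotient_center_eq_bot ↥(Cfsg.Omega F ⇑Q)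

/-- abstract: conjugating through a product -/
theorem conj_prod {G : Type*} [Group G] (b f k k' : G) (h : f * k * f⁻¹ = k') :
    (b * f) * k * (b * f)⁻¹ = b * k' * b⁻¹ := by
  rw [← h]
  group

/-- abstract: cancelling a commuting factor -/
theorem comm_of_comm_mul {G : Type*} [Group G] (φ a f : G) (hf : φ * f = f * φ)
    (h : (a * f) * φ = φ * (a * f)) : φ * a = a * φ := by
  have h1 : a * φ * f = φ * a * f := by
    calc a * φ * f = a * (φ * f) := by group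
      _ = a * (f * φ) := by rw [hf]
      _ = (a * f) * φ := by group
      _ = φ * (a * f) := h
      _ = φ * a * f := by group
  exact (mul_right_cancel h1).symm

section good
variable {F₀ : Type*} [Field F₀] [Fintype F₀] (j : F₀ →+* F) (Q₀ : QuadraticForm F₀ (ι → F₀))
  (Q : QuadraticForm F (ι → F)) [hS : Std Q] [hS₀ : Std Q₀]
  (hjQ : ∀ v : ι → F₀, Q (fun i => j (v i)) = j (Q₀ v))
  (r : ℕ) [hr : Fact r.Prime] [hcr : CharP F r] [hcr₀ : CharP F₀ r]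

/-- base change composed with the action -/
noncomputable def bcA (h2 : (2 : F) ≠ 0) : ↥(GO Q₀) →* MulAut (Cfsg.POmega F ⇑Q) :=
  (fGO Q).comp (mapGO j Q₀ Q hjQ h2)

theorem bcA_apply (h2 : (2 : F) ≠ 0) (g₀ : ↥(GO Q₀)) :
    bcA j Q₀ Q hjQ h2 g₀ = fGO Q (mapGO j Q₀ Q hjQ h2 g₀) := rfl

include hr hcr hcr₀ in
theorem bcA_ker (h2 : (2 : F) ≠ 0) : (bcA j Q₀ Q hjQ h2).ker = (fGO Q₀).ker := by
  haveI := nonempty_idx Q
  have hjinj : Function.Injective j := RingHom.injective j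
  have hιinj : Function.Injective (fun M : Matrix ι ι F₀ => M.map j) :=
    Matrix.map_injective hjinj
  ext g₀
  rw [MonoidHom.mem_ker, MonoidHom.mem_ker, bcA_apply, fGO_eq_one_iff' r, fGO_eq_one_iff' r,
    mapGO_val]
  constructor
  · rintro ⟨μ, hμ⟩
    have i0 : ι := Classical.arbitrary ι
    have hμ0 : j ((g₀.1 : Matrix ι ι F₀) i0 i0) = μ := by
      have := congrFun (congrFun hμ i0) i0
      simpa using this
    refine ⟨(g₀.1 : Matrix ι ι F₀) i0 i0, ?_⟩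
    apply hιinj
    simp only
    rw [hμ]
    ext s t
    rw [Matrix.map_apply, Matrix.smul_apply, Matrix.smul_apply, Matrix.one_apply,
      Matrix.one_apply]
    by_cases hst : s = t
    · rw [if_pos hst, if_pos hst, smul_eq_mul, smul_eq_mul, mul_one, mul_one, hμ0]
    · rw [if_neg hst, if_neg hst, smul_zero, smul_zero, map_zero]
  · rintro ⟨c, hc⟩
    refine ⟨j c, ?_⟩
    rw [hc]
    ext s t
    rw [Matrix.map_apply, Matrix.smul_apply, Matrix.smul_apply, Matrix.one_apply,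
      Matrix.one_apply]
    by_cases hst : s = t
    · rw [if_pos hst, if_pos hst, smul_eq_mul, smul_eq_mul, mul_one, mul_one]
    · rw [if_neg hst, if_neg hst, smul_zero, smul_zero, map_zero]

include hr hcr hcr₀ in
theorem bcA_eq_iff (h2 : (2 : F) ≠ 0) (a b : ↥(GO Q₀)) :
    bcA j Q₀ Q hjQ h2 a = bcA j Q₀ Q hjQ h2 b ↔ fGO Q₀ a = fGO Q₀ b := by
  rw [← mul_inv_eq_one, ← map_inv, ← map_mul, ← MonoidHom.mem_ker, bcA_ker j Q₀ Q hjQ r h2,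
    MonoidHom.mem_ker, map_mul, map_inv, mul_inv_eq_one]

/-- the subfield subgroup -/
noncomputable def subM (h2 : (2 : F) ≠ 0) : Subgroup (MulAut (Cfsg.POmega F ⇑Q)) :=
  ((Cfsg.Inn (Cfsg.POmega F₀ ⇑Q₀)).comap (fGO Q₀)).map (bcA j Q₀ Q hjQ h2)

include hr hcr hcr₀ in
theorem subM_equiv (h2 : (2 : F) ≠ 0) :
    Nonempty (↥(subM j Q₀ Q hjQ h2) ≃* Cfsg.POmega F₀ ⇑Q₀) := by
  classical
  obtain ⟨e1⟩ := map_equiv_of_ker_eq (bcA j Q₀ Q hjQ h2) (fGO Q₀) (bcA_ker j Q₀ Q hjQ r h2)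
    ((Cfsg.Inn (Cfsg.POmega F₀ ⇑Q₀)).comap (fGO Q₀))
  have e2 : ((Cfsg.Inn (Cfsg.POmega F₀ ⇑Q₀)).comap (fGO Q₀)).map (fGO Q₀) =
      Cfsg.Inn (Cfsg.POmega F₀ ⇑Q₀) := by
    rw [Subgroup.map_comap_eq, ← pgoAut_eq_range]
    exact inf_eq_right.mpr (Inn_le_pgoAut Q₀)
  obtain ⟨e3⟩ := inn_equiv (center_POmega Q₀)
  exact ⟨e1.trans ((MulEquiv.subgroupCongr e2).trans e3.symm)⟩

section main
variable (hP : HP Q) (hP₀ : HP Q₀) (h2 : (2 : F) ≠ 0)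
  (fld : (σ : F ≃+* F) → SemiSimO Q) (hfS : ∀ σ x, (fld σ).S x = fun i => σ (x i))
  (hfσ : ∀ σ, (fld σ).σ = σ)
  (fld₀ : (σ : F₀ ≃+* F₀) → SemiSimO Q₀) (hfS₀ : ∀ σ x, (fld₀ σ).S x = fun i => σ (x i))
  (hfσ₀ : ∀ σ, (fld₀ σ).σ = σ) (hfν₀ : ∀ σ, (fld₀ σ).ν = 1)
  (τ : F ≃+* F) (hj : ∀ a : F, τ a = a ↔ a ∈ Set.range j)

include hr hcr hfS hj in
theorem bcA_comm (g₀ : ↥(GO Q₀)) :
    (fld τ).gam * bcA j Q₀ Q hjQ h2 g₀ = bcA j Q₀ Q hjQ h2 g₀ * (fld τ).gam := by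
  rw [bcA_apply, comm_iff r τ (fld τ) (hfS τ)]
  refine ⟨1, ?_⟩
  rw [one_smul, mapGO_val]
  ext s t
  rw [Matrix.map_apply, Matrix.map_apply]
  exact (hj _).mpr ⟨_, rfl⟩

include hr hcr hfS hfσ hj hP in
/-- the centraliser of the field automorphism: subfield similarities times field automorphisms -/
theorem exists_cent_decomp (c : MulAut (Cfsg.POmega F ⇑Q))
    (hc : c * (fld τ).gam = (fld τ).gam * c) :
    ∃ (g₀ : ↥(GO Q₀)) (τ' : RingAut F), c = bcA j Q₀ Q hjQ h2 g₀ * (fld τ').gam ∧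
      ∀ a : F₀, τ' (j a) ∈ Set.range j := by
  obtain ⟨τ', hτ'⟩ : ∃ τ' : RingAut F, τ' = psiO r hP c := ⟨_, rfl⟩
  obtain ⟨k, hk⟩ := exists_decomp' fld r hP hfσ c
  rw [← hτ'] at hk
  have hff : (fld τ).gam * (fld τ').gam = (fld τ').gam * (fld τ).gam := by
    rw [fld_mul fld hfS, fld_mul fld hfS, ringAut_comm]
  have hkc : (fld τ).gam * fGO Q k = fGO Q k * (fld τ).gam := by
    apply comm_of_comm_mul _ _ _ hff
    rw [← hk]
    exact hc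
  obtain ⟨μ, hμ⟩ := (comm_iff r τ (fld τ) (hfS τ) k).mp hkc
  obtain ⟨g₀, a, ha0, hg₀⟩ := exists_descent j Q₀ Q hjQ h2 τ hj k μ hμ
  refine ⟨g₀, τ', ?_, ?_⟩
  · rw [hk, bcA_apply, fGO_eq_of_smul k _ a ha0 hg₀]
  · intro b
    rw [← hj]
    have h1 : τ (τ' (j b)) = (τ * τ') (j b) := rfl
    rw [h1, ringAut_comm]
    change τ' (τ (j b)) = _
    rw [(hj _).mpr ⟨b, rfl⟩]

include hfS in
theorem conj_bcA (τ' : RingAut F) (τ'₀ : RingAut F₀) (hτ₀ : ∀ a, j (τ'₀ a) = τ' (j a))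
    (tw : ↥(GO Q₀) →* ↥(GO Q₀))
    (htw : ∀ s : ↥(GO Q₀), ((tw s).1 : Matrix ι ι F₀) = (s.1 : Matrix ι ι F₀).map τ'₀)
    (g₀ s₀ : ↥(GO Q₀)) :
    (bcA j Q₀ Q hjQ h2 g₀ * (fld τ').gam) * bcA j Q₀ Q hjQ h2 s₀ *
      (bcA j Q₀ Q hjQ h2 g₀ * (fld τ').gam)⁻¹ = bcA j Q₀ Q hjQ h2 (g₀ * tw s₀ * g₀⁻¹) := by
  have hmat : ((mapGO j Q₀ Q hjQ h2 (tw s₀)).1 : Matrix ι ι F) =
      ((mapGO j Q₀ Q hjQ h2 s₀).1 : Matrix ι ι F).map τ' := by
    rw [mapGO_val, mapGO_val, htw]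
    ext a b
    rw [Matrix.map_apply, Matrix.map_apply, Matrix.map_apply, Matrix.map_apply, hτ₀]
  have h : (fld τ').gam * bcA j Q₀ Q hjQ h2 s₀ * ((fld τ').gam)⁻¹ = bcA j Q₀ Q hjQ h2 (tw s₀) :=
    conj_fld fld hfS τ' (mapGO j Q₀ Q hjQ h2 s₀) (mapGO j Q₀ Q hjQ h2 (tw s₀)) hmat
  rw [conj_prod _ _ _ (bcA j Q₀ Q hjQ h2 (tw s₀)) h, map_mul, map_mul, map_inv]

include hfS₀ in
theorem conj_fGO₀ (τ'₀ : RingAut F₀) (tw : ↥(GO Q₀) →* ↥(GO Q₀))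
    (htw : ∀ s : ↥(GO Q₀), ((tw s).1 : Matrix ι ι F₀) = (s.1 : Matrix ι ι F₀).map τ'₀)
    (g₀ s₀ : ↥(GO Q₀)) :
    fGO Q₀ (g₀ * tw s₀ * g₀⁻¹) = (fGO Q₀ g₀ * (fld₀ τ'₀).gam) * fGO Q₀ s₀ *
      (fGO Q₀ g₀ * (fld₀ τ'₀).gam)⁻¹ := by
  rw [conj_prod _ _ _ (fGO Q₀ (tw s₀)) (conj_fld fld₀ hfS₀ τ'₀ s₀ (tw s₀) (htw s₀)),
    map_mul, map_mul, map_inv]

include hfS₀ hfν₀ hfσ₀ in
/-- the twisting of similarities over the subfield by a field automorphism -/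
theorem exists_twist (h2₀ : (2 : F₀) ≠ 0) (τ'₀ : RingAut F₀) :
    ∃ tw : ↥(GO Q₀) →* ↥(GO Q₀),
      ∀ s : ↥(GO Q₀), ((tw s).1 : Matrix ι ι F₀) = (s.1 : Matrix ι ι F₀).map τ'₀ := by
  have hform : ∀ v : ι → F₀, Q₀ (fun i => (τ'₀ : F₀ →+* F₀) (v i)) =
      (τ'₀ : F₀ →+* F₀) (Q₀ v) := by
    intro v
    have := (fld₀ τ'₀).form v
    rw [hfS₀, hfν₀, one_mul] at this
    rw [hfσ₀] at this
    exact this
  exact ⟨mapGO (τ'₀ : F₀ →+* F₀) Q₀ Q₀ hform h2₀, fun s => rfl⟩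

include hr hcr hcr₀ hP hP₀ hfS hfσ hfS₀ hfσ₀ hfν₀ hj in
/-- **the subfield subgroup is a good subgroup of the centraliser of a field automorphism** -/
theorem good_fld (hoddι : Odd (Fintype.card ι)) (p : ℕ) (hp : p.Prime)
    (heven : 2 ∣ Nat.card (Cfsg.POmega F₀ ⇑Q₀)) :
    Good (Cfsg.Inn (Cfsg.POmega F ⇑Q)) (fld τ).gam p (subM j Q₀ Q hjQ h2) := by
  classical
  have h2₀ : (2 : F₀) ≠ 0 := by
    intro h
    apply h2
    have := congrArg j h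
    rwa [map_ofNat, map_zero] at this
  obtain ⟨eM⟩ := subM_equiv j Q₀ Q hjQ r h2
  have key : ∀ c ∈ Subgroup.centralizer {(fld τ).gam},
      ∃ (g₀ : ↥(GO Q₀)) (τ' : RingAut F) (τ'₀ : RingAut F₀) (tw : ↥(GO Q₀) →* ↥(GO Q₀)),
        c = bcA j Q₀ Q hjQ h2 g₀ * (fld τ').gam ∧ (∀ a, j (τ'₀ a) = τ' (j a)) ∧
        (∀ s : ↥(GO Q₀), ((tw s).1 : Matrix ι ι F₀) = (s.1 : Matrix ι ι F₀).map τ'₀) := by
    intro c hc
    rw [mem_cent_singleton] at hc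
    obtain ⟨g₀, τ', hcd, hpres⟩ := exists_cent_decomp j Q₀ Q hjQ r hP h2 fld hfS hfσ τ hj c hc
    obtain ⟨τ'₀, hτ₀⟩ := exists_restrict_aut j τ' hpres
    obtain ⟨tw, htw⟩ := exists_twist Q₀ fld₀ hfS₀ hfσ₀ hfν₀ h2₀ τ'₀
    exact ⟨g₀, τ', τ'₀, tw, hcd, hτ₀, htw⟩
  refine ⟨?_, ?_, ?_, ?_, ?_⟩
  · -- le
    rintro _ ⟨s₀, hs₀, rfl⟩
    exact ⟨map_inn j Q₀ Q hjQ r h2 s₀ hs₀,
      (mem_cent_singleton _ _).mpr (bcA_comm j Q₀ Q hjQ r h2 fld hfS τ hj s₀).symm⟩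
  · -- simple
    haveI := POmega_isSimpleGroup Q₀ hS₀.nondeg (five_le Q₀)
    exact MulEquiv.isSimpleGroup eM
  · -- norm
    rintro c hc _ ⟨s₀, hs₀, rfl⟩
    obtain ⟨g₀, τ', τ'₀, tw, hcd, hτ₀, htw⟩ := key c hc
    rw [hcd, conj_bcA j Q₀ Q hjQ h2 fld hfS τ' τ'₀ hτ₀ tw htw g₀ s₀]
    refine ⟨_, ?_, rfl⟩
    rw [SetLike.mem_coe, Subgroup.mem_comap, conj_fGO₀ Q₀ fld₀ hfS₀ τ'₀ tw htw g₀ s₀]
    exact (Cfsg.innNormal _).conj_mem _ hs₀ _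
  · -- dvd
    intro hd
    rw [Nat.card_congr eM.toEquiv]
    have h1 : Nat.card ↥(Cfsg.Inn (Cfsg.POmega F ⇑Q) ⊓ Subgroup.centralizer {(fld τ).gam}) ∣
        Nat.card ↥(Cfsg.pgoAut F ⇑Q ⊓ Subgroup.centralizer {(fld τ).gam}) :=
      Subgroup.card_dvd_of_le (inf_le_inf_right _ (Inn_le_pgoAut Q))
    obtain ⟨e⟩ := cent_iso j Q₀ Q hjQ r hP h2 τ hj (fld τ) (hfS τ) 1
    rw [inv_one, one_mul, mul_one] at e
    obtain ⟨T₀⟩ := hS₀.triple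
    have h3 := card_pgoAut_of_odd Q₀ h2₀ hS₀.nondeg (five_le Q₀) hoddι T₀
    rw [Nat.card_congr e.toEquiv, h3] at h1
    have h4 := hd.trans h1
    rcases (Nat.Prime.dvd_mul hp).mp h4 with h5 | h5
    · rw [(Nat.prime_dvd_prime_iff_eq hp Nat.prime_two).mp h5]
      exact heven
    · exact h5
  · -- cent
    intro c hc hcomm
    obtain ⟨g₀, τ', τ'₀, tw, hcd, hτ₀, htw⟩ := key c hc
    obtain ⟨n₀, hn₀⟩ : ∃ n₀, n₀ = fGO Q₀ g₀ * (fld₀ τ'₀).gam := ⟨_, rfl⟩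
    have hn1 : n₀ = 1 := by
      apply eq_one_of_comm_inn (center_POmega Q₀)
      intro k
      have hk : MulAut.conj k ∈ (fGO Q₀).range := by
        rw [← pgoAut_eq_range]
        exact Inn_le_pgoAut Q₀ ⟨k, rfl⟩
      obtain ⟨s₀, hs₀⟩ := hk
      have hs₀S : s₀ ∈ (Cfsg.Inn (Cfsg.POmega F₀ ⇑Q₀)).comap (fGO Q₀) := by
        rw [Subgroup.mem_comap, hs₀]; exact ⟨k, rfl⟩
      have h1 := hcomm _ ⟨s₀, hs₀S, rfl⟩
      have h2' : c * bcA j Q₀ Q hjQ h2 s₀ * c⁻¹ = bcA j Q₀ Q hjQ h2 s₀ := by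
        rw [h1, mul_inv_cancel_right]
      rw [hcd, conj_bcA j Q₀ Q hjQ h2 fld hfS τ' τ'₀ hτ₀ tw htw g₀ s₀, bcA_eq_iff j Q₀ Q hjQ r h2,
        conj_fGO₀ Q₀ fld₀ hfS₀ τ'₀ tw htw g₀ s₀, ← hn₀, hs₀] at h2'
      exact mul_inv_eq_iff_eq_mul.mp h2'
    have hτ₀1 : τ'₀ = 1 := by
      have := congrArg (psiO r hP₀) hn1
      rw [hn₀, map_mul, psiO_fGO' r hP₀, one_mul, psiO_gam, hfσ₀, map_one] at this
      exact this
    have hg₀1 : fGO Q₀ g₀ = 1 := by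
      rw [hn₀, hτ₀1, fld_one fld₀ hfS₀, mul_one] at hn1
      exact hn1
    have hb1 : bcA j Q₀ Q hjQ h2 g₀ = 1 := by
      rw [← MonoidHom.mem_ker, bcA_ker j Q₀ Q hjQ r h2, MonoidHom.mem_ker]
      exact hg₀1
    have hmem : τ' ∈ Subgroup.zpowers τ := by
      apply mem_zpowers_of_fixed
      intro a ha
      obtain ⟨b, rfl⟩ := (hj a).mp ha
      rw [← hτ₀, hτ₀1]
      rfl
    obtain ⟨i, hi⟩ := Subgroup.mem_zpowers_iff.mp hmem
    rw [Subgroup.mem_zpowers_iff]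
    refine ⟨i, ?_⟩
    rw [hcd, hb1, one_mul, ← hi, ← fldHom_apply fld hfS, ← fldHom_apply fld hfS, map_zpow]

end main

end good

end Cfsg.Agent.Lib.Helper6.LocalBal
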