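import Mathlib
import Cfsg.Agent.Lib.Helper6.LocalBalA

/-!
# A criterion for the `p'`-core of a centraliser in an almost simple group, second form: the
distinguished subgroup need not be simple
-/

set_option autoImplicit false
set_option linter.unusedSectionVars false
set_option linter.unusedVariables false
set_option linter.style.haveILetI false

namespace Cfsg.Agent.Lib.Helper6.LocalBal

/-- the data: a nontrivial subgroup `M` of `I ∩ C(x)`, normalised by `C(x)`, with
`C(M) ∩ C(x) ≤ ⟨x⟩`, and without nontrivial normal `p'`-subgroups when `p` divides `|I ∩ C(x)|` -/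
structure Good' {G : Type*} [Group G] (I : Subgroup G) (x : G) (p : ℕ) (M : Subgroup G) : Prop where
  le : M ≤ I ⊓ Subgroup.centralizer {x}
  nt : M ≠ ⊥
  norm : ∀ c ∈ Subgroup.centralizer {x}, ∀ k ∈ M, c * k * c⁻¹ ∈ M
  cent : ∀ c ∈ Subgroup.centralizer {x}, (∀ k ∈ M, c * k = k * c) → c ∈ Subgroup.zpowers x
  ncore : p ∣ Nat.card ↥(I ⊓ Subgroup.centralizer {x}) → ∀ N : Subgroup G, N ≤ M →
    (∀ k ∈ M, ∀ n ∈ N, k * n * k⁻¹ ∈ N) → (Nat.card N).Coprime p → N = ⊥

/-- the data transport along an automorphism of the ambient group preserving `I` -/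
theorem Good'.map' {G : Type*} [Group G] {I : Subgroup G} {x : G} {p : ℕ} {M : Subgroup G}
    (h : Good' I x p M) (e : G ≃* G) (heI : ∀ k, k ∈ I ↔ e k ∈ I) (y : G) (hy : e x = y) :
    Good' I y p (M.map e.toMonoidHom) := by
  subst hy
  have hcent : ∀ c, c ∈ Subgroup.centralizer {x} ↔ e c ∈ Subgroup.centralizer {e x} := by
    intro c
    rw [mem_cent_singleton, mem_cent_singleton, ← map_mul, ← map_mul]
    exact e.injective.eq_iff.symm
  have hcent' : ∀ c, c ∈ Subgroup.centralizer {e x} ↔ e.symm c ∈ Subgroup.centralizer {x} := by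
    intro c
    rw [hcent, e.apply_symm_apply]
  have e1 : Nat.card ↥(I ⊓ Subgroup.centralizer {e x}) =
      Nat.card ↥(I ⊓ Subgroup.centralizer {x}) := by
    have : (I ⊓ Subgroup.centralizer {x}).map e.toMonoidHom = I ⊓ Subgroup.centralizer {e x} := by
      ext c
      constructor
      · rintro ⟨k, hk, rfl⟩
        exact ⟨(heI k).mp hk.1, (hcent k).mp hk.2⟩
      · intro hc
        refine ⟨e.symm c, ⟨?_, (hcent' c).mp hc.2⟩, e.apply_symm_apply c⟩
        apply (heI (e.symm c)).mpr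
        rw [e.apply_symm_apply]
        exact hc.1
    rw [← this]
    exact Nat.card_congr
      ((I ⊓ Subgroup.centralizer {x}).equivMapOfInjective e.toMonoidHom e.injective).symm.toEquiv
  refine ⟨?_, ?_, ?_, ?_, ?_⟩
  · rintro _ ⟨k, hk, rfl⟩
    have := h.le hk
    exact ⟨(heI k).mp this.1, (hcent k).mp this.2⟩
  · intro h0
    apply h.nt
    rw [Subgroup.eq_bot_iff_forall]
    intro k hk
    have : e k ∈ M.map e.toMonoidHom := ⟨k, hk, rfl⟩
    rw [h0, Subgroup.mem_bot] at this
    exact e.injective (by rw [this, map_one])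
  · rintro c hc _ ⟨k, hk, rfl⟩
    have h1 := h.norm (e.symm c) ((hcent' c).mp hc) k hk
    refine ⟨_, h1, ?_⟩
    change e (e.symm c * k * (e.symm c)⁻¹) = c * e k * c⁻¹
    rw [map_mul, map_mul, map_inv, e.apply_symm_apply]
  · intro c hc hcomm
    have h1 := h.cent (e.symm c) ((hcent' c).mp hc) (fun k hk => by
      have := hcomm (e k) ⟨k, hk, rfl⟩
      apply e.injective
      rw [map_mul, map_mul, e.apply_symm_apply]
      exact this)
    obtain ⟨i, hi⟩ := Subgroup.mem_zpowers_iff.mp h1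
    rw [Subgroup.mem_zpowers_iff]
    refine ⟨i, ?_⟩
    rw [← map_zpow, hi, e.apply_symm_apply]
  · intro hd N hNM hnorm hcop
    rw [e1] at hd
    have h1 := h.ncore hd (N.comap e.toMonoidHom) ?_ ?_ ?_
    · rw [Subgroup.eq_bot_iff_forall]
      intro n hn
      have h2 : e.symm n ∈ N.comap e.toMonoidHom := by
        rw [Subgroup.mem_comap]
        change e (e.symm n) ∈ N
        rw [e.apply_symm_apply]
        exact hn
      rw [h1, Subgroup.mem_bot] at h2
      have := congrArg e h2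
      rwa [e.apply_symm_apply, map_one] at this
    · intro n hn
      rw [Subgroup.mem_comap] at hn
      obtain ⟨k, hk, hk'⟩ := hNM hn
      have : k = n := e.injective hk'
      rwa [← this]
    · intro k hk n hn
      rw [Subgroup.mem_comap] at hn ⊢
      change e (k * n * k⁻¹) ∈ N
      rw [map_mul, map_mul, map_inv]
      exact hnorm (e k) ⟨k, hk, rfl⟩ (e n) hn
    · have h3 : Nat.card ↥(N.comap e.toMonoidHom) = Nat.card ↥N := by
        have h4 : (N.comap e.toMonoidHom).map e.toMonoidHom = N := by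
          apply Subgroup.map_comap_eq_self_of_surjective
          exact e.surjective
        conv_rhs => rw [← h4]
        exact Nat.card_congr
          ((N.comap e.toMonoidHom).equivMapOfInjective e.toMonoidHom e.injective).toEquiv
      rw [h3]
      exact hcop

/-- the criterion, second form -/
theorem core_iff' {G : Type*} [Group G] [Finite G] (I A : Subgroup G) [hI : I.Normal]
    (hIA : I ≤ A) (x : G) (hxA : x ∈ A) (p : ℕ) [hp : Fact p.Prime] (hxp : x ^ p = 1)
    (M : Subgroup G) (hM : Good' I x p M) :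
    Cfsg.pPrimeCore p ↥(A ⊓ Subgroup.centralizer {x}) ≠ ⊥ ↔
      Nat.Coprime p (Nat.card ↥(I ⊓ Subgroup.centralizer {x})) := by
  classical
  obtain ⟨C, hC⟩ : ∃ C : Subgroup G, C = A ⊓ Subgroup.centralizer {x} := ⟨_, rfl⟩
  rw [← hC]
  have hCcent : C ≤ Subgroup.centralizer {x} := by rw [hC]; exact inf_le_right
  have hJC : I ⊓ Subgroup.centralizer {x} ≤ C := by
    rw [hC]
    exact inf_le_inf_right _ hIA
  have hMC : M ≤ C := hM.le.trans hJC
  have hMne : M ≠ ⊥ := hM.nt
  constructor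
  · -- nontrivial core ⟹ coprime
    intro hne
    by_contra hcop
    have hdvd : p ∣ Nat.card ↥(I ⊓ Subgroup.centralizer {x}) := by
      by_contra hnd
      exact hcop ((Nat.Prime.coprime_iff_not_dvd hp.out).mpr hnd)
    apply hne
    unfold Cfsg.pPrimeCore
    rw [sSup_eq_bot]
    rintro N ⟨hNn, hNc⟩
    obtain ⟨M', hM'⟩ : ∃ M' : Subgroup ↥C, M' = M.subgroupOf C := ⟨_, rfl⟩
    have hM'n : M'.Normal := by
      constructor
      intro k hk c
      rw [hM', Subgroup.mem_subgroupOf] at hk ⊢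
      exact hM.norm c.1 (hCcent c.2) k.1 hk
    -- the intersection, as a subgroup of `G`
    obtain ⟨N₀, hN₀⟩ : ∃ N₀ : Subgroup G, N₀ = (N ⊓ M').map C.subtype := ⟨_, rfl⟩
    have hN₀M : N₀ ≤ M := by
      rw [hN₀]
      rintro _ ⟨n, hn, rfl⟩
      have h5 : n ∈ M' := hn.2
      rw [hM', Subgroup.mem_subgroupOf] at h5
      exact h5
    have hN₀norm : ∀ k ∈ M, ∀ n ∈ N₀, k * n * k⁻¹ ∈ N₀ := by
      intro k hk n hn
      rw [hN₀] at hn ⊢
      obtain ⟨n', hn', rfl⟩ := hn
      refine ⟨⟨k, hMC hk⟩ * n' * ⟨k, hMC hk⟩⁻¹, ⟨hNn.conj_mem n' hn'.1 _, ?_⟩, rfl⟩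
      exact hM'n.conj_mem n' hn'.2 _
    have hN₀c : (Nat.card ↥N₀).Coprime p := by
      have h1 : Nat.card ↥N₀ = Nat.card ↥(N ⊓ M') := by
        rw [hN₀]
        exact (Nat.card_congr
          ((N ⊓ M').equivMapOfInjective C.subtype C.subtype_injective).toEquiv).symm
      have h2 : Nat.card ↥(N ⊓ M') ∣ Nat.card ↥N := Subgroup.card_dvd_of_le inf_le_left
      rw [h1]
      exact Nat.Coprime.coprime_dvd_left h2 hNc
    have hN₀bot := hM.ncore hdvd N₀ hN₀M hN₀norm hN₀c
    have hdisj : Disjoint N M' := by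
      rw [disjoint_iff, Subgroup.eq_bot_iff_forall]
      intro n hn
      have : (n : G) ∈ N₀ := by rw [hN₀]; exact ⟨n, hn, rfl⟩
      rw [hN₀bot, Subgroup.mem_bot] at this
      exact Subtype.ext this
    rw [Subgroup.eq_bot_iff_forall]
    intro n hn
    have hcomm : ∀ k ∈ M, n.1 * k = k * n.1 := by
      intro k hk
      have hk' : (⟨k, hMC hk⟩ : ↥C) ∈ M' := by
        rw [hM', Subgroup.mem_subgroupOf]
        exact hk
      have := Subgroup.commute_of_normal_of_disjoint N M' hNn hM'n hdisj n ⟨k, hMC hk⟩ hn hk'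
      exact congrArg Subtype.val this
    have hz := hM.cent n.1 (hCcent n.2) hcomm
    obtain ⟨i, hi⟩ := Subgroup.mem_zpowers_iff.mp hz
    have hnp : n ^ p = 1 := by
      apply Subtype.ext
      rw [Subgroup.coe_pow, Subgroup.coe_one, ← hi, ← zpow_natCast, ← zpow_mul, mul_comm,
        zpow_mul, zpow_natCast, hxp, one_zpow]
    have h2 : orderOf n ∣ p := orderOf_dvd_of_pow_eq_one hnp
    have h3 : orderOf n ∣ Nat.card ↥N := by
      have := orderOf_dvd_natCard (⟨n, hn⟩ : ↥N)
      rwa [Subgroup.orderOf_mk] at this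
    have h4 : orderOf n ∣ Nat.gcd (Nat.card ↥N) p := Nat.dvd_gcd h3 h2
    rw [hNc.gcd_eq_one, Nat.dvd_one] at h4
    exact orderOf_eq_one_iff.mp h4
  · -- coprime ⟹ nontrivial core
    intro hcop
    obtain ⟨J, hJ⟩ : ∃ J : Subgroup ↥C, J = (I ⊓ Subgroup.centralizer {x}).subgroupOf C :=
      ⟨_, rfl⟩
    have hJn : J.Normal := by
      constructor
      intro k hk c
      rw [hJ, Subgroup.mem_subgroupOf] at hk ⊢
      refine ⟨hI.conj_mem k.1 hk.1 c.1, ?_⟩
      have hc := hCcent c.2
      exact Subgroup.mul_mem _ (Subgroup.mul_mem _ hc hk.2) (Subgroup.inv_mem _ hc)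
    have eJ : ↥J ≃* ↥(I ⊓ Subgroup.centralizer {x}) := by
      rw [hJ]
      exact Subgroup.subgroupOfEquivOfLe hJC
    have hJc : (Nat.card ↥J).Coprime p := by
      rw [Nat.card_congr eJ.toEquiv]
      exact hcop.symm
    have hJle : J ≤ Cfsg.pPrimeCore p ↥C := by
      unfold Cfsg.pPrimeCore
      exact le_sSup ⟨hJn, hJc⟩
    intro h0
    rw [h0, le_bot_iff] at hJle
    apply hMne
    rw [Subgroup.eq_bot_iff_forall]
    intro k hk
    have hk' : (⟨k, hMC hk⟩ : ↥C) ∈ J := by
      rw [hJ, Subgroup.mem_subgroupOf]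
      exact hM.le hk
    rw [hJle, Subgroup.mem_bot] at hk'
    exact congrArg Subtype.val hk'

/-- a simple subgroup of order divisible by `p` has no nontrivial normal `p'`-subgroup -/
theorem ncore_of_simple {G : Type*} [Group G] (M : Subgroup G) [hs : IsSimpleGroup ↥M] (p : ℕ)
    (hp : p.Prime) (hpM : p ∣ Nat.card ↥M) (N : Subgroup G) (hNM : N ≤ M)
    (hnorm : ∀ k ∈ M, ∀ n ∈ N, k * n * k⁻¹ ∈ N) (hcop : (Nat.card ↥N).Coprime p) : N = ⊥ := by
  haveI : (N.subgroupOf M).Normal := by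
    constructor
    intro n hn k
    rw [Subgroup.mem_subgroupOf] at hn ⊢
    exact hnorm k.1 k.2 n.1 hn
  rcases IsSimpleGroup.eq_bot_or_eq_top_of_normal (N.subgroupOf M) inferInstance with h1 | h1
  · rw [Subgroup.subgroupOf_eq_bot] at h1
    rw [eq_bot_iff]
    intro n hn
    exact h1.le_bot ⟨hn, hNM hn⟩
  · exfalso
    rw [Subgroup.subgroupOf_eq_top] at h1
    have h2 : N = M := le_antisymm hNM h1
    rw [h2] at hcop
    have h4 : p ∣ Nat.gcd (Nat.card ↥M) p := Nat.dvd_gcd hpM dvd_rfl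
    rw [hcop.gcd_eq_one, Nat.dvd_one] at h4
    exact hp.one_lt.ne' h4

/-- nontrivial normal subgroups of the symmetric group of degree six have order divisible by
`360` -/
theorem perm6_dvd (N : Subgroup (Equiv.Perm (Fin 6))) [N.Normal] (hN : N ≠ ⊥) :
    360 ∣ Nat.card ↥N := by
  have h1 := Equiv.Perm.alternatingGroup_le_of_normal (α := Fin 6) (by simp) (N := N)
    ((Subgroup.nontrivial_iff_ne_bot N).mpr hN)
  have h2 := Subgroup.card_dvd_of_le h1
  have h3 : Nat.card ↥(alternatingGroup (Fin 6)) = 360 := by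
    have h4 := two_mul_card_alternatingGroup (α := Fin 6)
    rw [Fintype.card_perm, Fintype.card_fin] at h4
    rw [Nat.card_eq_fintype_card]
    have : Nat.factorial 6 = 720 := by decide
    omega
  rwa [h3] at h2

/-- a subgroup isomorphic to the symmetric group of degree six has no nontrivial normal subgroup
of order prime to a divisor `p ≠ 1` of `360` -/
theorem ncore_of_perm6 {G : Type*} [Group G] (M : Subgroup G)
    (e : ↥M ≃* Equiv.Perm (Fin 6)) (p : ℕ) (hp : p ∣ 360) (hp1 : p ≠ 1) (N : Subgroup G)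
    (hNM : N ≤ M) (hnorm : ∀ k ∈ M, ∀ n ∈ N, k * n * k⁻¹ ∈ N)
    (hcop : (Nat.card ↥N).Coprime p) : N = ⊥ := by
  by_contra hne
  obtain ⟨N', hN'⟩ : ∃ N' : Subgroup (Equiv.Perm (Fin 6)),
      N' = (N.subgroupOf M).map e.toMonoidHom := ⟨_, rfl⟩
  haveI hn1 : (N.subgroupOf M).Normal := by
    constructor
    intro n hn k
    rw [Subgroup.mem_subgroupOf] at hn ⊢
    exact hnorm k.1 k.2 n.1 hn
  haveI : N'.Normal := by
    rw [hN']
    exact Subgroup.Normal.map hn1 e.toMonoidHom e.surjective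
  have hcard : Nat.card ↥N' = Nat.card ↥N := by
    rw [hN']
    rw [← Nat.card_congr ((N.subgroupOf M).equivMapOfInjective e.toMonoidHom e.injective).toEquiv]
    exact Nat.card_congr (Subgroup.subgroupOfEquivOfLe hNM).toEquiv
  have hN'ne : N' ≠ ⊥ := by
    intro h0
    apply hne
    have h1 : Nat.card ↥N' = 1 := by rw [h0, Subgroup.card_bot]
    rw [hcard] at h1
    exact Subgroup.card_eq_one.mp h1
  have h1 := perm6_dvd N' hN'ne
  rw [hcard] at h1
  have h2 : p ∣ Nat.gcd (Nat.card ↥N) p := Nat.dvd_gcd (hp.trans h1) dvd_rfl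
  rw [hcop.gcd_eq_one, Nat.dvd_one] at h2
  exact hp1 h2

end Cfsg.Agent.Lib.Helper6.LocalBal
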