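import Mathlib
import Cfsg.Agent.Lib.Helper6.FFour
import Cfsg.Agent.Lib.Helper23.Dedekind
import Cfsg.Agent.S0282

/-!
# The structure of `PSU_3(2)`

`PSU_3(2)` has a normal elementary abelian subgroup of order `9` with quotient the quaternion group
of order `8`.  All computations are done with explicit matrices over the concrete field `K4`.
-/

set_option autoImplicit false
set_option linter.style.haveILetI false
set_option linter.unusedSimpArgs false
set_option linter.unusedSectionVars false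

namespace Cfsg.Agent.Lib.Helper6.SUThreeTwo

open Matrix Cfsg Cfsg.Agent.Lib.Helper6.FFour
open K4

/-- the clock matrix `diag(1, ω, ω²)` -/
def mD : Matrix (Fin 3) (Fin 3) K4 := !![i,o,o; o,w,o; o,o,v]
/-- the shift matrix -/
def mC : Matrix (Fin 3) (Fin 3) K4 := !![o,i,o; o,o,i; i,o,o]
/-- the scalar `ω` -/
def mZ : Matrix (Fin 3) (Fin 3) K4 := !![w,o,o; o,w,o; o,o,w]
/-- the Fourier matrix -/
def mPhi : Matrix (Fin 3) (Fin 3) K4 := !![i,i,i; i,w,v; i,v,w]
/-- a second element of order four -/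
def mX : Matrix (Fin 3) (Fin 3) K4 := !![i,w,w; v,w,v; v,v,w]

theorem det_mD : mD.det = 1 := by rw [Matrix.det_fin_three]; decide
theorem det_mC : mC.det = 1 := by rw [Matrix.det_fin_three]; decide
theorem det_mZ : mZ.det = 1 := by rw [Matrix.det_fin_three]; decide
theorem det_mPhi : mPhi.det = 1 := by rw [Matrix.det_fin_three]; decide
theorem det_mX : mX.det = 1 := by rw [Matrix.det_fin_three]; decide
theorem u_mD : mDᵀ * frob mD = 1 := by decide
theorem u_mC : mCᵀ * frob mC = 1 := by decide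
theorem u_mZ : mZᵀ * frob mZ = 1 := by decide
theorem u_mPhi : mPhiᵀ * frob mPhi = 1 := by decide
theorem u_mX : mXᵀ * frob mX = 1 := by decide

section
variable {F : Type*} [Field F] [Fintype F] (hF : Fintype.card F = 2 ^ 2) (φ : K4 →+* F)

/-- elements of `SU_3(2)` -/
def gD : ↥(Cfsg.SU 3 F 2) := emb hF φ mD det_mD u_mD
def gC : ↥(Cfsg.SU 3 F 2) := emb hF φ mC det_mC u_mC
def gZ : ↥(Cfsg.SU 3 F 2) := emb hF φ mZ det_mZ u_mZ
def gPhi : ↥(Cfsg.SU 3 F 2) := emb hF φ mPhi det_mPhi u_mPhi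
def gX : ↥(Cfsg.SU 3 F 2) := emb hF φ mX det_mX u_mX

theorem gD_pow : gD hF φ * gD hF φ * gD hF φ = 1 := by
  apply mat_injective
  simp only [mat_mul, gD, mat_emb, ← mapF_mul, mat_one]
  rw [← mapF_one φ]
  exact congrArg (mapF φ) (by decide)

theorem gC_pow : gC hF φ * gC hF φ * gC hF φ = 1 := by
  apply mat_injective
  simp only [mat_mul, gC, mat_emb, ← mapF_mul, mat_one]
  rw [← mapF_one φ]
  exact congrArg (mapF φ) (by decide)

theorem gC_gD : gC hF φ * gD hF φ = gZ hF φ * (gD hF φ * gC hF φ) := by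
  apply mat_injective
  simp only [mat_mul, gC, gD, gZ, mat_emb, ← mapF_mul]
  exact congrArg (mapF φ) (by decide)

theorem gC_gD_ne : gC hF φ * gD hF φ ≠ gD hF φ * gC hF φ := by
  intro h
  have h1 := congrArg mat h
  simp only [mat_mul, gC, gD, mat_emb, ← mapF_mul] at h1
  have h2 := mapF_injective φ h1
  revert h2
  decide

theorem gPhi_gD : gPhi hF φ * gD hF φ = gC hF φ * gPhi hF φ := by
  apply mat_injective
  simp only [mat_mul, gC, gD, gPhi, mat_emb, ← mapF_mul]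
  exact congrArg (mapF φ) (by decide)

theorem gPhi_gC : gPhi hF φ * gC hF φ = gD hF φ * gD hF φ * gPhi hF φ := by
  apply mat_injective
  simp only [mat_mul, gC, gD, gPhi, mat_emb, ← mapF_mul]
  exact congrArg (mapF φ) (by decide)

theorem gX_gD : gX hF φ * gD hF φ = gZ hF φ * (gD hF φ * gD hF φ * gC hF φ * gX hF φ) := by
  apply mat_injective
  simp only [mat_mul, gC, gD, gX, gZ, mat_emb, ← mapF_mul]
  exact congrArg (mapF φ) (by decide)

theorem gX_gC : gX hF φ * gC hF φ =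
    gZ hF φ * gZ hF φ * (gD hF φ * gC hF φ * gX hF φ) := by
  apply mat_injective
  simp only [mat_mul, gC, gD, gX, gZ, mat_emb, ← mapF_mul]
  exact congrArg (mapF φ) (by decide)

theorem gPhi_four : gPhi hF φ * gPhi hF φ * (gPhi hF φ * gPhi hF φ) = 1 := by
  apply mat_injective
  simp only [mat_mul, gPhi, mat_emb, ← mapF_mul, mat_one]
  rw [← mapF_one φ]
  exact congrArg (mapF φ) (by decide)

theorem gX_sq : gX hF φ * gX hF φ = gPhi hF φ * gPhi hF φ := by
  apply mat_injective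
  simp only [mat_mul, gPhi, gX, mat_emb, ← mapF_mul]
  exact congrArg (mapF φ) (by decide)

theorem gPhi_gX_gPhi : gPhi hF φ * gX hF φ * gPhi hF φ = gX hF φ := by
  apply mat_injective
  simp only [mat_mul, gPhi, gX, mat_emb, ← mapF_mul]
  exact congrArg (mapF φ) (by decide)

/-- `Φ²` does not commute with `D` -/
theorem gPhi_sq_gD_ne :
    gPhi hF φ * gPhi hF φ * gD hF φ ≠ gD hF φ * (gPhi hF φ * gPhi hF φ) := by
  intro h
  have h1 := congrArg mat h
  simp only [mat_mul, gPhi, gD, mat_emb, ← mapF_mul] at h1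
  have h2 := mapF_injective φ h1
  revert h2
  decide

theorem gZ_mem_center : gZ hF φ ∈ Subgroup.center ↥(Cfsg.SU 3 F 2) := by
  rw [Subgroup.mem_center_iff]
  intro g
  apply mat_injective
  rw [mat_mul, mat_mul]
  have h1 : mat (gZ hF φ) = (φ w) • (1 : Matrix (Fin 3) (Fin 3) F) := by
    rw [gZ, mat_emb]
    ext a b
    fin_cases a <;> fin_cases b <;> simp [mapF, mZ] <;> rfl
  rw [h1, Matrix.smul_mul, Matrix.mul_smul, Matrix.one_mul, Matrix.mul_one]

/-- the projection to `PSU_3(2)` -/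
def pr : ↥(Cfsg.SU 3 F 2) →* Cfsg.PSU 3 F 2 := QuotientGroup.mk' _

theorem pr_eq_one_iff (g : ↥(Cfsg.SU 3 F 2)) :
    pr g = 1 ↔ g ∈ Subgroup.center ↥(Cfsg.SU 3 F 2) := QuotientGroup.eq_one_iff g

theorem pr_gZ : pr (gZ hF φ) = 1 := (pr_eq_one_iff _).mpr (gZ_mem_center hF φ)

/-- images in `PSU_3(2)` -/
def d : Cfsg.PSU 3 F 2 := pr (gD hF φ)
def c : Cfsg.PSU 3 F 2 := pr (gC hF φ)
def f : Cfsg.PSU 3 F 2 := pr (gPhi hF φ)
def x : Cfsg.PSU 3 F 2 := pr (gX hF φ)

theorem d_pow : d hF φ ^ 3 = 1 := by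
  rw [d, ← map_pow, pow_succ, pow_two, gD_pow, map_one]

theorem c_pow : c hF φ ^ 3 = 1 := by
  rw [c, ← map_pow, pow_succ, pow_two, gC_pow, map_one]

theorem c_d : c hF φ * d hF φ = d hF φ * c hF φ := by
  rw [c, d, ← map_mul, gC_gD, map_mul, pr_gZ, one_mul, map_mul]

theorem f_d : f hF φ * d hF φ = c hF φ * f hF φ := by
  rw [f, d, c, ← map_mul, gPhi_gD, map_mul]

theorem f_c : f hF φ * c hF φ = d hF φ ^ 2 * f hF φ := by
  rw [f, d, c, ← map_mul, gPhi_gC, map_mul, map_mul, pow_two]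

theorem x_d : x hF φ * d hF φ = d hF φ ^ 2 * c hF φ * x hF φ := by
  rw [x, d, c, ← map_mul, gX_gD, map_mul, pr_gZ, one_mul, map_mul, map_mul, map_mul, pow_two]

theorem x_c : x hF φ * c hF φ = d hF φ * c hF φ * x hF φ := by
  rw [x, d, c, ← map_mul, gX_gC, map_mul, map_mul, pr_gZ, one_mul, one_mul, map_mul, map_mul]

theorem f_four : f hF φ ^ (2 * 2) = 1 := by
  rw [f, ← map_pow, pow_mul, pow_two, pow_two, gPhi_four, map_one]

theorem x_sq : x hF φ ^ 2 = f hF φ ^ 2 := by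
  rw [x, f, ← map_pow, ← map_pow, pow_two, pow_two, gX_sq]

theorem f_x_f : f hF φ * x hF φ * f hF φ = x hF φ := by
  rw [x, f, ← map_mul, ← map_mul, gPhi_gX_gPhi]

theorem x_f_x : x hF φ * f hF φ * (x hF φ)⁻¹ = (f hF φ)⁻¹ := by
  have h := f_x_f hF φ
  calc x hF φ * f hF φ * (x hF φ)⁻¹
      = (f hF φ)⁻¹ * (f hF φ * x hF φ * f hF φ) * (x hF φ)⁻¹ := by group
    _ = (f hF φ)⁻¹ := by rw [h]; group

theorem f_sq_ne : f hF φ ^ 2 ≠ 1 := by
  intro h
  rw [f, ← map_pow, pr_eq_one_iff, Subgroup.mem_center_iff] at h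
  have h1 := h (gD hF φ)
  rw [pow_two] at h1
  exact gPhi_sq_gD_ne hF φ h1.symm

/-- no element `c * (power of d)` is trivial -/
theorem c_not_mem : c hF φ ∉ Subgroup.zpowers (d hF φ) := by
  intro h
  obtain ⟨k, hk⟩ := Subgroup.mem_zpowers_iff.mp h
  rw [c, d, ← map_zpow] at hk
  have h1 : pr ((gD hF φ ^ k)⁻¹ * gC hF φ) = 1 := by
    rw [map_mul, map_inv, hk, inv_mul_cancel]
  rw [pr_eq_one_iff, Subgroup.mem_center_iff] at h1
  have h2 := h1 (gD hF φ)
  apply gC_gD_ne hF φ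
  have h3 : Commute (gD hF φ) (gD hF φ ^ k)⁻¹ := ((Commute.refl _).zpow_right k).inv_right
  calc gC hF φ * gD hF φ
      = (gD hF φ ^ k) * ((gD hF φ ^ k)⁻¹ * gC hF φ * gD hF φ) := by group
    _ = (gD hF φ ^ k) * (gD hF φ * ((gD hF φ ^ k)⁻¹ * gC hF φ)) := by rw [h2]
    _ = (gD hF φ ^ k) * ((gD hF φ ^ k)⁻¹ * gD hF φ * gC hF φ) := by
        rw [← mul_assoc (gD hF φ), h3.eq]
    _ = gD hF φ * gC hF φ := by group

theorem d_ne_one : d hF φ ≠ 1 := by
  intro h
  rw [d, pr_eq_one_iff, Subgroup.mem_center_iff] at h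
  exact gC_gD_ne hF φ (h (gC hF φ))

/-- the normal subgroup of order nine -/
def NN : Subgroup (Cfsg.PSU 3 F 2) := Subgroup.closure {d hF φ, c hF φ}

theorem d_mem : d hF φ ∈ NN hF φ := Subgroup.subset_closure (by simp)
theorem c_mem : c hF φ ∈ NN hF φ := Subgroup.subset_closure (by simp)

theorem exists_of_mem (y : Cfsg.PSU 3 F 2) (hy : y ∈ NN hF φ) :
    ∃ a b : ℕ, y = d hF φ ^ a * c hF φ ^ b := by
  have hcd : Commute (c hF φ) (d hF φ) := c_d hF φ
  have key : ∀ y ∈ Subgroup.closure {d hF φ, c hF φ},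
      ∃ a b : ℕ, y = d hF φ ^ a * c hF φ ^ b := by
    intro y hy
    induction hy using Subgroup.closure_induction with
    | mem y hy =>
      rcases hy with rfl | rfl
      · exact ⟨1, 0, by simp⟩
      · exact ⟨0, 1, by simp⟩
    | one => exact ⟨0, 0, by simp⟩
    | mul y z _ _ hy hz =>
      obtain ⟨a, b, rfl⟩ := hy
      obtain ⟨a', b', rfl⟩ := hz
      refine ⟨a + a', b + b', ?_⟩
      have h1 : Commute (c hF φ ^ b) (d hF φ ^ a') := hcd.pow_pow b a'
      calc d hF φ ^ a * c hF φ ^ b * (d hF φ ^ a' * c hF φ ^ b')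
          = d hF φ ^ a * (c hF φ ^ b * d hF φ ^ a') * c hF φ ^ b' := by group
        _ = d hF φ ^ a * (d hF φ ^ a' * c hF φ ^ b) * c hF φ ^ b' := by rw [h1.eq]
        _ = d hF φ ^ (a + a') * c hF φ ^ (b + b') := by rw [pow_add, pow_add]; group
    | inv y _ hy =>
      obtain ⟨a, b, rfl⟩ := hy
      refine ⟨2 * a, 2 * b, ?_⟩
      have h1 : Commute (c hF φ ^ b) (d hF φ ^ a) := hcd.pow_pow b a
      have hd : (d hF φ ^ a)⁻¹ = d hF φ ^ (2 * a) := by
        apply inv_eq_of_mul_eq_one_right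
        rw [← pow_add, show a + 2 * a = 3 * a by ring, pow_mul, d_pow, one_pow]
      have hc : (c hF φ ^ b)⁻¹ = c hF φ ^ (2 * b) := by
        apply inv_eq_of_mul_eq_one_right
        rw [← pow_add, show b + 2 * b = 3 * b by ring, pow_mul, c_pow, one_pow]
      rw [_root_.mul_inv_rev, h1.inv_inv.eq, hd, hc]
  exact key y hy

theorem pow_three_of_mem (y : Cfsg.PSU 3 F 2) (hy : y ∈ NN hF φ) : y ^ 3 = 1 := by
  obtain ⟨a, b, rfl⟩ := exists_of_mem hF φ y hy
  have hcd0 : Commute (c hF φ) (d hF φ) := c_d hF φ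
  have hcd : Commute (d hF φ ^ a) (c hF φ ^ b) := (hcd0.pow_pow b a).symm
  rw [hcd.mul_pow, ← pow_mul, ← pow_mul, mul_comm a, mul_comm b, pow_mul, pow_mul, d_pow, c_pow,
    one_pow, one_pow, one_mul]

theorem conj_mem (g : Cfsg.PSU 3 F 2) (hd : g * d hF φ * g⁻¹ ∈ NN hF φ)
    (hc : g * c hF φ * g⁻¹ ∈ NN hF φ) (y : Cfsg.PSU 3 F 2) (hy : y ∈ NN hF φ) :
    g * y * g⁻¹ ∈ NN hF φ := by
  obtain ⟨a, b, rfl⟩ := exists_of_mem hF φ y hy
  have h1 : g * (d hF φ ^ a * c hF φ ^ b) * g⁻¹ =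
      (g * d hF φ * g⁻¹) ^ a * (g * c hF φ * g⁻¹) ^ b := by
    rw [conj_pow, conj_pow]; group
  rw [h1]
  exact Subgroup.mul_mem _ (Subgroup.pow_mem _ hd a) (Subgroup.pow_mem _ hc b)

theorem f_conj_mem (y : Cfsg.PSU 3 F 2) (hy : y ∈ NN hF φ) :
    f hF φ * y * (f hF φ)⁻¹ ∈ NN hF φ := by
  apply conj_mem hF φ _ _ _ y hy
  · rw [f_d, mul_inv_cancel_right]; exact c_mem hF φ
  · rw [f_c, mul_inv_cancel_right]; exact Subgroup.pow_mem _ (d_mem hF φ) 2

theorem x_conj_mem (y : Cfsg.PSU 3 F 2) (hy : y ∈ NN hF φ) :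
    x hF φ * y * (x hF φ)⁻¹ ∈ NN hF φ := by
  apply conj_mem hF φ _ _ _ y hy
  · rw [x_d, mul_inv_cancel_right]
    exact Subgroup.mul_mem _ (Subgroup.pow_mem _ (d_mem hF φ) 2) (c_mem hF φ)
  · rw [x_c, mul_inv_cancel_right]
    exact Subgroup.mul_mem _ (d_mem hF φ) (c_mem hF φ)

end

section main
variable {F : Type*} [Field F] [Fintype F]

open Cfsg.Agent.Lib.Helper23.Dedekind

theorem q8_pow_four (q : QuaternionGroup 2) : q ^ 4 = 1 := by
  revert q
  decide

/-- **`PSU_3(2) ≅ 3² : Q_8`.** -/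
theorem psu_three_two (hF4 : Fintype.card F = 4) :
    ∃ (N : Subgroup (Cfsg.PSU 3 F 2)) (_ : N.Normal), Nat.card N = 9 ∧ (∀ x ∈ N, x ^ 3 = 1) ∧
      Nonempty (Cfsg.PSU 3 F 2 ⧸ N ≃* QuaternionGroup 2) := by
  classical
  have hF : Fintype.card F = 2 ^ 2 := by rw [hF4]; norm_num
  have h2 := two_eq_zero hF4
  obtain ⟨ω, hω⟩ := exists_omega hF4
  obtain ⟨φ, -⟩ : ∃ φ : K4 →+* F, φ = toF ω hω h2 := ⟨_, rfl⟩
  have hG : Nat.card (Cfsg.PSU 3 F 2) = 72 := (Cfsg.Agent.S0282.result hF4).1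
  haveI : Finite (Cfsg.PSU 3 F 2) := Nat.finite_of_card_ne_zero (by rw [hG]; norm_num)
  obtain ⟨N, hN⟩ : ∃ N : Subgroup (Cfsg.PSU 3 F 2), N = NN hF φ := ⟨_, rfl⟩
  have hexp : ∀ y ∈ N, y ^ 3 = 1 := by
    intro y hy
    rw [hN] at hy
    exact pow_three_of_mem hF φ y hy
  -- the order of `N`
  have hcard : Nat.card N = 9 := by
    have hp : IsPGroup 3 N := by
      intro g
      refine ⟨1, ?_⟩
      apply Subtype.ext
      rw [pow_one, Subgroup.coe_pow, Subgroup.coe_one]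
      exact hexp g g.2
    haveI : Fact (Nat.Prime 3) := ⟨Nat.prime_three⟩
    obtain ⟨k, hk⟩ := IsPGroup.iff_card.mp hp
    have hdvd : Nat.card N ∣ 72 := hG ▸ Subgroup.card_subgroup_dvd_card N
    have hk2 : k ≤ 2 := by
      by_contra hcon
      have h3 : 3 ≤ k := by omega
      have h27 : 3 ^ 3 ∣ Nat.card N := by rw [hk]; exact pow_dvd_pow 3 h3
      have := dvd_trans h27 hdvd
      norm_num at this
    have hgt : 3 < Nat.card N := by
      by_contra hcon
      have hle : Nat.card N ≤ 3 := by omega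
      have ho : orderOf (d hF φ) = 3 := orderOf_eq_prime (d_pow hF φ) (d_ne_one hF φ)
      have hz : Nat.card (Subgroup.zpowers (d hF φ)) = 3 := by rw [Nat.card_zpowers, ho]
      have hzle : Subgroup.zpowers (d hF φ) ≤ N := by
        rw [Subgroup.zpowers_le, hN]; exact d_mem hF φ
      have heq : Subgroup.zpowers (d hF φ) = N :=
        Subgroup.eq_of_le_of_card_ge hzle (by rw [hz]; exact hle)
      apply c_not_mem hF φ
      rw [heq, hN]
      exact c_mem hF φ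
    have hk2' : 2 ≤ k := by
      by_contra hcon
      have : k ≤ 1 := by omega
      have h3 : 3 ^ k ≤ 3 ^ 1 := Nat.pow_le_pow_right (by norm_num) this
      omega
    have : k = 2 := by omega
    rw [hk, this]; norm_num
  -- the quaternion subgroup
  obtain ⟨ψ, hψ⟩ : ∃ ψ : QuaternionGroup 2 →* Cfsg.PSU 3 F 2,
      ψ = quatHom (f_four hF φ) (x_sq hF φ) (x_f_x hF φ) := ⟨_, rfl⟩
  have hψinj : Function.Injective ψ := by
    rw [hψ]
    exact quatHom_injective (f_four hF φ) (f_sq_ne hF φ) (x_sq hF φ) (x_f_x hF φ)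
  have hrange : Nat.card ψ.range = 8 := by
    have e : QuaternionGroup 2 ≃ ψ.range := (MonoidHom.ofInjective hψinj).toEquiv
    rw [← Nat.card_congr e, Nat.card_eq_fintype_card, QuaternionGroup.card]
  -- the normaliser is everything
  have hTN : N ≤ Subgroup.normalizer (N : Set (Cfsg.PSU 3 F 2)) := Subgroup.le_normalizer
  have hf : f hF φ ∈ Subgroup.normalizer (N : Set (Cfsg.PSU 3 F 2)) := by
    apply Subgroup.mem_normalizer_fintype
    intro n hn
    rw [SetLike.mem_coe, hN] at hn ⊢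
    exact f_conj_mem hF φ n hn
  have hx : x hF φ ∈ Subgroup.normalizer (N : Set (Cfsg.PSU 3 F 2)) := by
    apply Subgroup.mem_normalizer_fintype
    intro n hn
    rw [SetLike.mem_coe, hN] at hn ⊢
    exact x_conj_mem hF φ n hn
  have hTQ : ψ.range ≤ Subgroup.normalizer (N : Set (Cfsg.PSU 3 F 2)) := by
    intro y hy
    rw [hψ] at hy
    obtain ⟨k, rfl | rfl⟩ := mem_range_quatHom _ _ _ y hy
    · exact Subgroup.pow_mem _ hf k
    · exact Subgroup.mul_mem _ hx (Subgroup.pow_mem _ hf k)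
  have hTtop : Subgroup.normalizer (N : Set (Cfsg.PSU 3 F 2)) = ⊤ := by
    apply Subgroup.eq_top_of_card_eq
    have h9 : 9 ∣ Nat.card (Subgroup.normalizer (N : Set (Cfsg.PSU 3 F 2))) :=
      hcard ▸ Subgroup.card_dvd_of_le hTN
    have h8 : 8 ∣ Nat.card (Subgroup.normalizer (N : Set (Cfsg.PSU 3 F 2))) :=
      hrange ▸ Subgroup.card_dvd_of_le hTQ
    have h72 : 72 ∣ Nat.card (Subgroup.normalizer (N : Set (Cfsg.PSU 3 F 2))) :=
      Nat.Coprime.mul_dvd_of_dvd_of_dvd (by norm_num : Nat.Coprime 9 8) h9 h8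
    have hdvd : Nat.card (Subgroup.normalizer (N : Set (Cfsg.PSU 3 F 2))) ∣ 72 :=
      hG ▸ Subgroup.card_subgroup_dvd_card _
    rw [hG]
    exact Nat.dvd_antisymm hdvd h72
  have hnormal : N.Normal := Subgroup.normalizer_eq_top_iff.mp hTtop
  refine ⟨N, hnormal, hcard, hexp, ?_⟩
  -- the quotient
  have hq : Nat.card (Cfsg.PSU 3 F 2 ⧸ N) = 8 := by
    have h1 := Subgroup.card_eq_card_quotient_mul_card_subgroup N
    rw [hG, hcard] at h1
    omega
  obtain ⟨Ψ, hΨ⟩ : ∃ Ψ : QuaternionGroup 2 →* Cfsg.PSU 3 F 2 ⧸ N,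
      Ψ = (QuotientGroup.mk' N).comp ψ := ⟨_, rfl⟩
  have hΨinj : Function.Injective Ψ := by
    rw [injective_iff_map_eq_one]
    intro q hq1
    rw [hΨ, MonoidHom.comp_apply, QuotientGroup.mk'_apply, QuotientGroup.eq_one_iff] at hq1
    have h3 := hexp _ hq1
    have h4 : ψ q ^ 4 = 1 := by rw [← map_pow, q8_pow_four, map_one]
    have h1 : ψ q = 1 := by
      calc ψ q = ψ q ^ 4 * (ψ q ^ 3)⁻¹ := by group
        _ = 1 := by rw [h3, h4]; group
    exact (injective_iff_map_eq_one ψ).mp hψinj q h1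
  have hbij : Function.Bijective Ψ := by
    haveI : Finite (Cfsg.PSU 3 F 2 ⧸ N) := Nat.finite_of_card_ne_zero (by rw [hq]; norm_num)
    apply Function.Injective.bijective_of_nat_card_le hΨinj
    rw [hq, Nat.card_eq_fintype_card, QuaternionGroup.card]
  exact ⟨(MulEquiv.ofBijective Ψ hbij).symm⟩

end main

end Cfsg.Agent.Lib.Helper6.SUThreeTwo
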