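import Mathlib
import Cfsg.Agent.Lib.Helper6.OmegaList

/-!
# Orthogonal sums of quadratic forms on `F^ι ⊕ F^τ`
-/

set_option autoImplicit false
open Cfsg

namespace Cfsg.Agent.Lib.Helper6

open Matrix Cfsg.Agent.Lib.Helper14

section
variable {F : Type*} [Field F] {ι τ : Type} [Fintype ι] [DecidableEq ι] [Fintype τ] [DecidableEq τ]
  (Q₁ : QuadraticForm F (ι → F)) (Q₂ : QuadraticForm F (τ → F))

/-- the orthogonal sum, as a quadratic form on `F^(ι ⊕ τ)` -/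
def Qsum : QuadraticForm F (ι ⊕ τ → F) :=
  Q₁.comp (LinearMap.funLeft F F Sum.inl) + Q₂.comp (LinearMap.funLeft F F Sum.inr)

theorem Qsum_coe : ⇑(Qsum Q₁ Q₂) = fun v : ι ⊕ τ → F => Q₁ (v ∘ Sum.inl) + Q₂ (v ∘ Sum.inr) := rfl

theorem Qsum_apply (v : ι ⊕ τ → F) : Qsum Q₁ Q₂ v = Q₁ (v ∘ Sum.inl) + Q₂ (v ∘ Sum.inr) := rfl

theorem polar_Qsum (x y : ι ⊕ τ → F) :
    QuadraticMap.polar ⇑(Qsum Q₁ Q₂) x y =
      QuadraticMap.polar ⇑Q₁ (x ∘ Sum.inl) (y ∘ Sum.inl) +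
        QuadraticMap.polar ⇑Q₂ (x ∘ Sum.inr) (y ∘ Sum.inr) := by
  unfold QuadraticMap.polar
  rw [Qsum_apply, Qsum_apply, Qsum_apply]
  have h1 : (x + y) ∘ Sum.inl = x ∘ Sum.inl + y ∘ (Sum.inl : ι → ι ⊕ τ) := rfl
  have h2 : (x + y) ∘ Sum.inr = x ∘ Sum.inr + y ∘ (Sum.inr : τ → ι ⊕ τ) := rfl
  rw [h1, h2]
  ring

theorem nondegenerate_Qsum (h₁ : (QuadraticMap.polarBilin Q₁).Nondegenerate)
    (h₂ : (QuadraticMap.polarBilin Q₂).Nondegenerate) :
    (QuadraticMap.polarBilin (Qsum Q₁ Q₂)).Nondegenerate := by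
  have hleft : ∀ u : ι ⊕ τ → F, (∀ v, QuadraticMap.polar ⇑(Qsum Q₁ Q₂) u v = 0) → u = 0 := by
    intro u hu
    have e1 : u ∘ Sum.inl = 0 := by
      apply h₁.1
      intro y
      have := hu (Sum.elim y 0)
      rw [polar_Qsum] at this
      have hz : (Sum.elim y (0 : τ → F)) ∘ Sum.inr = 0 := rfl
      have hy : (Sum.elim y (0 : τ → F)) ∘ Sum.inl = y := rfl
      rw [hz, hy, QuadraticMap.polar_zero_right, add_zero] at this
      exact this
    have e2 : u ∘ Sum.inr = 0 := by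
      apply h₂.1
      intro y
      have := hu (Sum.elim 0 y)
      rw [polar_Qsum] at this
      have hz : (Sum.elim (0 : ι → F) y) ∘ Sum.inl = 0 := rfl
      have hy : (Sum.elim (0 : ι → F) y) ∘ Sum.inr = y := rfl
      rw [hz, hy, QuadraticMap.polar_zero_right, zero_add] at this
      exact this
    funext j
    rcases j with j | j
    · exact congrFun e1 j
    · exact congrFun e2 j
  constructor
  · intro u hu
    exact hleft u hu
  · intro u hu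
    apply hleft u
    intro v
    rw [QuadraticMap.polar_comm]
    exact hu v

/-- the reflection in a vector of the first summand -/
theorem refl_Qsum_inl (v : ι → F) :
    Cfsg.reflectionMatrix ⇑(Qsum Q₁ Q₂) (Sum.elim v 0) =
      fromBlocks (Cfsg.reflectionMatrix ⇑Q₁ v) 0 0 1 := by
  apply matrix_ext_mulVec
  intro x
  have hx : x = Sum.elim (x ∘ Sum.inl) (x ∘ Sum.inr) := by
    funext j; rcases j with j | j <;> rfl
  rw [reflectionMatrix_mulVec]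
  conv_rhs => rw [hx, fromBlocks_mulVec]
  rw [reflectionMatrix_mulVec, polar_Qsum, Qsum_apply]
  have hz : (Sum.elim v (0 : τ → F)) ∘ Sum.inr = 0 := rfl
  have hy : (Sum.elim v (0 : τ → F)) ∘ Sum.inl = v := rfl
  rw [hz, hy, QuadraticMap.polar_zero_left, add_zero, map_zero, add_zero]
  funext j
  rcases j with j | j
  · simp
  · simp

/-- the block embedding `O(Q₁) → O(Q₁ ⊕ Q₂)` -/
def sumHom : ↥(Cfsg.isometryGroup F ⇑Q₁) →* ↥(Cfsg.isometryGroup F ⇑(Qsum Q₁ Q₂)) :=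
  blockHom ⇑Q₁ ⇑Q₂ ⇑(Qsum Q₁ Q₂) (fun _ => rfl)

theorem sumHom_val (g : ↥(Cfsg.isometryGroup F ⇑Q₁)) :
    (((sumHom Q₁ Q₂ g).1 : GL (ι ⊕ τ) F) : Matrix (ι ⊕ τ) (ι ⊕ τ) F) =
      fromBlocks ((g.1 : GL ι F) : Matrix ι ι F) 0 0 1 := rfl

end

end Cfsg.Agent.Lib.Helper6
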