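import Mathlib
import Cfsg.Agent.Lib.Helper6.Spinor3

/-!
# Centralisers of `Ω` in orthogonal groups over finite fields of odd order

`central_scalar`: if the space has pairwise orthogonal vectors `p k` (`k : κ`, at least four) of norm `1`
and `b l` (`l : ν`, at least three, or none) of norm `-1`, then an isometry centralising `Ω` acts on all
of them by one and the same scalar.
-/

set_option autoImplicit false
open Cfsg

namespace Cfsg.Agent.Lib.Helper6

open Matrix Cfsg.Agent.Lib.Helper14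

section
variable {F : Type*} [Field F] [Fintype F] [DecidableEq F] {ι : Type} [Fintype ι] [DecidableEq ι]
  (Q : QuadraticForm F (ι → F))

/-- a product of two reflections with norms in the same square class lies in `Ω` -/
theorem exists_refl_pair_mem_Omega (h2 : (2 : F) ≠ 0)
    (hQ : (QuadraticMap.polarBilin Q).Nondegenerate) (hcard : 2 ≤ Fintype.card ι)
    (u v : ι → F) (s : F) (hs : s ≠ 0) (huv : Q u * Q v = s * s) :
    ∃ g : ↥(Cfsg.isometryGroup F ⇑Q), g ∈ Cfsg.Omega F ⇑Q ∧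
      ((g.1 : GL ι F) : Matrix ι ι F) =
        Cfsg.reflectionMatrix ⇑Q u * Cfsg.reflectionMatrix ⇑Q v := by
  have hne : Q u * Q v ≠ 0 := by rw [huv]; exact mul_ne_zero hs hs
  have hu : Q u ≠ 0 := left_ne_zero_of_mul hne
  have hv : Q v ≠ 0 := right_ne_zero_of_mul hne
  have hvs : ∀ x ∈ [u, v], Q x ≠ 0 := by
    intro x hx
    simp only [List.mem_cons, List.mem_nil_iff, or_false] at hx
    rcases hx with rfl | rfl
    · exact hu
    · exact hv
  obtain ⟨g, hg⟩ := exists_of_list' Q [u, v] hvs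
  refine ⟨g, ?_, by simpa using hg⟩
  rw [mem_Omega_iff_list' Q h2 hQ hcard g [u, v] hvs hg]
  refine ⟨⟨1, rfl⟩, s, ?_⟩
  simpa using huv

/-- an isometry centralising `Ω` preserves the line of `w`, if `w` has two orthogonal companions -/
theorem central_line (h2 : (2 : F) ≠ 0)
    (hQ : (QuadraticMap.polarBilin Q).Nondegenerate) (hcard : 2 ≤ Fintype.card ι)
    (z : ↥(Cfsg.isometryGroup F ⇑Q)) (hz : ∀ g ∈ Cfsg.Omega F ⇑Q, g * z = z * g)
    (w v v' : ι → F) (s s' : F) (hs : s ≠ 0) (hs' : s' ≠ 0) (h1 : Q w * Q v = s * s)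
    (h1' : Q w * Q v' = s' * s') (horth : QuadraticMap.polar ⇑Q w v = 0)
    (horth' : QuadraticMap.polar ⇑Q w v' = 0) (horth'' : QuadraticMap.polar ⇑Q v v' = 0) :
    ∃ c : F, ((z.1 : GL ι F) : Matrix ι ι F) *ᵥ w = c • w := by
  set Z : Matrix ι ι F := ((z.1 : GL ι F) : Matrix ι ι F) with hZ
  have hne : Q w * Q v ≠ 0 := by rw [h1]; exact mul_ne_zero hs hs
  have hne' : Q w * Q v' ≠ 0 := by rw [h1']; exact mul_ne_zero hs' hs'
  have hw : Q w ≠ 0 := left_ne_zero_of_mul hne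
  have hv : Q v ≠ 0 := right_ne_zero_of_mul hne
  have hv' : Q v' ≠ 0 := right_ne_zero_of_mul hne'
  -- general step
  have step : ∀ (x : ι → F) (t : F), t ≠ 0 → Q w * Q x = t * t → QuadraticMap.polar ⇑Q w x = 0 →
      ∃ a b : F, Z *ᵥ w = a • w + b • x := by
    intro x t ht hx hwx
    obtain ⟨g, hgmem, hg⟩ := exists_refl_pair_mem_Omega Q h2 hQ hcard w x t ht hx
    have hcomm := hz g hgmem
    have hcomm' : ((g.1 : GL ι F) : Matrix ι ι F) * Z = Z * ((g.1 : GL ι F) : Matrix ι ι F) := by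
      have := congrArg (fun y : ↥(Cfsg.isometryGroup F ⇑Q) => ((y.1 : GL ι F) : Matrix ι ι F)) hcomm
      exact this
    have hgw : ((g.1 : GL ι F) : Matrix ι ι F) *ᵥ w = -w := by
      have hxw : Cfsg.reflectionMatrix ⇑Q x *ᵥ w = w := by
        rw [reflectionMatrix_mulVec, QuadraticMap.polar_comm, hwx, mul_zero, zero_smul, sub_zero]
      rw [hg, ← Matrix.mulVec_mulVec, hxw, reflectionMatrix_mulVec, QuadraticMap.polar_self]
      have : (Q w)⁻¹ * (2 • Q w) = 2 := by
        rw [nsmul_eq_mul]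
        field_simp
        norm_num
      rw [this, two_smul]
      abel
    have h3 : ((g.1 : GL ι F) : Matrix ι ι F) *ᵥ (Z *ᵥ w) = -(Z *ᵥ w) := by
      rw [Matrix.mulVec_mulVec, hcomm', ← Matrix.mulVec_mulVec, hgw, Matrix.mulVec_neg]
    set y := Z *ᵥ w with hy
    rw [hg, ← Matrix.mulVec_mulVec, reflectionMatrix_mulVec, reflectionMatrix_mulVec,
      QuadraticMap.polar_sub_right, QuadraticMap.polar_smul_right, hwx, smul_eq_mul, mul_zero,
      sub_zero] at h3
    refine ⟨(Q w)⁻¹ * QuadraticMap.polar ⇑Q w y / 2, (Q x)⁻¹ * QuadraticMap.polar ⇑Q x y / 2, ?_⟩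
    have h4 : (2 : F) • y = ((Q w)⁻¹ * QuadraticMap.polar ⇑Q w y) • w +
        ((Q x)⁻¹ * QuadraticMap.polar ⇑Q x y) • x := by
      rw [two_smul]
      have h5 : y + y = y - -y := by abel
      rw [h5, ← h3]
      abel
    have h6 : y = (2 : F)⁻¹ • ((2 : F) • y) := by
      rw [smul_smul, inv_mul_cancel₀ h2, one_smul]
    calc y = (2 : F)⁻¹ • ((2 : F) • y) := h6
      _ = (2 : F)⁻¹ • (((Q w)⁻¹ * QuadraticMap.polar ⇑Q w y) • w +
        ((Q x)⁻¹ * QuadraticMap.polar ⇑Q x y) • x) := by rw [h4]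
      _ = _ := by
        rw [smul_add, smul_smul, smul_smul]
        congr 1 <;> congr 1 <;> ring
  obtain ⟨a, b, hab⟩ := step v s hs h1 horth
  obtain ⟨a', b', hab'⟩ := step v' s' hs' h1' horth'
  refine ⟨a, ?_⟩
  have h7 : a • w + b • v = a' • w + b' • v' := by rw [← hab, ← hab']
  have h8 := congrArg (fun y => QuadraticMap.polar ⇑Q v y) h7
  simp only [QuadraticMap.polar_add_right, QuadraticMap.polar_smul_right] at h8
  rw [QuadraticMap.polar_comm ⇑Q v w, horth, horth'', QuadraticMap.polar_self] at h8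
  simp only [smul_eq_mul, mul_zero, zero_add, add_zero, nsmul_eq_mul] at h8
  have hb : b = 0 := by
    have h9 : b * (2 * Q v) = 0 := by
      have : ((2 : ℕ) : F) = 2 := by norm_num
      rw [this] at h8
      exact h8
    rcases mul_eq_zero.mp h9 with h | h
    · exact h
    · exact absurd h (mul_ne_zero h2 hv)
  rw [hab, hb, zero_smul, add_zero]

theorem exists_notMem_of_card {κ : Type*} [Fintype κ] [DecidableEq κ] (s : Finset κ)
    (h : s.card < Fintype.card κ) : ∃ k, k ∉ s := by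
  by_contra hcon
  push Not at hcon
  have : s = Finset.univ := Finset.eq_univ_iff_forall.mpr hcon
  rw [this, Finset.card_univ] at h
  exact lt_irrefl _ h

/-- an isometry centralising `Ω` acts as a scalar on a family of `≥ 4` pairwise orthogonal vectors of
norm `1` -/
theorem central_scalar_p (h2 : (2 : F) ≠ 0)
    (hQ : (QuadraticMap.polarBilin Q).Nondegenerate) (hcard : 2 ≤ Fintype.card ι)
    (z : ↥(Cfsg.isometryGroup F ⇑Q)) (hz : ∀ g ∈ Cfsg.Omega F ⇑Q, g * z = z * g)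
    {κ : Type*} [Fintype κ] [DecidableEq κ] (p : κ → (ι → F)) (hQp : ∀ k, Q (p k) = 1)
    (hpp : ∀ k k', k ≠ k' → QuadraticMap.polar ⇑Q (p k) (p k') = 0)
    (hκ : 4 ≤ Fintype.card κ) :
    ∃ c : F, ∀ k, ((z.1 : GL ι F) : Matrix ι ι F) *ᵥ p k = c • p k := by
  set Z : Matrix ι ι F := ((z.1 : GL ι F) : Matrix ι ι F) with hZ
  have hself : ∀ k, QuadraticMap.polar ⇑Q (p k) (p k) = 2 := by
    intro k
    rw [QuadraticMap.polar_self, hQp, nsmul_eq_mul, mul_one]
    norm_num
  have h1 : ∀ k, ∃ c : F, Z *ᵥ p k = c • p k := by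
    intro k
    obtain ⟨k', hk'⟩ := exists_notMem_of_card ({k} : Finset κ) (by simp; omega)
    obtain ⟨k'', hk''⟩ := exists_notMem_of_card ({k, k'} : Finset κ)
      (lt_of_le_of_lt (Finset.card_insert_le _ _) (by simp; omega))
    simp only [Finset.mem_singleton, Finset.mem_insert, not_or] at hk' hk''
    exact central_line Q h2 hQ hcard z hz (p k) (p k') (p k'') 1 1 one_ne_zero one_ne_zero
      (by rw [hQp, hQp]) (by rw [hQp, hQp]) (hpp _ _ (Ne.symm hk'))
      (hpp _ _ (Ne.symm hk''.1)) (hpp _ _ (Ne.symm hk''.2))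
  choose c hc using h1
  have h3 : ∀ k k', k ≠ k' → c k = c k' := by
    intro k k' hkk'
    obtain ⟨k₃, hk₃⟩ := exists_notMem_of_card ({k, k'} : Finset κ)
      (lt_of_le_of_lt (Finset.card_insert_le _ _) (by simp; omega))
    obtain ⟨k₄, hk₄⟩ := exists_notMem_of_card ({k, k', k₃} : Finset κ)
      (lt_of_le_of_lt (Finset.card_insert_le _ _) (lt_of_le_of_lt
        (Nat.succ_le_succ (Finset.card_insert_le _ _)) (by simp; omega)))
    simp only [Finset.mem_singleton, Finset.mem_insert, not_or] at hk₃ hk₄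
    have e1 := hpp k k' hkk'
    have e1' := hpp k' k (Ne.symm hkk')
    have e2 := hpp k k₃ (Ne.symm hk₃.1)
    have e3 := hpp k k₄ (Ne.symm hk₄.1)
    have e4 := hpp k' k₃ (Ne.symm hk₃.2)
    have e5 := hpp k' k₄ (Ne.symm hk₄.2.1)
    have e6 := hpp k₃ k₄ (Ne.symm hk₄.2.2)
    obtain ⟨μ, hμ⟩ := central_line Q h2 hQ hcard z hz (p k + p k') (p k - p k') (p k₃ + p k₄) 2 2
      h2 h2
      (by rw [Q_add, Q_sub, hQp, hQp, e1]; ring)
      (by rw [Q_add, Q_add, hQp, hQp, hQp, hQp, e1, e6]; ring)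
      (by
        simp only [QuadraticMap.polar_add_left, QuadraticMap.polar_sub_right, hself, e1, e1']
        ring)
      (by
        simp only [QuadraticMap.polar_add_left, QuadraticMap.polar_add_right, e2, e3, e4, e5]
        ring)
      (by
        simp only [QuadraticMap.polar_sub_left, QuadraticMap.polar_add_right, e2, e3, e4, e5]
        ring)
    rw [Matrix.mulVec_add, hc, hc, smul_add] at hμ
    have h4 := congrArg (fun y => QuadraticMap.polar ⇑Q (p k) y) hμ
    have h5 := congrArg (fun y => QuadraticMap.polar ⇑Q (p k') y) hμ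
    simp only [QuadraticMap.polar_add_right, QuadraticMap.polar_smul_right, hself, e1, e1',
      smul_eq_mul, mul_zero, add_zero, zero_add] at h4 h5
    have h6 : c k = μ := mul_right_cancel₀ h2 h4
    have h7 : c k' = μ := mul_right_cancel₀ h2 h5
    rw [h6, h7]
  obtain ⟨k₀, -⟩ := exists_notMem_of_card (∅ : Finset κ) (by simp; omega)
  refine ⟨c k₀, fun k => ?_⟩
  by_cases hk : k = k₀
  · rw [hk]; exact hc k₀
  · rw [hc k, h3 k k₀ hk]

/-- ... and by the same scalar on a family of `≥ 3` pairwise orthogonal vectors of norm `-1` orthogonal to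
the first family -/
theorem central_scalar_b (h2 : (2 : F) ≠ 0)
    (hQ : (QuadraticMap.polarBilin Q).Nondegenerate) (hcard : 2 ≤ Fintype.card ι)
    (z : ↥(Cfsg.isometryGroup F ⇑Q)) (hz : ∀ g ∈ Cfsg.Omega F ⇑Q, g * z = z * g)
    {κ : Type*} [Fintype κ] [DecidableEq κ] (p : κ → (ι → F)) (hQp : ∀ k, Q (p k) = 1)
    (hpp : ∀ k k', k ≠ k' → QuadraticMap.polar ⇑Q (p k) (p k') = 0)
    (hκ : 4 ≤ Fintype.card κ)
    {ν : Type*} [Fintype ν] [DecidableEq ν] (b : ν → (ι → F)) (hQb : ∀ l, Q (b l) = -1)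
    (hbb : ∀ l l', l ≠ l' → QuadraticMap.polar ⇑Q (b l) (b l') = 0)
    (hpb : ∀ k l, QuadraticMap.polar ⇑Q (p k) (b l) = 0)
    (hν : 3 ≤ Fintype.card ν) (c : F)
    (hc : ∀ k, ((z.1 : GL ι F) : Matrix ι ι F) *ᵥ p k = c • p k) :
    ∀ l, ((z.1 : GL ι F) : Matrix ι ι F) *ᵥ b l = c • b l := by
  set Z : Matrix ι ι F := ((z.1 : GL ι F) : Matrix ι ι F) with hZ
  have hselfp : ∀ k, QuadraticMap.polar ⇑Q (p k) (p k) = 2 := by
    intro k
    rw [QuadraticMap.polar_self, hQp, nsmul_eq_mul, mul_one]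
    norm_num
  have hselfb : ∀ l, QuadraticMap.polar ⇑Q (b l) (b l) = -2 := by
    intro l
    rw [QuadraticMap.polar_self, hQb, nsmul_eq_mul]
    norm_num
  have hbp : ∀ k l, QuadraticMap.polar ⇑Q (b l) (p k) = 0 := by
    intro k l
    rw [QuadraticMap.polar_comm]
    exact hpb k l
  intro l
  obtain ⟨l', hl'⟩ := exists_notMem_of_card ({l} : Finset ν) (by simp; omega)
  obtain ⟨l'', hl''⟩ := exists_notMem_of_card ({l, l'} : Finset ν)
    (lt_of_le_of_lt (Finset.card_insert_le _ _) (by simp; omega))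
  simp only [Finset.mem_singleton, Finset.mem_insert, not_or] at hl' hl''
  obtain ⟨d, hd⟩ := central_line Q h2 hQ hcard z hz (b l) (b l') (b l'') 1 1 one_ne_zero one_ne_zero
    (by rw [hQb, hQb]; ring) (by rw [hQb, hQb]; ring) (hbb _ _ (Ne.symm hl'))
    (hbb _ _ (Ne.symm hl''.1)) (hbb _ _ (Ne.symm hl''.2))
  obtain ⟨k₁, -⟩ := exists_notMem_of_card (∅ : Finset κ) (by simp; omega)
  obtain ⟨k₂, hk₂⟩ := exists_notMem_of_card ({k₁} : Finset κ) (by simp; omega)
  obtain ⟨k₃, hk₃⟩ := exists_notMem_of_card ({k₁, k₂} : Finset κ)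
    (lt_of_le_of_lt (Finset.card_insert_le _ _) (by simp; omega))
  obtain ⟨k₄, hk₄⟩ := exists_notMem_of_card ({k₁, k₂, k₃} : Finset κ)
    (lt_of_le_of_lt (Finset.card_insert_le _ _) (lt_of_le_of_lt
      (Nat.succ_le_succ (Finset.card_insert_le _ _)) (by simp; omega)))
  simp only [Finset.mem_singleton, Finset.mem_insert, not_or] at hk₂ hk₃ hk₄
  have e12 := hpp k₁ k₂ (Ne.symm hk₂)
  have e21 := hpp k₂ k₁ hk₂
  have e13 := hpp k₁ k₃ (Ne.symm hk₃.1)
  have e14 := hpp k₁ k₄ (Ne.symm hk₄.1)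
  have e23 := hpp k₂ k₃ (Ne.symm hk₃.2)
  have e24 := hpp k₂ k₄ (Ne.symm hk₄.2.1)
  have e34 := hpp k₃ k₄ (Ne.symm hk₄.2.2)
  obtain ⟨μ, hμ⟩ := central_line Q h2 hQ hcard z hz (b l + p k₁ + p k₂) (p k₃) (p k₄) 1 1
    one_ne_zero one_ne_zero
    (by
      rw [Q_add, Q_add, hQp, hQp, hQp, hQb, hbp, QuadraticMap.polar_add_left, hbp, e12]
      ring)
    (by
      rw [Q_add, Q_add, hQp, hQp, hQp, hQb, hbp, QuadraticMap.polar_add_left, hbp, e12]
      ring)
    (by
      simp only [QuadraticMap.polar_add_left, hbp, e13, e23]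
      ring)
    (by
      simp only [QuadraticMap.polar_add_left, hbp, e14, e24]
      ring)
    e34
  rw [Matrix.mulVec_add, Matrix.mulVec_add, hd, hc, hc, smul_add, smul_add] at hμ
  have h4 := congrArg (fun y => QuadraticMap.polar ⇑Q (b l) y) hμ
  have h5 := congrArg (fun y => QuadraticMap.polar ⇑Q (p k₁) y) hμ
  simp only [QuadraticMap.polar_add_right, QuadraticMap.polar_smul_right, hselfp, hselfb, hbp, hpb,
    e12, smul_eq_mul, mul_zero, add_zero, zero_add] at h4 h5
  have h6 : d = μ := mul_right_cancel₀ (neg_ne_zero.mpr h2) h4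
  have h7 : c = μ := mul_right_cancel₀ h2 h5
  rw [hd, h6, h7]

end

end Cfsg.Agent.Lib.Helper6
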