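import Mathlib
import Cfsg.Agent.Lib.Helper6.LocalBalC
import Cfsg.Agent.S0292

/-!
# Local balance for field automorphisms of orthogonal groups, part D: the odd-dimensional case
-/

set_option autoImplicit false
set_option linter.unusedSectionVars false
set_option linter.unusedVariables false
set_option linter.style.haveILetI false

namespace Cfsg.Agent.Lib.Helper6.LocalBal

open Matrix Cfsg QuadraticMap Cfsg.Agent.Lib.Helper6 Cfsg.Agent.Lib.Helper6.AutOrt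
  Cfsg.Agent.Lib.Helper6.SimAut Cfsg.Agent.Lib.Helper6.AutInduced Cfsg.Agent.Lib.Helper6.OmegaAut
  Cfsg.Agent.Lib.Helper16.H90GL Cfsg.Agent.Lib.Helper16.OrthClassify
  Cfsg.Agent.Lib.Helper16.OrthDescent Cfsg.Agent.Lib.Helper16.FieldCosetOrth
  Cfsg.Agent.Lib.Helper16.FieldCosetOmegaOdd Cfsg.Agent.Lib.Helper16.SplitCount
  Cfsg.Agent.Lib.Helper16.FieldCentOrth Cfsg.Agent.Lib.Helper16.FieldCentOmegaOdd
  Cfsg.Agent.Lib.Helper16.UnitaryDescent

variable {F : Type*} [Field F] [Fintype F] {ι : Type} [Fintype ι] [DecidableEq ι]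

/-- transport with a prescribed image -/
theorem Good.map' {G : Type*} [Group G] {I : Subgroup G} {x : G} {p : ℕ} {M : Subgroup G}
    (h : Good I x p M) (e : G ≃* G) (heI : ∀ k, k ∈ I ↔ e k ∈ I) (y : G) (hy : e x = y) :
    Good I y p (M.map e.toMonoidHom) := by
  subst hy
  exact h.map e heI

/-- the automorphism of the field semisimilarity is the standard field automorphism -/
theorem isFieldAut_gam {Q : QuadraticForm F (ι → F)} [hS : Std Q] (σ : F ≃+* F) (Fσ : SemiSimO Q)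
    (hFS : ∀ x, Fσ.S x = fun i => σ (x i)) : Cfsg.IsFieldAutPOmegaOf (⇑Q) σ Fσ.gam := by
  intro s s' h
  change Fσ.gam (pu s) = pu s'
  apply Fσ.gam_eq_of
  intro y
  rw [hFS, hFS]
  change (((s'.1 : ↥(Cfsg.isometryGroup F ⇑Q)) : GL ι F) : Matrix ι ι F) *ᵥ _ =
    fun i => σ (((((s.1 : ↥(Cfsg.isometryGroup F ⇑Q)) : GL ι F) : Matrix ι ι F) *ᵥ y) i)
  rw [h, map_mulVec_apply']

/-- the order of `Ω_{2m+1}(q)` is even -/
theorem even_card_POmega_odd (hodd : Odd (Fintype.card F)) {m : ℕ} (hm : 3 ≤ m) :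
    2 ∣ Nat.card (Cfsg.POmega F ⇑(QOdd F m)) := by
  have h1 := Cfsg.Agent.S0292.result (F := F) rfl hodd m hm
  have hfun : Cfsg.quadFormOdd m F = ⇑(QOdd F m) := (funext (QOdd_apply F m)).symm
  rw [hfun] at h1
  obtain ⟨k, hk⟩ := hodd
  have h4 : 4 ∣ Fintype.card F ^ (2 * (0 + 1)) - 1 := by
    rw [hk]
    refine ⟨k * k + k, ?_⟩
    have : (2 * k + 1) ^ (2 * (0 + 1)) = 4 * (k * k + k) + 1 := by ring
    rw [this, Nat.add_sub_cancel]
  have h5 : Fintype.card F ^ (2 * (0 + 1)) - 1 ∣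
      ∏ i ∈ Finset.range m, (Fintype.card F ^ (2 * (i + 1)) - 1) :=
    Finset.dvd_prod_of_mem (fun i => Fintype.card F ^ (2 * (i + 1)) - 1)
      (Finset.mem_range.mpr (by omega))
  have h6 : 4 ∣ 2 * Nat.card (Cfsg.POmega F ⇑(QOdd F m)) := by
    rw [h1]
    exact Dvd.dvd.mul_left (h4.trans h5) _
  omega

/-- **local balance for non-inner-diagonal automorphisms of prime order of `Ω_{2m+1}(q)`** -/
theorem main {r : ℕ} [hr : Fact r.Prime] [hcr : CharP F r] (hodd : Odd (Fintype.card F)) {m : ℕ}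
    (hm : 3 ≤ m) (Qf : (Unit ⊕ (Fin m ⊕ Fin m) → F) → F) (hQf : Qf = ⇑(QOdd F m))
    (A : Subgroup (MulAut (Cfsg.POmega F Qf)))
    (hinn : ∀ k : Cfsg.POmega F Qf, MulAut.conj k ∈ A) {p : ℕ} [hpf : Fact p.Prime]
    (x : MulAut (Cfsg.POmega F Qf)) (hxA : x ∈ A) (hord : orderOf x = p)
    (hnot : ¬ Cfsg.IsSimilarityInducedAutPOmega Qf x) :
    Cfsg.pPrimeCore p ↥(A ⊓ Subgroup.centralizer {x}) ≠ ⊥ ↔
      (Cfsg.IsFieldAutClassPOmega Qf x ∧ Nat.Coprime p (Nat.card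
        ↥(MonoidHom.eqLocus x.toMonoidHom (MonoidHom.id (Cfsg.POmega F Qf))))) := by
  classical
  subst hQf
  have hp : p.Prime := hpf.out
  have h2 := two_ne_zero_of_odd hodd
  haveI := std_QOdd (F := F) h2 hm
  have hP := HP_QOdd (F := F) h2 hm
  have hoddι : Odd (Fintype.card (Unit ⊕ (Fin m ⊕ Fin m))) := by rw [card_II]; exact ⟨m, rfl⟩
  -- `x` is not in the image of the similarity group
  have hx1 : x ∉ Cfsg.pgoAut F ⇑(QOdd F m) := by
    intro h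
    rw [pgoAut_eq_range] at h
    obtain ⟨g, hg⟩ := h
    apply hnot
    refine ⟨g.1, g.2, ?_⟩
    rw [isInduced_iff, isInd_iff _ ⟨g.1, GO_le_normalizer (QOdd F m) g.2⟩, ← hg]
    exact fGO_apply (QOdd F m) g
  obtain ⟨τ, hτ⟩ : ∃ τ : RingAut F, τ = psiO r hP x := ⟨_, rfl⟩
  have hτ1 : τ ≠ 1 := by
    intro h
    apply hx1
    rw [← psiO_ker r hP, MonoidHom.mem_ker, ← hτ, h]
  have hτp : τ ^ p = 1 := by rw [hτ, ← map_pow, ← hord, pow_orderOf_eq_one, map_one]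
  obtain ⟨φ, hφ⟩ : ∃ φ, φ = (fieldOdd F m τ).gam := ⟨_, rfl⟩
  have hφfield : Cfsg.IsFieldAutPOmegaOf ⇑(QOdd F m) τ φ := by
    rw [hφ]
    exact isFieldAut_gam τ _ (fun _ => rfl)
  have hφclass : Cfsg.IsFieldAutClassPOmega ⇑(QOdd F m) φ :=
    ⟨1, φ, τ, hτ1, hφfield, by rw [inv_one, one_mul, mul_one]⟩
  have hψφ : psiO r hP φ = τ := by rw [hφ, psiO_gam]; rfl
  have hφord : orderOf φ = p := by
    have h1 : φ ^ p = 1 := by
      rw [hφ, ← fldHom_apply (fieldOdd F m) (fun σ x => rfl), ← map_pow, hτp, map_one]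
    rcases (Nat.dvd_prime hp).mp (orderOf_dvd_of_pow_eq_one h1) with h | h
    · exfalso
      apply hτ1
      rw [← hψφ, orderOf_eq_one_iff.mp h, map_one]
    · exact h
  have hδ : x * φ⁻¹ ∈ Cfsg.pgoAut F ⇑(QOdd F m) := by
    rw [← psiO_ker r hP, MonoidHom.mem_ker, map_mul, map_inv, hψφ, ← hτ, mul_inv_cancel]
  have hconj := (coset_odd hodd hm _ rfl φ (x * φ⁻¹) hφclass hp hφord hδ).mp (by
    rw [inv_mul_cancel_right]; exact hord)
  obtain ⟨h, hh, hxh⟩ := hconj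
  rw [inv_mul_cancel_right] at hxh
  have hxclass : Cfsg.IsFieldAutClassPOmega ⇑(QOdd F m) x :=
    ⟨h⁻¹, φ, τ, hτ1, hφfield, by rw [hxh, inv_inv]; group⟩
  -- the fixed field
  haveI : Fintype ↥(fixK τ) := Fintype.ofFinite _
  obtain ⟨j, hjdef⟩ : ∃ j : ↥(fixK τ) →+* F, j = (fixK τ).subtype := ⟨_, rfl⟩
  have hj : ∀ a : F, τ a = a ↔ a ∈ Set.range j := by
    intro a
    rw [hjdef]
    constructor
    · intro ha
      exact ⟨⟨a, ha⟩, rfl⟩
    · rintro ⟨b, rfl⟩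
      exact b.2
  haveI : CharP ↥(fixK τ) r := RingHom.charP j (RingHom.injective j) r
  have hodd₀ : Odd (Fintype.card ↥(fixK τ)) := by
    by_contra hne
    rw [Nat.not_odd_iff_even] at hne
    have h3 := FiniteField.even_card_iff_char_two.mpr (Nat.even_iff.mp hne)
    rw [ringChar.eq ↥(fixK τ) r] at h3
    apply h2
    have h4 : ((r : ℕ) : F) = 0 := CharP.cast_eq_zero F r
    rw [h3] at h4
    exact_mod_cast h4
  have h2₀ := two_ne_zero_of_odd hodd₀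
  haveI := std_QOdd (F := ↥(fixK τ)) h2₀ hm
  have hP₀ := HP_QOdd (F := ↥(fixK τ)) h2₀ hm
  have hjQ : ∀ v : Unit ⊕ (Fin m ⊕ Fin m) → ↥(fixK τ),
      QOdd F m (fun i => j (v i)) = j (QOdd ↥(fixK τ) m v) := by
    intro v
    rw [QOdd_apply, QOdd_apply]
    unfold Cfsg.quadFormOdd
    rw [map_add, map_pow, map_sum]
    congr 1
    apply Finset.sum_congr rfl
    intro i _
    rw [map_mul]
  obtain ⟨M, hM⟩ : ∃ M : Subgroup (MulAut (Cfsg.POmega F ⇑(QOdd F m))),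
      M = subM j (QOdd ↥(fixK τ) m) (QOdd F m) hjQ h2 := ⟨_, rfl⟩
  have hgood : Good (Cfsg.Inn (Cfsg.POmega F ⇑(QOdd F m))) φ p M := by
    rw [hφ, hM]
    exact good_fld j (QOdd ↥(fixK τ) m) (QOdd F m) hjQ r hP hP₀ h2 (fieldOdd F m)
      (fun σ x => rfl) (fun σ => rfl) (fieldOdd ↥(fixK τ) m) (fun σ x => rfl) (fun σ => rfl)
      (fun σ => rfl) τ hj hoddι p hp (even_card_POmega_odd hodd₀ hm)
  have heI : ∀ k, k ∈ Cfsg.Inn (Cfsg.POmega F ⇑(QOdd F m)) ↔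
      MulAut.conj h k ∈ Cfsg.Inn (Cfsg.POmega F ⇑(QOdd F m)) := by
    intro k
    rw [MulAut.conj_apply]
    constructor
    · intro hk
      exact (Cfsg.innNormal _).conj_mem k hk h
    · intro hk
      have := (Cfsg.innNormal _).conj_mem _ hk h⁻¹
      have e : h⁻¹ * (h * k * h⁻¹) * h⁻¹⁻¹ = k := by group
      rwa [e] at this
  have hgood' : Good (Cfsg.Inn (Cfsg.POmega F ⇑(QOdd F m))) x p
      (M.map (MulAut.conj h).toMonoidHom) := by
    have e : MulAut.conj h φ = x := hxh.symm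
    exact hgood.map' (MulAut.conj h) heI x e
  have hIA : Cfsg.Inn (Cfsg.POmega F ⇑(QOdd F m)) ≤ A := by
    rintro _ ⟨k, rfl⟩
    exact hinn k
  have hxp : x ^ p = 1 := by rw [← hord]; exact pow_orderOf_eq_one x
  rw [core_iff (Cfsg.Inn (Cfsg.POmega F ⇑(QOdd F m))) A hIA x hxA p hxp _ hgood',
    card_inn_cent (center_POmega (QOdd F m)) x]
  exact ⟨fun hc => ⟨hxclass, hc⟩, fun hc => hc.2⟩

end Cfsg.Agent.Lib.Helper6.LocalBal
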