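import Cfsg.Agent.Lib.Helper19.AutOrb.Defs

/-!
# S4068-[C2] (helper6): counting the elements of order `s`

Every element of order `s` is `Aut(G)`-conjugate to a non-identity central element of a Sylow
`s`-subgroup `P`, hence is a non-identity central element of some Sylow `s`-subgroup; there are
`[G : N(P)]` Sylow subgroups, each with `|Z(P)| - 1` such elements.
-/

set_option autoImplicit false

namespace Cfsg.Agent.Lib.Helper19.AutOrb

namespace Helper6

variable {G : Type*} [Group G]

theorem mem_aut_smul {s : ℕ} (ψ : MulAut G) (P : Sylow s G) (y : G) :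
    y ∈ (ψ • P : Sylow s G) ↔ ψ⁻¹ y ∈ P := by
  have h1 : y ∈ (ψ • P : Sylow s G) ↔ y ∈ ((ψ • P : Sylow s G) : Subgroup G) := Iff.rfl
  rw [h1, Sylow.pointwise_smul_def, Subgroup.mem_pointwise_smul_iff_inv_smul_mem]
  rfl

/-- The non-identity central elements of a subgroup, as elements of `G`. -/
def Zs (H : Subgroup G) : Set G := {x | x ≠ 1 ∧ x ∈ H ∧ ∀ y ∈ H, y * x = x * y}

/-- An element of order `s` in a Sylow `s`-subgroup... any non-identity element of a Sylow
`s`-subgroup has order `s` when all orders are prime. -/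
theorem orderOf_eq_of_mem_sylow (hpo : PrimeOrders G) {s : ℕ} [Fact s.Prime] (P : Sylow s G)
    {z : G} (hz : z ∈ P) (hz1 : z ≠ 1) : orderOf z = s := by
  obtain ⟨k, hk⟩ := P.isPGroup' ⟨z, hz⟩
  have hk' : z ^ (s ^ k) = 1 := by
    have := congrArg Subtype.val hk
    simpa using this
  have hdvd : orderOf z ∣ s ^ k := orderOf_dvd_of_pow_eq_one hk'
  have hprime := hpo z hz1
  have := (Nat.Prime.dvd_of_dvd_pow hprime hdvd)
  exact (Nat.prime_dvd_prime_iff_eq hprime (Fact.out : s.Prime)).1 this

/-- Every element of order `s` is a non-identity central element of some Sylow `s`-subgroup. -/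
theorem exists_sylow_center [Finite G] (hpo : PrimeOrders G) (hat : AutTrans G) {s : ℕ}
    [Fact s.Prime] (P : Sylow s G) (x : G) (hx : orderOf x = s) :
    ∃ ψ : MulAut G, ψ⁻¹ x ∈ Zs (P : Subgroup G) := by
  have hs : s ∣ Nat.card G := hx ▸ orderOf_dvd_natCard x
  have hPne : (P : Subgroup G) ≠ ⊥ := P.ne_bot_of_dvd_card hs
  have hnt : Nontrivial (P : Subgroup G) := (Subgroup.nontrivial_iff_ne_bot _).2 hPne
  have hcn : Nontrivial (Subgroup.center (P : Subgroup G)) :=
    IsPGroup.center_nontrivial P.isPGroup'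
  obtain ⟨z, hz⟩ := exists_ne (1 : Subgroup.center (P : Subgroup G))
  have hz0 : ((z : (P : Subgroup G)) : G) ≠ 1 := by
    intro h
    apply hz
    apply Subtype.ext
    apply Subtype.ext
    simpa using h
  have hzP : ((z : (P : Subgroup G)) : G) ∈ P := (z : (P : Subgroup G)).2
  have hzo : orderOf ((z : (P : Subgroup G)) : G) = s := orderOf_eq_of_mem_sylow hpo P hzP hz0
  obtain ⟨φ, hφ⟩ := hat ((z : (P : Subgroup G)) : G) x (by rw [hzo, hx])
  refine ⟨φ, ?_⟩
  have hx' : φ⁻¹ x = ((z : (P : Subgroup G)) : G) := by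
    rw [← hφ]
    simp
  rw [hx']
  refine ⟨hz0, hzP, fun y hy => ?_⟩
  have hc := Subgroup.mem_center_iff.1 z.2 ⟨y, hy⟩
  have := congrArg Subtype.val hc
  simpa using this

/-- The non-identity central elements of a Sylow subgroup are counted by `|Z(P)| - 1`. -/
theorem ncard_Zs [Finite G] (H : Subgroup G) :
    (Zs H).ncard = Nat.card (Subgroup.center H) - 1 := by
  classical
  let f : Subgroup.center H → G := fun z => ((z : H) : G)
  have hf : Function.Injective f := by
    intro a b hab
    apply Subtype.ext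
    apply Subtype.ext
    exact hab
  have himg : Set.range f = Zs H ∪ {1} := by
    ext x
    constructor
    · rintro ⟨z, rfl⟩
      by_cases h1 : f z = 1
      · right
        exact h1
      · left
        refine ⟨h1, (z : H).2, fun y hy => ?_⟩
        have hc := Subgroup.mem_center_iff.1 z.2 ⟨y, hy⟩
        have := congrArg Subtype.val hc
        simpa using this
    · rintro (⟨-, hxH, hc⟩ | hx1)
      · refine ⟨⟨⟨x, hxH⟩, ?_⟩, rfl⟩
        rw [Subgroup.mem_center_iff]
        intro y
        apply Subtype.ext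
        simpa using hc y y.2
      · rw [Set.mem_singleton_iff] at hx1
        subst hx1
        exact ⟨1, rfl⟩
  have hcard : (Set.range f).ncard = Nat.card (Subgroup.center H) := by
    rw [← Set.image_univ, Set.ncard_image_of_injective _ hf, Set.ncard_univ]
  have h1 : (1 : G) ∉ Zs H := fun h => h.1 rfl
  have hu : (Zs H ∪ {1}).ncard = (Zs H).ncard + 1 := by
    rw [Set.union_singleton, Set.ncard_insert_of_notMem h1 (Set.toFinite _)]
  rw [himg, hu] at hcard
  omega

/-- `Zs` of a Sylow subgroup, as a type, has `|Z(P)| - 1` elements. -/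
theorem card_Zs [Finite G] (H : Subgroup G) :
    Nat.card (Zs H) = Nat.card (Subgroup.center H) - 1 := by
  rw [← ncard_Zs H]
  exact Nat.card_coe_set_eq _

end Helper6

/-- [C2] counting: every element of order `s` is central in a Sylow `s`-subgroup. -/
theorem card_orderOf_le {G : Type*} [Group G] [Finite G] (hpo : PrimeOrders G)
    (hat : AutTrans G) {s : ℕ} [Fact s.Prime] (P : Sylow s G) :
    Nat.card {x : G // orderOf x = s} ≤
      (Subgroup.normalizer ((P : Subgroup G) : Set G)).index *
        (Nat.card (Subgroup.center (P : Subgroup G)) - 1) := by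
  classical
  rw [P.coe_coe, ← P.card_eq_index_normalizer, ← Helper6.card_Zs (P : Subgroup G), ← Nat.card_prod]
  -- for every Sylow `Q` an automorphism carrying `P` to `Q`
  have hconj : ∀ Q : Sylow s G, ∃ ψ : MulAut G, ψ • P = Q := by
    intro Q
    obtain ⟨g, hg⟩ := MulAction.exists_smul_eq G P Q
    exact ⟨MulAut.conj g, by rw [← Sylow.smul_def]; exact hg⟩
  choose ψ hψ using hconj
  have hex : ∀ x : {x : G // orderOf x = s}, ∃ φ : MulAut G,
      φ⁻¹ (x : G) ∈ Helper6.Zs (P : Subgroup G) :=
    fun x => Helper6.exists_sylow_center hpo hat P x.1 x.2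
  choose φ hφ using hex
  -- `x` lies in the centre of `Q x := φ x • P`; read it off in `P` via `ψ (Q x)`
  have hmem : ∀ x : {x : G // orderOf x = s},
      (ψ (φ x • P))⁻¹ (x : G) ∈ Helper6.Zs (P : Subgroup G) := by
    intro x
    obtain ⟨h1, h2, h3⟩ := hφ x
    have hQ : ψ (φ x • P) • P = φ x • P := hψ (φ x • P)
    -- transport along `θ = (ψ Q)⁻¹ * φ x`, which fixes `P`
    have hθ : ∀ y : G, y ∈ P ↔ ((ψ (φ x • P))⁻¹ * φ x) y ∈ P := by
      intro y
      have e1 : (φ x) y ∈ (φ x • P : Sylow s G) ↔ y ∈ P := by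
        rw [Helper6.mem_aut_smul]
        simp
      have e2 : (φ x) y ∈ (ψ (φ x • P) • P : Sylow s G) ↔
          (ψ (φ x • P))⁻¹ ((φ x) y) ∈ P := Helper6.mem_aut_smul _ _ _
      rw [hQ] at e2
      rw [← e1, e2]
      rfl
    have hx0 : (ψ (φ x • P))⁻¹ (x : G) =
        ((ψ (φ x • P))⁻¹ * φ x) ((φ x)⁻¹ (x : G)) := by
      simp
    rw [hx0]
    refine ⟨?_, (hθ _).1 h2, ?_⟩
    · intro h0
      apply h1
      have := ((ψ (φ x • P))⁻¹ * φ x).injective (h0.trans (map_one _).symm)
      exact this
    · intro y hy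
      -- `y = θ y'` with `y' ∈ P`
      have hy' : (((ψ (φ x • P))⁻¹ * φ x)⁻¹ y) ∈ P := by
        rw [hθ]
        have hyy : ((ψ (φ x • P))⁻¹ * φ x) ((((ψ (φ x • P))⁻¹ * φ x)⁻¹) y) = y := by simp
        rw [hyy]
        exact hy
      have hc := h3 _ hy'
      have := congrArg ((ψ (φ x • P))⁻¹ * φ x) hc
      simpa using this
  let F : {x : G // orderOf x = s} → Sylow s G × Helper6.Zs (P : Subgroup G) :=
    fun x => (φ x • P, ⟨(ψ (φ x • P))⁻¹ (x : G), hmem x⟩)
  have hF : Function.Injective F := by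
    intro a b hab
    have h1 : φ a • P = φ b • P := congrArg Prod.fst hab
    have h2 : (ψ (φ a • P))⁻¹ (a : G) = (ψ (φ b • P))⁻¹ (b : G) :=
      congrArg (fun z => ((z.2 : Helper6.Zs (P : Subgroup G)) : G)) hab
    rw [h1] at h2
    exact Subtype.ext ((ψ (φ b • P))⁻¹.injective h2)
  exact Nat.card_le_card_of_injective F hF

end Cfsg.Agent.Lib.Helper19.AutOrb
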