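import Cfsg.Agent.Lib.Helper6.AutOrbC2
import Cfsg.Agent.Lib.Helper13.AutOrbT

/-!
# S4068-[C3] (helper6): per-prime bounds in the odd order case

With `N = N(P)`, `|G| = [G:N] * |P| * m`, `m = [N:P]` odd and prime to `s`, and
`#{x | o(x) = s} ≤ [G:N] * (|Z(P)| - 1)` ([C2]).  If `m = 1` then `P` is non-abelian (else Burnside's
transfer theorem [T] makes `G` solvable), so `[P:Z(P)] ≥ s² ≥ 9`; if `m ≠ 1` then `m ≥ 3`, and
`m ≥ 5` when `s = 3` or `3 ∤ |G|`.
-/

set_option autoImplicit false

namespace Cfsg.Agent.Lib.Helper19.AutOrb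

namespace Helper6

/-- A non-commutative finite `s`-group has `s² ≤ [P : Z(P)]`. -/
theorem sq_le_index_center {H : Type*} [Group H] [Finite H] {s : ℕ} [Fact s.Prime]
    (hH : IsPGroup s H) (hnc : ¬ ∀ x y : H, x * y = y * x) :
    s ^ 2 ≤ (Subgroup.center H).index := by
  obtain ⟨j, hj⟩ := hH.index (Subgroup.center H)
  have hsp : s.Prime := Fact.out
  rcases Nat.lt_or_ge j 2 with hlt | hge
  · exfalso
    apply hnc
    interval_cases j
    · -- index 1: the centre is everything
      have htop : Subgroup.center H = ⊤ := Subgroup.index_eq_one.1 (by simpa using hj)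
      intro x y
      have hy : y ∈ Subgroup.center H := htop ▸ Subgroup.mem_top y
      exact (Subgroup.mem_center_iff.1 hy x)
    · -- index `s`: cyclic central quotient
      have hcard : Nat.card (H ⧸ Subgroup.center H) = s := by
        rw [← Subgroup.index_eq_card, hj, pow_one]
      have hcyc : IsCyclic (H ⧸ Subgroup.center H) := isCyclic_of_prime_card hcard
      intro x y
      exact commutative_of_cyclic_center_quotient (QuotientGroup.mk' (Subgroup.center H))
        (by rw [QuotientGroup.ker_mk']) x y
  · rw [hj]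
    exact Nat.pow_le_pow_right hsp.pos hge

end Helper6

/-- [C3] per-prime bounds in the odd order case. -/
theorem card_orderOf_bounds {G : Type*} [Group G] [Finite G] (hpo : PrimeOrders G)
    (hat : AutTrans G) (h3 : (Nat.card G).primeFactors.card = 3) (hns : ¬ Group.IsSolvable G)
    (hodd : Odd (Nat.card G)) {s : ℕ} [Fact s.Prime] (hs : s ∣ Nat.card G) :
    3 * Nat.card {x : G // orderOf x = s} < Nat.card G ∧
      ((s = 3 ∨ ¬ 3 ∣ Nat.card G) → 5 * Nat.card {x : G // orderOf x = s} < Nat.card G) := by
  classical
  have hsp : s.Prime := Fact.out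
  obtain ⟨P⟩ : Nonempty (Sylow s G) := inferInstance
  have hC2 := card_orderOf_le hpo hat P
  set X := Nat.card {x : G // orderOf x = s} with hX
  set N := Subgroup.normalizer ((P : Subgroup G) : Set G) with hN
  set n := N.index with hn
  set c := Nat.card (Subgroup.center (P : Subgroup G)) with hc
  set a := Nat.card (P : Subgroup G) with ha
  set m := (P : Subgroup G).relIndex N with hm
  have hPN : (P : Subgroup G) ≤ N := Subgroup.le_normalizer
  -- `|G| = a * m * n`
  have hcardG : Nat.card G = a * (m * n) := by
    rw [hm, hn, Subgroup.relIndex_mul_index hPN, ha, mul_comm, Subgroup.index_mul_card]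
  have hgpos : 0 < Nat.card G := Nat.card_pos
  have hapos : 0 < a := Nat.card_pos
  have hmpos : 0 < m := by
    rcases Nat.eq_zero_or_pos m with h | h
    · rw [h] at hcardG; omega
    · exact h
  have hnpos : 0 < n := by
    rcases Nat.eq_zero_or_pos n with h | h
    · rw [h] at hcardG; omega
    · exact h
  -- `c ∣ a`, `1 ≤ c`
  have hcpos : 0 < c := Nat.card_pos
  have hca : c * (Subgroup.center (P : Subgroup G)).index = a := Subgroup.card_mul_index _
  -- parity and coprimality of `m`
  have hmdvd : m ∣ Nat.card G := ⟨a * n, by rw [hcardG]; ring⟩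
  have hmodd : Odd m := Odd.of_dvd_nat hodd hmdvd
  have hs2 : s ≠ 2 := by
    rintro rfl
    exact (Nat.not_even_iff_odd.2 hodd) (even_iff_two_dvd.2 hs)
  have hs3 : 3 ≤ s := by
    have := hsp.two_le
    omega
  have hsm : ¬ s ∣ m := by
    intro h
    apply P.not_dvd_index
    rw [← Subgroup.relIndex_mul_index hPN]
    exact Dvd.dvd.mul_right h _
  by_cases hm1 : m = 1
  · -- `N = P`, `P` is not commutative
    have hNP : N ≤ (P : Subgroup G) := Subgroup.relIndex_eq_one.1 hm1
    have hnc : ¬ ∀ x y : (P : Subgroup G), x * y = y * x := by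
      intro hcomm
      apply hns
      apply isSolvable_of_transfer (le_of_eq h3) hs P
      intro g hg
      rw [Subgroup.mem_centralizer_iff]
      intro y hy
      have := hcomm ⟨y, hy⟩ ⟨g, hNP hg⟩
      exact congrArg Subtype.val this
    have hidx := Helper6.sq_le_index_center P.isPGroup' hnc
    have h9 : 9 ≤ (Subgroup.center (P : Subgroup G)).index := by
      have : 3 ^ 2 ≤ s ^ 2 := Nat.pow_le_pow_left hs3 2
      omega
    -- `9 * X < |G|`
    have hX9 : 9 * X < Nat.card G := by
      rw [hcardG, hm1, one_mul, ← hca]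
      have h1 : X ≤ n * (c - 1) := hC2
      have h2 : n * (c - 1) < n * c := Nat.mul_lt_mul_of_pos_left (by omega) hnpos
      have h3' : 9 * (n * c) ≤ c * (Subgroup.center (P : Subgroup G)).index * n := by
        calc 9 * (n * c) = c * 9 * n := by ring
          _ ≤ c * (Subgroup.center (P : Subgroup G)).index * n :=
            Nat.mul_le_mul_right _ (Nat.mul_le_mul_left _ h9)
      omega
    exact ⟨by omega, fun _ => by omega⟩
  · -- `m ≥ 3`
    have hm3 : 3 ≤ m := by
      obtain ⟨k, hk⟩ := hmodd
      omega
    have hca' : c ≤ a := by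
      rw [← hca]
      exact Nat.le_mul_of_pos_right _ (Nat.pos_of_ne_zero (by
        intro h0
        rw [h0, mul_zero] at hca
        omega))
    have hXlt : X < n * a := by
      have h1 : X ≤ n * (c - 1) := hC2
      have h2 : n * (c - 1) < n * a := Nat.mul_lt_mul_of_pos_left (by omega) hnpos
      omega
    refine ⟨?_, ?_⟩
    · rw [hcardG]
      calc 3 * X < 3 * (n * a) := by omega
        _ = a * (3 * n) := by ring
        _ ≤ a * (m * n) := Nat.mul_le_mul_left _ (Nat.mul_le_mul_right _ hm3)
    · intro h35
      have hm5 : 5 ≤ m := by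
        have hne3 : m ≠ 3 := by
          intro h
          rcases h35 with h' | h'
          · apply hsm
            rw [h', h]
          · apply h'
            rw [← h]
            exact hmdvd
        obtain ⟨k, hk⟩ := hmodd
        omega
      rw [hcardG]
      calc 5 * X < 5 * (n * a) := by omega
        _ = a * (5 * n) := by ring
        _ ≤ a * (m * n) := Nat.mul_le_mul_left _ (Nat.mul_le_mul_right _ hm5)

end Cfsg.Agent.Lib.Helper19.AutOrb
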