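import Cfsg.Agent.Lib.Helper6.M22MultCoverDefs

/-! S2036 (helper6): relettering of words (definition only, shared by piece [G3] and the data files). -/

set_option autoImplicit false

namespace Cfsg.Agent.Lib.Helper6.M22Mult

/-- relettering: generator `i` of the subgroup level is generator `φ i` of the group -/
def relet (φ : ℕ → ℕ) (w : List ℕ) : List ℕ := w.map fun l => 2 * φ (l / 2) + l % 2

end Cfsg.Agent.Lib.Helper6.M22Mult
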