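import Mathlib
import Cfsg.Prelude.Def_GeometricClasses
import Cfsg.Agent.Lib.Helper1.OEDefs
import Cfsg.Agent.Lib.Helper6.OETypeTens

/-!
# Plus rows S5847 / S5871 : the tensor pieces X4, X5, X6 of `notes/OEPlusSkel_helper13.lean.txt` (helper6)

* `tensor_three_four_minus` (X4) : `O₃ ⊗ O₄⁻` lives in minus type;
* `pure_zero_of_odd` (X5) : `q` odd, symplectic ⊗ symplectic : `Q` vanishes on the pure tensors;
* `even_of_symplectic` (X6) : a symplectic form lives in even dimension.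
-/

set_option autoImplicit false
set_option linter.unusedSectionVars false
set_option linter.unusedVariables false

namespace Cfsg.Agent.Lib.Helper6.OEPlusX

open Matrix Cfsg Cfsg.Geo Module
open Cfsg.Agent.Lib.Helper1.OE
open Cfsg.Agent.Lib.Helper13.TNM Cfsg.Agent.Lib.Helper6 Cfsg.Agent.Lib.Helper6.OETypeTens
open scoped Kronecker

variable {F : Type*} [Field F] [Fintype F]

variable {n : ℕ} {Q : (Fin n → F) → F}

/-- X6 : a symplectic form lives in even dimension -/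
theorem even_of_symplectic {k : ℕ} (f : (Fin k → F) → (Fin k → F) → F) (hf : IsSymplecticForm f) : Even k := by
  obtain ⟨L, -, hL⟩ := exists_lagrangian hf
  rw [Fintype.card_fin] at hL
  exact ⟨finrank F L, by omega⟩

/-- X5 : `q` odd, symplectic ⊗ symplectic : `Q` vanishes on the pure tensors automatically -/
theorem pure_zero_of_odd (hQ : IsNondegenerateQuadraticForm Q) (hodd : Odd (Fintype.card F)) {n₁ n₂ : ℕ}
    (e : Fin n ≃ Fin n₁ × Fin n₂) (P : GL (Fin n) F) (f₁ : (Fin n₁ → F) → (Fin n₁ → F) → F)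
    (f₂ : (Fin n₂ → F) → (Fin n₂ → F) → F) (hf₁ : IsSymplecticForm f₁) (hf₂ : IsSymplecticForm f₂)
    (hT : IsTensorFormStructure id (QuadraticMap.polar Q) f₁ f₂ e P) (x₁ : Fin n₁ → F) (x₂ : Fin n₂ → F) :
    Q ((P : Matrix (Fin n) (Fin n) F) *ᵥ (pure2 x₁ x₂ ∘ e)) = 0 := by
  obtain ⟨c, hc, hT⟩ := hT
  have h2 := two_ne_zero_of_odd_card hodd
  have h := polar_pure2 hf₁.bilinear hf₂.bilinear hT x₁ x₁ x₂ x₂
  rw [hf₁.alternating, zero_mul, mul_zero] at h
  exact quad_eq_zero_of_polar h2 hQ _ h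

/-- X4 (discriminant: `det (A ⊗ B) = det A ^ 4 * det B ^ 3`) : `O₃ ⊗ O₄⁻` lives in MINUS type -/
theorem tensor_three_four_minus (hQ : IsNondegenerateQuadraticForm Q) (hodd : Odd (Fintype.card F))
    (e : Fin n ≃ Fin 3 × Fin 4) (P : GL (Fin n) F) (f₁ : (Fin 3 → F) → (Fin 3 → F) → F)
    (f₂ : (Fin 4 → F) → (Fin 4 → F) → F) (hf₁ : IsSymmetricForm f₁) (hf₂ : IsSymmetricForm f₂)
    (hT : IsTensorFormStructure id (QuadraticMap.polar Q) f₁ f₂ e P)
    (hp : ¬ ∃ U : Submodule F (Fin 4 → F), finrank F U = 2 ∧ ∀ u ∈ U, ∀ v ∈ U, f₂ u v = 0) :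
    ¬ IsPlusTypeOn Q ⊤ := by
  intro hplus
  apply hp
  obtain ⟨c, hc, hT⟩ := hT
  have h2 := two_ne_zero_of_odd_card hodd
  let b : Basis (Fin 3 × Fin 4) F (Fin n → F) := (Pi.basisFun F (Fin 3 × Fin 4)).map (TTe e P)
  have hb : ∀ k, b k = TT e P (Pi.single k 1) := by
    intro k
    show (TTe e P) ((Pi.basisFun F (Fin 3 × Fin 4)) k) = _
    rw [Pi.basisFun_apply, TTe_apply]
  have hmat : (Matrix.of fun k k' => QuadraticMap.polar Q (b k) (b k')) =
      c • (gramMatrix f₁ ⊗ₖ gramMatrix f₂) := by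
    ext k k'
    rw [Matrix.of_apply, hb, hb, Matrix.smul_apply, smul_eq_mul]
    unfold TT
    rw [hT, formOfGram_single id rfl rfl]
  have hcard : Fintype.card (Fin n) = 2 * 6 := by
    rw [card_eq_mul e]
  have hsq := isSquare_of_plus hQ b 6 hcard hplus
  rw [hmat, Matrix.det_smul, Matrix.det_kronecker, Fintype.card_prod, Fintype.card_fin, Fintype.card_fin] at hsq
  -- the second factor as a Mathlib bilinear form
  let B : LinearMap.BilinForm F (Fin 4 → F) := toBilin hf₂.bilinear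
  have hS : B.IsSymm := ⟨fun x y => hf₂.symm x y⟩
  have hB : B.Nondegenerate := by
    constructor
    · intro x hx
      by_contra hx0
      obtain ⟨y, hy⟩ := (hf₂.nondegenerate x hx0).2
      exact hy (hx y)
    · intro y hy
      by_contra hy0
      obtain ⟨x, hx⟩ := (hf₂.nondegenerate y hy0).1
      exact hx (hy x)
  have hV : finrank F (Fin 4 → F) = 2 * 2 := by rw [Module.finrank_fintype_fun_eq_card, Fintype.card_fin]
  have hmat2 : LinearMap.BilinForm.toMatrix (Pi.basisFun F (Fin 4)) B = gramMatrix f₂ := by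
    ext a a'
    rw [LinearMap.BilinForm.toMatrix_apply, Pi.basisFun_apply, Pi.basisFun_apply]
    rfl
  have hd1 : (gramMatrix f₁).det ≠ 0 := by
    intro h0
    obtain ⟨v, hv0, hv⟩ := Matrix.exists_mulVec_eq_zero_iff.mpr h0
    obtain ⟨x, hx⟩ := (hf₁.nondegenerate v hv0).1
    apply hx
    rw [bilin_eq_formOfGram hf₁.bilinear, formOfGram_eq]
    simp only [Function.id_comp]
    rw [hv, dotProduct_zero]
  have hd2 : (gramMatrix f₂).det ≠ 0 := by
    intro h0
    obtain ⟨v, hv0, hv⟩ := Matrix.exists_mulVec_eq_zero_iff.mpr h0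
    obtain ⟨x, hx⟩ := (hf₂.nondegenerate v hv0).1
    apply hx
    rw [bilin_eq_formOfGram hf₂.bilinear, formOfGram_eq]
    simp only [Function.id_comp]
    rw [hv, dotProduct_zero]
  have hsq2 : IsSquare ((-1) ^ 2 * (LinearMap.BilinForm.toMatrix (Pi.basisFun F (Fin 4)) B).det) := by
    rw [hmat2]
    obtain ⟨r, hr⟩ := hsq
    set d1 := (gramMatrix f₁).det with hd1def
    set d2 := (gramMatrix f₂).det with hd2def
    have hne : c ^ 6 * d1 ^ 2 * d2 ≠ 0 :=
      mul_ne_zero (mul_ne_zero (pow_ne_zero _ hc) (pow_ne_zero _ hd1)) hd2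
    refine ⟨r / (c ^ 6 * d1 ^ 2 * d2), ?_⟩
    have h3 : r * r = (c ^ 6 * d1 ^ 2 * d2) * (c ^ 6 * d1 ^ 2 * d2) * d2 := by
      rw [← hr]
      ring
    field_simp
    linear_combination (-1 : F) * h3
  obtain ⟨X, hXdim, hX⟩ := (hasTI_iff_isSquare h2 B hS hB 2 hV (Pi.basisFun F (Fin 4))).mpr hsq2
  exact ⟨X, hXdim, fun u hu v hv => hX u hu v hv⟩

end Cfsg.Agent.Lib.Helper6.OEPlusX
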