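import Mathlib
import Cfsg.Agent.Lib.Helper12.RU4.Defs

set_option autoImplicit false

/-! S3174 glue leaf G5 (blueprint I.7): the three equalities `image = kernel` along the chain
`W < T1 < T2 < T`, by a one-step counting lemma internal to `T` (first isomorphism theorem for
`w ↦ [w,g] Z` from `Y_A` to `T ⧸ Z`). -/

namespace Cfsg.Agent.Lib.Helper6.RUG5

open Cfsg.Agent.Lib.Helper12.RU4

variable {T : Type*} [Group T]

theorem cm_mul_left' (a b g : T) : cm (a * b) g = b⁻¹ * cm a g * b * cm b g := by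
  unfold cm; group

theorem cm_inv_left' (a y : T) : cm a⁻¹ y = a * (cm a y)⁻¹ * a⁻¹ := by
  unfold cm; group

theorem cm_conj' (w t y : T) : cm (t⁻¹ * w * t) y = t⁻¹ * cm w (t * y * t⁻¹) * t := by
  unfold cm; group

theorem cm_coset' (w g y : T) :
    cm w y = cm w (g⁻¹ * y) * ((g⁻¹ * y)⁻¹ * cm w g * (g⁻¹ * y)) := by
  unfold cm; group

/-- `{w ∈ W | [w, A] ⊆ Z}` as a subgroup. -/
def Ysub (Z W A : Subgroup T) (hZ : Z.Normal) : Subgroup T where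
  carrier := {w | w ∈ W ∧ ∀ y ∈ A, cm w y ∈ Z}
  one_mem' := ⟨W.one_mem, fun y _ => by
    have : cm (1 : T) y = 1 := by unfold cm; group
    rw [this]; exact Z.one_mem⟩
  mul_mem' := by
    rintro a b ⟨ha, ha'⟩ ⟨hb, hb'⟩
    refine ⟨W.mul_mem ha hb, fun y hy => ?_⟩
    rw [cm_mul_left']
    refine Z.mul_mem ?_ (hb' y hy)
    simpa using hZ.conj_mem _ (ha' y hy) b⁻¹
  inv_mem' := by
    rintro a ⟨ha, ha'⟩
    refine ⟨W.inv_mem ha, fun y hy => ?_⟩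
    rw [cm_inv_left']
    exact hZ.conj_mem _ (Z.inv_mem (ha' y hy)) a

theorem mem_Ysub (Z W A : Subgroup T) (hZ : Z.Normal) (w : T) :
    w ∈ Ysub Z W A hZ ↔ w ∈ W ∧ ∀ y ∈ A, cm w y ∈ Z := Iff.rfl

theorem cm_mem_of_coset (Z A : Subgroup T) (g : T) (hZn : Z.Normal) (w y : T)
    (hA : ∀ a ∈ A, cm w a ∈ Z) (hg : cm w g ∈ Z) (hy : y ∈ A ∨ g⁻¹ * y ∈ A) : cm w y ∈ Z := by
  rcases hy with hy | hy
  · exact hA y hy
  · rw [cm_coset' w g y]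
    refine Z.mul_mem (hA _ hy) ?_
    simpa using hZn.conj_mem _ hg (g⁻¹ * y)⁻¹

theorem cm_mem_of_mem_normal (Z : Subgroup T) (hZn : Z.Normal) (c y : T) (hc : c ∈ Z) :
    cm c y ∈ Z := by
  have e : cm c y = c⁻¹ * (y⁻¹ * c * y⁻¹⁻¹) := by unfold cm; group
  rw [e]
  exact Z.mul_mem (Z.inv_mem hc) (hZn.conj_mem c hc y⁻¹)

theorem one_step [Finite T] (Z W A YA YB : Subgroup T) (g : T)
    (hZn : Z.Normal) (hWn : W.Normal) (hAn : A.Normal)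
    (hcomm : ∀ u ∈ W, ∀ v ∈ W, cm u v ∈ Z) (hsq : ∀ w ∈ W, w * w ∈ Z)
    (hg2 : g * g ∈ A)
    (hYA : ∀ w, w ∈ YA ↔ w ∈ W ∧ ∀ y ∈ A, cm w y ∈ Z)
    (hYB : ∀ w, w ∈ YB ↔ w ∈ YA ∧ cm w g ∈ Z)
    (hZY : Z ≤ YB) :
    Nat.card YA * Nat.card Z ≤ Nat.card YB * Nat.card YB ∧
    (Nat.card YA * Nat.card Z = Nat.card YB * Nat.card YB →
      ∀ v ∈ YB, ∃ u ∈ YA, (cm u g)⁻¹ * v ∈ Z) := by
  haveI := hZn
  let π : T →* T ⧸ Z := QuotientGroup.mk' Z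
  have hπ : ∀ a b : T, π a = π b ↔ a⁻¹ * b ∈ Z := fun a b => QuotientGroup.eq
  have hπ1 : ∀ a : T, π a = 1 ↔ a ∈ Z := fun a => QuotientGroup.eq_one_iff a
  have hcQ : ∀ u ∈ W, ∀ v ∈ W, π u * π v = π v * π u := by
    intro u hu v hv
    rw [← map_mul, ← map_mul, hπ]
    have e : (u * v)⁻¹ * (v * u) = cm v u := by unfold cm; group
    rw [e]; exact hcomm v hv u hu
  have hsQ : ∀ w ∈ W, π w * π w = 1 := by
    intro w hw
    rw [← map_mul, hπ1]; exact hsq w hw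
  have hYAW : ∀ w ∈ YA, w ∈ W := fun w hw => ((hYA w).1 hw).1
  have hYAn : ∀ w ∈ YA, ∀ t : T, t⁻¹ * w * t ∈ YA := by
    intro w hw t
    obtain ⟨hwW, hwA⟩ := (hYA w).1 hw
    rw [hYA]
    refine ⟨?_, fun y hy => ?_⟩
    · simpa using hWn.conj_mem w hwW t⁻¹
    · rw [cm_conj']
      have h1 : t * y * t⁻¹ ∈ A := hAn.conj_mem y hy t
      simpa using hZn.conj_mem _ (hwA _ h1) t⁻¹
  have hcmYA : ∀ w ∈ YA, cm w g ∈ YA := by
    intro w hw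
    have : cm w g = w⁻¹ * (g⁻¹ * w * g) := by unfold cm; group
    rw [this]
    exact YA.mul_mem (YA.inv_mem hw) (hYAn w hw g)
  have hcm2 : ∀ w ∈ YA, cm (cm w g) g ∈ Z := by
    intro w hw
    obtain ⟨hwW, hwA⟩ := (hYA w).1 hw
    have hw1 : g⁻¹ * w * g ∈ W := hYAW _ (hYAn w hw g)
    rw [← hπ1]
    have e : cm (cm w g) g
        = (g⁻¹ * w * g)⁻¹ * w * ((g⁻¹ * w * g)⁻¹ * (w * cm w (g * g))) := by
      unfold cm; group
    have h3 : π (w * cm w (g * g)) = π w := by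
      rw [map_mul, (hπ1 _).2 (hwA _ hg2), mul_one]
    rw [e, map_mul, map_mul, map_mul, map_inv, h3]
    have hab : π w * π (g⁻¹ * w * g) = π (g⁻¹ * w * g) * π w := hcQ w hwW _ hw1
    have hb2 := hsQ _ hw1
    have ha2 := hsQ w hwW
    generalize π w = a at *
    generalize π (g⁻¹ * w * g) = b at *
    have hbinv : b⁻¹ = b := inv_eq_of_mul_eq_one_left hb2
    have hba : Commute b a := hab.symm
    calc b⁻¹ * a * (b⁻¹ * a) = (b * a) ^ 2 := by rw [hbinv, pow_two]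
      _ = b ^ 2 * a ^ 2 := hba.mul_pow 2
      _ = 1 := by rw [pow_two, pow_two, hb2, ha2, one_mul]
  let φ : ↥YA →* T ⧸ Z := MonoidHom.mk' (fun w => π (cm (w : T) g)) (by
    intro a b
    show π (cm ((a * b : ↥YA) : T) g) = π (cm (a : T) g) * π (cm (b : T) g)
    rw [Subgroup.coe_mul, cm_mul_left', map_mul, map_mul, map_mul, map_inv]
    have hbW := hYAW _ b.2
    have hcW := hYAW _ (hcmYA _ a.2)
    have h := hcQ _ hcW _ hbW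
    rw [mul_assoc (π (b : T))⁻¹, h, ← mul_assoc, inv_mul_cancel, one_mul])
  have hφ : ∀ w : ↥YA, φ w = π (cm (w : T) g) := fun _ => rfl
  have hYBA : YB ≤ YA := fun w hw => ((hYB w).1 hw).1
  have hker : φ.ker = YB.subgroupOf YA := by
    ext w
    rw [MonoidHom.mem_ker, Subgroup.mem_subgroupOf, hφ, hπ1, hYB]
    exact ⟨fun h => ⟨w.2, h⟩, fun h => h.2⟩
  have hkercard : Nat.card φ.ker = Nat.card YB := by
    rw [hker]
    exact Nat.card_congr (Subgroup.subgroupOfEquivOfLe hYBA).toEquiv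
  have hrange : φ.range ≤ YB.map π := by
    rintro _ ⟨w, rfl⟩
    refine ⟨cm (w : T) g, ?_, rfl⟩
    show cm (w : T) g ∈ YB
    rw [hYB]
    exact ⟨hcmYA _ w.2, hcm2 _ w.2⟩
  have hcardA : Nat.card YA = Nat.card φ.range * Nat.card φ.ker := by
    rw [← Subgroup.index_ker, Subgroup.index_mul_card]
  have hmapcard : Nat.card (YB.map π) * Nat.card Z = Nat.card YB := by
    let ψ : ↥YB →* T ⧸ Z := π.comp YB.subtype
    have hr : ψ.range = YB.map π := by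
      rw [MonoidHom.range_comp, Subgroup.range_subtype]
    have hk : ψ.ker = Z.subgroupOf YB := by
      ext w
      rw [MonoidHom.mem_ker, Subgroup.mem_subgroupOf]
      exact hπ1 _
    have h1 : Nat.card YB = Nat.card ψ.range * Nat.card ψ.ker := by
      rw [← Subgroup.index_ker, Subgroup.index_mul_card]
    have h2 : Nat.card (Z.subgroupOf YB) = Nat.card Z :=
      Nat.card_congr (Subgroup.subgroupOfEquivOfLe hZY).toEquiv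
    rw [h1, hr, hk, h2]
  have hrm : Nat.card φ.range ≤ Nat.card (YB.map π) := Subgroup.card_le_of_le hrange
  have hposB : 0 < Nat.card YB := Nat.card_pos
  have hposZ : 0 < Nat.card Z := Nat.card_pos
  rw [hcardA, hkercard]
  generalize hr' : Nat.card φ.range = r at *
  generalize hm : Nat.card (YB.map π) = m at *
  generalize Nat.card YB = nB at *
  generalize Nat.card Z = nZ at *
  subst hmapcard
  refine ⟨?_, ?_⟩
  · calc r * (m * nZ) * nZ ≤ m * (m * nZ) * nZ := by gcongr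
      _ = m * nZ * (m * nZ) := by ring
  · intro heq v hv
    have h5 : r * ((m * nZ) * nZ) = m * ((m * nZ) * nZ) := by
      rw [← mul_assoc, heq]; ring
    have h6 : r = m := Nat.eq_of_mul_eq_mul_right (Nat.mul_pos hposB hposZ) h5
    have h7 : φ.range = YB.map π :=
      Subgroup.eq_of_le_of_card_ge hrange (by rw [hm, hr']; exact le_of_eq h6.symm)
    have h8 : π v ∈ φ.range := by
      rw [h7]; exact ⟨v, hv, rfl⟩
    obtain ⟨u, hu⟩ := h8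
    refine ⟨u, u.2, ?_⟩
    rw [hφ, hπ] at hu
    exact hu

theorem arith (n w a1 a2 y : ℕ) (hn : 0 < n) (hw : w = 2 ^ 8 * n) (hy : y = 2 * n)
    (i1 : w * n ≤ a1 * a1) (i2 : a1 * n ≤ a2 * a2) (i3 : a2 * n ≤ y * y) :
    a1 = 16 * n ∧ a2 = 4 * n := by
  subst hw hy
  have b2 : a2 ≤ 4 * n := by
    have : a2 * n ≤ (4 * n) * n := by nlinarith
    exact Nat.le_of_mul_le_mul_right this hn
  have b1 : a1 ≤ 16 * n := by
    have : a1 * n ≤ (16 * n) * n := by nlinarith [Nat.mul_le_mul b2 b2]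
    exact Nat.le_of_mul_le_mul_right this hn
  have c1 : 16 * n ≤ a1 := by
    have : (16 * n) * (16 * n) ≤ a1 * a1 := by nlinarith
    exact Nat.mul_self_le_mul_self_iff.mp this
  have d1 : a1 = 16 * n := le_antisymm b1 c1
  have c2 : 4 * n ≤ a2 := by
    have : (4 * n) * (4 * n) ≤ a2 * a2 := by subst d1; nlinarith
    exact Nat.mul_self_le_mul_self_iff.mp this
  exact ⟨d1, le_antisymm b2 c2⟩

theorem three_step [Finite T] (Z3 Y W T1 T2 : Subgroup T) (z s x : T)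
    (hZ3W : Z3 ≤ W) (hWT1 : W ≤ T1) (hT12 : T1 ≤ T2)
    (hZ3n : Z3.Normal) (hWn : W.Normal) (hT1n : T1.Normal) (hT2n : T2.Normal)
    (hcomm : ∀ u ∈ W, ∀ v ∈ W, cm u v ∈ Z3) (hsq : ∀ w ∈ W, w * w ∈ Z3)
    (hz : z ∈ T1) (hT1 : ∀ t ∈ T1, t ∈ W ∨ z⁻¹ * t ∈ W)
    (hs : s ∈ T2) (hT2 : ∀ t ∈ T2, t ∈ T1 ∨ s⁻¹ * t ∈ T1)
    (hT' : ∀ t : T, t ∈ T2 ∨ x⁻¹ * t ∈ T2)
    (hT2sq : ∀ t ∈ T2, t * t ∈ W) (hx2 : z⁻¹ * (x * x) ∈ W)
    (hY : ∀ w : T, w ∈ Y ↔ w ∈ W ∧ ∀ t : T, cm w t ∈ Z3)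
    (hcardW : Nat.card ↥W = 2 ^ 8 * Nat.card ↥Z3)
    (hcardY : Nat.card ↥Y = 2 * Nat.card ↥Z3) :
    ∃ Y1 : Subgroup T,
      (∀ w : T, w ∈ Y1 ↔ w ∈ W ∧ ∀ y ∈ T1, cm w y ∈ Z3) ∧
      Nat.card ↥Y1 = 2 ^ 4 * Nat.card ↥Z3 ∧
      (∀ v ∈ W, (∀ y ∈ T1, cm v y ∈ Z3) → ∃ u ∈ W, (cm u z)⁻¹ * v ∈ Z3) ∧
      (∀ v ∈ W, (∀ y ∈ T2, cm v y ∈ Z3) →
        ∃ u ∈ W, (∀ y ∈ T1, cm u y ∈ Z3) ∧ (cm u s)⁻¹ * v ∈ Z3) ∧
      (∀ v ∈ W, (∀ t : T, cm v t ∈ Z3) →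
        ∃ u ∈ W, (∀ y ∈ T2, cm u y ∈ Z3) ∧ (cm u x)⁻¹ * v ∈ Z3) := by
  have hZn' : ∀ c ∈ Z3, ∀ y : T, cm c y ∈ Z3 :=
    fun c hc y => cm_mem_of_mem_normal Z3 hZ3n c y hc
  have hZY1 : Z3 ≤ Ysub Z3 W T1 hZ3n := fun c hc => ⟨hZ3W hc, fun y _ => hZn' c hc y⟩
  have hZY2 : Z3 ≤ Ysub Z3 W T2 hZ3n := fun c hc => ⟨hZ3W hc, fun y _ => hZn' c hc y⟩
  have hZY : Z3 ≤ Y := fun c hc => (hY c).2 ⟨hZ3W hc, hZn' c hc⟩
  have st1 := one_step Z3 W W W (Ysub Z3 W T1 hZ3n) z hZ3n hWn hWn hcomm hsq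
    (hT2sq z (hT12 hz))
    (fun w => ⟨fun hw => ⟨hw, fun y hy => hcomm w hw y hy⟩, fun h => h.1⟩)
    (fun w => ⟨fun hw => ⟨hw.1, hw.2 z hz⟩,
      fun hw => ⟨hw.1, fun y hy => cm_mem_of_coset Z3 W z hZ3n w y
        (fun a ha => hcomm w hw.1 a ha) hw.2 (hT1 y hy)⟩⟩)
    hZY1
  have st2 := one_step Z3 W T1 (Ysub Z3 W T1 hZ3n) (Ysub Z3 W T2 hZ3n) s hZ3n hWn hT1n hcomm hsq
    (hWT1 (hT2sq s hs))
    (fun w => Iff.rfl)
    (fun w => ⟨fun hw => ⟨⟨hw.1, fun y hy => hw.2 y (hT12 hy)⟩, hw.2 s hs⟩,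
      fun hw => ⟨hw.1.1, fun y hy => cm_mem_of_coset Z3 T1 s hZ3n w y hw.1.2 hw.2 (hT2 y hy)⟩⟩)
    hZY2
  have hxx : x * x ∈ T2 := by
    have : x * x = z * (z⁻¹ * (x * x)) := by group
    rw [this]; exact T2.mul_mem (hT12 hz) (hT12 (hWT1 hx2))
  have st3 := one_step Z3 W T2 (Ysub Z3 W T2 hZ3n) Y x hZ3n hWn hT2n hcomm hsq hxx
    (fun w => Iff.rfl)
    (fun w => ⟨fun hw => by
        obtain ⟨h1, h2⟩ := (hY w).1 hw
        exact ⟨⟨h1, fun y _ => h2 y⟩, h2 x⟩,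
      fun hw => (hY w).2 ⟨hw.1.1, fun y => cm_mem_of_coset Z3 T2 x hZ3n w y hw.1.2 hw.2 (hT' y)⟩⟩)
    hZY
  obtain ⟨i1, e1⟩ := st1
  obtain ⟨i2, e2⟩ := st2
  obtain ⟨i3, e3⟩ := st3
  have hpos : 0 < Nat.card Z3 := Nat.card_pos
  obtain ⟨hc1, hc2⟩ := arith _ _ _ _ _ hpos hcardW hcardY i1 i2 i3
  have E1 := e1 (by rw [hcardW, hc1]; ring)
  have E2 := e2 (by rw [hc1, hc2]; ring)
  have E3 := e3 (by rw [hc2, hcardY]; ring)
  refine ⟨Ysub Z3 W T1 hZ3n, fun w => Iff.rfl, ?_, ?_, ?_, ?_⟩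
  · rw [hc1]; norm_num
  · intro v hv hv'
    exact E1 v ⟨hv, hv'⟩
  · intro v hv hv'
    obtain ⟨u, hu, huv⟩ := E2 v ⟨hv, hv'⟩
    exact ⟨u, hu.1, hu.2, huv⟩
  · intro v hv hv'
    obtain ⟨u, hu, huv⟩ := E3 v ((hY v).2 ⟨hv, hv'⟩)
    exact ⟨u, hu.1, hu.2, huv⟩

end Cfsg.Agent.Lib.Helper6.RUG5
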