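import Mathlib

/-!
# S3313 farm-out (architect helper19): the decidable facts in `alternatingGroup (Fin 5)` used by FO-A5
-/

set_option autoImplicit false

namespace Cfsg.Agent.Lib.Helper6.S3313A5

set_option maxRecDepth 100000 in
theorem pairs_dec : Fintype.card {p : alternatingGroup (Fin 5) × alternatingGroup (Fin 5) //
    (p.1 ≠ 1 ∧ p.1 ^ 2 = 1) ∧ p.2 ^ 2 = 1 ∧ (p.1 * p.2) ^ 15 = 1} = 195 := by decide +kernel

set_option maxRecDepth 100000 in
theorem cent_dec : ∀ x : alternatingGroup (Fin 5), x ≠ 1 → x ^ 2 = 1 →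
    Fintype.card {y : alternatingGroup (Fin 5) // y * x = x * y} = 4 ∧
      ∀ y : alternatingGroup (Fin 5), y * x = x * y → y ^ 2 = 1 := by decide +kernel

set_option maxRecDepth 100000 in
theorem inv_dec : Fintype.card {x : alternatingGroup (Fin 5) // x ≠ 1 ∧ x ^ 2 = 1} = 15 := by
  decide +kernel

set_option maxRecDepth 100000 in
theorem ex5_dec : ∃ x : alternatingGroup (Fin 5), x ≠ 1 ∧ x ^ 5 = 1 := by decide +kernel

set_option maxRecDepth 100000 in
theorem orders_dec : ∀ x : alternatingGroup (Fin 5), x ^ 2 = 1 ∨ x ^ 3 = 1 ∨ x ^ 5 = 1 := by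
  decide +kernel

set_option maxRecDepth 100000 in
theorem card_dec : Fintype.card (alternatingGroup (Fin 5)) = 60 := by decide +kernel

end Cfsg.Agent.Lib.Helper6.S3313A5
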