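import Mathlib
import Cfsg.Agent.Lib.Helper6.S3313A5Dec

/-!
# S3313 farm-out (architect helper19): FO-A5, facts about a group `A ≃* A₅`

All by transport along `e : A ≃* alternatingGroup (Fin 5)` and `decide` on `alternatingGroup (Fin 5)`
(the decidable facts are in `S3313A5Dec`).
-/

set_option autoImplicit false

namespace Cfsg.Agent.Lib.Helper6.S3313A5

theorem orderOf_eq_two_iff' {A : Type*} [Group A] (x : A) : orderOf x = 2 ↔ x ≠ 1 ∧ x ^ 2 = 1 := by
  constructor
  · intro h
    refine ⟨?_, ?_⟩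
    · intro h1
      rw [h1, orderOf_one] at h
      omega
    · rw [← h]
      exact pow_orderOf_eq_one x
  · rintro ⟨h1, h2⟩
    exact orderOf_eq_prime h2 h1

theorem map_eq_one_iff' {A : Type*} [Group A] (e : A ≃* alternatingGroup (Fin 5)) (a : A) :
    e a = 1 ↔ a = 1 := MulEquiv.map_eq_one_iff e

/-- FO-A5a -/
theorem a5_card_pairs {A : Type*} [Group A] (e : A ≃* alternatingGroup (Fin 5)) :
    Nat.card {p : A × A // orderOf p.1 = 2 ∧ p.2 ^ 2 = 1 ∧ (p.1 * p.2) ^ 15 = 1} = 195 := by
  rw [← pairs_dec, ← Nat.card_eq_fintype_card]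
  refine Nat.card_congr ((e.toEquiv.prodCongr e.toEquiv).subtypeEquiv ?_)
  rintro ⟨a, b⟩
  change (orderOf a = 2 ∧ b ^ 2 = 1 ∧ (a * b) ^ 15 = 1) ↔
    ((e a ≠ 1 ∧ (e a) ^ 2 = 1) ∧ (e b) ^ 2 = 1 ∧ (e a * e b) ^ 15 = 1)
  rw [orderOf_eq_two_iff', ← map_pow, ← map_pow, ← map_mul, ← map_pow]
  simp only [ne_eq, map_eq_one_iff']

/-- FO-A5b: the centralizer of an involution is a four-group. -/
theorem a5_centralizer {A : Type*} [Group A] (e : A ≃* alternatingGroup (Fin 5)) (x : A)
    (hx : orderOf x = 2) :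
    Nat.card (Subgroup.centralizer ({x} : Set A)) = 4 ∧
      ∀ y ∈ Subgroup.centralizer ({x} : Set A), y ^ 2 = 1 := by
  rw [orderOf_eq_two_iff'] at hx
  have hex1 : e x ≠ 1 := by
    intro h
    exact hx.1 ((map_eq_one_iff' e x).mp h)
  have hex2 : (e x) ^ 2 = 1 := by rw [← map_pow, hx.2, map_one]
  obtain ⟨h4, hsq⟩ := cent_dec (e x) hex1 hex2
  refine ⟨?_, ?_⟩
  · rw [← h4, ← Nat.card_eq_fintype_card]
    refine Nat.card_congr (e.toEquiv.subtypeEquiv ?_)
    intro y
    change y ∈ Subgroup.centralizer ({x} : Set A) ↔ e y * e x = e x * e y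
    rw [Subgroup.mem_centralizer_singleton_iff, ← map_mul, ← map_mul]
    constructor
    · intro h
      rw [h]
    · intro h
      exact e.injective h
  · intro y hy
    rw [Subgroup.mem_centralizer_singleton_iff] at hy
    have := hsq (e y) (by rw [← map_mul, ← map_mul, hy])
    rw [← map_pow] at this
    exact (map_eq_one_iff' e _).mp this

/-- FO-A5c: 15 involutions; elements are of order 1, 2, 3, 5; an element of order 5 exists. -/
theorem a5_involutions {A : Type*} [Group A] (e : A ≃* alternatingGroup (Fin 5)) :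
    Nat.card {x : A // orderOf x = 2} = 15 ∧ (∃ x : A, orderOf x = 5) ∧ Nat.card A = 60 ∧
      (∀ x : A, x ^ 2 = 1 → (x = 1 ∨ orderOf x = 2)) ∧
      (∀ x : A, Odd (orderOf x) ↔ x ^ 15 = 1) := by
  refine ⟨?_, ?_, ?_, ?_, ?_⟩
  · rw [← inv_dec, ← Nat.card_eq_fintype_card]
    refine Nat.card_congr (e.toEquiv.subtypeEquiv ?_)
    intro a
    change orderOf a = 2 ↔ (e a ≠ 1 ∧ (e a) ^ 2 = 1)
    rw [orderOf_eq_two_iff', ← map_pow]
    simp only [ne_eq, map_eq_one_iff']
  · obtain ⟨x, hx1, hx5⟩ := ex5_dec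
    refine ⟨e.symm x, ?_⟩
    have : Fact (Nat.Prime 5) := ⟨by norm_num⟩
    refine orderOf_eq_prime ?_ ?_
    · rw [← map_pow, hx5, map_one]
    · intro h
      exact hx1 ((MulEquiv.map_eq_one_iff e.symm).mp h)
  · rw [Nat.card_congr e.toEquiv, Nat.card_eq_fintype_card]
    exact card_dec
  · intro x hx
    by_cases h1 : x = 1
    · exact Or.inl h1
    · exact Or.inr (orderOf_eq_prime hx h1)
  · intro x
    constructor
    · intro hodd
      have hcases : x ^ 2 = 1 ∨ x ^ 3 = 1 ∨ x ^ 5 = 1 := by
        rcases orders_dec (e x) with h | h | h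
        · left
          rw [← map_pow] at h
          exact (map_eq_one_iff' e _).mp h
        · right; left
          rw [← map_pow] at h
          exact (map_eq_one_iff' e _).mp h
        · right; right
          rw [← map_pow] at h
          exact (map_eq_one_iff' e _).mp h
      rcases hcases with h | h | h
      · have hd : orderOf x ∣ 2 := orderOf_dvd_of_pow_eq_one h
        have : orderOf x = 1 := by
          rcases (Nat.dvd_prime Nat.prime_two).mp hd with h1 | h2
          · exact h1
          · rw [h2] at hodd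
            exact absurd hodd (by decide)
        rw [orderOf_eq_one_iff] at this
        rw [this, one_pow]
      · have : x ^ 15 = (x ^ 3) ^ 5 := by rw [← pow_mul]
        rw [this, h, one_pow]
      · have : x ^ 15 = (x ^ 5) ^ 3 := by rw [← pow_mul]
        rw [this, h, one_pow]
    · intro h
      have hd : orderOf x ∣ 15 := orderOf_dvd_of_pow_eq_one h
      exact Odd.of_dvd_nat (by decide) hd

/-- FO-A5d: a normal subgroup of `A ≃* A₅` containing a non-identity element is everything. -/
theorem a5_simple {A : Type*} [Group A] (e : A ≃* alternatingGroup (Fin 5)) (N : Subgroup A)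
    (hN : N.Normal) (x : A) (hx : x ∈ N) (hx1 : x ≠ 1) : N = ⊤ := by
  have h5 : IsSimpleGroup (alternatingGroup (Fin 5)) :=
    alternatingGroup.isSimpleGroup (by rw [Nat.card_eq_fintype_card, Fintype.card_fin])
  have hA : IsSimpleGroup A := e.isSimpleGroup
  rcases hN.eq_bot_or_eq_top with h | h
  · exfalso
    rw [h, Subgroup.mem_bot] at hx
    exact hx1 hx
  · exact h

end Cfsg.Agent.Lib.Helper6.S3313A5
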