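import Mathlib
import Cfsg.Agent.Lib.Helper19.S3701Defs

/-!
# S3701 farm-out (architect helper19): FO-E1 Fourier inversion and Parseval on `𝔽₃³`
-/

set_option autoImplicit false

namespace Cfsg.Agent.Lib.Helper6.S3701FOE1

open Cfsg.Agent.Lib.Helper19.S3701
open scoped ComplexConjugate

theorem conj_ev_mul_ev (x z : V3) : conj (ev x z) * ev x z = 1 := by
  unfold ev
  rw [map_pow, conj_zeta3, ← mul_pow, ← pow_succ, zeta3_pow_three, one_pow]

theorem conj_ev_mul (x z y : V3) : conj (ev x z) * ev x y = ev x (y - z) := by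
  have h1 : ev x y = ev x (y - z) * ev x z := by
    rw [← ev_add_right, sub_add_cancel]
  rw [h1, mul_comm (ev x (y - z)), ← mul_assoc, conj_ev_mul_ev, one_mul]

theorem exists_ev_ne_one (u : V3) (hu : u ≠ 0) : ∃ a : V3, ev a u ≠ 1 := by
  have key : ∀ c : ZMod 3, c ≠ 0 → zeta3 ^ c.val ≠ 1 := by
    intro c hc h
    have h3 : c.val < 3 := ZMod.val_lt c
    have h0 : c.val ≠ 0 := fun h => hc ((ZMod.val_eq_zero c).mp h)
    have := zeta3_isPrimitiveRoot.pow_ne_one_of_pos_of_lt h0 h3
    exact this h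
  obtain ⟨u1, u2, u3⟩ := u
  by_cases h1 : u1 = 0
  · by_cases h2 : u2 = 0
    · have h3 : u3 ≠ 0 := by
        intro h3
        apply hu
        rw [h1, h2, h3]
        rfl
      refine ⟨(0, 0, 1), ?_⟩
      unfold ev dot3
      simp only [zero_mul, zero_add, one_mul]
      exact key u3 h3
    · refine ⟨(0, 1, 0), ?_⟩
      unfold ev dot3
      simp only [zero_mul, zero_add, one_mul, add_zero]
      exact key u2 h2
  · refine ⟨(1, 0, 0), ?_⟩
    unfold ev dot3
    simp only [zero_mul, one_mul, add_zero]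
    exact key u1 h1

/-- orthogonality: `∑ x, ev x u = 27 [u = 0]` -/
theorem sum_ev (u : V3) : ∑ x : V3, ev x u = if u = 0 then 27 else 0 := by
  split_ifs with hu
  · rw [hu]
    simp only [ev_zero_right, Finset.sum_const, Finset.card_univ]
    have : Fintype.card V3 = 27 := by
      simp [V3, Fintype.card_prod, ZMod.card]
    rw [this]
    simp
  · obtain ⟨a, ha⟩ := exists_ev_ne_one u hu
    have h1 : ∑ x : V3, ev x u = ev a u * ∑ x : V3, ev x u := by
      rw [Finset.mul_sum]
      rw [← Equiv.sum_comp (Equiv.addLeft a) (fun x => ev x u)]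
      apply Finset.sum_congr rfl
      intro x _
      simp only [Equiv.coe_addLeft]
      rw [ev_add_left]
    have h2 : (1 - ev a u) * ∑ x : V3, ev x u = 0 := by
      linear_combination h1
    rcases mul_eq_zero.mp h2 with h | h
    · exact absurd (sub_eq_zero.mp h).symm ha
    · exact h

/-- **FO-E1a** -/
theorem fourier_inv (f : V3 → ℂ) (y : V3) :
    ∑ x : V3, (∑ z : V3, f z * conj (ev x z)) * ev x y = 27 * f y := by
  have h1 : ∀ x : V3, (∑ z : V3, f z * conj (ev x z)) * ev x y =
      ∑ z : V3, f z * ev x (y - z) := by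
    intro x
    rw [Finset.sum_mul]
    apply Finset.sum_congr rfl
    intro z _
    rw [mul_assoc, conj_ev_mul]
  rw [Finset.sum_congr rfl (fun x _ => h1 x), Finset.sum_comm]
  have h2 : ∀ z : V3, ∑ x : V3, f z * ev x (y - z) = if z = y then 27 * f y else 0 := by
    intro z
    rw [← Finset.mul_sum, sum_ev]
    by_cases hz : z = y
    · rw [if_pos hz, if_pos (by rw [hz, sub_self]), hz]
      ring
    · rw [if_neg hz, if_neg (fun h => hz (sub_eq_zero.mp h).symm), mul_zero]
  rw [Finset.sum_congr rfl (fun z _ => h2 z), Finset.sum_ite_eq' Finset.univ y]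
  simp

/-- **FO-E1b** -/
theorem parseval (f : V3 → ℂ) :
    ∑ x : V3, Complex.normSq (∑ z : V3, f z * conj (ev x z))
      = 27 * ∑ y : V3, Complex.normSq (f y) := by
  apply Complex.ofReal_injective
  push_cast
  have h1 : ∀ x : V3, ((Complex.normSq (∑ z : V3, f z * conj (ev x z)) : ℝ) : ℂ) =
      ∑ y : V3, conj (f y) * ((∑ z : V3, f z * conj (ev x z)) * ev x y) := by
    intro x
    rw [← Complex.mul_conj, map_sum, Finset.mul_sum]
    apply Finset.sum_congr rfl
    intro y _
    rw [map_mul, Complex.conj_conj]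
    ring
  rw [Finset.sum_congr rfl (fun x _ => h1 x), Finset.sum_comm]
  rw [Finset.mul_sum]
  apply Finset.sum_congr rfl
  intro y _
  rw [← Finset.mul_sum, fourier_inv, ← Complex.mul_conj]
  ring

end Cfsg.Agent.Lib.Helper6.S3701FOE1
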