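import Mathlib
import Cfsg.Agent.Lib.Helper6.OrtS7

/-!
# Isometric involutions in odd characteristic fix nondegenerate subspaces of both signs
-/

set_option autoImplicit false

namespace Cfsg.Agent.Lib.Helper6.OrtS

open Module Submodule QuadraticMap Cfsg.Agent.Lib.Helper15.PSpI Cfsg.Agent.Lib.Helper14.OrthEven
  Cfsg.Agent.Lib.Helper15.PSpJ Cfsg.Agent.Lib.Helper15.PDec Cfsg.Agent.Lib.Helper15.PSub

universe u

section invol

variable {F : Type u} {V : Type*} [Field F] [Fintype F] [AddCommGroup V] [Module F V]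
  [FiniteDimensional F V]
variable (Q : QuadraticForm F V)

/-- an isometric involution with even dimensional fixed space fixes a nondegenerate subspace of
every small even dimension and every sign -/
theorem invol_fixes (h2 : (2 : F) ≠ 0) (hQ : NondegOn (polarBilin Q) ⊤) (y : V →ₗ[F] V)
    (hQy : ∀ v, Q (y v) = Q v) (hy : y ^ 2 = 1) (n : ℕ) (hn : finrank F V = n) (hne : Even n)
    (hfe : Even (finrank F (Module.End.eigenspace y 1)))
    (m : ℕ) (hm : Even m) (hm0 : 0 < m) (hm2 : 2 * m < n) (η : ℤ) (hη : η = 1 ∨ η = -1) :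
    ∃ W : Submodule F V, finrank F W = m ∧ NondegOn (polarBilin Q) W ∧ SgnOn Q W η ∧
      W.map y ≤ W := by
  have hS := pB_symm Q
  have hiso := iso_of_Q Q y hQy
  have hr0 : ((2 : ℕ) : F) ≠ 0 := by rw [Nat.cast_ofNat]; exact h2
  have hinj : Function.Injective y :=
    injective_of_pow_eq_smul y 2 1 one_ne_zero (by rw [hy, one_smul]) (by norm_num)
  have htop : (⊤ : Submodule F V).map y = ⊤ :=
    map_eq_of_invt y hinj ⊤ (by
      rw [Module.End.mem_invtSubmodule_iff_map_le]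
      exact le_top)
  obtain ⟨hKx, hKn, hKE, hdim, hsup, hCK⟩ :=
    movPart_props' hS y hiso 2 (by norm_num) hr0 hy ⊤ htop hQ
  have hEn := nondegOn_fixed y hiso 2 hr0 hy ⊤ htop hQ
  rw [top_inf_eq] at hdim hEn
  rw [finrank_top, hn] at hdim
  have hyy : ∀ v, y (y v) = v := by
    intro v
    have := LinearMap.congr_fun hy v
    rw [pow_two] at this
    exact this
  obtain ⟨e, he⟩ : ∃ e, e = finrank F (Module.End.eigenspace y 1) := ⟨_, rfl⟩
  obtain ⟨k, hk⟩ : ∃ k, k = finrank F (movPart (polarBilin Q) y ⊤) := ⟨_, rfl⟩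
  rw [← he] at hfe hdim
  rw [← hk] at hdim
  obtain ⟨e', he'⟩ := hfe
  obtain ⟨n', hn'⟩ := hne
  obtain ⟨m', hm'⟩ := hm
  by_cases hem : m < e
  · rcases sgnOn_cases Q hEn e' (by omega) with hκ | hκ
    · obtain ⟨W, hWE, hWn, hWf, hWs⟩ := exists_sub Q _ hEn e he.symm ⟨e', he'⟩ 1 (Or.inl rfl) hκ m
        ⟨m', hm'⟩ η hη ⟨hem.le, fun h => by omega, fun h => by omega⟩
      refine ⟨W, hWf, hWn, hWs, ?_⟩
      rintro _ ⟨w, hw, rfl⟩
      have h1 := hWE hw
      rw [Module.End.mem_eigenspace_iff, one_smul] at h1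
      rw [h1]
      exact hw
    · obtain ⟨W, hWE, hWn, hWf, hWs⟩ := exists_sub Q _ hEn e he.symm ⟨e', he'⟩ (-1) (Or.inr rfl) hκ
        m ⟨m', hm'⟩ η hη ⟨hem.le, fun h => by omega, fun h => by omega⟩
      refine ⟨W, hWf, hWn, hWs, ?_⟩
      rintro _ ⟨w, hw, rfl⟩
      have h1 := hWE hw
      rw [Module.End.mem_eigenspace_iff, one_smul] at h1
      rw [h1]
      exact hw
  · have hkm : m < k := by omega
    have hneg : ∀ v ∈ movPart (polarBilin Q) y ⊤, y v = -v := by
      intro v hv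
      have h1 : y v + v ∈ movPart (polarBilin Q) y ⊤ ⊓ Module.End.eigenspace y 1 := by
        rw [Submodule.mem_inf]
        refine ⟨Submodule.add_mem _ ?_ hv, ?_⟩
        · rw [← hKx]
          exact ⟨v, hv, rfl⟩
        · rw [Module.End.mem_eigenspace_iff, one_smul, map_add, hyy]
          abel
      rw [hKE] at h1
      exact eq_neg_of_add_eq_zero_left ((mem_bot F).mp h1)
    have hkev : Even k := ⟨n' - e', by omega⟩
    obtain ⟨k', hk'⟩ := hkev
    have key : ∀ κ : ℤ, (κ = 1 ∨ κ = -1) → SgnOn Q (movPart (polarBilin Q) y ⊤) κ →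
        ∃ W : Submodule F V, finrank F W = m ∧ NondegOn (polarBilin Q) W ∧ SgnOn Q W η ∧
          W.map y ≤ W := by
      intro κ hκ1 hκ
      obtain ⟨W, hWE, hWn, hWf, hWs⟩ := exists_sub Q _ hKn k hk.symm ⟨k', hk'⟩ κ hκ1 hκ m
        ⟨m', hm'⟩ η hη ⟨hkm.le, fun h => by omega, fun h => by omega⟩
      refine ⟨W, hWf, hWn, hWs, ?_⟩
      rintro _ ⟨w, hw, rfl⟩
      rw [hneg w (hWE hw)]
      exact W.neg_mem hw
    rcases sgnOn_cases Q hKn k' (by omega) with hκ | hκ
    · exact key 1 (Or.inl rfl) hκ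
    · exact key (-1) (Or.inr rfl) hκ

end invol

end Cfsg.Agent.Lib.Helper6.OrtS
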