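import Mathlib
import Cfsg.Agent.Lib.Helper6.OmegaList

/-!
# Elements of `Ω(Q)` have a fixed space of the same parity as the dimension (all characteristics)
-/

set_option autoImplicit false

namespace Cfsg.Agent.Lib.Helper6.OrtS

open Module Matrix Cfsg.Agent.Lib.Helper6 Cfsg.Agent.Lib.Helper14 Cfsg.Agent.S0792

section
variable {F : Type*} [Field F] [Fintype F] {ι : Type} [Fintype ι] [DecidableEq ι]
  (Q : QuadraticForm F (ι → F))

/-- the dimension of the fixed space of an element of `Ω(Q)` has the parity of `dim V` -/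
theorem even_fix_of_mem_Omega (hQ : (QuadraticMap.polarBilin Q).Nondegenerate)
    (h : Fintype.card F ≠ 2 ∨ Fintype.card ι ≠ 4) (g : ↥(Cfsg.isometryGroup F ⇑Q))
    (hg : g ∈ Cfsg.Omega F ⇑Q) :
    Even (Fintype.card ι +
      finrank F (Module.End.eigenspace (Matrix.toLin' ((g.1 : GL ι F) : Matrix ι ι F)) 1)) := by
  classical
  have hQ' := nondegenerate_transfer Q (QFin Q) (reIdx F ι) (QFin_apply Q) hQ
  have htop := Cfsg.Agent.S0786.closure_Rset_eq_top (QFin Q) hQ' h
  have hg' : isoFin Q g ∈ Cfsg.Omega F ⇑(QFin Q) :=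
    (mem_commutator_iff_of_bijective (isoFin Q) (isoFin_bijective Q) g).mp hg
  have h1 : dsgn (QFin Q) hQ' htop (isoFin Q g) = 1 :=
    Abelianization.commutator_subset_ker (dsgn (QFin Q) hQ' htop) hg'
  rw [dsgn_apply, neg_one_pow_eq_one_iff_even (by decide)] at h1
  have h2 : finrank F ↥(fixSp (imat (QFin Q) (isoFin Q g))) =
      finrank F (Module.End.eigenspace (Matrix.toLin' ((g.1 : GL ι F) : Matrix ι ι F)) 1) := by
    rw [isoFin_val]
    have h3 : fixSp (matCongr (reIdx F ι) ((g.1 : GL ι F) : Matrix ι ι F)) =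
        (Module.End.eigenspace (Matrix.toLin' ((g.1 : GL ι F) : Matrix ι ι F)) 1).map
          (reIdx F ι).toLinearMap := by
      ext x
      rw [mem_fixSp, Submodule.mem_map]
      constructor
      · intro hx
        refine ⟨(reIdx F ι).symm x, ?_, by simp⟩
        rw [Module.End.mem_eigenspace_iff, one_smul, Matrix.toLin'_apply]
        apply (reIdx F ι).injective
        rw [← matCongr_mulVec, LinearEquiv.apply_symm_apply]
        exact hx
      · rintro ⟨y, hy, rfl⟩
        rw [Module.End.mem_eigenspace_iff, one_smul, Matrix.toLin'_apply] at hy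
        change matCongr (reIdx F ι) _ *ᵥ (reIdx F ι) y = (reIdx F ι) y
        rw [matCongr_mulVec, hy]
    rw [h3]
    exact LinearEquiv.finrank_map_eq (reIdx F ι) _
  rw [h2] at h1
  exact h1

end

end Cfsg.Agent.Lib.Helper6.OrtS
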