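import Mathlib
import Cfsg.Agent.Lib.Helper6.OrtT3
import Cfsg.Agent.Lib.Helper6.Spinor3

/-!
# Isometries with `x ^ 2 = -1` as products of reflections; membership in `Ω`
-/

set_option autoImplicit false

namespace Cfsg.Agent.Lib.Helper6.OrtS

open Module Submodule QuadraticMap Matrix Cfsg.Agent.Lib.Helper15.PSpI
  Cfsg.Agent.Lib.Helper14.OrthEven
  Cfsg.Agent.Lib.Helper15.PSpJ Cfsg.Agent.Lib.Helper15.PDec Cfsg.Agent.Lib.Helper15.PSub

universe u

section

variable {F : Type u} [Field F] [Fintype F] {ι : Type} [Fintype ι] [DecidableEq ι]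
variable (Q : QuadraticForm F (ι → F))

omit [Fintype F] in
/-- the product of two reflections rotating the plane `⟨v, Mv⟩` -/
theorem two_refl (h2 : (2 : F) ≠ 0) (v w : ι → F) (hv : Q v ≠ 0) (hw : Q w = Q v)
    (hvw : polar ⇑Q v w = 0) :
    (Cfsg.reflectionMatrix ⇑Q w * Cfsg.reflectionMatrix ⇑Q (v + w)) *ᵥ v = w ∧
    (Cfsg.reflectionMatrix ⇑Q w * Cfsg.reflectionMatrix ⇑Q (v + w)) *ᵥ w = -v ∧
    ∀ y, polar ⇑Q v y = 0 → polar ⇑Q w y = 0 →
      (Cfsg.reflectionMatrix ⇑Q w * Cfsg.reflectionMatrix ⇑Q (v + w)) *ᵥ y = y := by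
  have hQb : Q (v + w) = 2 * Q v := by
    rw [QuadraticMap.map_add Q v w, hw, hvw]; ring
  have hwv : polar ⇑Q w v = 0 := by rw [polar_comm]; exact hvw
  have hvv : polar ⇑Q v v = 2 * Q v := by rw [polar_self, nsmul_eq_mul, Nat.cast_ofNat]
  have hww : polar ⇑Q w w = 2 * Q v := by rw [polar_self, nsmul_eq_mul, Nat.cast_ofNat, hw]
  have h2c : (2 * Q v) ≠ 0 := mul_ne_zero h2 hv
  have hb1 : Cfsg.reflectionMatrix ⇑Q (v + w) *ᵥ v = -w := by
    rw [reflectionMatrix_mulVec, polar_add_left, hvv, hwv, add_zero, hQb, inv_mul_cancel₀ h2c,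
      one_smul]
    abel
  have hb2 : Cfsg.reflectionMatrix ⇑Q (v + w) *ᵥ w = -v := by
    rw [reflectionMatrix_mulVec, polar_add_left, hvw, hww, zero_add, hQb, inv_mul_cancel₀ h2c,
      one_smul]
    abel
  have ha1 : Cfsg.reflectionMatrix ⇑Q w *ᵥ v = v := by
    rw [reflectionMatrix_mulVec, hwv, mul_zero, zero_smul, sub_zero]
  have ha2 : Cfsg.reflectionMatrix ⇑Q w *ᵥ w = -w := by
    rw [reflectionMatrix_mulVec, hww, hw]
    have : (Q v)⁻¹ * (2 * Q v) = 2 := by field_simp
    rw [this, two_smul]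
    abel
  refine ⟨?_, ?_, ?_⟩
  · rw [← mulVec_mulVec, hb1, mulVec_neg, ha2, neg_neg]
  · rw [← mulVec_mulVec, hb2, mulVec_neg, ha1]
  · intro y hy1 hy2
    rw [← mulVec_mulVec, reflectionMatrix_mulVec Q (v + w), polar_add_left, hy1, hy2, add_zero,
      mul_zero, zero_smul, sub_zero, reflectionMatrix_mulVec, hy2, mul_zero, zero_smul, sub_zero]

/-- an isometry with square `-1` restricted to an invariant nondegenerate subspace of dimension
`2a` is a product of `2a` reflections whose norms multiply to `2 ^ a` times a square -/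
theorem refl_list_of_sq_neg (h2 : (2 : F) ≠ 0) (M : Matrix ι ι F)
    (hQM : ∀ v, Q (M *ᵥ v) = Q v) (hM : ∀ v, M *ᵥ (M *ᵥ v) = -v) :
    ∀ a, ∀ V' : Submodule F (ι → F), V'.map (Matrix.toLin' M) ≤ V' →
      NondegOn (polarBilin Q) V' → finrank F V' = 2 * a →
      ∃ vs : List (ι → F), (∀ v ∈ vs, Q v ≠ 0) ∧ vs.length = 2 * a ∧
        (∃ c, (vs.map (fun v => Q v)).prod = 2 ^ a * (c * c)) ∧
        (∀ w ∈ V', (vs.map (fun v => Cfsg.reflectionMatrix ⇑Q v)).prod *ᵥ w = M *ᵥ w) ∧
        (∀ w, (∀ u ∈ V', polarBilin Q u w = 0) →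
          (vs.map (fun v => Cfsg.reflectionMatrix ⇑Q v)).prod *ᵥ w = w) := by
  have hS := pB_symm Q
  have hQx : ∀ v, Q (Matrix.toLin' M v) = Q v := fun v => by rw [Matrix.toLin'_apply]; exact hQM v
  have hx : ∀ v, Matrix.toLin' M (Matrix.toLin' M v) = -v := fun v => by
    rw [Matrix.toLin'_apply, Matrix.toLin'_apply]; exact hM v
  intro a
  induction a with
  | zero =>
    intro V' _ _ hf
    have hb : V' = ⊥ := Submodule.finrank_eq_zero.mp (by rw [hf])
    refine ⟨[], by simp, rfl, ⟨1, by simp⟩, ?_, ?_⟩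
    · intro w hw
      rw [hb] at hw
      rw [(mem_bot F).mp hw]
      simp
    · intro w _
      simp
  | succ a ih =>
    intro V' hV'x hV'n hf
    have hb : V' ≠ ⊥ := by
      rintro rfl
      rw [finrank_bot] at hf
      omega
    have hxV' : ∀ w ∈ V', M *ᵥ w ∈ V' := fun w hw => by
      have := hV'x ⟨w, hw, rfl⟩
      rwa [Matrix.toLin'_apply] at this
    have hex : ∃ v ∈ V', Q v ≠ 0 := by
      by_contra hcon
      push Not at hcon
      obtain ⟨v, hv, hv0⟩ := Submodule.exists_mem_ne_zero_of_ne_bot hb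
      apply hv0
      apply hV'n v hv
      intro w hw
      rw [pB_apply]
      unfold polar
      rw [hcon _ (V'.add_mem hv hw), hcon v hv, hcon w hw]
      simp
    obtain ⟨v, hvV, hc⟩ := hex
    have hvx : polar ⇑Q v (M *ᵥ v) = 0 := by
      have := polar_self_map Q (Matrix.toLin' M) h2 hQx hx v
      rwa [pB_apply, Matrix.toLin'_apply] at this
    have hxvv : polar ⇑Q (M *ᵥ v) v = 0 := by rw [polar_comm]; exact hvx
    have hvv : polar ⇑Q v v = 2 * Q v := by rw [polar_self, nsmul_eq_mul, Nat.cast_ofNat]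
    have hww : polar ⇑Q (M *ᵥ v) (M *ᵥ v) = 2 * Q v := by
      rw [polar_self, nsmul_eq_mul, Nat.cast_ofNat, hQM]
    have h2c : (2 * Q v) ≠ 0 := mul_ne_zero h2 hc
    -- the plane
    obtain ⟨P, hP⟩ : ∃ P, P = span F {v, M *ᵥ v} := ⟨_, rfl⟩
    have hPV : P ≤ V' := by
      rw [hP, span_le]
      rintro u (rfl | rfl)
      · exact hvV
      · exact hxV' _ hvV
    have hPx : P.map (Matrix.toLin' M) ≤ P := by
      rw [hP, Submodule.map_span_le]
      rintro u hu
      rcases hu with rfl | rfl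
      · rw [Matrix.toLin'_apply]
        exact subset_span (by simp)
      · rw [Matrix.toLin'_apply, hM]
        exact Submodule.neg_mem _ (subset_span (by simp))
    have hcoef : ∀ α β : F, (∀ u ∈ P, polarBilin Q (α • v + β • M *ᵥ v) u = 0) →
        α = 0 ∧ β = 0 := by
      intro α β h0
      have h1 := h0 v (by rw [hP]; exact subset_span (by simp))
      have h3 := h0 (M *ᵥ v) (by rw [hP]; exact subset_span (by simp))
      rw [pB_apply, polar_add_left, polar_smul_left, polar_smul_left, smul_eq_mul,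
        smul_eq_mul] at h1 h3
      rw [hvv, hxvv] at h1
      rw [hvx, hww] at h3
      constructor
      · have : α * (2 * Q v) = 0 := by linear_combination h1
        exact (mul_eq_zero.mp this).resolve_right h2c
      · have : β * (2 * Q v) = 0 := by linear_combination h3
        exact (mul_eq_zero.mp this).resolve_right h2c
    have hPn : NondegOn (polarBilin Q) P := by
      intro u hu h0
      have hu' := hu
      rw [hP] at hu'
      obtain ⟨α, β, rfl⟩ := mem_span_pair.mp hu'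
      obtain ⟨ha, hb'⟩ := hcoef α β h0
      rw [ha, hb']
      simp
    have hind : ∀ α β : F, α • v + β • M *ᵥ v = 0 → α = 0 ∧ β = 0 := by
      intro α β hab
      apply hcoef
      intro u _
      rw [hab]
      simp
    have hP2 : finrank F P = 2 := by rw [hP]; exact finrank_span_pair' hind
    have hV''x := perpIn_invt Q (Matrix.toLin' M) hQx hx V' P hV'x hPx
    have hV''n := nondegOn_perpIn' hS hPV hPn hV'n
    have hfr := finrank_perpIn' hS hPV hPn (V' := V')
    obtain ⟨vs, hvs, hlen, ⟨c, hc'⟩, hact, hfix⟩ := ih _ hV''x hV''n (by omega)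
    have hQMv : Q (M *ᵥ v) ≠ 0 := by rw [hQM]; exact hc
    have hQb : Q (v + M *ᵥ v) = 2 * Q v := by
      rw [QuadraticMap.map_add Q v (M *ᵥ v), hQM, hvx]; ring
    obtain ⟨hr1, hr2, hr3⟩ := two_refl Q h2 v (M *ᵥ v) hc (hQM v) hvx
    refine ⟨(M *ᵥ v) :: (v + M *ᵥ v) :: vs, ?_, ?_, ⟨Q v * c, ?_⟩, ?_, ?_⟩
    · intro u hu
      rcases List.mem_cons.mp hu with rfl | hu
      · exact hQMv
      rcases List.mem_cons.mp hu with rfl | hu
      · rw [hQb]; exact h2c
      · exact hvs u hu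
    · simp only [List.length_cons, hlen]
      ring
    · simp only [List.map_cons, List.prod_cons, hc', hQM, hQb]
      ring
    · intro w hw
      rw [← sup_perpIn' hS hPV hPn] at hw
      obtain ⟨p, hp, w'', hw'', rfl⟩ := mem_sup.mp hw
      have hp' := hp
      rw [hP] at hp'
      obtain ⟨α, β, rfl⟩ := mem_span_pair.mp hp'
      simp only [List.map_cons, List.prod_cons]
      rw [← Matrix.mul_assoc, ← mulVec_mulVec, mulVec_add, hact w'' hw'']
      have hpfix := hfix (α • v + β • M *ᵥ v) (fun u hu => by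
        rw [hS]
        exact (mem_perpIn.mp hu).2 _ hp)
      rw [hpfix, mulVec_add, mulVec_add, mulVec_smul, mulVec_smul, hr1, hr2]
      have hMw'' : M *ᵥ w'' ∈ perpIn (polarBilin Q) V' P := by
        have := hV''x ⟨w'', hw'', rfl⟩
        rwa [Matrix.toLin'_apply] at this
      have h5 := (mem_perpIn.mp hMw'').2
      rw [hr3 (M *ᵥ w'') (h5 v (by rw [hP]; exact subset_span (by simp)))
        (h5 (M *ᵥ v) (by rw [hP]; exact subset_span (by simp)))]
      rw [mulVec_add, mulVec_add, mulVec_smul, mulVec_smul, hM]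
      try (simp only [smul_neg]; abel)
    · intro w hw
      simp only [List.map_cons, List.prod_cons]
      rw [← Matrix.mul_assoc, ← mulVec_mulVec]
      rw [hfix w (fun u hu => hw u (perpIn_le V' P hu))]
      exact hr3 w (hw v hvV) (hw (M *ᵥ v) (hxV' v hvV))

/-- an isometry with square `-1` lies in `Ω` iff `2 ^ d` is a square -/
theorem sq_neg_mem_Omega_iff (h2 : (2 : F) ≠ 0) (hQ : (polarBilin Q).Nondegenerate) (d : ℕ)
    (hd : 1 ≤ d) (hcard : Fintype.card ι = 2 * d) (g : ↥(Cfsg.isometryGroup F ⇑Q))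
    (hg : ∀ v, ((g.1 : GL ι F) : Matrix ι ι F) *ᵥ (((g.1 : GL ι F) : Matrix ι ι F) *ᵥ v) = -v) :
    g ∈ Cfsg.Omega F ⇑Q ↔ IsSquare ((2 : F) ^ d) := by
  classical
  have hQM : ∀ v, Q (((g.1 : GL ι F) : Matrix ι ι F) *ᵥ v) = Q v :=
    (OmegaAut.mem_isometryGroup_iff Q g.1).mp g.2
  obtain ⟨vs, hvs, hlen, ⟨c, hc⟩, hact, -⟩ := refl_list_of_sq_neg Q h2 _ hQM hg d ⊤
    le_top (fun u _ h0 => hQ.1 u (fun v => h0 v mem_top)) (by rw [finrank_top, Module.finrank_fintype_fun_eq_card, hcard])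
  have hmat : ((g.1 : GL ι F) : Matrix ι ι F) =
      (vs.map (fun v => Cfsg.reflectionMatrix ⇑Q v)).prod := by
    apply matrix_ext_mulVec
    intro w
    rw [hact w mem_top]
  rw [mem_Omega_iff_list' Q h2 hQ (by omega) g vs hvs hmat, hlen, hc]
  have hc0 : c ≠ 0 := by
    rintro rfl
    rw [mul_zero, mul_zero] at hc
    have := List.prod_eq_zero_iff.mp hc
    obtain ⟨v, hv, hv0⟩ := List.mem_map.mp this
    exact hvs v hv hv0
  constructor
  · rintro ⟨-, s, hs⟩
    refine ⟨s / c, ?_⟩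
    field_simp
    linear_combination hs
  · rintro ⟨s, hs⟩
    exact ⟨even_two_mul d, s * c, by rw [hs]; ring⟩

end

end Cfsg.Agent.Lib.Helper6.OrtS
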