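import Mathlib
import Cfsg.Agent.Lib.Helper6.OrtT4
import Cfsg.Agent.Lib.Helper6.LamDiag

/-!
# Isometries of the plus type form with square `-1`
-/

set_option autoImplicit false

namespace Cfsg.Agent.Lib.Helper6.OrtS

open Module Matrix Cfsg.Agent.Lib.Helper15

universe u

section
variable (F : Type u) [Field F] (d : ℕ)

/-- `diag(J, J)` with `J = AltM` -/
def XJ : Matrix (Fin d ⊕ Fin d) (Fin d ⊕ Fin d) F := fromBlocks (AltM F d) 0 0 (AltM F d)

theorem XJ_mulVec_inl (v : Fin d ⊕ Fin d → F) (i : Fin d) :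
    (XJ F d *ᵥ v) (Sum.inl i) = sg F d i * v (Sum.inl (Fin.rev i)) := by
  rw [XJ, fromBlocks_mulVec]
  simp only [Sum.elim_inl, Pi.add_apply, zero_mulVec, Pi.zero_apply, add_zero]
  rw [AltM_mulVec]
  rfl

theorem XJ_mulVec_inr (v : Fin d ⊕ Fin d → F) (i : Fin d) :
    (XJ F d *ᵥ v) (Sum.inr i) = sg F d i * v (Sum.inr (Fin.rev i)) := by
  rw [XJ, fromBlocks_mulVec]
  simp only [Sum.elim_inr, Pi.add_apply, zero_mulVec, Pi.zero_apply, zero_add]
  rw [AltM_mulVec]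
  rfl

theorem rev_ne_of_even (hd : Even d) (i : Fin d) : Fin.rev i ≠ i := by
  intro h
  have := congrArg Fin.val h
  rw [Fin.val_rev] at this
  obtain ⟨k, hk⟩ := hd
  omega

theorem XJ_sq (hd : Even d) (v : Fin d ⊕ Fin d → F) : XJ F d *ᵥ (XJ F d *ᵥ v) = -v := by
  funext j
  rcases j with i | i
  · rw [XJ_mulVec_inl, XJ_mulVec_inl, Fin.rev_rev, sg_rev, Pi.neg_apply]
    have := sg_mul_self F d i (rev_ne_of_even d hd i)
    linear_combination (-(v (Sum.inl i))) * this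
  · rw [XJ_mulVec_inr, XJ_mulVec_inr, Fin.rev_rev, sg_rev, Pi.neg_apply]
    have := sg_mul_self F d i (rev_ne_of_even d hd i)
    linear_combination (-(v (Sum.inr i))) * this

theorem XJ_pres (hd : Even d) (v : Fin d ⊕ Fin d → F) :
    Cfsg.quadFormPlus d F (XJ F d *ᵥ v) = Cfsg.quadFormPlus d F v := by
  unfold Cfsg.quadFormPlus
  have h1 : ∀ i : Fin d, (XJ F d *ᵥ v) (Sum.inl i) * (XJ F d *ᵥ v) (Sum.inr i) =
      v (Sum.inl (Fin.rev i)) * v (Sum.inr (Fin.rev i)) := by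
    intro i
    rw [XJ_mulVec_inl, XJ_mulVec_inr]
    have := sg_mul_self F d i (rev_ne_of_even d hd i)
    linear_combination (v (Sum.inl (Fin.rev i)) * v (Sum.inr (Fin.rev i))) * this
  rw [Finset.sum_congr rfl (fun i _ => h1 i)]
  exact Equiv.sum_comp Fin.revPerm (fun i => v (Sum.inl i) * v (Sum.inr i))

theorem XJ_mul_neg (hd : Even d) : XJ F d * (-XJ F d) = 1 := by
  apply matrix_ext_mulVec
  intro v
  rw [← mulVec_mulVec, neg_mulVec, mulVec_neg, XJ_sq F d hd, neg_neg, one_mulVec]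

theorem neg_XJ_mul (hd : Even d) : (-XJ F d) * XJ F d = 1 := by
  apply matrix_ext_mulVec
  intro v
  rw [← mulVec_mulVec, neg_mulVec, XJ_sq F d hd, neg_neg, one_mulVec]

end

section
variable {F : Type u} [Field F]

/-- for `d` even there is an isometry of the plus form with square `-1` -/
theorem exists_sq_neg_of_even (d : ℕ) (hd : Even d) :
    ∃ g : ↥(Cfsg.isometryGroup F ⇑(QPlus F d)), ∀ v,
      ((g.1 : GL (Fin d ⊕ Fin d) F) : Matrix (Fin d ⊕ Fin d) (Fin d ⊕ Fin d) F) *ᵥ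
        (((g.1 : GL (Fin d ⊕ Fin d) F) : Matrix (Fin d ⊕ Fin d) (Fin d ⊕ Fin d) F) *ᵥ v) = -v := by
  let x : GL (Fin d ⊕ Fin d) F := ⟨XJ F d, -XJ F d, XJ_mul_neg F d hd, neg_XJ_mul F d hd⟩
  have hx : x ∈ Cfsg.isometryGroup F ⇑(QPlus F d) := by
    rw [OmegaAut.mem_isometryGroup_iff]
    intro u
    rw [QPlus_apply, QPlus_apply]
    exact XJ_pres F d hd u
  exact ⟨⟨x, hx⟩, fun v => XJ_sq F d hd v⟩

/-- if `-1` is a square there is an isometry of the plus form with square `-1` -/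
theorem exists_sq_neg_of_split [Fintype F] (h2 : (2 : F) ≠ 0) (d : ℕ) (hd : 1 ≤ d) (i : F)
    (hi : i * i = -1) :
    ∃ g : ↥(Cfsg.isometryGroup F ⇑(QPlus F d)), ∀ v,
      ((g.1 : GL (Fin d ⊕ Fin d) F) : Matrix (Fin d ⊕ Fin d) (Fin d ⊕ Fin d) F) *ᵥ
        (((g.1 : GL (Fin d ⊕ Fin d) F) : Matrix (Fin d ⊕ Fin d) (Fin d ⊕ Fin d) F) *ᵥ v) = -v := by
  classical
  have hi0 : i ≠ 0 := by
    rintro rfl
    simp at hi
  obtain ⟨g, hg, -⟩ := LamDiag.exists_lamDiag F d h2 hd i hi0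
  refine ⟨g, fun v => ?_⟩
  rw [hg, mulVec_mulVec, diagonal_mul_diagonal]
  funext k
  rw [mulVec_diagonal]
  rcases k with j | j
  · simp only [Sum.elim_inl, Pi.neg_apply]
    rw [hi]
    ring
  · simp only [Sum.elim_inr, Pi.neg_apply]
    have : i⁻¹ * i⁻¹ = -1 := by
      rw [← mul_inv, hi]
      norm_num
    rw [this]
    ring

end

end Cfsg.Agent.Lib.Helper6.OrtS
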