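import Mathlib
import Cfsg.Agent.Lib.Helper6.OrtT1
import Cfsg.Agent.Lib.Helper6.OrtT2
import Cfsg.Agent.Lib.Helper6.OrtT6
import Cfsg.Agent.Lib.Helper6.OrtT7
import Cfsg.Agent.Lib.Helper6.OrtP1

/-!
# `Ω⁺_{2d}(q)`, `q` odd: elements with scalar square and nondegenerate subspaces of given sign
-/

set_option autoImplicit false

namespace Cfsg.Agent.Lib.Helper6.OrtS

open Module Submodule QuadraticMap Matrix Cfsg.Agent.Lib.Helper15.PSpI
  Cfsg.Agent.Lib.Helper14.OrthEven
  Cfsg.Agent.Lib.Helper15.PSpJ Cfsg.Agent.Lib.Helper15.PDec Cfsg.Agent.Lib.Helper15.PSub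
  Cfsg.Agent.Lib.Helper15

universe u

section abs

variable {F : Type u} {V : Type*} [Field F] [Fintype F] [AddCommGroup V] [Module F V]
  [FiniteDimensional F V]
variable (Q : QuadraticForm F V) (x : V →ₗ[F] V)

/-- an isometry with square `-1` fixes a nondegenerate `2a`-space of sign `η` iff `η = σ ^ a` -/
theorem sq_neg_fix_iff (hQx : ∀ v, Q (x v) = Q v) (hx : ∀ v, x (x v) = -v) (σ : ℤ)
    (hpick : PlanePick Q x σ) (hQ : NondegOn (polarBilin Q) ⊤) (a : ℕ)
    (hmn : 2 * a ≤ finrank F V) (η : ℤ) :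
    (∃ W : Submodule F V, W ∈ NSet Q (2 * a) η ∧ W.map x ≤ W) ↔ η = σ ^ a := by
  constructor
  · rintro ⟨W, ⟨hWf, hWn, hWs⟩, hWx⟩
    obtain ⟨a', ha', hs⟩ := sign_of_invt Q x hQx hx σ hpick (2 * a) W hWx hWn hWf
    have : a' = a := by omega
    subst this
    exact SgnOn.unique Q hWs hs
  · intro hη
    obtain ⟨W, -, hWx, hWn, hWf⟩ := exists_invt Q x hQx hx σ hpick a ⊤ le_top hQ
      (by rw [finrank_top]; exact hmn)
    obtain ⟨a', ha', hs⟩ := sign_of_invt Q x hQx hx σ hpick (2 * a) W hWx hWn hWf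
    have : a' = a := by omega
    subst this
    rw [← hη] at hs
    exact ⟨W, ⟨hWf, hWn, hs⟩, hWx⟩

end abs

section mat

variable {F : Type u} [Field F] [Fintype F]

theorem isSquare_two_pow_iff (h2 : (2 : F) ≠ 0) (d : ℕ) :
    IsSquare ((2 : F) ^ d) ↔ (Even d ∨ IsSquare (2 : F)) := by
  classical
  by_cases h : IsSquare (2 : F)
  · constructor
    · intro _
      exact Or.inr h
    · intro _
      exact h.pow d
  · rw [LamDiag.isSquare_pow_iff F d 2 h h2]
    constructor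
    · intro h'
      exact Or.inl h'
    · rintro (h' | h')
      · exact h'
      · exact absurd h' h

/-- the numerical condition for the existence of an element of `Ω⁺_{2d}(q)` with square `-1` -/
def Good (q d : ℕ) : Prop :=
  (q % 4 = 1 ∨ Even d) ∧ (Even d ∨ q % 8 = 1 ∨ q % 8 = 7)

/-- **`r = 2`, `q` odd**: all elements of `Ω⁺_{2d}(q)` with scalar square fix a nondegenerate
`m`-space of sign `η`, iff ... -/
theorem two_plus_iff (h2 : (2 : F) ≠ 0) (d : ℕ) (hd : 4 ≤ d) (a : ℕ) (ha : 1 ≤ a)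
    (hmd : 2 * a < d) (η : ℤ) (hη : η = 1 ∨ η = -1) :
    (∀ x : GL (Fin d ⊕ Fin d) F, x ∈ Cfsg.Geo.omegaGL (Cfsg.quadFormPlus d F) →
      (∃ z : F, ((x ^ 2 : GL (Fin d ⊕ Fin d) F) : Matrix (Fin d ⊕ Fin d) (Fin d ⊕ Fin d) F) =
        z • (1 : Matrix (Fin d ⊕ Fin d) (Fin d ⊕ Fin d) F)) →
      (∀ z : F, (x : Matrix (Fin d ⊕ Fin d) (Fin d ⊕ Fin d) F) ≠
        z • (1 : Matrix (Fin d ⊕ Fin d) (Fin d ⊕ Fin d) F)) →
      ∃ W : Submodule F (Fin d ⊕ Fin d → F), W ∈ NSet (QPlus F d) (2 * a) η ∧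
        W.map (Matrix.toLin' (x : Matrix (Fin d ⊕ Fin d) (Fin d ⊕ Fin d) F)) ≤ W) ↔
    (¬ Good (Fintype.card F) d ∨
      η = (if Fintype.card F % 4 = 1 then (1 : ℤ) else -1) ^ a) := by
  classical
  obtain ⟨q, hq⟩ : ∃ q, q = Fintype.card F := ⟨_, rfl⟩
  rw [← hq]
  have hchar : ringChar F ≠ 2 := by
    intro h
    apply h2
    have := ringChar.Nat.cast_ringChar (R := F)
    rw [h] at this
    exact_mod_cast this
  have hqodd : q % 2 = 1 := by
    rw [hq]; exact FiniteField.odd_card_of_char_ne_two hchar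
  have hQ := nondegenerate_QPlus F d
  have hQt := nondegOn_top_of (QPlus F d) hQ
  have hcard : Fintype.card (Fin d ⊕ Fin d) = 2 * d := by simp [two_mul]
  have hfr : finrank F (Fin d ⊕ Fin d → F) = 2 * d := by
    rw [Module.finrank_fintype_fun_eq_card, hcard]
  have hsplit : (∃ i : F, i * i = -1) ↔ q % 4 = 1 := by
    have h1 := FiniteField.isSquare_neg_one_iff (F := F)
    rw [← hq] at h1
    constructor
    · rintro ⟨i, hi⟩
      have := h1.mp ⟨i, hi.symm⟩
      omega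
    · intro h
      obtain ⟨i, hi⟩ := h1.mpr (by omega)
      exact ⟨i, hi.symm⟩
  have hnsp : q % 4 ≠ 1 → ∀ a b : F, a * a + b * b = 0 → a = 0 ∧ b = 0 := by
    intro hq4 a b hab
    by_cases hb : b = 0
    · subst hb
      simp at hab
      exact ⟨hab, rfl⟩
    · exfalso
      apply hq4
      apply hsplit.mp
      refine ⟨a / b, ?_⟩
      field_simp
      linear_combination hab
  have hsq2 : IsSquare (2 : F) ↔ (q % 8 = 1 ∨ q % 8 = 7) := by
    have h1 := FiniteField.isSquare_two_iff (F := F)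
    rw [← hq] at h1
    rw [h1]
    omega
  obtain ⟨σ, hσ⟩ : ∃ σ : ℤ, σ = if q % 4 = 1 then (1 : ℤ) else -1 := ⟨_, rfl⟩
  rw [← hσ]
  -- plane picking for every isometry with square `-1`
  have hpick : ∀ M : Matrix (Fin d ⊕ Fin d) (Fin d ⊕ Fin d) F,
      (∀ v, QPlus F d (M *ᵥ v) = QPlus F d v) → (∀ v, M *ᵥ (M *ᵥ v) = -v) →
      PlanePick (QPlus F d) (Matrix.toLin' M) σ := by
    intro M hQM hM
    have hQx : ∀ v, QPlus F d (Matrix.toLin' M v) = QPlus F d v := fun v => by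
      rw [Matrix.toLin'_apply]; exact hQM v
    have hx : ∀ v, Matrix.toLin' M (Matrix.toLin' M v) = -v := fun v => by
      rw [Matrix.toLin'_apply, Matrix.toLin'_apply]; exact hM v
    by_cases hq4 : q % 4 = 1
    · rw [hσ, if_pos hq4]
      obtain ⟨i, hi⟩ := hsplit.mpr hq4
      exact planePick_split (QPlus F d) _ h2 hQx hx i hi
    · rw [hσ, if_neg hq4]
      exact planePick_nonsplit (QPlus F d) _ h2 hQx hx (hnsp hq4)
  have hfix : ∀ M : Matrix (Fin d ⊕ Fin d) (Fin d ⊕ Fin d) F,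
      (∀ v, QPlus F d (M *ᵥ v) = QPlus F d v) → (∀ v, M *ᵥ (M *ᵥ v) = -v) →
      ((∃ W : Submodule F (Fin d ⊕ Fin d → F), W ∈ NSet (QPlus F d) (2 * a) η ∧
        W.map (Matrix.toLin' M) ≤ W) ↔ η = σ ^ a) := by
    intro M hQM hM
    have hQx : ∀ v, QPlus F d (Matrix.toLin' M v) = QPlus F d v := fun v => by
      rw [Matrix.toLin'_apply]; exact hQM v
    have hx : ∀ v, Matrix.toLin' M (Matrix.toLin' M v) = -v := fun v => by
      rw [Matrix.toLin'_apply, Matrix.toLin'_apply]; exact hM v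
    exact sq_neg_fix_iff (QPlus F d) _ hQx hx σ (hpick M hQM hM) hQt a (by rw [hfr]; omega) η
  have hne : Nonempty (Fin d ⊕ Fin d) := ⟨Sum.inl ⟨0, by omega⟩⟩
  obtain ⟨v₀, hv₀⟩ := exists_Q_ne_zero (QPlus F d) hQ
  constructor
  · intro hall
    by_contra hcon
    push Not at hcon
    obtain ⟨⟨hg1, hg2⟩, hηne⟩ := hcon
    have hex : ∃ g : ↥(Cfsg.isometryGroup F ⇑(QPlus F d)), ∀ v,
        ((g.1 : GL (Fin d ⊕ Fin d) F) : Matrix (Fin d ⊕ Fin d) (Fin d ⊕ Fin d) F) *ᵥ
          (((g.1 : GL (Fin d ⊕ Fin d) F) : Matrix (Fin d ⊕ Fin d) (Fin d ⊕ Fin d) F) *ᵥ v) =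
          -v := by
      rcases hg1 with h | h
      · obtain ⟨i, hi⟩ := hsplit.mpr h
        exact exists_sq_neg_of_split h2 d (by omega) i hi
      · exact exists_sq_neg_of_even d h
    obtain ⟨g, hg⟩ := hex
    have hgΩ : g ∈ Cfsg.Omega F ⇑(QPlus F d) := by
      rw [sq_neg_mem_Omega_iff (QPlus F d) h2 hQ d (by omega) hcard g hg, isSquare_two_pow_iff h2,
        hsq2]
      exact hg2
    have hQM : ∀ v : Fin d ⊕ Fin d → F, QPlus F d (((g.1 : GL (Fin d ⊕ Fin d) F) :
        Matrix (Fin d ⊕ Fin d) (Fin d ⊕ Fin d) F) *ᵥ v) =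
        QPlus F d v := (OmegaAut.mem_isometryGroup_iff (QPlus F d) g.1).mp g.2
    have hxΩ : g.1 ∈ Cfsg.Geo.omegaGL (Cfsg.quadFormPlus d F) := by
      rw [← coe_QPlus]
      exact Subgroup.mem_map.mpr ⟨g, hgΩ, rfl⟩
    have hsq : ((g.1 ^ 2 : GL (Fin d ⊕ Fin d) F) : Matrix (Fin d ⊕ Fin d) (Fin d ⊕ Fin d) F) =
        (-1 : F) • (1 : Matrix (Fin d ⊕ Fin d) (Fin d ⊕ Fin d) F) := by
      rw [Units.val_pow_eq_pow_val, pow_two]
      apply matrix_ext_mulVec
      intro v
      rw [← mulVec_mulVec, hg, smul_mulVec, one_mulVec, neg_one_smul]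
    have hnsc : ∀ z : F, ((g.1 : GL (Fin d ⊕ Fin d) F) :
        Matrix (Fin d ⊕ Fin d) (Fin d ⊕ Fin d) F) ≠
        z • (1 : Matrix (Fin d ⊕ Fin d) (Fin d ⊕ Fin d) F) := by
      intro z hz
      have h1 := hg v₀
      have h3 := hQM v₀
      rw [hz, smul_mulVec, one_mulVec] at h1 h3
      rw [smul_mulVec, one_mulVec, smul_smul] at h1
      rw [QuadraticMap.map_smul, smul_eq_mul] at h3
      have hzz : z * z = 1 := by
        have : (z * z - 1) * QPlus F d v₀ = 0 := by linear_combination h3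
        rcases mul_eq_zero.mp this with h | h
        · linear_combination h
        · exact absurd h hv₀
      rw [hzz, one_smul] at h1
      have hv0 : v₀ ≠ 0 := by
        rintro rfl
        simp at hv₀
      have : (2 : F) • v₀ = 0 := by
        rw [two_smul]
        nth_rewrite 1 [h1]
        simp
      rcases smul_eq_zero.mp this with h | h
      · exact h2 h
      · exact hv0 h
    obtain ⟨W, hW, hWx⟩ := hall g.1 hxΩ ⟨-1, hsq⟩ hnsc
    exact hηne ((hfix _ hQM hg).mp ⟨W, hW, hWx⟩)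
  · intro hcond x hxΩ hz hns
    obtain ⟨z, hz⟩ := hz
    rw [← coe_QPlus] at hxΩ
    obtain ⟨g, hgΩ, hgx⟩ := Subgroup.mem_map.mp hxΩ
    have hgx' : g.1 = x := hgx
    obtain ⟨M, hM⟩ : ∃ M : Matrix (Fin d ⊕ Fin d) (Fin d ⊕ Fin d) F, M = x := ⟨_, rfl⟩
    have hQM : ∀ v, QPlus F d (M *ᵥ v) = QPlus F d v := by
      rw [hM, ← hgx']
      exact (OmegaAut.mem_isometryGroup_iff (QPlus F d) g.1).mp g.2
    rw [Units.val_pow_eq_pow_val, pow_two, ← hM] at hz
    rw [← hM]
    have hMM : ∀ v, M *ᵥ (M *ᵥ v) = z • v := by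
      intro v
      rw [mulVec_mulVec, hz, smul_mulVec, one_mulVec]
    have hzz : z * z = 1 := by
      have h3 : QPlus F d (M *ᵥ (M *ᵥ v₀)) = QPlus F d v₀ := by rw [hQM, hQM]
      rw [hMM, QuadraticMap.map_smul, smul_eq_mul] at h3
      have : (z * z - 1) * QPlus F d v₀ = 0 := by linear_combination h3
      rcases mul_eq_zero.mp this with h | h
      · linear_combination h
      · exact absurd h hv₀
    rcases mul_self_eq_one_iff.mp hzz with rfl | rfl
    · -- involutions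
      have hy : (Matrix.toLin' M) ^ 2 = 1 := by
        rw [← Matrix.toLin'_pow, pow_two, hz, one_smul, Matrix.toLin'_one]
        rfl
      have hfe : Even (finrank F (Module.End.eigenspace (Matrix.toLin' M) 1)) := by
        have h1 := even_fix_of_mem_Omega (QPlus F d) hQ (Or.inr (by rw [hcard]; omega)) g hgΩ
        rw [hcard, hgx', ← hM] at h1
        exact (Nat.even_add.mp h1).mp (even_two_mul d)
      obtain ⟨W, hWf, hWn, hWs, hWx⟩ := invol_fixes (QPlus F d) h2 hQt (Matrix.toLin' M)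
        (fun v => by rw [Matrix.toLin'_apply]; exact hQM v) hy (2 * d) hfr (even_two_mul d) hfe
        (2 * a) (even_two_mul a) (by omega) (by omega) η hη
      exact ⟨W, ⟨hWf, hWn, hWs⟩, hWx⟩
    · -- square `-1`
      have hMneg : ∀ v, M *ᵥ (M *ᵥ v) = -v := fun v => by rw [hMM, neg_one_smul]
      have hgneg : ∀ v : Fin d ⊕ Fin d → F,
          ((g.1 : GL (Fin d ⊕ Fin d) F) : Matrix (Fin d ⊕ Fin d) (Fin d ⊕ Fin d) F) *ᵥ
          (((g.1 : GL (Fin d ⊕ Fin d) F) : Matrix (Fin d ⊕ Fin d) (Fin d ⊕ Fin d) F) *ᵥ v) =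
          -v := by
        rw [hgx', ← hM]
        exact hMneg
      have hsq := (sq_neg_mem_Omega_iff (QPlus F d) h2 hQ d (by omega) hcard g hgneg).mp hgΩ
      rw [isSquare_two_pow_iff h2, hsq2] at hsq
      have hgood : Good q d := by
        refine ⟨?_, hsq⟩
        by_cases hq4 : q % 4 = 1
        · exact Or.inl hq4
        · right
          have hp := hpick M hQM hMneg
          rw [hσ, if_neg hq4] at hp
          have hQx : ∀ v, QPlus F d (Matrix.toLin' M v) = QPlus F d v := fun v => by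
            rw [Matrix.toLin'_apply]; exact hQM v
          have hx : ∀ v, Matrix.toLin' M (Matrix.toLin' M v) = -v := fun v => by
            rw [Matrix.toLin'_apply, Matrix.toLin'_apply]; exact hMneg v
          obtain ⟨a', ha', hs⟩ := sign_of_invt (QPlus F d) _ hQx hx (-1) hp (2 * d) ⊤ le_top hQt
            (by rw [finrank_top, hfr])
          have ha'' : a' = d := by omega
          rw [ha''] at hs
          have h5 := SgnOn.unique (QPlus F d) (sgnOn_top_QPlus d) hs
          by_contra hodd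
          rw [Nat.not_even_iff_odd] at hodd
          rw [hodd.neg_one_pow] at h5
          omega
      rcases hcond with h | h
      · exact absurd hgood h
      · exact (hfix M hQM hMneg).mpr h

end mat

end Cfsg.Agent.Lib.Helper6.OrtS
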