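import Mathlib
import Cfsg.Prelude.Def_GeometricClasses
import Cfsg.Agent.Lib.Helper7.AschDefs
import Cfsg.Agent.Lib.Helper22.AschC7Defs
import Cfsg.Agent.Lib.Helper22.S5630I7A
import Cfsg.Agent.Lib.Helper22.S5663U7Defs

/-!
# S5663 U7, piece M3 (helper6)

`slice_fix` of `notes/S5663U7Skel_helper22.lean.txt`, exact signature.
-/

set_option autoImplicit false

namespace Cfsg.Agent.Lib.Helper6.S5663U7M3

open Matrix Cfsg Cfsg.Geo Cfsg.Agent.Lib.Helper7.Asch Cfsg.Agent.Lib.Helper22.AschC7
  Cfsg.Agent.Lib.Helper22.S5630I7A Cfsg.Agent.Lib.Helper22.U7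

variable {F : Type*} [Field F] {n m t : ℕ}

/-- a sum over the tensor index set of a function supported on the line through `u` in direction `i` -/
theorem sum_collapse (i : Fin t) (u : Fin t → Fin m) (f : (Fin t → Fin m) → F)
    (hf : ∀ x, (¬ ∀ j, j ≠ i → x j = u j) → f x = 0) :
    ∑ x, f x = ∑ α, f (Function.update u i α) := by
  have hinj : Function.Injective (fun α : Fin m => Function.update u i α) := by
    intro α β hαβ
    have := congrFun hαβ i
    simpa using this
  rw [← Finset.sum_image (s := Finset.univ) (g := fun α : Fin m => Function.update u i α)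
    (fun a _ b _ hab => hinj hab)]
  symm
  apply Finset.sum_subset (Finset.subset_univ _)
  intro x _ hx
  apply hf x
  intro hall
  apply hx
  rw [Finset.mem_image]
  refine ⟨x i, Finset.mem_univ _, ?_⟩
  funext j
  by_cases hj : j = i
  · subst hj
    rw [Function.update_self]
  · rw [Function.update_of_ne hj, hall j hj]

/-- **M3** if `pos i a` fixes `G` then `a` fixes every slice of `G` in direction `i` -/
theorem slice_fix (σ : F →+* F) (i : Fin t) (a : Matrix (Fin m) (Fin m) F)
    (G : Matrix (Fin t → Fin m) (Fin t → Fin m) F)
    (h : (pos i a)ᵀ * G * (pos i a).map σ = G) (u v : Fin t → Fin m) :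
    aᵀ * slice i u v G * a.map σ = slice i u v G := by
  ext α₀ β₀
  have h1 := congrFun (congrFun h (Function.update u i α₀)) (Function.update v i β₀)
  rw [slice_apply, ← h1]
  have hoff : ∀ (w : Fin t → Fin m) (γ : Fin m) (j : Fin t), j ≠ i → Function.update w i γ j = w j :=
    fun w γ j hj => Function.update_of_ne hj _ _
  -- expand both sides
  rw [Matrix.mul_apply, Matrix.mul_apply]
  -- outer collapse
  rw [sum_collapse i v (fun y => ((pos i a)ᵀ * G) (Function.update u i α₀) y *
    ((pos i a).map σ) y (Function.update v i β₀))]
  · apply Finset.sum_congr rfl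
    intro β _
    have hpos : (pos i a) (Function.update v i β) (Function.update v i β₀) = a β β₀ := by
      rw [pos_apply, if_pos, Function.update_self, Function.update_self]
      intro j hj
      rw [hoff, hoff] <;> exact hj
    rw [Matrix.map_apply, Matrix.map_apply, hpos]
    congr 1
    rw [Matrix.mul_apply, Matrix.mul_apply]
    rw [sum_collapse i u (fun x => (pos i a)ᵀ (Function.update u i α₀) x * G x (Function.update v i β))]
    · apply Finset.sum_congr rfl
      intro α _
      have hpos' : (pos i a) (Function.update u i α) (Function.update u i α₀) = a α α₀ := by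
        rw [pos_apply, if_pos, Function.update_self, Function.update_self]
        intro j hj
        rw [hoff, hoff] <;> exact hj
      rw [Matrix.transpose_apply, Matrix.transpose_apply, hpos', slice_apply]
    · intro x hx
      rw [Matrix.transpose_apply, pos_apply, if_neg, zero_mul]
      intro hall
      apply hx
      intro j hj
      rw [hall j hj, hoff _ _ _ hj]
  · intro y hy
    have : ((pos i a).map σ) y (Function.update v i β₀) = 0 := by
      rw [Matrix.map_apply, pos_apply, if_neg, map_zero]
      intro hall
      apply hy
      intro j hj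
      rw [hall j hj, hoff _ _ _ hj]
    rw [this, mul_zero]

end Cfsg.Agent.Lib.Helper6.S5663U7M3
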