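import Mathlib
import Cfsg.Prelude.Def_GeometricClasses
import Cfsg.Agent.Lib.Helper7.AschDefs
import Cfsg.Agent.Lib.Helper22.AschC7Defs
import Cfsg.Agent.Lib.Helper22.S5630I7A
import Cfsg.Agent.Lib.Helper22.S5663U7Defs

/-!
# S5663 U7, piece M5 (helper6)

`isUnit_of_isUnit_pt` of `notes/S5663U7Skel_helper22.lean.txt`, exact signature.
-/

set_option autoImplicit false

namespace Cfsg.Agent.Lib.Helper6.S5663U7M5

open Matrix Cfsg Cfsg.Geo Cfsg.Agent.Lib.Helper7.Asch Cfsg.Agent.Lib.Helper22.AschC7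
  Cfsg.Agent.Lib.Helper22.S5630I7A Cfsg.Agent.Lib.Helper22.U7

variable {F : Type*} [Field F] {n m t : ℕ}

/-- **M5** the factors of an invertible pure tensor are invertible -/
theorem isUnit_of_isUnit_pt (A : Fin t → Matrix (Fin m) (Fin m) F) (h : IsUnit (pt A)) (i : Fin t) :
    IsUnit (A i) := by
  rw [Matrix.isUnit_iff_isUnit_det, isUnit_iff_ne_zero]
  intro hdet
  obtain ⟨v, hv0, hv⟩ := Matrix.exists_vecMul_eq_zero_iff.2 hdet
  -- `B := v vᵀ ≠ 0`, `B * A i = 0`
  have hB0 : vecMulVec v v ≠ 0 := by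
    obtain ⟨a, ha⟩ : ∃ a, v a ≠ 0 := by
      by_contra hcon
      push Not at hcon
      exact hv0 (funext hcon)
    intro h0
    have h1 := congrFun (congrFun h0 a) a
    rw [vecMulVec_apply, Matrix.zero_apply] at h1
    exact ha (mul_self_eq_zero.1 h1)
  have hBA : vecMulVec v v * A i = 0 := by
    ext a b
    rw [Matrix.mul_apply, Matrix.zero_apply]
    have h1 := congrFun hv b
    rw [Matrix.vecMul, dotProduct, Pi.zero_apply] at h1
    simp only [vecMulVec_apply, mul_assoc]
    rw [← Finset.mul_sum, h1, mul_zero]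
  -- `pt A = pos i (A i) * pt (update A i 1)`
  have hfac : pt A = pos i (A i) * pt (Function.update A i 1) := by
    rw [pos_mul_pt, Function.update_self, Matrix.mul_one, Function.update_idem, Function.update_eq_self]
  obtain ⟨U, hU⟩ := h
  have hright : pos i (A i) * (pt (Function.update A i 1) * ((U⁻¹ : (Matrix (Fin t → Fin m) (Fin t → Fin m) F)ˣ) :
      Matrix (Fin t → Fin m) (Fin t → Fin m) F)) = 1 := by
    rw [← Matrix.mul_assoc, ← hfac, ← hU, ← Units.val_mul, mul_inv_cancel, Units.val_one]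
  have h0 : pos i (vecMulVec v v) = 0 := by
    calc pos i (vecMulVec v v) = pos i (vecMulVec v v) * (pos i (A i) * (pt (Function.update A i 1) *
          ((U⁻¹ : (Matrix (Fin t → Fin m) (Fin t → Fin m) F)ˣ) : Matrix (Fin t → Fin m) (Fin t → Fin m) F))) := by
            rw [hright, Matrix.mul_one]
      _ = pos i (vecMulVec v v * A i) * (pt (Function.update A i 1) *
          ((U⁻¹ : (Matrix (Fin t → Fin m) (Fin t → Fin m) F)ˣ) : Matrix (Fin t → Fin m) (Fin t → Fin m) F)) := by
            rw [pos_mul, Matrix.mul_assoc]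
      _ = 0 := by rw [hBA, pos_zero, Matrix.zero_mul]
  apply hB0
  apply pos_injective i
  rw [h0, pos_zero]

end Cfsg.Agent.Lib.Helper6.S5663U7M5
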