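import Mathlib

/-!
# S5663 U7, piece M6 (helper6): a matrix proportional to its conjugate transpose has a hermitian non-zero multiple

`exists_herm_rep` of `notes/S5663U7Skel_helper22.lean.txt`, exact signature (Mathlib only).
-/

set_option autoImplicit false

namespace Cfsg.Agent.Lib.Helper6.S5663U7M6

open Matrix

variable {F : Type*} [Field F] {n m t : ℕ}

/-- **M6** a matrix proportional to its conjugate transpose has a hermitian non-zero multiple -/
theorem exists_herm_rep (σ : F →+* F) (hσ : ∀ x, σ (σ x) = x) (hne : ∃ x, σ x ≠ x)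
    (A : Matrix (Fin m) (Fin m) F) (lam : F) (h : (A.map σ)ᵀ = lam • A) :
    ∃ μ : F, μ ≠ 0 ∧ ((μ • A).map σ)ᵀ = μ • A := by
  have hent : ∀ i j, σ (A j i) = lam * A i j := by
    intro i j
    have := congrFun (congrFun h i) j
    simpa using this
  -- reduction: enough `σ μ * lam = μ`
  have key : ∀ μ : F, σ μ * lam = μ → ((μ • A).map σ)ᵀ = μ • A := by
    intro μ hμ
    ext i j
    simp only [Matrix.transpose_apply, Matrix.map_apply, Matrix.smul_apply, smul_eq_mul, map_mul]
    rw [hent i j, ← mul_assoc, hμ]
  by_cases hA : A = 0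
  · refine ⟨1, one_ne_zero, ?_⟩
    rw [hA]
    ext i j
    simp
  · obtain ⟨i, j, hij⟩ : ∃ i j, A i j ≠ 0 := by
      by_contra hcon
      push Not at hcon
      apply hA
      ext i j
      exact hcon i j
    have hll : σ lam * lam = 1 := by
      have h1 := hent i j
      have h2 := congrArg σ (hent j i)
      rw [hσ, map_mul, h1] at h2
      have h3 : (σ lam * lam - 1) * A i j = 0 := by
        rw [sub_mul, one_mul, mul_assoc, ← h2, sub_self]
      rcases mul_eq_zero.1 h3 with h4 | h4
      · exact sub_eq_zero.1 h4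
      · exact absurd h4 hij
    by_cases h1 : 1 + lam = 0
    · obtain ⟨ω, hω⟩ := hne
      have hlam : lam = -1 := by
        rw [← sub_eq_zero, sub_neg_eq_add, add_comm]
        exact h1
      refine ⟨ω - σ ω, ?_, key _ ?_⟩
      · intro h0
        exact hω (sub_eq_zero.1 h0).symm
      · rw [map_sub, hσ, hlam]
        ring
    · refine ⟨1 + lam, h1, key _ ?_⟩
      rw [map_add, map_one, add_mul, one_mul, hll, add_comm]

end Cfsg.Agent.Lib.Helper6.S5663U7M6
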