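import Mathlib
import Cfsg.Prelude.Def_GeometricClasses
import Cfsg.Agent.Lib.Helper6.Unitary
import Cfsg.Agent.Lib.Helper22.S5670FOORTHO

/-!
# S5663 U7, piece M8 (helper6): an invertible hermitian matrix over `F_{q²}` is congruent to the identity

`exists_orthonormalise` of `notes/S5663U7Skel_helper22.lean.txt`, exact signature.
-/

set_option autoImplicit false

namespace Cfsg.Agent.Lib.Helper6.S5663U7M8

open Matrix Cfsg Cfsg.Geo Cfsg.Agent.Lib.Helper6

variable {F : Type*} [Field F] {n m t : ℕ}

/-- the form with Gram matrix `A` -/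
def gf {k : ℕ} (q : ℕ) (A : Matrix (Fin k) (Fin k) F) (x y : Fin k → F) : F :=
  ∑ a, ∑ b, x a * A a b * (y b) ^ q

theorem gf_unitary [Fintype F] {q k : ℕ} (hF : Fintype.card F = q ^ 2)
    (A : Matrix (Fin k) (Fin k) F) (hA : IsUnit A) (hherm : (A.map (conjQ hF))ᵀ = A) :
    IsUnitaryFormPow q (gf q A) := by
  have hent : ∀ a b, (A b a) ^ q = A a b := by
    intro a b
    have := congrFun (congrFun hherm a) b
    simpa [conjQ_apply] using this
  have hqq : ∀ x : F, (x ^ q) ^ q = x := fun x => conjQ_conjQ hF x
  have hdet := (Matrix.isUnit_iff_isUnit_det A).1 hA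
  refine ⟨?_, ?_, ?_, ?_⟩
  · intro x y v
    unfold gf
    rw [← Finset.sum_add_distrib]
    apply Finset.sum_congr rfl
    intro a _
    rw [← Finset.sum_add_distrib]
    apply Finset.sum_congr rfl
    intro b _
    rw [Pi.add_apply]
    ring
  · intro c x v
    unfold gf
    rw [Finset.mul_sum]
    apply Finset.sum_congr rfl
    intro a _
    rw [Finset.mul_sum]
    apply Finset.sum_congr rfl
    intro b _
    rw [Pi.smul_apply, smul_eq_mul]
    ring
  · intro v w
    unfold gf
    have hpow : ∀ (s : Finset (Fin k)) (g : Fin k → F), (∑ i ∈ s, g i) ^ q = ∑ i ∈ s, (g i) ^ q := by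
      intro s g
      have := map_sum (conjQ hF) g s
      rw [conjQ_apply] at this
      rw [this]
      apply Finset.sum_congr rfl
      intro i _
      rw [conjQ_apply]
    rw [hpow]
    rw [Finset.sum_comm]
    apply Finset.sum_congr rfl
    intro b _
    rw [hpow]
    apply Finset.sum_congr rfl
    intro a _
    rw [mul_pow, mul_pow, hqq, hent]
    ring
  · intro v hv
    have hσv : (fun b => (v b) ^ q) ≠ 0 := by
      intro h
      apply hv
      funext b
      have h1 := congrFun h b
      have h2 : ((v b) ^ q) ^ q = v b := hqq (v b)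
      rw [h1] at h2
      rw [← h2]
      simp [zero_pow (Cfsg.Agent.S0779.q_pos hF).ne']
    constructor
    · -- `x ↦ f x v`
      have h1 : A *ᵥ (fun b => (v b) ^ q) ≠ 0 := by
        intro h
        apply hσv
        have := congrArg (fun z => A⁻¹ *ᵥ z) h
        simp only [Matrix.mulVec_mulVec, Matrix.mulVec_zero] at this
        rwa [Matrix.nonsing_inv_mul A hdet, Matrix.one_mulVec] at this
      obtain ⟨a, ha⟩ : ∃ a, (A *ᵥ (fun b => (v b) ^ q)) a ≠ 0 := by
        by_contra hcon
        push Not at hcon
        exact h1 (funext hcon)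
      refine ⟨Pi.single a 1, ?_⟩
      unfold gf
      rw [Finset.sum_eq_single a]
      · simp only [Pi.single_eq_same, one_mul]
        exact ha
      · intro a' _ ha'
        simp [Pi.single_eq_of_ne ha']
      · intro h
        exact absurd (Finset.mem_univ a) h
    · -- `x ↦ f v x`
      have h1 : v ᵥ* A ≠ 0 := by
        intro h
        apply hv
        have := congrArg (fun z => z ᵥ* A⁻¹) h
        simp only [Matrix.vecMul_vecMul, Matrix.zero_vecMul] at this
        rwa [Matrix.mul_nonsing_inv A hdet, Matrix.vecMul_one] at this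
      obtain ⟨b, hb⟩ : ∃ b, (v ᵥ* A) b ≠ 0 := by
        by_contra hcon
        push Not at hcon
        exact h1 (funext hcon)
      refine ⟨Pi.single b 1, ?_⟩
      unfold gf
      have h2 : ∀ a, ∑ b', v a * A a b' * (Pi.single b (1 : F) : Fin k → F) b' ^ q = v a * A a b := by
        intro a
        rw [Finset.sum_eq_single b]
        · simp
        · intro b' _ hb'
          simp [Pi.single_eq_of_ne hb', zero_pow (Cfsg.Agent.S0779.q_pos hF).ne']
        · intro h
          exact absurd (Finset.mem_univ b) h
      simp only [h2]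
      exact hb

/-- **M8** an invertible hermitian matrix is congruent to the identity -/
theorem exists_orthonormalise [Fintype F] {q k : ℕ} (hF : Fintype.card F = q ^ 2)
    (A : Matrix (Fin k) (Fin k) F) (hA : IsUnit A) (hherm : (A.map (conjQ hF))ᵀ = A) :
    ∃ B : GL (Fin k) F,
      (B : Matrix (Fin k) (Fin k) F)ᵀ * A * (B : Matrix (Fin k) (Fin k) F).map (conjQ hF) = 1 := by
  obtain ⟨R, hR⟩ := Cfsg.Agent.Lib.Helper22.S5670ORTHO.exists_orthonormal hF (gf q A)
    (gf_unitary hF A hA hherm)
  refine ⟨R, ?_⟩
  ext a b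
  have h1 := hR (Pi.single a 1) (Pi.single b 1)
  rw [Matrix.mulVec_single_one, Matrix.mulVec_single_one] at h1
  have h2 : ((R : Matrix (Fin k) (Fin k) F)ᵀ * A * (R : Matrix (Fin k) (Fin k) F).map (conjQ hF)) a b =
      gf q A ((R : Matrix (Fin k) (Fin k) F).col a) ((R : Matrix (Fin k) (Fin k) F).col b) := by
    unfold gf
    rw [Matrix.mul_apply]
    simp only [Matrix.mul_apply, Matrix.transpose_apply, Matrix.map_apply, conjQ_apply, Matrix.col_apply,
      Finset.sum_mul]
    rw [Finset.sum_comm]
  rw [h2, h1]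
  unfold Cfsg.Agent.Lib.Helper28.TensU.hs
  rw [Matrix.one_apply]
  by_cases hab : a = b
  · subst hab
    rw [if_pos rfl, Finset.sum_eq_single a]
    · simp
    · intro i _ hi
      simp [Pi.single_eq_of_ne hi]
    · intro h
      exact absurd (Finset.mem_univ a) h
  · rw [if_neg hab]
    apply Finset.sum_eq_zero
    intro i _
    by_cases hi : i = a
    · subst hi
      rw [Pi.single_eq_of_ne hab, zero_pow (Cfsg.Agent.S0779.q_pos hF).ne', mul_zero]
    · rw [Pi.single_eq_of_ne hi, zero_mul]

end Cfsg.Agent.Lib.Helper6.S5663U7M8
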