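import Mathlib

/-!
# S5650 farm-out (architect helper28): FO-FIELD `exists_sq_not_mem` and FO-SQ `exists_sq_sub_sq`
-/

set_option autoImplicit false

namespace Cfsg.Agent.Lib.Helper6.S5650FOFIELD

variable {F : Type*} [Field F]

/-- in characteristic two, squaring is injective -/
theorem sq_injective_of_two_eq_zero (h2 : (2 : F) = 0) : Function.Injective (fun x : F => x ^ 2) := by
  intro x y hxy
  have h1 : (x - y) ^ 2 = 0 := by
    have : (x - y) ^ 2 = x ^ 2 - y ^ 2 - 2 * (x * y - y ^ 2) := by ring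
    rw [this, h2, zero_mul, sub_zero]
    exact sub_eq_zero.mpr hxy
  exact sub_eq_zero.mp (pow_eq_zero_iff (two_ne_zero) |>.mp h1)

/-- in a finite field of characteristic two every element is a square -/
theorem exists_sq_eq_of_two_eq_zero [Finite F] (h2 : (2 : F) = 0) (x : F) : ∃ y : F, y ^ 2 = x :=
  (Finite.injective_iff_surjective.mp (sq_injective_of_two_eq_zero h2)) x

/-- in characteristic two, an element whose square lies in the finite subfield `K` lies in `K` -/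
theorem mem_of_sq_mem [Finite F] (K : Subfield F) (h2 : (2 : F) = 0) (x : F) (hx : x ^ 2 ∈ K) :
    x ∈ K := by
  have h2K : (2 : K) = 0 := by
    apply Subtype.ext
    push_cast
    exact h2
  obtain ⟨y, hy⟩ := exists_sq_eq_of_two_eq_zero h2K (⟨x ^ 2, hx⟩ : K)
  have h1 : (y : F) ^ 2 = x ^ 2 := by
    have := congrArg (fun k : K => (k : F)) hy
    simpa using this
  have h3 : (y : F) = x := sq_injective_of_two_eq_zero h2 h1
  rw [← h3]
  exact y.2

/-- **FO-SQ** -/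
theorem exists_sq_sub_sq [Finite F] (x : F) : ∃ a b : F, x = a ^ 2 - b ^ 2 := by
  by_cases h2 : (2 : F) = 0
  · obtain ⟨y, hy⟩ := exists_sq_eq_of_two_eq_zero h2 x
    exact ⟨y, 0, by rw [hy]; ring⟩
  · refine ⟨(x + 1) / 2, (x - 1) / 2, ?_⟩
    field_simp
    ring

/-- **FO-FIELD** -/
theorem exists_sq_not_mem [Finite F] (K : Subfield F) (ω₁ ω₂ : F)
    (hind : ∀ k₁ k₂ : K, (k₁ : F) * ω₁ + (k₂ : F) * ω₂ = 0 → k₁ = 0 ∧ k₂ = 0) :
    ∃ k₁ k₂ k₁' k₂' : K,
      ((((k₁ : F) * ω₁ + (k₂ : F) * ω₂) * ((k₁' : F) * ω₁ + (k₂' : F) * ω₂)) ^ 2) ∉ K := by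
  by_contra hcon
  push Not at hcon
  have hω₁ : ω₁ ≠ 0 := by
    intro h
    have h1 := hind 1 0 (by rw [h]; simp)
    exact one_ne_zero h1.1
  -- it suffices to show `ω₂ / ω₁ ∈ K`
  have key : ω₂ / ω₁ ∈ K → False := by
    intro hk
    have h1 := hind ⟨ω₂ / ω₁, hk⟩ (-1) (by
      push_cast
      field_simp
      ring)
    have h2 : (-1 : K) = 0 := h1.2
    have h3 : (1 : K) = 0 := by
      have := congrArg (fun x : K => -x) h2
      simp at this
    exact one_ne_zero h3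
  have e1 : ω₁ ^ 4 ∈ K := by
    have := hcon 1 0 1 0
    simp only [OneMemClass.coe_one, one_mul, ZeroMemClass.coe_zero, zero_mul, add_zero] at this
    have e : (ω₁ * ω₁) ^ 2 = ω₁ ^ 4 := by ring
    rwa [e] at this
  have e2 : (ω₁ * ω₂) ^ 2 ∈ K := by
    have := hcon 1 0 0 1
    simpa using this
  have e3 : (ω₁ * (ω₁ + ω₂)) ^ 2 ∈ K := by
    have := hcon 1 0 1 1
    simpa using this
  by_cases h2 : (2 : F) = 0
  · have f1 : ω₁ * ω₂ ∈ K := mem_of_sq_mem K h2 _ e2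
    have f2 : ω₁ ^ 2 ∈ K := mem_of_sq_mem K h2 _ (by
      have e : (ω₁ ^ 2) ^ 2 = ω₁ ^ 4 := by ring
      rw [e]; exact e1)
    apply key
    have e : ω₂ / ω₁ = (ω₁ * ω₂) * (ω₁ ^ 2)⁻¹ := by
      field_simp
    rw [e]
    exact K.mul_mem f1 (K.inv_mem f2)
  · have f1 : 2 * (ω₁ ^ 3 * ω₂) ∈ K := by
      have e : 2 * (ω₁ ^ 3 * ω₂) = (ω₁ * (ω₁ + ω₂)) ^ 2 - ω₁ ^ 4 - (ω₁ * ω₂) ^ 2 := by ring
      rw [e]
      exact K.sub_mem (K.sub_mem e3 e1) e2
    have h2K : (2 : F) ∈ K := by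
      have : (2 : F) = 1 + 1 := by norm_num
      rw [this]
      exact K.add_mem K.one_mem K.one_mem
    have f2 : ω₁ ^ 3 * ω₂ ∈ K := by
      have e : ω₁ ^ 3 * ω₂ = (2 : F)⁻¹ * (2 * (ω₁ ^ 3 * ω₂)) := by
        field_simp
      rw [e]
      exact K.mul_mem (K.inv_mem h2K) f1
    apply key
    have e : ω₂ / ω₁ = (ω₁ ^ 3 * ω₂) * (ω₁ ^ 4)⁻¹ := by
      field_simp
    rw [e]
    exact K.mul_mem f2 (K.inv_mem e1)

end Cfsg.Agent.Lib.Helper6.S5650FOFIELD
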