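import Mathlib
import Cfsg.Prelude.Def_Classical
import Cfsg.Agent.Lib.Helper3.SLTransport

/-!
# Transport of `SU_n` and `PSU_n` along a ring isomorphism
-/

set_option autoImplicit false
set_option linter.style.haveILetI false
set_option linter.unusedSimpArgs false
set_option linter.unusedSectionVars false

namespace Cfsg.Agent.Lib.Helper6.SUTransport

open Matrix Cfsg Cfsg.Agent.Lib.Helper3.SLTransport

section
variable {E K : Type*} [Field E] [Field K] {n q : ℕ}

theorem hermForm_map (e : E ≃+* K) (x y : Fin n → E) :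
    hermForm n K q (fun i => e (x i)) (fun i => e (y i)) = e (hermForm n E q x y) := by
  simp only [hermForm, map_sum, map_mul, map_pow]

theorem map_mulVec' (e : E ≃+* K) (A : Matrix (Fin n) (Fin n) E) (x : Fin n → E) :
    (A.map e) *ᵥ (fun i => e (x i)) = fun i => e ((A *ᵥ x) i) := by
  funext i
  simp only [Matrix.mulVec, dotProduct, Matrix.map_apply, map_sum, map_mul]

theorem mapEquiv_mem (e : E ≃+* K) (g : Matrix.SpecialLinearGroup (Fin n) E)
    (hg : g ∈ Cfsg.SU n E q) : mapEquiv e g ∈ Cfsg.SU n K q := by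
  intro u v
  obtain ⟨u', rfl⟩ : ∃ u' : Fin n → E, u = fun i => e (u' i) :=
    ⟨fun i => e.symm (u i), by funext i; simp⟩
  obtain ⟨v', rfl⟩ : ∃ v' : Fin n → E, v = fun i => e (v' i) :=
    ⟨fun i => e.symm (v i), by funext i; simp⟩
  have h1 : (slToMat n K (mapEquiv e g)) = (slToMat n E g).map e := rfl
  rw [h1, map_mulVec', map_mulVec', hermForm_map, hermForm_map]
  exact congrArg e (hg u' v')

/-- `SU_n` over isomorphic fields -/
noncomputable def suEquiv (e : E ≃+* K) : ↥(Cfsg.SU n E q) ≃* ↥(Cfsg.SU n K q) where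
  toFun g := ⟨mapEquiv e g.1, mapEquiv_mem e g.1 g.2⟩
  invFun g := ⟨mapEquiv e.symm g.1, mapEquiv_mem e.symm g.1 g.2⟩
  left_inv g := by
    apply Subtype.ext
    exact (mapEquiv e).symm_apply_apply g.1
  right_inv g := by
    apply Subtype.ext
    exact (mapEquiv e).apply_symm_apply g.1
  map_mul' g h := by
    apply Subtype.ext
    exact map_mul (mapEquiv e) g.1 h.1

/-- `PSU_n` over isomorphic fields -/
noncomputable def psuEquiv (e : E ≃+* K) : Cfsg.PSU n E q ≃* Cfsg.PSU n K q :=
  quotientCenterEquiv (suEquiv e)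

end

end Cfsg.Agent.Lib.Helper6.SUTransport
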