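import Mathlib
import Cfsg.Agent.Lib.Helper24.FL.Defs
import Cfsg.Agent.Lib.Helper24.FL.L08
import Cfsg.Agent.Lib.Helper24.FL.L09
import Cfsg.Agent.Lib.Helper24.FL.L11
import Cfsg.Agent.Lib.Helper24.FL.L23
import Cfsg.Agent.Lib.Helper24.FL.L24
import Cfsg.Agent.Lib.Helper24.FL.L25
import Cfsg.Agent.Lib.Helper24.FL.L26
import Cfsg.Agent.Lib.Helper1.CoprimeAbelian

/-!
# S3816 farm, spare of leaf L27 `MinA.caseI_exists` (helper6)
-/

set_option autoImplicit false

namespace Cfsg.Agent.Lib.Helper6.FLL27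

open Subgroup
open Cfsg.Agent.Lib.Helper24.FL
open Cfsg.Agent.Lib.Helper1
open scoped commutatorElement

universe u

variable {G : Type u} [Group G]

/-- a subgroup normalising `K` and `L` normalises `⁅K, L⁆` -/
theorem le_normalizer_comm {Y K L : Subgroup G} (hK : Y ≤ Subgroup.normalizer (K : Set G))
    (hL : Y ≤ Subgroup.normalizer (L : Set G)) :
    Y ≤ Subgroup.normalizer ((⁅K, L⁆ : Subgroup G) : Set G) := by
  intro g hg
  apply Subgroup.mem_normalizer_iff_map_conj_eq.mpr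
  rw [Subgroup.map_commutator, Subgroup.mem_normalizer_iff_map_conj_eq.mp (hK hg),
    Subgroup.mem_normalizer_iff_map_conj_eq.mp (hL hg)]

/-- a subgroup normalising `K` and `L` normalises `K ⊔ L` -/
theorem le_normalizer_sup {Y K L : Subgroup G} (hK : Y ≤ Subgroup.normalizer (K : Set G))
    (hL : Y ≤ Subgroup.normalizer (L : Set G)) :
    Y ≤ Subgroup.normalizer ((K ⊔ L : Subgroup G) : Set G) := by
  intro g hg
  apply Subgroup.mem_normalizer_iff_map_conj_eq.mpr
  rw [Subgroup.map_sup, Subgroup.mem_normalizer_iff_map_conj_eq.mp (hK hg),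
    Subgroup.mem_normalizer_iff_map_conj_eq.mp (hL hg)]

/-- if `X ≤ N ⊴ K` (i.e. `K ≤ N(N)`) and `A ≤ K` then `⁅A, X⁆ ≤ N` -/
theorem comm_le_of_normal {A X N : Subgroup G} (hA : A ≤ Subgroup.normalizer (N : Set G))
    (hX : X ≤ N) : ⁅A, X⁆ ≤ N := by
  rw [Subgroup.commutator_le]
  intro a ha x hx
  have h1 : ⁅a, x⁆ = (a * x * a⁻¹) * x⁻¹ := by
    simp only [commutatorElement_def]
  rw [h1]
  exact N.mul_mem ((Subgroup.mem_normalizer_iff.mp (hA ha) x).mp (hX hx)) (N.inv_mem (hX hx))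


theorem caseI_exists_spare [Finite G] {p : ℕ} [Fact p.Prime] {H P A : Subgroup G}
    (mc : MC p H P) (hA : MinA H P A) (hab : A ≤ Subgroup.centralizer (A : Set G)) :
    ∃ S ∈ SylInv H P, A ⊔ ⁅(S : Subgroup G), P⁆ = H := by
  by_contra hno
  push Not at hno
  have hAH : A ≤ H := hA.nrm.1
  have hHA : H ≤ Subgroup.normalizer (A : Set G) := hA.nrm.2.1
  have hPA : P ≤ Subgroup.normalizer (A : Set G) := hA.nrm.2.2
  have hAne : A ≠ ⊥ := by
    intro h
    apply hA.nc
    rw [h]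
    exact bot_le
  obtain ⟨X, hX⟩ : ∃ X : Option (SylInv H P) → Subgroup G,
      X = fun o => o.elim P (fun S => ⁅(S : Subgroup G), P⁆) := ⟨_, rfl⟩
  have hXnone : X none = P := by rw [hX]; rfl
  have hXsome : ∀ S : SylInv H P, X (some S) = ⁅(S : Subgroup G), P⁆ := by
    intro S; rw [hX]; rfl
  have hXsup : ⨆ o, X o = H ⊔ P := by
    rw [iSup_option, hXnone]
    simp only [hXsome]
    rw [gen_sylow_comm mc.act mc.comm_eq, sup_comm]
  have hXN : ∀ o, X o ≤ Subgroup.normalizer (A : Set G) := by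
    intro o
    cases o with
    | none => rw [hXnone]; exact hPA
    | some S =>
      rw [hXsome]
      exact (commutator_le_of_le_normalizer S.2.2.1).trans (S.2.1.trans hHA)
  have h3 : A ≤ ⨆ o, ⁅A, X o⁆ := by
    have h := abelian_comm_iSup hab X hXN
    rw [hXsup, MinA.comm_top mc hA] at h
    exact h
  have hBA : ∀ o, ⁅A, X o⁆ ≤ A := fun o => commutator_le_of_le_normalizer (hXN o)
  have hPX : ∀ o, P ≤ Subgroup.normalizer ((X o : Subgroup G) : Set G) := by
    intro o
    cases o with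
    | none => rw [hXnone]; exact Subgroup.le_normalizer
    | some S => rw [hXsome]; exact le_normalizer_commutator_right
  have hPB : ∀ o, P ≤ Subgroup.normalizer ((⁅A, X o⁆ : Subgroup G) : Set G) :=
    fun o => le_normalizer_comm hPA (hPX o)
  have hcop : (Nat.card A).Coprime (Nat.card P) := by
    rw [mc.act.cardP]
    exact Nat.Coprime.coprime_dvd_left (Subgroup.card_dvd_of_le hAH) mc.act.cop
  have h4 := abelian_fixed_iSup hab hPA hcop (fun o => ⁅A, X o⁆) hBA hPB
  have hsupB : ⨆ o, ⁅A, X o⁆ = A := le_antisymm (iSup_le hBA) h3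
  rw [hsupB] at h4
  have h5 : ∀ o, ⁅A, X o⁆ ⊓ Subgroup.centralizer (P : Set G) ≤ KK H P := by
    intro o
    cases o with
    | none =>
      rw [hXnone]
      have : IsMulCommutative A :=
        ⟨⟨fun a b => Subtype.ext (Subgroup.mem_centralizer_iff.mp (hab b.2) a a.2)⟩⟩
      have h6 := abelian_centralizer_inf_commutator_eq_bot P A hPA hcop.symm
      have h7 : ⁅A, P⁆ ⊓ Subgroup.centralizer (P : Set G)
          ≤ (A ⊓ Subgroup.centralizer (P : Set G)) ⊓ ⁅A, P⁆ :=
        le_inf (inf_le_inf_right _ (commutator_le_of_le_normalizer hPA)) inf_le_left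
      rw [h6] at h7
      exact h7.trans bot_le
    | some S =>
      rw [hXsome]
      have hSP : ⁅(S : Subgroup G), P⁆ ≤ S := commutator_le_of_le_normalizer S.2.2.1
      have hH0 : A ⊔ ⁅(S : Subgroup G), P⁆ ≤ H := sup_le hAH (hSP.trans S.2.1)
      have hne : A ⊔ ⁅(S : Subgroup G), P⁆ ≠ H := hno S S.2
      have hP0 : P ≤ Subgroup.normalizer ((A ⊔ ⁅(S : Subgroup G), P⁆ : Subgroup G) : Set G) :=
        le_normalizer_sup hPA le_normalizer_commutator_right
      have hsub := mc.sub hH0 hne hP0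
      have hcaS : CoprimeAct P (S : Subgroup G) := mc.act.coprimeAct.mono S.2.1 S.2.2.1
      have hSN : ⁅(S : Subgroup G), P⁆ ≤ ⁅A ⊔ ⁅(S : Subgroup G), P⁆, P⁆ := by
        calc ⁅(S : Subgroup G), P⁆ = ⁅⁅(S : Subgroup G), P⁆, P⁆ := hcaS.commutator_commutator_eq.symm
          _ ≤ ⁅A ⊔ ⁅(S : Subgroup G), P⁆, P⁆ := Subgroup.commutator_mono le_sup_right le_rfl
      have hAN : A ≤ Subgroup.normalizer
          ((⁅A ⊔ ⁅(S : Subgroup G), P⁆, P⁆ : Subgroup G) : Set G) :=
        le_sup_left.trans le_normalizer_commutator_left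
      exact (inf_le_inf_right _ (comm_le_of_normal hAN hSN)).trans hsub
  exact mc.not_le hA.nrm hAne (h4.trans (iSup_le h5))

end Cfsg.Agent.Lib.Helper6.FLL27
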