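import Mathlib
import Cfsg.Prelude.Def_Blocks
import Cfsg.Prelude.Def_BlockRank
import Cfsg.Agent.Lib.Helper25.MajorFiveH
import Cfsg.Agent.Lib.Helper7.HeightZero

/-!
# S4640-[E] (helper6): nonvanishing on the section of a major subsection

From helper25's `(5H)` (`major_five_h_general`) with `ψ` a member of height zero: the contribution
`Σ_ξ ⟨(χ^{(u)})°, ξ⟩ conj ⟨(ψ^{(u)})°, ξ⟩` is non-zero, so `c ↦ χ (u c)` cannot vanish on all the
`p`-regular elements of `C_G(u)`.
-/

set_option autoImplicit false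
set_option linter.style.haveILetI false

namespace Cfsg.Agent.Lib.Helper24.PIdx

open Cfsg
open scoped ComplexConjugate

variable {G : Type*} [Group G] [Fintype G] {p : ℕ} [Fact p.Prime] {M : Ideal Cfsg.AlgInt}

/-- [E] nonvanishing on the section of a major subsection -/
theorem exists_pregular_ne_zero_of_major (hM : Cfsg.IsPModular p M)
    (B : Set (Cfsg.IrrCharacter G)) (u : G) (hu : ∃ k : ℕ, orderOf u = p ^ k)
    (H : Subgroup G) (hH : H = Subgroup.centralizer ({u} : Set G))
    (f : Set (Cfsg.IrrCharacter H)) (hind : Cfsg.IsInducedBlock M H f B)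
    (hdef : Cfsg.blockDefect p f = Cfsg.blockDefect p B)
    (χ : Cfsg.IrrCharacter G) (hχ : χ ∈ B) :
    ∃ s : G, s * u = u * s ∧ Cfsg.IsPRegular p s ∧ (χ : G → ℂ) (u * s) ≠ 0 := by
  classical
  letI : Fintype H := Fintype.ofFinite _
  letI : Fintype (Cfsg.IrrCharacter H) := Fintype.ofFinite _
  by_contra hcon
  push Not at hcon
  have hB : Cfsg.IsPBlock M B := hind.2.1
  obtain ⟨ψ, hψB, hψ0⟩ := Cfsg.Agent.Lib.Helper7.exists_height_zero hM B hB
  have h5 := (Cfsg.Agent.Lib.Helper25.MajorFiveH.major_five_h_general hM u hu H hH B f hind hdef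
    χ ψ hχ hψB hψ0).1
  apply h5
  have hzero : Cfsg.pRegularPart p (fun c : H => (χ : G → ℂ) (u * (c : G))) = 0 := by
    funext c
    unfold Cfsg.pRegularPart
    by_cases hc : Cfsg.IsPRegular p c
    · rw [if_pos hc]
      have hcu : (c : G) * u = u * (c : G) := by
        have hcH : (c : G) ∈ Subgroup.centralizer ({u} : Set G) := by
          rw [← hH]; exact c.2
        exact Subgroup.mem_centralizer_singleton_iff.mp hcH
      have hcreg : Cfsg.IsPRegular p (c : G) := by
        unfold Cfsg.IsPRegular at hc ⊢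
        rwa [Subgroup.orderOf_coe]
      exact hcon (c : G) hcu hcreg
    · rw [if_neg hc]
      rfl
  rw [hzero]
  have hin : ∀ ξ : Cfsg.IrrCharacter H, Cfsg.classInner (0 : H → ℂ) (ξ : H → ℂ) = 0 := by
    intro ξ
    unfold Cfsg.classInner
    simp
  simp [hin]

end Cfsg.Agent.Lib.Helper24.PIdx
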