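import Mathlib
import Cfsg.Prelude.Def_Blocks
import Cfsg.Agent.Lib.Helper24.S4427Defs
import Cfsg.Agent.Lib.Helper24.GroupAlgForm
import Cfsg.Agent.Lib.Helper25.RepToChar

/-! S4427 piece [E]: for an idempotent `ε` of `ℂ[G]`, `phiOf ε` is the character of the left
ideal `ℂ[G] ε` (left multiplication). -/

set_option autoImplicit false

namespace Cfsg.Agent.Lib.Helper24.S4427

namespace Helper6E

variable {G : Type*} [Group G] [Fintype G]

/-- the left ideal `ℂ[G] ε` -/
noncomputable abbrev idl (ε : MonoidAlgebra ℂ G) : Submodule ℂ (MonoidAlgebra ℂ G) :=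
  LinearMap.range (LinearMap.mulRight ℂ ε)

theorem mulLeft_mem (ε : MonoidAlgebra ℂ G) (u : MonoidAlgebra ℂ G) :
    ∀ x ∈ idl ε, LinearMap.mulLeft ℂ u x ∈ idl ε := by
  rintro _ ⟨y, rfl⟩
  refine ⟨u * y, ?_⟩
  simp only [LinearMap.mulRight_apply, LinearMap.mulLeft_apply, mul_assoc]

/-- left multiplication by the group elements on `ℂ[G] ε` -/
noncomputable def leftRep (ε : MonoidAlgebra ℂ G) : Representation ℂ G (idl ε) where
  toFun g := (LinearMap.mulLeft ℂ (MonoidAlgebra.single g (1 : ℂ))).restrict (mulLeft_mem ε _)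
  map_one' := by
    apply LinearMap.ext
    intro x
    apply Subtype.ext
    show MonoidAlgebra.single (1 : G) (1 : ℂ) * (x : MonoidAlgebra ℂ G) = x
    rw [← MonoidAlgebra.one_def, one_mul]
  map_mul' g h := by
    apply LinearMap.ext
    intro x
    apply Subtype.ext
    show MonoidAlgebra.single (g * h) (1 : ℂ) * (x : MonoidAlgebra ℂ G) =
      MonoidAlgebra.single g (1 : ℂ) * (MonoidAlgebra.single h (1 : ℂ) * (x : MonoidAlgebra ℂ G))
    rw [← mul_assoc, MonoidAlgebra.single_mul_single, one_mul]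

theorem leftRep_character (ε : MonoidAlgebra ℂ G) (hε : IsIdempotentElem ε) (g : G) :
    (leftRep ε).character g = phiOf ε g := by
  classical
  set F : MonoidAlgebra ℂ G →ₗ[ℂ] MonoidAlgebra ℂ G :=
    LinearMap.mulLeft ℂ (MonoidAlgebra.single g (1 : ℂ)) ∘ₗ LinearMap.mulRight ℂ ε with hF
  have hF1 : ∀ x, F x ∈ idl ε := by
    intro x
    refine ⟨MonoidAlgebra.single g (1 : ℂ) * x, ?_⟩
    simp only [hF, LinearMap.mulRight_apply, LinearMap.mulLeft_apply, LinearMap.comp_apply,
      mul_assoc]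
  have hF2 : ∀ x ∈ idl ε, F x ∈ idl ε := fun x _ => hF1 x
  have hres : F.restrict hF2 = leftRep ε g := by
    apply LinearMap.ext
    rintro ⟨_, y, rfl⟩
    apply Subtype.ext
    show MonoidAlgebra.single g (1 : ℂ) * ((y * ε) * ε) = MonoidAlgebra.single g (1 : ℂ) * (y * ε)
    rw [mul_assoc y, hε.eq]
  have htr := LinearMap.trace_restrict_eq_of_forall_mem (idl ε) F hF1 hF2
  show LinearMap.trace ℂ (idl ε) (leftRep ε g) = phiOf ε g
  rw [← hres, htr, LinearMap.trace_eq_matrix_trace ℂ (MonoidAlgebra.basis G ℂ), Matrix.trace,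
    phiOf_apply]
  apply Finset.sum_congr rfl
  intro h _
  rw [Matrix.diag_apply, LinearMap.toMatrix_apply, MonoidAlgebra.basis_apply]
  show (MonoidAlgebra.single g (1 : ℂ) * (MonoidAlgebra.single h (1 : ℂ) * ε)).coeff h = _
  rw [← mul_assoc, MonoidAlgebra.single_mul_single, one_mul,
    MonoidAlgebra.coeff_single_mul_apply, one_mul]
  congr 1
  group

end Helper6E

open Helper6E in
/-- [E] for an idempotent `ε` of `ℂ[G]`, `phiOf ε` is the character of `ℂ[G] ε` -/
theorem isCharacter_phiOf {G : Type*} [Group G] [Fintype G] (ε : MonoidAlgebra ℂ G)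
    (hε : IsIdempotentElem ε) : Cfsg.IsCharacter G (phiOf ε) := by
  have h := Cfsg.Agent.Lib.Helper25.isCharacter_of_rep (leftRep ε)
  have h2 : (leftRep ε).character = phiOf ε := funext (leftRep_character ε hε)
  rw [h2] at h
  exact h

end Cfsg.Agent.Lib.Helper24.S4427
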