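import Mathlib
import Cfsg.Prelude.Def_Blocks
import Cfsg.Agent.Lib.Helper24.S4427Defs
import Cfsg.Agent.Lib.Helper24.Loc
import Cfsg.Agent.Lib.Helper24.GroupAlgForm
import Cfsg.Agent.Lib.Helper7.ResidueAlg

/-! S4427 piece [F], core: reduction of an idempotent of `ℂ[G]` with local coefficients to the
group algebra over the residue field; the statement of piece [A] for the residue field is taken
as a hypothesis here (the wiring is in `S4427F.lean`). -/

set_option autoImplicit false

namespace Cfsg.Agent.Lib.Helper24.S4427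

namespace Helper6F

open Cfsg.Agent.Lib.Helper24 Cfsg.Agent.Lib.Helper7

variable {p : ℕ} {M : Ideal Cfsg.AlgInt} {G : Type*} [Group G] [Fintype G]

/-- the reduction of an element of `ℂ[G]` -/
noncomputable def red (hM : Cfsg.IsPModular p M) (ε : MonoidAlgebra ℂ G) :
    MonoidAlgebra (ResF hM) G := redFn hM (fun g => ε.coeff g)

theorem coeff_red (hM : Cfsg.IsPModular p M) (ε : MonoidAlgebra ℂ G) (g : G) :
    (red hM ε).coeff g = redC hM (ε.coeff g) := coeff_redFn hM _ g

theorem red_idem (hM : Cfsg.IsPModular p M) (ε : MonoidAlgebra ℂ G)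
    (hε : IsIdempotentElem ε) (hloc : ∀ g, Cfsg.MemLocalRing M (ε.coeff g)) :
    IsIdempotentElem (red hM ε) := by
  have h1 : conv (fun g => ε.coeff g) (fun g => ε.coeff g) = fun g => ε.coeff g := by
    funext x
    rw [conv_apply]
    have h2 := Cfsg.Agent.Lib.Helper24.GroupAlgForm.coeff_mul_eq_sum ε ε x
    rw [hε.eq] at h2
    exact h2.symm
  have h3 := redFn_conv hM (fun g => ε.coeff g) (fun g => ε.coeff g) hloc hloc
  rw [h1] at h3
  exact h3.symm

theorem red_aug (hM : Cfsg.IsPModular p M) (ε : MonoidAlgebra ℂ G)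
    (hloc : ∀ g, Cfsg.MemLocalRing M (ε.coeff g)) (haug : ∑ g : G, ε.coeff g = 1) :
    ∑ g : G, (red hM ε).coeff g = 1 := by
  rw [Finset.sum_congr rfl (fun g _ => coeff_red hM ε g),
    ← redC_sum hM Finset.univ (fun g => ε.coeff g) (fun g _ => hloc g), haug, redC_one]

/-- [F] from the statement of [A] for the residue field -/
theorem memLocalIdeal_of (hM : Cfsg.IsPModular p M)
    (hA : ∀ e : MonoidAlgebra (ResF hM) G, IsIdempotentElem e → ∑ g : G, e.coeff g = 1 →
      ∑ g : G, (if p ∣ orderOf g then (0 : ResF hM) else e.coeff g) = 1)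
    (ε : MonoidAlgebra ℂ G)
    (hε : IsIdempotentElem ε) (hloc : ∀ g, Cfsg.MemLocalRing M (ε.coeff g))
    (haug : ∑ g : G, ε.coeff g = 1) :
    Cfsg.MemLocalIdeal M
      (∑ g : G, (if p ∣ orderOf g then (0 : ℂ) else ε.coeff g) - 1) := by
  have hA1 := hA (red hM ε) (red_idem hM ε hε hloc) (red_aug hM ε hloc haug)
  have hterm : ∀ g : G, Cfsg.MemLocalRing M (if p ∣ orderOf g then (0 : ℂ) else ε.coeff g) := by
    intro g
    split_ifs
    · exact memLocalRing_zero hM
    · exact hloc g
  have hS : Cfsg.MemLocalRing M (∑ g : G, (if p ∣ orderOf g then (0 : ℂ) else ε.coeff g)) :=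
    memLocalRing_sum hM _ _ (fun g _ => hterm g)
  have h1 : redC hM (∑ g : G, (if p ∣ orderOf g then (0 : ℂ) else ε.coeff g)) = 1 := by
    rw [redC_sum hM _ _ (fun g _ => hterm g), ← hA1]
    apply Finset.sum_congr rfl
    intro g _
    split_ifs
    · exact redC_zero hM
    · exact (coeff_red hM ε g).symm
  have hS1 := memLocalRing_sub hM hS (memLocalRing_one hM)
  rw [← redC_eq_zero_iff hM hS1]
  have h2 := redC_add hM hS1 (memLocalRing_one hM)
  rw [sub_add_cancel, h1, redC_one] at h2
  -- h2 : 1 = redC (S - 1) + 1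
  have h3 : redC hM (∑ g : G, (if p ∣ orderOf g then (0 : ℂ) else ε.coeff g) - 1) + 1 = 0 + 1 := by
    rw [zero_add]; exact h2.symm
  exact add_right_cancel h3

end Helper6F

end Cfsg.Agent.Lib.Helper24.S4427
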