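import Mathlib

/-!
# 3×3 matrices: characteristic polynomial, Cayley–Hamilton consequences, Heisenberg matrices

Matrix-level facts for the extraspecial normalizer rows S5998/S5999.
-/

set_option autoImplicit false

namespace Cfsg.Agent.Lib.Helper6.Heis3

open Polynomial Matrix

variable {F : Type*} [Field F]

/-- second elementary symmetric function of the eigenvalues of a 3×3 matrix -/
def e2 (M : Matrix (Fin 3) (Fin 3) F) : F :=
  M 0 0 * M 1 1 - M 0 1 * M 1 0 + (M 0 0 * M 2 2 - M 0 2 * M 2 0) + (M 1 1 * M 2 2 - M 1 2 * M 2 1)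

theorem charpoly3 (M : Matrix (Fin 3) (Fin 3) F) :
    M.charpoly = X ^ 3 - C (M.trace) * X ^ 2 + C (e2 M) * X - C M.det := by
  rw [Matrix.charpoly, Matrix.det_fin_three, Matrix.det_fin_three, Matrix.trace_fin_three, e2]
  simp only [charmatrix_apply, Matrix.diagonal_apply_eq, Matrix.diagonal_apply_ne, ne_eq, Fin.reduceEq,
    not_false_eq_true, Fin.isValue, zero_sub, map_add, map_sub, map_mul]
  ring

theorem charpoly_eq_of (M N : Matrix (Fin 3) (Fin 3) F) (h1 : M.trace = N.trace) (h2 : e2 M = e2 N)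
    (h3 : M.det = N.det) : M.charpoly = N.charpoly := by
  rw [charpoly3, charpoly3, h1, h2, h3]

theorem ch3 (M : Matrix (Fin 3) (Fin 3) F) :
    M ^ 3 = M.trace • M ^ 2 - e2 M • M + M.det • (1 : Matrix (Fin 3) (Fin 3) F) := by
  have h := Matrix.aeval_self_charpoly M
  rw [charpoly3] at h
  simp only [map_add, map_sub, map_mul, map_pow, aeval_X, aeval_C, Algebra.algebraMap_eq_smul_one] at h
  rw [sub_eq_zero] at h
  rw [← h]
  simp only [Matrix.smul_mul, one_mul]
  abel

theorem lin_nonscalar (M : Matrix (Fin 3) (Fin 3) F) (hM : ∀ z : F, M ≠ z • (1 : Matrix (Fin 3) (Fin 3) F))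
    (a b : F) (h : a • M = b • (1 : Matrix (Fin 3) (Fin 3) F)) : a = 0 ∧ b = 0 := by
  by_cases ha : a = 0
  · refine ⟨ha, ?_⟩
    rw [ha, zero_smul] at h
    have := congrFun (congrFun h 0) 0
    simpa using this.symm
  · exfalso
    apply hM (a⁻¹ * b)
    rw [mul_smul, ← h, smul_smul, inv_mul_cancel₀ ha, one_smul]

/-- `M^2 = z`, nonscalar, det 1 -/
theorem sq_data (M : Matrix (Fin 3) (Fin 3) F) (hM : ∀ z : F, M ≠ z • (1 : Matrix (Fin 3) (Fin 3) F))
    (z : F) (h2 : M ^ 2 = z • (1 : Matrix (Fin 3) (Fin 3) F)) (hd : M.det = 1) :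
    e2 M = -z ∧ M.trace * z = -1 := by
  have h3 := ch3 M
  have h3' : M ^ 3 = z • M := by
    rw [pow_succ, h2, Matrix.smul_mul, one_mul]
  rw [h3', h2, hd] at h3
  have : (z + e2 M) • M = (M.trace * z + 1) • (1 : Matrix (Fin 3) (Fin 3) F) := by
    rw [add_smul, add_smul, mul_smul, h3]
    abel
  obtain ⟨h1, h2⟩ := lin_nonscalar M hM _ _ this
  constructor
  · linear_combination h1
  · linear_combination h2

/-- `M^3 = z`, nonscalar, det 1 -/
theorem cube_data (M : Matrix (Fin 3) (Fin 3) F) (hM : ∀ z : F, M ≠ z • (1 : Matrix (Fin 3) (Fin 3) F))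
    (z : F) (h3 : M ^ 3 = z • (1 : Matrix (Fin 3) (Fin 3) F)) (hd : M.det = 1) :
    (M.trace = 0 ∧ e2 M = 0 ∧ z = 1) ∨
      (∃ α : F, α ^ 3 = z ∧ z ≠ 1 ∧ M.trace * α ^ 2 = 1 - z ∧ e2 M = - (α * M.trace)) := by
  have hc := ch3 M
  rw [h3, hd] at hc
  -- hc : z • 1 = t • M^2 - e • M + 1 • 1
  by_cases ht : M.trace = 0
  · left
    rw [ht, zero_smul, zero_sub] at hc
    have : (e2 M) • M = (1 - z) • (1 : Matrix (Fin 3) (Fin 3) F) := by
      rw [sub_smul, hc]
      abel
    obtain ⟨h1, h2⟩ := lin_nonscalar M hM _ _ this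
    exact ⟨ht, h1, by linear_combination -h2⟩
  · right
    set t := M.trace with htdef
    set e := e2 M with hedef
    have hsq : M ^ 2 = (e / t) • M + ((z - 1) / t) • (1 : Matrix (Fin 3) (Fin 3) F) := by
      have h1 : t • M ^ 2 = e • M + (z - 1) • (1 : Matrix (Fin 3) (Fin 3) F) := by
        rw [sub_smul, hc]
        abel
      have h2 : M ^ 2 = t⁻¹ • (t • M ^ 2) := by
        rw [smul_smul, inv_mul_cancel₀ ht, one_smul]
      rw [h2, h1, smul_add, smul_smul, smul_smul]
      congr 2 <;> field_simp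
    set a := e / t with hadef
    set b := (z - 1) / t with hbdef
    have hcube : M ^ 3 = (a ^ 2 + b) • M + (a * b) • (1 : Matrix (Fin 3) (Fin 3) F) := by
      rw [pow_succ, hsq, add_mul, Matrix.smul_mul, Matrix.smul_mul, one_mul, ← pow_two, hsq]
      rw [smul_add, smul_smul, smul_smul, add_smul, pow_two]
      abel
    rw [h3] at hcube
    have : (a ^ 2 + b) • M = (z - a * b) • (1 : Matrix (Fin 3) (Fin 3) F) := by
      rw [sub_smul, hcube]
      abel
    obtain ⟨h1, h2⟩ := lin_nonscalar M hM _ _ this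
    have hb : b = - a ^ 2 := by linear_combination h1
    have hz : z = a * b := by linear_combination h2
    have hbt : b * t = z - 1 := by
      rw [hbdef]; field_simp
    have hat : a * t = e := by
      rw [hadef]; field_simp
    refine ⟨-a, ?_, ?_, ?_, ?_⟩
    · rw [hz, hb]; ring
    · intro hz1
      have h5 : a ^ 2 * t = 0 := by
        have : b * t = 0 := by rw [hbt, hz1, sub_self]
        rw [hb] at this
        linear_combination -this
      have ha0 : a = 0 := by
        rcases mul_eq_zero.mp h5 with h | h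
        · exact pow_eq_zero_iff (by norm_num) |>.mp h
        · exact absurd h ht
      rw [hz, ha0, zero_mul] at hz1
      exact zero_ne_one hz1
    · have : t * (-a) ^ 2 = - (b * t) := by rw [hb]; ring
      rw [this, hbt]; ring
    · rw [← hat]; ring

/-! ### the standard matrices -/

/-- `diag(1, γ, γ²)` -/
def Zm (γ : F) : Matrix (Fin 3) (Fin 3) F := !![1, 0, 0; 0, γ, 0; 0, 0, γ ^ 2]
/-- cyclic shift `e₀ ↦ e₁ ↦ e₂ ↦ e₀` -/
def Xm : Matrix (Fin 3) (Fin 3) F := !![0, 0, 1; 1, 0, 0; 0, 1, 0]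
/-- `-(swap e₁ e₂)` -/
def Tm : Matrix (Fin 3) (Fin 3) F := !![-1, 0, 0; 0, 0, -1; 0, -1, 0]
/-- `diag(1, 1, β)` -/
def Dm (β : F) : Matrix (Fin 3) (Fin 3) F := !![1, 0, 0; 0, 1, 0; 0, 0, β]

theorem det_Zm (γ : F) : (Zm γ).det = γ ^ 3 := by
  rw [Zm, Matrix.det_fin_three]; simp; ring
theorem det_Xm : (Xm : Matrix (Fin 3) (Fin 3) F).det = 1 := by
  rw [Xm, Matrix.det_fin_three]; simp
theorem det_Tm : (Tm : Matrix (Fin 3) (Fin 3) F).det = 1 := by
  rw [Tm, Matrix.det_fin_three]; simp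
theorem det_Dm (β : F) : (Dm β).det = β := by
  rw [Dm, Matrix.det_fin_three]; simp

theorem trace_Zm (γ : F) : (Zm γ).trace = 1 + γ + γ ^ 2 := by
  rw [Zm, Matrix.trace_fin_three]; simp
theorem e2_Zm (γ : F) : e2 (Zm γ) = γ + γ ^ 2 + γ ^ 3 := by
  simp [e2, Zm]; ring

theorem trace_smul_Tm (s : F) : (s • (Tm : Matrix (Fin 3) (Fin 3) F)).trace = -s := by
  rw [Matrix.trace_fin_three]; simp [Tm]
theorem e2_smul_Tm (s : F) : e2 (s • (Tm : Matrix (Fin 3) (Fin 3) F)) = - s ^ 2 := by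
  simp [e2, Tm]; ring
theorem det_smul_Tm (s : F) : (s • (Tm : Matrix (Fin 3) (Fin 3) F)).det = s ^ 3 := by
  rw [Matrix.det_smul, det_Tm]; simp

theorem trace_smul_Dm (s β : F) : (s • Dm β).trace = s * (2 + β) := by
  rw [Matrix.trace_fin_three]; simp [Dm]; ring
theorem e2_smul_Dm (s β : F) : e2 (s • Dm β) = s ^ 2 * (1 + 2 * β) := by
  simp [e2, Dm]; ring
theorem det_smul_Dm (s β : F) : (s • Dm β).det = s ^ 3 * β := by
  rw [Matrix.det_smul, det_Dm]; simp

/-! relations -/

theorem Zm_mul_Xm (γ : F) (hγ : γ ^ 2 + γ + 1 = 0) : Zm γ * Xm = γ • (Xm * Zm γ) := by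
  have h3 : γ ^ 3 = 1 := by linear_combination (γ - 1) * hγ
  ext i j
  fin_cases i <;> fin_cases j <;> simp [Zm, Xm, Matrix.mul_apply, Fin.sum_univ_three]
  all_goals first | ring1 | linear_combination (-1 : F) * h3 | linear_combination (-γ) * h3

theorem Zm_pow_three (γ : F) (hγ : γ ^ 2 + γ + 1 = 0) : Zm γ ^ 3 = 1 := by
  have h3 : γ ^ 3 = 1 := by linear_combination (γ - 1) * hγ
  ext i j
  fin_cases i <;> fin_cases j <;> simp [Zm, pow_succ, Matrix.mul_apply, Fin.sum_univ_three]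
  all_goals first | ring1 | linear_combination (1 : F) * h3 | linear_combination (γ ^ 3 + 1) * h3

theorem Xm_pow_three : (Xm : Matrix (Fin 3) (Fin 3) F) ^ 3 = 1 := by
  ext i j
  fin_cases i <;> fin_cases j <;> simp [Xm, pow_succ, Matrix.mul_apply, Fin.sum_univ_three]

theorem Tm_mul_Tm : (Tm : Matrix (Fin 3) (Fin 3) F) * Tm = 1 := by
  ext i j
  fin_cases i <;> fin_cases j <;> simp [Tm, Matrix.mul_apply, Fin.sum_univ_three]

/-- conjugation by `Tm` inverts `Zm` -/
theorem Tm_Zm (γ : F) (hγ : γ ^ 2 + γ + 1 = 0) : Tm * Zm γ = (Zm γ * Zm γ) * Tm := by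
  have h3 : γ ^ 3 = 1 := by linear_combination (γ - 1) * hγ
  ext i j
  fin_cases i <;> fin_cases j <;> simp [Tm, Zm, Matrix.mul_apply, Fin.sum_univ_three]
  all_goals first | ring1 | linear_combination (-1 : F) * h3 | linear_combination (-γ) * h3

/-- conjugation by `Tm` inverts `Xm` -/
theorem Tm_Xm : Tm * Xm = (Xm * Xm : Matrix (Fin 3) (Fin 3) F) * Tm := by
  ext i j
  fin_cases i <;> fin_cases j <;> simp [Tm, Xm, Matrix.mul_apply, Fin.sum_univ_three]

theorem Dm_Zm (β γ : F) : Dm β * Zm γ = Zm γ * Dm β := by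
  ext i j
  fin_cases i <;> fin_cases j <;> simp [Dm, Zm, Matrix.mul_apply, Fin.sum_univ_three]
  all_goals first | ring1

/-- `D_γ X = (γ² Z) X D_γ` -/
theorem Dm_Xm (γ : F) (hγ : γ ^ 2 + γ + 1 = 0) : Dm γ * Xm = (γ ^ 2 • Zm γ) * Xm * Dm γ := by
  have h3 : γ ^ 3 = 1 := by linear_combination (γ - 1) * hγ
  ext i j
  fin_cases i <;> fin_cases j <;> simp [Dm, Zm, Xm, Matrix.mul_apply, Fin.sum_univ_three]
  all_goals first | ring1 | linear_combination (-1 : F) * h3 | linear_combination (-γ) * h3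

/-- a matrix commuting with `Zm γ` and `Xm` is scalar -/
theorem scalar_of_comm (γ : F) (hγ : γ ^ 2 + γ + 1 = 0) (h3 : (3 : F) ≠ 0) (M : Matrix (Fin 3) (Fin 3) F)
    (hZ : M * Zm γ = Zm γ * M) (hX : M * Xm = Xm * M) : M = (M 0 0) • (1 : Matrix (Fin 3) (Fin 3) F) := by
  have hγ1 : γ ≠ 1 := by
    intro h
    rw [h] at hγ
    apply h3
    linear_combination hγ
  have hγ3 : γ ^ 3 = 1 := by linear_combination (γ - 1) * hγ
  have hγ2 : γ ^ 2 ≠ 1 := by
    intro h
    apply hγ1
    have : γ ^ 3 = γ := by rw [pow_succ, h, one_mul]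
    rw [hγ3] at this
    exact this.symm
  have e := fun i j => congrFun (congrFun hZ i) j
  have f := fun i j => congrFun (congrFun hX i) j
  have e01 := e 0 1
  have e02 := e 0 2
  have e10 := e 1 0
  have e12 := e 1 2
  have e20 := e 2 0
  have e21 := e 2 1
  have f10 := f 1 0
  have f21 := f 2 1
  simp [Zm, Xm, Matrix.mul_apply, Fin.sum_univ_three] at e01 e02 e10 e12 e20 e21 f10 f21
  have m01 : M 0 1 = 0 := by
    have : M 0 1 * (γ - 1) = 0 := by linear_combination e01
    rcases mul_eq_zero.mp this with h | h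
    · exact h
    · exact absurd (sub_eq_zero.mp h) hγ1
  have m02 : M 0 2 = 0 := by
    have : M 0 2 * (γ ^ 2 - 1) = 0 := by linear_combination e02
    rcases mul_eq_zero.mp this with h | h
    · exact h
    · exact absurd (sub_eq_zero.mp h) hγ2
  have m10 : M 1 0 = 0 := by
    have : M 1 0 * (1 - γ) = 0 := by linear_combination e10
    rcases mul_eq_zero.mp this with h | h
    · exact h
    · exact absurd (sub_eq_zero.mp h).symm hγ1
  have m12 : M 1 2 = 0 := by
    have : M 1 2 * γ * (γ - 1) = 0 := by linear_combination e12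
    rcases mul_eq_zero.mp this with h | h
    · rcases mul_eq_zero.mp h with h | h
      · exact h
      · exfalso; rw [h] at hγ3; simp at hγ3
    · exact absurd (sub_eq_zero.mp h) hγ1
  have m20 : M 2 0 = 0 := by
    have : M 2 0 * (1 - γ ^ 2) = 0 := by linear_combination e20
    rcases mul_eq_zero.mp this with h | h
    · exact h
    · exact absurd (sub_eq_zero.mp h).symm hγ2
  have m21 : M 2 1 = 0 := by
    have : M 2 1 * γ * (1 - γ) = 0 := by linear_combination e21
    rcases mul_eq_zero.mp this with h | h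
    · rcases mul_eq_zero.mp h with h | h
      · exact h
      · exfalso; rw [h] at hγ3; simp at hγ3
    · exact absurd (sub_eq_zero.mp h).symm hγ1
  ext i j
  fin_cases i <;> fin_cases j <;> simp [m01, m02, m10, m12, m20, m21]
  · exact f10
  · rw [f21, f10]

end Cfsg.Agent.Lib.Helper6.Heis3
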