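import Mathlib

/-!
# Groups of order 27: abstract facts for the extraspecial normalizer rows
-/

set_option autoImplicit false

namespace Cfsg.Agent.Lib.Helper6.Heis3

section abstract27

variable {R : Type*} [Group R]

theorem comm_of_card_dvd_nine (n : ℕ) (hn : n = 1 ∨ n = 3 ∨ n = 9) (hR : Nat.card R = n) (a b : R) :
    a * b = b * a := by
  rcases hn with rfl | rfl | rfl
  · have : Subsingleton R := (Nat.card_eq_one_iff_unique.mp hR).1
    rw [Subsingleton.elim a 1, Subsingleton.elim b 1]
  · have : Fact (Nat.Prime 3) := ⟨by norm_num⟩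
    have : IsCyclic R := isCyclic_of_prime_card (p := 3) hR
    exact isMulCommutative_iff.mp IsCyclic.isMulCommutative a b
  · have : Fact (Nat.Prime 3) := ⟨by norm_num⟩
    exact isMulCommutative_iff.mp
      (IsPGroup.isMulCommutative_of_card_eq_prime_sq (p := 3) (by rw [hR]; norm_num)) a b

theorem dvd27 (n : ℕ) (h : n ∣ 27) : n = 1 ∨ n = 3 ∨ n = 9 ∨ n = 27 := by
  have h1 : n ∈ Nat.divisors 27 := Nat.mem_divisors.mpr ⟨h, by norm_num⟩
  have h2 : Nat.divisors 27 = {1, 3, 9, 27} := by decide
  rw [h2] at h1
  simpa using h1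

/-- in a nonabelian group of order 27 commutators are central -/
theorem commutator_central (hR : Nat.card R = 27) (hna : ¬ ∀ a b : R, a * b = b * a) (x y z : R) :
    (x * y * x⁻¹ * y⁻¹) * z = z * (x * y * x⁻¹ * y⁻¹) := by
  have : Fact (Nat.Prime 3) := ⟨by norm_num⟩
  have : Finite R := Nat.finite_of_card_ne_zero (by rw [hR]; norm_num)
  have : Nontrivial R := by
    rw [← Finite.one_lt_card_iff_nontrivial, hR]; norm_num
  have hp : IsPGroup 3 R := IsPGroup.of_card (n := 3) (by rw [hR]; norm_num)
  have hZnt : Nontrivial (Subgroup.center R) := hp.center_nontrivial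
  have hdvd : Nat.card (Subgroup.center R) ∣ 27 := by
    rw [← hR]; exact Subgroup.card_subgroup_dvd_card _
  have hmul : Nat.card (R ⧸ Subgroup.center R) * Nat.card (Subgroup.center R) = 27 := by
    rw [← hR, ← Subgroup.card_eq_card_quotient_mul_card_subgroup]
  have hZ3 : Nat.card (Subgroup.center R) = 3 := by
    rcases dvd27 _ hdvd with h | h | h | h
    · exfalso
      have := (Nat.card_eq_one_iff_unique.mp h).1
      exact not_subsingleton _ this
    · exact h
    · exfalso
      rw [h] at hmul
      have h3 : Nat.card (R ⧸ Subgroup.center R) = 3 := by omega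
      have : IsCyclic (R ⧸ Subgroup.center R) := isCyclic_of_prime_card (p := 3) h3
      apply hna
      intro a b
      exact isMulCommutative_iff.mp (MonoidHom.isMulCommutative_of_isCyclic_of_ker_le_center
        (QuotientGroup.mk' (Subgroup.center R)) (by rw [QuotientGroup.ker_mk'])) a b
    · exfalso
      apply hna
      intro a b
      have htop : Subgroup.center R = ⊤ := by
        apply (Subgroup.card_eq_iff_eq_top _).mp
        rw [h, hR]
      have : a ∈ Subgroup.center R := by rw [htop]; trivial
      exact (Subgroup.mem_center_iff.mp this b).symm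
  rw [hZ3] at hmul
  have h9 : Nat.card (R ⧸ Subgroup.center R) = 3 ^ 2 := by omega
  have hcomm := isMulCommutative_iff.mp (IsPGroup.isMulCommutative_of_card_eq_prime_sq (p := 3) h9)
  have hmem : (x * y * x⁻¹ * y⁻¹) ∈ Subgroup.center R := by
    rw [← QuotientGroup.eq_one_iff]
    simp only [QuotientGroup.mk_mul, QuotientGroup.mk_inv]
    rw [hcomm (↑x) (↑y)]
    group
  exact (Subgroup.mem_center_iff.mp hmem z).symm

end abstract27

section sub

variable {G : Type*} [Group G]

/-- a subgroup of a group of order 27 containing two noncommuting elements is everything -/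
theorem eq_of_noncomm_le (R H : Subgroup G) (hR : Nat.card R = 27) (hHR : H ≤ R) (x y : G) (hx : x ∈ H)
    (hy : y ∈ H) (hxy : x * y ≠ y * x) : H = R := by
  have : Finite R := Nat.finite_of_card_ne_zero (by rw [hR]; norm_num)
  have hdvd : Nat.card H ∣ 27 := by
    rw [← hR]; exact Subgroup.card_dvd_of_le hHR
  rcases dvd27 _ hdvd with h | h | h | h
  · exfalso
    have := comm_of_card_dvd_nine 1 (Or.inl rfl) h (⟨x, hx⟩ : H) ⟨y, hy⟩
    exact hxy (congrArg Subtype.val this)
  · exfalso
    have := comm_of_card_dvd_nine 3 (Or.inr (Or.inl rfl)) h (⟨x, hx⟩ : H) ⟨y, hy⟩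
    exact hxy (congrArg Subtype.val this)
  · exfalso
    have := comm_of_card_dvd_nine 9 (Or.inr (Or.inr rfl)) h (⟨x, hx⟩ : H) ⟨y, hy⟩
    exact hxy (congrArg Subtype.val this)
  · exact Subgroup.eq_of_le_of_card_ge hHR (by rw [h, hR])

/-- an element normalising a finite subgroup generated by `S` as soon as it conjugates `S` into it -/
theorem mem_normalizer_of_closure (S : Set G) (T : G) (hfin : Finite (Subgroup.closure S))
    (hT : ∀ s ∈ S, T * s * T⁻¹ ∈ Subgroup.closure S) :
    T ∈ Subgroup.normalizer ((Subgroup.closure S : Subgroup G) : Set G) := by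
  set H := Subgroup.closure S with hH
  have hle : H.map (MulAut.conj T).toMonoidHom ≤ H := by
    rw [hH, MonoidHom.map_closure, Subgroup.closure_le]
    rintro _ ⟨s, hs, rfl⟩
    simpa using hT s hs
  have hcard : Nat.card (H.map (MulAut.conj T).toMonoidHom) = Nat.card H :=
    Subgroup.card_map_of_injective (MulAut.conj T).injective
  have heq : H.map (MulAut.conj T).toMonoidHom = H :=
    Subgroup.eq_of_le_of_card_ge hle (by rw [hcard])
  rw [Subgroup.mem_normalizer_iff]
  intro h
  constructor
  · intro hh
    rw [← heq]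
    exact ⟨h, hh, by simp⟩
  · intro hh
    rw [← heq] at hh
    obtain ⟨h', hh', he⟩ := hh
    have : h' = h := by
      have := (MulAut.conj T).injective (a₁ := h') (a₂ := h) (by simpa using he)
      exact this
    rw [← this]; exact hh'

/-- an element of prime order `r ≥ 5` normalising a subgroup `R` of order 27 and centralising a nontrivial element
of it centralises `R` -/
theorem centralizes_of_pow (R : Subgroup G) (hR : Nat.card R = 27) (c h : G) (hc : c ∈ R) (hc1 : c ≠ 1)
    (hch : h * c = c * h) (hN : h ∈ Subgroup.normalizer (R : Set G)) (r : ℕ) [hr : Fact r.Prime] (hr5 : 5 ≤ r)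
    (hpow : h ^ r = 1) : ∀ u ∈ R, h * u = u * h := by
  classical
  have : Finite R := Nat.finite_of_card_ne_zero (by rw [hR]; norm_num)
  have : Fintype R := Fintype.ofFinite R
  -- the conjugation map on R
  have hNinv : h⁻¹ ∈ Subgroup.normalizer (R : Set G) := inv_mem hN
  let σ : Equiv.Perm R :=
    { toFun := fun u => ⟨h * u * h⁻¹, (Subgroup.mem_normalizer_iff.mp hN u).mp u.2⟩
      invFun := fun u => ⟨h⁻¹ * u * h, by
        have := (Subgroup.mem_normalizer_iff.mp hNinv u).mp u.2
        simpa using this⟩
      left_inv := fun u => by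
        apply Subtype.ext
        show h⁻¹ * (h * (u : G) * h⁻¹) * h = u
        group
      right_inv := fun u => by
        apply Subtype.ext
        show h * (h⁻¹ * (u : G) * h) * h⁻¹ = u
        group }
  have hσapp : ∀ u : R, ((σ u : R) : G) = h * u * h⁻¹ := fun u => rfl
  have hσpow : ∀ k : ℕ, ∀ u : R, (((σ ^ k) u : R) : G) = h ^ k * u * (h ^ k)⁻¹ := by
    intro k
    induction k with
    | zero => intro u; simp
    | succ k ih =>
      intro u
      rw [pow_succ', Equiv.Perm.mul_apply, hσapp, ih u, pow_succ']
      group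
  have hσr : σ ^ r ^ 1 = 1 := by
    rw [pow_one]
    ext u
    rw [hσpow r u, hpow]
    simp
  have hmod := Equiv.Perm.card_compl_support_modEq (p := r) (n := 1) (σ := σ) hσr
  -- the fixed points form a subgroup
  let C : Subgroup R := (Subgroup.centralizer {h}).subgroupOf R
  have hfix : (σ.supportᶜ).card = Nat.card C := by
    rw [Nat.card_eq_fintype_card, Fintype.card_subtype]
    congr 1
    ext u
    rw [Finset.mem_compl, Equiv.Perm.mem_support, not_not, Finset.mem_filter]
    simp only [Finset.mem_univ, true_and]
    show σ u = u ↔ u ∈ C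
    rw [Subgroup.mem_subgroupOf, Subgroup.mem_centralizer_iff]
    constructor
    · intro hu
      have := congrArg Subtype.val hu
      intro g hg
      rw [Set.mem_singleton_iff] at hg
      subst hg
      have h1 : g * (u : G) * g⁻¹ = u := this
      calc g * (u : G) = g * u * g⁻¹ * g := by group
        _ = u * g := by rw [h1]
    · intro hu
      apply Subtype.ext
      show h * (u : G) * h⁻¹ = u
      rw [hu h rfl]
      group
  have hCdvd : Nat.card C ∣ 27 := by
    rw [← hR]; exact Subgroup.card_subgroup_dvd_card _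
  have hC1 : Nat.card C ≠ 1 := by
    intro h1
    have hbot : C = ⊥ := Subgroup.card_eq_one.mp h1
    have hcC : (⟨c, hc⟩ : R) ∈ C := by
      rw [Subgroup.mem_subgroupOf, Subgroup.mem_centralizer_iff]
      intro g hg
      rw [Set.mem_singleton_iff] at hg
      subst hg
      exact hch
    rw [hbot, Subgroup.mem_bot] at hcC
    exact hc1 (congrArg Subtype.val hcC)
  rw [hfix, ← Nat.card_eq_fintype_card, hR] at hmod
  have hmod := hmod.symm
  have hr' := hr.out
  have hC27 : Nat.card C = 27 := by
    rcases dvd27 _ hCdvd with h | h | h | h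
    · exact absurd h hC1
    · exfalso
      rw [h] at hmod
      have h24 : r ∣ 24 := (Nat.modEq_iff_dvd' (by norm_num)).mp hmod.symm
      have : r ∣ 2 ^ 3 * 3 := by norm_num; exact h24
      rcases (Nat.Prime.dvd_mul hr').mp this with h2 | h3
      · have := (Nat.prime_dvd_prime_iff_eq hr' Nat.prime_two).mp (hr'.dvd_of_dvd_pow h2)
        omega
      · have := (Nat.prime_dvd_prime_iff_eq hr' Nat.prime_three).mp h3
        omega
    · exfalso
      rw [h] at hmod
      have h18 : r ∣ 18 := (Nat.modEq_iff_dvd' (by norm_num)).mp hmod.symm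
      have : r ∣ 2 * 3 ^ 2 := by norm_num; exact h18
      rcases (Nat.Prime.dvd_mul hr').mp this with h2 | h3
      · have := (Nat.prime_dvd_prime_iff_eq hr' Nat.prime_two).mp h2
        omega
      · have := (Nat.prime_dvd_prime_iff_eq hr' Nat.prime_three).mp (hr'.dvd_of_dvd_pow h3)
        omega
    · exact h
  have htop : C = ⊤ := (Subgroup.card_eq_iff_eq_top _).mp (by rw [hC27, hR])
  intro u hu
  have : (⟨u, hu⟩ : R) ∈ C := by rw [htop]; trivial
  rw [Subgroup.mem_subgroupOf, Subgroup.mem_centralizer_iff] at this
  exact this h rfl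

end sub

end Cfsg.Agent.Lib.Helper6.Heis3
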