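import Mathlib
import Cfsg.Agent.Lib.Helper6.Heis3A
import Cfsg.Agent.Lib.Helper6.Heis3B

/-!
# Nonabelian subgroups of order 27 and exponent 3 of `GL_3(F)` are conjugate to the Heisenberg group
-/

set_option autoImplicit false

namespace Cfsg.Agent.Lib.Helper6.Heis3

open Matrix

variable {F : Type*} [Field F]

theorem cube_root_cases (γ s : F) (hγ : γ ^ 2 + γ + 1 = 0) (hs : s ^ 3 = 1) : s = 1 ∨ s = γ ∨ s = γ ^ 2 := by
  have h3 : γ ^ 3 = 1 := by linear_combination (γ - 1) * hγ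
  have : (s - 1) * ((s - γ) * (s - γ ^ 2)) = 0 := by
    linear_combination hs - s ^ 2 * hγ + s * γ * hγ - h3
  rcases mul_eq_zero.mp this with h | h
  · left; exact sub_eq_zero.mp h
  · rcases mul_eq_zero.mp h with h | h
    · right; left; exact sub_eq_zero.mp h
    · right; right; exact sub_eq_zero.mp h

theorem gamma_ne_one (γ : F) (hγ : γ ^ 2 + γ + 1 = 0) (h3 : (3 : F) ≠ 0) : γ ≠ 1 := by
  intro h
  rw [h] at hγ
  apply h3
  linear_combination hγ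

theorem gamma_cube (γ : F) (hγ : γ ^ 2 + γ + 1 = 0) : γ ^ 3 = 1 := by linear_combination (γ - 1) * hγ

theorem gamma_ne_zero (γ : F) (hγ : γ ^ 2 + γ + 1 = 0) : γ ≠ 0 := by
  intro h
  rw [h] at hγ
  simp at hγ

theorem gamma_sq_root (γ : F) (hγ : γ ^ 2 + γ + 1 = 0) : (γ ^ 2) ^ 2 + γ ^ 2 + 1 = 0 := by
  linear_combination (γ ^ 2 - γ + 1) * hγ

/-! ### the standard elements of `GL_3(F)` -/

noncomputable def ZU (γ : F) (hγ : γ ^ 2 + γ + 1 = 0) : GL (Fin 3) F :=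
  Matrix.GeneralLinearGroup.mkOfDetNeZero (Zm γ) (by rw [det_Zm, gamma_cube γ hγ]; exact one_ne_zero)

noncomputable def XU : GL (Fin 3) F :=
  Matrix.GeneralLinearGroup.mkOfDetNeZero Xm (by rw [det_Xm]; exact one_ne_zero)

noncomputable def TU : GL (Fin 3) F :=
  Matrix.GeneralLinearGroup.mkOfDetNeZero Tm (by rw [det_Tm]; exact one_ne_zero)

noncomputable def DU (β : F) (hβ : β ≠ 0) : GL (Fin 3) F :=
  Matrix.GeneralLinearGroup.mkOfDetNeZero (Dm β) (by rw [det_Dm]; exact hβ)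

noncomputable def scU (s : F) (hs : s ≠ 0) : GL (Fin 3) F :=
  Matrix.GeneralLinearGroup.mkOfDetNeZero (s • (1 : Matrix (Fin 3) (Fin 3) F))
    (by rw [Matrix.det_smul, Matrix.det_one, mul_one]; exact pow_ne_zero _ hs)

@[simp] theorem ZU_val (γ : F) (hγ : γ ^ 2 + γ + 1 = 0) : ((ZU γ hγ : GL (Fin 3) F) : Matrix (Fin 3) (Fin 3) F) = Zm γ := rfl
@[simp] theorem XU_val : ((XU : GL (Fin 3) F) : Matrix (Fin 3) (Fin 3) F) = Xm := rfl
@[simp] theorem TU_val : ((TU : GL (Fin 3) F) : Matrix (Fin 3) (Fin 3) F) = Tm := rfl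
@[simp] theorem DU_val (β : F) (hβ : β ≠ 0) : ((DU β hβ : GL (Fin 3) F) : Matrix (Fin 3) (Fin 3) F) = Dm β := rfl
@[simp] theorem scU_val (s : F) (hs : s ≠ 0) :
    ((scU s hs : GL (Fin 3) F) : Matrix (Fin 3) (Fin 3) F) = s • (1 : Matrix (Fin 3) (Fin 3) F) := rfl

theorem scU_comm (s : F) (hs : s ≠ 0) (g : GL (Fin 3) F) : scU s hs * g = g * scU s hs := by
  apply Units.ext
  simp

/-- the standard Heisenberg group -/
noncomputable def R0 (γ : F) (hγ : γ ^ 2 + γ + 1 = 0) : Subgroup (GL (Fin 3) F) :=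
  Subgroup.closure {ZU γ hγ, XU}

theorem ZU_mem (γ : F) (hγ : γ ^ 2 + γ + 1 = 0) : ZU γ hγ ∈ R0 γ hγ :=
  Subgroup.subset_closure (by simp)
theorem XU_mem (γ : F) (hγ : γ ^ 2 + γ + 1 = 0) : XU ∈ R0 γ hγ :=
  Subgroup.subset_closure (by simp)

theorem ZU_mul_XU (γ : F) (hγ : γ ^ 2 + γ + 1 = 0) :
    ZU γ hγ * XU = scU γ (gamma_ne_zero γ hγ) * (XU * ZU γ hγ) := by
  apply Units.ext
  simp only [Units.val_mul, ZU_val, XU_val, scU_val, Matrix.smul_mul, one_mul]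
  exact Zm_mul_Xm γ hγ

theorem scU_mem (γ : F) (hγ : γ ^ 2 + γ + 1 = 0) : scU γ (gamma_ne_zero γ hγ) ∈ R0 γ hγ := by
  have h : scU γ (gamma_ne_zero γ hγ) = ZU γ hγ * XU * (XU * ZU γ hγ)⁻¹ := by
    rw [ZU_mul_XU γ hγ, mul_inv_cancel_right]
  rw [h]
  exact mul_mem (mul_mem (ZU_mem γ hγ) (XU_mem γ hγ)) (inv_mem (mul_mem (XU_mem γ hγ) (ZU_mem γ hγ)))

theorem ZU_XU_ne (γ : F) (hγ : γ ^ 2 + γ + 1 = 0) (h3 : (3 : F) ≠ 0) :
    ZU γ hγ * XU ≠ XU * ZU γ hγ := by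
  intro h
  have h1 := ZU_mul_XU γ hγ
  rw [h] at h1
  have h2 : scU γ (gamma_ne_zero γ hγ) = 1 := by
    have := mul_right_cancel (a := (1 : GL (Fin 3) F)) (b := XU * ZU γ hγ) (c := scU γ (gamma_ne_zero γ hγ))
      (by rw [one_mul]; exact h1)
    exact this.symm
  have h4 := congrArg (fun u : GL (Fin 3) F => (u : Matrix (Fin 3) (Fin 3) F) 0 0) h2
  simp at h4
  exact gamma_ne_one γ hγ h3 h4

/-! ### eigenvectors -/

theorem exists_eigen_of_cube (γ : F) (hγ : γ ^ 2 + γ + 1 = 0) (M : Matrix (Fin 3) (Fin 3) F) (hM : M ^ 3 = 1)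
    (S : Submodule F (Fin 3 → F)) (hS : ∀ w ∈ S, M.mulVec w ∈ S) (w : Fin 3 → F) (hw : w ∈ S) (hw0 : w ≠ 0) :
    ∃ v ∈ S, v ≠ 0 ∧ ∃ l : F, l ^ 3 = 1 ∧ M.mulVec v = l • v := by
  have h3 := gamma_cube γ hγ
  set a := M.mulVec w with ha
  set b := M.mulVec a with hb
  have hc : M.mulVec b = w := by
    rw [hb, ha, Matrix.mulVec_mulVec, Matrix.mulVec_mulVec, ← pow_two, ← pow_succ, hM, Matrix.one_mulVec]
  have haS : a ∈ S := hS w hw
  have hbS : b ∈ S := hS a haS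
  by_cases h1 : a = w
  · exact ⟨w, hw, hw0, 1, one_pow 3, by rw [one_smul]; exact h1⟩
  · by_cases h2 : b - a = γ • (a - w)
    · refine ⟨a - w, S.sub_mem haS hw, sub_ne_zero.mpr h1, γ, h3, ?_⟩
      rw [Matrix.mulVec_sub, ← hb, ← ha]
      exact h2
    · refine ⟨(b - a) - γ • (a - w), S.sub_mem (S.sub_mem hbS haS) (S.smul_mem _ (S.sub_mem haS hw)),
        sub_ne_zero.mpr h2, γ ^ 2, by rw [← pow_mul]; linear_combination (γ ^ 3 + 1) * h3, ?_⟩
      rw [Matrix.mulVec_sub, Matrix.mulVec_sub, Matrix.mulVec_smul, Matrix.mulVec_sub, ← ha, ← hb, hc]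
      have e1 : γ ^ 2 • (b - a - γ • (a - w)) = γ ^ 2 • b - γ ^ 2 • a - γ ^ 3 • a + γ ^ 3 • w := by
        rw [smul_sub, smul_sub, smul_smul, smul_sub]
        have : γ ^ 2 * γ = γ ^ 3 := by ring
        rw [this]
        abel
      rw [e1, h3, one_smul, one_smul]
      have e2 : w - b - γ • (b - a) - (γ ^ 2 • b - γ ^ 2 • a - a + w) = (γ ^ 2 + γ + 1) • a - (γ ^ 2 + γ + 1) • b := by
        simp only [smul_sub, add_smul, one_smul]
        abel
      rw [← sub_eq_zero, e2, hγ, zero_smul, zero_smul, sub_zero]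

/-- an eigenvector with eigenvalue a primitive cube root of unity, for a nontrivial matrix of order 3
which has no ... -/
theorem exists_eigen_ne_one (γ : F) (hγ : γ ^ 2 + γ + 1 = 0) (M : Matrix (Fin 3) (Fin 3) F) (hM : M ^ 3 = 1)
    (hM1 : M ≠ 1) :
    ∃ γ' : F, γ' ^ 2 + γ' + 1 = 0 ∧ ∃ v : Fin 3 → F, v ≠ 0 ∧ M.mulVec v = γ' • v := by
  have h3 := gamma_cube γ hγ
  have hw : ∃ w : Fin 3 → F, M.mulVec w ≠ w := by
    by_contra hall
    push Not at hall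
    apply hM1
    apply Matrix.toLin'.injective
    apply LinearMap.ext
    intro w
    rw [Matrix.toLin'_apply, hall w, Matrix.toLin'_one, LinearMap.id_apply]
  obtain ⟨w, hw⟩ := hw
  set a := M.mulVec w with ha
  set b := M.mulVec a with hb
  have hc : M.mulVec b = w := by
    rw [hb, ha, Matrix.mulVec_mulVec, Matrix.mulVec_mulVec, ← pow_two, ← pow_succ, hM, Matrix.one_mulVec]
  by_cases h2 : b - a = γ • (a - w)
  · refine ⟨γ, hγ, a - w, sub_ne_zero.mpr hw, ?_⟩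
    rw [Matrix.mulVec_sub, ← hb, ← ha]
    exact h2
  · refine ⟨γ ^ 2, gamma_sq_root γ hγ, (b - a) - γ • (a - w), sub_ne_zero.mpr h2, ?_⟩
    rw [Matrix.mulVec_sub, Matrix.mulVec_sub, Matrix.mulVec_smul, Matrix.mulVec_sub, ← ha, ← hb, hc]
    have e1 : γ ^ 2 • (b - a - γ • (a - w)) = γ ^ 2 • b - γ ^ 2 • a - γ ^ 3 • a + γ ^ 3 • w := by
      rw [smul_sub, smul_sub, smul_smul, smul_sub]
      have : γ ^ 2 * γ = γ ^ 3 := by ring
      rw [this]
      abel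
    rw [e1, h3, one_smul, one_smul]
    have e2 : w - b - γ • (b - a) - (γ ^ 2 • b - γ ^ 2 • a - a + w) = (γ ^ 2 + γ + 1) • a - (γ ^ 2 + γ + 1) • b := by
      simp only [smul_sub, add_smul, one_smul]
      abel
    rw [← sub_eq_zero, e2, hγ, zero_smul, zero_smul, sub_zero]

theorem mul_col (M g : Matrix (Fin 3) (Fin 3) F) (i k : Fin 3) :
    (M * g) i k = (M.mulVec (fun j => g j k)) i := by
  simp [Matrix.mul_apply, Matrix.mulVec, dotProduct]

end Cfsg.Agent.Lib.Helper6.Heis3
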