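import Mathlib
import Cfsg.Agent.Lib.Helper6.Heis3C

/-!
# Structure theorem: a nonabelian subgroup of order 27 and exponent 3 of `GL_3(F)` is conjugate to `R0`
-/

set_option autoImplicit false

namespace Cfsg.Agent.Lib.Helper6.Heis3

open Matrix

variable {F : Type*} [Field F]

theorem scU_mul (a b : F) (ha : a ≠ 0) (hb : b ≠ 0) :
    scU a ha * scU b hb = scU (a * b) (mul_ne_zero ha hb) := by
  apply Units.ext
  simp [Matrix.smul_mul, smul_smul, mul_comm]

theorem scU_one : scU (1 : F) one_ne_zero = 1 := by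
  apply Units.ext
  simp

theorem scU_congr (a b : F) (ha : a ≠ 0) (hb : b ≠ 0) (h : a = b) : scU a ha = scU b hb := by
  subst h; rfl

set_option maxHeartbeats 800000 in
theorem struct (γ : F) (hγ : γ ^ 2 + γ + 1 = 0) (h3 : (3 : F) ≠ 0)
    (R : Subgroup (GL (Fin 3) F)) (hR : Nat.card R = 27) (hRe : ∀ u ∈ R, u ^ 3 = 1)
    (x y : GL (Fin 3) F) (hx : x ∈ R) (hy : y ∈ R) (hxy : x * y ≠ y * x) :
    ∃ (γ' : F) (hγ' : γ' ^ 2 + γ' + 1 = 0) (g : GL (Fin 3) F),
      R = (R0 γ' hγ').map (MulAut.conj g).toMonoidHom := by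
  classical
  obtain ⟨c, hc⟩ : ∃ c : GL (Fin 3) F, c = x * y * x⁻¹ * y⁻¹ := ⟨_, rfl⟩
  have hcR : c ∈ R := by
    rw [hc]; exact mul_mem (mul_mem (mul_mem hx hy) (inv_mem hx)) (inv_mem hy)
  have hna : ¬ ∀ a b : R, a * b = b * a := by
    intro h
    exact hxy (congrArg Subtype.val (h ⟨x, hx⟩ ⟨y, hy⟩))
  have hcen : ∀ u ∈ R, c * u = u * c := by
    intro u hu
    have := commutator_central hR hna ⟨x, hx⟩ ⟨y, hy⟩ ⟨u, hu⟩
    rw [hc]
    exact congrArg Subtype.val this
  have hxyc : x * y = c * (y * x) := by rw [hc]; group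
  have hc1 : c ≠ 1 := by
    intro h
    apply hxy
    rw [hxyc, h, one_mul]
  have hc3 : c ^ 3 = 1 := hRe c hcR
  have hcM3 : (c : Matrix (Fin 3) (Fin 3) F) ^ 3 = 1 := by
    rw [← Units.val_pow_eq_pow_val, hc3, Units.val_one]
  have hxM3 : (x : Matrix (Fin 3) (Fin 3) F) ^ 3 = 1 := by
    rw [← Units.val_pow_eq_pow_val, hRe x hx, Units.val_one]
  have hyM3 : (y : Matrix (Fin 3) (Fin 3) F) ^ 3 = 1 := by
    rw [← Units.val_pow_eq_pow_val, hRe y hy, Units.val_one]
  have hcM1 : (c : Matrix (Fin 3) (Fin 3) F) ≠ 1 := fun h => hc1 (Units.ext h)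
  obtain ⟨γ', hγ', u, hu0, hcu⟩ := exists_eigen_ne_one γ hγ _ hcM3 hcM1
  have hγ'1 := gamma_ne_one γ' hγ' h3
  have hγ'0 := gamma_ne_zero γ' hγ'
  have hγ'3 := gamma_cube γ' hγ'
  let S : Submodule F (Fin 3 → F) :=
    LinearMap.ker ((c : Matrix (Fin 3) (Fin 3) F).mulVecLin - γ' • LinearMap.id)
  have hS : ∀ w, w ∈ S ↔ (c : Matrix (Fin 3) (Fin 3) F).mulVec w = γ' • w := by
    intro w
    simp [S, LinearMap.mem_ker, sub_eq_zero]
  have hSinv : ∀ n : GL (Fin 3) F, c * n = n * c → ∀ w ∈ S, (n : Matrix (Fin 3) (Fin 3) F).mulVec w ∈ S := by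
    intro n hn w hw
    rw [hS] at hw ⊢
    rw [Matrix.mulVec_mulVec, ← Units.val_mul, hn, Units.val_mul, ← Matrix.mulVec_mulVec, hw,
      Matrix.mulVec_smul]
  obtain ⟨v, hvS, hv0, l, hl3, hxv⟩ := exists_eigen_of_cube γ' hγ' (x : Matrix (Fin 3) (Fin 3) F) hxM3 S
    (hSinv x (hcen x hx)) u ((hS u).mpr hcu) hu0
  have hl0 : l ≠ 0 := by
    intro h
    rw [h] at hl3
    simp at hl3
  set xM := (x : Matrix (Fin 3) (Fin 3) F) with hxM
  set yM := (y : Matrix (Fin 3) (Fin 3) F) with hyM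
  set cM := (c : Matrix (Fin 3) (Fin 3) F) with hcM
  have hstep : ∀ (w : Fin 3 → F) (μ : F), w ∈ S → xM.mulVec w = μ • w →
      xM.mulVec (yM.mulVec w) = (μ * γ') • yM.mulVec w := by
    intro w μ hw hxw
    have hyw : yM.mulVec w ∈ S := hSinv y (hcen y hy) w hw
    rw [Matrix.mulVec_mulVec, hxM, hyM, ← Units.val_mul, hxyc, Units.val_mul, Units.val_mul,
      ← Matrix.mulVec_mulVec, ← Matrix.mulVec_mulVec, ← hxM, ← hyM, hxw, Matrix.mulVec_smul,
      Matrix.mulVec_smul, (hS _).mp hyw, smul_smul]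
  have hyne : ∀ w : Fin 3 → F, w ≠ 0 → yM.mulVec w ≠ 0 := by
    intro w hw h
    apply hw
    have : (y⁻¹ : GL (Fin 3) F).val.mulVec (yM.mulVec w) = w := by
      rw [Matrix.mulVec_mulVec, hyM, ← Units.val_mul, inv_mul_cancel, Units.val_one, Matrix.one_mulVec]
    rw [← this, h, Matrix.mulVec_zero]
  set e1 := yM.mulVec v with he1
  set e2 := yM.mulVec e1 with he2
  have he1S : e1 ∈ S := hSinv y (hcen y hy) v hvS
  have he2S : e2 ∈ S := hSinv y (hcen y hy) e1 he1S
  have hx1 : xM.mulVec e1 = (l * γ') • e1 := hstep v l hvS hxv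
  have hx2 : xM.mulVec e2 = (l * γ' * γ') • e2 := hstep e1 (l * γ') he1S hx1
  have hy2 : yM.mulVec e2 = v := by
    rw [he2, he1, Matrix.mulVec_mulVec, Matrix.mulVec_mulVec, ← pow_two, ← pow_succ, hyM3, Matrix.one_mulVec]
  have he10 : e1 ≠ 0 := hyne v hv0
  have he20 : e2 ≠ 0 := hyne e1 he10
  -- linear independence
  let μ : Fin 3 → F := ![l, l * γ', l * γ' * γ']
  let ev : Fin 3 → (Fin 3 → F) := ![v, e1, e2]
  have hμinj : Function.Injective μ := by
    have h01 : l ≠ l * γ' := by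
      intro h
      apply hγ'1
      have : l * γ' = l * 1 := by rw [mul_one]; exact h.symm
      exact mul_left_cancel₀ hl0 this
    have h02 : l ≠ l * γ' * γ' := by
      intro h
      have : l * (γ' * γ') = l * 1 := by rw [mul_one, ← mul_assoc]; exact h.symm
      have h2 := mul_left_cancel₀ hl0 this
      apply hγ'1
      have : γ' ^ 3 = γ' := by
        calc γ' ^ 3 = (γ' * γ') * γ' := by ring
          _ = γ' := by rw [h2, one_mul]
      rw [hγ'3] at this
      exact this.symm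
    have h12 : l * γ' ≠ l * γ' * γ' := by
      intro h
      apply hγ'1
      have : (l * γ') * γ' = (l * γ') * 1 := by rw [mul_one]; exact h.symm
      exact mul_left_cancel₀ (mul_ne_zero hl0 hγ'0) this
    have m01 : μ 0 ≠ μ 1 := h01
    have m02 : μ 0 ≠ μ 2 := h02
    have m12 : μ 1 ≠ μ 2 := h12
    intro i j hij
    fin_cases i <;> fin_cases j
    · rfl
    · exact absurd hij m01
    · exact absurd hij m02
    · exact absurd hij.symm m01
    · rfl
    · exact absurd hij m12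
    · exact absurd hij.symm m02
    · exact absurd hij.symm m12
    · rfl
  have hli : LinearIndependent F ev := by
    apply Module.End.eigenvectors_linearIndependent' (Matrix.toLin' xM) μ hμinj ev
    intro i
    rw [Module.End.hasEigenvector_iff, Module.End.mem_eigenspace_iff, Matrix.toLin'_apply]
    fin_cases i
    · exact ⟨hxv, hv0⟩
    · exact ⟨hx1, he10⟩
    · exact ⟨hx2, he20⟩
  let g : Matrix (Fin 3) (Fin 3) F := Matrix.of (fun i k => ev k i)
  have hgcol : g.col = ev := by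
    funext k i
    rfl
  have hgu : IsUnit g := by
    rw [← Matrix.linearIndependent_cols_iff_isUnit, hgcol]
    exact hli
  let gU : GL (Fin 3) F := hgu.unit
  have hgUv : (gU : Matrix (Fin 3) (Fin 3) F) = g := IsUnit.unit_spec hgu
  have hg0 : (fun j => g j 0) = v := by funext j; rfl
  have hg1 : (fun j => g j 1) = e1 := by funext j; rfl
  have hg2 : (fun j => g j 2) = e2 := by funext j; rfl
  have hxg : xM * g = g * (l • Zm γ') := by
    ext i k
    rw [mul_col]
    fin_cases k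
    · simp only [Fin.zero_eta, Fin.isValue]
      rw [hg0, hxv]
      simp [Matrix.mul_apply, Fin.sum_univ_three, Zm, g, ev]
      ring
    · simp only [Fin.mk_one, Fin.isValue]
      rw [hg1, hx1]
      simp [Matrix.mul_apply, Fin.sum_univ_three, Zm, g, ev]
      ring
    · simp only [Fin.reduceFinMk, Fin.isValue]
      rw [hg2, hx2]
      simp [Matrix.mul_apply, Fin.sum_univ_three, Zm, g, ev]
      ring
  have hyg : yM * g = g * Xm := by
    ext i k
    rw [mul_col]
    fin_cases k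
    · simp only [Fin.zero_eta, Fin.isValue]
      rw [hg0, ← he1]
      simp [Matrix.mul_apply, Fin.sum_univ_three, Xm, g, ev]
    · simp only [Fin.mk_one, Fin.isValue]
      rw [hg1, ← he2]
      simp [Matrix.mul_apply, Fin.sum_univ_three, Xm, g, ev]
    · simp only [Fin.reduceFinMk, Fin.isValue]
      rw [hg2, hy2]
      simp [Matrix.mul_apply, Fin.sum_univ_three, Xm, g, ev]
  have hcg : cM * g = g * (γ' • (1 : Matrix (Fin 3) (Fin 3) F)) := by
    ext i k
    rw [mul_col]
    fin_cases k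
    · simp only [Fin.zero_eta, Fin.isValue]
      rw [hg0, (hS v).mp hvS]
      simp [g, ev]
    · simp only [Fin.mk_one, Fin.isValue]
      rw [hg1, (hS e1).mp he1S]
      simp [g, ev]
    · simp only [Fin.reduceFinMk, Fin.isValue]
      rw [hg2, (hS e2).mp he2S]
      simp [g, ev]
  -- group level
  have hxU : x * gU = gU * (scU l hl0 * ZU γ' hγ') := by
    apply Units.ext
    rw [Units.val_mul, Units.val_mul, Units.val_mul, hgUv, scU_val, ZU_val, Matrix.smul_mul, one_mul]
    exact hxg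
  have hyU : y * gU = gU * XU := by
    apply Units.ext
    rw [Units.val_mul, Units.val_mul, hgUv, XU_val]
    exact hyg
  have hcU : c * gU = gU * scU γ' hγ'0 := by
    apply Units.ext
    rw [Units.val_mul, Units.val_mul, hgUv, scU_val]
    exact hcg
  have hcsc : c = scU γ' hγ'0 := by
    have : c = gU * scU γ' hγ'0 * gU⁻¹ := by rw [← hcU]; group
    rw [this, ← scU_comm, mul_inv_cancel_right]
  have hlR : scU l hl0 ∈ R := by
    rcases cube_root_cases γ' l hγ' hl3 with h | h | h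
    · rw [scU_congr l 1 hl0 one_ne_zero h, scU_one]; exact one_mem R
    · rw [scU_congr l γ' hl0 hγ'0 h, ← hcsc]; exact hcR
    · have : scU l hl0 = c * c := by
        rw [hcsc, scU_mul]
        apply scU_congr
        rw [h]; ring
      rw [this]; exact mul_mem hcR hcR
  have hxconj : gU * ZU γ' hγ' * gU⁻¹ = (scU l hl0)⁻¹ * x := by
    have : x = gU * (scU l hl0 * ZU γ' hγ') * gU⁻¹ := by rw [← hxU]; group
    rw [this, ← mul_assoc gU, ← scU_comm]
    group
  have hyconj : gU * XU * gU⁻¹ = y := by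
    rw [← hyU]; group
  set H := (R0 γ' hγ').map (MulAut.conj gU).toMonoidHom with hH
  have hle : H ≤ R := by
    rw [hH, R0, MonoidHom.map_closure, Subgroup.closure_le]
    rintro _ ⟨s, hs, rfl⟩
    rcases hs with rfl | hs
    · show MulAut.conj gU (ZU γ' hγ') ∈ R
      rw [MulAut.conj_apply, hxconj]
      exact mul_mem (inv_mem hlR) hx
    · rw [Set.mem_singleton_iff] at hs
      subst hs
      show MulAut.conj gU XU ∈ R
      rw [MulAut.conj_apply, hyconj]
      exact hy
  have haH : gU * ZU γ' hγ' * gU⁻¹ ∈ H := ⟨ZU γ' hγ', ZU_mem γ' hγ', by simp [MulAut.conj_apply]⟩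
  have hbH : gU * XU * gU⁻¹ ∈ H := ⟨XU, XU_mem γ' hγ', by simp [MulAut.conj_apply]⟩
  have hab : (gU * ZU γ' hγ' * gU⁻¹) * (gU * XU * gU⁻¹) ≠ (gU * XU * gU⁻¹) * (gU * ZU γ' hγ' * gU⁻¹) := by
    intro h
    apply ZU_XU_ne γ' hγ' h3
    have h1 : gU * (ZU γ' hγ' * XU) * gU⁻¹ = gU * (XU * ZU γ' hγ') * gU⁻¹ := by
      calc gU * (ZU γ' hγ' * XU) * gU⁻¹ = (gU * ZU γ' hγ' * gU⁻¹) * (gU * XU * gU⁻¹) := by group
        _ = (gU * XU * gU⁻¹) * (gU * ZU γ' hγ' * gU⁻¹) := h
        _ = gU * (XU * ZU γ' hγ') * gU⁻¹ := by group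
    exact mul_left_cancel (mul_right_cancel h1)
  exact ⟨γ', hγ', gU, (eq_of_noncomm_le R H hR hle _ _ haH hbH hab).symm⟩

end Cfsg.Agent.Lib.Helper6.Heis3
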