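import Mathlib
import Cfsg.Prelude.Def_GeometricClasses
import Cfsg.Agent.Lib.Helper6.Heis3D
import Cfsg.Agent.Lib.Helper3.CardSL
import Cfsg.Agent.Lib.Helper14.SemiConjFin

/-!
# Normalizer of the Heisenberg group in `GL_3(F)`; `SL_3` facts
-/

set_option autoImplicit false

namespace Cfsg.Agent.Lib.Helper6.Heis3

open Matrix

variable {F : Type*} [Field F]

theorem mem_sl_iff (g : GL (Fin 3) F) :
    g ∈ Cfsg.Geo.specialLinear (Fin 3) F ↔ (g : Matrix (Fin 3) (Fin 3) F).det = 1 := by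
  unfold Cfsg.Geo.specialLinear
  rw [MonoidHom.mem_ker]
  constructor
  · intro h
    have := congrArg Units.val h
    simpa using this
  · intro h
    apply Units.ext
    simpa using h

theorem R0_le_sl (γ : F) (hγ : γ ^ 2 + γ + 1 = 0) : R0 γ hγ ≤ Cfsg.Geo.specialLinear (Fin 3) F := by
  rw [R0, Subgroup.closure_le]
  intro s hs
  rcases hs with rfl | hs
  · show ZU γ hγ ∈ Cfsg.Geo.specialLinear (Fin 3) F
    rw [mem_sl_iff, ZU_val, det_Zm, gamma_cube γ hγ]
  · rw [Set.mem_singleton_iff] at hs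
    subst hs
    show XU ∈ Cfsg.Geo.specialLinear (Fin 3) F
    rw [mem_sl_iff, XU_val, det_Xm]

section fin

variable [Finite F]

theorem scU_sq_mem (γ : F) (hγ : γ ^ 2 + γ + 1 = 0) :
    scU (γ ^ 2) (pow_ne_zero 2 (gamma_ne_zero γ hγ)) ∈ R0 γ hγ := by
  have : scU (γ ^ 2) (pow_ne_zero 2 (gamma_ne_zero γ hγ)) =
      scU γ (gamma_ne_zero γ hγ) * scU γ (gamma_ne_zero γ hγ) := by
    rw [scU_mul]
    apply scU_congr
    ring
  rw [this]
  exact mul_mem (scU_mem γ hγ) (scU_mem γ hγ)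

theorem TU_mem_normalizer (γ : F) (hγ : γ ^ 2 + γ + 1 = 0) :
    TU ∈ Subgroup.normalizer ((R0 γ hγ : Subgroup (GL (Fin 3) F)) : Set (GL (Fin 3) F)) := by
  apply mem_normalizer_of_closure _ _ inferInstance
  intro s hs
  rcases hs with rfl | hs
  · have h : TU * ZU γ hγ = (ZU γ hγ * ZU γ hγ) * TU := by
      apply Units.ext
      simp only [Units.val_mul, TU_val, ZU_val]
      exact Tm_Zm γ hγ
    rw [h, mul_inv_cancel_right]
    exact mul_mem (ZU_mem γ hγ) (ZU_mem γ hγ)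
  · rw [Set.mem_singleton_iff] at hs
    subst hs
    have h : (TU : GL (Fin 3) F) * XU = (XU * XU) * TU := by
      apply Units.ext
      simp only [Units.val_mul, TU_val, XU_val]
      exact Tm_Xm
    rw [h, mul_inv_cancel_right]
    exact mul_mem (XU_mem γ hγ) (XU_mem γ hγ)

theorem DU_mem_normalizer (γ : F) (hγ : γ ^ 2 + γ + 1 = 0) :
    DU γ (gamma_ne_zero γ hγ) ∈
      Subgroup.normalizer ((R0 γ hγ : Subgroup (GL (Fin 3) F)) : Set (GL (Fin 3) F)) := by
  apply mem_normalizer_of_closure _ _ inferInstance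
  intro s hs
  rcases hs with rfl | hs
  · have h : DU γ (gamma_ne_zero γ hγ) * ZU γ hγ = ZU γ hγ * DU γ (gamma_ne_zero γ hγ) := by
      apply Units.ext
      simp only [Units.val_mul, DU_val, ZU_val]
      exact Dm_Zm γ γ
    rw [h, mul_inv_cancel_right]
    exact ZU_mem γ hγ
  · rw [Set.mem_singleton_iff] at hs
    subst hs
    have h : DU γ (gamma_ne_zero γ hγ) * XU =
        (scU (γ ^ 2) (pow_ne_zero 2 (gamma_ne_zero γ hγ)) * ZU γ hγ * XU) * DU γ (gamma_ne_zero γ hγ) := by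
      apply Units.ext
      simp only [Units.val_mul, DU_val, ZU_val, XU_val, scU_val, Matrix.smul_mul, one_mul]
      rw [Dm_Xm γ hγ]
      simp only [Matrix.smul_mul]
    rw [h, mul_inv_cancel_right]
    exact mul_mem (mul_mem (scU_sq_mem γ hγ) (ZU_mem γ hγ)) (XU_mem γ hγ)

theorem scU_mem_normalizer (γ : F) (hγ : γ ^ 2 + γ + 1 = 0) (s : F) (hs : s ≠ 0) :
    scU s hs ∈ Subgroup.normalizer ((R0 γ hγ : Subgroup (GL (Fin 3) F)) : Set (GL (Fin 3) F)) := by
  rw [Subgroup.mem_normalizer_iff]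
  intro h
  rw [scU_comm, mul_inv_cancel_right]

end fin

/-- an element commuting with the Heisenberg generators is scalar -/
theorem scalar_of_centralizes (γ : F) (hγ : γ ^ 2 + γ + 1 = 0) (h3 : (3 : F) ≠ 0) (n : GL (Fin 3) F)
    (hZ : n * ZU γ hγ = ZU γ hγ * n) (hX : n * XU = XU * n) :
    (n : Matrix (Fin 3) (Fin 3) F) = ((n : Matrix (Fin 3) (Fin 3) F) 0 0) • (1 : Matrix (Fin 3) (Fin 3) F) := by
  apply scalar_of_comm γ hγ h3
  · have := congrArg Units.val hZ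
    simpa using this
  · have := congrArg Units.val hX
    simpa using this

/-! ### `SL_3` -/

theorem card_sl3 [Fintype F] (m : ℕ) (hm : Fintype.card F = m + 1) :
    Nat.card (Cfsg.Geo.specialLinear (Fin 3) F) =
      m ^ 2 * (m + 1) ^ 3 * (m + 2) * (m ^ 2 + 3 * m + 3) := by
  have h5 : Nat.card (Cfsg.Geo.specialLinear (Fin 3) F)
      = Nat.card (Matrix.SpecialLinearGroup (Fin 3) F) := by
    unfold Cfsg.Geo.specialLinear
    rw [← Cfsg.Agent.Lib.Helper3.CardSL.range_toGL]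
    exact (Nat.card_congr
      (MonoidHom.ofInjective Matrix.SpecialLinearGroup.toGL_injective).toEquiv).symm
  rw [h5]
  have hSL := Cfsg.Agent.Lib.Helper3.CardSL.card_GL_eq_card_SL_mul (F := F) 3 (by omega)
  rw [Matrix.card_GL_field, Nat.card_units, Nat.card_eq_fintype_card (α := F)] at hSL
  rw [Fin.prod_univ_three, hm] at hSL
  simp only [Fin.val_zero, Fin.val_one, Fin.val_two, pow_zero, pow_one, Nat.add_sub_cancel] at hSL
  have hm0 : 0 < m := by
    have := Fintype.one_lt_card (α := F)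
    omega
  have e1 : (m + 1) ^ 3 - 1 = m * (m ^ 2 + 3 * m + 3) := by
    have : (m + 1) ^ 3 = m * (m ^ 2 + 3 * m + 3) + 1 := by ring
    omega
  have e2 : (m + 1) ^ 3 - (m + 1) = m * ((m + 1) * (m + 2)) := by
    have : (m + 1) ^ 3 = m * ((m + 1) * (m + 2)) + (m + 1) := by ring
    omega
  have e3 : (m + 1) ^ 3 - (m + 1) ^ 2 = m * (m + 1) ^ 2 := by
    have : (m + 1) ^ 3 = m * (m + 1) ^ 2 + (m + 1) ^ 2 := by ring
    omega
  rw [e1, e2, e3] at hSL
  have h2 : (m ^ 2 * (m + 1) ^ 3 * (m + 2) * (m ^ 2 + 3 * m + 3)) * m =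
      Nat.card (Matrix.SpecialLinearGroup (Fin 3) F) * m := by
    rw [← hSL]
    ring
  exact (Nat.eq_of_mul_eq_mul_right hm0 h2).symm

/-- `81 ∤ |SL_3(p)|` for `p ≡ 4, 7 (mod 9)` -/
theorem not_81_dvd (m : ℕ) (hm : m % 9 = 3 ∨ m % 9 = 6) :
    ¬ 81 ∣ m ^ 2 * (m + 1) ^ 3 * (m + 2) * (m ^ 2 + 3 * m + 3) := by
  intro h
  obtain ⟨k, rfl⟩ : ∃ k, m = 3 * k := ⟨m / 3, by omega⟩
  have hk : k % 3 = 1 ∨ k % 3 = 2 := by omega
  have e : (3 * k) ^ 2 * (3 * k + 1) ^ 3 * (3 * k + 2) * ((3 * k) ^ 2 + 3 * (3 * k) + 3) =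
      27 * (k ^ 2 * (3 * k + 1) ^ 3 * (3 * k + 2) * (3 * k ^ 2 + 3 * k + 1)) := by ring
  rw [e] at h
  have h3 : 3 ∣ k ^ 2 * (3 * k + 1) ^ 3 * (3 * k + 2) * (3 * k ^ 2 + 3 * k + 1) := by
    have : (81 : ℕ) = 27 * 3 := by norm_num
    rw [this] at h
    exact Nat.dvd_of_mul_dvd_mul_left (by norm_num) h
  have p3 := Nat.prime_three
  rcases (Nat.Prime.dvd_mul p3).mp h3 with h4 | h4
  · rcases (Nat.Prime.dvd_mul p3).mp h4 with h5 | h5
    · rcases (Nat.Prime.dvd_mul p3).mp h5 with h6 | h6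
      · have := p3.dvd_of_dvd_pow h6
        omega
      · have := p3.dvd_of_dvd_pow h6
        omega
    · omega
  · have : 3 ∣ 3 * (k ^ 2 + k) + 1 := by
      have e2 : 3 * (k ^ 2 + k) + 1 = 3 * k ^ 2 + 3 * k + 1 := by ring
      rw [e2]; exact h4
    omega

/-- semisimple elements of `SL_3(q)` with the same characteristic polynomial are `SL_3`-conjugate -/
theorem sl_conj_of_charpoly [Fintype F] (p : ℕ) [Fact p.Prime] [CharP F p] (x n : GL (Fin 3) F)
    (hx : x ∈ Cfsg.Geo.specialLinear (Fin 3) F) (hn : n ∈ Cfsg.Geo.specialLinear (Fin 3) F)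
    (k : ℕ) (hk : k.Coprime p) (hxk : x ^ k = 1) (hnk : n ^ k = 1)
    (hc : (x : Matrix (Fin 3) (Fin 3) F).charpoly = (n : Matrix (Fin 3) (Fin 3) F).charpoly) :
    ∃ g ∈ Cfsg.Geo.specialLinear (Fin 3) F, g⁻¹ * x * g = n := by
  rw [mem_sl_iff] at hx hn
  let x' : Matrix.SpecialLinearGroup (Fin 3) F := ⟨x, hx⟩
  let n' : Matrix.SpecialLinearGroup (Fin 3) F := ⟨n, hn⟩
  have hx'k : x' ^ k = 1 := by
    apply Subtype.ext
    rw [Matrix.SpecialLinearGroup.coe_pow, Matrix.SpecialLinearGroup.coe_one]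
    show (x : Matrix (Fin 3) (Fin 3) F) ^ k = 1
    rw [← Units.val_pow_eq_pow_val, hxk, Units.val_one]
  have hn'k : n' ^ k = 1 := by
    apply Subtype.ext
    rw [Matrix.SpecialLinearGroup.coe_pow, Matrix.SpecialLinearGroup.coe_one]
    show (n : Matrix (Fin 3) (Fin 3) F) ^ k = 1
    rw [← Units.val_pow_eq_pow_val, hnk, Units.val_one]
  have hox : (orderOf x').Coprime p := Nat.Coprime.coprime_dvd_left (orderOf_dvd_of_pow_eq_one hx'k) hk
  have hon : (orderOf n').Coprime p := Nat.Coprime.coprime_dvd_left (orderOf_dvd_of_pow_eq_one hn'k) hk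
  have hconj := Cfsg.Agent.Lib.Helper14.isConj_SL_of_charpoly_eq p x' n' hox hon hc
  rw [isConj_iff] at hconj
  obtain ⟨c, hc'⟩ := hconj
  refine ⟨(Matrix.SpecialLinearGroup.toGL c)⁻¹, ?_, ?_⟩
  · apply inv_mem
    rw [mem_sl_iff]
    exact c.2
  · rw [inv_inv]
    apply Units.ext
    have := congrArg Subtype.val hc'
    simp only [Units.val_mul]
    rw [Matrix.SpecialLinearGroup.coe_mul, Matrix.SpecialLinearGroup.coe_mul] at this
    have hinv : ((Matrix.SpecialLinearGroup.toGL c)⁻¹ : GL (Fin 3) F).val = (c⁻¹ : Matrix.SpecialLinearGroup (Fin 3) F).val := by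
      rw [← map_inv]
      rfl
    rw [hinv]
    exact this

end Cfsg.Agent.Lib.Helper6.Heis3
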