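import Mathlib
import Cfsg.Agent.Lib.Helper6.Heis3E

/-!
# The normalizer of `3^{1+2}` in `SL_3(p)`: elusivity lemmas
-/

set_option autoImplicit false

namespace Cfsg.Agent.Lib.Helper6.Heis3

open Matrix

variable {F : Type*} [Field F]

theorem exists_gamma [Fintype F] (h : 3 ∣ Fintype.card F - 1) : ∃ γ : F, γ ^ 2 + γ + 1 = 0 := by
  classical
  haveI : Fact (Nat.Prime 3) := ⟨Nat.prime_three⟩
  have hc : 3 ∣ Fintype.card Fˣ := by rw [Fintype.card_units]; exact h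
  obtain ⟨u, hu⟩ := exists_prime_orderOf_dvd_card 3 hc
  have hu3 : (u : F) ^ 3 = 1 := by
    have := pow_orderOf_eq_one u
    rw [hu] at this
    have h2 := congrArg Units.val this
    simpa using h2
  have hu1 : (u : F) ≠ 1 := by
    intro h1
    have : u = 1 := Units.ext h1
    rw [this, orderOf_one] at hu
    norm_num at hu
  refine ⟨(u : F), ?_⟩
  have : ((u : F) - 1) * ((u : F) ^ 2 + u + 1) = 0 := by linear_combination hu3
  rcases mul_eq_zero.mp this with h1 | h1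
  · exact absurd (sub_eq_zero.mp h1) hu1
  · exact h1

theorem conj_mem_normalizer (R₀ : Subgroup (GL (Fin 3) F)) (g n₀ : GL (Fin 3) F)
    (hn : n₀ ∈ Subgroup.normalizer (R₀ : Set (GL (Fin 3) F))) :
    g * n₀ * g⁻¹ ∈ Cfsg.Geo.subgroupNormalizer (R₀.map (MulAut.conj g).toMonoidHom) := by
  unfold Cfsg.Geo.subgroupNormalizer
  rw [← Subgroup.map_equiv_normalizer_eq]
  exact ⟨n₀, hn, by simp [MulAut.conj_apply]⟩

theorem conj_mem_normalizer' (R₀ : Subgroup (GL (Fin 3) F)) (g n : GL (Fin 3) F)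
    (hn : n ∈ Cfsg.Geo.subgroupNormalizer (R₀.map (MulAut.conj g).toMonoidHom)) :
    g⁻¹ * n * g ∈ Subgroup.normalizer (R₀ : Set (GL (Fin 3) F)) := by
  unfold Cfsg.Geo.subgroupNormalizer at hn
  rw [← Subgroup.map_equiv_normalizer_eq] at hn
  obtain ⟨n₀, hn₀, he⟩ := hn
  have : n = g * n₀ * g⁻¹ := by rw [← he]; simp [MulAut.conj_apply]
  rw [this]
  have : g⁻¹ * (g * n₀ * g⁻¹) * g = n₀ := by group
  rw [this]; exact hn₀

theorem card_R0_of_map (γ : F) (hγ : γ ^ 2 + γ + 1 = 0) (g : GL (Fin 3) F) (R : Subgroup (GL (Fin 3) F))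
    (hR : Nat.card R = 27) (hRg : R = (R0 γ hγ).map (MulAut.conj g).toMonoidHom) :
    Nat.card (R0 γ hγ) = 27 := by
  rw [← hR, hRg]
  exact (Subgroup.card_map_of_injective (MulAut.conj g).injective).symm

theorem scU_ne_one (γ : F) (hγ : γ ^ 2 + γ + 1 = 0) (h3 : (3 : F) ≠ 0) : scU γ (gamma_ne_zero γ hγ) ≠ 1 := by
  intro h2
  have h4 := congrArg (fun u : GL (Fin 3) F => (u : Matrix (Fin 3) (Fin 3) F) 0 0) h2
  simp at h4
  exact gamma_ne_one γ hγ h3 h4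

/-- elements of prime order `r ≥ 5` in the normalizer are scalar -/
theorem scalar_of_pow (γ : F) (hγ : γ ^ 2 + γ + 1 = 0) (h3 : (3 : F) ≠ 0) (g : GL (Fin 3) F)
    (hcard : Nat.card (R0 γ hγ) = 27) (n : GL (Fin 3) F)
    (hn : n ∈ Cfsg.Geo.subgroupNormalizer ((R0 γ hγ).map (MulAut.conj g).toMonoidHom))
    (r : ℕ) [Fact r.Prime] (hr5 : 5 ≤ r) (hpow : n ^ r = 1) :
    ∃ s : F, (n : Matrix (Fin 3) (Fin 3) F) = s • (1 : Matrix (Fin 3) (Fin 3) F) := by
  have hn₀ := conj_mem_normalizer' _ g n hn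
  set n₀ := g⁻¹ * n * g with hn₀def
  have hpow₀ : n₀ ^ r = 1 := by
    have : n₀ ^ r = g⁻¹ * n ^ r * g := by
      rw [hn₀def]
      have := map_pow (MulAut.conj g⁻¹) n r
      simp only [MulAut.conj_apply, inv_inv] at this
      exact this.symm
    rw [this, hpow]; group
  have hcen := centralizes_of_pow (R0 γ hγ) hcard (scU γ (gamma_ne_zero γ hγ)) n₀ (scU_mem γ hγ)
    (scU_ne_one γ hγ h3) (scU_comm _ _ _).symm hn₀ r hr5 hpow₀
  have hsc := scalar_of_centralizes γ hγ h3 n₀ (hcen _ (ZU_mem γ hγ)) (hcen _ (XU_mem γ hγ))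
  refine ⟨(n₀ : Matrix (Fin 3) (Fin 3) F) 0 0, ?_⟩
  have hn : n = g * n₀ * g⁻¹ := by rw [hn₀def]; group
  rw [hn, Units.val_mul, Units.val_mul, hsc, Matrix.mul_smul, Matrix.smul_mul, mul_one]
  rw [← Units.val_mul, mul_inv_cancel, Units.val_one]
  congr 1
  rw [← hsc]

end Cfsg.Agent.Lib.Helper6.Heis3
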