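import Mathlib
import Cfsg.Agent.Lib.Helper6.Heis3F

/-!
# The normalizer of `3^{1+2}` in `SL_3(p)`: the elements of order 2 and 3 are not derangements
-/

set_option autoImplicit false

namespace Cfsg.Agent.Lib.Helper6.Heis3

open Matrix

variable {F : Type*} [Field F]

theorem Dm_mul (a b : F) : Dm a * Dm b = Dm (a * b) := by
  ext i j
  fin_cases i <;> fin_cases j <;> simp [Dm, Matrix.mul_apply, Fin.sum_univ_three]

theorem Dm_one : Dm (1 : F) = 1 := by
  ext i j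
  fin_cases i <;> fin_cases j <;> simp [Dm]

theorem smul_Dm_pow (s β : F) (k : ℕ) : (s • Dm β) ^ k = s ^ k • Dm (β ^ k) := by
  induction k with
  | zero => simp [Dm_one]
  | succ k ih =>
    rw [pow_succ, ih, Matrix.smul_mul, Matrix.mul_smul, Dm_mul, smul_smul, ← pow_succ, ← pow_succ]

theorem DU_mem_normalizer' [Finite F] (γ : F) (hγ : γ ^ 2 + γ + 1 = 0) (β : F) (hβ0 : β ≠ 0)
    (h : β = γ ∨ β = γ ^ 2) :
    DU β hβ0 ∈ Subgroup.normalizer ((R0 γ hγ : Subgroup (GL (Fin 3) F)) : Set (GL (Fin 3) F)) := by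
  rcases h with rfl | rfl
  · exact DU_mem_normalizer β hγ
  · have : DU (γ ^ 2) hβ0 = DU γ (gamma_ne_zero γ hγ) * DU γ (gamma_ne_zero γ hγ) := by
      apply Units.ext
      simp only [Units.val_mul, DU_val, Dm_mul]
      congr 1
      ring
    rw [this]
    exact mul_mem (DU_mem_normalizer γ hγ) (DU_mem_normalizer γ hγ)

theorem charpoly_conj (g : GL (Fin 3) F) (M : Matrix (Fin 3) (Fin 3) F) :
    ((g : Matrix (Fin 3) (Fin 3) F) * M * ((g⁻¹ : GL (Fin 3) F) : Matrix (Fin 3) (Fin 3) F)).charpoly = M.charpoly := by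
  rw [Matrix.coe_units_inv]
  exact Matrix.charpoly_units_conj g M

theorem det_conj (g : GL (Fin 3) F) (M : Matrix (Fin 3) (Fin 3) F) :
    ((g : Matrix (Fin 3) (Fin 3) F) * M * ((g⁻¹ : GL (Fin 3) F) : Matrix (Fin 3) (Fin 3) F)).det = M.det :=
  Matrix.det_units_conj g M

theorem conj_pow (g n : GL (Fin 3) F) (k : ℕ) : (g * n * g⁻¹) ^ k = g * n ^ k * g⁻¹ := by
  have := map_pow (MulAut.conj g) n k
  simp only [MulAut.conj_apply] at this
  exact this.symm

/-- the case `r = 2` -/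
theorem exists_conj_sq [Fintype F] (p : ℕ) [Fact p.Prime] [CharP F p] (hp7 : 7 ≤ p) (γ : F)
    (hγ : γ ^ 2 + γ + 1 = 0) (g x : GL (Fin 3) F) (hx : x ∈ Cfsg.Geo.specialLinear (Fin 3) F) (z : F)
    (hz : ((x ^ 2 : GL (Fin 3) F) : Matrix (Fin 3) (Fin 3) F) = z • (1 : Matrix (Fin 3) (Fin 3) F))
    (hns : ∀ z : F, (x : Matrix (Fin 3) (Fin 3) F) ≠ z • (1 : Matrix (Fin 3) (Fin 3) F)) :
    ∃ h ∈ Cfsg.Geo.specialLinear (Fin 3) F,
      h⁻¹ * x * h ∈ Cfsg.Geo.subgroupNormalizer ((R0 γ hγ).map (MulAut.conj g).toMonoidHom) := by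
  have hpP := (Fact.out : p.Prime)
  have hxd := (mem_sl_iff x).mp hx
  rw [Units.val_pow_eq_pow_val] at hz
  obtain ⟨he2, htr⟩ := sq_data _ hns z hz hxd
  have hz3 : z ^ 3 = 1 := by
    have := congrArg Matrix.det hz
    rw [Matrix.det_pow, hxd, one_pow, Matrix.det_smul, Matrix.det_one, mul_one] at this
    simpa using this.symm
  have hz0 : z ≠ 0 := by
    intro h; rw [h] at hz3; simp at hz3
  have htr' : (x : Matrix (Fin 3) (Fin 3) F).trace = - z ^ 2 := by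
    have : (x : Matrix (Fin 3) (Fin 3) F).trace = (x : Matrix (Fin 3) (Fin 3) F).trace * z ^ 3 := by
      rw [hz3, mul_one]
    rw [this]
    linear_combination z ^ 2 * htr
  set n₀ : GL (Fin 3) F := scU (z ^ 2) (pow_ne_zero 2 hz0) * TU with hn₀
  have hn₀N : n₀ ∈ Subgroup.normalizer ((R0 γ hγ : Subgroup (GL (Fin 3) F)) : Set (GL (Fin 3) F)) :=
    mul_mem (scU_mem_normalizer γ hγ _ _) (TU_mem_normalizer γ hγ)
  have hn₀v : (n₀ : Matrix (Fin 3) (Fin 3) F) = z ^ 2 • Tm := by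
    rw [hn₀, Units.val_mul, scU_val, TU_val, Matrix.smul_mul, one_mul]
  set n := g * n₀ * g⁻¹ with hn
  have hnN := conj_mem_normalizer (R0 γ hγ) g n₀ hn₀N
  have hnv : (n : Matrix (Fin 3) (Fin 3) F) =
      (g : Matrix (Fin 3) (Fin 3) F) * (z ^ 2 • Tm) * ((g⁻¹ : GL (Fin 3) F) : Matrix (Fin 3) (Fin 3) F) := by
    rw [hn, Units.val_mul, Units.val_mul, hn₀v]
  have hnd : (n : Matrix (Fin 3) (Fin 3) F).det = 1 := by
    rw [hnv, det_conj, det_smul_Tm, ← pow_mul]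
    have : z ^ (2 * 3) = (z ^ 3) ^ 2 := by ring
    rw [this, hz3, one_pow]
  have hnSL : n ∈ Cfsg.Geo.specialLinear (Fin 3) F := (mem_sl_iff n).mpr hnd
  have hcp : (x : Matrix (Fin 3) (Fin 3) F).charpoly = (n : Matrix (Fin 3) (Fin 3) F).charpoly := by
    rw [hnv, charpoly_conj]
    apply charpoly_eq_of
    · rw [htr', trace_smul_Tm]
    · rw [he2, e2_smul_Tm]
      have : (z ^ 2) ^ 2 = z ^ 3 * z := by ring
      rw [this, hz3, one_mul]
    · rw [hxd, det_smul_Tm, ← pow_mul]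
      have : z ^ (2 * 3) = (z ^ 3) ^ 2 := by ring
      rw [this, hz3, one_pow]
  have hx6 : x ^ 6 = 1 := by
    apply Units.ext
    rw [Units.val_pow_eq_pow_val, Units.val_one]
    have : (x : Matrix (Fin 3) (Fin 3) F) ^ 6 = ((x : Matrix (Fin 3) (Fin 3) F) ^ 2) ^ 3 := by
      rw [← pow_mul]
    rw [this, hz, smul_pow, one_pow, hz3, one_smul]
  have hn6 : n ^ 6 = 1 := by
    rw [hn, conj_pow]
    have : n₀ ^ 6 = 1 := by
      apply Units.ext
      rw [Units.val_pow_eq_pow_val, Units.val_one, hn₀v]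
      have e1 : (z ^ 2 • (Tm : Matrix (Fin 3) (Fin 3) F)) ^ 6 = ((z ^ 2 • (Tm : Matrix (Fin 3) (Fin 3) F)) ^ 2) ^ 3 := by
        rw [← pow_mul]
      rw [e1, pow_two, Matrix.smul_mul, Matrix.mul_smul, Tm_mul_Tm, smul_smul, smul_pow, one_pow]
      have : (z ^ 2 * z ^ 2) ^ 3 = (z ^ 3) ^ 4 := by ring
      rw [this, hz3, one_pow, one_smul]
    rw [this]; group
  have hcop : Nat.Coprime 6 p := by
    rw [Nat.coprime_comm, Nat.Prime.coprime_iff_not_dvd hpP]
    intro h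
    have := Nat.le_of_dvd (by norm_num) h
    omega
  obtain ⟨h, hh, hhx⟩ := sl_conj_of_charpoly p x n hx hnSL 6 hcop hx6 hn6 hcp
  exact ⟨h, hh, by rw [hhx]; exact hnN⟩

/-- the case `r = 3` -/
theorem exists_conj_cube [Fintype F] (p : ℕ) [Fact p.Prime] [CharP F p] (hp7 : 7 ≤ p) (γ : F)
    (hγ : γ ^ 2 + γ + 1 = 0) (g x : GL (Fin 3) F) (hx : x ∈ Cfsg.Geo.specialLinear (Fin 3) F) (z : F)
    (hz : ((x ^ 3 : GL (Fin 3) F) : Matrix (Fin 3) (Fin 3) F) = z • (1 : Matrix (Fin 3) (Fin 3) F))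
    (hns : ∀ z : F, (x : Matrix (Fin 3) (Fin 3) F) ≠ z • (1 : Matrix (Fin 3) (Fin 3) F)) :
    ∃ h ∈ Cfsg.Geo.specialLinear (Fin 3) F,
      h⁻¹ * x * h ∈ Cfsg.Geo.subgroupNormalizer ((R0 γ hγ).map (MulAut.conj g).toMonoidHom) := by
  have hpP := (Fact.out : p.Prime)
  have hxd := (mem_sl_iff x).mp hx
  rw [Units.val_pow_eq_pow_val] at hz
  have hz3 : z ^ 3 = 1 := by
    have := congrArg Matrix.det hz
    rw [Matrix.det_pow, hxd, one_pow, Matrix.det_smul, Matrix.det_one, mul_one] at this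
    simpa using this.symm
  have hz0 : z ≠ 0 := by
    intro h; rw [h] at hz3; simp at hz3
  have hcop : Nat.Coprime 9 p := by
    have : (9 : ℕ) = 3 ^ 2 := by norm_num
    rw [this]
    apply Nat.Coprime.pow_left
    rw [Nat.coprime_comm, Nat.Prime.coprime_iff_not_dvd hpP]
    intro h
    have := Nat.le_of_dvd (by norm_num) h
    omega
  have hx9 : x ^ 9 = 1 := by
    apply Units.ext
    rw [Units.val_pow_eq_pow_val, Units.val_one]
    have : (x : Matrix (Fin 3) (Fin 3) F) ^ 9 = ((x : Matrix (Fin 3) (Fin 3) F) ^ 3) ^ 3 := by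
      rw [← pow_mul]
    rw [this, hz, smul_pow, one_pow, hz3, one_smul]
  rcases cube_data _ hns z hz hxd with ⟨htr, he2, hz1⟩ | ⟨α, hα3, hz1, htr, he2⟩
  · -- regular case
    set n := g * ZU γ hγ * g⁻¹ with hn
    have hnN : n ∈ Cfsg.Geo.subgroupNormalizer ((R0 γ hγ).map (MulAut.conj g).toMonoidHom) :=
      conj_mem_normalizer (R0 γ hγ) g _ (Subgroup.le_normalizer (ZU_mem γ hγ))
    have hnv : (n : Matrix (Fin 3) (Fin 3) F) =
        (g : Matrix (Fin 3) (Fin 3) F) * Zm γ * ((g⁻¹ : GL (Fin 3) F) : Matrix (Fin 3) (Fin 3) F) := by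
      rw [hn, Units.val_mul, Units.val_mul, ZU_val]
    have hnd : (n : Matrix (Fin 3) (Fin 3) F).det = 1 := by
      rw [hnv, det_conj, det_Zm, gamma_cube γ hγ]
    have hnSL : n ∈ Cfsg.Geo.specialLinear (Fin 3) F := (mem_sl_iff n).mpr hnd
    have hcp : (x : Matrix (Fin 3) (Fin 3) F).charpoly = (n : Matrix (Fin 3) (Fin 3) F).charpoly := by
      rw [hnv, charpoly_conj]
      apply charpoly_eq_of
      · rw [htr, trace_Zm]; linear_combination -hγ
      · rw [he2, e2_Zm]; linear_combination (-γ) * hγ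
      · rw [hxd, det_Zm, gamma_cube γ hγ]
    have hn9 : n ^ 9 = 1 := by
      rw [hn, conj_pow]
      have : (ZU γ hγ) ^ 9 = 1 := by
        apply Units.ext
        rw [Units.val_pow_eq_pow_val, Units.val_one, ZU_val]
        have e1 : (Zm γ) ^ 9 = ((Zm γ) ^ 3) ^ 3 := by rw [← pow_mul]
        rw [e1, Zm_pow_three γ hγ, one_pow]
      rw [this]; group
    obtain ⟨h, hh, hhx⟩ := sl_conj_of_charpoly p x n hx hnSL 9 hcop hx9 hn9 hcp
    exact ⟨h, hh, by rw [hhx]; exact hnN⟩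
  · -- the case of a double eigenvalue
    have hzq : z ^ 2 + z + 1 = 0 := by
      have : (z - 1) * (z ^ 2 + z + 1) = 0 := by linear_combination hz3
      rcases mul_eq_zero.mp this with h | h
      · exact absurd (sub_eq_zero.mp h) hz1
      · exact h
    have hα0 : α ≠ 0 := by
      intro h; rw [h] at hα3; simp at hα3; exact hz0 hα3.symm
    have hβ : z ^ 2 = γ ∨ z ^ 2 = γ ^ 2 := by
      rcases cube_root_cases γ z hγ hz3 with h | h | h
      · exact absurd h hz1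
      · right; rw [h]
      · left; rw [h]
        have := gamma_cube γ hγ
        calc (γ ^ 2) ^ 2 = γ ^ 3 * γ := by ring
          _ = γ := by rw [this, one_mul]
    have hs0 : α * z ^ 2 ≠ 0 := mul_ne_zero hα0 (pow_ne_zero 2 hz0)
    set n₀ : GL (Fin 3) F := scU (α * z ^ 2) hs0 * DU (z ^ 2) (pow_ne_zero 2 hz0) with hn₀
    have hn₀N : n₀ ∈ Subgroup.normalizer ((R0 γ hγ : Subgroup (GL (Fin 3) F)) : Set (GL (Fin 3) F)) :=
      mul_mem (scU_mem_normalizer γ hγ _ _) (DU_mem_normalizer' γ hγ _ _ hβ)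
    have hn₀v : (n₀ : Matrix (Fin 3) (Fin 3) F) = (α * z ^ 2) • Dm (z ^ 2) := by
      rw [hn₀, Units.val_mul, scU_val, DU_val, Matrix.smul_mul, one_mul]
    set n := g * n₀ * g⁻¹ with hn
    have hnN := conj_mem_normalizer (R0 γ hγ) g n₀ hn₀N
    have hnv : (n : Matrix (Fin 3) (Fin 3) F) =
        (g : Matrix (Fin 3) (Fin 3) F) * ((α * z ^ 2) • Dm (z ^ 2)) *
          ((g⁻¹ : GL (Fin 3) F) : Matrix (Fin 3) (Fin 3) F) := by
      rw [hn, Units.val_mul, Units.val_mul, hn₀v]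
    have hdet1 : (α * z ^ 2) ^ 3 * z ^ 2 = 1 := by
      have : (α * z ^ 2) ^ 3 * z ^ 2 = α ^ 3 * (z ^ 3) ^ 2 * z ^ 2 := by ring
      rw [this, hα3, hz3, one_pow, mul_one]
      linear_combination hz3
    have hnd : (n : Matrix (Fin 3) (Fin 3) F).det = 1 := by
      rw [hnv, det_conj, det_smul_Dm, hdet1]
    have hnSL : n ∈ Cfsg.Geo.specialLinear (Fin 3) F := (mem_sl_iff n).mpr hnd
    have htr' : (x : Matrix (Fin 3) (Fin 3) F).trace = α * z ^ 2 * (2 + z ^ 2) := by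
      apply mul_right_cancel₀ (pow_ne_zero 2 hα0)
      rw [htr]
      have : α * z ^ 2 * (2 + z ^ 2) * α ^ 2 = α ^ 3 * z ^ 2 * (2 + z ^ 2) := by ring
      rw [this, hα3]
      linear_combination (-1 : F) * hzq - (2 + z ^ 2) * hz3
    have hcp : (x : Matrix (Fin 3) (Fin 3) F).charpoly = (n : Matrix (Fin 3) (Fin 3) F).charpoly := by
      rw [hnv, charpoly_conj]
      apply charpoly_eq_of
      · rw [htr', trace_smul_Dm]
      · rw [he2, htr', e2_smul_Dm]
        linear_combination (-2 * α ^ 2 * z ^ 2) * hzq + (-2 * α ^ 2 * z ^ 3) * hz3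
      · rw [hxd, det_smul_Dm, hdet1]
    have hn9 : n ^ 9 = 1 := by
      rw [hn, conj_pow]
      have : n₀ ^ 9 = 1 := by
        apply Units.ext
        rw [Units.val_pow_eq_pow_val, Units.val_one, hn₀v, smul_Dm_pow]
        have e1 : (z ^ 2) ^ 9 = 1 := by
          have : (z ^ 2) ^ 9 = (z ^ 3) ^ 6 := by ring
          rw [this, hz3, one_pow]
        have e2' : (α * z ^ 2) ^ 9 = 1 := by
          have : (α * z ^ 2) ^ 9 = (α ^ 3) ^ 3 * (z ^ 3) ^ 6 := by ring
          rw [this, hα3, hz3, one_pow, mul_one]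
        rw [e1, e2', Dm_one, one_smul]
      rw [this]; group
    obtain ⟨h, hh, hhx⟩ := sl_conj_of_charpoly p x n hx hnSL 9 hcop hx9 hn9 hcp
    exact ⟨h, hh, by rw [hhx]; exact hnN⟩

end Cfsg.Agent.Lib.Helper6.Heis3
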