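import Mathlib
import Cfsg.Prelude.Def_LieClassical
import Cfsg.Agent.Lib.Helper6.Heis3G
import Cfsg.Agent.Lib.Helper14.GUConj2
import Cfsg.Agent.Lib.Helper16.UnitaryCount4
import Cfsg.Agent.Lib.Helper6.UnitaryCount

/-!
# The Heisenberg group of order 27 inside `GU_3(p)`
-/

set_option autoImplicit false

namespace Cfsg.Agent.Lib.Helper6.HeisU

open Matrix Cfsg.Agent.Lib.Helper6.Heis3
open Cfsg.Agent.Lib.Helper14.GUConj (sharp sharp_apply sharp_mul sharp_sharp sharp_one sharp_smul sharp_add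
  sharp_zero sharp_pow det_sharp pres_iff)
open Cfsg.Agent.Lib.Helper14.HSemi (sigQ sigQ_apply)

variable {F : Type*} [Field F] [Fintype F] {p : ℕ}

theorem p_ne_zero (hF : Fintype.card F = p ^ 2) : p ≠ 0 := by
  rintro rfl
  have := Fintype.one_lt_card (α := F)
  rw [hF] at this
  norm_num at this

theorem mem_GU_iff (hF : Fintype.card F = p ^ 2) (g : GL (Fin 3) F) :
    g ∈ Cfsg.GU 3 F p ↔
      sharp hF (g : Matrix (Fin 3) (Fin 3) F) * (g : Matrix (Fin 3) (Fin 3) F) = 1 :=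
  pres_iff hF (g : Matrix (Fin 3) (Fin 3) F)

/-- the other order -/
theorem mul_sharp_of (hF : Fintype.card F = p ^ 2) (M : Matrix (Fin 3) (Fin 3) F)
    (h : sharp hF M * M = 1) : M * sharp hF M = 1 :=
  mul_eq_one_comm.mp h

theorem sharp_scalar (hF : Fintype.card F = p ^ 2) (s : F) :
    sharp hF (s • (1 : Matrix (Fin 3) (Fin 3) F)) = (s ^ p) • 1 := by
  rw [sharp_smul, sharp_one, sigQ_apply]

theorem scalar_unitary (hF : Fintype.card F = p ^ 2) (s : F) (hs : s ^ (p + 1) = 1) :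
    sharp hF (s • (1 : Matrix (Fin 3) (Fin 3) F)) * (s • (1 : Matrix (Fin 3) (Fin 3) F)) = 1 := by
  rw [sharp_scalar, Matrix.smul_mul, Matrix.mul_smul, mul_one, smul_smul, ← pow_succ, hs, one_smul]

theorem Zm_unitary (hF : Fintype.card F = p ^ 2) (γ : F) (hγp : γ ^ (p + 1) = 1) :
    sharp hF (Zm γ) * Zm γ = 1 := by
  have hp0 := p_ne_zero hF
  ext i j
  fin_cases i <;> fin_cases j <;>
    simp [Matrix.mul_apply, Fin.sum_univ_three, sharp_apply, sigQ_apply, Zm, hp0]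
  · rw [← pow_succ]; exact hγp
  · rw [← pow_mul, mul_comm 2 p, pow_mul, ← mul_pow, ← pow_succ, hγp, one_pow]

theorem Dm_unitary (hF : Fintype.card F = p ^ 2) (β : F) (hβp : β ^ (p + 1) = 1) :
    sharp hF (Dm β) * Dm β = 1 := by
  have hp0 := p_ne_zero hF
  ext i j
  fin_cases i <;> fin_cases j <;>
    simp [Matrix.mul_apply, Fin.sum_univ_three, sharp_apply, sigQ_apply, Dm, hp0]
  · rw [← pow_succ]; exact hβp

theorem Xm_unitary (hF : Fintype.card F = p ^ 2) : sharp hF (Xm : Matrix (Fin 3) (Fin 3) F) * Xm = 1 := by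
  have hp0 := p_ne_zero hF
  ext i j
  fin_cases i <;> fin_cases j <;>
    simp [Matrix.mul_apply, Fin.sum_univ_three, sharp_apply, sigQ_apply, Xm, hp0]

theorem Tm_unitary (hF : Fintype.card F = p ^ 2) (hodd : Odd p) :
    sharp hF (Tm : Matrix (Fin 3) (Fin 3) F) * Tm = 1 := by
  have hp0 := p_ne_zero hF
  ext i j
  fin_cases i <;> fin_cases j <;>
    simp [Matrix.mul_apply, Fin.sum_univ_three, sharp_apply, sigQ_apply, Tm, hp0, hodd.neg_one_pow]

theorem smul_unitary (hF : Fintype.card F = p ^ 2) (s : F) (hs : s ^ (p + 1) = 1)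
    (M : Matrix (Fin 3) (Fin 3) F) (hM : sharp hF M * M = 1) : sharp hF (s • M) * (s • M) = 1 := by
  rw [sharp_smul, sigQ_apply, Matrix.smul_mul, Matrix.mul_smul, smul_smul, hM, ← pow_succ, hs, one_smul]

theorem R0_le_GU (hF : Fintype.card F = p ^ 2) (γ : F) (hγ : γ ^ 2 + γ + 1 = 0) (hγp : γ ^ (p + 1) = 1) :
    R0 γ hγ ≤ Cfsg.GU 3 F p := by
  rw [R0, Subgroup.closure_le]
  intro s hs
  rcases hs with rfl | hs
  · show ZU γ hγ ∈ Cfsg.GU 3 F p
    rw [mem_GU_iff hF, ZU_val]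
    exact Zm_unitary hF γ hγp
  · rw [Set.mem_singleton_iff] at hs
    subst hs
    show XU ∈ Cfsg.GU 3 F p
    rw [mem_GU_iff hF, XU_val]
    exact Xm_unitary hF

omit [Fintype F] in
/-- a cube root of unity has norm one when `3 ∣ p + 1` -/
theorem cube_root_norm (z : F) (hz : z ^ 3 = 1) (h3 : 3 ∣ p + 1) : z ^ (p + 1) = 1 := by
  obtain ⟨k, hk⟩ := h3
  rw [hk, pow_mul, hz, one_pow]

/-- if the conjugate of the Heisenberg group by `g` is unitary, then `g` may be taken unitary -/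
theorem exists_unitary_conj (hF : Fintype.card F = p ^ 2) (γ : F) (hγ : γ ^ 2 + γ + 1 = 0)
    (h3F : (3 : F) ≠ 0) (h3 : 3 ∣ p + 1)
    (g : GL (Fin 3) F) (hle : (R0 γ hγ).map (MulAut.conj g).toMonoidHom ≤ Cfsg.GU 3 F p) :
    ∃ g' : GL (Fin 3) F, g' ∈ Cfsg.GU 3 F p ∧
      (R0 γ hγ).map (MulAut.conj g').toMonoidHom = (R0 γ hγ).map (MulAut.conj g).toMonoidHom := by
  have hγp := cube_root_norm γ (gamma_cube γ hγ) h3
  set G := (g : Matrix (Fin 3) (Fin 3) F) with hG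
  set Gi := ((g⁻¹ : GL (Fin 3) F) : Matrix (Fin 3) (Fin 3) F) with hGi
  have hGGi : G * Gi = 1 := by rw [hG, hGi, ← Units.val_mul, mul_inv_cancel, Units.val_one]
  have hGiG : Gi * G = 1 := by rw [hG, hGi, ← Units.val_mul, inv_mul_cancel, Units.val_one]
  set Hm := sharp hF G * G with hHm
  have key : ∀ U : GL (Fin 3) F, U ∈ R0 γ hγ → sharp hF (U : Matrix (Fin 3) (Fin 3) F) * U = 1 →
      Hm * (U : Matrix (Fin 3) (Fin 3) F) = (U : Matrix (Fin 3) (Fin 3) F) * Hm := by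
    intro U hU hUu
    have h1 : g * U * g⁻¹ ∈ Cfsg.GU 3 F p := hle ⟨U, hU, by simp [MulAut.conj_apply]⟩
    rw [mem_GU_iff hF, Units.val_mul, Units.val_mul, ← hG, ← hGi, sharp_mul, sharp_mul] at h1
    -- h1 : sharp Gi * (sharp U * sharp G) * (G * U * Gi) = 1
    have h2 : sharp hF (U : Matrix (Fin 3) (Fin 3) F) * Hm * U = Hm := by
      have e1 : sharp hF G * sharp hF Gi = 1 := by rw [← sharp_mul, hGiG, sharp_one]
      calc sharp hF (U : Matrix (Fin 3) (Fin 3) F) * Hm * U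
          = (sharp hF G * sharp hF Gi) * (sharp hF (U : Matrix (Fin 3) (Fin 3) F) * Hm * U) * (Gi * G) := by
            rw [e1, hGiG, one_mul, mul_one]
        _ = sharp hF G * (sharp hF Gi * (sharp hF (U : Matrix (Fin 3) (Fin 3) F) * sharp hF G) * (G * U * Gi)) * G := by
            rw [hHm]; simp only [mul_assoc]
        _ = Hm := by rw [h1, mul_one]
    have hUU : (U : Matrix (Fin 3) (Fin 3) F) * sharp hF (U : Matrix (Fin 3) (Fin 3) F) = 1 :=
      mul_sharp_of hF _ hUu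
    calc Hm * (U : Matrix (Fin 3) (Fin 3) F)
        = ((U : Matrix (Fin 3) (Fin 3) F) * sharp hF (U : Matrix (Fin 3) (Fin 3) F)) * Hm * U := by
          rw [hUU, one_mul]
      _ = (U : Matrix (Fin 3) (Fin 3) F) * (sharp hF (U : Matrix (Fin 3) (Fin 3) F) * Hm * U) := by
          simp only [mul_assoc]
      _ = (U : Matrix (Fin 3) (Fin 3) F) * Hm := by rw [h2]
  have hZ := key (ZU γ hγ) (ZU_mem γ hγ) (by rw [ZU_val]; exact Zm_unitary hF γ hγp)
  have hX := key XU (XU_mem γ hγ) (by rw [XU_val]; exact Xm_unitary hF)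
  rw [ZU_val] at hZ
  rw [XU_val] at hX
  have hsc := scalar_of_comm γ hγ h3F Hm hZ hX
  set l := Hm 0 0 with hl
  have hdet : Hm.det ≠ 0 := by
    rw [hHm, Matrix.det_mul, det_sharp]
    have hd : G.det ≠ 0 := by
      intro h0
      have := congrArg Matrix.det hGGi
      rw [Matrix.det_mul, h0, zero_mul, Matrix.det_one] at this
      exact zero_ne_one this
    exact mul_ne_zero ((map_ne_zero _).mpr hd) hd
  have hl0 : l ≠ 0 := by
    intro h0
    rw [hsc, h0, zero_smul, Matrix.det_zero] at hdet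
    exact hdet rfl
  have hlp : l ^ p = l := by
    have h1 : sharp hF Hm = Hm := by rw [hHm, sharp_mul, sharp_sharp]
    have h2 := congrFun (congrFun h1 0) 0
    rw [sharp_apply, sigQ_apply] at h2
    exact h2
  have hcard := Cfsg.Agent.Lib.Helper6.card_norm_fiber hF l hl0 hlp
  have hne : Nonempty {t : F // t ^ (p + 1) = l} := by
    by_contra hem
    rw [not_nonempty_iff] at hem
    rw [Nat.card_of_isEmpty] at hcard
    omega
  obtain ⟨⟨μ, hμ⟩⟩ := hne
  have hμ0 : μ ≠ 0 := by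
    rintro rfl
    rw [zero_pow (Nat.succ_ne_zero p)] at hμ
    exact hl0 hμ.symm
  refine ⟨scU μ⁻¹ (inv_ne_zero hμ0) * g, ?_, ?_⟩
  · rw [mem_GU_iff hF, Units.val_mul, scU_val, Matrix.smul_mul, one_mul, sharp_smul, sigQ_apply,
      Matrix.smul_mul, Matrix.mul_smul, smul_smul, ← hG, ← hHm, hsc, smul_smul, ← pow_succ, inv_pow, hμ,
      inv_mul_cancel₀ hl0, one_smul]
  · have : MulAut.conj (scU μ⁻¹ (inv_ne_zero hμ0) * g) = MulAut.conj g := by
      ext u
      simp only [MulAut.conj_apply]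
      rw [_root_.mul_inv_rev]
      have e1 : scU μ⁻¹ (inv_ne_zero hμ0) * g * u * (g⁻¹ * (scU μ⁻¹ (inv_ne_zero hμ0))⁻¹) =
          scU μ⁻¹ (inv_ne_zero hμ0) * (g * u * g⁻¹) * (scU μ⁻¹ (inv_ne_zero hμ0))⁻¹ := by group
      rw [e1, scU_comm, mul_inv_cancel_right]
    rw [this]

end Cfsg.Agent.Lib.Helper6.HeisU
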