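import Cfsg.Agent.Lib.Helper6.SLBS2Core
import Cfsg.Agent.Lib.Helper4.SLBP1

set_option autoImplicit false

/-! # S2440-[S2] (helper6): official `card_classes_eq_card_center`. -/

namespace Cfsg.Agent.Lib.Helper24.SLB

open Matrix


/-- **[S2]** for a Sylow `p`-subgroup `P` of `SL_n(F)` (`char F = p`, `n ≥ 2`) the classes of `N(P)`
consisting of `p`-regular elements centralizing `P` correspond to the centre -/
theorem card_classes_eq_card_center {F : Type*} [Field F] [Fintype F] (n : ℕ) (hn : 2 ≤ n) (p : ℕ)
    [Fact p.Prime] [CharP F p] (P : Sylow p (SpecialLinearGroup (Fin n) F)) :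
    Nat.card {C : ConjClasses (Subgroup.normalizer
        ((P : Subgroup (SpecialLinearGroup (Fin n) F)) : Set (SpecialLinearGroup (Fin n) F))) //
      ∀ m : Subgroup.normalizer
        ((P : Subgroup (SpecialLinearGroup (Fin n) F)) : Set (SpecialLinearGroup (Fin n) F)),
        ConjClasses.mk m = C → ¬ p ∣ orderOf m ∧
          (m : SpecialLinearGroup (Fin n) F) ∈ Subgroup.centralizer
            ((P : Subgroup (SpecialLinearGroup (Fin n) F)) : Set (SpecialLinearGroup (Fin n) F))} =
      Nat.card (Subgroup.center (SpecialLinearGroup (Fin n) F)) :=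
  Helper6.card_classes_eq_card_center_core n hn p P
    (pregular_centralizer_central p (P : Subgroup (SpecialLinearGroup (Fin n) F)) P.isPGroup'
      (Helper6.sylow_SL_ne_bot n hn p P) (Helper6.pCore_normalizer_sylow p P))

end Cfsg.Agent.Lib.Helper24.SLB
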