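import Cfsg.Agent.Lib.Helper25.SLCC.Defs

/-! S2086 farm (architect helper25), piece [A1]: lifts of commuting root elements of `SL_n(K)` commute
when a spare index is available. -/

set_option autoImplicit false

namespace Cfsg.Agent.Lib.Helper25.SLCC

open Matrix
open scoped commutatorElement

variable {n : ℕ} {K : Type*} [Field K] {E : Type*} [Group E]

namespace Helper6

section Gen

variable {Γ : Type*} [Group Γ]

theorem comm_mul_central_left {z : E} (hz : z ∈ Subgroup.center E) (a b : E) :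
    ⁅a * z, b⁆ = ⁅a, b⁆ := by
  rw [Subgroup.mem_center_iff] at hz
  have h1 : z * b = b * z := (hz b).symm
  simp only [commutatorElement_def, _root_.mul_inv_rev]
  calc a * z * b * (z⁻¹ * a⁻¹) * b⁻¹ = a * (z * b) * z⁻¹ * a⁻¹ * b⁻¹ := by group
    _ = a * (b * z) * z⁻¹ * a⁻¹ * b⁻¹ := by rw [h1]
    _ = a * b * a⁻¹ * b⁻¹ := by group

theorem comm_mul_central_right {z : E} (hz : z ∈ Subgroup.center E) (a b : E) :
    ⁅a, b * z⁆ = ⁅a, b⁆ := by
  rw [Subgroup.mem_center_iff] at hz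
  have h1 : z * a⁻¹ = a⁻¹ * z := (hz a⁻¹).symm
  simp only [commutatorElement_def, _root_.mul_inv_rev]
  calc a * (b * z) * a⁻¹ * (z⁻¹ * b⁻¹) = a * b * (z * a⁻¹) * z⁻¹ * b⁻¹ := by group
    _ = a * b * (a⁻¹ * z) * z⁻¹ * b⁻¹ := by rw [h1]
    _ = a * b * a⁻¹ * b⁻¹ := by group

/-- the commutator of two lifts depends only on the images -/
theorem comm_eq (ψ : E →* Γ) (hc : ψ.ker ≤ Subgroup.center E) {a a' b b' : E}
    (ha : ψ a = ψ a') (hb : ψ b = ψ b') : ⁅a, b⁆ = ⁅a', b'⁆ := by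
  have hz : a'⁻¹ * a ∈ Subgroup.center E := hc (by
    rw [MonoidHom.mem_ker, map_mul, map_inv, ha, inv_mul_cancel])
  have hw : b'⁻¹ * b ∈ Subgroup.center E := hc (by
    rw [MonoidHom.mem_ker, map_mul, map_inv, hb, inv_mul_cancel])
  have e1 : a = a' * (a'⁻¹ * a) := by group
  have e2 : b = b' * (b'⁻¹ * b) := by group
  rw [e1, e2, comm_mul_central_left hz, comm_mul_central_right hw]

theorem conj_comm (g a b : E) : g * ⁅a, b⁆ * g⁻¹ = ⁅g * a * g⁻¹, g * b * g⁻¹⁆ := by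
  simp only [commutatorElement_def]
  group

/-- a lift of `x` commutes with the commutator of lifts of two elements commuting with `x` -/
theorem commute_comm (ψ : E →* Γ) (hc : ψ.ker ≤ Subgroup.center E) {a p q : E}
    (h1 : ψ a * ψ p = ψ p * ψ a) (h2 : ψ a * ψ q = ψ q * ψ a) : a * ⁅p, q⁆ = ⁅p, q⁆ * a := by
  have e : a * ⁅p, q⁆ * a⁻¹ = ⁅p, q⁆ := by
    rw [conj_comm]
    apply comm_eq ψ hc
    · rw [map_mul, map_mul, h1, map_inv, mul_inv_cancel_right]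
    · rw [map_mul, map_mul, h2, map_inv, mul_inv_cancel_right]
  calc a * ⁅p, q⁆ = (a * ⁅p, q⁆ * a⁻¹) * a := by group
    _ = ⁅p, q⁆ * a := by rw [e]

end Gen

end Helper6

/-- [A1] Step 1 with a spare index `h` -/
theorem lifts_commute_of_spare (ψ : E →* SpecialLinearGroup (Fin n) K) (hψ : Function.Surjective ψ)
    (hc : ψ.ker ≤ Subgroup.center E) {i j k l h : Fin n} (hij : i ≠ j) (hkl : k ≠ l) (hil : i ≠ l)
    (hjk : j ≠ k) (hhi : h ≠ i) (hhj : h ≠ j) (hhk : h ≠ k) (hhl : h ≠ l) (t u : K) (A B : E)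
    (hA : ψ A = T i j t) (hB : ψ B = T k l u) : A * B = B * A := by
  obtain ⟨P, hP⟩ := hψ (T k h u)
  obtain ⟨Q, hQ⟩ := hψ (T h l 1)
  have hPQ : ψ ⁅P, Q⁆ = T k l u := by
    rw [map_commutatorElement, hP, hQ, T_comm3 (Ne.symm hhk) hhl hkl, mul_one]
  have c1 : ψ A * ψ P = ψ P * ψ A := by
    rw [hA, hP]
    exact T_comm hij (Ne.symm hhk) (Ne.symm hhi) hjk t u
  have c2 : ψ A * ψ Q = ψ Q * ψ A := by
    rw [hA, hQ]
    exact T_comm hij hhl hil (Ne.symm hhj) t 1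
  have h1 : A * ⁅P, Q⁆ = ⁅P, Q⁆ * A := Helper6.commute_comm ψ hc c1 c2
  have h2 : ⁅A, B⁆ = ⁅A, ⁅P, Q⁆⁆ := Helper6.comm_eq ψ hc rfl (by rw [hB, hPQ])
  have h3 : ⁅A, ⁅P, Q⁆⁆ = 1 := by
    rw [commutatorElement_eq_one_iff_mul_comm]
    exact h1
  rw [h3, commutatorElement_eq_one_iff_mul_comm] at h2
  exact h2

end Cfsg.Agent.Lib.Helper25.SLCC
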