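import Cfsg.Agent.Lib.Helper6.SLCCA1

/-! S2086 farm (architect helper25), piece [A3]: Milnor's chain identity; `Bal` from `CommLift` when
`n ≥ 4`. -/

set_option autoImplicit false

namespace Cfsg.Agent.Lib.Helper25.SLCC

open Matrix
open scoped commutatorElement

variable {n : ℕ} {K : Type*} [Field K] {E : Type*} [Group E]

namespace Helper6

/-- the core of the chain identity, in multiplicative form -/
theorem chain_core (u v w P Q R : E) (hP : u * v = P * v * u) (hQ : v * w = Q * w * v)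
    (hR : u * Q = R * Q * u) (huw : u * w = w * u) (hPQ : P * Q = Q * P) (hRQ : R * Q = Q * R) :
    P * w = R * w * P := by
  have h1 : u * v * w = P * Q * w * (v * u) := by
    calc u * v * w = P * v * u * w := by rw [hP]
      _ = P * v * (u * w) := by simp only [mul_assoc]
      _ = P * v * (w * u) := by rw [huw]
      _ = P * (v * w) * u := by simp only [mul_assoc]
      _ = P * (Q * w * v) * u := by rw [hQ]
      _ = P * Q * w * (v * u) := by simp only [mul_assoc]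
  have h2 : u * v * w = R * Q * w * P * (v * u) := by
    calc u * v * w = u * (v * w) := mul_assoc _ _ _
      _ = u * (Q * w * v) := by rw [hQ]
      _ = (u * Q) * w * v := by simp only [mul_assoc]
      _ = (R * Q * u) * w * v := by rw [hR]
      _ = R * Q * (u * w) * v := by simp only [mul_assoc]
      _ = R * Q * (w * u) * v := by rw [huw]
      _ = R * Q * w * (u * v) := by simp only [mul_assoc]
      _ = R * Q * w * (P * v * u) := by rw [hP]
      _ = R * Q * w * P * (v * u) := by simp only [mul_assoc]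
  have h3 : P * Q * w = R * Q * w * P := mul_right_cancel (h1.symm.trans h2)
  rw [hPQ, hRQ] at h3
  have h4 : Q * (P * w) = Q * (R * w * P) := by
    simpa only [mul_assoc] using h3
  exact mul_left_cancel h4

/-- Milnor's chain identity `⁅⁅u,v⁆,w⁆ = ⁅u,⁅v,w⁆⁆` -/
theorem chain_identity (u v w : E) (huw : u * w = w * u)
    (hPQ : ⁅u, v⁆ * ⁅v, w⁆ = ⁅v, w⁆ * ⁅u, v⁆)
    (hRQ : ⁅u, ⁅v, w⁆⁆ * ⁅v, w⁆ = ⁅v, w⁆ * ⁅u, ⁅v, w⁆⁆) :
    ⁅⁅u, v⁆, w⁆ = ⁅u, ⁅v, w⁆⁆ := by
  have hP : u * v = ⁅u, v⁆ * v * u := by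
    rw [commutatorElement_def]; group
  have hQ : v * w = ⁅v, w⁆ * w * v := by
    rw [commutatorElement_def]; group
  have hR : u * ⁅v, w⁆ = ⁅u, ⁅v, w⁆⁆ * ⁅v, w⁆ * u := by
    rw [commutatorElement_def u]; group
  have h := chain_core u v w ⁅u, v⁆ ⁅v, w⁆ ⁅u, ⁅v, w⁆⁆ hP hQ hR huw hPQ hRQ
  rw [commutatorElement_def ⁅u, v⁆ w, h]
  group

theorem exists_ne_three' (hn : 4 ≤ n) (a b c : Fin n) : ∃ h : Fin n, h ≠ a ∧ h ≠ b ∧ h ≠ c := by
  classical
  have hcard : ({a, b, c} : Finset (Fin n)).card < (Finset.univ : Finset (Fin n)).card := by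
    rw [Finset.card_univ, Fintype.card_fin]
    calc ({a, b, c} : Finset (Fin n)).card ≤ 3 := Finset.card_le_three
      _ < n := by omega
  obtain ⟨h, -, hh⟩ := Finset.exists_mem_notMem_of_card_lt_card hcard
  simp only [Finset.mem_insert, Finset.mem_singleton, not_or] at hh
  exact ⟨h, hh.1, hh.2.1, hh.2.2⟩

/-- the main case of `Bal`: four distinct indices -/
theorem bal_main (ψ : E →* SpecialLinearGroup (Fin n) K)
    (hψ : Function.Surjective ψ) (hc : ψ.ker ≤ Subgroup.center E) (hCL : CommLift ψ)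
    {i j h l : Fin n} (hij : i ≠ j) (hjl : j ≠ l) (hil : i ≠ l) (hih : i ≠ h) (hhl : h ≠ l)
    (hhj : h ≠ j) (t u : K) (A B A' B' : E) (hA : ψ A = T i j t) (hB : ψ B = T j l u)
    (hA' : ψ A' = T i h 1) (hB' : ψ B' = T h l (t * u)) : ⁅A, B⁆ = ⁅A', B'⁆ := by
  obtain ⟨v, hv⟩ := hψ (T h j t)
  have hP : ψ ⁅A', v⁆ = T i j t := by
    rw [map_commutatorElement, hA', hv, T_comm3 hih hhj hij, one_mul]
  have hQ : ψ ⁅v, B⁆ = T h l (t * u) := by
    rw [map_commutatorElement, hv, hB, T_comm3 hhj hjl hhl]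
  have hR : ψ ⁅A', ⁅v, B⁆⁆ = T i l (t * u) := by
    rw [map_commutatorElement, hA', hQ, T_comm3 hih hhl hil, one_mul]
  have c_uw : A' * B = B * A' := hCL i h j l hih hjl hil hhj 1 u A' B hA' hB
  have c_PQ : ⁅A', v⁆ * ⁅v, B⁆ = ⁅v, B⁆ * ⁅A', v⁆ :=
    hCL i j h l hij hhl hil (Ne.symm hhj) t (t * u) _ _ hP hQ
  have c_RQ : ⁅A', ⁅v, B⁆⁆ * ⁅v, B⁆ = ⁅v, B⁆ * ⁅A', ⁅v, B⁆⁆ :=
    hCL i l h l hil hhl hil (Ne.symm hhl) (t * u) (t * u) _ _ hR hQ
  have chain := chain_identity A' v B c_uw c_PQ c_RQ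
  calc ⁅A, B⁆ = ⁅⁅A', v⁆, B⁆ := comm_eq ψ hc (by rw [hA, hP]) rfl
    _ = ⁅A', ⁅v, B⁆⁆ := chain
    _ = ⁅A', B'⁆ := comm_eq ψ hc rfl (by rw [hQ, hB'])

end Helper6

/-- [A3] Milnor's chain identity: `Bal` from `CommLift` when `n ≥ 4` -/
theorem bal_of_commLift (hn : 4 ≤ n) (ψ : E →* SpecialLinearGroup (Fin n) K)
    (hψ : Function.Surjective ψ) (hc : ψ.ker ≤ Subgroup.center E) (hCL : CommLift ψ) : Bal ψ := by
  intro i j h l hij hjl hil hih hhl t u A B A' B' hA hB hA' hB'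
  by_cases hhj : h = j
  · subst hhj
    obtain ⟨h', h1, h2, h3⟩ := Helper6.exists_ne_three' hn i h l
    obtain ⟨A'', hA''⟩ := hψ (T i h' 1)
    obtain ⟨B'', hB''⟩ := hψ (T h' l (t * u))
    have e1 := Helper6.bal_main ψ hψ hc hCL hij hjl hil (Ne.symm h1) h3 h2 t u A B A'' B''
      hA hB hA'' hB''
    have e2 := Helper6.bal_main ψ hψ hc hCL hij hjl hil (Ne.symm h1) h3 h2 1 (t * u) A' B' A'' B''
      hA' hB' hA'' (by rw [one_mul]; exact hB'')
    exact e1.trans e2.symm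
  · exact Helper6.bal_main ψ hψ hc hCL hij hjl hil hih hhl hhj t u A B A' B' hA hB hA' hB'

end Cfsg.Agent.Lib.Helper25.SLCC
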