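import Mathlib
import Cfsg.Prelude.Def_GeometricClasses
import Cfsg.Agent.Lib.Helper13.TensorF3
import Cfsg.Agent.Lib.Helper13.TensorSkew

/-!
# Sp corollary family (S5823, `Sp_8`), piece E-TENS-PLUS (helper6)

`Sp_2(q) ⊗ O_4^+(q)` is not maximal in `Sp_8(q)`, `q` odd: it lies strictly inside the stabiliser in `Sp_8(q)` of the cone
`{u ⊗ w : w singular}` of pure 3-tensors (`O_4^+`-space `= F^2 ⊗ F^2`), which is proper (a transvection leaves it) and
strictly bigger (the swap of the first two tensor factors).  `tensor_plus_not_maximal` has the shape of helper27's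
`tensor_three_not_maximal`.  Reusable: `exists_hyperbolic` (hyperbolic normal form `Cᵀ G C = J ⊗ J` of a
non-degenerate symmetric 4 × 4 Gram matrix with a totally singular plane, char ≠ 2), `exists_dot`.
-/

set_option autoImplicit false

namespace Cfsg.Agent.Lib.Helper6.SpCorTensPlus

open scoped Matrix Kronecker
open Cfsg Cfsg.Geo Cfsg.Agent.Lib.Helper13.TNM

variable {F : Type*} [Field F]


/-- the two binary digits of an index in `Fin 4` -/
def hi : Fin 4 → Fin 2 := ![0, 0, 1, 1]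
def lo : Fin 4 → Fin 2 := ![0, 1, 0, 1]
/-- the inverse: `pk j k = 2 j + k` -/
def pk : Fin 2 → Fin 2 → Fin 4 := fun j k => ![![0, 1], ![2, 3]] j k

theorem pk_hi_lo (l : Fin 4) : pk (hi l) (lo l) = l := by
  fin_cases l <;> rfl

theorem hi_pk (j k : Fin 2) : hi (pk j k) = j := by
  fin_cases j <;> fin_cases k <;> rfl

theorem lo_pk (j k : Fin 2) : lo (pk j k) = k := by
  fin_cases j <;> fin_cases k <;> rfl

/-- the standard alternating Gram matrix -/
def JJ : Matrix (Fin 2) (Fin 2) F := !![0, 1; -1, 0]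

/-- the split symmetric Gram matrix `J ⊗ J` on `Fin 4` -/
def NN4 : Matrix (Fin 4) (Fin 4) F := fun l l' => JJ (hi l) (hi l') * JJ (lo l) (lo l')

theorem NN4_apply (l l' : Fin 4) : (NN4 : Matrix (Fin 4) (Fin 4) F) l l' = JJ (hi l) (hi l') * JJ (lo l) (lo l') := rfl

theorem NN4_sq : (NN4 : Matrix (Fin 4) (Fin 4) F) * NN4 = 1 := by
  ext l l'
  fin_cases l <;> fin_cases l' <;>
    simp [NN4, JJ, hi, lo, Matrix.mul_apply, Fin.sum_univ_four]

theorem NN4_symm : (NN4 : Matrix (Fin 4) (Fin 4) F)ᵀ = NN4 := by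
  ext l l'
  fin_cases l <;> fin_cases l' <;> simp [NN4, JJ, hi, lo]

/-- the quadratic form of `NN4` -/
theorem NN4_quad (w : Fin 4 → F) : w ⬝ᵥ (NN4 : Matrix (Fin 4) (Fin 4) F) *ᵥ w = 2 * (w 0 * w 3 - w 1 * w 2) := by
  simp [NN4, JJ, hi, lo, dotProduct, Matrix.mulVec, Fin.sum_univ_four]
  ring

section dual
variable {n : ℕ}

/-- a vector `z` with `y₁ ⬝ z = 1`, `y₂ ⬝ z = 0` when `y₁ ∉ ⟨y₂⟩` -/
theorem exists_dot (y₁ y₂ : Fin n → F) (h : y₁ ∉ Submodule.span F {y₂}) :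
    ∃ z : Fin n → F, y₁ ⬝ᵥ z = 1 ∧ y₂ ⬝ᵥ z = 0 := by
  obtain ⟨f, hf1, hf2⟩ := Submodule.exists_dual_map_eq_bot_of_notMem h inferInstance
  have hy2 : f y₂ = 0 := by
    have : f y₂ ∈ (Submodule.span F {y₂}).map f := ⟨y₂, Submodule.mem_span_singleton_self y₂, rfl⟩
    rw [hf2] at this
    exact (Submodule.mem_bot F).mp this
  have hexp : ∀ y : Fin n → F, f y = y ⬝ᵥ (fun i => f (Pi.single i 1)) := by
    intro y
    rw [LinearMap.pi_apply_eq_sum_univ f y]
    unfold dotProduct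
    apply Finset.sum_congr rfl
    intro i _
    rw [smul_eq_mul]
    congr 2
    funext j
    rw [Pi.single_apply]
    by_cases hij : i = j
    · rw [if_pos hij, if_pos hij.symm]
    · rw [if_neg hij, if_neg (Ne.symm hij)]
  refine ⟨(f y₁)⁻¹ • (fun i => f (Pi.single i 1)), ?_, ?_⟩
  · rw [dotProduct_smul, ← hexp, smul_eq_mul, inv_mul_cancel₀ hf1]
  · rw [dotProduct_smul, ← hexp, hy2, smul_zero]

end dual
section bb
variable {κ : Type*} [Fintype κ]

/-- the bilinear form of a Gram matrix -/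
def bb (G : Matrix κ κ F) (x y : κ → F) : F := x ⬝ᵥ G *ᵥ y

theorem bb_add_left (G : Matrix κ κ F) (x x' y : κ → F) : bb G (x + x') y = bb G x y + bb G x' y := by
  unfold bb; rw [add_dotProduct]

theorem bb_add_right (G : Matrix κ κ F) (x y y' : κ → F) : bb G x (y + y') = bb G x y + bb G x y' := by
  unfold bb; rw [Matrix.mulVec_add, dotProduct_add]

theorem bb_smul_left (G : Matrix κ κ F) (c : F) (x y : κ → F) : bb G (c • x) y = c * bb G x y := by
  unfold bb; rw [smul_dotProduct, smul_eq_mul]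

theorem bb_smul_right (G : Matrix κ κ F) (c : F) (x y : κ → F) : bb G x (c • y) = c * bb G x y := by
  unfold bb; rw [Matrix.mulVec_smul, dotProduct_smul, smul_eq_mul]

theorem bb_neg_left (G : Matrix κ κ F) (x y : κ → F) : bb G (-x) y = - bb G x y := by
  unfold bb; rw [neg_dotProduct]

theorem bb_neg_right (G : Matrix κ κ F) (x y : κ → F) : bb G x (-y) = - bb G x y := by
  unfold bb; rw [Matrix.mulVec_neg, dotProduct_neg]

theorem bb_symm (G : Matrix κ κ F) (hs : Gᵀ = G) (x y : κ → F) : bb G x y = bb G y x := by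
  unfold bb
  rw [Matrix.dotProduct_mulVec, ← Matrix.mulVec_transpose, hs, dotProduct_comm]

end bb

section norm

/-- two independent vectors in a plane -/
theorem exists_pair (U : Submodule F (Fin 4 → F)) (hdim : Module.finrank F U = 2) :
    ∃ a ∈ U, ∃ b ∈ U, a ∉ Submodule.span F {b} ∧ b ∉ Submodule.span F {a} := by
  have hne : U ≠ ⊥ := by
    intro h
    rw [h, finrank_bot] at hdim
    omega
  obtain ⟨a, haU, ha0⟩ := Submodule.exists_mem_ne_zero_of_ne_bot hne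
  have hlt : Submodule.span F {a} < U := by
    refine lt_of_le_of_ne ((Submodule.span_singleton_le_iff_mem a U).mpr haU) ?_
    intro h
    have h1 := finrank_span_singleton (K := F) ha0
    rw [h, hdim] at h1
    omega
  obtain ⟨b, hbU, hb⟩ := SetLike.exists_of_lt hlt
  refine ⟨a, haU, b, hbU, ?_, hb⟩
  intro h
  obtain ⟨c, hc⟩ := Submodule.mem_span_singleton.mp h
  have hc0 : c ≠ 0 := by
    rintro rfl
    rw [zero_smul] at hc
    exact ha0 hc.symm
  apply hb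
  rw [Submodule.mem_span_singleton]
  refine ⟨c⁻¹, ?_⟩
  rw [← hc, smul_smul, inv_mul_cancel₀ hc0, one_smul]

/-- hyperbolic normal form of a non-degenerate symmetric Gram matrix on `F^4` with a totally singular plane -/
theorem exists_hyperbolic (h2 : (2 : F) ≠ 0) (G : Matrix (Fin 4) (Fin 4) F) (hs : Gᵀ = G)
    (hnd : ∀ v : Fin 4 → F, G *ᵥ v = 0 → v = 0)
    (U : Submodule F (Fin 4 → F)) (hU : ∀ w ∈ U, bb G w w = 0) (hdim : Module.finrank F U = 2) :
    ∃ C : GL (Fin 4) F, (C : Matrix (Fin 4) (Fin 4) F)ᵀ * G * (C : Matrix (Fin 4) (Fin 4) F) = NN4 := by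
  obtain ⟨a, haU, b, hbU, hab, hba⟩ := exists_pair U hdim
  have haa : bb G a a = 0 := hU a haU
  have hbb : bb G b b = 0 := hU b hbU
  have hab0 : bb G a b = 0 := by
    have h := hU (a + b) (U.add_mem haU hbU)
    rw [bb_add_left, bb_add_right, bb_add_right, haa, hbb, bb_symm G hs b a] at h
    have h3 : (2 : F) * bb G a b = 0 := by linear_combination h
    rcases mul_eq_zero.mp h3 with h | h
    · exact absurd h h2
    · exact h
  have hba0 : bb G b a = 0 := by rw [bb_symm G hs, hab0]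
  -- independence of G a, G b
  have hGab : G *ᵥ a ∉ Submodule.span F {G *ᵥ b} := by
    intro h
    obtain ⟨c, hc⟩ := Submodule.mem_span_singleton.mp h
    apply hab
    rw [Submodule.mem_span_singleton]
    refine ⟨c, ?_⟩
    have : G *ᵥ (a - c • b) = 0 := by rw [Matrix.mulVec_sub, Matrix.mulVec_smul, hc, sub_self]
    have := hnd _ this
    rw [sub_eq_zero] at this
    exact this.symm
  have hGba : G *ᵥ b ∉ Submodule.span F {G *ᵥ a} := by
    intro h
    obtain ⟨c, hc⟩ := Submodule.mem_span_singleton.mp h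
    apply hba
    rw [Submodule.mem_span_singleton]
    refine ⟨c, ?_⟩
    have : G *ᵥ (b - c • a) = 0 := by rw [Matrix.mulVec_sub, Matrix.mulVec_smul, hc, sub_self]
    have := hnd _ this
    rw [sub_eq_zero] at this
    exact this.symm
  have hdot : ∀ x z : Fin 4 → F, (G *ᵥ x) ⬝ᵥ z = bb G x z := by
    intro x z
    rw [bb_symm G hs x z]
    unfold bb
    exact dotProduct_comm _ _
  obtain ⟨a₁, ha1, ha2⟩ := exists_dot (G *ᵥ a) (G *ᵥ b) hGab
  obtain ⟨b₁, hb1, hb2⟩ := exists_dot (G *ᵥ b) (G *ᵥ a) hGba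
  rw [hdot] at ha1 ha2 hb1 hb2
  -- ha1 : bb a a₁ = 1, ha2 : bb b a₁ = 0, hb1 : bb b b₁ = 1, hb2 : bb a b₁ = 0
  obtain ⟨a', ha'⟩ : ∃ a' : Fin 4 → F, a' = a₁ + (-(bb G a₁ a₁) / 2) • a := ⟨_, rfl⟩
  have e1 : bb G a a' = 1 := by rw [ha', bb_add_right, bb_smul_right, haa, ha1]; ring
  have e2 : bb G b a' = 0 := by rw [ha', bb_add_right, bb_smul_right, hba0, ha2]; ring
  have e3 : bb G a' a' = 0 := by
    rw [ha', bb_add_left, bb_add_right, bb_add_right, bb_smul_left, bb_smul_left, bb_smul_right, bb_smul_right,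
      haa, ha1, bb_symm G hs a₁ a, ha1]
    field_simp
    ring
  obtain ⟨b', hb'⟩ : ∃ b' : Fin 4 → F, b' = b₁ + (-(bb G a' b₁)) • a + (-(bb G b₁ b₁) / 2) • b := ⟨_, rfl⟩
  have e4 : bb G a b' = 0 := by
    rw [hb', bb_add_right, bb_add_right, bb_smul_right, bb_smul_right, haa, hab0, hb2]; ring
  have e5 : bb G b b' = 1 := by
    rw [hb', bb_add_right, bb_add_right, bb_smul_right, bb_smul_right, hba0, hbb, hb1]; ring
  have e6 : bb G a' b' = 0 := by
    rw [hb', bb_add_right, bb_add_right, bb_smul_right, bb_smul_right, bb_symm G hs a' a, e1,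
      bb_symm G hs a' b, e2]; ring
  have e7 : bb G b' b' = 0 := by
    have h1 : bb G b₁ a = 0 := by rw [bb_symm G hs, hb2]
    have h3 : bb G b₁ b = 1 := by rw [bb_symm G hs, hb1]
    rw [hb']
    simp only [bb_add_left, bb_add_right, bb_smul_left, bb_smul_right, haa, hbb, hab0, hba0, hb1, hb2, h1, h3]
    field_simp
    ring
  -- the matrix of columns a, b, -b', a'
  obtain ⟨cols, hcols⟩ : ∃ cols : Fin 4 → Fin 4 → F, cols = ![a, b, -b', a'] := ⟨_, rfl⟩
  obtain ⟨C, hC⟩ : ∃ C : Matrix (Fin 4) (Fin 4) F, C = Matrix.of (fun i l => cols l i) := ⟨_, rfl⟩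
  have hCcol : ∀ l, C *ᵥ (Pi.single l 1) = cols l := by
    intro l
    rw [Matrix.mulVec_single_one]
    funext i
    rw [hC]
    rfl
  have hent : ∀ l l', (Cᵀ * G * C) l l' = bb G (cols l) (cols l') := by
    intro l l'
    have h1 : (Cᵀ * G * C) l l' = (Pi.single l 1 : Fin 4 → F) ⬝ᵥ (Cᵀ * G * C) *ᵥ (Pi.single l' 1) := by
      rw [Matrix.mulVec_single_one, single_one_dotProduct]
      rfl
    rw [h1, ← Matrix.mulVec_mulVec, ← Matrix.mulVec_mulVec, hCcol, Matrix.dotProduct_mulVec,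
      Matrix.vecMul_transpose, hCcol]
    rfl
  have hmain : Cᵀ * G * C = NN4 := by
    have s1 := bb_symm G hs
    ext l l'
    rw [hent, hcols]
    fin_cases l <;> fin_cases l' <;>
      simp [NN4, JJ, hi, lo, bb_neg_left, bb_neg_right, haa, hbb, hab0, hba0, e1, e2, e3, e4, e5, e6, e7,
        s1 a' a, s1 a' b, s1 b' a, s1 b' b, s1 b' a']
  have hinv : (NN4 * Cᵀ * G) * C = 1 := by
    rw [mul_assoc, mul_assoc, ← mul_assoc Cᵀ, hmain, NN4_sq]
  exact ⟨⟨C, NN4 * Cᵀ * G, mul_eq_one_comm.mp hinv, hinv⟩, hmain⟩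

end norm



section cone

/-- pure tensors on `Fin 2 × Fin 4` -/
def pur (u : Fin 2 → F) (w : Fin 4 → F) : Fin 2 × Fin 4 → F := fun a => u a.1 * w a.2

/-- pure tensors on `Fin 4 = Fin 2 × Fin 2` -/
def pur2 (v v' : Fin 2 → F) : Fin 4 → F := fun l => v (hi l) * v' (lo l)

theorem pur_apply (u : Fin 2 → F) (w : Fin 4 → F) (i : Fin 2) (l : Fin 4) : pur u w (i, l) = u i * w l := rfl

theorem pur2_apply (v v' : Fin 2 → F) (l : Fin 4) : pur2 v v' l = v (hi l) * v' (lo l) := rfl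

theorem kron_mulVec_pur (a : Matrix (Fin 2) (Fin 2) F) (b : Matrix (Fin 4) (Fin 4) F) (u : Fin 2 → F)
    (w : Fin 4 → F) : (a ⊗ₖ b) *ᵥ pur u w = pur (a *ᵥ u) (b *ᵥ w) := by
  funext ⟨i, l⟩
  rw [pur_apply]
  simp only [Matrix.mulVec, dotProduct, Fintype.sum_prod_type, Matrix.kroneckerMap_apply, pur_apply]
  rw [Finset.sum_mul_sum]
  apply Finset.sum_congr rfl
  intro i' _
  apply Finset.sum_congr rfl
  intro l' _
  ring

theorem pur_dot_pur (u u' : Fin 2 → F) (w w' : Fin 4 → F) : pur u w ⬝ᵥ pur u' w' = (u ⬝ᵥ u') * (w ⬝ᵥ w') := by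
  simp only [dotProduct, Fintype.sum_prod_type, pur_apply]
  rw [Finset.sum_mul_sum]
  apply Finset.sum_congr rfl
  intro i' _
  apply Finset.sum_congr rfl
  intro l' _
  ring

theorem bb_kron_pur (G₁ : Matrix (Fin 2) (Fin 2) F) (G₂ : Matrix (Fin 4) (Fin 4) F) (u u' : Fin 2 → F)
    (w w' : Fin 4 → F) : bb (G₁ ⊗ₖ G₂) (pur u w) (pur u' w') = bb G₁ u u' * bb G₂ w w' := by
  unfold bb
  rw [kron_mulVec_pur, pur_dot_pur]

theorem bb_smul_mat {κ : Type*} [Fintype κ] (c : F) (G : Matrix κ κ F) (x y : κ → F) :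
    bb (c • G) x y = c * bb G x y := by
  unfold bb
  rw [Matrix.smul_mulVec, dotProduct_smul, smul_eq_mul]

theorem bb_congr {κ : Type*} [Fintype κ] [DecidableEq κ] (G : Matrix κ κ F) (b : Matrix κ κ F) (x y : κ → F) :
    bb G (b *ᵥ x) (b *ᵥ y) = bb (bᵀ * G * b) x y := by
  unfold bb
  rw [← Matrix.mulVec_mulVec, ← Matrix.mulVec_mulVec, Matrix.dotProduct_mulVec x bᵀ, Matrix.vecMul_transpose]

/-- the cone of pure tensors `u ⊗ w` with `w` singular -/
def cone : Set (Fin 2 × Fin 4 → F) := {x | ∃ (u : Fin 2 → F) (w : Fin 4 → F), bb NN4 w w = 0 ∧ x = pur u w}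

/-- the stabiliser of the cone -/
def coneStab : Subgroup (GL (Fin 2 × Fin 4) F) where
  carrier := {M | ∀ x : Fin 2 × Fin 4 → F, (M : Matrix (Fin 2 × Fin 4) (Fin 2 × Fin 4) F) *ᵥ x ∈ cone ↔ x ∈ cone}
  mul_mem' := by
    intro M M' hM hM' x
    rw [Units.val_mul, ← Matrix.mulVec_mulVec]
    exact (hM _).trans (hM' x)
  one_mem' := by
    intro x
    rw [Units.val_one, Matrix.one_mulVec]
  inv_mem' := by
    intro M hM x
    have h := hM ((((M⁻¹ : GL (Fin 2 × Fin 4) F)) : Matrix (Fin 2 × Fin 4) (Fin 2 × Fin 4) F) *ᵥ x)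
    rw [Matrix.mulVec_mulVec, ← Units.val_mul, mul_inv_cancel, Units.val_one, Matrix.one_mulVec] at h
    exact h.symm

theorem mem_coneStab (M : GL (Fin 2 × Fin 4) F) :
    M ∈ (coneStab : Subgroup (GL (Fin 2 × Fin 4) F)) ↔
      ∀ x : Fin 2 × Fin 4 → F, (M : Matrix (Fin 2 × Fin 4) (Fin 2 × Fin 4) F) *ᵥ x ∈ cone ↔ x ∈ cone := Iff.rfl

theorem quad_pur2 (v v' : Fin 2 → F) : bb (NN4 : Matrix (Fin 4) (Fin 4) F) (pur2 v v') (pur2 v v') = 0 := by
  unfold bb
  rw [NN4_quad]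
  have e0 : pur2 v v' 0 = v 0 * v' 0 := rfl
  have e1 : pur2 v v' 1 = v 0 * v' 1 := rfl
  have e2 : pur2 v v' 2 = v 1 * v' 0 := rfl
  have e3 : pur2 v v' 3 = v 1 * v' 1 := rfl
  rw [e0, e1, e2, e3]
  ring

theorem exists_pur2_of_sing (h2 : (2 : F) ≠ 0) (w : Fin 4 → F) (hw : bb (NN4 : Matrix (Fin 4) (Fin 4) F) w w = 0) :
    ∃ v v' : Fin 2 → F, w = pur2 v v' := by
  unfold bb at hw
  rw [NN4_quad] at hw
  have hdet : w 0 * w 3 = w 1 * w 2 := by
    rcases mul_eq_zero.mp hw with h | h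
    · exact absurd h h2
    · exact sub_eq_zero.mp h
  by_cases h0 : w 0 = 0
  · by_cases h1 : w 1 = 0
    · refine ⟨![0, 1], ![w 2, w 3], ?_⟩
      funext l
      fin_cases l <;> simp [pur2, hi, lo, h0, h1]
    · have h2' : w 2 = 0 := by
        rw [h0, zero_mul] at hdet
        rcases mul_eq_zero.mp hdet.symm with h | h
        · exact absurd h h1
        · exact h
      refine ⟨![w 1, w 3], ![0, 1], ?_⟩
      funext l
      fin_cases l <;> simp [pur2, hi, lo, h0, h2']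
  · refine ⟨![w 0, w 2], ![1, w 1 / w 0], ?_⟩
    funext l
    fin_cases l
    · simp [pur2, hi, lo]
    · simp [pur2, hi, lo]; field_simp
    · simp [pur2, hi, lo]
    · simp [pur2, hi, lo]; field_simp; linear_combination hdet

end cone


section swap

/-- the swap of the first two tensor factors on `Fin 2 × (Fin 2 × Fin 2)` -/
def sw (a : Fin 2 × Fin 4) : Fin 2 × Fin 4 := (hi a.2, pk a.1 (lo a.2))

theorem sw_sw (a : Fin 2 × Fin 4) : sw (sw a) = a := by
  obtain ⟨i, l⟩ := a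
  unfold sw
  simp only [hi_pk, lo_pk, pk_hi_lo]

/-- `sw` as an equivalence -/
def swE : (Fin 2 × Fin 4) ≃ (Fin 2 × Fin 4) := ⟨sw, sw, sw_sw, sw_sw⟩

theorem swE_apply (a : Fin 2 × Fin 4) : swE a = sw a := rfl

/-- the permutation matrix of the swap -/
def SW : Matrix (Fin 2 × Fin 4) (Fin 2 × Fin 4) F := fun a b => if sw a = b then 1 else 0

theorem SW_mulVec (x : Fin 2 × Fin 4 → F) : (SW : Matrix (Fin 2 × Fin 4) (Fin 2 × Fin 4) F) *ᵥ x = x ∘ sw := by
  funext a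
  simp only [Matrix.mulVec, dotProduct, SW, Function.comp_apply]
  rw [Finset.sum_eq_single (sw a)]
  · rw [if_pos rfl, one_mul]
  · intro b _ hb
    rw [if_neg (Ne.symm hb), zero_mul]
  · intro h
    exact absurd (Finset.mem_univ _) h

theorem SW_sq : (SW : Matrix (Fin 2 × Fin 4) (Fin 2 × Fin 4) F) * SW = 1 := by
  apply Matrix.toLin'.injective
  apply LinearMap.ext
  intro x
  rw [Matrix.toLin'_mul, LinearMap.comp_apply, Matrix.toLin'_apply, Matrix.toLin'_apply, SW_mulVec, SW_mulVec,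
    Matrix.toLin'_one, LinearMap.id_apply]
  funext a
  simp only [Function.comp_apply, sw_sw]

/-- the swap as an invertible matrix -/
def swGL : GL (Fin 2 × Fin 4) F := ⟨SW, SW, SW_sq, SW_sq⟩

theorem swGL_val : ((swGL : GL (Fin 2 × Fin 4) F) : Matrix (Fin 2 × Fin 4) (Fin 2 × Fin 4) F) = SW := rfl

theorem SW_pur (u v v' : Fin 2 → F) :
    (SW : Matrix (Fin 2 × Fin 4) (Fin 2 × Fin 4) F) *ᵥ pur u (pur2 v v') = pur v (pur2 u v') := by
  rw [SW_mulVec]
  funext ⟨i, l⟩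
  simp only [Function.comp_apply, sw, pur_apply, pur2_apply, hi_pk, lo_pk]
  ring

theorem SW_cone (h2 : (2 : F) ≠ 0) (x : Fin 2 × Fin 4 → F) (hx : x ∈ cone) :
    (SW : Matrix (Fin 2 × Fin 4) (Fin 2 × Fin 4) F) *ᵥ x ∈ cone := by
  obtain ⟨u, w, hw, rfl⟩ := hx
  obtain ⟨v, v', rfl⟩ := exists_pur2_of_sing h2 w hw
  rw [SW_pur]
  exact ⟨v, pur2 u v', quad_pur2 u v', rfl⟩

theorem swGL_mem (h2 : (2 : F) ≠ 0) : (swGL : GL (Fin 2 × Fin 4) F) ∈ coneStab := by
  rw [mem_coneStab]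
  intro x
  rw [swGL_val]
  constructor
  · intro h
    have := SW_cone h2 _ h
    rwa [Matrix.mulVec_mulVec, SW_sq, Matrix.one_mulVec] at this
  · exact SW_cone h2 x

/-- the Gram matrix `G₁ ⊗ NN4` is invariant under the swap when `G₁` is a multiple of `JJ` -/
theorem gram_sw (g : F) (a b : Fin 2 × Fin 4) :
    ((g • (JJ : Matrix (Fin 2) (Fin 2) F)) ⊗ₖ (NN4 : Matrix (Fin 4) (Fin 4) F)) (sw a) (sw b) =
      ((g • (JJ : Matrix (Fin 2) (Fin 2) F)) ⊗ₖ (NN4 : Matrix (Fin 4) (Fin 4) F)) a b := by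
  obtain ⟨i, l⟩ := a
  obtain ⟨i', l'⟩ := b
  simp only [sw, Matrix.kroneckerMap_apply, Matrix.smul_apply, smul_eq_mul, NN4_apply, hi_pk, lo_pk]
  ring

theorem SW_preserve (g : F) :
    (SW : Matrix (Fin 2 × Fin 4) (Fin 2 × Fin 4) F)ᵀ * ((g • (JJ : Matrix (Fin 2) (Fin 2) F)) ⊗ₖ NN4) * SW =
      (g • (JJ : Matrix (Fin 2) (Fin 2) F)) ⊗ₖ NN4 := by
  have h := (preserves_iff (id : F → F) rfl rfl (fun _ _ => rfl) (fun _ _ => rfl)
    ((g • (JJ : Matrix (Fin 2) (Fin 2) F)) ⊗ₖ NN4) (SW : Matrix (Fin 2 × Fin 4) (Fin 2 × Fin 4) F)).mp ?_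
  · rwa [Matrix.map_id] at h
  · intro x y
    rw [SW_mulVec, SW_mulVec]
    unfold formOfGram
    rw [← Equiv.sum_comp swE]
    apply Finset.sum_congr rfl
    intro a _
    rw [← Equiv.sum_comp swE]
    apply Finset.sum_congr rfl
    intro b _
    simp only [swE_apply, Function.comp_apply, sw_sw, id]
    rw [gram_sw]

theorem SW_not_kron : (swGL : GL (Fin 2 × Fin 4) F) ∉ kroneckerSubgroup 2 4 F := by
  rintro ⟨a, b, hab⟩
  rw [swGL_val] at hab
  have e1 := congrFun (congrFun hab (0, 0)) (0, 0)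
  have e2 := congrFun (congrFun hab (1, 0)) (0, 2)
  have e3 := congrFun (congrFun hab (1, 0)) (0, 0)
  rw [Matrix.kroneckerMap_apply] at e1 e2 e3
  have s1 : (SW : Matrix (Fin 2 × Fin 4) (Fin 2 × Fin 4) F) (0, 0) (0, 0) = 1 := by
    unfold SW; rw [if_pos]; rfl
  have s2 : (SW : Matrix (Fin 2 × Fin 4) (Fin 2 × Fin 4) F) (1, 0) (0, 2) = 1 := by
    unfold SW; rw [if_pos]; rfl
  have s3 : (SW : Matrix (Fin 2 × Fin 4) (Fin 2 × Fin 4) F) (1, 0) (0, 0) = 0 := by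
    unfold SW; rw [if_neg]; decide
  rw [s1] at e1
  rw [s2] at e2
  rw [s3] at e3
  have hb : (b : Matrix (Fin 4) (Fin 4) F) 0 0 ≠ 0 := by
    intro h; rw [h, mul_zero] at e1; exact one_ne_zero e1
  have ha : (a : Matrix (Fin 2) (Fin 2) F) 1 0 ≠ 0 := by
    intro h; rw [h, zero_mul] at e2; exact one_ne_zero e2
  exact mul_ne_zero ha hb e3.symm

end swap

section kron

/-- a Kronecker element preserving `G₁ ⊗ NN4` preserves the cone -/
theorem kron_cone (G₁ : Matrix (Fin 2) (Fin 2) F) (hg : G₁ 0 1 ≠ 0) (a : Matrix (Fin 2) (Fin 2) F)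
    (b : Matrix (Fin 4) (Fin 4) F)
    (h : (a ⊗ₖ b)ᵀ * (G₁ ⊗ₖ (NN4 : Matrix (Fin 4) (Fin 4) F)) * (a ⊗ₖ b) = G₁ ⊗ₖ NN4)
    (x : Fin 2 × Fin 4 → F) (hx : x ∈ cone) : (a ⊗ₖ b) *ᵥ x ∈ cone := by
  obtain ⟨u, w, hw, rfl⟩ := hx
  rw [kron_mulVec_pur]
  refine ⟨a *ᵥ u, b *ᵥ w, ?_, rfl⟩
  rw [← Matrix.kroneckerMap_transpose, ← Matrix.mul_kronecker_mul, ← Matrix.mul_kronecker_mul] at h
  obtain ⟨s, hs⟩ : ∃ s : F, s = (aᵀ * G₁ * a) 0 1 := ⟨_, rfl⟩
  have hent : ∀ l l' : Fin 4, s * (bᵀ * (NN4 : Matrix (Fin 4) (Fin 4) F) * b) l l' = G₁ 0 1 * (NN4 : Matrix (Fin 4) (Fin 4) F) l l' := by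
    intro l l'
    have := congrFun (congrFun h (0, l)) (1, l')
    rw [Matrix.kroneckerMap_apply, Matrix.kroneckerMap_apply, ← hs] at this
    exact this
  have hs0 : s ≠ 0 := by
    intro h0
    have := hent 0 3
    rw [h0, zero_mul] at this
    have h03 : (NN4 : Matrix (Fin 4) (Fin 4) F) 0 3 = 1 := by simp [NN4, JJ, hi, lo]
    rw [h03, mul_one] at this
    exact hg this.symm
  have hmat : s • (bᵀ * (NN4 : Matrix (Fin 4) (Fin 4) F) * b) = G₁ 0 1 • (NN4 : Matrix (Fin 4) (Fin 4) F) := by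
    ext l l'
    rw [Matrix.smul_apply, Matrix.smul_apply, smul_eq_mul, smul_eq_mul, hent]
  have h1 : s * bb (bᵀ * (NN4 : Matrix (Fin 4) (Fin 4) F) * b) w w = 0 := by
    rw [← bb_smul_mat, hmat, bb_smul_mat, hw, mul_zero]
  rw [bb_congr]
  rcases mul_eq_zero.mp h1 with h | h
  · exact absurd h hs0
  · exact h

end kron

section transv

/-- the test vectors -/
def u2 : Fin 2 × Fin 4 → F := pur (Pi.single 0 1) (Pi.single 0 1 + Pi.single 3 1)
def x2 : Fin 2 × Fin 4 → F := pur (Pi.single 1 1) (Pi.single 0 1)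

theorem x2_mem : (x2 : Fin 2 × Fin 4 → F) ∈ cone := by
  refine ⟨_, _, ?_, rfl⟩
  unfold bb
  rw [NN4_quad]
  simp

theorem NN_mulVec {κ : Type} [Fintype κ] [DecidableEq κ] (G : Matrix κ κ F) (u x : κ → F) :
    (1 + NN G u) *ᵥ x = x + ((G *ᵥ u) ⬝ᵥ x) • u := by
  rw [Matrix.add_mulVec, Matrix.one_mulVec]
  congr 1
  funext a
  simp only [NN, Matrix.mulVec, Matrix.vecMulVec_apply, dotProduct, Pi.smul_apply, smul_eq_mul]
  rw [Finset.sum_mul]
  apply Finset.sum_congr rfl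
  intro b _
  ring

/-- the transvection with centre `u2` moves `x2` out of the cone -/
theorem tv_not_cone (G₁ : Matrix (Fin 2) (Fin 2) F) (hg : G₁ 0 1 ≠ 0) (hsk : G₁ 1 0 = - G₁ 0 1) :
    (1 + NN (G₁ ⊗ₖ (NN4 : Matrix (Fin 4) (Fin 4) F)) u2) *ᵥ (x2 : Fin 2 × Fin 4 → F) ∉ cone := by
  rw [NN_mulVec]
  obtain ⟨c, hc⟩ : ∃ c : F, c = ((G₁ ⊗ₖ (NN4 : Matrix (Fin 4) (Fin 4) F)) *ᵥ u2) ⬝ᵥ x2 := ⟨_, rfl⟩
  have hc0 : c ≠ 0 := by
    have h1 : c = bb (G₁ ⊗ₖ (NN4 : Matrix (Fin 4) (Fin 4) F)) x2 u2 := by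
      rw [hc]; unfold bb; exact dotProduct_comm _ _
    rw [h1]
    unfold x2 u2
    rw [bb_kron_pur]
    have e1 : bb G₁ (Pi.single 1 1) (Pi.single 0 1) = G₁ 1 0 := by
      unfold bb
      rw [Matrix.mulVec_single_one, single_one_dotProduct]
      rfl
    have e2 : bb (NN4 : Matrix (Fin 4) (Fin 4) F) (Pi.single 0 1) (Pi.single 0 1 + Pi.single 3 1) = 1 := by
      rw [bb_add_right]
      unfold bb
      rw [Matrix.mulVec_single_one, Matrix.mulVec_single_one, single_one_dotProduct, single_one_dotProduct]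
      simp [NN4, JJ, hi, lo]
    rw [e1, e2, mul_one, hsk]
    exact neg_ne_zero.mpr hg
  rw [← hc]
  rintro ⟨u'', w'', -, heq⟩
  have q1 := congrFun heq (1, 0)
  have q2 := congrFun heq (1, 3)
  have q3 := congrFun heq (0, 3)
  simp only [x2, u2, Pi.add_apply, Pi.smul_apply, pur_apply, smul_eq_mul] at q1 q2 q3
  simp at q1 q2 q3
  have hu1 : u'' 1 ≠ 0 := by
    intro h; rw [h, zero_mul] at q1; exact one_ne_zero q1
  have hw3 : w'' 3 = 0 := by
    rcases q2 with h | h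
    · exact absurd h hu1
    · exact h
  rw [hw3, mul_zero] at q3
  exact hc0 q3

end transv


section main

theorem two_ne_zero_of_odd_card [Fintype F] (hodd : Odd (Fintype.card F)) : (2 : F) ≠ 0 := by
  intro h
  have hchar : ringChar F = 2 := by
    have := (ringChar.spec F 2).mp (by exact_mod_cast h)
    exact ((Nat.dvd_prime Nat.prime_two).mp this).resolve_left (CharP.ringChar_ne_one)
  have : ¬ Odd (Fintype.card F) := by
    rw [Nat.not_odd_iff_even, Nat.even_iff]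
    exact FiniteField.even_card_of_char_two hchar
  exact this hodd

/-- **E-TENS-PLUS**: `Sp_2(q) ⊗ O_4^+(q)` is not maximal in `Sp_8(q)`, `q` odd -/
theorem tensor_plus_not_maximal [Fintype F] (hodd : Odd (Fintype.card F))
    (e : (Fin 4 ⊕ Fin 4) ≃ Fin 2 × Fin 4) (P : GL (Fin 4 ⊕ Fin 4) F)
    (f₁ : (Fin 2 → F) → (Fin 2 → F) → F) (f₂ : (Fin 4 → F) → (Fin 4 → F) → F)
    (hf₁ : IsSymplecticForm f₁) (hf₂ : IsSymmetricForm f₂)
    (hplus : IsPlusTypeOn (fun v : Fin 4 → F => f₂ v v) ⊤)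
    (hT : IsTensorFormStructure id (Cfsg.sympForm 4 F) f₁ f₂ e P) :
    ∃ K : Subgroup (GL (Fin 4 ⊕ Fin 4) F),
      tensorProductSubgroup 2 4 e P ⊓ Cfsg.spGL 4 F < K ∧ K < Cfsg.spGL 4 F := by
  classical
  obtain ⟨c, hc, hT⟩ := hT
  obtain ⟨G₁, hG₁⟩ : ∃ G₁ : Matrix (Fin 2) (Fin 2) F, G₁ = gramMatrix f₁ := ⟨_, rfl⟩
  obtain ⟨G₂, hG₂⟩ : ∃ G₂ : Matrix (Fin 4) (Fin 4) F, G₂ = gramMatrix f₂ := ⟨_, rfl⟩
  rw [← hG₁, ← hG₂] at hT
  have h2 : (2 : F) ≠ 0 := two_ne_zero_of_odd_card hodd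
  -- facts on G₁
  have hG₁skew : ∀ i j, G₁ j i = - G₁ i j := by
    intro i j
    rw [hG₁]
    exact hf₁.skew _ _
  have hG₁diag : ∀ i, G₁ i i = 0 := by
    intro i
    rw [hG₁]
    exact hf₁.alternating _
  have hg : G₁ 0 1 ≠ 0 := by
    intro h0
    have hz : G₁ = 0 := by
      ext i j
      fin_cases i <;> fin_cases j
      · exact hG₁diag 0
      · exact h0
      · show G₁ 1 0 = 0
        rw [hG₁skew 0 1, h0, neg_zero]
      · exact hG₁diag 1
    have hv : (Pi.single (0 : Fin 2) 1 : Fin 2 → F) ≠ 0 := by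
      intro h
      have := congrFun h 0
      simp at this
    obtain ⟨x, hx⟩ := (hf₁.nondegenerate _ hv).1
    apply hx
    rw [bilin_eq_formOfGram hf₁.bilinear, ← hG₁, hz]
    unfold formOfGram
    simp
  have hG₁J : G₁ = (G₁ 0 1) • (JJ : Matrix (Fin 2) (Fin 2) F) := by
    ext i j
    fin_cases i <;> fin_cases j
    · show G₁ 0 0 = _
      rw [hG₁diag]; simp [JJ]
    · show G₁ 0 1 = _
      simp [JJ]
    · show G₁ 1 0 = _
      rw [hG₁skew 0 1]; simp [JJ]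
    · show G₁ 1 1 = _
      rw [hG₁diag]; simp [JJ]
  -- facts on G₂
  have hf2eq : ∀ x y : Fin 4 → F, f₂ x y = bb G₂ x y := by
    intro x y
    rw [bilin_eq_formOfGram hf₂.bilinear, ← hG₂, formOfGram_eq]
    rfl
  have hs : G₂ᵀ = G₂ := by
    ext i j
    rw [Matrix.transpose_apply, hG₂]
    exact hf₂.symm _ _
  have hnd : ∀ v : Fin 4 → F, G₂ *ᵥ v = 0 → v = 0 := by
    intro v hv
    by_contra hv0
    obtain ⟨x, hx⟩ := (hf₂.nondegenerate v hv0).1
    apply hx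
    rw [hf2eq]
    unfold bb
    rw [hv, dotProduct_zero]
  obtain ⟨U, -, hUts, hUdim⟩ := hplus
  have hdim : Module.finrank F U = 2 := by
    rw [finrank_top, Module.finrank_fintype_fun_eq_card, Fintype.card_fin] at hUdim
    omega
  have hU : ∀ w ∈ U, bb G₂ w w = 0 := by
    intro w hw
    rw [← hf2eq]
    exact hUts w hw
  obtain ⟨C₂, hC₂⟩ := exists_hyperbolic h2 G₂ hs hnd U hU hdim
  obtain ⟨C, hCdef⟩ : ∃ C : GL (Fin 2 × Fin 4) F, C = kronGL 1 C₂ := ⟨_, rfl⟩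
  obtain ⟨P', hP'⟩ : ∃ P' : GL (Fin 4 ⊕ Fin 4) F, P' = P * glReindex e.symm C := ⟨_, rfl⟩
  have htps : tensorProductSubgroup 2 4 e P = (kroneckerSubgroup 2 4 F).map (psi e P') := by
    rw [← tps_eq, hP', tps_change _ _ _ _ _ (hCdef ▸ kronGL_mem 1 C₂)]
  obtain ⟨G, hG⟩ : ∃ G : Matrix (Fin 2 × Fin 4) (Fin 2 × Fin 4) F,
      G = G₁ ⊗ₖ (NN4 : Matrix (Fin 4) (Fin 4) F) := ⟨_, rfl⟩
  have hT' : ∀ x y, sympForm 4 F (TT e P' x) (TT e P' y) = c * formOfGram id G x y := by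
    intro x y
    rw [hP', TT_change, TT_change]
    have h1 := hT ((C : Matrix _ _ F) *ᵥ x) ((C : Matrix _ _ F) *ᵥ y)
    have hmat : (C : Matrix (Fin 2 × Fin 4) (Fin 2 × Fin 4) F)ᵀ * (G₁ ⊗ₖ G₂) *
        (C : Matrix (Fin 2 × Fin 4) (Fin 2 × Fin 4) F).map id = G := by
      rw [hCdef, kronGL_val, Matrix.map_id, Units.val_one, ← Matrix.kroneckerMap_transpose,
        Matrix.transpose_one, ← Matrix.mul_kronecker_mul, ← Matrix.mul_kronecker_mul, one_mul, mul_one, hC₂, hG]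
    have h3 : sympForm 4 F (TT e P ((C : Matrix _ _ F) *ᵥ x)) (TT e P ((C : Matrix _ _ F) *ᵥ y))
        = c * formOfGram id (G₁ ⊗ₖ G₂) ((C : Matrix _ _ F) *ᵥ x) ((C : Matrix _ _ F) *ᵥ y) := h1
    rw [h3, formOfGram_mulVec id rfl (fun _ _ => rfl) (fun _ _ => rfl), hmat]
  have hGapp : ∀ a b : Fin 2 × Fin 4, G a b = G₁ a.1 b.1 * (NN4 : Matrix (Fin 4) (Fin 4) F) a.2 b.2 := by
    intro a b
    rw [hG]
    rfl
  have hGskew : Gᵀ = -G := by
    ext a b
    have hN := congrFun (congrFun (NN4_symm (F := F)) a.2) b.2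
    rw [Matrix.transpose_apply] at hN
    rw [Matrix.transpose_apply, Matrix.neg_apply, hGapp, hGapp, hG₁skew a.1 b.1, hN]
    ring
  -- membership in the symplectic group
  have hSp : ∀ M : GL (Fin 2 × Fin 4) F, psi e P' M ∈ spGL 4 F ↔
      (M : Matrix _ _ F)ᵀ * G * (M : Matrix _ _ F) = G := by
    intro M
    have h1 := psi_mem_preserving_iff e P' (f := sympForm 4 F) (φ := formOfGram id G) hc hT' M
    have h3 := preserves_iff (id : F → F) rfl rfl (fun _ _ => rfl) (fun _ _ => rfl) G (M : Matrix _ _ F)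
    rw [Matrix.map_id] at h3
    exact h1.trans h3
  have hinj := psi_injective (F := F) e P'
  -- the swap
  have hM₁sp : psi e P' (swGL : GL (Fin 2 × Fin 4) F) ∈ spGL 4 F := by
    rw [hSp, swGL_val, hG, hG₁J]
    exact SW_preserve (G₁ 0 1)
  -- the transvection
  obtain ⟨M₂, hM₂⟩ : ∃ M₂ : GL (Fin 2 × Fin 4) F, M₂ = tvG G u2 (skew_self G hGskew h2 u2) := ⟨_, rfl⟩
  have hM₂sp : psi e P' M₂ ∈ spGL 4 F := by
    rw [hSp, hM₂, tvG_val]
    exact NN_preserve G hGskew u2 (skew_self G hGskew h2 u2)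
  have hM₂K : M₂ ∉ (coneStab : Subgroup (GL (Fin 2 × Fin 4) F)) := by
    intro hmem
    have h1 := ((mem_coneStab M₂).mp hmem x2).mpr x2_mem
    rw [hM₂, tvG_val, hG] at h1
    exact tv_not_cone G₁ hg (hG₁skew 0 1) h1
  -- Kronecker elements of the symplectic group stabilise the cone
  have hkron : ∀ (a : GL (Fin 2) F) (b : GL (Fin 4) F), psi e P' (kronGL a b) ∈ spGL 4 F →
      ∀ x : Fin 2 × Fin 4 → F, x ∈ cone →
        ((kronGL a b : GL (Fin 2 × Fin 4) F) : Matrix (Fin 2 × Fin 4) (Fin 2 × Fin 4) F) *ᵥ x ∈ cone := by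
    intro a b hab x hx
    have h1 := (hSp _).mp hab
    rw [kronGL_val, hG] at h1
    rw [kronGL_val]
    exact kron_cone G₁ hg _ _ h1 x hx
  refine ⟨(coneStab : Subgroup (GL (Fin 2 × Fin 4) F)).map (psi e P') ⊓ spGL 4 F, ?_, ?_⟩
  · rw [SetLike.lt_iff_le_and_exists]
    constructor
    · intro g hg'
      obtain ⟨hg1, hg2⟩ := Subgroup.mem_inf.mp hg'
      rw [htps] at hg1
      obtain ⟨M, hM, rfl⟩ := Subgroup.mem_map.mp hg1
      obtain ⟨a, b, rfl⟩ := eq_kronGL_of_mem hM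
      refine Subgroup.mem_inf.mpr ⟨Subgroup.mem_map.mpr ⟨_, ?_, rfl⟩, hg2⟩
      rw [mem_coneStab]
      intro x
      constructor
      · intro hx
        have hinv : psi e P' (kronGL a⁻¹ b⁻¹) ∈ spGL 4 F := by
          have h5 : kronGL a⁻¹ b⁻¹ = (kronGL a b)⁻¹ := by
            apply Units.ext
            rw [kronGL_val, kronGL_inv_val]
          rw [h5, map_inv]
          exact Subgroup.inv_mem _ hg2
        have h6 := hkron a⁻¹ b⁻¹ hinv _ hx
        rw [Matrix.mulVec_mulVec, kronGL_val, kronGL_val, ← Matrix.mul_kronecker_mul, ← Units.val_mul,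
          ← Units.val_mul, inv_mul_cancel, inv_mul_cancel, Units.val_one, Units.val_one,
          Matrix.one_kronecker_one, Matrix.one_mulVec] at h6
        exact h6
      · exact hkron a b hg2 x
    · refine ⟨psi e P' swGL, Subgroup.mem_inf.mpr ⟨Subgroup.mem_map.mpr ⟨swGL, swGL_mem h2, rfl⟩, hM₁sp⟩, ?_⟩
      intro hmem
      have h1 := (Subgroup.mem_inf.mp hmem).1
      rw [htps] at h1
      obtain ⟨M, hM, hMeq⟩ := Subgroup.mem_map.mp h1
      rw [hinj hMeq] at hM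
      exact SW_not_kron hM
  · rw [SetLike.lt_iff_le_and_exists]
    refine ⟨inf_le_right, psi e P' M₂, hM₂sp, ?_⟩
    intro hmem
    have h1 := (Subgroup.mem_inf.mp hmem).1
    obtain ⟨M, hM, hMeq⟩ := Subgroup.mem_map.mp h1
    rw [hinj hMeq] at hM
    exact hM₂K hM

end main

end Cfsg.Agent.Lib.Helper6.SpCorTensPlus
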