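import Mathlib
import Cfsg.Agent.Lib.Helper28.SpSubfDefs
import Cfsg.Agent.Lib.Helper28.S5639FOALG

/-!
# S5650 farm-out (architect helper28): FO-AB `rank_cases`

An impure vector `w` either has all its coordinates in a `K`-plane `Kω₁ + Kω₂` (rank two), or has
three `K`-independent coordinates, and then two orthogonal rational basis vectors `v₁, v₂` have
`K`-independent products with `w`.
-/

set_option autoImplicit false

namespace Cfsg.Agent.Lib.Helper6.S5650FOAB

open Matrix Cfsg.Agent.Lib.Helper6 Cfsg.Agent.Lib.Helper13 Cfsg.Agent.Lib.Helper28.SpSubf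
open Cfsg.Agent.Lib.Helper28.S5639

variable {F : Type*} [Field F] {m : ℕ}

local notation "ff" => Cfsg.sympForm m F

/-- the partner of an index -/
def partner : Fin m ⊕ Fin m → Fin m ⊕ Fin m
  | Sum.inl l => Sum.inr l
  | Sum.inr l => Sum.inl l

/-- the sign attached to an index -/
def sgn (F : Type*) [Field F] : Fin m ⊕ Fin m → F
  | Sum.inl _ => 1
  | Sum.inr _ => -1

theorem partner_partner (t : Fin m ⊕ Fin m) : partner (partner t) = t := by
  cases t <;> rfl

theorem partner_injective : Function.Injective (partner (m := m)) := by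
  intro a b h
  rw [← partner_partner a, h, partner_partner]

theorem sgn_ne_zero (t : Fin m ⊕ Fin m) : sgn (m := m) F t ≠ 0 := by
  cases t <;> simp [sgn]

/-- the form of the basis vector at the partner of `t` with `w` is `± w t` -/
theorem form_partner (K : Subfield F) (t : Fin m ⊕ Fin m) (w : Fin m ⊕ Fin m → F) :
    ff (rv K (Pi.single (partner t) 1)) w = sgn F t * w t := by
  classical
  rw [rv_single, sympForm_eq_sum]
  cases t with
  | inl l =>
    simp only [partner, sgn, one_mul]
    rw [Finset.sum_eq_single l]
    · simp
    · intro b _ hb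
      simp [hb]
    · intro h
      exact absurd (Finset.mem_univ l) h
  | inr l =>
    simp only [partner, sgn]
    rw [Finset.sum_eq_single l]
    · simp
    · intro b _ hb
      simp [hb]
    · intro h
      exact absurd (Finset.mem_univ l) h

/-- two basis vectors at the partners of non-partner indices are orthogonal -/
theorem form_partner_partner (K : Type*) [Field K] (s t : Fin m ⊕ Fin m) (hst : s ≠ t)
    (hp : s ≠ partner t) :
    Cfsg.sympForm m K (Pi.single (partner s) 1) (Pi.single (partner t) 1) = 0 := by
  classical
  rw [sympForm_eq_sum]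
  apply Finset.sum_eq_zero
  intro l _
  cases s with
  | inl a =>
    cases t with
    | inl b =>
      simp [partner]
    | inr b =>
      have hab : a ≠ b := by
        intro h
        apply hp
        rw [h]
        rfl
      simp only [partner]
      by_cases hl : l = a
      · subst hl
        simp [hab]
      · simp [Pi.single_apply, hl]
  | inr a =>
    cases t with
    | inl b =>
      have hab : a ≠ b := by
        intro h
        apply hp
        rw [h]
        rfl
      simp only [partner]
      by_cases hl : l = a
      · subst hl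
        simp [hab]
      · simp [Pi.single_apply, hl]
    | inr b =>
      simp [partner]

/-- **FO-AB** -/
theorem rank_cases [Finite F] (K : Subfield F) (r : ℕ) (hcard : Nat.card F = Nat.card K ^ r)
    (w : Fin m ⊕ Fin m → F) (hw : ∀ (l : F) (s : Fin m ⊕ Fin m → K), w ≠ l • rv K s) :
    (∃ (a b : Fin m ⊕ Fin m → K) (ω₁ ω₂ : F),
      (∀ k₁ k₂ : K, k₁ • a + k₂ • b = 0 → k₁ = 0 ∧ k₂ = 0) ∧
      (∀ k₁ k₂ : K, (k₁ : F) * ω₁ + (k₂ : F) * ω₂ = 0 → k₁ = 0 ∧ k₂ = 0) ∧
      w = ω₁ • rv K a + ω₂ • rv K b) ∨
    (3 ≤ r ∧ ∃ v₁ v₂ : Fin m ⊕ Fin m → K, Cfsg.sympForm m K v₁ v₂ = 0 ∧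
      ∀ k₁ k₂ : K, (k₁ : F) * ff (rv K v₁) w + (k₂ : F) * ff (rv K v₂) w = 0 →
        k₁ = 0 ∧ k₂ = 0) := by
  classical
  -- a nonzero coordinate
  have hw0 : w ≠ 0 := by
    intro h
    apply hw 0 0
    rw [h, zero_smul]
  obtain ⟨i, hi⟩ : ∃ i, w i ≠ 0 := by
    by_contra hcon
    push Not at hcon
    exact hw0 (funext hcon)
  -- a coordinate outside `K w_i`
  obtain ⟨j, hj⟩ : ∃ j, ∀ k : K, w j ≠ (k : F) * w i := by
    by_contra hcon
    push Not at hcon
    choose s hs using hcon
    apply hw (w i) s
    funext t
    rw [Pi.smul_apply, rv_apply, smul_eq_mul, hs t, mul_comm]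
  -- independence of two elements
  have ind2 : ∀ x y : F, x ≠ 0 → (∀ k : K, y ≠ (k : F) * x) →
      ∀ k₁ k₂ : K, (k₁ : F) * x + (k₂ : F) * y = 0 → k₁ = 0 ∧ k₂ = 0 := by
    intro x y hx hy k₁ k₂ h
    have hk₂ : k₂ = 0 := by
      by_contra hk₂
      have hk₂F : (k₂ : F) ≠ 0 := fun h0 => hk₂ (by exact_mod_cast h0)
      apply hy (-(k₁ / k₂))
      push_cast
      field_simp
      linear_combination h
    refine ⟨?_, hk₂⟩
    rw [hk₂] at h
    simp only [ZeroMemClass.coe_zero, zero_mul, add_zero] at h
    rcases mul_eq_zero.mp h with h1 | h1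
    · exact_mod_cast h1
    · exact absurd h1 hx
  have hij := ind2 (w i) (w j) hi hj
  by_cases hall : ∀ t, ∃ a b : K, w t = (a : F) * w i + (b : F) * w j
  · left
    choose a b hab using hall
    refine ⟨a, b, w i, w j, ?_, hij, ?_⟩
    · -- `a i = 1`, `b i = 0`, `a j = 0`, `b j = 1`
      have hi1 := hij (a i - 1) (b i) (by
        push_cast
        linear_combination -(hab i))
      have hj1 := hij (a j) (b j - 1) (by
        push_cast
        linear_combination -(hab j))
      have hai : a i = 1 := sub_eq_zero.mp hi1.1
      have hbi : b i = 0 := hi1.2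
      have haj : a j = 0 := hj1.1
      have hbj : b j = 1 := sub_eq_zero.mp hj1.2
      intro k₁ k₂ h
      have h1 := congrFun h i
      have h2 := congrFun h j
      simp only [Pi.add_apply, Pi.smul_apply, smul_eq_mul, Pi.zero_apply] at h1 h2
      rw [hai, hbi] at h1
      rw [haj, hbj] at h2
      constructor
      · simpa using h1
      · simpa using h2
    · funext t
      simp only [Pi.add_apply, Pi.smul_apply, rv_apply, smul_eq_mul]
      rw [hab t]
      ring
  · right
    push Not at hall
    obtain ⟨k, hk⟩ := hall
    -- `3 ≤ r`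
    have h3 : 3 ≤ r := by
      rw [← finrank_eq_of_card K r hcard]
      have hli : LinearIndependent K ![w k, w i, w j] := by
        refine (linearIndependent_finCons (K := K)).mpr ⟨?_, ?_⟩
        · rw [LinearIndependent.pair_iff]
          intro s t hst
          exact hij s t (by simpa [Subfield.smul_def] using hst)
        · intro hmem
          have : w k ∈ Submodule.span K ({w i, w j} : Set F) := by
            rw [Matrix.range_cons, Matrix.range_cons, Matrix.range_empty, Set.union_empty,
              Set.singleton_union] at hmem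
            exact hmem
          obtain ⟨a, b, habk⟩ := Submodule.mem_span_pair.mp this
          apply hk a b
          rw [← habk]
          simp [Subfield.smul_def]
      have hfd : FiniteDimensional K F := Module.Finite.of_finite
      have := hli.fintype_card_le_finrank
      simpa using this
    refine ⟨h3, ?_⟩
    -- `w k` is not in `K w_i`
    have hki : ∀ c : K, w k ≠ (c : F) * w i := by
      intro c h
      apply hk c 0
      rw [h]
      simp
    have hik := ind2 (w i) (w k) hi hki
    -- indices
    have hne_ij : i ≠ j := by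
      intro h
      apply hj 1
      rw [h]
      simp
    have hne_ik : i ≠ k := by
      intro h
      apply hki 1
      rw [h]
      simp
    have hne_jk : j ≠ k := by
      intro h
      apply hk 0 1
      rw [h]
      simp
    -- the final step for a pair of non-partner indices with independent coordinates
    have fin : ∀ s t : Fin m ⊕ Fin m, s ≠ t → s ≠ partner t →
        (∀ k₁ k₂ : K, (k₁ : F) * w s + (k₂ : F) * w t = 0 → k₁ = 0 ∧ k₂ = 0) →
        ∃ v₁ v₂ : Fin m ⊕ Fin m → K, Cfsg.sympForm m K v₁ v₂ = 0 ∧
          ∀ k₁ k₂ : K, (k₁ : F) * ff (rv K v₁) w + (k₂ : F) * ff (rv K v₂) w = 0 →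
            k₁ = 0 ∧ k₂ = 0 := by
      intro s t hst hp hind
      refine ⟨Pi.single (partner s) 1, Pi.single (partner t) 1,
        form_partner_partner K s t hst hp, ?_⟩
      intro k₁ k₂ h
      rw [form_partner, form_partner] at h
      -- absorb the signs
      have hsK : ∀ u : Fin m ⊕ Fin m, ∃ e : K, (e : F) = sgn F u ∧ e ≠ 0 := by
        intro u
        cases u with
        | inl l => exact ⟨1, by simp [sgn], one_ne_zero⟩
        | inr l => exact ⟨-1, by simp [sgn], by simp⟩
      obtain ⟨e₁, he₁, he₁0⟩ := hsK s
      obtain ⟨e₂, he₂, he₂0⟩ := hsK t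
      have h' := hind (k₁ * e₁) (k₂ * e₂) (by
        push_cast
        rw [he₁, he₂]
        linear_combination h)
      constructor
      · rcases mul_eq_zero.mp h'.1 with h1 | h1
        · exact h1
        · exact absurd h1 he₁0
      · rcases mul_eq_zero.mp h'.2 with h1 | h1
        · exact h1
        · exact absurd h1 he₂0
    by_cases hpij : i = partner j
    · -- then `i` and `k` are not partners
      have hpik : i ≠ partner k := by
        intro h
        rw [hpij] at h
        exact hne_jk (partner_injective h)
      exact fin i k hne_ik hpik hik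
    · exact fin i j hne_ij hpij hij

end Cfsg.Agent.Lib.Helper6.S5650FOAB
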