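import Mathlib
import Cfsg.Agent.Lib.Helper28.SpSubfDefs
import Cfsg.Agent.Lib.Helper28.S5639FOALG

/-!
# S5650 farm-out (architect helper28): FO-EPS `rank2_of_deltas`

From the two Sylow conjugators `δ₁, δ₂` to a transvection of `K`-rank two in `M`.
-/

set_option autoImplicit false
set_option linter.unusedVariables false

namespace Cfsg.Agent.Lib.Helper6.S5650FOEPS

open Matrix Cfsg.Agent.Lib.Helper6 Cfsg.Agent.Lib.Helper13 Cfsg.Agent.Lib.Helper28.SpSubf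
open Cfsg.Agent.Lib.Helper28.S5639

variable {F : Type*} [Field F] {m : ℕ}

local notation "ff" => Cfsg.sympForm m F

/-- a root of a nonzero quadratic over `K` lies in `K` when the degree of `F / K` is a prime `≥ 3` -/
theorem mem_of_quadratic [Finite F] (K : Subfield F) (r : ℕ) (hr : r.Prime) (hr3 : 3 ≤ r)
    (hcard : Nat.card F = Nat.card K ^ r) (ρ : F) (a b : K)
    (h : (a : F) * ρ ^ 2 - (b : F) * ρ + 1 = 0) : ρ ∈ K := by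
  obtain ⟨f, hf⟩ : ∃ f : Polynomial K,
      f = Polynomial.C a * Polynomial.X ^ 2 - Polynomial.C b * Polynomial.X + 1 := ⟨_, rfl⟩
  have hf0 : f ≠ 0 := by
    intro h0
    have h1 : f.coeff 0 = 1 := by
      rw [hf]
      simp
    rw [h0] at h1
    simp at h1
  have hdeg : f.natDegree < r := by
    have h2 : f.natDegree ≤ 2 := by
      rw [hf]
      refine (Polynomial.natDegree_add_le _ _).trans (max_le ?_ (by simp))
      refine (Polynomial.natDegree_sub_le _ _).trans (max_le ?_ ?_)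
      · exact (Polynomial.natDegree_C_mul_le _ _).trans (by simp)
      · exact (Polynomial.natDegree_C_mul_le _ _).trans (by simp)
    omega
  have hroot : Polynomial.aeval ρ f = 0 := by
    rw [hf]
    simp only [map_add, map_sub, map_mul, map_pow, Polynomial.aeval_C, Polynomial.aeval_X,
      map_one]
    exact h
  exact mem_of_root K r hr hcard ρ f hf0 hdeg hroot

/-- **FO-EPS** -/
theorem rank2_of_deltas [Finite F] (K : Subfield F) (r : ℕ) (hr : r.Prime) (hr3 : 3 ≤ r)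
    (hcard : Nat.card F = Nat.card K ^ r) (M : Subgroup (GL (Fin m ⊕ Fin m) F))
    (hHM : H1 K m ≤ M) (hMS : M ≤ Cfsg.spGL m F) (w : Fin m ⊕ Fin m → F)
    (v₁ v₂ : Fin m ⊕ Fin m → K) (h12 : Cfsg.sympForm m K v₁ v₂ = 0)
    (hind : ∀ k₁ k₂ : K, (k₁ : F) * ff (rv K v₁) w + (k₂ : F) * ff (rv K v₂) w = 0 →
      k₁ = 0 ∧ k₂ = 0)
    (δ₁ δ₂ : GL (Fin m ⊕ Fin m) F) (hδ₁ : δ₁ ∈ M) (hδ₂ : δ₂ ∈ M) (c₁ c₂ : F) (hc₁ : c₁ ≠ 0)
    (hc₂ : c₂ ≠ 0)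
    (h₁ : (δ₁ : Matrix (Fin m ⊕ Fin m) (Fin m ⊕ Fin m) F) *ᵥ rv K v₁ = c₁ • w)
    (h₂ : (δ₂ : Matrix (Fin m ⊕ Fin m) (Fin m ⊕ Fin m) F) *ᵥ rv K v₂ = c₂ • w)
    (hfix₁ : ∀ x, ff x (rv K v₁) = 0 → ff x w = 0 →
      (δ₁ : Matrix (Fin m ⊕ Fin m) (Fin m ⊕ Fin m) F) *ᵥ x = x)
    (hfix₂ : ∀ x, ff x (rv K v₂) = 0 → ff x w = 0 →
      (δ₂ : Matrix (Fin m ⊕ Fin m) (Fin m ⊕ Fin m) F) *ᵥ x = x) : Rank2 K M := by
  classical
  obtain ⟨β₁, hβ₁⟩ : ∃ β₁ : F, β₁ = ff (rv K v₁) w := ⟨_, rfl⟩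
  obtain ⟨β₂, hβ₂⟩ : ∃ β₂ : F, β₂ = ff (rv K v₂) w := ⟨_, rfl⟩
  have hind' : ∀ k₁ k₂ : K, (k₁ : F) * β₁ + (k₂ : F) * β₂ = 0 → k₁ = 0 ∧ k₂ = 0 := by
    intro k₁ k₂ h
    rw [hβ₁, hβ₂] at h
    exact hind k₁ k₂ h
  have hβ₁0 : β₁ ≠ 0 := by
    intro h
    have h1 := hind' 1 0 (by rw [h]; simp)
    exact one_ne_zero h1.1
  obtain ⟨ρ, hρ⟩ : ∃ ρ : F, ρ = β₂ / β₁ := ⟨_, rfl⟩
  have hρβ : ρ * β₁ = β₂ := by rw [hρ]; field_simp
  have hρK : ρ ∉ K := by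
    intro hρK
    have h1 := hind' ⟨ρ, hρK⟩ (-1) (by
      push_cast
      rw [hρβ]
      ring)
    have h2 : (-1 : K) = 0 := h1.2
    have h3 : (1 : K) = 0 := by
      have := congrArg (fun x : K => -x) h2
      simp at this
    exact one_ne_zero h3
  have hρ0 : ρ ≠ 0 := fun h => hρK (by rw [h]; exact K.zero_mem)
  obtain ⟨θ, hθ⟩ : ∃ θ : F, θ = c₁ * c₂⁻¹ := ⟨_, rfl⟩
  obtain ⟨ε, hε⟩ : ∃ ε : GL (Fin m ⊕ Fin m) F, ε = δ₂⁻¹ * δ₁ := ⟨_, rfl⟩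
  have hεM : ε ∈ M := by rw [hε]; exact M.mul_mem (M.inv_mem hδ₂) hδ₁
  have hεS : ε ∈ Cfsg.spGL m F := hMS hεM
  have hεmul : ∀ x, (ε : Matrix (Fin m ⊕ Fin m) (Fin m ⊕ Fin m) F) *ᵥ x =
      ((δ₂⁻¹ : GL (Fin m ⊕ Fin m) F) : Matrix (Fin m ⊕ Fin m) (Fin m ⊕ Fin m) F) *ᵥ
        ((δ₁ : Matrix (Fin m ⊕ Fin m) (Fin m ⊕ Fin m) F) *ᵥ x) := by
    intro x
    rw [hε, Units.val_mul, mulVec_mulVec]
  -- forms among the rational vectors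
  have f12 : ff (rv K v₁) (rv K v₂) = 0 := by rw [sympForm_rv, h12]; rfl
  have f21 : ff (rv K v₂) (rv K v₁) = 0 := by rw [sympForm_swap, f12, neg_zero]
  -- `δ₂⁻¹ w`
  have hδ₂w : ((δ₂⁻¹ : GL (Fin m ⊕ Fin m) F) : Matrix (Fin m ⊕ Fin m) (Fin m ⊕ Fin m) F) *ᵥ w =
      c₂⁻¹ • rv K v₂ := by
    have h3 := inv_mulVec_mulVec δ₂ (rv K v₂)
    rw [h₂, mulVec_smul] at h3
    rw [← h3, smul_smul, inv_mul_cancel₀ hc₂, one_smul]
  have hε1 : (ε : Matrix (Fin m ⊕ Fin m) (Fin m ⊕ Fin m) F) *ᵥ rv K v₁ = θ • rv K v₂ := by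
    rw [hεmul, h₁, mulVec_smul, hδ₂w, smul_smul, hθ]
  -- the fixed vector
  obtain ⟨z₀, hz₀⟩ : ∃ z₀ : Fin m ⊕ Fin m → F, z₀ = β₂ • rv K v₁ - β₁ • rv K v₂ := ⟨_, rfl⟩
  have hz1 : ff z₀ (rv K v₁) = 0 := by
    rw [hz₀, sympForm_sub_left, sympForm_smul_left, sympForm_smul_left, sympForm_self, f21]
    ring
  have hz2 : ff z₀ (rv K v₂) = 0 := by
    rw [hz₀, sympForm_sub_left, sympForm_smul_left, sympForm_smul_left, sympForm_self, f12]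
    ring
  have hzw : ff z₀ w = 0 := by
    rw [hz₀, sympForm_sub_left, sympForm_smul_left, sympForm_smul_left, ← hβ₁, ← hβ₂]
    ring
  have hδ₁z := hfix₁ z₀ hz1 hzw
  have hδ₂z := hfix₂ z₀ hz2 hzw
  have hδ₂iz : ((δ₂⁻¹ : GL (Fin m ⊕ Fin m) F) : Matrix (Fin m ⊕ Fin m) (Fin m ⊕ Fin m) F) *ᵥ z₀ =
      z₀ := by
    have h3 := inv_mulVec_mulVec δ₂ z₀
    rw [hδ₂z] at h3
    exact h3
  have hεz : (ε : Matrix (Fin m ⊕ Fin m) (Fin m ⊕ Fin m) F) *ᵥ z₀ = z₀ := by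
    rw [hεmul, hδ₁z, hδ₂iz]
  -- `ε v₂`
  have hε2 : (ε : Matrix (Fin m ⊕ Fin m) (Fin m ⊕ Fin m) F) *ᵥ rv K v₂ =
      (-ρ) • rv K v₁ + (1 + θ * ρ) • rv K v₂ := by
    have h3 := hεz
    rw [hz₀, mulVec_sub, mulVec_smul, mulVec_smul, hε1] at h3
    funext i
    have h4 := congrFun h3 i
    simp only [Pi.sub_apply, Pi.smul_apply, smul_eq_mul, Pi.add_apply] at h4 ⊢
    rw [hρ]
    field_simp
    linear_combination (-1 : F) * h4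
  have hε12 : (ε : Matrix (Fin m ⊕ Fin m) (Fin m ⊕ Fin m) F) *ᵥ rv K (v₁ + v₂) =
      (-ρ) • rv K v₁ + (1 + θ + θ * ρ) • rv K v₂ := by
    rw [rv_add, mulVec_add, hε1, hε2]
    module
  -- the two transvections in `M`
  have hT : ∀ x : Fin m ⊕ Fin m → K,
      sympTransvGL ((ε : Matrix (Fin m ⊕ Fin m) (Fin m ⊕ Fin m) F) *ᵥ rv K x) 1 ∈ M := by
    intro x
    rw [← conj_sympTransvGL ε hεS]
    exact M.mul_mem (M.mul_mem hεM (hHM (rat_transv_mem_one K x))) (M.inv_mem hεM)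
  have hT2 := hT v₂
  have hT12 := hT (v₁ + v₂)
  rw [hε2] at hT2
  rw [hε12] at hT12
  -- independence of `v₁, v₂`
  have hab : ∀ k₁ k₂ : K, k₁ • v₁ + k₂ • v₂ = 0 → k₁ = 0 ∧ k₂ = 0 := by
    intro k₁ k₂ h
    apply hind' k₁ k₂
    have h3 := congrArg (fun u => ff (rv K u) w) h
    simp only [rv_add, rv_smul, rv_zero, sympForm_add_left, sympForm_smul_left,
      sympForm_zero_left] at h3
    rw [hβ₁, hβ₂]
    exact h3
  by_cases hA : ∀ k₁ k₂ : K, (k₁ : F) * (-ρ) + (k₂ : F) * (1 + θ * ρ) = 0 → k₁ = 0 ∧ k₂ = 0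
  · exact ⟨v₁, v₂, -ρ, 1 + θ * ρ, hab, hA, hT2⟩
  by_cases hB : ∀ k₁ k₂ : K, (k₁ : F) * (-ρ) + (k₂ : F) * (1 + θ + θ * ρ) = 0 → k₁ = 0 ∧ k₂ = 0
  · exact ⟨v₁, v₂, -ρ, 1 + θ + θ * ρ, hab, hB, hT12⟩
  exfalso
  push Not at hA hB
  obtain ⟨k₁, k₂, hk, hkne⟩ := hA
  obtain ⟨l₁, l₂, hl, hlne⟩ := hB
  have hk₂ : k₂ ≠ 0 := by
    intro h0
    rw [h0] at hk
    simp only [ZeroMemClass.coe_zero, zero_mul, add_zero, mul_neg, neg_eq_zero] at hk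
    rcases mul_eq_zero.mp hk with h | h
    · exact hkne (by exact_mod_cast h) h0
    · exact hρ0 h
  have hl₂ : l₂ ≠ 0 := by
    intro h0
    rw [h0] at hl
    simp only [ZeroMemClass.coe_zero, zero_mul, add_zero, mul_neg, neg_eq_zero] at hl
    rcases mul_eq_zero.mp hl with h | h
    · exact hlne (by exact_mod_cast h) h0
    · exact hρ0 h
  have hk₂F : (k₂ : F) ≠ 0 := fun h => hk₂ (by exact_mod_cast h)
  have hl₂F : (l₂ : F) ≠ 0 := fun h => hl₂ (by exact_mod_cast h)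
  -- `1 + θρ = κ ρ`, `1 + θ + θρ = κ' ρ`
  apply hρK
  apply mem_of_quadratic K r hr hr3 hcard ρ (l₁ / l₂ - k₁ / k₂) (k₁ / k₂)
  push_cast
  field_simp
  have e1 : θ * ρ = (k₁ : F) / k₂ * ρ - 1 := by
    field_simp
    linear_combination hk
  have e2 : θ = (l₁ : F) / l₂ * ρ - 1 - θ * ρ := by
    field_simp
    linear_combination hl
  rw [e1] at e2
  rw [e2] at e1
  field_simp at e1
  linear_combination e1
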