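import Mathlib
import Cfsg.Agent.Lib.Helper28.SpSubfDefs
import Cfsg.Agent.Lib.Helper29.S5650FOHYP

/-!
# S5650 farm-out (architect helper28): FO-IIIA `param_all`

One rational centre with parameter `a` gives all rational centres with parameter `a`.
-/

set_option autoImplicit false
set_option linter.unusedVariables false

namespace Cfsg.Agent.Lib.Helper6.S5650FOIIIA

open Matrix Cfsg.Agent.Lib.Helper6 Cfsg.Agent.Lib.Helper13 Cfsg.Agent.Lib.Helper28.SpSubf

variable {F : Type*} [Field F] {m : ℕ}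

local notation "ff" => Cfsg.sympForm m F

/-- **FO-IIIA** -/
theorem param_all (K : Subfield F) (M : Subgroup (GL (Fin m ⊕ Fin m) F))
    (hHM : H1 K m ≤ M) (hMS : M ≤ Cfsg.spGL m F) (a : F) (v₀ : Fin m ⊕ Fin m → K) (hv₀ : v₀ ≠ 0)
    (h : sympTransvGL (rv K v₀) a ∈ M) : Long K M a := by
  intro v
  by_cases hv : v = 0
  · rw [hv, rv_zero]
    have : sympTransvGL (0 : Fin m ⊕ Fin m → F) a = 1 := by
      apply gl_ext
      intro x
      rw [sympTransvGL_mulVec, smul_zero, add_zero, Units.val_one, one_mulVec]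
    rw [this]
    exact M.one_mem
  · refine Cfsg.Agent.Lib.Helper29.S5650FOHYP.points_all (altF_symp K m)
      (P := fun v => sympTransvGL (rv K v) a ∈ M) ?_ h hv₀ hv
    intro u c x hx
    show sympTransvGL (rv K (altT (Cfsg.sympForm m K) u c x)) a ∈ M
    rw [rv_altT, ← conj_sympTransvGL _ (sympTransvGL_mem _ _)]
    have ht : sympTransvGL (rv K u) (c : F) ∈ M := hHM (rat_transv_mem K u c)
    exact M.mul_mem (M.mul_mem ht hx) (M.inv_mem ht)

end Cfsg.Agent.Lib.Helper6.S5650FOIIIA
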