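import Mathlib
import Cfsg.Agent.Lib.Helper28.SpSubfDefs

/-!
# S5650 farm-out (architect helper28): FO-S `H1_lt`

The subfield group is a proper subgroup of `Sp_2m(F)`: the transvection `T(e_inl0, a)` with
`a ∉ K` is not of the form `l • B.map K.subtype`.
-/

set_option autoImplicit false

namespace Cfsg.Agent.Lib.Helper6.S5650FOS

open Matrix Cfsg.Agent.Lib.Helper6 Cfsg.Agent.Lib.Helper13 Cfsg.Agent.Lib.Helper28.SpSubf

variable {F : Type*} [Field F] {m : ℕ}

/-- FO-S -/
theorem H1_lt (hm : 1 ≤ m) (K : Subfield F) (a : F) (ha : a ∉ K) :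
    H1 K m < Cfsg.spGL m F := by
  classical
  refine lt_of_le_of_ne inf_le_right ?_
  intro heq
  obtain ⟨i0⟩ : Nonempty (Fin m) := ⟨⟨0, by omega⟩⟩
  obtain ⟨v, hv⟩ : ∃ v : Fin m ⊕ Fin m → F, v = Pi.single (Sum.inl i0) 1 := ⟨_, rfl⟩
  have hgS : sympTransvGL v a ∈ Cfsg.spGL m F := sympTransvGL_mem v a
  have hgH : sympTransvGL v a ∈ H1 K m := by rw [heq]; exact hgS
  obtain ⟨l, B, hl, hB⟩ := exists_eq_of_mem_subfield_one K _ hgH.1
  -- the columns `inl i0` and `inr i0`
  have hvv : Cfsg.sympForm m F v v = 0 := sympForm_self v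
  have hrv : Cfsg.sympForm m F (Pi.single (Sum.inr i0) 1) v = 1 := by
    rw [sympForm_eq_sum, hv]
    rw [Finset.sum_eq_single i0]
    · simp
    · intro b _ hb
      simp [hb]
    · intro h
      exact absurd (Finset.mem_univ i0) h
  have c0 := sympTransvGL_mulVec v a v
  rw [hvv, mul_zero, zero_smul, add_zero] at c0
  have c1 := sympTransvGL_mulVec v a (Pi.single (Sum.inr i0) 1)
  rw [hrv, mul_one] at c1
  rw [hB] at c0 c1
  -- entries
  have e00 := congrFun c0 (Sum.inl i0)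
  have e01 := congrFun c1 (Sum.inl i0)
  rw [hv, mulVec_single_one] at e00
  rw [mulVec_single_one] at e01
  simp only [Matrix.col_apply, Matrix.smul_apply, Matrix.map_apply, smul_eq_mul, hv,
    Pi.add_apply, Pi.smul_apply, Pi.single_apply, if_true, mul_one, reduceCtorEq, if_false,
    zero_add] at e00 e01
  -- `l * B 00 = 1`, `l * B 01 = a`
  have hB00 : (K.subtype (B (Sum.inl i0) (Sum.inl i0)) : F) ≠ 0 := by
    intro h
    rw [h, mul_zero] at e00
    exact zero_ne_one e00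
  have hl' : l = (K.subtype (B (Sum.inl i0) (Sum.inl i0)) : F)⁻¹ :=
    eq_inv_of_mul_eq_one_left e00
  apply ha
  rw [← e01, hl']
  exact K.mul_mem (K.inv_mem (B (Sum.inl i0) (Sum.inl i0)).2) (B (Sum.inl i0) (Sum.inr i0)).2

end Cfsg.Agent.Lib.Helper6.S5650FOS
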