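import Mathlib
import Cfsg.Agent.Lib.Helper28.USpDefs

/-!
# S5665 FO-STRICT: `exists_not_normalizer` (helper6, for helper28's skeleton)

A symplectic transvection does not normalise the quadratic field `K = F[θ]`.
-/

set_option autoImplicit false
set_option linter.unusedSectionVars false
set_option linter.unusedVariables false

namespace Cfsg.Agent.Lib.Helper6.S5665FOSTRICT

open Matrix Module QuadraticMap Cfsg.Agent.Lib.Helper6 Cfsg.Agent.Lib.Helper13
open Cfsg.Agent.Lib.Helper28.SpSubf Cfsg.Agent.Lib.Helper28.USp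

universe u
variable {F : Type u} [Field F] [Fintype F] {m : ℕ}
variable {θ : Matrix (Fin m ⊕ Fin m) (Fin m ⊕ Fin m) F} {d : F}

local notation "ff" => Cfsg.sympForm m F
local notation "ι" => (Fin m ⊕ Fin m)

theorem exists_not_normalizer (hU : UStrSp θ d) (hm : 7 ≤ m)
    (K : Subalgebra F (Matrix ι ι F))
    (hKθ : ∀ k : Matrix ι ι F, k ∈ K ↔ ∃ a b : F, k = a • (1 : Matrix ι ι F) + b • θ) :
    ∃ g : GL ι F, g ∈ Cfsg.spGL m F ∧ g ∉ Cfsg.Geo.subalgebraNormalizer K := by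
  classical
  obtain ⟨i0, i1, h01⟩ : ∃ i0 i1 : Fin m, i0 ≠ i1 :=
    ⟨⟨0, by omega⟩, ⟨1, by omega⟩, by intro h; simpa using congrArg Fin.val h⟩
  obtain ⟨v, hv⟩ : ∃ v : ι → F, v = Pi.single (Sum.inl i0) 1 := ⟨_, rfl⟩
  obtain ⟨x₁, hx₁⟩ : ∃ x₁ : ι → F, x₁ = Pi.single (Sum.inl i1) 1 := ⟨_, rfl⟩
  obtain ⟨f, hf⟩ : ∃ f : ι → F, f = Pi.single (Sum.inr i0) 1 := ⟨_, rfl⟩
  have hv0 : v (Sum.inl i0) = 1 := by rw [hv]; simp
  have hv1 : v (Sum.inl i1) = 0 := by
    rw [hv, Pi.single_apply, if_neg]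
    intro h
    exact h01 (Sum.inl_injective h).symm
  have hx11 : x₁ (Sum.inl i1) = 1 := by rw [hx₁]; simp
  have hvne : v ≠ 0 := by
    intro h0
    rw [h0] at hv0
    exact zero_ne_one hv0
  have hx₁v : ff x₁ v = 0 := by
    rw [sympForm_eq_sum, hx₁, hv]
    apply Finset.sum_eq_zero
    intro i _
    simp
  have hfv : ff f v = 1 := by
    rw [sympForm_eq_sum, hf, hv]
    rw [Finset.sum_eq_single i0]
    · simp
    · intro i _ hi
      simp [hi]
    · intro h
      exact absurd (Finset.mem_univ i0) h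
  refine ⟨sympTransvGL v 1, sympTransvGL_mem v 1, ?_⟩
  intro hmem
  have hθK : θ ∈ K := (hKθ θ).2 ⟨0, 1, by rw [zero_smul, one_smul, zero_add]⟩
  have h1 : ((sympTransvGL v 1 : GL ι F) : Matrix ι ι F) * θ *
      (((sympTransvGL v 1)⁻¹ : GL ι F) : Matrix ι ι F) ∈ K := (hmem θ).1 hθK
  obtain ⟨a, b, hab⟩ := (hKθ _).1 h1
  -- the action on `v^⊥`
  have key : ∀ x : ι → F, ff x v = 0 →
      θ *ᵥ x + ff (θ *ᵥ x) v • v = a • x + b • (θ *ᵥ x) := by
    intro x hx
    have h2 : (((sympTransvGL v 1 : GL ι F) : Matrix ι ι F) * θ *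
      (((sympTransvGL v 1)⁻¹ : GL ι F) : Matrix ι ι F)) *ᵥ x =
        (a • (1 : Matrix ι ι F) + b • θ) *ᵥ x := by rw [hab]
    have e1 : ((sympTransvGL v (-1) : GL ι F) : Matrix ι ι F) *ᵥ x = x := by
      rw [sympTransvGL_mulVec, hx, mul_zero, zero_smul, add_zero]
    rw [← mulVec_mulVec, ← mulVec_mulVec, sympTransvGL_inv, e1, sympTransvGL_mulVec, one_mul,
      add_mulVec, smul_mulVec, one_mulVec, smul_mulVec] at h2
    exact h2
  -- `x = v`: `b = 1`
  have hvv := key v (sympForm_self v)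
  have hb1 : b = 1 := by
    have h3 : (a - ff (θ *ᵥ v) v) • v + (b - 1) • (θ *ᵥ v) = 0 := by
      have e : (a - ff (θ *ᵥ v) v) • v + (b - 1) • (θ *ᵥ v) =
          (a • v + b • (θ *ᵥ v)) - (θ *ᵥ v + ff (θ *ᵥ v) v • v) := by module
      rw [e, ← hvv, sub_self]
    have := (hU.free hvne h3).2
    exact sub_eq_zero.mp this
  subst hb1
  -- `x = x₁`: `a = 0`
  have ha0 : a = 0 := by
    have h4 := key x₁ hx₁v
    rw [one_smul, add_comm (a • x₁)] at h4
    have h5 := add_left_cancel h4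
    have h6 := congrFun h5 (Sum.inl i1)
    simp only [Pi.smul_apply, smul_eq_mul, hv1, hx11, mul_zero, mul_one] at h6
    exact h6.symm
  subst ha0
  -- `θ v ⟂ v^⊥`
  have hperp : ∀ x : ι → F, ff x v = 0 → ff x (θ *ᵥ v) = 0 := by
    intro x hx
    have h4 := key x hx
    rw [one_smul, zero_smul, zero_add] at h4
    have h5 : ff (θ *ᵥ x) v • v = 0 := by
      have := add_left_cancel (a := θ *ᵥ x) (b := ff (θ *ᵥ x) v • v) (c := 0) (by rw [add_zero]; exact h4)
      exact this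
    have h6 := congrFun h5 (Sum.inl i0)
    simp only [Pi.smul_apply, smul_eq_mul, hv0, mul_one, Pi.zero_apply] at h6
    rw [hU.adj] at h6
    exact neg_eq_zero.mp h6
  -- hence `θ v ∈ F v`
  have hall : ∀ y : ι → F, ff y (θ *ᵥ v - ff f (θ *ᵥ v) • v) = 0 := by
    intro y
    have h7 : ff (y - ff y v • f) v = 0 := by
      rw [sympForm_sub_left, sympForm_smul_left, hfv, mul_one, sub_self]
    have h8 := hperp _ h7
    rw [sympForm_sub_left, sympForm_smul_left] at h8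
    rw [sympForm_sub_right, sympForm_smul_right]
    linear_combination h8
  have hz : θ *ᵥ v - ff f (θ *ᵥ v) • v = 0 := by
    by_contra hne
    obtain ⟨y, hy⟩ := Cfsg.Agent.Lib.Helper2.exists_sympForm_ne_zero hne
    exact hy (hall y)
  have h9 : (-(ff f (θ *ᵥ v))) • v + (1 : F) • (θ *ᵥ v) = 0 := by
    rw [← hz]
    module
  exact one_ne_zero (hU.free hvne h9).2

end Cfsg.Agent.Lib.Helper6.S5665FOSTRICT
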