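import Mathlib
import Cfsg.Agent.Lib.Helper29.S2222Defs

/-!
# S2222 farm-out pieces FO-3a / FO-3b (helper6, for architect helper29)

`#α - 1 ≤ 2 * #Edge S ≤ #α` for a 2-group `S` of permutations (with the covering hypothesis for
the lower bound).
-/

set_option autoImplicit false

namespace Cfsg.Agent.Lib.Helper6.S2222FO

open Equiv Cfsg.Agent.Lib.Helper29.S2222

universe u

variable {α : Type u} [DecidableEq α]

/-- a swap moving `z` is `swap z (τ z)`. -/
theorem swap_eq_of_moves {τ : Perm α} (h : τ.IsSwap) {z : α} (hz : τ z ≠ z) :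
    τ = swap z (τ z) := by
  obtain ⟨x, y, hxy, rfl⟩ := h
  by_cases hzx : z = x
  · subst hzx
    rw [swap_apply_left]
  · by_cases hzy : z = y
    · subst hzy
      rw [swap_apply_right, swap_comm]
    · exact absurd (swap_apply_of_ne_of_ne hzx hzy) hz

/-- two edges of a 2-group moving a common point are equal. -/
theorem edge_eq_of_common [Finite α] {S : Subgroup (Perm α)} (hS : IsPGroup 2 S)
    (τ σ : Edge S) {z : α} (h1 : τ.1 z ≠ z) (h2 : σ.1 z ≠ z) : τ = σ := by
  have e1 := swap_eq_of_moves τ.2.2 h1
  have e2 := swap_eq_of_moves σ.2.2 h2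
  have m1 : swap z (τ.1 z) ∈ S := e1 ▸ τ.2.1
  have m2 : swap z (σ.1 z) ∈ S := e2 ▸ σ.2.1
  have := partner_unique hS h1 h2 m1 m2
  apply Subtype.ext
  rw [e1, e2, this]

/-- first endpoint of an edge. -/
noncomputable def ptA {S : Subgroup (Perm α)} (τ : Edge S) : α := τ.2.2.choose

/-- second endpoint of an edge. -/
noncomputable def ptB {S : Subgroup (Perm α)} (τ : Edge S) : α := τ.2.2.choose_spec.choose

theorem ptA_ne_ptB {S : Subgroup (Perm α)} (τ : Edge S) : ptA τ ≠ ptB τ :=
  τ.2.2.choose_spec.choose_spec.1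

theorem edge_eq_swap {S : Subgroup (Perm α)} (τ : Edge S) : τ.1 = swap (ptA τ) (ptB τ) :=
  τ.2.2.choose_spec.choose_spec.2

/-- the endpoint selected by a boolean. -/
noncomputable def pt {S : Subgroup (Perm α)} (p : Edge S × Bool) : α :=
  if p.2 then ptA p.1 else ptB p.1

theorem moves_pt {S : Subgroup (Perm α)} (p : Edge S × Bool) : p.1.1 (pt p) ≠ pt p := by
  obtain ⟨τ, b⟩ := p
  have hne := ptA_ne_ptB τ
  cases b
  · simp only [pt, Bool.false_eq_true, if_false]
    rw [edge_eq_swap τ, swap_apply_right]
    exact hne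
  · simp only [pt, if_true]
    rw [edge_eq_swap τ, swap_apply_left]
    exact hne.symm

theorem pt_injective [Finite α] {S : Subgroup (Perm α)} (hS : IsPGroup 2 S) :
    Function.Injective (pt : Edge S × Bool → α) := by
  rintro ⟨τ, b⟩ ⟨σ, c⟩ h
  have h1 := moves_pt (τ, b)
  have h2 := moves_pt (σ, c)
  rw [h] at h1
  have hτσ : τ = σ := edge_eq_of_common hS τ σ h1 h2
  subst hτσ
  have hne := ptA_ne_ptB τ
  cases b <;> cases c
  · rfl
  · simp only [pt, Bool.false_eq_true, if_false, if_true] at h
    exact absurd h.symm hne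
  · simp only [pt, Bool.false_eq_true, if_false, if_true] at h
    exact absurd h hne
  · rfl

variable [Finite α]

/-- FO-3a. -/
theorem two_mul_card_edge_le {S : Subgroup (Perm α)} (hS : IsPGroup 2 S) :
    2 * Nat.card (Edge S) ≤ Nat.card α := by
  have h := Nat.card_le_card_of_injective _ (pt_injective hS)
  rw [Nat.card_prod, Nat.card_eq_fintype_card (α := Bool), Fintype.card_bool] at h
  omega

/-- FO-3b. -/
theorem card_le_two_mul_card_edge_add_one (S : Subgroup (Perm α)) (hS : IsPGroup 2 S)
    (hcov : ∀ x y : α, (∀ z, z ≠ x → swap x z ∉ S) → (∀ z, z ≠ y → swap y z ∉ S) → x = y) :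
    Nat.card α ≤ 2 * Nat.card (Edge S) + 1 := by
  classical
  rcases isEmpty_or_nonempty α with he | hne
  · rw [Nat.card_of_isEmpty]
    exact Nat.zero_le _
  · obtain ⟨a0⟩ := hne
    let g : Option (Edge S × Bool) → α := fun o =>
      match o with
      | some p => pt p
      | none => if h : ∃ u : α, ∀ z, z ≠ u → swap u z ∉ S then h.choose else a0
    have hg : Function.Surjective g := by
      intro z
      by_cases hz : ∀ w, w ≠ z → swap z w ∉ S
      · refine ⟨none, ?_⟩
        have hex : ∃ u : α, ∀ z, z ≠ u → swap u z ∉ S := ⟨z, hz⟩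
        show (if h : ∃ u : α, ∀ z, z ≠ u → swap u z ∉ S then h.choose else a0) = z
        rw [dif_pos hex]
        exact hcov _ _ hex.choose_spec hz
      · push Not at hz
        obtain ⟨w, hwz, hmem⟩ := hz
        let τ : Edge S := ⟨swap z w, hmem, ⟨z, w, hwz.symm, rfl⟩⟩
        have hτ := edge_eq_swap τ
        have hmv : τ.1 z ≠ z := by
          show swap z w z ≠ z
          rw [swap_apply_left]; exact hwz
        have hAB : z = ptA τ ∨ z = ptB τ := by
          by_contra hcon
          push Not at hcon
          apply hmv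
          rw [hτ]
          exact swap_apply_of_ne_of_ne hcon.1 hcon.2
        rcases hAB with h | h
        · exact ⟨some (τ, true), by show pt (τ, true) = z; simp only [pt, if_true]; exact h.symm⟩
        · exact ⟨some (τ, false), by
            show pt (τ, false) = z
            simp only [pt, Bool.false_eq_true, if_false]; exact h.symm⟩
    have h := Nat.card_le_card_of_surjective g hg
    rw [Finite.card_option, Nat.card_prod, Nat.card_eq_fintype_card (α := Bool),
      Fintype.card_bool] at h
    omega

end Cfsg.Agent.Lib.Helper6.S2222FO
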