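import Mathlib
import Cfsg.Agent.Lib.Helper29.S2222Defs

/-!
# S2222 farm-out piece FO-5 (helper6, for architect helper29)

An odd-order permutation commuting with all edges of `S` (where at most one point is uncovered) is
trivial.
-/

set_option autoImplicit false

namespace Cfsg.Agent.Lib.Helper6.S2222FO

open Equiv Cfsg.Agent.Lib.Helper29.S2222

universe u

variable {α : Type u} [DecidableEq α]

/-- if `g` commutes with `swap x y` (`x ≠ y`) then `g (g x) = x`. -/
theorem sq_fix_of_commute_swap (g : Perm α) {x y : α} (hxy : x ≠ y)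
    (hg : g * swap x y = swap x y * g) : g (g x) = x := by
  have h1 : g y = swap x y (g x) := by
    have := congrArg (fun p : Perm α => p x) hg
    simpa using this
  have h2 : g x = swap x y (g y) := by
    have := congrArg (fun p : Perm α => p y) hg
    simpa using this
  by_cases hx : g x = x
  · rw [hx, hx]
  · by_cases hy : g x = y
    · rw [hy] at h1
      rw [swap_apply_right] at h1
      rw [hy, h1]
    · exfalso
      rw [swap_apply_of_ne_of_ne hx hy] at h1
      exact hxy (g.injective h1.symm)

/-- an odd-order permutation with `g (g x) = x` fixes `x`. -/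
theorem fix_of_sq_fix (g : Perm α) (hodd : Odd (orderOf g)) {x : α} (hx : g (g x) = x) :
    g x = x := by
  obtain ⟨j, hj⟩ := hodd
  have h2 : ∀ n : ℕ, (g ^ (2 * n)) x = x := by
    intro n
    induction n with
    | zero => simp
    | succ n ih =>
      have : g ^ (2 * (n + 1)) = g ^ (2 * n) * (g * g) := by
        rw [mul_add, pow_add, mul_one, pow_two]
      rw [this, Perm.mul_apply, Perm.mul_apply, hx, ih]
  have h3 : g ^ (2 * j + 1) = 1 := by
    rw [← hj]; exact pow_orderOf_eq_one g
  have h4 : (g ^ (2 * j + 1)) x = x := by rw [h3]; rfl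
  rw [pow_succ, Perm.mul_apply] at h4
  have h5 := h2 j
  -- g^(2j) (g x) = x and g^(2j) x = x
  exact (g ^ (2 * j)).injective (h4.trans h5.symm)

/-- FO-5. -/
theorem eq_one_of_commute_edges (S : Subgroup (Perm α))
    (hcov : ∀ x y : α, (∀ z, z ≠ x → swap x z ∉ S) → (∀ z, z ≠ y → swap y z ∉ S) → x = y)
    (g : Perm α) (hodd : Odd (orderOf g)) (hg : ∀ τ : Edge S, g * τ.1 = τ.1 * g) : g = 1 := by
  -- covered points are fixed
  have hfix : ∀ x w : α, w ≠ x → swap x w ∈ S → g x = x := by
    intro x w hwx hmem
    have hc := hg ⟨swap x w, hmem, ⟨x, w, hwx.symm, rfl⟩⟩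
    exact fix_of_sq_fix g hodd (sq_fix_of_commute_swap g hwx.symm hc)
  ext x
  show g x = x
  by_cases hx : ∀ w, w ≠ x → swap x w ∉ S
  · -- x uncovered; then g x is uncovered as well
    by_cases hy : ∀ w, w ≠ g x → swap (g x) w ∉ S
    · exact hcov _ _ hy hx
    · push Not at hy
      obtain ⟨w, hw, hmem⟩ := hy
      have := hfix (g x) w hw hmem
      exact g.injective this
  · push Not at hx
    obtain ⟨w, hw, hmem⟩ := hx
    exact hfix x w hw hmem

end Cfsg.Agent.Lib.Helper6.S2222FO
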