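import Cfsg.Agent.Lib.Helper5.Fi23M.Defs
import Cfsg.Agent.Lib.Helper21.Fi23MB
import Cfsg.Agent.Lib.Helper4.TC.Schur

/-!
# S2054-[F2] (helper6 for helper5): a finite stem extension of `Fi₂₃` with a `3`-group kernel is an isomorphism

Lifts of the ten generators (hypothesis [A]) satisfy the Coxeter relators; the lift of `(a b c d e f h) ^ 9` is
central with trivial square ([B]), hence trivial in a `3`-group; the lift of the spider relator is trivial
(hypothesis [F1]).  So the extension splits, and a split stem extension is an isomorphism.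
-/

set_option autoImplicit false
set_option linter.unusedVariables false

namespace Cfsg.Agent.Lib.Helper5.Fi23M

open Cfsg Cfsg.H5.TCk

namespace Helper6F

/-- the index of a generator in helper4's order -/
def idx : Cfsg.Spor.Fi23.Gen → ℕ
  | .a => 0 | .b => 1 | .c => 2 | .d => 3 | .e => 4 | .f => 5 | .g => 6 | .j => 7 | .h => 8 | .i => 9

theorem gen_idx (x : Cfsg.Spor.Fi23.Gen) : gen (idx x) = PresentedGroup.of x := by
  cases x <;> rfl

theorem mem_nodes (x : Cfsg.Spor.Fi23.Gen) : x ∈ Cfsg.Spor.coxNodes Cfsg.Spor.Fi23.edges := by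
  cases x <;> decide

/-- the relators of `Fi₂₃` -/
abbrev RF : Set (FreeGroup Cfsg.Spor.Fi23.Gen) :=
  Cfsg.Spor.coxRelators Cfsg.Spor.Fi23.edges ∪ {r | r ∈ Cfsg.Spor.Fi23.extra}

theorem cox_rel (x y : Cfsg.Spor.Fi23.Gen) :
    ((PresentedGroup.of x : Cfsg.Spor.Fi23) * PresentedGroup.of y) ^
      Cfsg.Spor.coxLabel Cfsg.Spor.Fi23.edges x y = 1 := by
  have hm : (FreeGroup.of x * FreeGroup.of y) ^ Cfsg.Spor.coxLabel Cfsg.Spor.Fi23.edges x y ∈ RF :=
    Or.inl ⟨x, mem_nodes x, y, mem_nodes y, rfl⟩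
  have h := PresentedGroup.one_of_mem hm
  rw [map_pow, map_mul] at h
  exact h

theorem of_sq (x : Cfsg.Spor.Fi23.Gen) : (PresentedGroup.of x : Cfsg.Spor.Fi23) ^ 2 = 1 := by
  have h := cox_rel x x
  have h1 : Cfsg.Spor.coxLabel Cfsg.Spor.Fi23.edges x x = 1 := by simp [Cfsg.Spor.coxLabel]
  rw [h1, pow_one] at h
  rw [pow_two]
  exact h

theorem gen_sq (i : ℕ) : gen i ^ 2 = 1 := of_sq _

theorem ev_rep {Γ : Type*} [Group Γ] (γ : ℕ → Γ) (w : List ℕ) (n : ℕ) :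
    ev γ (rep w n) = ev γ w ^ n := by
  induction n with
  | zero => rw [pow_zero]; rfl
  | succ n ih =>
    show ev γ (w ++ rep w n) = _
    rw [ev_append, ih, pow_succ']

/-- involutions whose product has order dividing two commute -/
theorem comm_of_sq {Γ : Type*} [Group Γ] {u v : Γ} (hu : u * u = 1) (hv : v * v = 1)
    (h : (u * v) ^ 2 = 1) : u * v = v * u := by
  rw [pow_two] at h
  have hu' : u⁻¹ = u := inv_eq_of_mul_eq_one_left hu
  have hv' : v⁻¹ = v := inv_eq_of_mul_eq_one_left hv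
  have h3 : (u * v)⁻¹ = u * v := inv_eq_of_mul_eq_one_left h
  calc u * v = (u * v)⁻¹ := h3.symm
    _ = v⁻¹ * u⁻¹ := mul_inv_rev _ _
    _ = v * u := by rw [hu', hv']

/-- an element of a `3`-group whose square is trivial is trivial -/
theorem eq_one_of_sq {Γ : Type*} [Group Γ] (K : Subgroup Γ) (hK : IsPGroup 3 K) (z : Γ) (hz : z ∈ K)
    (h2 : z ^ 2 = 1) : z = 1 := by
  obtain ⟨k, hk⟩ := hK ⟨z, hz⟩
  have hk' : z ^ 3 ^ k = 1 := by
    have := congrArg Subtype.val hk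
    simpa using this
  have h1 : orderOf z ∣ Nat.gcd (3 ^ k) 2 :=
    Nat.dvd_gcd (orderOf_dvd_of_pow_eq_one hk') (orderOf_dvd_of_pow_eq_one h2)
  have h3 : Nat.gcd (3 ^ k) 2 = 1 := Nat.Coprime.pow_left k (by norm_num)
  rw [h3, Nat.dvd_one] at h1
  exact orderOf_eq_one_iff.mp h1

end Helper6F

open Helper6F in
/-- [F2] -/
theorem card_ker_eq_one_three_of
    (hA : ∀ {Γ : Type} [Group Γ] [Finite Γ] (σ : Γ →* Cfsg.Spor.Fi23), Function.Surjective σ →
      σ.ker ≤ Subgroup.center Γ → IsPGroup 3 σ.ker → ∀ g : ℕ → Cfsg.Spor.Fi23, (∀ i, g i ^ 2 = 1) →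
      ∃ γh : ℕ → Γ, (∀ i, σ (γh i) = g i) ∧ (∀ i, γh i ^ 2 = 1) ∧
        ∀ i j m : ℕ, (g i * g j) ^ m = 1 → (γh i * γh j) ^ m = 1)
    (hF1 : ∀ {Γ : Type} [Group Γ] [Finite Γ] (σ : Γ →* Cfsg.Spor.Fi23), σ.ker ≤ Subgroup.center Γ →
      IsPGroup 3 σ.ker → ∀ γh : ℕ → Γ, (∀ i, σ (γh i) = gen i) → (∀ i, γh i ^ 2 = 1) →
      (∀ i j m : ℕ, (gen i * gen j) ^ m = 1 → (γh i * γh j) ^ m = 1) → ev γh rho1 = 1)
    {Γ : Type} [Group Γ] [Finite Γ] (σ : Γ →* Cfsg.Spor.Fi23)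
    (hσ : Cfsg.IsStemExtension σ) (hk : IsPGroup 3 σ.ker) : Nat.card σ.ker = 1 := by
  obtain ⟨hs, hc, hcomm⟩ := hσ
  obtain ⟨γh, hσγ, h2, hcox⟩ := hA σ hs hc hk gen gen_sq
  have hrho1 : ev γh rho1 = 1 := hF1 σ hc hk γh hσγ h2 hcox
  have hinv : ∀ i, γh i * γh i = 1 := fun i => by rw [← pow_two]; exact h2 i
  -- the relators of the diagram for the lifts
  have hcoxG : ∀ x y : Cfsg.Spor.Fi23.Gen,
      (γh (idx x) * γh (idx y)) ^ Cfsg.Spor.coxLabel Cfsg.Spor.Fi23.edges x y = 1 := by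
    intro x y
    apply hcox
    rw [gen_idx, gen_idx]
    exact cox_rel x y
  have hcm : ∀ x y : Cfsg.Spor.Fi23.Gen, Cfsg.Spor.coxLabel Cfsg.Spor.Fi23.edges x y = 2 →
      γh (idx x) * γh (idx y) = γh (idx y) * γh (idx x) := by
    intro x y hl
    have h := hcoxG x y
    rw [hl] at h
    exact comm_of_sq (hinv _) (hinv _) h
  -- the lift of `(a b c d e f h) ^ 9`
  have hw9ker : (γh 0 * γh 1 * γh 2 * γh 3 * γh 4 * γh 5 * γh 8) ^ 9 ∈ σ.ker := by
    rw [MonoidHom.mem_ker, map_pow]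
    simp only [map_mul, hσγ]
    have hm : (Cfsg.Spor.Fi23.a * Cfsg.Spor.Fi23.b * Cfsg.Spor.Fi23.c * Cfsg.Spor.Fi23.d *
        Cfsg.Spor.Fi23.e * Cfsg.Spor.Fi23.f * Cfsg.Spor.Fi23.h) ^ 9 ∈ RF :=
      Or.inr (by simp [Cfsg.Spor.Fi23.extra])
    have h := PresentedGroup.one_of_mem hm
    rw [map_pow] at h
    simp only [map_mul] at h
    exact h
  have hw9c : ∀ x : Γ, x * (γh 0 * γh 1 * γh 2 * γh 3 * γh 4 * γh 5 * γh 8) ^ 9 =
      (γh 0 * γh 1 * γh 2 * γh 3 * γh 4 * γh 5 * γh 8) ^ 9 * x := by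
    intro x
    exact (Subgroup.mem_center_iff.mp (hc hw9ker) x)
  have hw9sq : ((γh 0 * γh 1 * γh 2 * γh 3 * γh 4 * γh 5 * γh 8) ^ 9) ^ 2 = 1 :=
    e7_central_pow_sq (γh 0) (γh 1) (γh 2) (γh 3) (γh 4) (γh 5) (γh 8)
      (hinv 0) (hinv 1) (hinv 2) (hinv 3) (hinv 4) (hinv 5) (hinv 8)
      (hcm .a .c (by decide)) (hcm .a .d (by decide)) (hcm .a .e (by decide)) (hcm .a .f (by decide))
      (hcm .a .h (by decide))
      (hcm .b .d (by decide)) (hcm .b .e (by decide)) (hcm .b .f (by decide)) (hcm .b .h (by decide))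
      (hcm .c .e (by decide)) (hcm .c .f (by decide)) (hcm .c .h (by decide))
      (hcm .d .f (by decide)) (hcm .e .h (by decide)) (hcm .f .h (by decide)) 9 hw9c
  have hw9 : (γh 0 * γh 1 * γh 2 * γh 3 * γh 4 * γh 5 * γh 8) ^ 9 = 1 :=
    eq_one_of_sq σ.ker hk _ hw9ker hw9sq
  -- the splitting
  have hrel : ∀ r ∈ RF, FreeGroup.lift (fun x => γh (idx x)) r = 1 := by
    rintro r (⟨x, -, y, -, rfl⟩ | hr)
    · rw [map_pow, map_mul, FreeGroup.lift_apply_of, FreeGroup.lift_apply_of]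
      exact hcoxG x y
    · have hr' : r = (Cfsg.Spor.Fi23.d * Cfsg.Spor.Fi23.c * Cfsg.Spor.Fi23.b * Cfsg.Spor.Fi23.d *
            Cfsg.Spor.Fi23.e * Cfsg.Spor.Fi23.f * Cfsg.Spor.Fi23.d * Cfsg.Spor.Fi23.h *
            Cfsg.Spor.Fi23.i) ^ 10 ∨
          r = (Cfsg.Spor.Fi23.a * Cfsg.Spor.Fi23.b * Cfsg.Spor.Fi23.c * Cfsg.Spor.Fi23.d *
            Cfsg.Spor.Fi23.e * Cfsg.Spor.Fi23.f * Cfsg.Spor.Fi23.h) ^ 9 := by
        simpa [Cfsg.Spor.Fi23.extra] using hr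
      rcases hr' with rfl | rfl
      · rw [map_pow]
        simp only [map_mul, FreeGroup.lift_apply_of]
        have e : ev γh rho1 = (γh 3 * γh 2 * γh 1 * γh 3 * γh 4 * γh 5 * γh 3 * γh 8 * γh 9) ^ 10 := by
          unfold rho1
          rw [ev_rep]
          congr 1
          simp [spider, ev, gl, mul_assoc]
        rw [← hrho1, e]
        rfl
      · rw [map_pow]
        simp only [map_mul, FreeGroup.lift_apply_of]
        exact hw9
  let τ : Cfsg.Spor.Fi23 →* Γ := PresentedGroup.toGroup hrel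
  have hστ : ∀ y, σ (τ y) = y := by
    have hcomp : σ.comp τ = MonoidHom.id _ := by
      apply PresentedGroup.ext
      intro x
      show σ (PresentedGroup.toGroup hrel (PresentedGroup.of x)) = PresentedGroup.of x
      rw [PresentedGroup.toGroup.of, hσγ, gen_idx]
    intro y
    exact DFunLike.congr_fun hcomp y
  have hrange : τ.range = ⊤ := by
    apply Cfsg.Agent.Helper4.TC.Schur.eq_top_of_map_eq_top σ ⟨hs, hc, hcomm⟩
    rw [eq_top_iff]
    intro y _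
    exact ⟨τ y, ⟨y, rfl⟩, hστ y⟩
  rw [Subgroup.card_eq_one, eq_bot_iff]
  intro x hx
  obtain ⟨y, rfl⟩ := MonoidHom.range_eq_top.mp hrange x
  rw [MonoidHom.mem_ker, hστ] at hx
  rw [hx, map_one]
  exact Subgroup.one_mem _

end Cfsg.Agent.Lib.Helper5.Fi23M
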