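import Cfsg.Agent.Lib.Helper5.Fi23M.Defs
import Cfsg.Agent.Lib.Helper11.SchurJA
import Cfsg.Agent.Lib.Helper1.WeakL4
import Cfsg.Agent.Lib.Helper21.StemExt

/-!
# S2054-[G] (helper6 for helper5): assembly of the trivial multiplier of `Fi₂₃` from the prime-by-prime statements
-/

set_option autoImplicit false
set_option linter.unusedVariables false

namespace Cfsg.Agent.Lib.Helper5.Fi23M

open Cfsg

namespace Helper6

/-- the prime divisors of `|Fi₂₃|` -/
theorem prime_cases (r : ℕ) (hr : r.Prime) (h : r ∣ 4089470473293004800) :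
    r = 2 ∨ r = 3 ∨ r = 5 ∨ r = 7 ∨ r = 11 ∨ r = 13 ∨ r = 17 ∨ r = 23 := by
  have e : (4089470473293004800 : ℕ) = 2 ^ 18 * (3 ^ 13 * (5 ^ 2 * (7 * (11 * (13 * (17 * 23)))))) := by
    norm_num
  rw [e] at h
  have key : ∀ {p : ℕ}, p.Prime → r ∣ p → r = p := fun hp hd =>
    (Nat.prime_dvd_prime_iff_eq hr hp).mp hd
  rcases (Nat.Prime.dvd_mul hr).mp h with h | h
  · exact Or.inl (key Nat.prime_two (hr.dvd_of_dvd_pow h))
  rcases (Nat.Prime.dvd_mul hr).mp h with h | h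
  · exact Or.inr (Or.inl (key Nat.prime_three (hr.dvd_of_dvd_pow h)))
  rcases (Nat.Prime.dvd_mul hr).mp h with h | h
  · exact Or.inr (Or.inr (Or.inl (key Nat.prime_five (hr.dvd_of_dvd_pow h))))
  rcases (Nat.Prime.dvd_mul hr).mp h with h | h
  · exact Or.inr (Or.inr (Or.inr (Or.inl (key (by norm_num) h))))
  rcases (Nat.Prime.dvd_mul hr).mp h with h | h
  · exact Or.inr (Or.inr (Or.inr (Or.inr (Or.inl (key (by norm_num) h)))))
  rcases (Nat.Prime.dvd_mul hr).mp h with h | h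
  · exact Or.inr (Or.inr (Or.inr (Or.inr (Or.inr (Or.inl (key (by norm_num) h))))))
  rcases (Nat.Prime.dvd_mul hr).mp h with h | h
  · exact Or.inr (Or.inr (Or.inr (Or.inr (Or.inr (Or.inr (Or.inl (key (by norm_num) h)))))))
  · exact Or.inr (Or.inr (Or.inr (Or.inr (Or.inr (Or.inr (Or.inr (key (by norm_num) h)))))))

/-- a prime other than `2, 3, 5` divides `|Fi₂₃|` at most once -/
theorem sq_not_dvd (r : ℕ) (hr : r.Prime) (h2 : r ≠ 2) (h3 : r ≠ 3) (h5 : r ≠ 5) :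
    ¬ r ^ 2 ∣ 4089470473293004800 := by
  intro hdvd
  have hd : r ∣ 4089470473293004800 := (dvd_pow_self r (by norm_num)).trans hdvd
  rcases prime_cases r hr hd with rfl | rfl | rfl | rfl | rfl | rfl | rfl | rfl
  · exact h2 rfl
  · exact h3 rfl
  · exact h5 rfl
  all_goals (revert hdvd; norm_num)

end Helper6

open Helper6 in
/-- [G] -/
theorem hasMult_of (hG : Finite Cfsg.Spor.Fi23 ∧ Nat.card Cfsg.Spor.Fi23 = 4089470473293004800)
    (h25 : ∀ (p : ℕ) [Fact p.Prime], p = 2 ∨ p = 5 → ∀ {Γ : Type} [Group Γ] [Finite Γ]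
      (σ : Γ →* Cfsg.Spor.Fi23), Cfsg.IsStemExtension σ → IsPGroup p σ.ker → Nat.card σ.ker = 1)
    (h3 : ∀ {Γ : Type} [Group Γ] [Finite Γ] (σ : Γ →* Cfsg.Spor.Fi23), Cfsg.IsStemExtension σ →
      IsPGroup 3 σ.ker → Nat.card σ.ker = 1) :
    Cfsg.HasCyclicSchurMultiplier Cfsg.Spor.Fi23 1 := by
  haveI : Finite Cfsg.Spor.Fi23 := hG.1
  apply Cfsg.Agent.Lib.Helper21.hasCyclicSchurMultiplier_one_of
  intro Γ _ _ σ hσ
  rw [← Subgroup.card_eq_one]
  by_contra hne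
  obtain ⟨r, hr, hdvd⟩ := Nat.exists_prime_and_dvd hne
  haveI : Fact r.Prime := ⟨hr⟩
  have hpos : (Nat.card σ.ker).factorization r ≠ 0 :=
    (hr.factorization_pos_of_dvd Nat.card_pos.ne' hdvd).ne'
  have hlt : 1 < r ^ (Nat.card σ.ker).factorization r := Nat.one_lt_pow hpos hr.one_lt
  by_cases h235 : r = 2 ∨ r = 5 ∨ r = 3
  · obtain ⟨Δ, _, _, τ, hτ, hkτ, hcard⟩ := Cfsg.Agent.Lib.Helper10.Weak.exists_pker σ hσ r
    have h1 : Nat.card τ.ker = 1 := by
      rcases h235 with h | h | h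
      · exact h25 r (Or.inl h) τ hτ hkτ
      · exact h25 r (Or.inr h) τ hτ hkτ
      · subst h
        exact h3 τ hτ hkτ
    rw [hcard] at h1
    omega
  · push Not at h235
    refine Cfsg.Agent.Lib.Helper11.SchurJ.not_dvd_of_sq_not_dvd σ hσ r ?_ hdvd
    rw [hG.2]
    exact sq_not_dvd r hr h235.1 h235.2.2 h235.2.1

end Cfsg.Agent.Lib.Helper5.Fi23M
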