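import Cfsg.Agent.Lib.Helper19.AutOrb.Defs

/-!
# S4068-[B4c] (helper6, spare): `2^n - 1` prime and `2^n (4^n - 1)` with three prime divisors
force `n ∈ {2, 3}`
-/

set_option autoImplicit false

namespace Cfsg.Agent.Lib.Helper19.AutOrb

namespace Helper6

/-- `3 ^ c = 2 ^ n + 1` with `n ≥ 2` forces `n = 3`. -/
theorem three_pow_eq (c n : ℕ) (hn : 2 ≤ n) (h : 3 ^ c = 2 ^ n + 1) : n = 3 := by
  -- `4 ∣ 2 ^ n`
  have h4 : 4 ∣ 2 ^ n := by
    obtain ⟨k, rfl⟩ := Nat.exists_eq_add_of_le hn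
    exact ⟨2 ^ k, by rw [pow_add]; norm_num⟩
  -- `c` is even
  have hceven : Even c := by
    rcases Nat.even_or_odd c with he | ho
    · exact he
    · exfalso
      obtain ⟨k, rfl⟩ := ho
      have h9 : 9 ^ k % 4 = 1 := by
        rw [Nat.pow_mod]
        norm_num
      have h3 : 3 ^ (2 * k + 1) % 4 = 3 := by
        rw [pow_succ, pow_mul, Nat.mul_mod]
        norm_num [h9]
      obtain ⟨m, hm⟩ := h4
      rw [hm] at h
      generalize 3 ^ (2 * k + 1) = A at h h3
      omega
  obtain ⟨d, rfl⟩ := hceven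
  set t := 3 ^ d with ht
  have htt : t * t = 2 ^ n + 1 := by
    rw [← h, ht, ← pow_add]
  have ht1 : 1 ≤ t := Nat.one_le_pow _ _ (by norm_num)
  have hprod : (t - 1) * (t + 1) = 2 ^ n := by
    obtain ⟨u, hu⟩ := Nat.exists_eq_add_of_le ht1
    rw [hu] at htt ⊢
    have : (1 + u - 1) = u := by omega
    rw [this]
    nlinarith
  obtain ⟨a, -, ha⟩ := (Nat.dvd_prime_pow Nat.prime_two).1 (Dvd.intro _ hprod)
  obtain ⟨b, -, hb⟩ := (Nat.dvd_prime_pow Nat.prime_two).1 (Dvd.intro_left _ hprod)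
  have hab : 2 ^ b = 2 ^ a + 2 := by omega
  -- `a = 1`
  have ha1 : a = 1 := by
    rcases Nat.lt_or_ge a 2 with hlt | hge
    · interval_cases a
      · exfalso
        -- `2 ^ b = 3`
        have hb3 : 2 ^ b = 3 := by simpa using hab
        rcases Nat.lt_or_ge b 2 with hb2 | hb2
        · interval_cases b <;> omega
        · obtain ⟨k, rfl⟩ := Nat.exists_eq_add_of_le hb2
          rw [pow_add] at hb3
          omega
      · rfl
    · exfalso
      obtain ⟨k, rfl⟩ := Nat.exists_eq_add_of_le hge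
      have h4a : 4 ∣ 2 ^ (2 + k) := ⟨2 ^ k, by rw [pow_add]; norm_num⟩
      have hb2 : 2 ≤ b := by
        by_contra hlt
        have hlt := Nat.lt_of_not_le hlt
        have h2a : 4 ≤ 2 ^ (2 + k) := Nat.le_of_dvd (by positivity) h4a
        interval_cases b <;> omega
      obtain ⟨j, rfl⟩ := Nat.exists_eq_add_of_le hb2
      have h4b : 4 ∣ 2 ^ (2 + j) := ⟨2 ^ j, by rw [pow_add]; norm_num⟩
      omega
  subst ha1
  -- `t = 3`, so `2 ^ n = 8`
  have ht3 : t = 3 := by omega
  rw [ht3] at hprod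
  have h8 : 2 ^ n = 2 ^ 3 := by rw [← hprod]; norm_num
  exact Nat.pow_right_injective (le_refl 2) h8

end Helper6

/-- [B4c] number theory (spare). -/
theorem Helper6.two_pow_cases_spare (n : ℕ) (hn : 2 ≤ n) (hM : (2 ^ n - 1).Prime)
    (h3 : (2 ^ n * ((2 ^ n) ^ 2 - 1)).primeFactors.card = 3) : n = 2 ∨ n = 3 := by
  have hnp : n.Prime := (Nat.prime_of_pow_sub_one_prime (by omega) hM).2
  rcases hnp.eq_two_or_odd' with h2 | hodd
  · left; exact h2
  right
  set q := 2 ^ n with hq
  have hq4 : 4 ≤ q := by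
    obtain ⟨k, rfl⟩ := Nat.exists_eq_add_of_le hn
    rw [hq, pow_add]
    have : 1 ≤ 2 ^ k := Nat.one_le_two_pow
    omega
  have hqeven : 2 ∣ q := by
    rw [hq]
    exact dvd_pow_self 2 (by omega)
  -- factorisation of `q ^ 2 - 1`
  have hfac : q ^ 2 - 1 = (q - 1) * (q + 1) := by
    obtain ⟨u, hu⟩ := Nat.exists_eq_add_of_le (show 1 ≤ q by omega)
    rw [hu]
    have : (1 + u - 1) = u := by omega
    rw [this]
    have : (1 + u) ^ 2 = u * (1 + u + 1) + 1 := by ring
    omega
  -- `3 ∣ q + 1`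
  have h3dvd : 3 ∣ q + 1 := by
    have := hodd.nat_add_dvd_pow_add_pow 2 1
    simpa [hq] using this
  -- prime factors
  have hq1ne : q + 1 ≠ 0 := by omega
  have hpf : (q * ((q - 1) * (q + 1))).primeFactors =
      {2} ∪ ({q - 1} ∪ (q + 1).primeFactors) := by
    rw [Nat.primeFactors_mul (by omega) (Nat.mul_ne_zero (by omega) hq1ne),
      Nat.primeFactors_mul (by omega) hq1ne, hM.primeFactors, hq,
      Nat.primeFactors_prime_pow (by omega) Nat.prime_two]
  rw [hfac, hpf] at h3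
  have hd1 : Disjoint ({2} : Finset ℕ) ({q - 1} ∪ (q + 1).primeFactors) := by
    rw [Finset.disjoint_singleton_left, Finset.mem_union, Finset.mem_singleton]
    rintro (h | h)
    · omega
    · have := Nat.dvd_of_mem_primeFactors h
      omega
  have hd2 : Disjoint ({q - 1} : Finset ℕ) (q + 1).primeFactors := by
    rw [Finset.disjoint_singleton_left]
    intro h
    have h1 := Nat.dvd_of_mem_primeFactors h
    -- `q - 1 ∣ q + 1` gives `q - 1 ∣ 2`
    have h2 : q - 1 ∣ 2 := by
      have : q + 1 = (q - 1) + 2 := by omega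
      rw [this] at h1
      exact (Nat.dvd_add_right (dvd_refl _)).1 h1
    have := Nat.le_of_dvd (by norm_num) h2
    omega
  rw [Finset.card_union_of_disjoint hd1, Finset.card_union_of_disjoint hd2,
    Finset.card_singleton, Finset.card_singleton] at h3
  have hc1 : (q + 1).primeFactors.card = 1 := by omega
  obtain ⟨r, hr⟩ := Finset.card_eq_one.1 hc1
  have h3mem : 3 ∈ (q + 1).primeFactors :=
    Nat.mem_primeFactors.2 ⟨Nat.prime_three, h3dvd, hq1ne⟩
  have hr3 : r = 3 := by
    rw [hr, Finset.mem_singleton] at h3mem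
    exact h3mem.symm
  subst hr3
  have hpow := Nat.eq_prime_pow_of_unique_prime_dvd (n := q + 1) (p := 3) hq1ne (by
    intro d hd hdvd
    have : d ∈ (q + 1).primeFactors := Nat.mem_primeFactors.2 ⟨hd, hdvd, hq1ne⟩
    rw [hr, Finset.mem_singleton] at this
    exact this)
  exact Helper6.three_pow_eq _ n hn hpow.symm

end Cfsg.Agent.Lib.Helper19.AutOrb
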