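import Mathlib

/-!
# Automorphisms of orthogonal groups, part 22: the absolute trace in characteristic two and the
Artin–Schreier criterion for binary forms
-/

set_option autoImplicit false
set_option linter.unusedSectionVars false
set_option linter.unusedVariables false

namespace Cfsg.Agent.Lib.Helper6.AutOrt

section AS
variable {F : Type*} [Field F] [Fintype F]

/-- the absolute trace of a field with `2 ^ f` elements -/
def trF (f : ℕ) (c : F) : F := ∑ i ∈ Finset.range f, c ^ (2 ^ i)

variable [CharP F 2]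

theorem trF_succ (j : ℕ) (c : F) : trF (j + 1) c = trF j c ^ 2 + c := by
  unfold trF
  haveI : Fact (Nat.Prime 2) := ⟨Nat.prime_two⟩
  rw [Finset.sum_range_succ', sum_pow_char 2, pow_zero, pow_one]
  congr 1
  apply Finset.sum_congr rfl
  intro i _
  rw [← pow_mul, pow_succ]

theorem trF_add (j : ℕ) (c d : F) : trF j (c + d) = trF j c + trF j d := by
  unfold trF
  haveI : Fact (Nat.Prime 2) := ⟨Nat.prime_two⟩
  rw [← Finset.sum_add_distrib]
  apply Finset.sum_congr rfl
  intro i _
  exact add_pow_char_pow c d 2 i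

theorem trF_sq_arg (j : ℕ) (c : F) : trF j (c ^ 2) = trF j c ^ 2 := by
  unfold trF
  haveI : Fact (Nat.Prime 2) := ⟨Nat.prime_two⟩
  rw [sum_pow_char 2]
  apply Finset.sum_congr rfl
  intro i _
  rw [← pow_mul, ← pow_mul, mul_comm]

theorem trF_sq {f : ℕ} (hF : Fintype.card F = 2 ^ f) (c : F) : trF f c ^ 2 = trF f c := by
  have h1 := trF_succ f c
  have h2 : trF (f + 1) c = trF f c + c ^ (2 ^ f) := by
    unfold trF
    rw [Finset.sum_range_succ]
  have h3 : c ^ (2 ^ f) = c := by rw [← hF]; exact FiniteField.pow_card c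
  rw [h3] at h2
  rw [h2] at h1
  exact (add_right_cancel h1).symm

theorem trF_eq_zero_or_one {f : ℕ} (hF : Fintype.card F = 2 ^ f) (c : F) :
    trF f c = 0 ∨ trF f c = 1 := by
  have h := trF_sq hF c
  have : trF f c * (trF f c - 1) = 0 := by linear_combination h
  rcases mul_eq_zero.mp this with h | h
  · left; exact h
  · right; linear_combination h

theorem two_eq_zero' : (2 : F) = 0 := by
  have := CharP.cast_eq_zero F 2
  exact_mod_cast this

theorem trF_AS {f : ℕ} (hF : Fintype.card F = 2 ^ f) (y : F) : trF f (y ^ 2 + y) = 0 := by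
  rw [trF_add, trF_sq_arg, trF_sq hF]
  linear_combination trF f y * (two_eq_zero' (F := F))

theorem card_trF_zero_le [DecidableEq F] {f : ℕ} (hf : 1 ≤ f) :
    (Finset.univ.filter (fun c : F => trF f c = 0)).card ≤ 2 ^ (f - 1) := by
  set P : Polynomial F := ∑ i ∈ Finset.range f, Polynomial.X ^ (2 ^ i) with hP
  have hP0 : P ≠ 0 := by
    intro h
    have h1 := congrArg (fun Q => Polynomial.coeff Q 1) h
    simp only [hP, Polynomial.finsetSum_coeff, Polynomial.coeff_X_pow, Polynomial.coeff_zero] at h1
    rw [Finset.sum_eq_single 0] at h1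
    · simp at h1
    · intro i _ hi
      rw [if_neg]
      intro h2
      have : 2 ^ i = 2 ^ 0 := by rw [pow_zero]; exact h2.symm
      exact hi (Nat.pow_right_injective (le_refl 2) this)
    · intro h2
      exact absurd (Finset.mem_range.mpr (by omega)) h2
  have hdeg : P.natDegree ≤ 2 ^ (f - 1) := by
    apply Polynomial.natDegree_sum_le_of_forall_le
    intro i hi
    rw [Polynomial.natDegree_X_pow]
    exact Nat.pow_le_pow_right (by norm_num) (by have := Finset.mem_range.mp hi; omega)
  have hsub : Finset.univ.filter (fun c : F => trF f c = 0) ⊆ P.roots.toFinset := by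
    intro c hc
    rw [Multiset.mem_toFinset, Polynomial.mem_roots hP0, Polynomial.IsRoot.def]
    simp only [hP, Polynomial.eval_finsetSum, Polynomial.eval_pow, Polynomial.eval_X]
    exact (Finset.mem_filter.mp hc).2
  calc _ ≤ P.roots.toFinset.card := Finset.card_le_card hsub
    _ ≤ Multiset.card P.roots := Multiset.toFinset_card_le _
    _ ≤ P.natDegree := Polynomial.card_roots' P
    _ ≤ _ := hdeg

/-- additive Hilbert 90 over the prime field of characteristic two -/
theorem exists_AS {f : ℕ} (hf : 1 ≤ f) (hF : Fintype.card F = 2 ^ f) (c : F)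
    (hc : trF f c = 0) : ∃ y : F, y ^ 2 + y = c := by
  classical
  set S : Finset F := Finset.univ.image (fun y : F => y ^ 2 + y) with hS
  set Z : Finset F := Finset.univ.filter (fun c : F => trF f c = 0) with hZ
  have hSZ : S ⊆ Z := by
    intro x hx
    obtain ⟨y, -, rfl⟩ := Finset.mem_image.mp hx
    exact Finset.mem_filter.mpr ⟨Finset.mem_univ _, trF_AS hF y⟩
  have h1 : (Finset.univ : Finset F).card ≤ 2 * S.card := by
    apply Finset.card_le_mul_card_image
    intro x hx
    obtain ⟨y₀, -, rfl⟩ := Finset.mem_image.mp hx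
    have hsub : (Finset.univ.filter fun y : F => y ^ 2 + y = y₀ ^ 2 + y₀) ⊆ {y₀, y₀ + 1} := by
      intro y hy
      have h := (Finset.mem_filter.mp hy).2
      have h2 : (y - y₀) * (y - (y₀ + 1)) = 0 := by
        linear_combination h + (y₀ ^ 2 - y * y₀ - y + y₀) * (two_eq_zero' (F := F))
      rw [Finset.mem_insert, Finset.mem_singleton]
      rcases mul_eq_zero.mp h2 with h3 | h3
      · left; exact sub_eq_zero.mp h3
      · right; exact sub_eq_zero.mp h3
    exact (Finset.card_le_card hsub).trans Finset.card_le_two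
  rw [Finset.card_univ, hF] at h1
  have h2 := card_trF_zero_le (F := F) hf
  have h3 : 2 ^ f = 2 * 2 ^ (f - 1) := by
    rw [← pow_succ']
    congr 1
    omega
  have h4 : Z.card ≤ S.card := by
    rw [h3] at h1
    exact h2.trans (by omega)
  have h5 := Finset.eq_of_subset_of_card_le hSZ h4
  have h6 : c ∈ S := by
    rw [h5]
    exact Finset.mem_filter.mpr ⟨Finset.mem_univ _, hc⟩
  obtain ⟨y, -, hy⟩ := Finset.mem_image.mp h6
  exact ⟨y, hy⟩

/-- an anisotropic binary form in characteristic two has `a ≠ 0` and `Tr (b / a²) = 1` -/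
theorem trF_of_aniso {f : ℕ} (hf : 1 ≤ f) (hF : Fintype.card F = 2 ^ f) (a b : F)
    (hab : ∀ z₁ z₂ : F, z₁ ^ 2 + a * z₁ * z₂ + b * z₂ ^ 2 = 0 → z₁ = 0 ∧ z₂ = 0) :
    a ≠ 0 ∧ trF f (b / a ^ 2) = 1 := by
  have h2 := two_eq_zero' (F := F)
  have ha : a ≠ 0 := by
    rintro rfl
    obtain ⟨d, hd⟩ := FiniteField.isSquare_of_char_two (F := F)
      (by rw [ringChar.eq_iff]; infer_instance) b
    have := (hab d 1 (by rw [hd]; linear_combination (d * d) * h2)).2
    exact one_ne_zero this
  refine ⟨ha, ?_⟩
  rcases trF_eq_zero_or_one hF (b / a ^ 2) with h | h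
  · exfalso
    obtain ⟨y, hy⟩ := exists_AS hf hF _ h
    have h3 : a ^ 2 * (y ^ 2 + y) = b := by rw [hy]; field_simp
    have := (hab (a * y) 1 (by linear_combination h3 + b * h2)).2
    exact one_ne_zero this
  · exact h

end AS

end Cfsg.Agent.Lib.Helper6.AutOrt
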