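import Mathlib
import Cfsg.Agent.Lib.Helper6.AutOrt21
import Cfsg.Agent.Lib.Helper6.AutOrt22

/-!
# Automorphisms of orthogonal groups, part 23: the Frobenius semisimilarity of the minus type
form in characteristic two and its `f`-th power
-/

set_option autoImplicit false
set_option linter.unusedSectionVars false
set_option linter.unusedVariables false

open Cfsg Matrix QuadraticMap Module

namespace Cfsg.Agent.Lib.Helper6.AutOrt

open Cfsg.Agent.Lib.Helper6 Cfsg.Agent.Lib.Helper15 Cfsg.Agent.Lib.Helper6.AutInduced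
  Cfsg.Agent.Lib.Helper6.OmegaAut Cfsg.Agent.Lib.Helper6.SimAut

variable {F : Type*} [Field F] [Fintype F]

section frob
variable [CharP F 2]

/-- the Frobenius automorphism in characteristic two -/
noncomputable def frob2 : F ≃+* F :=
  RingEquiv.ofBijective (frobenius F 2)
    ⟨frobenius_inj F 2, Finite.surjective_of_injective (frobenius_inj F 2)⟩

theorem frob2_apply (x : F) : (frob2 : F ≃+* F) x = x ^ 2 := rfl

theorem frob2_pow_apply (j : ℕ) (x : F) : ((frob2 : RingAut F) ^ j) x = x ^ (2 ^ j) := by
  induction j generalizing x with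
  | zero => simp
  | succ n ih =>
    rw [pow_succ', RingAut.mul_apply, ih, frob2_apply, ← pow_mul, pow_succ']
    congr 1
    ring

/-- the Frobenius automorphism has order `f` -/
theorem orderOf_frob2 {f : ℕ} (hf : 1 ≤ f) (hF : Fintype.card F = 2 ^ f) :
    orderOf (frob2 : RingAut F) = f := by
  classical
  rw [orderOf_eq_iff (by omega)]
  constructor
  · ext x
    rw [frob2_pow_apply, ← hF, FiniteField.pow_card]
    rfl
  · intro m hm hm0 h
    obtain ⟨g, hg⟩ := IsCyclic.exists_generator (α := Fˣ)
    have h1 : orderOf g = 2 ^ f - 1 := by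
      rw [orderOf_eq_card_of_forall_mem_zpowers hg, Nat.card_eq_fintype_card, Fintype.card_units, hF]
    have h2 := congrArg (fun τ : RingAut F => τ (g : F)) h
    simp only [frob2_pow_apply, RingAut.one_apply] at h2
    have h3 : g ^ (2 ^ m - 1) = 1 := by
      apply Units.ext
      rw [Units.val_pow_eq_pow_val, Units.val_one]
      have h4 : (g : F) ^ (2 ^ m - 1) * (g : F) = 1 * (g : F) := by
        rw [← pow_succ, Nat.sub_add_cancel Nat.one_le_two_pow, one_mul]
        exact h2
      exact mul_right_cancel₀ g.ne_zero h4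
    have h5 := orderOf_dvd_of_pow_eq_one h3
    rw [h1] at h5
    have h6 : 2 ^ m < 2 ^ f := Nat.pow_lt_pow_right (by norm_num) hm
    have h7 : 2 ≤ 2 ^ m := by
      calc 2 = 2 ^ 1 := by norm_num
        _ ≤ 2 ^ m := Nat.pow_le_pow_right (by norm_num) hm0
    have h8 := Nat.le_of_dvd (by omega) h5
    omega

variable (k : ℕ) (a b : F)

/-- the Frobenius semisimilarity of the minus type form in characteristic two -/
noncomputable def frobMinus : SemiSimO (Qgen k (binForm a b)) where
  S x := Sum.elim (fun i => (x (Sum.inl i)) ^ 2)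
    ![x (Sum.inr 0) ^ 2 + b * x (Sum.inr 1) ^ 2, a * x (Sum.inr 1) ^ 2]
  σ := frob2
  ν := 1
  hν := one_ne_zero
  add x y := by
    funext i
    rcases i with i | i
    · simp only [Sum.elim_inl, Pi.add_apply]
      exact CharTwo.add_sq _ _
    · fin_cases i
      · simp [CharTwo.add_sq]; ring
      · simp [CharTwo.add_sq]; ring
  smul c x := by
    funext i
    rcases i with i | i
    · simp [frob2_apply, mul_pow]
    · fin_cases i
      · simp [frob2_apply, mul_pow]; ring
      · simp [frob2_apply, mul_pow]; ring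
  form x := by
    have h2 := two_eq_zero' (F := F)
    rw [one_mul, Qgen_apply, Qgen_apply, binForm_apply, binForm_apply, frob2_apply]
    simp only [Sum.elim_inl, Sum.elim_inr, Matrix.cons_val_zero, Matrix.cons_val_one]
    conv_rhs => rw [CharTwo.add_sq, sum_pow_char 2]
    congr 1
    · apply Finset.sum_congr rfl
      intro i _
      rw [mul_pow]
    · linear_combination (a ^ 2 * b * x (Sum.inr 1) ^ 4 - a * x (Sum.inr 0) ^ 3 * x (Sum.inr 1)
        - a * b * x (Sum.inr 0) * x (Sum.inr 1) ^ 3) * h2

theorem frobMinus_σ : (frobMinus k a b).σ = frob2 := rfl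

/-- the recursion for the coefficients of the iterates -/
def cds : ℕ → F × F
  | 0 => (0, 1)
  | j + 1 => ((cds j).1 ^ 2 + b * (cds j).2 ^ 2, a * (cds j).2 ^ 2)

/-- the iterates of the Frobenius semisimilarity -/
noncomputable def frobPow : ℕ → SemiSimO (Qgen k (binForm a b))
  | 0 => SemiSimO.one _
  | j + 1 => (frobMinus k a b).comp (frobPow j)

theorem frobPow_S (j : ℕ) (x : (Fin k ⊕ Fin k) ⊕ Fin 2 → F) :
    (frobPow k a b j).S x = Sum.elim (fun i => (x (Sum.inl i)) ^ (2 ^ j))
      ![x (Sum.inr 0) ^ (2 ^ j) + (cds a b j).1 * x (Sum.inr 1) ^ (2 ^ j),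
        (cds a b j).2 * x (Sum.inr 1) ^ (2 ^ j)] := by
  induction j with
  | zero =>
    funext i
    rcases i with i | i
    · simp [frobPow, SemiSimO.one]
    · fin_cases i <;> simp [frobPow, SemiSimO.one, cds]
  | succ n ih =>
    change (frobMinus k a b).S ((frobPow k a b n).S x) = _
    rw [ih]
    funext i
    rcases i with i | i
    · simp only [frobMinus, Sum.elim_inl]
      rw [← pow_mul, pow_succ]
    · fin_cases i
      · simp only [frobMinus, cds, Sum.elim_inr, Sum.elim_inl, Matrix.cons_val_zero,
          Matrix.cons_val_one, Fin.zero_eta, Fin.mk_one]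
        rw [CharTwo.add_sq, pow_succ 2 n, pow_mul, pow_mul]
        ring
      · simp only [frobMinus, cds, Sum.elim_inr, Sum.elim_inl, Matrix.cons_val_zero,
          Matrix.cons_val_one, Fin.zero_eta, Fin.mk_one]
        rw [pow_succ 2 n, pow_mul]
        ring

theorem frobPow_gam [Std (Qgen k (binForm a b))] (j : ℕ) : (frobPow k a b j).gam = (frobMinus k a b).gam ^ j := by
  induction j with
  | zero =>
    rw [pow_zero]
    exact SemiSimO.gam_one
  | succ n ih =>
    rw [pow_succ', ← ih]
    exact SemiSimO.gam_comp _ _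

theorem cds_snd (j : ℕ) : (cds a b j).2 * a = a ^ (2 ^ j) := by
  induction j with
  | zero => simp [cds]
  | succ n ih =>
    rw [pow_succ 2 n, pow_mul, ← ih]
    simp only [cds]
    ring

theorem cds_fst (ha : a ≠ 0) (j : ℕ) : (cds a b j).1 = a ^ (2 ^ j) * trF j (b / a ^ 2) := by
  induction j with
  | zero => simp [cds, trF]
  | succ n ih =>
    rw [trF_succ]
    have h1 := cds_snd a b n
    have h2 : (cds a b n).2 = a ^ (2 ^ n) / a := by
      rw [← h1]; field_simp
    simp only [cds]
    rw [ih, h2, pow_succ 2 n, pow_mul]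
    field_simp

end frob

end Cfsg.Agent.Lib.Helper6.AutOrt
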