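import Mathlib
import Cfsg.Agent.Lib.Helper6.AutOrt23

/-!
# Automorphisms of orthogonal groups, part 24: the `f`-th power of the Frobenius semisimilarity is
a reflection, and reflections are not inner in characteristic two
-/

set_option autoImplicit false
set_option linter.unusedSectionVars false
set_option linter.unusedVariables false

open Cfsg Matrix QuadraticMap Module

namespace Cfsg.Agent.Lib.Helper6.AutOrt

open Cfsg.Agent.Lib.Helper6 Cfsg.Agent.Lib.Helper15 Cfsg.Agent.Lib.Helper6.AutInduced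
  Cfsg.Agent.Lib.Helper6.OmegaAut Cfsg.Agent.Lib.Helper6.SimAut

variable {F : Type*} [Field F] [Fintype F]

section grp

theorem isCyclic_of_order {G A : Type*} [Group G] [Group A] [Finite G] (ψ : G →* A) (x : G)
    (f : ℕ) (hf : 1 ≤ f) (hcard : Nat.card G = 2 * f) (hord : orderOf (ψ x) = f)
    (hx : x ^ f ≠ 1) : IsCyclic G := by
  have h1 : f ∣ orderOf x := by
    rw [← hord]
    exact orderOf_map_dvd ψ x
  have h2 : orderOf x ∣ 2 * f := by
    rw [← hcard]
    exact orderOf_dvd_natCard x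
  obtain ⟨t, ht⟩ := h1
  have h3 : t ∣ 2 := by
    rw [ht, mul_comm 2 f] at h2
    exact Nat.dvd_of_mul_dvd_mul_left (by omega) h2
  have h4 : t = 1 ∨ t = 2 := by
    have := Nat.le_of_dvd (by norm_num) h3
    interval_cases t
    · simp at h3
    · left; rfl
    · right; rfl
  rcases h4 with rfl | rfl
  · exfalso
    apply hx
    rw [mul_one] at ht
    rw [← ht]
    exact pow_orderOf_eq_one x
  · apply isCyclic_of_orderOf_eq_card x
    rw [ht, hcard, mul_comm]

end grp

section refl
variable {ι : Type} [Fintype ι] [DecidableEq ι] {Q : QuadraticForm F (ι → F)} [hS : Std Q]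
variable (p : ℕ) [hp : Fact p.Prime] [hcp : CharP F p]
include hp hcp

/-- in characteristic two the automorphism induced by a reflection is not inner -/
theorem gam_not_mem_Inn_two (h2 : (2 : F) = 0) (Φ : SemiSimO Q) (e : ι → F) (he : Q e ≠ 0)
    (hΦ : ∀ x, Φ.S x = Cfsg.reflectionMatrix ⇑Q e *ᵥ x) :
    Φ.gam ∉ Cfsg.Inn (Cfsg.POmega F ⇑Q) := by
  rintro ⟨y, hy⟩
  obtain ⟨ω, rfl⟩ := pu_surjective y
  have h1 : ((SemiSimO.ofOm ω⁻¹).comp Φ).gam = 1 := by
    rw [SemiSimO.gam_comp, SemiSimO.gam_ofOm, ← hy, map_inv, map_inv, inv_mul_cancel]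
  obtain ⟨-, c, hc⟩ := scalar_of_gam_eq_one p _ h1
  have hc' : ∀ x, av ω⁻¹ (Cfsg.reflectionMatrix ⇑Q e *ᵥ x) = c • x := by
    intro x
    rw [← hΦ]
    exact hc x
  have hre : Cfsg.reflectionMatrix ⇑Q e *ᵥ e = e := by
    rw [reflectionMatrix_mulVec, QuadraticMap.polar_self]
    have : (2 : F) * Q e = 0 := by rw [h2, zero_mul]
    rw [nsmul_eq_mul, Nat.cast_ofNat, this, mul_zero, zero_smul, sub_zero]
  have hc1 : c = 1 := by
    have h3 := congrArg Q (hc' e)
    rw [hre, Q_av, Q_smul] at h3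
    have h4 : (c - 1) * (c - 1) * Q e = 0 := by linear_combination -h3 + (1 - c) * Q e * h2
    rcases mul_eq_zero.mp h4 with h5 | h5
    · rcases mul_eq_zero.mp h5 with h6 | h6 <;> linear_combination h6
    · exact absurd h5 he
  have hmat : ((ω.1.1 : GL ι F) : Matrix ι ι F) = Cfsg.reflectionMatrix ⇑Q e := by
    apply matrix_ext_mulVec
    intro x
    have h3 := hc' x
    rw [hc1, one_smul] at h3
    have h4 := congrArg (av ω) h3
    rw [av_av_inv] at h4
    exact h4.symm
  have h5 := (mem_Omega_iff_list_two' Q h2 hS.nondeg (by have := hS.seven; omega)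
    (Or.inr (by have := hS.seven; omega)) ω.1 [e] (by
      intro v hv
      rw [List.mem_singleton] at hv
      rw [hv]; exact he) (by simp [hmat])).mp ω.2
  simp at h5

end refl

section frobf
variable [CharP F 2] (k : ℕ) (a b : F)

/-- the `f`-th iterate of the Frobenius semisimilarity is a reflection -/
theorem frobPow_f_S {f : ℕ} (hf : 1 ≤ f) (hF : Fintype.card F = 2 ^ f)
    (hab : ∀ z₁ z₂ : F, z₁ ^ 2 + a * z₁ * z₂ + b * z₂ ^ 2 = 0 → z₁ = 0 ∧ z₂ = 0)
    (x : (Fin k ⊕ Fin k) ⊕ Fin 2 → F) :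
    (frobPow k a b f).S x =
      Cfsg.reflectionMatrix ⇑(Qgen k (binForm a b)) (Pi.single (Sum.inr 0) 1) *ᵥ x := by
  have h2 := two_eq_zero' (F := F)
  obtain ⟨ha, htr⟩ := trF_of_aniso hf hF a b hab
  have hq : ∀ y : F, y ^ (2 ^ f) = y := by
    intro y
    rw [← hF]
    exact FiniteField.pow_card y
  have hd : (cds a b f).2 = 1 := by
    have := cds_snd a b f
    rw [hq] at this
    exact mul_right_cancel₀ ha (by rw [this, one_mul])
  have hc : (cds a b f).1 = a := by
    rw [cds_fst a b ha, htr, hq, mul_one]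
  have hQe : Qgen k (binForm a b) (Pi.single (Sum.inr 0) 1) = 1 := by
    rw [Qgen_apply, binForm_apply]
    simp
  have hpol : polar (⇑(Qgen k (binForm a b))) (Pi.single (Sum.inr 0) 1) x = a * x (Sum.inr 1) := by
    rw [polar_Qgen, polar_binForm]
    simp only [Pi.single_apply, reduceCtorEq, if_false, zero_mul, add_zero, Finset.sum_const_zero,
      Sum.inr.injEq, if_true, zero_add]
    simp
    left
    exact h2
  rw [frobPow_S, reflectionMatrix_mulVec, hQe, hpol, hd, hc, inv_one, one_mul]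
  funext i
  rcases i with i | i
  · simp [hq]
  · fin_cases i
    · simp [hq]
      linear_combination (a * x (Sum.inr 1)) * h2
    · simp [hq]

end frobf

end Cfsg.Agent.Lib.Helper6.AutOrt
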