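import Mathlib
import Cfsg.Agent.Lib.Helper6.AutOrt25

/-!
# Automorphisms of orthogonal groups, part 26: the commutator of a Frobenius semisimilarity with a
similarity lies in the image of `SO`
-/

set_option autoImplicit false
set_option linter.unusedSectionVars false
set_option linter.unusedVariables false

open Cfsg Matrix QuadraticMap Module

namespace Cfsg.Agent.Lib.Helper6.AutOrt

open Cfsg.Agent.Lib.Helper6 Cfsg.Agent.Lib.Helper15 Cfsg.Agent.Lib.Helper6.AutInduced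
  Cfsg.Agent.Lib.Helper6.OmegaAut Cfsg.Agent.Lib.Helper6.SimAut

variable {F : Type*} [Field F] [Fintype F] {ι : Type} [Fintype ι] [DecidableEq ι]
variable {Q : QuadraticForm F (ι → F)} [hS : Std Q]

theorem comm_mem_psoAut [DecidableEq F] {p : ℕ} (hp : Odd p) (Φ Δ : SemiSimO Q)
    (hΦ : ∀ x, Φ.σ x = x ^ p) (hΔ : Δ.σ = RingEquiv.refl F) :
    Φ.gam * Δ.gam * Φ.gam⁻¹ * Δ.gam⁻¹ ∈ Cfsg.psoAut F ⇑Q := by
  set C := Φ.comp (Δ.comp (Φ.symm.comp Δ.symm)) with hC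
  have hgam : C.gam = Φ.gam * Δ.gam * Φ.gam⁻¹ * Δ.gam⁻¹ := by
    rw [hC, SemiSimO.gam_comp, SemiSimO.gam_comp, SemiSimO.gam_comp, SemiSimO.gam_symm,
      SemiSimO.gam_symm]
    group
  rw [← hgam]
  have hσ : C.σ = RingEquiv.refl F := by
    rw [hC, SemiSimO.comp_σ, SemiSimO.comp_σ, SemiSimO.comp_σ, SemiSimO.symm_σ, SemiSimO.symm_σ, hΔ]
    ext x
    simp
  obtain ⟨k, hk⟩ := hp
  have h1 := SemiSimO.ν_symm Φ
  have h2 := SemiSimO.ν_symm Δ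
  have h3 := SemiSimO.dt_symm Φ
  have h4 := SemiSimO.dt_symm Δ
  rw [hΔ] at h2 h4
  change Δ.ν * Δ.symm.ν = 1 at h2
  change Δ.dt * Δ.symm.dt = 1 at h4
  have hν : C.ν = Δ.ν ^ k * Δ.ν ^ k := by
    rw [hC, SemiSimO.comp_ν, SemiSimO.comp_ν, SemiSimO.comp_ν, hΔ, SemiSimO.symm_σ]
    change Φ.ν * Φ.σ (Δ.ν * (Φ.symm.ν * Φ.σ.symm Δ.symm.ν)) = _
    rw [map_mul, map_mul, RingEquiv.apply_symm_apply, hΦ Δ.ν, hk]
    have e1 : Φ.ν * (Δ.ν ^ (2 * k + 1) * (Φ.σ Φ.symm.ν * Δ.symm.ν)) =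
        (Φ.ν * Φ.σ Φ.symm.ν) * (Δ.ν ^ k * Δ.ν ^ k) * (Δ.ν * Δ.symm.ν) := by ring
    rw [e1, h1, h2, one_mul, mul_one]
  have hdt : C.dt = (Δ.ν ^ k) ^ Fintype.card ι := by
    rw [hC, SemiSimO.dt_comp, SemiSimO.dt_comp, SemiSimO.dt_comp, hΔ, SemiSimO.symm_σ]
    change Φ.dt * Φ.σ (Δ.dt * (Φ.symm.dt * Φ.σ.symm Δ.symm.dt)) = _
    rw [map_mul, map_mul, RingEquiv.apply_symm_apply, hΦ Δ.dt, hk]
    have e1 : Φ.dt * (Δ.dt ^ (2 * k + 1) * (Φ.σ Φ.symm.dt * Δ.symm.dt)) =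
        (Φ.dt * Φ.σ Φ.symm.dt) * ((Δ.dt ^ 2) ^ k) * (Δ.dt * Δ.symm.dt) := by ring
    rw [e1, h3, h4, one_mul, mul_one, SemiSimO.dt_sq Δ hΔ, ← pow_mul, ← pow_mul, mul_comm]
  exact gam_mem_psoAut C hσ _ hν hdt

end Cfsg.Agent.Lib.Helper6.AutOrt
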