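import Mathlib
import Cfsg.Agent.Lib.Helper6.AutOrt26

/-!
# Automorphisms of orthogonal groups, part 27: the Frobenius semisimilarity of the minus type form
in odd characteristic and its `f`-th power
-/

set_option autoImplicit false
set_option linter.unusedSectionVars false
set_option linter.unusedVariables false

open Cfsg Matrix QuadraticMap Module

namespace Cfsg.Agent.Lib.Helper6.AutOrt

open Cfsg.Agent.Lib.Helper6 Cfsg.Agent.Lib.Helper15 Cfsg.Agent.Lib.Helper6.AutInduced
  Cfsg.Agent.Lib.Helper6.OmegaAut Cfsg.Agent.Lib.Helper6.SimAut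

variable {F : Type*} [Field F] [Fintype F]

section frobp
variable (p : ℕ) [hp : Fact p.Prime] [hcp : CharP F p]

/-- the Frobenius automorphism -/
noncomputable def frobP : F ≃+* F :=
  RingEquiv.ofBijective (frobenius F p)
    ⟨frobenius_inj F p, Finite.surjective_of_injective (frobenius_inj F p)⟩

theorem frobP_apply (x : F) : (frobP p : F ≃+* F) x = x ^ p := rfl

theorem frobP_pow_apply (j : ℕ) (x : F) : ((frobP p : RingAut F) ^ j) x = x ^ (p ^ j) := by
  induction j generalizing x with
  | zero => simp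
  | succ n ih =>
    rw [pow_succ', RingAut.mul_apply, ih, frobP_apply, ← pow_mul, pow_succ']
    congr 1
    ring

/-- the Frobenius automorphism has order `f` -/
theorem orderOf_frobP {f : ℕ} (hf : 1 ≤ f) (hF : Fintype.card F = p ^ f) :
    orderOf (frobP p : RingAut F) = f := by
  classical
  have hp2 : 2 ≤ p := hp.out.two_le
  rw [orderOf_eq_iff (by omega)]
  constructor
  · ext x
    rw [frobP_pow_apply, ← hF, FiniteField.pow_card]
    rfl
  · intro m hm hm0 h
    obtain ⟨g, hg⟩ := IsCyclic.exists_generator (α := Fˣ)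
    have h1 : orderOf g = p ^ f - 1 := by
      rw [orderOf_eq_card_of_forall_mem_zpowers hg, Nat.card_eq_fintype_card, Fintype.card_units, hF]
    have h2 := congrArg (fun τ : RingAut F => τ (g : F)) h
    simp only [frobP_pow_apply, RingAut.one_apply] at h2
    have hpm : 1 ≤ p ^ m := Nat.one_le_pow _ _ (by omega)
    have h3 : g ^ (p ^ m - 1) = 1 := by
      apply Units.ext
      rw [Units.val_pow_eq_pow_val, Units.val_one]
      have h4 : (g : F) ^ (p ^ m - 1) * (g : F) = 1 * (g : F) := by
        rw [← pow_succ, Nat.sub_add_cancel hpm, one_mul]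
        exact h2
      exact mul_right_cancel₀ g.ne_zero h4
    have h5 := orderOf_dvd_of_pow_eq_one h3
    rw [h1] at h5
    have h6 : p ^ m < p ^ f := Nat.pow_lt_pow_right (by omega) hm
    have h7 : p ≤ p ^ m := by
      calc p = p ^ 1 := by norm_num
        _ ≤ p ^ m := Nat.pow_le_pow_right (by omega) hm0
    have h8 := Nat.le_of_dvd (by omega) h5
    omega

variable {p}

theorem two_ne_zero_of_oddp (hodd : Odd p) : (2 : F) ≠ 0 := by
  intro h
  have h1 : ((2 : ℕ) : F) = 0 := by exact_mod_cast h
  rw [CharP.cast_eq_zero_iff F p 2] at h1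
  have := Nat.le_of_dvd (by norm_num) h1
  have hp2 : 2 ≤ p := hp.out.two_le
  obtain ⟨k, hk⟩ := hodd
  omega

variable (k : ℕ) (a b : F)

/-- the discriminant quantity `a²/4 - b` -/
noncomputable def epsD : F := (a / 2) ^ 2 - b

theorem binForm_eq_diag (h2 : (2 : F) ≠ 0) (z : Fin 2 → F) :
    binForm a b z = (z 0 + a / 2 * z 1) ^ 2 - epsD a b * z 1 ^ 2 := by
  rw [binForm_apply]
  unfold epsD
  field_simp
  ring

variable (p)

/-- the Frobenius semisimilarity of the minus type form, odd characteristic -/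
noncomputable def frobMinusOdd (hodd : Odd p) : SemiSimO (Qgen k (binForm a b)) where
  S x := Sum.elim (fun i => (x (Sum.inl i)) ^ p)
    ![(x (Sum.inr 0) + a / 2 * x (Sum.inr 1)) ^ p - a / 2 * epsD a b ^ (p / 2) * x (Sum.inr 1) ^ p,
      epsD a b ^ (p / 2) * x (Sum.inr 1) ^ p]
  σ := frobP p
  ν := 1
  hν := one_ne_zero
  add x y := by
    funext i
    rcases i with i | i
    · simp only [Sum.elim_inl, Pi.add_apply]
      exact add_pow_char _ _ _
    · fin_cases i
      · simp only [Sum.elim_inr, Pi.add_apply, Fin.zero_eta, Matrix.cons_val_zero]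
        have : x (Sum.inr 0) + y (Sum.inr 0) + a / 2 * (x (Sum.inr 1) + y (Sum.inr 1)) =
            (x (Sum.inr 0) + a / 2 * x (Sum.inr 1)) + (y (Sum.inr 0) + a / 2 * y (Sum.inr 1)) := by
          ring
        rw [this, add_pow_char (x (Sum.inr 0) + a / 2 * x (Sum.inr 1)),
          add_pow_char (x (Sum.inr 1)) (y (Sum.inr 1))]
        ring
      · simp only [Sum.elim_inr, Pi.add_apply, Fin.mk_one, Matrix.cons_val_one, Matrix.cons_val_zero]
        rw [add_pow_char]
        ring
  smul c x := by
    funext i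
    rcases i with i | i
    · simp [frobP_apply, mul_pow]
    · fin_cases i
      · simp only [Sum.elim_inr, Pi.smul_apply, smul_eq_mul, Fin.zero_eta, Matrix.cons_val_zero,
          frobP_apply]
        have : c * x (Sum.inr 0) + a / 2 * (c * x (Sum.inr 1)) =
            c * (x (Sum.inr 0) + a / 2 * x (Sum.inr 1)) := by ring
        rw [this, mul_pow, mul_pow]
        ring
      · simp only [Sum.elim_inr, Pi.smul_apply, smul_eq_mul, Fin.mk_one, Matrix.cons_val_one,
          Matrix.cons_val_zero, frobP_apply]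
        rw [mul_pow]
        ring
  form x := by
    have h2 := two_ne_zero_of_oddp (F := F) hodd
    have hpe : epsD a b ^ (p / 2) * epsD a b ^ (p / 2) * epsD a b = epsD a b ^ p := by
      rw [← pow_add, ← pow_succ]
      congr 1
      obtain ⟨k', hk'⟩ := hodd
      omega
    rw [one_mul, Qgen_apply, Qgen_apply, binForm_eq_diag a b h2, binForm_eq_diag a b h2, frobP_apply]
    simp only [Sum.elim_inl, Sum.elim_inr, Matrix.cons_val_zero, Matrix.cons_val_one]
    conv_rhs => rw [add_pow_char, sum_pow_char p, sub_pow_char]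
    congr 1
    · apply Finset.sum_congr rfl
      intro i _
      rw [mul_pow]
    · rw [mul_pow (epsD a b) (x (Sum.inr 1) ^ 2) p, ← hpe]
      generalize x (Sum.inr 0) + a / 2 * x (Sum.inr 1) = U
      ring

theorem frobMinusOdd_σ (hodd : Odd p) : (frobMinusOdd p k a b hodd).σ = frobP p := rfl

theorem frobMinusOdd_σ_apply (hodd : Odd p) (x : F) : (frobMinusOdd p k a b hodd).σ x = x ^ p := rfl

/-- the coefficients of the iterates -/
noncomputable def Ecf : ℕ → F
  | 0 => 1
  | j + 1 => epsD a b ^ (p / 2) * (Ecf j) ^ p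

/-- the iterates of the Frobenius semisimilarity -/
noncomputable def frobPowOdd (hodd : Odd p) : ℕ → SemiSimO (Qgen k (binForm a b))
  | 0 => SemiSimO.one _
  | j + 1 => (frobMinusOdd p k a b hodd).comp (frobPowOdd hodd j)

theorem frobPowOdd_S (hodd : Odd p) (j : ℕ) (x : (Fin k ⊕ Fin k) ⊕ Fin 2 → F) :
    (frobPowOdd p k a b hodd j).S x = Sum.elim (fun i => (x (Sum.inl i)) ^ (p ^ j))
      ![(x (Sum.inr 0) + a / 2 * x (Sum.inr 1)) ^ (p ^ j)
          - a / 2 * Ecf p a b j * x (Sum.inr 1) ^ (p ^ j),
        Ecf p a b j * x (Sum.inr 1) ^ (p ^ j)] := by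
  induction j with
  | zero =>
    funext i
    rcases i with i | i
    · simp [frobPowOdd, SemiSimO.one]
    · fin_cases i <;> simp [frobPowOdd, SemiSimO.one, Ecf]
  | succ n ih =>
    change (frobMinusOdd p k a b hodd).S ((frobPowOdd p k a b hodd n).S x) = _
    rw [ih]
    funext i
    rcases i with i | i
    · simp only [frobMinusOdd, Sum.elim_inl]
      rw [← pow_mul, pow_succ]
    · fin_cases i
      · simp only [frobMinusOdd, Ecf, Sum.elim_inr, Sum.elim_inl, Matrix.cons_val_zero,
          Matrix.cons_val_one, Fin.zero_eta]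
        have e0 : (x (Sum.inr 0) + a / 2 * x (Sum.inr 1)) ^ p ^ n
            - a / 2 * Ecf p a b n * x (Sum.inr 1) ^ p ^ n
            + a / 2 * (Ecf p a b n * x (Sum.inr 1) ^ p ^ n) =
            (x (Sum.inr 0) + a / 2 * x (Sum.inr 1)) ^ p ^ n := by ring
        rw [e0, mul_pow, ← pow_mul, ← pow_mul, ← pow_succ]
        ring
      · simp only [frobMinusOdd, Ecf, Sum.elim_inr, Sum.elim_inl, Matrix.cons_val_zero,
          Matrix.cons_val_one, Fin.mk_one]
        rw [mul_pow, ← pow_mul, ← pow_succ]
        ring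

theorem frobPowOdd_gam [Std (Qgen k (binForm a b))] (hodd : Odd p) (j : ℕ) :
    (frobPowOdd p k a b hodd j).gam = (frobMinusOdd p k a b hodd).gam ^ j := by
  induction j with
  | zero =>
    rw [pow_zero]
    exact SemiSimO.gam_one
  | succ n ih =>
    rw [pow_succ', ← ih]
    exact SemiSimO.gam_comp _ _

theorem frobPowOdd_σ (hodd : Odd p) (j : ℕ) :
    (frobPowOdd p k a b hodd j).σ = (frobP p : RingAut F) ^ j := by
  induction j with
  | zero => rfl
  | succ n ih =>
    change (frobPowOdd p k a b hodd n).σ.trans (frobP p) = _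
    rw [ih, pow_succ']
    rfl

theorem frobPowOdd_ν (hodd : Odd p) (j : ℕ) : (frobPowOdd p k a b hodd j).ν = 1 := by
  induction j with
  | zero => rfl
  | succ n ih =>
    change (1 : F) * (frobP p) (frobPowOdd p k a b hodd n).ν = 1
    rw [ih, map_one, one_mul]

theorem Ecf_eq (hodd : Odd p) (j : ℕ) : Ecf p a b j = epsD a b ^ (p ^ j / 2) := by
  induction j with
  | zero => simp [Ecf]
  | succ n ih =>
    simp only [Ecf]
    rw [ih, ← pow_mul, ← pow_add]
    congr 1
    obtain ⟨k', hk'⟩ := hodd
    have hoddp : Odd p := ⟨k', hk'⟩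
    have h1 : Odd (p ^ n) := hoddp.pow
    obtain ⟨t, ht⟩ := h1
    rw [pow_succ, ht, hk']
    have e1 : (2 * k' + 1) / 2 = k' := by omega
    have e2 : (2 * t + 1) / 2 = t := by omega
    have e3 : (2 * t + 1) * (2 * k' + 1) = 2 * (2 * t * k' + t + k') + 1 := by ring
    rw [e1, e2, e3]
    have e4 : (2 * (2 * t * k' + t + k') + 1) / 2 = 2 * t * k' + t + k' := by omega
    rw [e4]
    ring

end frobp

end Cfsg.Agent.Lib.Helper6.AutOrt
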