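import Mathlib
import Cfsg.Agent.Lib.Helper6.AutOrt27
import Cfsg.Agent.S2726
import Cfsg.Agent.S0791

/-!
# Automorphisms of orthogonal groups, part 28: minus type, odd characteristic: the `f`-th power of
the Frobenius semisimilarity is a reflection; reflections and proper similarities are not inner
-/

set_option autoImplicit false
set_option linter.unusedSectionVars false
set_option linter.unusedVariables false

open Cfsg Matrix QuadraticMap Module

namespace Cfsg.Agent.Lib.Helper6.AutOrt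

open Cfsg.Agent.Lib.Helper6 Cfsg.Agent.Lib.Helper15 Cfsg.Agent.Lib.Helper6.AutInduced
  Cfsg.Agent.Lib.Helper6.OmegaAut Cfsg.Agent.Lib.Helper6.SimAut

variable {F : Type*} [Field F] [Fintype F]

section reflodd
variable {ι : Type} [Fintype ι] [DecidableEq ι] {Q : QuadraticForm F (ι → F)} [hS : Std Q]
variable (p : ℕ) [hp : Fact p.Prime] [hcp : CharP F p]
include hp hcp

/-- in odd characteristic and even dimension the automorphism induced by a reflection is not
inner -/
theorem gam_not_mem_Inn_odd (h2 : (2 : F) ≠ 0) (heven : Even (Fintype.card ι)) (Φ : SemiSimO Q)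
    (hσ : Φ.σ = RingEquiv.refl F) (e : ι → F) (he : Q e ≠ 0)
    (hΦ : ∀ x, Φ.S x = Cfsg.reflectionMatrix ⇑Q e *ᵥ x) :
    Φ.gam ∉ Cfsg.Inn (Cfsg.POmega F ⇑Q) := by
  intro h
  obtain ⟨c, hc1, hc2⟩ := of_gam_mem_Inn p Φ hσ h
  have hre : Cfsg.reflectionMatrix ⇑Q e *ᵥ e = -e := by
    rw [reflectionMatrix_mulVec, QuadraticMap.polar_self, nsmul_eq_mul, Nat.cast_ofNat]
    have : (Q e)⁻¹ * (2 * Q e) = 2 := by field_simp
    rw [this, two_smul]
    abel
  have hν : Φ.ν = 1 := by
    have h3 := Φ.form e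
    rw [hΦ, hre, hσ] at h3
    have h4 : Q (-e) = Q e := by
      have := Q_smul Q (-1) e
      rw [neg_one_smul] at this
      rw [this]; ring
    rw [h4] at h3
    change Q e = Φ.ν * Q e at h3
    have : (Φ.ν - 1) * Q e = 0 := by linear_combination -h3
    rcases mul_eq_zero.mp this with h5 | h5
    · linear_combination h5
    · exact absurd h5 he
  have hdt : Φ.dt = -1 := by
    unfold SemiSimO.dt
    have hmat : Φ.mat = Cfsg.reflectionMatrix ⇑Q e := by
      apply matrix_ext_mulVec
      intro x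
      rw [SemiSimO.mat_mulVec_of_refl Φ hσ, hΦ]
    rw [hmat]
    exact det_reflectionMatrix Q h2 e he
  obtain ⟨t, ht⟩ := heven
  rw [hν] at hc1
  rw [hdt, ht, ← two_mul, pow_mul, pow_two, ← hc1, one_pow] at hc2
  apply h2
  linear_combination -hc2

end reflodd

section frobf
variable (p : ℕ) [hp : Fact p.Prime] [hcp : CharP F p] (k : ℕ) (a b : F)

theorem epsD_not_isSquare (h2 : (2 : F) ≠ 0)
    (hab : ∀ z₁ z₂ : F, z₁ ^ 2 + a * z₁ * z₂ + b * z₂ ^ 2 = 0 → z₁ = 0 ∧ z₂ = 0) :
    ¬ IsSquare (epsD a b) := by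
  rintro ⟨s, hs⟩
  have := (hab (s - a / 2) 1 (by
    unfold epsD at hs
    field_simp
    field_simp at hs
    linear_combination -hs)).2
  exact one_ne_zero this

/-- the reflection vector -/
def wRefl : (Fin k ⊕ Fin k) ⊕ Fin 2 → F := Sum.elim 0 ![-(a / 2), 1]

theorem Q_wRefl (h2 : (2 : F) ≠ 0) : Qgen k (binForm a b) (wRefl k a) = -epsD a b := by
  rw [Qgen_apply, binForm_eq_diag a b h2]
  simp [wRefl]

theorem polar_wRefl (h2 : (2 : F) ≠ 0) (x : (Fin k ⊕ Fin k) ⊕ Fin 2 → F) :
    polar (⇑(Qgen k (binForm a b))) (wRefl k a) x = -2 * epsD a b * x (Sum.inr 1) := by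
  rw [polar_Qgen, polar_binForm]
  unfold epsD
  simp [wRefl]
  field_simp
  ring

include hp hcp in
/-- the `f`-th iterate of the Frobenius semisimilarity is a reflection -/
theorem frobPowOdd_f_S (hodd : Odd p) {f : ℕ} (hf : 1 ≤ f) (hF : Fintype.card F = p ^ f)
    (hab : ∀ z₁ z₂ : F, z₁ ^ 2 + a * z₁ * z₂ + b * z₂ ^ 2 = 0 → z₁ = 0 ∧ z₂ = 0)
    (x : (Fin k ⊕ Fin k) ⊕ Fin 2 → F) :
    (frobPowOdd p k a b hodd f).S x =
      Cfsg.reflectionMatrix ⇑(Qgen k (binForm a b)) (wRefl k a) *ᵥ x := by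
  have h2 := two_ne_zero_of_oddp (F := F) hodd
  have hns := epsD_not_isSquare a b h2 hab
  have he0 : epsD a b ≠ 0 := by
    intro h
    apply hns
    rw [h]
    exact ⟨0, (mul_zero 0).symm⟩
  have hchar : ringChar F ≠ 2 := by
    rw [ringChar.eq F p]
    intro h
    rw [h] at hodd
    exact absurd hodd (by decide)
  have hq : ∀ y : F, y ^ (p ^ f) = y := by
    intro y
    rw [← hF]
    exact FiniteField.pow_card y
  have hE : Ecf p a b f = -1 := by
    rw [Ecf_eq p a b hodd, ← hF]
    rcases FiniteField.pow_dichotomy hchar he0 with h | h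
    · exact absurd ((FiniteField.isSquare_iff hchar he0).mpr h) hns
    · exact h
  rw [frobPowOdd_S, reflectionMatrix_mulVec, Q_wRefl k a b h2, polar_wRefl k a b h2, hE]
  have e1 : (-epsD a b)⁻¹ * (-2 * epsD a b * x (Sum.inr 1)) = 2 * x (Sum.inr 1) := by
    field_simp
  rw [e1]
  funext i
  rcases i with i | i
  · simp [hq, wRefl]
  · fin_cases i
    · simp [hq, wRefl]
      field_simp
      ring
    · simp [hq, wRefl]
      ring

end frobf

section delta
variable (k : ℕ) (a b : F)

/-- a linear similarity with non-square multiplier -/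
theorem exists_nonsquare_sim (hodd : Odd (Fintype.card F)) (hk : 3 ≤ k)
    (hab : ∀ z₁ z₂ : F, z₁ ^ 2 + a * z₁ * z₂ + b * z₂ ^ 2 = 0 → z₁ = 0 ∧ z₂ = 0) :
    ∃ Δ : SemiSimO (Qgen k (binForm a b)), Δ.σ = RingEquiv.refl F ∧ ¬ IsSquare Δ.ν := by
  classical
  obtain ⟨h, hh⟩ := Cfsg.Agent.S2726.exists_sim hodd k a b hab _
    (T_nonsingular _ (minusTriple' F k (binForm a b) hk))
  refine ⟨{ S := fun x => ((h.1 : GL _ F) : Matrix _ _ F) *ᵥ x
            σ := RingEquiv.refl F
            ν := (mulr (Qgen k (binForm a b)) h : F)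
            hν := Units.ne_zero _
            add := fun x y => mulVec_add _ x y
            smul := fun c x => mulVec_smul _ c x
            form := fun x => mulr_spec _ h x }, rfl, hh⟩

/-- `-1 ∈ Ω` criterion for the minus type form -/
theorem negIso_mem_minus_iff (hodd : Odd (Fintype.card F))
    (hab : ∀ z₁ z₂ : F, z₁ ^ 2 + a * z₁ * z₂ + b * z₂ ^ 2 = 0 → z₁ = 0 ∧ z₂ = 0) :
    negIso (Qgen k (binForm a b)) ∈ Cfsg.Omega F ⇑(Qgen k (binForm a b)) ↔
      (Even k ∧ Fintype.card F % 4 = 3) := by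
  have hfun : Cfsg.quadFormMinus k F a b = ⇑(Qgen k (binForm a b)) := by
    funext v
    rw [Qgen_apply, binForm_apply]
    rfl
  have hneg := Cfsg.Agent.S0791.result (F := F) rfl hodd (k + 1) (by omega) a b hab
  rw [Nat.add_sub_cancel, hfun] at hneg
  have hiff := (exists_neg_iff (Qgen k (binForm a b))).symm.trans hneg
  have hq : Fintype.card F % 4 = 1 ∨ Fintype.card F % 4 = 3 := by
    obtain ⟨t, ht⟩ := hodd
    omega
  have hpow : Fintype.card F ^ (k + 1) % 4 = 3 ↔ (Even k ∧ Fintype.card F % 4 = 3) := by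
    rw [Nat.pow_mod]
    rcases hq with h | h
    · rw [h, one_pow]
      simp
    · rw [h]
      rcases Nat.even_or_odd k with he | ho
      · obtain ⟨t, rfl⟩ := he
        have : 3 ^ (t + t + 1) % 4 = 3 := by
          rw [← two_mul, pow_succ, pow_mul, Nat.mul_mod, Nat.pow_mod]
          norm_num
        rw [this]
        simp only [true_iff]
        exact ⟨⟨t, rfl⟩, trivial⟩
      · obtain ⟨t, rfl⟩ := ho
        have : 3 ^ (2 * t + 1 + 1) % 4 = 1 := by
          have : 2 * t + 1 + 1 = 2 * (t + 1) := by ring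
          rw [this, pow_mul, Nat.pow_mod]
          norm_num
        rw [this]
        simp only [Nat.reduceEqDiff, false_iff, not_and]
        intro he
        exact absurd he (by rw [Nat.not_even_iff_odd]; exact ⟨t, rfl⟩)
  exact hiff.trans hpow

end delta

end Cfsg.Agent.Lib.Helper6.AutOrt
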