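import Mathlib
import Cfsg.Agent.Lib.Helper6.AutOrt18

/-!
# Automorphisms of orthogonal groups, part 29: group theory for the structure of `Out`
-/

set_option autoImplicit false
set_option linter.unusedSectionVars false
set_option linter.unusedVariables false

namespace Cfsg.Agent.Lib.Helper6.AutOrt

section prod

/-- internal direct product of two commuting subgroups -/
theorem nonempty_mulEquiv_prod {G : Type*} [Group G] [Finite G] (H K : Subgroup G)
    (hcomm : ∀ h ∈ H, ∀ k ∈ K, h * k = k * h) (hdisj : ∀ g, g ∈ H → g ∈ K → g = 1)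
    (hcard : Nat.card G ≤ Nat.card H * Nat.card K) : Nonempty (G ≃* ↥H × ↥K) := by
  let φ : ↥H × ↥K →* G := MonoidHom.noncommCoprod H.subtype K.subtype
    (fun h k => hcomm h.1 h.2 k.1 k.2)
  have hφ : ∀ x : ↥H × ↥K, φ x = (x.1 : G) * (x.2 : G) := fun x => rfl
  have hinj : Function.Injective φ := by
    rw [injective_iff_map_eq_one]
    intro x hx
    rw [hφ] at hx
    have h1 : (x.1 : G) = ((x.2 : G))⁻¹ := eq_inv_of_mul_eq_one_left hx
    have h2 : (x.1 : G) = 1 := hdisj _ x.1.2 (by rw [h1]; exact K.inv_mem x.2.2)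
    have h3 : (x.2 : G) = 1 := by
      rw [h2, one_mul] at hx
      exact hx
    apply Prod.ext
    · exact Subtype.ext h2
    · exact Subtype.ext h3
  have hbij : Function.Bijective φ := by
    apply Function.Injective.bijective_of_nat_card_le hinj
    rw [Nat.card_prod]
    exact hcard
  exact ⟨(MulEquiv.ofBijective φ hbij).symm⟩

theorem nonempty_zpowers_mulEquiv {G : Type*} [Group G] (x : G) (n : ℕ) (h : orderOf x = n) :
    Nonempty (↥(Subgroup.zpowers x) ≃* Multiplicative (ZMod n)) := by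
  have e := zmodCyclicMulEquiv (inferInstance : IsCyclic ↥(Subgroup.zpowers x))
  rw [Nat.card_zpowers, h] at e
  exact ⟨e.symm⟩

end prod

section d4

open DihedralGroup

theorem d4_aux1 : ∀ g : DihedralGroup 4, g ^ 2 ≠ 1 → g = r 1 ∨ g = r 3 := by decide

theorem d4_aux2 : ∀ (c i : ZMod 4), (c = 1 ∨ c = 3) → c * i = 0 → i = 0 := by decide

/-- an automorphism of odd order of the dihedral group of order eight is trivial -/
theorem d4_aut_trivial (β : MulAut (DihedralGroup 4)) {f : ℕ} (hf : Odd f) (h : β ^ f = 1) :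
    β = 1 := by
  obtain ⟨t, ht⟩ := hf
  have hβ : β = (β ^ 2) ^ (t + 1) := by
    rw [← pow_mul]
    have : 2 * (t + 1) = f + 1 := by omega
    rw [this, pow_succ, h, one_mul]
  -- `β²` fixes `r 1`
  have h1 : (β ^ 2) (r 1) = r 1 := by
    have h2 : β (r 1) ^ 2 ≠ 1 := by
      rw [← map_pow]
      intro h3
      have h4 : (r (1 : ZMod 4)) ^ 2 = 1 := β.injective (by rw [h3, map_one])
      revert h4
      decide
    rw [pow_two, MulAut.mul_apply]
    rcases d4_aux1 _ h2 with h3 | h3
    · rw [h3, h3]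
    · rw [h3]
      have h5 : (r (3 : ZMod 4)) = (r 1) ^ 3 := by decide
      rw [h5, map_pow, h3]
      decide
  have h2 : ∀ n : ℕ, ((β ^ 2) ^ n) (r 1) = r 1 := by
    intro n
    induction n with
    | zero => simp
    | succ n ih => rw [pow_succ, MulAut.mul_apply, h1, ih]
  have h3 : β (r 1) = r 1 := by
    rw [hβ]
    exact h2 _
  have h4 : ∀ j : ZMod 4, β (r j) = r j := by
    intro j
    have : (r j : DihedralGroup 4) = (r 1) ^ j.val := by
      rw [r_one_pow, ZMod.natCast_zmod_val]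
    rw [this, map_pow, h3]
  -- the image of `sr 0`
  have h5 : ∃ i₀ : ZMod 4, β (sr 0) = sr i₀ := by
    cases hb : β (sr 0) with
    | r j =>
      exfalso
      rw [← h4 j] at hb
      have := β.injective hb
      cases this
    | sr i => exact ⟨i, rfl⟩
  obtain ⟨i₀, hi₀⟩ := h5
  have h6 : ∀ j : ZMod 4, β (sr j) = sr (i₀ + j) := by
    intro j
    have : (sr j : DihedralGroup 4) = sr 0 * r j := by
      rw [sr_mul_r, zero_add]
    rw [this, map_mul, hi₀, h4, sr_mul_r]
  have h7 : ∀ n : ℕ, (β ^ n) (sr 0) = sr ((n : ZMod 4) * i₀) := by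
    intro n
    induction n with
    | zero => simp
    | succ n ih =>
      rw [pow_succ', MulAut.mul_apply, ih, h6]
      congr 1
      push_cast
      ring
  have h8 := h7 f
  rw [h, MulAut.one_apply] at h8
  have h9 : (f : ZMod 4) * i₀ = 0 := by
    have := sr.inj h8
    exact this.symm
  have h10 : ((f : ZMod 4) = 1 ∨ (f : ZMod 4) = 3) := by
    rw [ht]
    have h11 : ∀ c : ZMod 4, (2 * c + 1 = 1 ∨ 2 * c + 1 = 3) := by decide
    push_cast
    exact h11 _
  have h11 := d4_aux2 _ _ h10 h9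
  rw [h11] at h6
  ext g
  cases g with
  | r j => rw [h4]; rfl
  | sr j => rw [h6, zero_add]; rfl

end d4

section struc

/-- the structure `D₈ × Z_f` -/
theorem nonempty_mulEquiv_D4_Zf {G A : Type*} [Group G] [Group A] [Finite G] {f : ℕ}
    (hf : 1 ≤ f) (hodd : Odd f) (hcard : Nat.card G = 8 * f) (ψ : G →* A) (x : G)
    (hord : orderOf (ψ x) = f) (e : ↥ψ.ker ≃* DihedralGroup 4) :
    Nonempty (G ≃* DihedralGroup 4 × Multiplicative (ZMod f)) := by
  have hN : Nat.card ↥ψ.ker = 8 := by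
    rw [Nat.card_congr e.toEquiv, Nat.card_eq_fintype_card, DihedralGroup.card]
  have hcop : Nat.Coprime 8 f := by
    have : Nat.Coprime 2 f := Nat.coprime_two_left.mpr hodd
    exact Nat.Coprime.pow_left 3 this
  have hφ : 1 ≤ Nat.totient f := Nat.totient_pos.mpr (by omega)
  set y := x ^ (8 ^ Nat.totient f) with hy
  have hmod : 8 ^ Nat.totient f ≡ 1 [MOD f] := Nat.ModEq.pow_totient hcop
  have hψy : ψ y = ψ x := by
    rw [hy, map_pow]
    have : (ψ x) ^ (8 ^ Nat.totient f) = (ψ x) ^ 1 := by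
      rw [pow_eq_pow_iff_modEq, hord]
      exact hmod
    rw [this, pow_one]
  have hxf : x ^ f ∈ ψ.ker := by
    rw [MonoidHom.mem_ker, map_pow, ← hord, pow_orderOf_eq_one]
  have hxf8 : (x ^ f) ^ 8 = 1 := by
    have h1 : (⟨x ^ f, hxf⟩ : ↥ψ.ker) ^ 8 = 1 := by
      rw [← hN]
      exact pow_card_eq_one'
    exact congrArg Subtype.val h1
  have hyf : y ^ f = 1 := by
    rw [hy, ← pow_mul, mul_comm, pow_mul]
    obtain ⟨s, hs⟩ := Nat.exists_eq_succ_of_ne_zero (by omega : Nat.totient f ≠ 0)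
    rw [hs, pow_succ', pow_mul, hxf8, one_pow]
  have hordy : orderOf y = f := by
    apply Nat.dvd_antisymm (orderOf_dvd_of_pow_eq_one hyf)
    rw [← hord, ← hψy]
    exact orderOf_map_dvd ψ y
  -- conjugation by `y` on the kernel
  have hcomm : ∀ n ∈ ψ.ker, y * n = n * y := by
    set α : MulAut ↥ψ.ker := MulAut.conjNormal y with hα
    have hαf : α ^ f = 1 := by
      rw [hα, ← map_pow, hyf, map_one]
    have hβ : (MulAut.congr e α) ^ f = 1 := by
      rw [← map_pow, hαf, map_one]
    have h1 := d4_aut_trivial _ hodd hβ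
    have h2 : α = 1 := by
      have := (MulAut.congr e).injective (h1.trans (map_one (MulAut.congr e)).symm)
      exact this
    intro n hn
    have h3 := congrArg (fun γ : MulAut ↥ψ.ker => ((γ ⟨n, hn⟩ : ↥ψ.ker) : G)) h2
    simp only [hα, MulAut.conjNormal_apply, MulAut.one_apply] at h3
    calc y * n = (y * n * y⁻¹) * y := by group
      _ = n * y := by rw [h3]
  obtain ⟨e1⟩ := nonempty_mulEquiv_prod ψ.ker (Subgroup.zpowers y)
    (by
      intro n hn z hz
      obtain ⟨j, rfl⟩ := Subgroup.mem_zpowers_iff.mp hz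
      have : Commute n y := (hcomm n hn).symm
      exact (this.zpow_right j))
    (by
      intro g hg hz
      obtain ⟨j, rfl⟩ := Subgroup.mem_zpowers_iff.mp hz
      rw [MonoidHom.mem_ker, map_zpow, hψy] at hg
      have h1 := (orderOf_dvd_iff_zpow_eq_one).mpr hg
      rw [hord, ← hordy] at h1
      exact (orderOf_dvd_iff_zpow_eq_one).mp h1)
    (by rw [hN, Nat.card_zpowers, hordy, hcard])
  obtain ⟨e2⟩ := nonempty_zpowers_mulEquiv y f hordy
  exact ⟨e1.trans (MulEquiv.prodCongr e e2)⟩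

/-- the structure `Z₂ × Z_{2f}` -/
theorem nonempty_mulEquiv_Z2_Z2f {G A : Type*} [Group G] [Group A] [Finite G] {f : ℕ}
    (hf : 1 ≤ f) (hcard : Nat.card G = 4 * f) (ψ : G →* A) (x d : G)
    (hord : orderOf (ψ x) = f) (hxf : x ^ f ≠ 1) (hker2 : ∀ n ∈ ψ.ker, n ^ 2 = 1)
    (hψd : ψ d = 1) (hd1 : d ≠ 1) (hdx : d ≠ x ^ f) (hcomm : d * x = x * d) :
    Nonempty (G ≃* Multiplicative (ZMod 2 × ZMod (2 * f))) := by
  have hxfk : x ^ f ∈ ψ.ker := by
    rw [MonoidHom.mem_ker, map_pow, ← hord, pow_orderOf_eq_one]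
  have hx2f : x ^ (2 * f) = 1 := by
    rw [mul_comm, pow_mul]
    exact hker2 _ hxfk
  have hd2 : d ^ 2 = 1 := hker2 d hψd
  have hordd : orderOf d = 2 := orderOf_eq_prime hd2 hd1
  have hordx : orderOf x = 2 * f := by
    have h1 : f ∣ orderOf x := by
      rw [← hord]
      exact orderOf_map_dvd ψ x
    have h2 : orderOf x ∣ 2 * f := orderOf_dvd_of_pow_eq_one hx2f
    obtain ⟨t, ht⟩ := h1
    have h3 : t ∣ 2 := by
      rw [ht, mul_comm 2 f] at h2
      exact Nat.dvd_of_mul_dvd_mul_left (by omega) h2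
    have h4 : t = 1 ∨ t = 2 := by
      have := Nat.le_of_dvd (by norm_num) h3
      interval_cases t
      · simp at h3
      · left; rfl
      · right; rfl
    rcases h4 with rfl | rfl
    · exfalso
      apply hxf
      rw [mul_one] at ht
      rw [← ht]
      exact pow_orderOf_eq_one x
    · rw [ht, mul_comm]
  obtain ⟨e1⟩ := nonempty_mulEquiv_prod (Subgroup.zpowers d) (Subgroup.zpowers x)
    (by
      intro u hu z hz
      obtain ⟨i, rfl⟩ := Subgroup.mem_zpowers_iff.mp hu
      obtain ⟨j, rfl⟩ := Subgroup.mem_zpowers_iff.mp hz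
      have : Commute d x := hcomm
      exact (this.zpow_zpow i j))
    (by
      intro g hg hz
      obtain ⟨i, rfl⟩ := Subgroup.mem_zpowers_iff.mp hg
      obtain ⟨j, hj⟩ := Subgroup.mem_zpowers_iff.mp hz
      -- `d ^ i` is `1` or `d`
      have h1 : d ^ i = 1 ∨ d ^ i = d := by
        rcases Int.even_or_odd' i with ⟨s, hs | hs⟩
        · left
          rw [hs, zpow_mul, zpow_ofNat, hd2, one_zpow]
        · right
          rw [hs, zpow_add, zpow_mul, zpow_ofNat, hd2, one_zpow, one_mul, zpow_one]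
      rcases h1 with h1 | h1
      · exact h1
      · exfalso
        have h2 : ψ (x ^ j) = 1 := by rw [hj, h1, hψd]
        rw [map_zpow] at h2
        have h3 := (orderOf_dvd_iff_zpow_eq_one).mpr h2
        rw [hord] at h3
        obtain ⟨s, hs⟩ := h3
        have h4 : x ^ j = 1 ∨ x ^ j = x ^ f := by
          rw [hs, zpow_mul, zpow_natCast]
          have hxf2 : (x ^ f) ^ 2 = 1 := hker2 _ hxfk
          rcases Int.even_or_odd' s with ⟨u, hu | hu⟩
          · left
            rw [hu, zpow_mul, zpow_ofNat, hxf2, one_zpow]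
          · right
            rw [hu, zpow_add, zpow_mul, zpow_ofNat, hxf2, one_zpow, one_mul, zpow_one]
        rw [hj, h1] at h4
        rcases h4 with h4 | h4
        · exact hd1 h4
        · exact hdx h4)
    (by rw [Nat.card_zpowers, Nat.card_zpowers, hordd, hordx, hcard]; ring_nf; rfl)
  obtain ⟨e2⟩ := nonempty_zpowers_mulEquiv d 2 hordd
  obtain ⟨e3⟩ := nonempty_zpowers_mulEquiv x (2 * f) hordx
  exact ⟨(e1.trans (MulEquiv.prodCongr e2 e3)).trans (prodMulEquiv (ZMod 2) (ZMod (2 * f)))⟩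

/-- the kernel of the induced map on the quotient -/
theorem ker_lift_equiv {G A B : Type*} [Group G] [Group A] [Group B] (I P : Subgroup G)
    [I.Normal] (ψ : G →* A) (hP : ψ.ker = P) (hI : I ≤ ψ.ker) (φ : ↥P →* B)
    (hφ : Function.Surjective φ) (hker : φ.ker = I.subgroupOf P) :
    Nonempty (↥(QuotientGroup.lift I ψ hI).ker ≃* B) := by
  subst hP
  set θ : ↥ψ.ker →* G ⧸ I := (QuotientGroup.mk' I).comp ψ.ker.subtype with hθ
  have hθker : θ.ker = I.subgroupOf ψ.ker := by
    ext g
    rw [MonoidHom.mem_ker, Subgroup.mem_subgroupOf]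
    change (QuotientGroup.mk (g : G) : G ⧸ I) = 1 ↔ _
    exact QuotientGroup.eq_one_iff _
  have hθrange : θ.range = (QuotientGroup.lift I ψ hI).ker := by
    ext y
    constructor
    · rintro ⟨g, rfl⟩
      rw [MonoidHom.mem_ker]
      change ψ (g : G) = 1
      exact g.2
    · intro hy
      obtain ⟨g, rfl⟩ := QuotientGroup.mk_surjective y
      rw [MonoidHom.mem_ker, QuotientGroup.lift_mk] at hy
      exact ⟨⟨g, hy⟩, rfl⟩
  exact ⟨(MulEquiv.subgroupCongr hθrange.symm).trans
    ((QuotientGroup.quotientKerEquivRange θ).symm.trans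
      ((QuotientGroup.quotientMulEquivOfEq (hθker.trans hker.symm)).trans
        (QuotientGroup.quotientKerEquivOfSurjective φ hφ)))⟩

theorem comm_of_comm_mem {G : Type*} [Group G] (N : Subgroup G) [N.Normal] (a b : G)
    (h : a * b * a⁻¹ * b⁻¹ ∈ N) :
    (QuotientGroup.mk b : G ⧸ N) * QuotientGroup.mk a = QuotientGroup.mk a * QuotientGroup.mk b := by
  have h3 : (QuotientGroup.mk (a * b * a⁻¹ * b⁻¹) : G ⧸ N) = 1 := (QuotientGroup.eq_one_iff _).mpr h
  rw [QuotientGroup.mk_mul, QuotientGroup.mk_mul, QuotientGroup.mk_mul, QuotientGroup.mk_inv,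
    QuotientGroup.mk_inv] at h3
  have h4 := mul_inv_eq_one.mp h3
  have h6 := mul_inv_eq_iff_eq_mul.mp h4
  exact h6.symm

theorem pow_two_eq_one_of_equiv {N : Type*} [Group N] (e : N ≃* Multiplicative (ZMod 2 × ZMod 2))
    (n : N) : n ^ 2 = 1 := by
  have h1 : e (n ^ 2) = 1 := by
    rw [map_pow]
    generalize e n = z
    revert z
    decide
  exact e.injective (h1.trans (map_one e).symm)

end struc

end Cfsg.Agent.Lib.Helper6.AutOrt
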