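import Mathlib
import Cfsg.Agent.Lib.Helper6.AutPSp10

/-!
# Automorphisms of `PSp_{2m}(q)`, part A: the group of semilinear similitudes and the structure
of the image of `PΓSp`
-/

set_option autoImplicit false
set_option linter.unusedSectionVars false
set_option linter.unusedVariables false
open Cfsg

namespace Cfsg.Agent.Lib.Helper6.AutPSp

open Matrix Cfsg.Agent.Lib.Helper6 Cfsg.Agent.Lib.Helper6.SympRoot Cfsg.Agent.Lib.Helper6.AutPSL

section
variable {m : ℕ} {F : Type*} [Field F]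

set_option quotPrecheck false in
local notation "SpG" => ↥(Matrix.symplecticGroup (Fin m) F)
local notation "Vec" => (Fin m ⊕ Fin m → F)
local notation "Bf" => Cfsg.sympForm m F
local notation "Mat" => Matrix (Fin m ⊕ Fin m) (Fin m ⊕ Fin m) F

theorem cP_congr (g g' : GL (Fin m ⊕ Fin m) F) (hg : g ∈ Cfsg.GSp m F) (hg' : g' ∈ Cfsg.GSp m F)
    (h : g = g') : cP g hg = cP g' hg' := by
  subst h
  rfl

theorem mat_ext_mulVec {A C : Mat} (h : ∀ x : Vec, A *ᵥ x = C *ᵥ x) : A = C := by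
  ext i j
  have := congrFun (h (Pi.single j 1)) i
  simpa using this

namespace SemiSim

/-- the semilinear similitude of a pair -/
noncomputable def ofPair (g : GL (Fin m ⊕ Fin m) F) (hg : g ∈ Cfsg.GSp m F) (σ : F ≃+* F) :
    SemiSim m F where
  S x := (g : Mat) *ᵥ (fun i => σ (x i))
  σ := σ
  ν := ((Classical.choose hg : Fˣ) : F)
  hν := Units.ne_zero _
  add x y := by
    rw [← mulVec_add]
    congr 1
    funext i
    simp
  smul a x := by
    rw [← mulVec_smul]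
    congr 1
    funext i
    simp
  form x y := by
    rw [Classical.choose_spec hg, sympForm_map]

theorem ofPair_S (g : GL (Fin m ⊕ Fin m) F) (hg : g ∈ Cfsg.GSp m F) (σ : F ≃+* F) (x : Vec) :
    (ofPair g hg σ).S x = (g : Mat) *ᵥ (fun i => σ (x i)) := rfl

theorem ofPair_σ (g : GL (Fin m ⊕ Fin m) F) (hg : g ∈ Cfsg.GSp m F) (σ : F ≃+* F) :
    (ofPair g hg σ).σ = σ := rfl

theorem ofPair_gl (g : GL (Fin m ⊕ Fin m) F) (hg : g ∈ Cfsg.GSp m F) (σ : F ≃+* F) :
    (ofPair g hg σ).gl = g := by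
  apply Units.ext
  rw [gl_val]
  apply mat_ext_mulVec
  intro x
  rw [mat_mulVec, ofPair_S]
  congr 1
  funext i
  change σ (σ.symm (x i)) = x i
  simp

theorem gam_ofPair (g : GL (Fin m ⊕ Fin m) F) (hg : g ∈ Cfsg.GSp m F) (σ : F ≃+* F) :
    (ofPair g hg σ).gam = cP g hg * fP σ := by
  unfold gam
  rw [cP_congr _ g _ hg (ofPair_gl g hg σ)]
  rfl

theorem eq_gam_of_induced (g : GL (Fin m ⊕ Fin m) F) (hg : g ∈ Cfsg.GSp m F) (σ : F ≃+* F)
    (β : MulAut (Cfsg.PSp m F)) (hβ : Cfsg.IsInducedBySemilinearPSp g σ β) :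
    β = (ofPair g hg σ).gam := by
  rw [gam_ofPair]
  ext x
  obtain ⟨s, rfl⟩ := pu_surjective x
  change β (pu s) = cP g hg (fP σ (pu s))
  rw [fP_mk, cP_mk]
  exact hβ s _ rfl

variable [Fintype F]

theorem gam_eq_of_S_eq (Φ Ψ : SemiSim m F) (h : ∀ x, Φ.S x = Ψ.S x) : Φ.gam = Ψ.gam := by
  ext x
  obtain ⟨s, rfl⟩ := pu_surjective x
  rw [Ψ.gam_pu]
  apply Φ.gam_eq_of
  intro y
  rw [h, h, Ψ.av_gam]

theorem gam_eq_one_of_smul (Φ : SemiSim m F) (c : F) (h : ∀ x, Φ.S x = c • x) : Φ.gam = 1 := by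
  ext x
  obtain ⟨s, rfl⟩ := pu_surjective x
  change Φ.gam (pu s) = pu s
  apply Φ.gam_eq_of
  intro y
  rw [h, h, av_smul]

/-- composition -/
def comp (Φ Ψ : SemiSim m F) : SemiSim m F where
  S x := Φ.S (Ψ.S x)
  σ := Ψ.σ.trans Φ.σ
  ν := Φ.ν * Φ.σ Ψ.ν
  hν := mul_ne_zero Φ.hν ((map_ne_zero _).mpr Ψ.hν)
  add x y := by rw [Ψ.add, Φ.add]
  smul a x := by
    rw [Ψ.smul, Φ.smul]
    rfl
  form x y := by
    rw [Φ.form, Ψ.form, map_mul]
    change _ = _ * Φ.σ (Ψ.σ (Bf x y))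
    ring

theorem comp_S (Φ Ψ : SemiSim m F) (x : Vec) : (Φ.comp Ψ).S x = Φ.S (Ψ.S x) := rfl

theorem comp_σ (Φ Ψ : SemiSim m F) : (Φ.comp Ψ).σ = Ψ.σ.trans Φ.σ := rfl

theorem gam_comp (Φ Ψ : SemiSim m F) : (Φ.comp Ψ).gam = Φ.gam * Ψ.gam := by
  ext x
  obtain ⟨s, rfl⟩ := pu_surjective x
  change _ = Φ.gam (Ψ.gam (pu s))
  rw [Ψ.gam_pu, Φ.gam_pu]
  apply (Φ.comp Ψ).gam_eq_of
  intro y
  rw [comp_S, comp_S, Φ.av_gam, Ψ.av_gam]

/-- the identity -/
def one (m : ℕ) (F : Type*) [Field F] : SemiSim m F where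
  S x := x
  σ := RingEquiv.refl F
  ν := 1
  hν := one_ne_zero
  add x y := rfl
  smul a x := rfl
  form x y := by
    rw [one_mul]
    rfl

theorem gam_one : (one m F).gam = 1 := by
  apply gam_eq_one_of_smul _ 1
  intro x
  rw [one_smul]
  rfl

/-- the inverse map -/
noncomputable def Sinv (Φ : SemiSim m F) : Vec → Vec := Function.surjInv Φ.S_surjective

theorem S_Sinv (Φ : SemiSim m F) (x : Vec) : Φ.S (Φ.Sinv x) = x :=
  Function.surjInv_eq Φ.S_surjective x

theorem Sinv_S (Φ : SemiSim m F) (x : Vec) : Φ.Sinv (Φ.S x) = x :=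
  Φ.S_injective (Φ.S_Sinv _)

/-- the inverse -/
noncomputable def symm (Φ : SemiSim m F) : SemiSim m F where
  S := Φ.Sinv
  σ := Φ.σ.symm
  ν := Φ.σ.symm (Φ.ν⁻¹)
  hν := (map_ne_zero _).mpr (inv_ne_zero Φ.hν)
  add x y := by
    apply Φ.S_injective
    rw [Φ.add, S_Sinv, S_Sinv, S_Sinv]
  smul a x := by
    apply Φ.S_injective
    rw [Φ.smul, S_Sinv, S_Sinv, RingEquiv.apply_symm_apply]
  form x y := by
    have h1 := Φ.form (Φ.Sinv x) (Φ.Sinv y)
    rw [S_Sinv, S_Sinv] at h1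
    rw [← map_mul, h1, ← mul_assoc, inv_mul_cancel₀ Φ.hν, one_mul, RingEquiv.symm_apply_apply]

theorem symm_S (Φ : SemiSim m F) (x : Vec) : Φ.symm.S x = Φ.Sinv x := rfl

theorem symm_σ (Φ : SemiSim m F) : Φ.symm.σ = Φ.σ.symm := rfl

theorem gam_symm (Φ : SemiSim m F) : Φ.symm.gam = Φ.gam⁻¹ := by
  have h1 : Φ.symm.gam * Φ.gam = 1 := by
    rw [← gam_comp]
    apply gam_eq_one_of_smul _ 1
    intro x
    rw [comp_S, symm_S, Sinv_S, one_smul]
  exact eq_inv_of_mul_eq_one_left h1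

/-- the semilinear similitude of an element of `Sp` -/
def ofSp (g : SpG) : SemiSim m F where
  S x := av g x
  σ := RingEquiv.refl F
  ν := 1
  hν := one_ne_zero
  add x y := av_add g x y
  smul a x := av_smul g a x
  form x y := by
    rw [B_av, one_mul]
    rfl

theorem gam_ofSp (g : SpG) : (ofSp g).gam = MulAut.conj (pu g) := by
  ext x
  obtain ⟨s, rfl⟩ := pu_surjective x
  rw [MulAut.conj_apply, ← map_mul, ← map_inv, ← map_mul]
  apply (ofSp g).gam_eq_of
  intro y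
  change av (g * s * g⁻¹) (av g y) = av g (av s y)
  rw [av_mul, av_mul, av_inv_av]

/-- the field automorphism as a semilinear similitude -/
def ofField (σ : F ≃+* F) : SemiSim m F where
  S x := fun i => σ (x i)
  σ := σ
  ν := 1
  hν := one_ne_zero
  add x y := by
    funext i
    simp
  smul a x := by
    funext i
    simp
  form x y := by
    rw [one_mul, sympForm_map]

theorem ofField_σ (σ : F ≃+* F) : (ofField σ : SemiSim m F).σ = σ := rfl

end SemiSim

variable [Fintype F]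

/-- every element of the image of `PΓSp` is attached to a semilinear similitude -/
theorem exists_semi_of_mem (β : MulAut (Cfsg.PSp m F)) (hβ : β ∈ Cfsg.gammaPSp m F) :
    ∃ Φ : SemiSim m F, Φ.gam = β := by
  unfold Cfsg.gammaPSp Cfsg.autSubgroupOf at hβ
  induction hβ using Subgroup.closure_induction with
  | mem x hx =>
    obtain ⟨g, σ, h1, h2⟩ := hx
    exact ⟨SemiSim.ofPair g h1 σ, (SemiSim.eq_gam_of_induced g h1 σ x h2).symm⟩
  | one => exact ⟨SemiSim.one m F, SemiSim.gam_one⟩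
  | mul x y hx hy ihx ihy =>
    obtain ⟨Φ, rfl⟩ := ihx
    obtain ⟨Ψ, rfl⟩ := ihy
    exact ⟨Φ.comp Ψ, SemiSim.gam_comp Φ Ψ⟩
  | inv x hx ih =>
    obtain ⟨Φ, rfl⟩ := ih
    exact ⟨Φ.symm, SemiSim.gam_symm Φ⟩

theorem mem_gamma_iff (β : MulAut (Cfsg.PSp m F)) :
    β ∈ Cfsg.gammaPSp m F ↔ ∃ Φ : SemiSim m F, Φ.gam = β :=
  ⟨exists_semi_of_mem β, fun ⟨Φ, h⟩ => h ▸ Φ.gam_mem⟩

/-- two vectors are not both orthogonal to everything -/
theorem exists_common (u v : Vec) (hu : u ≠ 0) (hv : v ≠ 0) :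
    ∃ w : Vec, Bf u w ≠ 0 ∧ Bf v w ≠ 0 := by
  obtain ⟨w1, hw1⟩ := Cfsg.Agent.S0768.nondeg u hu
  obtain ⟨w2, hw2⟩ := Cfsg.Agent.S0768.nondeg v hv
  by_cases h1 : Bf v w1 = 0
  · by_cases h2 : Bf u w2 = 0
    · refine ⟨w1 + w2, ?_, ?_⟩
      · rw [sympForm_add_right, hw1, h2, add_zero]
        exact one_ne_zero
      · rw [sympForm_add_right, hw2, h1, zero_add]
        exact one_ne_zero
    · exact ⟨w2, h2, by rw [hw2]; exact one_ne_zero⟩
  · exact ⟨w1, by rw [hw1]; exact one_ne_zero, h1⟩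

/-- an additive map fixing all lines is a scalar -/
theorem scalar_of_fix_lines (T : Vec → Vec) (hadd : ∀ x y, T (x + y) = T x + T y)
    (hfix : ∀ u : Vec, ∃ d : F, T u = d • u) : ∃ c : F, ∀ x, T x = c • x := by
  classical
  by_cases hex : ∃ u₀ : Vec, u₀ ≠ 0
  swap
  · push Not at hex
    refine ⟨0, fun x => ?_⟩
    obtain ⟨d, hd⟩ := hfix x
    rw [hd, hex x, smul_zero, smul_zero]
  obtain ⟨u₀, hu₀⟩ := hex
  choose d hd using hfix
  have key : ∀ u v : Vec, Bf u v ≠ 0 → d u = d v := by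
    intro u v huv
    have h1 := hadd u v
    rw [hd, hd u, hd v] at h1
    have h2 : (d (u + v) - d u) • u + (d (u + v) - d v) • v = 0 := by
      have : (d (u + v) - d u) • u + (d (u + v) - d v) • v =
          d (u + v) • (u + v) - (d u • u + d v • v) := by module
      rw [this, h1, sub_self]
    have h3 := congrArg (fun z => Bf z v) h2
    simp only [sympForm_add_left, sympForm_smul_left, B_self, sympForm_zero_left, mul_zero,
      add_zero] at h3
    have h4 := congrArg (fun z => Bf u z) h2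
    simp only [sympForm_add_right, sympForm_smul_right, B_self, sympForm_zero_right, mul_zero,
      zero_add] at h4
    have h5 : d (u + v) = d u := by
      rcases mul_eq_zero.mp h3 with h | h
      · exact sub_eq_zero.mp h
      · exact absurd h huv
    have h6 : d (u + v) = d v := by
      rcases mul_eq_zero.mp h4 with h | h
      · exact sub_eq_zero.mp h
      · exact absurd h huv
    rw [← h5, h6]
  refine ⟨d u₀, fun x => ?_⟩
  by_cases hx : x = 0
  · rw [hx, smul_zero]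
    obtain h := hadd 0 0
    rw [add_zero] at h
    exact left_eq_add.mp h
  · obtain ⟨w, h1, h2⟩ := exists_common x u₀ hx hu₀
    rw [hd, key x w h1, ← key u₀ w h2]

end

end Cfsg.Agent.Lib.Helper6.AutPSp
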