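import Mathlib
import Cfsg.Agent.Lib.Helper6.AutSpA
import Cfsg.Agent.Lib.Helper6.AutOrt19

/-!
# Automorphisms of `PSp_{2m}(q)`, part B: the order of the image of `PΓSp`
-/

set_option autoImplicit false
set_option linter.unusedSectionVars false
set_option linter.unusedVariables false
open Cfsg

namespace Cfsg.Agent.Lib.Helper6.AutPSp

open Matrix Cfsg.Agent.Lib.Helper6 Cfsg.Agent.Lib.Helper6.SympRoot Cfsg.Agent.Lib.Helper6.AutPSL

section
variable {m : ℕ} {F : Type*} [Field F] [Fintype F]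

set_option quotPrecheck false in
local notation "SpG" => ↥(Matrix.symplecticGroup (Fin m) F)
local notation "Vec" => (Fin m ⊕ Fin m → F)
local notation "Bf" => Cfsg.sympForm m F
local notation "Mat" => Matrix (Fin m ⊕ Fin m) (Fin m ⊕ Fin m) F

theorem img_one' {G : Type*} [Group G] (H : Subgroup G) : img (1 : MulAut G) H = H := by
  ext x
  rw [mem_img]
  constructor
  · rintro ⟨y, hy, rfl⟩
    exact hy
  · intro hx
    exact ⟨x, hx, rfl⟩

theorem scalar_val (c : Fˣ) :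
    ((Matrix.GeneralLinearGroup.scalar (Fin m ⊕ Fin m) c : GL (Fin m ⊕ Fin m) F) : Mat) =
      (c : F) • 1 := by
  ext i j
  simp [Matrix.GeneralLinearGroup.scalar, Matrix.scalar, Matrix.diagonal_apply, Matrix.one_apply]

theorem exists_ne_zero_vec (hm : 1 ≤ m) : ∃ u : Vec, u ≠ 0 := by
  refine ⟨Pi.single (Sum.inl ⟨0, by omega⟩) 1, ?_⟩
  intro h
  have := congrFun h (Sum.inl ⟨0, by omega⟩)
  simp at this

section charp
variable (p : ℕ) [hp : Fact p.Prime] [hcp : CharP F p] (hm : 1 ≤ m)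
include hp hcp hm

/-- a semilinear similitude acting trivially on `PSp` is a scalar -/
theorem scalar_of_gam_eq_one (Φ : SemiSim m F) (h : Φ.gam = 1) :
    Φ.σ = RingEquiv.refl F ∧ ∃ c : F, c ≠ 0 ∧ ∀ x, Φ.S x = c • x := by
  have h3 : ∀ u : Vec, ∃ d : F, Φ.S u = d • u := by
    intro u
    by_cases hu0 : u = 0
    · exact ⟨0, by rw [hu0, Φ.S_zero, smul_zero]⟩
    have h1 := Φ.img_gam_Rb u
    rw [h, img_one'] at h1
    obtain ⟨a, ha0, ha⟩ := Rb_le_imp p hm u (Φ.S u) hu0 (le_of_eq h1)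
    refine ⟨a⁻¹, ?_⟩
    rw [ha, smul_smul, inv_mul_cancel₀ ha0, one_smul]
    rw [← ha]
  obtain ⟨c, hc⟩ := scalar_of_fix_lines Φ.S Φ.add h3
  obtain ⟨u₀, hu₀0⟩ := exists_ne_zero_vec (F := F) hm
  have hc0 : c ≠ 0 := by
    rintro rfl
    have h4 := hc u₀
    rw [zero_smul, ← Φ.S_zero] at h4
    exact hu₀0 (Φ.S_injective h4)
  refine ⟨?_, c, hc0, hc⟩
  ext a
  have h4 := Φ.smul a u₀
  rw [hc, hc, smul_smul, smul_smul] at h4
  have h5 : (c * a - Φ.σ a * c) • u₀ = 0 := by rw [sub_smul, h4, sub_self]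
  rcases smul_eq_zero.mp h5 with h6 | h6
  · have h7 : c * (a - Φ.σ a) = 0 := by linear_combination h6
    rcases mul_eq_zero.mp h7 with h8 | h8
    · exact absurd h8 hc0
    · exact (sub_eq_zero.mp h8).symm
  · exact absurd h6 hu₀0

/-- the field automorphism of a semilinear similitude is determined by the automorphism -/
theorem σ_eq_of_gam_eq (Φ Ψ : SemiSim m F) (h : Φ.gam = Ψ.gam) : Φ.σ = Ψ.σ := by
  have h1 : (Φ.symm.comp Ψ).gam = 1 := by
    rw [SemiSim.gam_comp, SemiSim.gam_symm, h, inv_mul_cancel]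
  obtain ⟨h2, -⟩ := scalar_of_gam_eq_one p hm _ h1
  rw [SemiSim.comp_σ, SemiSim.symm_σ] at h2
  ext a
  have := congrArg (fun τ : F ≃+* F => Φ.σ (τ a)) h2
  simp only [RingEquiv.trans_apply, RingEquiv.apply_symm_apply, RingEquiv.refl_apply] at this
  exact this.symm

omit hp hcp hm in
/-- the field automorphism attached to an element of the image of `PΓSp` -/
noncomputable def psiFun (β : ↥(Cfsg.gammaPSp m F)) : RingAut F :=
  (Classical.choose (exists_semi_of_mem β.1 β.2)).σ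

theorem psiFun_eq' (β : ↥(Cfsg.gammaPSp m F)) (Φ : SemiSim m F) (h : Φ.gam = β.1) :
    psiFun β = Φ.σ :=
  σ_eq_of_gam_eq p hm _ _ ((Classical.choose_spec (exists_semi_of_mem β.1 β.2)).trans h.symm)

theorem psiFun_eq (Φ : SemiSim m F) : psiFun ⟨Φ.gam, Φ.gam_mem⟩ = Φ.σ :=
  psiFun_eq' p hm _ Φ rfl

/-- **the homomorphism `PΓSp → Aut(F)`** -/
noncomputable def psiSp : ↥(Cfsg.gammaPSp m F) →* RingAut F where
  toFun := psiFun
  map_one' := by
    have h1 : (1 : ↥(Cfsg.gammaPSp m F)) = ⟨(SemiSim.one m F).gam, (SemiSim.one m F).gam_mem⟩ := by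
      apply Subtype.ext
      exact SemiSim.gam_one.symm
    rw [h1, psiFun_eq p hm]
    rfl
  map_mul' β β' := by
    obtain ⟨Φ, hΦ⟩ := exists_semi_of_mem β.1 β.2
    obtain ⟨Ψ, hΨ⟩ := exists_semi_of_mem β'.1 β'.2
    rw [psiFun_eq' p hm β Φ hΦ, psiFun_eq' p hm β' Ψ hΨ,
      psiFun_eq' p hm (β * β') (Φ.comp Ψ) (by rw [SemiSim.gam_comp, hΦ, hΨ]; rfl)]
    rfl

theorem psiSp_gam (Φ : SemiSim m F) : psiSp p hm ⟨Φ.gam, Φ.gam_mem⟩ = Φ.σ := psiFun_eq p hm Φ

theorem psiSp_surjective : Function.Surjective (psiSp (m := m) (F := F) p hm) := by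
  intro σ
  exact ⟨⟨(SemiSim.ofField σ).gam, (SemiSim.ofField σ).gam_mem⟩, psiSp_gam p hm _⟩

end charp

theorem fP_refl : (fP (RingEquiv.refl F) : MulAut (Cfsg.PSp m F)) = 1 := by
  ext x
  obtain ⟨s, rfl⟩ := pu_surjective x
  rw [fP_mk]
  change pu _ = pu s
  congr 1

theorem cP_mul (g h : GL (Fin m ⊕ Fin m) F) (hg : g ∈ Cfsg.GSp m F) (hh : h ∈ Cfsg.GSp m F) :
    cP (g * h) ((Cfsg.GSp m F).mul_mem hg hh) = cP g hg * cP h hh := by
  ext x
  obtain ⟨s, rfl⟩ := pu_surjective x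
  change cP (g * h) _ (pu s) = cP g hg (cP h hh (pu s))
  rw [cP_mk, cP_mk, cP_mk]
  congr 1
  apply Subtype.ext
  rw [cSp_val, cSp_val, cSp_val, _root_.mul_inv_rev, Units.val_mul, Units.val_mul]
  simp only [mul_assoc]

theorem cP_one : cP (1 : GL (Fin m ⊕ Fin m) F) (Cfsg.GSp m F).one_mem = 1 := by
  ext x
  obtain ⟨s, rfl⟩ := pu_surjective x
  rw [cP_mk]
  change pu _ = pu s
  congr 1
  apply Subtype.ext
  rw [cSp_val]
  simp

/-- conjugation by conformal symplectic matrices as a homomorphism -/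
noncomputable def cPhom : ↥(Cfsg.GSp m F) →* MulAut (Cfsg.PSp m F) where
  toFun g := cP g.1 g.2
  map_one' := cP_one
  map_mul' g h := cP_mul g.1 h.1 g.2 h.2

theorem cPhom_apply (g : ↥(Cfsg.GSp m F)) : cPhom g = cP g.1 g.2 := rfl

theorem cP_eq_gam (g : GL (Fin m ⊕ Fin m) F) (hg : g ∈ Cfsg.GSp m F) :
    cP g hg = (SemiSim.ofPair g hg (RingEquiv.refl F)).gam := by
  rw [SemiSim.gam_ofPair, fP_refl, mul_one]

theorem cPhom_range_le : (cPhom (m := m) (F := F)).range ≤ Cfsg.gammaPSp m F := by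
  rintro β ⟨g, rfl⟩
  rw [cPhom_apply, cP_eq_gam]
  exact SemiSim.gam_mem _

section charp2
variable (p : ℕ) [hp : Fact p.Prime] [hcp : CharP F p] (hm : 1 ≤ m)
include hp hcp hm

theorem psiSp_ker : (psiSp (m := m) (F := F) p hm).ker =
    (cPhom (m := m) (F := F)).range.subgroupOf (Cfsg.gammaPSp m F) := by
  ext β
  rw [MonoidHom.mem_ker, Subgroup.mem_subgroupOf]
  obtain ⟨Φ, hΦ⟩ := exists_semi_of_mem β.1 β.2
  have h1 : β = ⟨Φ.gam, Φ.gam_mem⟩ := Subtype.ext hΦ.symm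
  constructor
  · intro h
    rw [h1, psiSp_gam] at h
    refine ⟨⟨Φ.gl, Φ.gl_mem⟩, ?_⟩
    rw [cPhom_apply, ← hΦ]
    unfold SemiSim.gam
    rw [h]
    change _ = _ * fP (RingEquiv.refl F)
    rw [fP_refl, mul_one]
  · rintro ⟨g, hg⟩
    rw [cPhom_apply, cP_eq_gam] at hg
    have h2 : β = ⟨(SemiSim.ofPair g.1 g.2 (RingEquiv.refl F)).gam, SemiSim.gam_mem _⟩ :=
      Subtype.ext hg.symm
    rw [h2, psiSp_gam]
    rfl

/-- the kernel of the conjugation homomorphism consists of the scalar matrices -/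
theorem mem_cPhom_ker (g : ↥(Cfsg.GSp m F)) :
    g ∈ (cPhom (m := m) (F := F)).ker ↔ ∃ c : Fˣ, g.1 = Matrix.GeneralLinearGroup.scalar _ c := by
  rw [MonoidHom.mem_ker, cPhom_apply]
  constructor
  · intro h
    rw [cP_eq_gam] at h
    obtain ⟨-, c, hc0, hc⟩ := scalar_of_gam_eq_one p hm _ h
    refine ⟨Units.mk0 c hc0, ?_⟩
    apply Units.ext
    apply mat_ext_mulVec
    intro x
    have := hc x
    rw [SemiSim.ofPair_S] at this
    change (g.1 : Mat) *ᵥ x = _ at this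
    rw [this, scalar_val, smul_mulVec, one_mulVec]
    rfl
  · rintro ⟨c, hc⟩
    ext x
    obtain ⟨s, rfl⟩ := pu_surjective x
    rw [cP_mk]
    change pu _ = pu s
    congr 1
    apply Subtype.ext
    rw [cSp_val]
    have h1 : (g.1 : Mat) = (c : F) • (1 : Mat) := by
      rw [hc, scalar_val]
    have h2 : (g.1 : Mat) * s.1 = s.1 * (g.1 : Mat) := by
      rw [h1]
      simp
    rw [h2, mul_assoc, gl_mul_inv, mul_one]

end charp2

end

end Cfsg.Agent.Lib.Helper6.AutPSp
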