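import Mathlib
import Cfsg.Agent.Lib.Helper6.AutSpB
import Cfsg.Agent.Lib.Helper6.AutOrt21
import Cfsg.Agent.Lib.Helper2.SympCenter

/-!
# Automorphisms of `PSp_{2m}(q)`, part C: the order of the image of `PΓSp`
-/

set_option autoImplicit false
set_option linter.unusedSectionVars false
set_option linter.unusedVariables false
open Cfsg

namespace Cfsg.Agent.Lib.Helper6.AutPSp

open Matrix Cfsg.Agent.Lib.Helper6 Cfsg.Agent.Lib.Helper6.SympRoot Cfsg.Agent.Lib.Helper6.AutPSL

section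
variable {m : ℕ} {F : Type*} [Field F] [Fintype F]

set_option quotPrecheck false in
local notation "SpG" => ↥(Matrix.symplecticGroup (Fin m) F)
local notation "Vec" => (Fin m ⊕ Fin m → F)
local notation "Bf" => Cfsg.sympForm m F
local notation "Mat" => Matrix (Fin m ⊕ Fin m) (Fin m ⊕ Fin m) F

/-- the multiplier of a conformal symplectic matrix -/
noncomputable def nuFun (g : ↥(Cfsg.GSp m F)) : Fˣ := Classical.choose g.2

theorem nuFun_spec (g : ↥(Cfsg.GSp m F)) (u v : Vec) :
    Bf ((g.1 : Mat) *ᵥ u) ((g.1 : Mat) *ᵥ v) = (nuFun g : F) * Bf u v :=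
  Classical.choose_spec g.2 u v

theorem nuFun_unique (hm : 1 ≤ m) (g : ↥(Cfsg.GSp m F)) (c : Fˣ)
    (h : ∀ u v : Vec, Bf ((g.1 : Mat) *ᵥ u) ((g.1 : Mat) *ᵥ v) = (c : F) * Bf u v) :
    nuFun g = c := by
  obtain ⟨u₀, hu₀⟩ := exists_ne_zero_vec (F := F) hm
  obtain ⟨P, -⟩ := exists_hpair u₀ hu₀
  have h1 := nuFun_spec g P.e P.f
  rw [h P.e P.f, P.hef, mul_one, mul_one] at h1
  exact Units.ext h1.symm

/-- the multiplier homomorphism -/
noncomputable def nuHom (hm : 1 ≤ m) : ↥(Cfsg.GSp m F) →* Fˣ :=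
  MonoidHom.mk' nuFun (fun g h => nuFun_unique hm (g * h) (nuFun g * nuFun h) (fun u v => by
    rw [Subgroup.coe_mul, Units.val_mul, ← mulVec_mulVec, ← mulVec_mulVec, nuFun_spec,
      nuFun_spec, Units.val_mul, mul_assoc]))

theorem nuHom_apply (hm : 1 ≤ m) (g : ↥(Cfsg.GSp m F)) : nuHom hm g = nuFun g := rfl

/-- the dilation of one of the two Lagrangians -/
def dil (c : Fˣ) : SemiSim m F where
  S x := fun i => Sum.elim (fun j => (c : F) * x (Sum.inl j)) (fun j => x (Sum.inr j)) i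
  σ := RingEquiv.refl F
  ν := c
  hν := c.ne_zero
  add x y := by
    funext i
    cases i <;> simp [mul_add]
  smul a x := by
    funext i
    cases i
    · simp
      ring
    · simp
  form x y := by
    rw [sympForm_eq_sum, sympForm_eq_sum]
    change _ = _ * (∑ i : Fin m, _)
    rw [Finset.mul_sum]
    apply Finset.sum_congr rfl
    intro i _
    simp only [Sum.elim_inl, Sum.elim_inr]
    ring

theorem nuHom_surjective (hm : 1 ≤ m) : Function.Surjective (nuHom (m := m) (F := F) hm) := by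
  intro c
  refine ⟨⟨(dil c).gl, (dil c).gl_mem⟩, ?_⟩
  rw [nuHom_apply]
  apply nuFun_unique hm
  intro u v
  change Bf ((dil (m := m) c).gl.1 *ᵥ u) ((dil (m := m) c).gl.1 *ᵥ v) = _
  rw [(dil c).gl_val, (dil c).mat_sim]
  rfl

/-- the kernel of the multiplier is the symplectic group -/
noncomputable def nuKerEquiv (hm : 1 ≤ m) : ↥(nuHom (m := m) (F := F) hm).ker ≃ SpG where
  toFun g := ⟨(g.1.1 : Mat), by
    rw [mem_symplecticGroup_iff_preserves]
    intro u v
    have h1 := nuFun_spec g.1 u v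
    have h2 : nuFun g.1 = 1 := g.2
    rw [h2, Units.val_one, one_mul] at h1
    exact h1⟩
  invFun s := ⟨⟨spToGL s, spToGL_mem s⟩, by
    rw [MonoidHom.mem_ker, nuHom_apply]
    apply nuFun_unique hm
    intro u v
    rw [Units.val_one, one_mul]
    exact pres s u v⟩
  left_inv g := Subtype.ext (Subtype.ext (Units.ext rfl))
  right_inv s := Subtype.ext rfl

theorem card_GSp (hm : 1 ≤ m) :
    Nat.card ↥(Cfsg.GSp m F) = Nat.card SpG * (Fintype.card F - 1) := by
  have h1 := Subgroup.card_mul_index (nuHom (m := m) (F := F) hm).ker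
  rw [Subgroup.index_ker, MonoidHom.range_eq_top.mpr (nuHom_surjective hm), Subgroup.card_top,
    Nat.card_congr (nuKerEquiv hm), Nat.card_units, Nat.card_eq_fintype_card (α := F)] at h1
  exact h1.symm

theorem scalar_mem_GSp (c : Fˣ) :
    (Matrix.GeneralLinearGroup.scalar (Fin m ⊕ Fin m) c : GL (Fin m ⊕ Fin m) F) ∈
      Cfsg.GSp m F := by
  refine ⟨c * c, ?_⟩
  intro u v
  rw [scalar_val, smul_mulVec, smul_mulVec, one_mulVec, one_mulVec, sympForm_smul_left,
    sympForm_smul_right, Units.val_mul]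
  ring

theorem card_cPhom_ker (p : ℕ) [hp : Fact p.Prime] [hcp : CharP F p] (hm : 1 ≤ m) :
    Nat.card ↥(cPhom (m := m) (F := F)).ker = Fintype.card F - 1 := by
  rw [← Nat.card_eq_fintype_card, ← Nat.card_units]
  symm
  apply Nat.card_eq_of_bijective (fun c : Fˣ =>
    (⟨⟨Matrix.GeneralLinearGroup.scalar _ c, scalar_mem_GSp c⟩,
      (mem_cPhom_ker p hm _).mpr ⟨c, rfl⟩⟩ : ↥(cPhom (m := m) (F := F)).ker))
  constructor
  · intro c c' h
    have h1 : (Matrix.GeneralLinearGroup.scalar (Fin m ⊕ Fin m) c : GL (Fin m ⊕ Fin m) F) =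
        Matrix.GeneralLinearGroup.scalar _ c' := by
      have := congrArg (fun x : ↥(cPhom (m := m) (F := F)).ker => x.1.1) h
      exact this
    have h2 := congrArg (fun g : GL (Fin m ⊕ Fin m) F => (g : Mat)) h1
    simp only [scalar_val] at h2
    have h3 := congrFun (congrFun h2 (Sum.inl ⟨0, by omega⟩)) (Sum.inl ⟨0, by omega⟩)
    simp at h3
    exact Units.ext h3
  · intro g
    obtain ⟨c, hc⟩ := (mem_cPhom_ker p hm g.1).mp g.2
    exact ⟨c, Subtype.ext (Subtype.ext hc.symm)⟩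

theorem card_cPhom_range (p : ℕ) [hp : Fact p.Prime] [hcp : CharP F p] (hm : 1 ≤ m) :
    Nat.card ↥(cPhom (m := m) (F := F)).range = Nat.card SpG := by
  have h1 := Subgroup.card_mul_index (cPhom (m := m) (F := F)).ker
  rw [Subgroup.index_ker, card_cPhom_ker p hm, card_GSp hm, mul_comm] at h1
  have hq : 0 < Fintype.card F - 1 := by
    have := Fintype.one_lt_card (α := F)
    omega
  exact Nat.eq_of_mul_eq_mul_right hq h1

theorem card_Sp (hm : 1 ≤ m) :
    Nat.card SpG = Nat.gcd 2 (Fintype.card F - 1) * Nat.card (Cfsg.PSp m F) := by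
  have h1 := Subgroup.card_eq_card_quotient_mul_card_subgroup (Subgroup.center SpG)
  rw [Cfsg.Agent.Lib.Helper2.card_center_symplecticGroup hm] at h1
  rw [h1, mul_comm]

/-- **the order of the image of `PΓSp_{2m}(q)`** -/
theorem card_gamma {p f : ℕ} [hp : Fact p.Prime] (hF : Fintype.card F = p ^ f) (hf : 1 ≤ f)
    (hm : 1 ≤ m) :
    Nat.card ↥(Cfsg.gammaPSp m F) =
      Nat.gcd 2 (p ^ f - 1) * f * Nat.card (Cfsg.PSp m F) := by
  have : CharP F p := Cfsg.Agent.Lib.Helper6.AutOrt.charP_of_card_pow' hF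
  have h1 := Cfsg.Agent.Lib.Helper6.AutOrt.card_of_surj_ker (cPhom (m := m) (F := F)).range
    (Cfsg.gammaPSp m F) cPhom_range_le (psiSp p hm) (psiSp_surjective p hm) (psiSp_ker p hm)
  rw [h1, Cfsg.Agent.Lib.Helper6.AutOrt.card_ringAut' hF hf, card_cPhom_range p hm, card_Sp hm,
    hF]
  ring

end

end Cfsg.Agent.Lib.Helper6.AutPSp
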