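import Mathlib
import Cfsg.Agent.Lib.Helper6.AutSpC

/-!
# Automorphisms of `PSp_{2m}(q)`, part D: automorphisms permuting the long root subgroups are
induced by semilinear similitudes (no restriction on the characteristic)
-/

set_option autoImplicit false
set_option linter.unusedSectionVars false
set_option linter.unusedVariables false
open Cfsg

namespace Cfsg.Agent.Lib.Helper6.AutPSp

open Matrix Cfsg.Agent.Lib.Helper6 Cfsg.Agent.Lib.Helper6.SympRoot Cfsg.Agent.Lib.Helper6.AutPSL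
open scoped Pointwise

section
variable {m : ℕ} {F : Type*} [Field F] [Fintype F]

set_option quotPrecheck false in
local notation "SpG" => ↥(Matrix.symplecticGroup (Fin m) F)
local notation "Vec" => (Fin m ⊕ Fin m → F)
local notation "Bf" => Cfsg.sympForm m F

/-- the automorphism permutes the long root subgroups -/
def LongPres (β : MulAut (Cfsg.PSp m F)) : Prop :=
  ∀ u : Vec, u ≠ 0 → ∃ u' : Vec, u' ≠ 0 ∧ img β (Rb u) = Rb u'

theorem LongPres.mul {a b : MulAut (Cfsg.PSp m F)} (ha : LongPres a) (hb : LongPres b) :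
    LongPres (a * b) := by
  intro u hu
  obtain ⟨u', hu', h1⟩ := hb u hu
  obtain ⟨u'', hu'', h2⟩ := ha u' hu'
  exact ⟨u'', hu'', by rw [img_mul', h1, h2]⟩

theorem longPres_gam (Φ : SemiSim m F) : LongPres Φ.gam := by
  intro u hu
  refine ⟨Φ.S u, ?_, Φ.img_gam_Rb u⟩
  intro h
  rw [← Φ.S_zero] at h
  exact hu (Φ.S_injective h)

theorem longPres_of_mem (β : MulAut (Cfsg.PSp m F)) (hβ : β ∈ Cfsg.gammaPSp m F) :
    LongPres β := by
  obtain ⟨Φ, rfl⟩ := exists_semi_of_mem β hβ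
  exact longPres_gam Φ

theorem LongPres.symm {β : MulAut (Cfsg.PSp m F)} (hβ : LongPres β) :
    LongPres (MulEquiv.symm β) := by
  classical
  let L : Set (Subgroup (Cfsg.PSp m F)) := {H | ∃ u : Vec, u ≠ 0 ∧ H = Rb u}
  have hmap : ∀ H : L, img β H.1 ∈ L := by
    rintro ⟨H, u, hu, rfl⟩
    obtain ⟨u', hu', h⟩ := hβ u hu
    exact ⟨u', hu', h⟩
  let φ : L → L := fun H => ⟨img β H.1, hmap H⟩
  have hinj : Function.Injective φ := by
    intro H H' h
    have h1 : img β H.1 = img β H'.1 := congrArg Subtype.val h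
    apply Subtype.ext
    have h2 := congrArg (img (MulEquiv.symm β)) h1
    rwa [img_symm_img, img_symm_img] at h2
  have hsurj := Finite.injective_iff_surjective.mp hinj
  intro u hu
  obtain ⟨⟨H, u', hu', rfl⟩, hH⟩ := hsurj ⟨Rb u, u, hu, rfl⟩
  have h1 : img β (Rb u') = Rb u := congrArg Subtype.val hH
  refine ⟨u', hu', ?_⟩
  rw [← h1, img_symm_img]

variable (P : HPair m F)

/-- after composing with an inner automorphism, the two root subgroups of the pair are fixed -/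
theorem exists_normaliseL (p : ℕ) [hp : Fact p.Prime] [CharP F p] (hm : 2 ≤ m)
    (β : MulAut (Cfsg.PSp m F)) (hL : LongPres β) :
    ∃ g : SpG, img (MulAut.conj (pu g) * β) (Rb P.e) = Rb P.e ∧
      img (MulAut.conj (pu g) * β) (Rb P.f) = Rb P.f := by
  have hm1 : 1 ≤ m := by omega
  obtain ⟨e', he'0, hβe⟩ := hL P.e P.e_ne
  obtain ⟨f', hf'0, hβf⟩ := hL P.f P.f_ne
  have hne : Bf e' f' ≠ 0 := by
    intro h0
    have h1 := (Rb_comm_iff p hm1 f' e' hf'0 he'0).mpr h0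
    have h2 : ∀ x ∈ Rb P.f, ∀ y ∈ Rb P.e, x * y = y * x := by
      intro x hx y hy
      have := h1 (β x) (by rw [← hβf]; exact mem_img_of β _ hx) (β y)
        (by rw [← hβe]; exact mem_img_of β _ hy)
      rw [← map_mul, ← map_mul] at this
      exact β.injective this
    have := (Rb_comm_iff p hm1 P.f P.e P.f_ne P.e_ne).mp h2
    rw [P.hef] at this
    exact one_ne_zero this
  obtain ⟨f'', hf''⟩ : ∃ f'', f'' = (Bf e' f')⁻¹ • f' := ⟨_, rfl⟩
  have hef'' : Bf e' f'' = 1 := by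
    rw [hf'', sympForm_smul_right, inv_mul_cancel₀ hne]
  have hRf'' : Rb f'' = Rb f' := by
    rw [hf'']
    exact Rb_smul _ (inv_ne_zero hne) f'
  obtain ⟨g, -, hge, hgf⟩ := Cfsg.Agent.S0766.result m e' f'' P.e P.f hef'' P.hef
  change av g e' = P.e at hge
  change av g f'' = P.f at hgf
  refine ⟨g, ?_, ?_⟩
  · rw [img_mul', hβe, img_conj_Rb, hge]
  · rw [img_mul', hβf, ← hRf'', img_conj_Rb, hgf]

section lift
variable (p : ℕ) [hp : Fact p.Prime] [CharP F p] (hm : 2 ≤ m)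
  (β : MulAut (Cfsg.PSp m F)) (hL : LongPres β) (hβe : img β (Rb P.e) = Rb P.e) (hβf : img β (Rb P.f) = Rb P.f)

include hp hm hL hβe hβf in
/-- the image of a transvection of the Levi factor is a transvection of the Levi factor -/
theorem exists_tv_imgL (u : Vec) (hu : P.W u) (hu0 : u ≠ 0) (a : F) :
    ∃ (u' : Vec) (a' : F), P.W u' ∧ u' ≠ 0 ∧ β (pu (tv u a)) = pu (tv u' a') := by
  have hm1 : 1 ≤ m := by omega
  obtain ⟨u', hu'0, hβu⟩ := hL u hu0
  have h1 : β (pu (tv u a)) ∈ Rb u' := by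
    rw [← hβu]
    exact mem_img_of β _ ((mem_Rb u _).mpr ⟨a, rfl⟩)
  obtain ⟨a', ha'⟩ := (mem_Rb u' _).mp h1
  refine ⟨u', a', ⟨?_, ?_⟩, hu'0, ha'⟩
  · have h2 := (Rb_comm_iff p hm1 P.e u P.e_ne hu0).mpr hu.1
    have h3 : ∀ x ∈ Rb P.e, ∀ y ∈ Rb u', x * y = y * x := by
      intro x hx y hy
      rw [← hβe] at hx
      rw [← hβu] at hy
      obtain ⟨x', hx', rfl⟩ := (mem_img _ _ _).mp hx
      obtain ⟨y', hy', rfl⟩ := (mem_img _ _ _).mp hy
      rw [← map_mul, ← map_mul, h2 x' hx' y' hy']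
    exact (Rb_comm_iff p hm1 P.e u' P.e_ne hu'0).mp h3
  · have h2 := (Rb_comm_iff p hm1 P.f u P.f_ne hu0).mpr hu.2
    have h3 : ∀ x ∈ Rb P.f, ∀ y ∈ Rb u', x * y = y * x := by
      intro x hx y hy
      rw [← hβf] at hx
      rw [← hβu] at hy
      obtain ⟨x', hx', rfl⟩ := (mem_img _ _ _).mp hx
      obtain ⟨y', hy', rfl⟩ := (mem_img _ _ _).mp hy
      rw [← map_mul, ← map_mul, h2 x' hx' y' hy']
    exact (Rb_comm_iff p hm1 P.f u' P.f_ne hu'0).mp h3

include hp hm hL hβe hβf in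
/-- equivariance of the induced map for the transvections of the Levi factor -/
theorem bbar_tvL (u : Vec) (hu : P.W u) (hu0 : u ≠ 0) (a : F) :
    ∃ (u' : Vec) (a' : F), P.W u' ∧
      ∀ w, P.W w → bbar P β (w + (a * Bf w u) • u) =
        bbar P β w + (a' * Bf (bbar P β w) u') • u' := by
  obtain ⟨u', a', hu', hu'0, hk⟩ := exists_tv_imgL P p hm β hL hβe hβf u hu hu0 a
  refine ⟨u', a', hu', ?_⟩
  intro w hw
  have h1 := (bbar_conj P p hm β hβe (tv u a) (tv u' a') 1 1 (isKp_tv P u hu a)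
    (isKp_tv P u' hu' a') hk.symm w 0 hw).1
  rw [one_smul, one_smul, av_tv, av_tv] at h1
  exact h1

include hp hm hL hβe hβf in
theorem exists_sigma_nuL : ∃ (σ : F ≃+* F) (ν : F), ν ≠ 0 ∧
    (∀ (a : F) (x : Vec), P.W x → bbar P β (a • x) = σ a • bbar P β x) ∧
    (∀ w w', P.W w → P.W w' → Bf (bbar P β w) (bbar P β w') = ν * σ (Bf w w')) := by
  have hβe' := AutPSU.img_symm_eq β _ hβe
  have hβf' := AutPSU.img_symm_eq β _ hβf
  have hTW : ∀ w, P.W w → P.W (bbar P β w) := fun w _ => bbar_W P p hm β hβe w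
  have hT'W : ∀ w, P.W w → P.W (bbar P (MulEquiv.symm β) w) :=
    fun w _ => bbar_W P p hm (MulEquiv.symm β) hβe' w
  have hTadd := bbar_add P p hm β hβe
  have hT'add := bbar_add P p hm (MulEquiv.symm β) hβe'
  have hT'T := bbar_symm P p hm β hβe
  have hTT' : ∀ w, P.W w → bbar P β (bbar P (MulEquiv.symm β) w) = w := by
    intro w hw
    have := bbar_symm P p hm (MulEquiv.symm β) hβe' w hw
    rwa [MulEquiv.symm_symm] at this
  have hTtv := bbar_tvL P p hm β hL hβe hβf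
  have hT'tv := bbar_tvL P p hm (MulEquiv.symm β) hL.symm hβe' hβf'
  obtain ⟨σ, hσ⟩ := exists_semilinear P (bbar P β) (bbar P (MulEquiv.symm β)) hTW hT'W hTadd
    hT'add hTT' hT'T hTtv hT'tv hm
  obtain ⟨ν, hν, hform⟩ := exists_similitude P (bbar P β) (bbar P (MulEquiv.symm β)) hTW hT'W
    hTadd hT'add hTT' hT'T hTtv hm σ hσ
  exact ⟨σ, ν, hν, hσ, hform⟩

end lift

section main
variable (p : ℕ) [hp : Fact p.Prime] [CharP F p] (hm : 2 ≤ m)
  (β : MulAut (Cfsg.PSp m F)) (hL : LongPres β) (hβe : img β (Rb P.e) = Rb P.e) (hβf : img β (Rb P.f) = Rb P.f)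

include hp hm hL hβe hβf in
/-- after composing with an automorphism induced by a semilinear similitude, the induced map on
the complement is the identity -/
theorem exists_gamL : ∃ γ : MulAut (Cfsg.PSp m F), γ ∈ Cfsg.gammaPSp m F ∧
    img (γ⁻¹ * β) (Rb P.e) = Rb P.e ∧ img (γ⁻¹ * β) (Rb P.f) = Rb P.f ∧
    ∀ w, P.W w → bbar P (γ⁻¹ * β) w = w := by
  obtain ⟨σ, ν, hν, hσ, hform⟩ := exists_sigma_nuL P p hm β hL hβe hβf
  have hTW : ∀ w, P.W w → P.W (bbar P β w) := fun w _ => bbar_W P p hm β hβe w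
  have hTadd := bbar_add P p hm β hβe
  obtain ⟨Φ, hΦ⟩ : ∃ Φ, Φ = mkSemi P (bbar P β) σ ν hν hTW hTadd hσ hform := ⟨_, rfl⟩
  have hγe : img Φ.gam (Rb P.e) = Rb P.e := by rw [hΦ]; exact img_gam_e P _ σ ν hν hTW hTadd hσ hform
  have hγf : img Φ.gam (Rb P.f) = Rb P.f := by rw [hΦ]; exact img_gam_f P _ σ ν hν hTW hTadd hσ hform
  have hγe' : img Φ.gam⁻¹ (Rb P.e) = Rb P.e := by
    conv_lhs => rw [← hγe]
    exact img_inv_img _ _
  have hγf' : img Φ.gam⁻¹ (Rb P.f) = Rb P.f := by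
    conv_lhs => rw [← hγf]
    exact img_inv_img _ _
  have he : img (Φ.gam⁻¹ * β) (Rb P.e) = Rb P.e := by rw [img_mul', hβe, hγe']
  have hf : img (Φ.gam⁻¹ * β) (Rb P.f) = Rb P.f := by rw [img_mul', hβf, hγf']
  refine ⟨Φ.gam, Φ.gam_mem, he, hf, ?_⟩
  intro w hw
  obtain ⟨h1, h2⟩ := lft_spec P p hm β hβe _ (P.sg_mem w 0 hw)
  have h3 := P.Qv_eq_sg _ h1
  obtain ⟨b₁, hb₁⟩ : ∃ b₁, b₁ = P.bc (lft P β (P.sg w 0)) := ⟨_, rfl⟩
  have h4' : lft P β (P.sg w 0) = P.sg (bbar P β w) b₁ := by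
    rw [hb₁]
    exact h3
  obtain ⟨b₂, hb₂⟩ : ∃ b₂, b₂ = σ.symm (b₁ * ν⁻¹) := ⟨_, rfl⟩
  have h5 : Φ.gam (pu (P.sg w b₂)) = pu (P.sg (bbar P β w) b₁) := by
    rw [hΦ, gam_sg P _ σ ν hν hTW hTadd hσ hform w b₂ hw, hb₂, RingEquiv.apply_symm_apply,
      mul_assoc, inv_mul_cancel₀ hν, mul_one]
  have h6 : (Φ.gam⁻¹ * β) (pu (P.sg w 0)) = pu (P.sg w b₂) := by
    change Φ.gam⁻¹ (β (pu (P.sg w 0))) = _
    rw [← h2, h4', ← h5]
    exact MulAut.inv_apply_self _ _ _
  have h7 := lft_unique P p hm (Φ.gam⁻¹ * β) he _ (P.sg_mem w 0 hw) _ (P.sg_mem w b₂ hw) h6.symm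
  unfold bbar
  rw [h7, P.wc_sg _ _ hw]

end main

section rigidLs
variable (p : ℕ) [hp : Fact p.Prime] [CharP F p] (hm : 2 ≤ m)
  (β : MulAut (Cfsg.PSp m F)) (hL : LongPres β) (hβe : img β (Rb P.e) = Rb P.e)
  (hβf : img β (Rb P.f) = Rb P.f)
  (hid : ∀ w, P.W w → bbar P β w = w)

include hp hm hL hβe hβf hid in
theorem psi_tvL (u : Vec) (hu : P.W u) (hu0 : u ≠ 0) (a : F) (w : Vec) (hw : P.W w) :
    dl P β (P.sg (w + (a * Bf w u) • u) 0) = dl P β (P.sg w 0) := by
  obtain ⟨u', a', hu', hu'0, hk⟩ := exists_tv_imgL P p hm β hL hβe hβf u hu hu0 a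
  have h1 := (bbar_conj P p hm β hβe (tv u a) (tv u' a') 1 1 (isKp_tv P u hu a)
    (isKp_tv P u' hu' a') hk.symm w 0 hw).2
  rw [one_smul, one_mul, one_mul, av_tv] at h1
  unfold dl
  rw [h1, P.bc_sg _ _ hw, P.bc_sg _ _ (P.W_add hw (P.W_smul _ hu))]
  ring

include hp hm hL hβe hβf hid in
theorem psi_smulL (u : Vec) (hu : P.W u) (hu0 : u ≠ 0) (a : F) :
    dl P β (P.sg (a • u) 0) = dl P β (P.sg 0 a) := by
  obtain ⟨y, hy, huy⟩ := P.exists_W_partner hu hu0
  obtain ⟨w₁, hw₁⟩ : ∃ w₁, w₁ = -y := ⟨_, rfl⟩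
  have hw₁W : P.W w₁ := by rw [hw₁]; exact P.W_neg hy
  have hw₁u : Bf w₁ u = 1 := by rw [hw₁, sympForm_neg_left, B_swap, huy, neg_neg]
  have h1 := psi_tvL P p hm β hL hβe hβf hid u hu hu0 a w₁ hw₁W
  rw [hw₁u, mul_one, psi_add P p hm β hβe hid _ _ hw₁W (P.W_smul a hu), sympForm_smul_right,
    hw₁u, mul_one] at h1
  linear_combination h1

include hp hm hL hβe hβf hid in
theorem tau_constL (a : F) (ha : a ≠ 0) : dl P β (P.sg 0 a) = dl P β (P.sg 0 1) := by
  obtain ⟨u₀, hu₀, hu₀0⟩ := exists_ne_W P hm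
  have h1 := psi_smulL P p hm β hL hβe hβf hid u₀ hu₀ hu₀0 a
  have h2 := psi_smulL P p hm β hL hβe hβf hid (a • u₀) (P.W_smul a hu₀)
    (smul_ne_zero ha hu₀0) 1
  rw [one_smul] at h2
  rw [← h1, h2]

include hp hm hL hβe hβf hid in
theorem tau_oneL : dl P β (P.sg 0 1) = 0 := by
  by_cases hex : ∃ a : F, a ≠ 0 ∧ a ≠ 1
  · obtain ⟨a, ha0, ha1⟩ := hex
    have h1 := tau_constL P p hm β hL hβe hβf hid a ha0
    have h2 := tau_constL P p hm β hL hβe hβf hid (a - 1) (sub_ne_zero.mpr ha1)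
    have h3 := tau_add P p hm β hβe hid (a - 1) 1
    rw [sub_add_cancel] at h3
    linear_combination h1 - h3 - h2
  · push Not at hex
    have hF01 : ∀ a : F, a = 0 ∨ a = 1 := by
      intro a
      by_cases ha : a = 0
      · exact Or.inl ha
      · exact Or.inr (hex a ha)
    rcases hF01 (dl P β (P.sg 0 1)) with h | h
    · exact h
    · exfalso
      have h11 : (1 : F) + 1 = 0 := by
        rcases hF01 (1 + 1) with h' | h'
        · exact h'
        · exact absurd (by linear_combination h') one_ne_zero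
      have hg := P.sg_mem 0 1 P.W_zero
      obtain ⟨h1, h2⟩ := lft_spec P p hm β hβe _ hg
      have hb : P.bc (lft P β (P.sg 0 1)) = 0 := by
        have : dl P β (P.sg 0 1) = P.bc (lft P β (P.sg 0 1)) - P.bc (P.sg 0 1) := rfl
        rw [h, P.bc_sg _ _ P.W_zero] at this
        linear_combination h11 - this
      have hw : P.wc (lft P β (P.sg 0 1)) = 0 := by
        rw [wc_lft_id P p hm β hβe hid _ hg, P.wc_sg _ _ P.W_zero]
      have h3 : lft P β (P.sg 0 1) = 1 := by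
        apply P.Qv_ext' _ _ h1 (Qv P.e).one_mem
        · rw [hw, P.wc_one]
        · rw [hb, P.bc_one]
      rw [h3, map_one] at h2
      have h5 : pu (P.sg 0 1) = 1 := by
        have := congrArg (MulEquiv.symm β) h2
        rw [MulEquiv.symm_apply_apply, map_one] at this
        exact this.symm
      have h6 : P.sg 0 1 = 1 := by
        apply eq_of_pu_eq (p := p) (by omega) _ _ 2 (Qv_pow p (by omega) P.e _ hg)
          (one_pow _)
        rw [h5, map_one]
      have h7 := congrArg P.bc h6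
      rw [P.bc_sg _ _ P.W_zero, P.bc_one] at h7
      exact one_ne_zero h7

include hp hm hL hβe hβf hid in
theorem dl_zeroL (g : SpG) (hg : g ∈ Qv P.e) : dl P β g = 0 := by
  have hτ : ∀ a : F, dl P β (P.sg 0 a) = 0 := by
    intro a
    by_cases ha : a = 0
    · rw [ha]
      exact tau_zero P p hm β hβe hid
    · rw [tau_constL P p hm β hL hβe hβf hid a ha]
      exact tau_oneL P p hm β hL hβe hβf hid
  have hψ : ∀ w, P.W w → dl P β (P.sg w 0) = 0 := by
    intro w hw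
    by_cases hw0 : w = 0
    · rw [hw0]
      exact hτ 0
    · have := psi_smulL P p hm β hL hβe hβf hid w hw hw0 1
      rw [one_smul] at this
      rw [this]
      exact hτ 1
  rw [P.Qv_eq_sg g hg, dl_sg P p hm β hβe hid _ _ (P.wc_W g), hψ _ (P.wc_W g), hτ, add_zero]

include hp hm hL hβe hβf hid in
theorem lft_idL (g : SpG) (hg : g ∈ Qv P.e) : lft P β g = g := by
  apply P.Qv_ext' _ _ (lft_spec P p hm β hβe g hg).1 hg (wc_lft_id P p hm β hβe hid g hg)
  have := dl_zeroL P p hm β hL hβe hβf hid g hg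
  unfold dl at this
  exact sub_eq_zero.mp this

include hp hm hL hβe hβf hid in
/-- **the automorphism is the identity on the image of the unipotent radical** -/
theorem beta_QeL (g : SpG) (hg : g ∈ Qv P.e) : β (pu g) = pu g := by
  rw [← (lft_spec P p hm β hβe g hg).2, lft_idL P p hm β hL hβe hβf hid g hg]

end rigidLs


section rigid2
variable (p : ℕ) [hp : Fact p.Prime] [CharP F p] (hm : 2 ≤ m)
  (β : MulAut (Cfsg.PSp m F)) (hL : LongPres β) (hβe : img β (Rb P.e) = Rb P.e)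
  (hβf : img β (Rb P.f) = Rb P.f)
  (hid : ∀ w, P.W w → bbar P β w = w)

include hp hm hL hβe hβf hid in
theorem beta_tv_fL (d : F) : β (pu (tv P.f d)) = pu (tv P.f d) := by
  have hm1 : 1 ≤ m := by omega
  by_cases hd0 : d = 0
  · subst hd0
    rw [tv_zero, map_one, map_one]
  · have h1 : β (pu (tv P.f d)) ∈ Rb P.f := by
      rw [← hβf]
      exact mem_img_of β _ ((mem_Rb P.f _).mpr ⟨d, rfl⟩)
    obtain ⟨d', h2⟩ := (mem_Rb P.f _).mp h1
    obtain ⟨c, hc⟩ : ∃ c, c = d⁻¹ := ⟨_, rfl⟩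
    have hcd : 1 - c * d = 0 := by
      rw [hc, inv_mul_cancel₀ hd0, sub_self]
    have hc0 : c ≠ 0 := by
      rw [hc]
      exact inv_ne_zero hd0
    have hx := beta_QeL P p hm β hL hβe hβf hid _ (tv_mem_Qv P.e c)
    have e1 : β (pu (tv P.e c * tv P.f d * tv P.e c)) =
        pu (tv P.e c * tv P.f d' * tv P.e c) := by
      rw [map_mul, map_mul, map_mul, map_mul, hx, h2, map_mul, map_mul]
    have e2 : img (MulAut.conj (pu (tv P.e c * tv P.f d * tv P.e c))) (Rb P.e) = Rb P.f := by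
      rw [img_conj_Rb _ P.e, av_weyl, hcd, zero_smul, zero_add, Rb_smul d hd0 P.f]
    have e3 := img_conj_comm β (pu (tv P.e c * tv P.f d * tv P.e c)) (Rb P.e)
    rw [e2, hβf, hβe, e1, img_conj_Rb _ P.e] at e3
    obtain ⟨a, ha0, ha⟩ := Rb_le_imp p hm1 _ P.f (av_ne_zero _ P.e_ne) (le_of_eq e3.symm)
    rw [av_weyl] at ha
    have h3 := congrArg (fun v => Bf v P.f) ha
    simp only [sympForm_add_left, sympForm_smul_left, P.hef, P.hff, mul_one, mul_zero,
      add_zero] at h3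
    have hdd' : d' = d := by
      have : c * (d' - d) = 0 := by linear_combination hcd - h3
      rcases mul_eq_zero.mp this with h | h
      · exact absurd h hc0
      · exact sub_eq_zero.mp h
    rw [h2, hdd']

include hp hm hL hβe hβf hid in
theorem beta_QfL (g' : SpG) (hg' : g' ∈ Qv P.f) : β (pu g') = pu g' := by
  obtain ⟨nn, hnn⟩ : ∃ nn, nn = tv P.e 1 * tv P.f 1 * tv P.e 1 := ⟨_, rfl⟩
  have hx := beta_QeL P p hm β hL hβe hβf hid _ (tv_mem_Qv P.e 1)
  have hy := beta_tv_fL P p hm β hL hβe hβf hid 1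
  have h1 : β (pu nn) = pu nn := by
    rw [hnn, map_mul, map_mul, map_mul, map_mul, hx, hy]
  have h2 : av nn P.e = P.f := by
    rw [hnn, av_weyl]
    simp
  have h3 : av nn⁻¹ P.f = P.e := by
    rw [← h2, av_inv_av]
  have h4' : nn⁻¹ * g' * nn⁻¹⁻¹ ∈ Qv P.e := by
    rw [← h3]
    exact Qv_conj_gen P.f nn⁻¹ g' hg'
  have h5 := beta_QeL P p hm β hL hβe hβf hid _ h4'
  have h6 : g' = nn * (nn⁻¹ * g' * nn⁻¹⁻¹) * nn⁻¹ := by group
  rw [h6, map_mul, map_mul, map_mul, map_mul, h5, map_inv, map_inv, h1]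

include hp hm hL hβe hβf hid in
/-- **rigidity**: an automorphism fixing two opposite root subgroups and inducing the identity on
the complement is trivial -/
theorem rigidL : β = 1 := by
  have h1 : fixSub β = ⊤ := by
    apply gen_top P
    · intro g hg
      exact beta_QeL P p hm β hL hβe hβf hid g hg
    · intro g hg
      exact beta_QfL P p hm β hL hβe hβf hid g hg
  ext x
  obtain ⟨g, rfl⟩ := pu_surjective x
  have : g ∈ fixSub β := by rw [h1]; trivial
  exact this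

end rigid2

/-- **an automorphism permuting the long root subgroups is induced by a semilinear similitude** -/
theorem mem_gamma_of_longPres (p : ℕ) [hp : Fact p.Prime] [CharP F p] (hm : 2 ≤ m)
    (β : MulAut (Cfsg.PSp m F)) (hL : LongPres β) : β ∈ Cfsg.gammaPSp m F := by
  have hv : (Pi.single (Sum.inl ⟨0, by omega⟩) 1 : Vec) ≠ 0 := by
    intro h
    have := congrFun h (Sum.inl ⟨0, by omega⟩)
    simp at this
  obtain ⟨P, -⟩ := exists_hpair _ hv
  obtain ⟨g, hge, hgf⟩ := exists_normaliseL P p hm β hL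
  have hL1 : LongPres (MulAut.conj (pu g) * β) :=
    (longPres_of_mem _ (conj_mem_gamma g)).mul hL
  obtain ⟨γ, hγ, he, hf, hid⟩ := exists_gamL P p hm _ hL1 hge hgf
  have hL2 : LongPres (γ⁻¹ * (MulAut.conj (pu g) * β)) :=
    (longPres_of_mem _ ((Cfsg.gammaPSp m F).inv_mem hγ)).mul hL1
  have h1 := rigidL P p hm _ hL2 he hf hid
  have h2 : β = (MulAut.conj (pu g))⁻¹ * γ := by
    have : MulAut.conj (pu g) * β = γ := by
      have h3 : γ * (γ⁻¹ * (MulAut.conj (pu g) * β)) = γ := by rw [h1, mul_one]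
      rw [← h3]
      group
    rw [← this]
    group
  rw [h2]
  exact (Cfsg.gammaPSp m F).mul_mem ((Cfsg.gammaPSp m F).inv_mem (conj_mem_gamma g)) hγ

end

end Cfsg.Agent.Lib.Helper6.AutPSp
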