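import Mathlib
import Cfsg.Agent.Lib.Helper6.AutSpD
import Cfsg.Agent.Lib.Helper6.AutOrt23
import Cfsg.Agent.S0765

/-!
# The exceptional endomorphism of `Sp_4` in characteristic two: the matrix of `2 × 2` minors on
the four bivectors `e₁∧e₂, e₁∧f₂, f₁∧f₂, e₂∧f₁`
-/

set_option autoImplicit false
set_option linter.unusedSectionVars false
set_option linter.unusedVariables false
open Cfsg

namespace Cfsg.Agent.Lib.Helper6.AutPSp

open Matrix Cfsg.Agent.Lib.Helper6 Cfsg.Agent.Lib.Helper6.SympRoot Cfsg.Agent.Lib.Helper6.AutPSL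

section
variable {F : Type*} [Field F]

local notation "I4" => (Fin 2 ⊕ Fin 2)
local notation "Mat4" => Matrix (Fin 2 ⊕ Fin 2) (Fin 2 ⊕ Fin 2) F

/-- first index of the bivector attached to an index -/
def r1 : I4 → I4 := Sum.elim ![Sum.inl 0, Sum.inl 0] ![Sum.inr 0, Sum.inl 1]

/-- second index of the bivector attached to an index -/
def r2 : I4 → I4 := Sum.elim ![Sum.inl 1, Sum.inr 1] ![Sum.inr 1, Sum.inr 0]

@[simp] theorem r1_a : r1 (Sum.inl 0) = Sum.inl 0 := rfl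
@[simp] theorem r1_b : r1 (Sum.inl 1) = Sum.inl 0 := rfl
@[simp] theorem r1_c : r1 (Sum.inr 0) = Sum.inr 0 := rfl
@[simp] theorem r1_d : r1 (Sum.inr 1) = Sum.inl 1 := rfl
@[simp] theorem r2_a : r2 (Sum.inl 0) = Sum.inl 1 := rfl
@[simp] theorem r2_b : r2 (Sum.inl 1) = Sum.inr 1 := rfl
@[simp] theorem r2_c : r2 (Sum.inr 0) = Sum.inr 1 := rfl
@[simp] theorem r2_d : r2 (Sum.inr 1) = Sum.inr 0 := rfl

theorem I4_cases {P : I4 → Prop} (h0 : P (Sum.inl 0)) (h1 : P (Sum.inl 1)) (h2 : P (Sum.inr 0))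
    (h3 : P (Sum.inr 1)) : ∀ i, P i := by
  rintro (i | i) <;> fin_cases i <;> assumption

/-- the matrix of minors -/
def rho (g : Mat4) : Mat4 :=
  Matrix.of fun I K => g (r1 I) (r1 K) * g (r2 I) (r2 K) - g (r1 I) (r2 K) * g (r2 I) (r1 K)

theorem rho_apply (g : Mat4) (I K : I4) :
    rho g I K = g (r1 I) (r1 K) * g (r2 I) (r2 K) - g (r1 I) (r2 K) * g (r2 I) (r1 K) := rfl

theorem rho_transpose (g : Mat4) : rho gᵀ = (rho g)ᵀ := by
  ext I K
  rw [transpose_apply, rho_apply, rho_apply]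
  simp only [transpose_apply]
  ring

/-- the column relations of a symplectic matrix -/
theorem colrel (g : Mat4) (hg : g ∈ Matrix.symplecticGroup (Fin 2) F) (j k : I4) :
    g (Sum.inr 0) j * g (Sum.inl 0) k - g (Sum.inl 0) j * g (Sum.inr 0) k +
      (g (Sum.inr 1) j * g (Sum.inl 1) k - g (Sum.inl 1) j * g (Sum.inr 1) k) =
      Cfsg.sympForm 2 F (Pi.single j 1) (Pi.single k 1) := by
  have h := (mem_symplecticGroup_iff_preserves g).mp hg (Pi.single j 1) (Pi.single k 1)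
  rw [← h, sympForm_eq_sum, Fin.sum_univ_two]
  simp only [Matrix.mulVec_single_one, Matrix.col_apply]

theorem form_r (K : I4) :
    Cfsg.sympForm 2 F (Pi.single (r1 K) 1) (Pi.single (r2 K) 1) = 0 := by
  rw [sympForm_eq_sum, Fin.sum_univ_two]
  revert K
  refine I4_cases ?_ ?_ ?_ ?_ <;> simp

theorem colrel0 (g : Mat4) (hg : g ∈ Matrix.symplecticGroup (Fin 2) F) (K : I4) :
    g (Sum.inr 0) (r1 K) * g (Sum.inl 0) (r2 K) - g (Sum.inl 0) (r1 K) * g (Sum.inr 0) (r2 K) +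
      (g (Sum.inr 1) (r1 K) * g (Sum.inl 1) (r2 K) -
        g (Sum.inl 1) (r1 K) * g (Sum.inr 1) (r2 K)) = 0 := by
  rw [colrel g hg, form_r]

theorem rowrel0 (g : Mat4) (hg : g ∈ Matrix.symplecticGroup (Fin 2) F) (I : I4) :
    g (r1 I) (Sum.inr 0) * g (r2 I) (Sum.inl 0) - g (r1 I) (Sum.inl 0) * g (r2 I) (Sum.inr 0) +
      (g (r1 I) (Sum.inr 1) * g (r2 I) (Sum.inl 1) -
        g (r1 I) (Sum.inl 1) * g (r2 I) (Sum.inr 1)) = 0 := by
  have := colrel0 gᵀ (SymplecticGroup.transpose_mem hg) I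
  simpa only [transpose_apply] using this

/-- multiplicativity of the matrix of minors on symplectic matrices in characteristic two -/
theorem rho_mul (h2 : (2 : F) = 0) (g h : Mat4) (hg : g ∈ Matrix.symplecticGroup (Fin 2) F)
    (hh : h ∈ Matrix.symplecticGroup (Fin 2) F) : rho (g * h) = rho g * rho h := by
  ext I K
  have e1 := rowrel0 g hg I
  have e2 := colrel0 h hh K
  rw [Matrix.mul_apply, Fintype.sum_sum_type, Fin.sum_univ_two, Fin.sum_univ_two]
  simp only [rho_apply, Matrix.mul_apply, Fintype.sum_sum_type, Fin.sum_univ_two, r1_a, r1_b,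
    r1_c, r1_d, r2_a, r2_b, r2_c, r2_d]
  linear_combination
    (-(g (r1 I) (Sum.inl 0) * g (r2 I) (Sum.inr 0) - g (r1 I) (Sum.inr 0) * g (r2 I) (Sum.inl 0))) * e2 +
    (-(h (Sum.inl 1) (r1 K) * h (Sum.inr 1) (r2 K) - h (Sum.inl 1) (r2 K) * h (Sum.inr 1) (r1 K))) * e1 +
    (-((g (r1 I) (Sum.inl 0) * g (r2 I) (Sum.inr 0) - g (r1 I) (Sum.inr 0) * g (r2 I) (Sum.inl 0)) *
      (h (Sum.inl 1) (r1 K) * h (Sum.inr 1) (r2 K) - h (Sum.inl 1) (r2 K) * h (Sum.inr 1) (r1 K)))) * h2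

theorem rho_one : rho (1 : Mat4) = 1 := by
  ext I K
  rw [rho_apply, Matrix.one_apply, Matrix.one_apply, Matrix.one_apply, Matrix.one_apply,
    Matrix.one_apply]
  revert K
  revert I
  refine I4_cases ?_ ?_ ?_ ?_ <;> refine I4_cases ?_ ?_ ?_ ?_ <;> simp

theorem rho_J (h2 : (2 : F) = 0) : rho (Matrix.J (Fin 2) F) = Matrix.J (Fin 2) F := by
  have hneg : (-1 : F) = 1 := by linear_combination (-1 : F) * h2
  ext I K
  rw [rho_apply]
  revert K
  revert I
  refine I4_cases ?_ ?_ ?_ ?_ <;> refine I4_cases ?_ ?_ ?_ ?_ <;> simp [Matrix.J, hneg]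

/-- the matrix of minors of a symplectic matrix is symplectic -/
theorem rho_mem (h2 : (2 : F) = 0) (g : Mat4) (hg : g ∈ Matrix.symplecticGroup (Fin 2) F) :
    rho g ∈ Matrix.symplecticGroup (Fin 2) F := by
  rw [SymplecticGroup.mem_iff]
  have hJ := SymplecticGroup.J_mem (Fin 2) F
  have hgt := SymplecticGroup.transpose_mem hg
  have hgJ : g * Matrix.J (Fin 2) F ∈ Matrix.symplecticGroup (Fin 2) F :=
    (Matrix.symplecticGroup (Fin 2) F).mul_mem hg hJ
  calc rho g * Matrix.J (Fin 2) F * (rho g)ᵀ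
      = rho g * rho (Matrix.J (Fin 2) F) * rho gᵀ := by rw [rho_J h2, rho_transpose]
    _ = rho (g * Matrix.J (Fin 2) F * gᵀ) := by
        rw [← rho_mul h2 g _ hg hJ, ← rho_mul h2 _ _ hgJ hgt]
    _ = Matrix.J (Fin 2) F := by rw [SymplecticGroup.mem_iff.mp hg, rho_J h2]

/-- the exceptional endomorphism of `Sp_4` -/
def rhoSp (h2 : (2 : F) = 0) :
    ↥(Matrix.symplecticGroup (Fin 2) F) →* ↥(Matrix.symplecticGroup (Fin 2) F) where
  toFun g := ⟨rho g.1, rho_mem h2 g.1 g.2⟩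
  map_one' := Subtype.ext rho_one
  map_mul' g h := Subtype.ext (rho_mul h2 g.1 h.1 g.2 h.2)

theorem rhoSp_val (h2 : (2 : F) = 0) (g : ↥(Matrix.symplecticGroup (Fin 2) F)) :
    (rhoSp h2 g).1 = rho g.1 := rfl

/-- the matrix of a transvection -/
def Tm (u : I4 → F) (c : F) : Mat4 :=
  Matrix.of fun i j => (if i = j then 1 else 0) +
    c * (u i * Sum.elim (fun k => - u (Sum.inr k)) (fun k => u (Sum.inl k)) j)

theorem sympTransvection_eq (u : I4 → F) (c : F) : Cfsg.sympTransvection 2 u c = Tm u c := by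
  ext i j
  unfold Cfsg.sympTransvection Tm
  rw [Matrix.add_apply, Matrix.smul_apply, Matrix.of_apply, Matrix.one_apply, smul_eq_mul,
    Matrix.vecMulVec_apply]
  congr 3
  rcases j with j | j <;>
    simp [Matrix.J, Matrix.mulVec, dotProduct, Fintype.sum_sum_type, Matrix.fromBlocks_apply₁₁,
      Matrix.fromBlocks_apply₁₂, Matrix.fromBlocks_apply₂₁, Matrix.fromBlocks_apply₂₂,
      Matrix.one_apply]

theorem Tm_apply (u : I4 → F) (c : F) (i j : I4) : Tm u c i j = (if i = j then 1 else 0) +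
    c * (u i * Sum.elim (fun k => - u (Sum.inr k)) (fun k => u (Sum.inl k)) j) := rfl

/-- the square of the exceptional endomorphism is the Frobenius map on transvections -/
theorem rho_rho_Tm (h2 : (2 : F) = 0) (u : I4 → F) (c : F) :
    rho (rho (Tm u c)) = Tm (fun i => u i ^ 2) (c ^ 2) := by
  ext I K
  revert K
  revert I
  refine I4_cases ?_ ?_ ?_ ?_ <;> refine I4_cases ?_ ?_ ?_ ?_
  all_goals simp [rho_apply, Tm_apply]
  · linear_combination (-u (Sum.inl 0)*u (Sum.inr 0)*c + u (Sum.inl 0)^2*u (Sum.inr 0)^2*c^2) * h2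
  · linear_combination (0 : F) * h2
  · linear_combination (0 : F) * h2
  · linear_combination (0 : F) * h2
  · linear_combination (0 : F) * h2
  · linear_combination (-u (Sum.inl 1)*u (Sum.inr 1)*c + u (Sum.inl 1)^2*u (Sum.inr 1)^2*c^2) * h2
  · linear_combination (-u (Sum.inl 0)^2*u (Sum.inl 1)^2*c^2) * h2
  · linear_combination (-u (Sum.inl 1)^4*c^2) * h2
  · linear_combination (u (Sum.inr 0)^4*c^2) * h2
  · linear_combination (0 : F) * h2
  · linear_combination (u (Sum.inl 0)*u (Sum.inr 0)*c) * h2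
  · linear_combination (0 : F) * h2
  · linear_combination (u (Sum.inr 0)^2*u (Sum.inr 1)^2*c^2) * h2
  · linear_combination (0 : F) * h2
  · linear_combination (0 : F) * h2
  · linear_combination (u (Sum.inl 1)*u (Sum.inr 1)*c) * h2

end

end Cfsg.Agent.Lib.Helper6.AutPSp
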