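import Mathlib
import Cfsg.Agent.Lib.Helper6.AutSpE

/-!
# The exceptional automorphism of `PSp_4(2^f)`: its square is the Frobenius automorphism and it
is not induced by a semilinear similitude
-/

set_option autoImplicit false
set_option linter.unusedSectionVars false
set_option linter.unusedVariables false
open Cfsg

namespace Cfsg.Agent.Lib.Helper6.AutPSp

open Matrix Cfsg.Agent.Lib.Helper6 Cfsg.Agent.Lib.Helper6.SympRoot Cfsg.Agent.Lib.Helper6.AutPSL
open Cfsg.Agent.Lib.Helper6.AutOrt (frob2 frob2_apply)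

section
variable {F : Type*} [Field F]

local notation "I4" => (Fin 2 ⊕ Fin 2)
local notation "Mat4" => Matrix (Fin 2 ⊕ Fin 2) (Fin 2 ⊕ Fin 2) F
set_option quotPrecheck false in
local notation "Sp4" => ↥(Matrix.symplecticGroup (Fin 2) F)

/-- the partner of an index -/
def pt : I4 → I4 := Sum.elim Sum.inr Sum.inl

theorem Tm_apply2 (h2 : (2 : F) = 0) (u : I4 → F) (c : F) (i j : I4) :
    Tm u c i j = (if i = j then 1 else 0) + c * (u i * u (pt j)) := by
  rw [Tm_apply]
  rcases j with j | j
  · simp only [Sum.elim_inl, pt]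
    linear_combination (-(c * u i * u (Sum.inr j))) * h2
  · simp only [Sum.elim_inr, pt]

theorem Tm_map_sq (h2 : (2 : F) = 0) (u : I4 → F) (c : F) :
    (Tm u c).map (fun x => x ^ 2) = Tm (fun i => u i ^ 2) (c ^ 2) := by
  ext i j
  rw [Matrix.map_apply, Tm_apply2 h2, Tm_apply2 h2]
  split_ifs
  · linear_combination (c * (u i * u (pt j))) * h2
  · ring

variable [Fintype F] [hc2 : CharP F 2]

/-- the exceptional endomorphism of `Sp_4` in characteristic two -/
def rhoS : Sp4 →* Sp4 := rhoSp (CharTwo.two_eq_zero)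

theorem rhoS_val (g : Sp4) : (rhoS g).1 = rho g.1 := rfl

/-- the square of the exceptional endomorphism is the Frobenius automorphism -/
theorem rhoS_rhoS (g : Sp4) : rhoS (rhoS g) = fSp frob2 g := by
  have h2 : (2 : F) = 0 := CharTwo.two_eq_zero
  have hcl := Cfsg.Agent.S0765.result (F := F) 2
  have hg : g ∈ (⊤ : Subgroup Sp4) := trivial
  rw [← hcl] at hg
  induction hg using Subgroup.closure_induction with
  | mem x hx =>
    obtain ⟨w, c, hx⟩ := hx
    apply Subtype.ext
    rw [rhoS_val, rhoS_val, fSp_val, hx, sympTransvection_eq, rho_rho_Tm h2, ← Tm_map_sq h2]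
    rfl
  | one => rw [map_one, map_one, map_one]
  | mul x y _ _ hx hy => rw [map_mul, map_mul, map_mul, hx, hy]
  | inv x _ hx => rw [map_inv, map_inv, map_inv, hx]

theorem rhoS_bijective : Function.Bijective (rhoS : Sp4 →* Sp4) := by
  have hinj : Function.Injective (rhoS : Sp4 →* Sp4) := by
    intro x y hxy
    have := congrArg rhoS hxy
    rw [rhoS_rhoS, rhoS_rhoS] at this
    exact (fSp frob2).injective this
  exact ⟨hinj, Finite.injective_iff_surjective.mp hinj⟩

/-- the exceptional automorphism of `Sp_4` -/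
noncomputable def rhoE : MulAut Sp4 := MulEquiv.ofBijective rhoS rhoS_bijective

theorem rhoE_apply (g : Sp4) : rhoE g = rhoS g := rfl

/-- the exceptional automorphism of `PSp_4` -/
noncomputable def tauP : MulAut (Cfsg.PSp 2 F) :=
  AutInduced.autQuot (Subgroup.center Sp4) rhoE

theorem tauP_mk (g : Sp4) : tauP (pu g) = pu (rhoS g) :=
  AutInduced.autQuot_mk _ _ _

theorem tauP_sq : (tauP * tauP : MulAut (Cfsg.PSp 2 F)) = fP frob2 := by
  ext x
  obtain ⟨g, rfl⟩ := pu_surjective x
  change tauP (tauP (pu g)) = _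
  rw [tauP_mk, tauP_mk, rhoS_rhoS, fP_mk]

end

end Cfsg.Agent.Lib.Helper6.AutPSp
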