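import Mathlib
import Cfsg.Agent.Lib.Helper6.AutSpF

/-!
# `PSp_4(2^f)`: an automorphism maps a long root subgroup to a long or a short root subgroup
-/

set_option autoImplicit false
set_option linter.unusedSectionVars false
set_option linter.unusedVariables false
open Cfsg

namespace Cfsg.Agent.Lib.Helper6.AutPSp

open Matrix Cfsg.Agent.Lib.Helper6 Cfsg.Agent.Lib.Helper6.SympRoot Cfsg.Agent.Lib.Helper6.AutPSL
open scoped Pointwise

section
variable {m : ℕ} {F : Type*} [Field F] [Fintype F]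

set_option quotPrecheck false in
local notation "SpG" => ↥(Matrix.symplecticGroup (Fin m) F)
local notation "Vec" => (Fin m ⊕ Fin m → F)
local notation "Bf" => Cfsg.sympForm m F

variable (P : HPair m F)

/-- in characteristic two the mixed elements of the unipotent radical are squares -/
theorem exists_square_mixed (h2 : (2 : F) = 0) (w : Vec) (b : F) (hwW : P.W w) (hw0 : w ≠ 0)
    (hb0 : b ≠ 0) : ∃ g : SpG, g * g = P.sg w b := by
  obtain ⟨y, hyW, hwy⟩ := P.exists_W_partner hwW hw0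
  have hyw : Bf y w = 1 := by rw [B_swap, hwy, F_neg h2]
  obtain ⟨h₁, hh₁⟩ : ∃ h₁, h₁ = tv w b⁻¹ := ⟨_, rfl⟩
  have h₁e : av h₁ P.e = P.e := by
    rw [hh₁, av_tv, (P.W_swap hwW).1, mul_zero, zero_smul, add_zero]
  have h₁f : av h₁ P.f = P.f := by
    rw [hh₁, av_tv, (P.W_swap hwW).2, mul_zero, zero_smul, add_zero]
  have h₁sq : h₁ * h₁ = 1 := by
    rw [hh₁, tv_mul, F_add_self h2, tv_zero]
  have h₁inv : h₁⁻¹ = h₁ := inv_eq_of_mul_eq_one_left h₁sq
  have h₁y : av h₁ (b • y) = b • y + w := by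
    rw [hh₁, av_tv, sympForm_smul_left, hyw, mul_one, inv_mul_cancel₀ hb0, one_smul]
  obtain ⟨-, hconj⟩ := sg_conj_one P h₁ h₁e h₁f (b • y) 0 (P.W_smul b hyW)
  rw [h₁inv, h₁y] at hconj
  refine ⟨h₁ * P.sg (b • y) 0, ?_⟩
  have e1 : h₁ * P.sg (b • y) 0 * (h₁ * P.sg (b • y) 0) =
      (h₁ * P.sg (b • y) 0 * h₁) * P.sg (b • y) 0 := by group
  rw [e1, hconj, P.sg_mul _ _ _ _ (P.W_add (P.W_smul b hyW) hwW) (P.W_smul b hyW)]
  have e2 : b • y + w + b • y = w := by
    have := vec_add_self h2 (b • y)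
    calc b • y + w + b • y = w + (b • y + b • y) := by abel
      _ = w := by rw [this, add_zero]
  have e3 : (0 : F) + 0 + Bf (b • y + w) (b • y) = b := by
    rw [sympForm_add_left, sympForm_smul_left, sympForm_smul_right, sympForm_smul_right, B_self,
      hwy]
    ring
  rw [e2, e3]

/-- the order of a long root subgroup -/
theorem card_Rb (p : ℕ) [hp : Fact p.Prime] [CharP F p] (hm : 1 ≤ m) (u : Vec) (hu0 : u ≠ 0) :
    Nat.card ↥(Rb u) = Fintype.card F := by
  rw [← Nat.card_eq_fintype_card]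
  symm
  apply Nat.card_eq_of_bijective (fun c : F => (⟨pu (tv u c), (mem_Rb u _).mpr ⟨c, rfl⟩⟩ : ↥(Rb u)))
  constructor
  · intro c c' h
    have h1 : pu (tv u c) = pu (tv u c') := congrArg Subtype.val h
    have h2 := eq_of_pu_eq (p := p) hm _ _ 1 (tv_pow_char' p u c) (tv_pow_char' p u c') h1
    exact tv_injective u hu0 _ _ h2
  · rintro ⟨x, hx⟩
    obtain ⟨c, rfl⟩ := (mem_Rb u x).mp hx
    exact ⟨c, rfl⟩

end

section two
variable {F : Type*} [Field F] [Fintype F]

set_option quotPrecheck false in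
local notation "SpG" => ↥(Matrix.symplecticGroup (Fin 2) F)
local notation "Vec" => (Fin 2 ⊕ Fin 2 → F)
local notation "Bf" => Cfsg.sympForm 2 F

/-- in dimension four the complement of a hyperbolic pair is a hyperbolic plane -/
theorem W_line (P : HPair 2 F) (x w : Vec) (hx : P.W x) (hw : P.W w) (hw0 : w ≠ 0)
    (hxw : Bf x w = 0) : ∃ a : F, x = a • w := by
  classical
  obtain ⟨y, hyW, hwy⟩ := P.exists_W_partner hw hw0
  have hcard : Nat.card {v : Vec // P.W v} = Fintype.card F * Fintype.card F := by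
    have h1 := card_W P
    have hq : 0 < Fintype.card F := Fintype.card_pos
    have h3 : Fintype.card F * Fintype.card F * Nat.card {v : Vec // P.W v} =
        Fintype.card F * Fintype.card F * (Fintype.card F * Fintype.card F) := by
      rw [h1]
      ring
    exact Nat.eq_of_mul_eq_mul_left (by positivity) h3
  let φ : F × F → {v : Vec // P.W v} := fun ab =>
    ⟨ab.1 • w + ab.2 • y, P.W_add (P.W_smul _ hw) (P.W_smul _ hyW)⟩
  have hinj : Function.Injective φ := by
    rintro ⟨a, b⟩ ⟨a', b'⟩ h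
    have h1 : a • w + b • y = a' • w + b' • y := congrArg Subtype.val h
    have h2 := congrArg (fun v => Bf v y) h1
    have h3 := congrArg (fun v => Bf w v) h1
    simp only [sympForm_add_left, sympForm_smul_left, sympForm_add_right, sympForm_smul_right, hwy,
      B_self, mul_one, mul_zero, add_zero, zero_add] at h2 h3
    exact Prod.ext h2 h3
  have hbij : Function.Bijective φ := hinj.bijective_of_nat_card_le (by
    rw [hcard, Nat.card_prod, Nat.card_eq_fintype_card])
  obtain ⟨⟨a, b⟩, hab⟩ := hbij.2 ⟨x, hx⟩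
  have h1 : a • w + b • y = x := congrArg Subtype.val hab
  refine ⟨a, ?_⟩
  have hb : b = 0 := by
    have h4 := hxw
    rw [← h1, sympForm_add_left, sympForm_smul_left, sympForm_smul_left, B_self, mul_zero,
      zero_add] at h4
    have hyw : Bf y w = -1 := by rw [B_swap, hwy]
    rw [hyw] at h4
    linear_combination -h4
  rw [← h1, hb, zero_smul, add_zero]

/-- long root subgroups -/
def IsLong (H : Subgroup (Cfsg.PSp 2 F)) : Prop := ∃ u : Vec, u ≠ 0 ∧ H = Rb u

/-- short root subgroups -/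
def IsShort (H : Subgroup (Cfsg.PSp 2 F)) : Prop :=
  ∃ (P : HPair 2 F) (w : Vec), P.W w ∧ w ≠ 0 ∧
    ∀ x, x ∈ H ↔ ∃ a : F, x = pu (P.sg (a • w) 0)

variable [hc2 : CharP F 2]

/-- **the dichotomy**: in characteristic two an automorphism of `PSp_4` maps a long root subgroup
to a long or to a short root subgroup -/
theorem dichotomy (γ : MulAut (Cfsg.PSp 2 F)) (H : Subgroup (Cfsg.PSp 2 F)) (hH : IsLong H) :
    IsLong (img γ H) ∨ IsShort (img γ H) := by
  classical
  obtain ⟨u, hu0, rfl⟩ := hH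
  have h2 : (2 : F) = 0 := CharTwo.two_eq_zero
  haveI : Fact (Nat.Prime 2) := ⟨Nat.prime_two⟩
  have hm1 : 1 ≤ 2 := by norm_num
  obtain ⟨S, hS⟩ := exists_sylow_fixing (p := 2) hm1 u hu0
  let Sb : Sylow 2 (Cfsg.PSp 2 F) := S.mapSurjective pu_surjective
  have hSb : (Sb : Subgroup _) = (S : Subgroup SpG).map pu := by
    rw [Sylow.coe_mapSurjective]
  obtain ⟨S', hS'⟩ := exists_sylow_rep (γ • Sb)
  obtain ⟨u', hu'0, hS'u⟩ := exists_fixed (p := 2) hm1 (S' : Subgroup SpG) S'.2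
  have h1 : img γ ((S : Subgroup SpG).map pu) = (S' : Subgroup SpG).map pu := by
    rw [← hS', ← hSb, img_sylow]
  obtain ⟨P', hP'⟩ := exists_hpair u' hu'0
  subst hP'
  have hcardH : Nat.card ↥(img γ (Rb u)) = Fintype.card F := by
    unfold img
    rw [Subgroup.card_map_of_injective γ.injective, card_Rb 2 hm1 u hu0]
  have key : ∀ x ∈ img γ (Rb u), ∃ z : SpG, z ∈ Qv P'.e ∧ pu z = x ∧
      (P'.wc z = 0 ∨ P'.bc z = 0) := by
    intro x hx
    obtain ⟨y, hy, rfl⟩ := (mem_img _ _ _).mp hx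
    have h3 : γ y ∈ AutPSU.cen ((S' : Subgroup SpG).map pu) := by
      rw [← h1, ← AutPSU.img_cen]
      exact mem_img_of γ _ (Rb_le_cen_sylow_map (p := 2) hm1 u S hS hy)
    obtain ⟨z, hz, hzx⟩ := cen_sylow_map_le (p := 2) P' hm1 S' hS'u _ h3
    refine ⟨z, hz, hzx, ?_⟩
    by_contra hcon
    push Not at hcon
    obtain ⟨hw0, hb0⟩ := hcon
    have hzsg := P'.Qv_eq_sg z hz
    obtain ⟨g, hg⟩ := exists_square_mixed P' h2 (P'.wc z) (P'.bc z) (P'.wc_W z) hw0 hb0
    rw [← hzsg] at hg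
    obtain ⟨g', hg'⟩ := pu_surjective (γ.symm (pu g))
    have h4 : y = pu (g' * g') := by
      rw [map_mul, hg', ← map_mul, ← map_mul, hg, hzx, MulEquiv.symm_apply_apply]
    obtain ⟨c, hc⟩ := (mem_Rb u y).mp hy
    rw [hc] at h4
    have h5 := pu_inj_two hm1 h2 _ _ h4
    by_cases hc0 : c = 0
    · rw [hc0, tv_zero, map_one] at hc
      rw [hc, map_one] at hzx
      have h6 : z = 1 := pu_inj_two hm1 h2 _ _ (by rw [hzx, map_one])
      rw [h6, HPair.wc_one] at hw0
      exact hw0 rfl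
    · exact not_square h2 u hu0 c hc0 g' h5.symm
  by_cases hall : ∀ x ∈ img γ (Rb u), ∃ z : SpG, z ∈ Tp P'.e ∧ pu z = x
  · left
    refine ⟨P'.e, hu'0, ?_⟩
    have hle : img γ (Rb u) ≤ Rb P'.e := by
      intro x hx
      obtain ⟨z, hz, rfl⟩ := hall x hx
      exact Subgroup.mem_map_of_mem _ hz
    apply Subgroup.eq_of_le_of_card_ge hle
    rw [hcardH, card_Rb 2 hm1 P'.e hu'0]
  · right
    push Not at hall
    obtain ⟨x₁, hx₁, hx₁n⟩ := hall
    obtain ⟨z₁, hz₁, hzx₁, hz₁c⟩ := key x₁ hx₁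
    have hw₁ : P'.wc z₁ ≠ 0 := by
      intro h
      exact hx₁n z₁ (P'.mem_Tp_of_wc z₁ hz₁ h) hzx₁
    have hb₁ : P'.bc z₁ = 0 := hz₁c.resolve_left hw₁
    obtain ⟨w₁, hw₁def⟩ : ∃ w₁, w₁ = P'.wc z₁ := ⟨_, rfl⟩
    rw [← hw₁def] at hw₁
    have hw₁W : P'.W w₁ := by rw [hw₁def]; exact P'.wc_W z₁
    refine ⟨P', w₁, hw₁W, hw₁, ?_⟩
    have hsub : ∀ x ∈ img γ (Rb u), ∃ a : F, x = pu (P'.sg (a • w₁) 0) := by
      intro x hx
      obtain ⟨z, hz, hzx, hzc⟩ := key x hx
      have hprod := (img γ (Rb u)).mul_mem hx hx₁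
      obtain ⟨z₂, hz₂, hzx₂, hzc₂⟩ := key _ hprod
      have hz₂eq : z₂ = z * z₁ := pu_inj_two hm1 h2 _ _ (by rw [hzx₂, map_mul, hzx, hzx₁])
      have hwc₂ : P'.wc z₂ = P'.wc z + w₁ := by rw [hz₂eq, P'.wc_mul z z₁ hz hz₁, hw₁def]
      have hbc₂ : P'.bc z₂ = P'.bc z + Bf (P'.wc z) w₁ := by
        rw [hz₂eq, P'.bc_mul z z₁ hz hz₁, hb₁, hw₁def]
        ring
      by_cases hwz : P'.wc z = 0
      · have h5 : P'.bc z₂ = 0 := hzc₂.resolve_left (by rw [hwc₂, hwz, zero_add]; exact hw₁)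
        rw [hbc₂, hwz, sympForm_zero_left, add_zero] at h5
        refine ⟨0, ?_⟩
        rw [← hzx, zero_smul]
        conv_lhs => rw [P'.Qv_eq_sg z hz, hwz, h5]
      · have hbz : P'.bc z = 0 := hzc.resolve_left hwz
        by_cases hsum : P'.wc z + w₁ = 0
        · refine ⟨1, ?_⟩
          have h5 : P'.wc z = w₁ := by
            have h6 := eq_neg_of_add_eq_zero_left hsum
            rw [h6, vec_neg h2]
          rw [← hzx, one_smul]
          conv_lhs => rw [P'.Qv_eq_sg z hz, h5, hbz]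
        · have hb2 : P'.bc z₂ = 0 := hzc₂.resolve_left (by rw [hwc₂]; exact hsum)
          rw [hbc₂, hbz, zero_add] at hb2
          obtain ⟨a, ha⟩ := W_line P' _ w₁ (P'.wc_W z) hw₁W hw₁ hb2
          refine ⟨a, ?_⟩
          rw [← hzx]
          conv_lhs => rw [P'.Qv_eq_sg z hz, ha, hbz]
    -- equality of the two sets by cardinality
    have hsubset : ((img γ (Rb u) : Subgroup _) : Set (Cfsg.PSp 2 F)) ⊆
        Set.range (fun a : F => pu (P'.sg (a • w₁) 0)) := by
      intro x hx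
      obtain ⟨a, ha⟩ := hsub x hx
      exact ⟨a, ha.symm⟩
    have hfin : (Set.range (fun a : F => pu (P'.sg (a • w₁) 0))).Finite := Set.toFinite _
    have hcard2 : (Set.range (fun a : F => pu (P'.sg (a • w₁) 0))).ncard ≤
        ((img γ (Rb u) : Subgroup _) : Set (Cfsg.PSp 2 F)).ncard := by
      have h7 : ((img γ (Rb u) : Subgroup _) : Set (Cfsg.PSp 2 F)).ncard = Fintype.card F := by
        rw [← hcardH]
        rfl
      rw [h7, ← Set.image_univ, ← Nat.card_eq_fintype_card, ← Set.ncard_univ]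
      exact Set.ncard_image_le
    have heq := Set.eq_of_subset_of_ncard_le hsubset hcard2 hfin
    intro x
    constructor
    · exact hsub x
    · rintro ⟨a, rfl⟩
      have : pu (P'.sg (a • w₁) 0) ∈ Set.range (fun a : F => pu (P'.sg (a • w₁) 0)) := ⟨a, rfl⟩
      rw [← heq] at this
      exact this

end two

end Cfsg.Agent.Lib.Helper6.AutPSp
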