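import Mathlib
import Cfsg.Agent.Lib.Helper6.AutSpG

/-!
# `PSp_4(2^f)`: conjugacy of the short root subgroups, and the exceptional automorphism
interchanges long and short root subgroups
-/

set_option autoImplicit false
set_option linter.unusedSectionVars false
set_option linter.unusedVariables false
open Cfsg

namespace Cfsg.Agent.Lib.Helper6.AutPSp

open Matrix Cfsg.Agent.Lib.Helper6 Cfsg.Agent.Lib.Helper6.SympRoot Cfsg.Agent.Lib.Helper6.AutPSL
open Cfsg.Agent.Lib.Helper6.AutOrt (frob2 frob2_apply)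

section gen
variable {m : ℕ} {F : Type*} [Field F]

set_option quotPrecheck false in
local notation "SpG" => ↥(Matrix.symplecticGroup (Fin m) F)
local notation "Vec" => (Fin m ⊕ Fin m → F)
local notation "Bf" => Cfsg.sympForm m F

/-- the image of a hyperbolic pair -/
def HPair.map (P : HPair m F) (g : SpG) : HPair m F := ⟨av g P.e, av g P.f, by rw [B_av, P.hef]⟩

theorem HPair.map_e (P : HPair m F) (g : SpG) : (P.map g).e = av g P.e := rfl

theorem HPair.map_f (P : HPair m F) (g : SpG) : (P.map g).f = av g P.f := rfl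

theorem HPair.map_W (P : HPair m F) (g : SpG) (w : Vec) (hw : P.W w) : (P.map g).W (av g w) :=
  ⟨by rw [HPair.map_e, B_av]; exact hw.1, by rw [HPair.map_f, B_av]; exact hw.2⟩

theorem conj_sg (P : HPair m F) (g : SpG) (w : Vec) (b : F) :
    g * P.sg w b * g⁻¹ = (P.map g).sg (av g w) b := by
  unfold HPair.sg
  have h1 : g * (tv (P.e - w) 1 * tv w (-1) * tv P.e (-1 - b)) * g⁻¹ =
      (g * tv (P.e - w) 1 * g⁻¹) * (g * tv w (-1) * g⁻¹) * (g * tv P.e (-1 - b) * g⁻¹) := by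
    group
  rw [h1, conj_tv, conj_tv, conj_tv, HPair.map_e]
  change tv (av g (P.e - w)) 1 * tv (av g w) (-1) * tv (av g P.e) (-1 - b) = _
  rw [av_sub]

theorem HPair.ext' (P P' : HPair m F) (he : P.e = P'.e) (hf : P.f = P'.f) : P = P' := by
  cases P
  cases P'
  simp only at he hf
  subst he hf
  rfl

end gen

section two
variable {F : Type*} [Field F] [Fintype F]

set_option quotPrecheck false in
local notation "SpG" => ↥(Matrix.symplecticGroup (Fin 2) F)
local notation "Vec" => (Fin 2 ⊕ Fin 2 → F)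
local notation "Bf" => Cfsg.sympForm 2 F
local notation "Mat4" => Matrix (Fin 2 ⊕ Fin 2) (Fin 2 ⊕ Fin 2) F

/-- the matrix with prescribed columns -/
def basisMat (e f w y : Vec) : Mat4 :=
  Matrix.of fun i j => Sum.elim ![f i, y i] ![e i, w i] j

theorem basisMat_mulVec (e f w y x : Vec) :
    basisMat e f w y *ᵥ x =
      x (Sum.inl 0) • f + x (Sum.inl 1) • y + x (Sum.inr 0) • e + x (Sum.inr 1) • w := by
  funext i
  simp [basisMat, Matrix.mulVec, dotProduct, Fintype.sum_sum_type, Fin.sum_univ_two]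
  ring

theorem basisMat_mem (e f w y : Vec) (hef : Bf e f = 1) (hwy : Bf w y = 1) (hwe : Bf w e = 0)
    (hwf : Bf w f = 0) (hye : Bf y e = 0) (hyf : Bf y f = 0) :
    basisMat e f w y ∈ Matrix.symplecticGroup (Fin 2) F := by
  rw [mem_symplecticGroup_iff_preserves]
  intro u v
  have hfe : Bf f e = -1 := by rw [B_swap, hef]
  have hyw : Bf y w = -1 := by rw [B_swap, hwy]
  have hew : Bf e w = 0 := B_swap_zero hwe
  have hfw : Bf f w = 0 := B_swap_zero hwf
  have hey : Bf e y = 0 := B_swap_zero hye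
  have hfy : Bf f y = 0 := B_swap_zero hyf
  rw [basisMat_mulVec, basisMat_mulVec]
  simp only [sympForm_add_left, sympForm_add_right, sympForm_smul_left, sympForm_smul_right,
    B_self, hef, hwy, hwe, hwf, hye, hyf, hfe, hyw, hew, hfw, hey, hfy]
  rw [sympForm_eq_sum, Fin.sum_univ_two]
  ring

/-- Witt's theorem for symplectic bases in dimension four -/
theorem exists_map_basis (e f w y e' f' w' y' : Vec) (hef : Bf e f = 1) (hwy : Bf w y = 1)
    (hwe : Bf w e = 0) (hwf : Bf w f = 0) (hye : Bf y e = 0) (hyf : Bf y f = 0)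
    (hef' : Bf e' f' = 1) (hwy' : Bf w' y' = 1) (hwe' : Bf w' e' = 0) (hwf' : Bf w' f' = 0)
    (hye' : Bf y' e' = 0) (hyf' : Bf y' f' = 0) :
    ∃ g : SpG, av g e = e' ∧ av g f = f' ∧ av g w = w' := by
  let M : SpG := ⟨basisMat e f w y, basisMat_mem e f w y hef hwy hwe hwf hye hyf⟩
  let M' : SpG := ⟨basisMat e' f' w' y', basisMat_mem e' f' w' y' hef' hwy' hwe' hwf' hye' hyf'⟩
  have hM : ∀ x : Vec, av M x =
      x (Sum.inl 0) • f + x (Sum.inl 1) • y + x (Sum.inr 0) • e + x (Sum.inr 1) • w :=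
    fun x => basisMat_mulVec e f w y x
  have hM' : ∀ x : Vec, av M' x =
      x (Sum.inl 0) • f' + x (Sum.inl 1) • y' + x (Sum.inr 0) • e' + x (Sum.inr 1) • w' :=
    fun x => basisMat_mulVec e' f' w' y' x
  refine ⟨M' * M⁻¹, ?_, ?_, ?_⟩
  · have h1 : av M (Pi.single (Sum.inr 0) 1) = e := by
      rw [hM]
      simp
    rw [av_mul, ← h1, av_inv_av, hM']
    simp
  · have h1 : av M (Pi.single (Sum.inl 0) 1) = f := by
      rw [hM]
      simp
    rw [av_mul, ← h1, av_inv_av, hM']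
    simp
  · have h1 : av M (Pi.single (Sum.inr 1) 1) = w := by
      rw [hM]
      simp
    rw [av_mul, ← h1, av_inv_av, hM']
    simp

theorem isLong_conj (g : SpG) (H : Subgroup (Cfsg.PSp 2 F)) (hH : IsLong H) :
    IsLong (img (MulAut.conj (pu g)) H) := by
  obtain ⟨u, hu0, rfl⟩ := hH
  exact ⟨av g u, av_ne_zero g hu0, img_conj_Rb g u⟩

theorem isShort_conj (g : SpG) (H : Subgroup (Cfsg.PSp 2 F)) (hH : IsShort H) :
    IsShort (img (MulAut.conj (pu g)) H) := by
  obtain ⟨P, w, hw, hw0, hH⟩ := hH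
  refine ⟨P.map g, av g w, P.map_W g w hw, av_ne_zero g hw0, ?_⟩
  intro x
  rw [mem_img]
  constructor
  · rintro ⟨y, hy, rfl⟩
    obtain ⟨a, rfl⟩ := (hH y).mp hy
    refine ⟨a, ?_⟩
    rw [MulAut.conj_apply, ← map_inv, ← map_mul, ← map_mul, conj_sg, av_smul]
  · rintro ⟨a, rfl⟩
    refine ⟨pu (P.sg (a • w) 0), (hH _).mpr ⟨a, rfl⟩, ?_⟩
    rw [MulAut.conj_apply, ← map_inv, ← map_mul, ← map_mul, conj_sg, av_smul]

theorem long_conj_trans (H H' : Subgroup (Cfsg.PSp 2 F)) (hH : IsLong H) (hH' : IsLong H') :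
    ∃ g : SpG, img (MulAut.conj (pu g)) H = H' := by
  obtain ⟨u, hu0, rfl⟩ := hH
  obtain ⟨u', hu'0, rfl⟩ := hH'
  obtain ⟨g, hg⟩ := exists_map u u' hu0 hu'0
  exact ⟨g, by rw [img_conj_Rb]; congr 1⟩

theorem short_conj_trans (H H' : Subgroup (Cfsg.PSp 2 F)) (hH : IsShort H) (hH' : IsShort H') :
    ∃ g : SpG, img (MulAut.conj (pu g)) H = H' := by
  obtain ⟨P, w, hw, hw0, hH⟩ := hH
  obtain ⟨P', w', hw', hw'0, hH'⟩ := hH'
  obtain ⟨y, hy, hwy⟩ := P.exists_W_partner hw hw0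
  obtain ⟨y', hy', hwy'⟩ := P'.exists_W_partner hw' hw'0
  obtain ⟨g, hge, hgf, hgw⟩ := exists_map_basis P.e P.f w y P'.e P'.f w' y' P.hef hwy hw.1 hw.2
    hy.1 hy.2 P'.hef hwy' hw'.1 hw'.2 hy'.1 hy'.2
  refine ⟨g, ?_⟩
  have hP : P.map g = P' := HPair.ext' _ _ hge hgf
  ext x
  rw [mem_img, hH']
  constructor
  · rintro ⟨z, hz, rfl⟩
    obtain ⟨a, rfl⟩ := (hH z).mp hz
    refine ⟨a, ?_⟩
    rw [MulAut.conj_apply, ← map_inv, ← map_mul, ← map_mul, conj_sg, av_smul, hP, hgw]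
  · rintro ⟨a, rfl⟩
    refine ⟨pu (P.sg (a • w) 0), (hH _).mpr ⟨a, rfl⟩, ?_⟩
    rw [MulAut.conj_apply, ← map_inv, ← map_mul, ← map_mul, conj_sg, av_smul, hP, hgw]

end two

end Cfsg.Agent.Lib.Helper6.AutPSp
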