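import Mathlib
import Cfsg.Agent.Lib.Helper6.AutSpH

/-!
# `PSp_4(2^f)`: the image of `PΓSp_4` has index two in the automorphism group
-/

set_option autoImplicit false
set_option linter.unusedSectionVars false
set_option linter.unusedVariables false
open Cfsg

namespace Cfsg.Agent.Lib.Helper6.AutPSp

open Matrix Cfsg.Agent.Lib.Helper6 Cfsg.Agent.Lib.Helper6.SympRoot Cfsg.Agent.Lib.Helper6.AutPSL
open Cfsg.Agent.Lib.Helper6.AutOrt (frob2 frob2_apply)

section two
variable {F : Type*} [Field F] [Fintype F]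

set_option quotPrecheck false in
local notation "SpG" => ↥(Matrix.symplecticGroup (Fin 2) F)
local notation "Vec" => (Fin 2 ⊕ Fin 2 → F)
local notation "Bf" => Cfsg.sympForm 2 F
local notation "Mat4" => Matrix (Fin 2 ⊕ Fin 2) (Fin 2 ⊕ Fin 2) F

/-- a subgroup is not both a long and a short root subgroup -/
theorem not_long_short (H : Subgroup (Cfsg.PSp 2 F)) (h2 : (2 : F) = 0) (hL : IsLong H)
    (hS : IsShort H) : False := by
  obtain ⟨u, hu0, rfl⟩ := hL
  obtain ⟨P, w, hw, hw0, hH⟩ := hS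
  have h1 : pu (P.sg ((1 : F) • w) 0) ∈ Rb u := (hH _).mpr ⟨1, rfl⟩
  rw [one_smul] at h1
  obtain ⟨c, hc⟩ := (mem_Rb u _).mp h1
  have h3 : P.sg w 0 = tv u c := pu_inj_two (by norm_num) h2 _ _ hc
  obtain ⟨y, hy, hwy⟩ := P.exists_W_partner hw hw0
  have e1 : av (P.sg w 0) P.f = av (tv u c) P.f := by rw [h3]
  have e2 : av (P.sg w 0) y = av (tv u c) y := by rw [h3]
  rw [P.av_sg_f w 0 hw, av_tv, zero_smul, add_zero] at e1
  rw [P.av_sg_W w 0 hw y hy, av_tv, hwy, one_smul] at e2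
  have e1' : w = (c * Bf P.f u) • u := add_left_cancel e1
  have e2' : P.e = (c * Bf y u) • u := add_left_cancel e2
  have e3 : Bf w P.f = 0 := hw.2
  have e4 := P.hef
  rw [e1', sympForm_smul_left] at e3
  rw [e2', sympForm_smul_left] at e4
  have e5 : Bf u P.f ≠ 0 := by
    intro h
    rw [h, mul_zero] at e4
    exact zero_ne_one e4
  have e6 : c * Bf P.f u = 0 := by
    rcases mul_eq_zero.mp e3 with h | h
    · exact h
    · exact absurd h e5
  rw [e6, zero_smul] at e1'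
  exact hw0 e1'

variable [hc2 : CharP F 2]

/-- the first basis vector -/
def e1v : Vec := Pi.single (Sum.inl 0) 1

theorem e1v_ne : (e1v : Vec) ≠ 0 := by
  intro h
  have := congrFun h (Sum.inl 0)
  simp [e1v] at this

theorem tv_val (u : Vec) (c : F) : (tv u c : SpG).1 = Tm u c := sympTransvection_eq u c

/-- the image of a long root element under the exceptional endomorphism is not a transvection -/
theorem rhoS_tv_ne (c : F) (hc : c ≠ 0) (u' : Vec) (c' : F) :
    rhoS (tv e1v c) ≠ tv u' c' := by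
  intro h
  have h1 := congrArg Subtype.val h
  rw [rhoS_val, tv_val, tv_val] at h1
  have ha := congrFun (congrFun h1 (Sum.inl 1)) (Sum.inr 0)
  have hb := congrFun (congrFun h1 (Sum.inl 0)) (Sum.inr 0)
  simp [rho_apply, Tm_apply, e1v] at ha hb
  rcases hb with hb | hb
  · rw [hb] at ha
    simp at ha
    exact hc ha
  · rw [hb] at ha
    simp at ha
    exact hc ha

theorem not_long_tau : ¬ IsLong (img (tauP : MulAut (Cfsg.PSp 2 F)) (Rb e1v)) := by
  rintro ⟨u', hu'0, h⟩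
  have h2 : (2 : F) = 0 := CharTwo.two_eq_zero
  have h1 : tauP (pu (tv e1v 1)) ∈ Rb u' := by
    rw [← h]
    exact mem_img_of _ _ ((mem_Rb _ _).mpr ⟨1, rfl⟩)
  obtain ⟨c', hc'⟩ := (mem_Rb u' _).mp h1
  rw [tauP_mk] at hc'
  exact rhoS_tv_ne 1 one_ne_zero u' c' (pu_inj_two (by norm_num) h2 _ _ hc')

theorem fP_mem_gamma (σ : F ≃+* F) : (fP σ : MulAut (Cfsg.PSp 2 F)) ∈ Cfsg.gammaPSp 2 F := by
  have := cP_fP_mem_gamma (1 : GL (Fin 2 ⊕ Fin 2) F) (Cfsg.GSp 2 F).one_mem σ
  rwa [cP_one, one_mul] at this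

theorem short_tau : IsShort (img (tauP : MulAut (Cfsg.PSp 2 F)) (Rb e1v)) := by
  rcases dichotomy (tauP : MulAut (Cfsg.PSp 2 F)) (Rb e1v) ⟨e1v, e1v_ne, rfl⟩ with h | h
  · exact absurd h not_long_tau
  · exact h

/-- the exceptional automorphism maps long root subgroups to short root subgroups -/
theorem tau_long_short (H : Subgroup (Cfsg.PSp 2 F)) (hH : IsLong H) :
    IsShort (img (tauP : MulAut (Cfsg.PSp 2 F)) H) := by
  obtain ⟨g, hg⟩ := long_conj_trans (Rb e1v) H ⟨e1v, e1v_ne, rfl⟩ hH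
  rw [← hg, img_conj_comm]
  obtain ⟨g', hg'⟩ := pu_surjective ((tauP : MulAut (Cfsg.PSp 2 F)) (pu g))
  rw [← hg']
  exact isShort_conj g' _ short_tau

/-- the exceptional automorphism maps short root subgroups to long root subgroups -/
theorem tau_short_long (H : Subgroup (Cfsg.PSp 2 F)) (hH : IsShort H) :
    IsLong (img (tauP : MulAut (Cfsg.PSp 2 F)) H) := by
  obtain ⟨g, hg⟩ := short_conj_trans _ H short_tau hH
  rw [← hg, img_conj_comm]
  obtain ⟨g', hg'⟩ := pu_surjective ((tauP : MulAut (Cfsg.PSp 2 F)) (pu g))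
  rw [← hg']
  apply isLong_conj g'
  rw [← img_mul', tauP_sq]
  obtain ⟨u', hu', h⟩ := longPres_of_mem _ (fP_mem_gamma (F := F) frob2) e1v e1v_ne
  exact ⟨u', hu', h⟩

/-- membership in the image of `PΓSp_4` is detected on one long root subgroup -/
theorem mem_gamma_iff_long (β : MulAut (Cfsg.PSp 2 F)) :
    β ∈ Cfsg.gammaPSp 2 F ↔ IsLong (img β (Rb e1v)) := by
  have : Fact (Nat.Prime 2) := ⟨Nat.prime_two⟩
  constructor
  · intro h
    obtain ⟨u', hu', h⟩ := longPres_of_mem _ h e1v e1v_ne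
    exact ⟨u', hu', h⟩
  · intro h
    apply mem_gamma_of_longPres 2 (le_refl 2)
    intro u hu0
    obtain ⟨g, hg⟩ := long_conj_trans (Rb e1v) (Rb u) ⟨e1v, e1v_ne, rfl⟩ ⟨u, hu0, rfl⟩
    rw [← hg, img_conj_comm]
    obtain ⟨g', hg'⟩ := pu_surjective (β (pu g))
    rw [← hg']
    obtain ⟨u', hu', h'⟩ := isLong_conj g' _ h
    exact ⟨u', hu', h'⟩

/-- **the image of `PΓSp_4(2^f)` has index two in the automorphism group** -/
theorem index_gamma_two : (Cfsg.gammaPSp 2 F).index = 2 := by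
  have h2 : (2 : F) = 0 := CharTwo.two_eq_zero
  rw [Subgroup.index_eq_two_iff']
  refine ⟨tauP, fun β => ?_⟩
  rw [mem_gamma_iff_long, mem_gamma_iff_long, img_mul']
  rcases dichotomy β (Rb e1v) ⟨e1v, e1v_ne, rfl⟩ with h | h
  · refine Or.inr ⟨h, ?_⟩
    intro h'
    exact not_long_short _ h2 h' (tau_long_short _ h)
  · refine Or.inl ⟨tau_short_long _ h, ?_⟩
    intro h'
    exact not_long_short _ h2 h' h

theorem tauP_not_mem : (tauP : MulAut (Cfsg.PSp 2 F)) ∉ Cfsg.gammaPSp 2 F := by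
  rw [mem_gamma_iff_long]
  exact not_long_tau

/-- **the order of the automorphism group of `PSp_4(2^f)`** -/
theorem card_aut_four {f : ℕ} (hF : Fintype.card F = 2 ^ f) (hf : 1 ≤ f) :
    Nat.card (MulAut (Cfsg.PSp 2 F)) = 2 * f * Nat.card (Cfsg.PSp 2 F) := by
  have : Fact (Nat.Prime 2) := ⟨Nat.prime_two⟩
  have h1 := Subgroup.index_mul_card (Cfsg.gammaPSp 2 F)
  rw [index_gamma_two, card_gamma hF hf (by norm_num)] at h1
  have h3 : Nat.gcd 2 (2 ^ f - 1) = 1 := by
    have h4 : ¬ 2 ∣ 2 ^ f - 1 := by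
      have : 2 ∣ 2 ^ f := dvd_pow_self 2 (by omega)
      have hpos : 1 ≤ 2 ^ f := Nat.one_le_two_pow
      omega
    exact (Nat.Prime.coprime_iff_not_dvd Nat.prime_two).mpr h4
  rw [h3] at h1
  rw [← h1]
  ring

end two

end Cfsg.Agent.Lib.Helper6.AutPSp
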