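import Mathlib
import Cfsg.Agent.Lib.Helper6.AutSpI

/-!
# `PSp_4(2^f)`: the outer automorphism group is cyclic of order `2f`
-/

set_option autoImplicit false
set_option linter.unusedSectionVars false
set_option linter.unusedVariables false
open Cfsg

namespace Cfsg.Agent.Lib.Helper6.AutPSp

open Matrix Cfsg.Agent.Lib.Helper6 Cfsg.Agent.Lib.Helper6.SympRoot Cfsg.Agent.Lib.Helper6.AutPSL
open Cfsg.Agent.Lib.Helper6.AutOrt (frob2 frob2_apply orderOf_frob2)

section grp

theorem isCyclic_of_dvd {G : Type*} [Group G] [Finite G] (x : G)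
    (f : ℕ) (hf : 1 ≤ f) (hcard : Nat.card G = 2 * f) (h1 : f ∣ orderOf x)
    (hx : x ^ f ≠ 1) : IsCyclic G := by
  have h2 : orderOf x ∣ 2 * f := by
    rw [← hcard]
    exact orderOf_dvd_natCard x
  obtain ⟨t, ht⟩ := h1
  have h3 : t ∣ 2 := by
    rw [ht, mul_comm 2 f] at h2
    exact Nat.dvd_of_mul_dvd_mul_left (by omega) h2
  have h4 : t = 1 ∨ t = 2 := by
    have := Nat.le_of_dvd (by norm_num) h3
    interval_cases t
    · simp at h3
    · left; rfl
    · right; rfl
  rcases h4 with rfl | rfl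
  · exfalso
    apply hx
    rw [mul_one] at ht
    rw [← ht]
    exact pow_orderOf_eq_one x
  · apply isCyclic_of_orderOf_eq_card x
    rw [ht, hcard, mul_comm]

theorem card_Inn_of_center_bot {G : Type*} [Group G] (hc : Subgroup.center G = ⊥) :
    Nat.card (Cfsg.Inn G) = Nat.card G := by
  have hinj : Function.Injective (MulAut.conj : G →* MulAut G) := by
    rw [injective_iff_map_eq_one]
    intro x hx
    have : x ∈ Subgroup.center G := by
      rw [Subgroup.mem_center_iff]
      intro y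
      have := congrArg (fun β : MulAut G => β y) hx
      simp only [MulAut.conj_apply, MulAut.one_apply] at this
      calc y * x = (x * y * x⁻¹) * x := by rw [this]
        _ = x * y := by group
    rw [hc] at this
    exact Subgroup.mem_bot.mp this
  exact Nat.card_congr (Equiv.ofInjective _ hinj).symm

end grp

section gen
variable {m : ℕ} {F : Type*} [Field F] [Fintype F]

set_option quotPrecheck false in
local notation "SpG" => ↥(Matrix.symplecticGroup (Fin m) F)
local notation "Vec" => (Fin m ⊕ Fin m → F)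
local notation "Bf" => Cfsg.sympForm m F
local notation "Mat" => Matrix (Fin m ⊕ Fin m) (Fin m ⊕ Fin m) F

theorem fP_mul (σ τ : RingAut F) :
    (fP (σ * τ) : MulAut (Cfsg.PSp m F)) = fP σ * fP τ := by
  ext x
  obtain ⟨s, rfl⟩ := pu_surjective x
  change fP (σ * τ) (pu s) = fP σ (fP τ (pu s))
  rw [fP_mk, fP_mk, fP_mk]
  congr 1

/-- field automorphisms as a homomorphism -/
noncomputable def fPhom : RingAut F →* MulAut (Cfsg.PSp m F) where
  toFun σ := fP σ
  map_one' := fP_refl
  map_mul' := fP_mul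

theorem fPhom_apply (σ : RingAut F) : (fPhom σ : MulAut (Cfsg.PSp m F)) = fP σ := rfl

theorem gam_ofField (σ : F ≃+* F) : (SemiSim.ofField σ : SemiSim m F).gam = fP σ := by
  have h1 : (SemiSim.ofField σ : SemiSim m F).gl = 1 := by
    apply Units.ext
    rw [SemiSim.gl_val]
    apply mat_ext_mulVec
    intro x
    rw [SemiSim.mat_mulVec, Units.val_one, one_mulVec]
    funext i
    change σ (σ.symm (x i)) = x i
    simp
  unfold SemiSim.gam
  rw [cP_congr _ 1 _ (Cfsg.GSp m F).one_mem h1, cP_one, one_mul]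
  rfl

theorem conj_eq_cPhom (g : SpG) :
    MulAut.conj (pu g) = cPhom ⟨spToGL g, spToGL_mem g⟩ := by
  ext x
  obtain ⟨s, rfl⟩ := pu_surjective x
  rw [MulAut.conj_apply, ← map_inv, ← map_mul, ← map_mul, cPhom_apply, cP_mk]
  congr 1

theorem Inn_le_cPhom_range :
    Cfsg.Inn (Cfsg.PSp m F) ≤ (cPhom (m := m) (F := F)).range := by
  rintro β ⟨x, rfl⟩
  obtain ⟨g, rfl⟩ := pu_surjective x
  exact ⟨_, (conj_eq_cPhom g).symm⟩

end gen

section two
variable {F : Type*} [Field F] [Fintype F] [hc2 : CharP F 2]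

set_option quotPrecheck false in
local notation "SpG" => ↥(Matrix.symplecticGroup (Fin 2) F)

theorem center_PSp_four : Subgroup.center (Cfsg.PSp 2 F) = ⊥ := by
  have h2 : (2 : F) = 0 := CharTwo.two_eq_zero
  rw [eq_bot_iff]
  intro x hx
  obtain ⟨z, rfl⟩ := pu_surjective x
  rw [Subgroup.mem_bot, pu_eq_one_iff, Subgroup.mem_center_iff]
  intro s
  apply pu_inj_two (by norm_num) h2
  rw [map_mul, map_mul]
  exact Subgroup.mem_center_iff.mp hx (pu s)

/-- if a power of a field automorphism is inner then the power is trivial -/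
theorem fP_mem_Inn (σ : RingAut F) (h : (fP σ : MulAut (Cfsg.PSp 2 F)) ∈ Cfsg.Inn (Cfsg.PSp 2 F)) :
    σ = 1 := by
  haveI : Fact (Nat.Prime 2) := ⟨Nat.prime_two⟩
  have h1 := Inn_le_cPhom_range h
  have h3 : (⟨fP σ, fP_mem_gamma σ⟩ : ↥(Cfsg.gammaPSp 2 F)) ∈
      (psiSp (m := 2) (F := F) 2 (by norm_num)).ker := by
    rw [psiSp_ker, Subgroup.mem_subgroupOf]
    exact h1
  rw [MonoidHom.mem_ker] at h3
  have h4 : (⟨fP σ, fP_mem_gamma σ⟩ : ↥(Cfsg.gammaPSp 2 F)) =
      ⟨(SemiSim.ofField σ).gam, (SemiSim.ofField σ).gam_mem⟩ := by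
    apply Subtype.ext
    exact (gam_ofField σ).symm
  rw [h4, psiSp_gam] at h3
  exact h3

/-- **the outer automorphism group of `PSp_4(2^f)` is cyclic of order `2f`** -/
theorem out_four {f : ℕ} (hF : Fintype.card F = 2 ^ f) (hf : 1 ≤ f) :
    IsCyclic (Cfsg.Out (Cfsg.PSp 2 F)) ∧ Nat.card (Cfsg.Out (Cfsg.PSp 2 F)) = 2 * f := by
  classical
  have hcardAut := card_aut_four hF hf
  have hI := card_Inn_of_center_bot (center_PSp_four (F := F))
  have hcardOut : Nat.card (Cfsg.Out (Cfsg.PSp 2 F)) = 2 * f := by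
    have h3 := Subgroup.card_eq_card_quotient_mul_card_subgroup (Cfsg.Inn (Cfsg.PSp 2 F))
    rw [hcardAut, hI] at h3
    have hpos : 0 < Nat.card (Cfsg.PSp 2 F) := Nat.card_pos
    exact (Nat.eq_of_mul_eq_mul_right hpos h3).symm
  refine ⟨?_, hcardOut⟩
  haveI : Finite (Cfsg.Out (Cfsg.PSp 2 F)) :=
    Nat.finite_of_card_ne_zero (by rw [hcardOut]; omega)
  have hsq : ∀ k : ℕ, (tauP : MulAut (Cfsg.PSp 2 F)) ^ (2 * k) = fP ((frob2 : RingAut F) ^ k) := by
    intro k
    rw [pow_mul, pow_two, tauP_sq, ← fPhom_apply, ← map_pow]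
    rfl
  apply isCyclic_of_dvd (QuotientGroup.mk (tauP : MulAut (Cfsg.PSp 2 F))) f hf hcardOut
  · -- `f` divides the order
    rw [← orderOf_frob2 hf hF]
    apply orderOf_dvd_of_pow_eq_one
    apply fP_mem_Inn
    have h5 : ((QuotientGroup.mk (tauP : MulAut (Cfsg.PSp 2 F)) : Cfsg.Out (Cfsg.PSp 2 F)) ^
        orderOf (QuotientGroup.mk (tauP : MulAut (Cfsg.PSp 2 F)) : Cfsg.Out (Cfsg.PSp 2 F))) ^ 2
        = 1 := by
      rw [pow_orderOf_eq_one, one_pow]
    rw [← pow_mul, mul_comm, ← QuotientGroup.mk_pow, hsq, QuotientGroup.eq_one_iff] at h5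
    exact h5
  · -- the `f`-th power is not trivial
    intro h
    rw [← QuotientGroup.mk_pow, QuotientGroup.eq_one_iff] at h
    rcases Nat.even_or_odd' f with ⟨k, hk | hk⟩
    · rw [hk, hsq] at h
      have h6 := fP_mem_Inn _ h
      have h7 := orderOf_dvd_of_pow_eq_one h6
      rw [orderOf_frob2 hf hF] at h7
      have := Nat.le_of_dvd (by omega) h7
      omega
    · rw [hk, pow_succ, hsq] at h
      have h6 : (fP ((frob2 : RingAut F) ^ k) * tauP : MulAut (Cfsg.PSp 2 F)) ∈
          Cfsg.gammaPSp 2 F := cPhom_range_le (Inn_le_cPhom_range h)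
      have h7 := (Subgroup.mul_mem_cancel_left (Cfsg.gammaPSp 2 F) (fP_mem_gamma _)).mp h6
      exact tauP_not_mem h7

end two

end Cfsg.Agent.Lib.Helper6.AutPSp
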