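import Mathlib
import Cfsg.Prelude.Def_Characters
import Cfsg.Prelude.Def_Perm
import Cfsg.Agent.Lib.Helper2.Completeness
import Cfsg.Agent.Lib.Helper2.Expansion
import Cfsg.Agent.Lib.Helper2.Induction
import Cfsg.Agent.Lib.Helper2.PermLemma
import Cfsg.Agent.Lib.Helper2.Regular
import Cfsg.Agent.Lib.Helper25.GenOrtho

/-!
# The centraliser ring of a permutation representation

`cent G Ω` is the space of `G`-equivariant endomorphisms of the complex permutation module.  Its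
dimension is the norm of the permutation character; it is commutative iff the permutation
character is multiplicity free.
-/

set_option autoImplicit false
set_option linter.unusedSectionVars false
set_option linter.unusedVariables false
set_option linter.style.haveILetI false

namespace Cfsg.Agent.Lib.Helper6.CentRing

open Cfsg Module Cfsg.Agent.Lib.Helper2
open scoped ComplexConjugate

section basic
variable {G : Type*} [Group G] [Fintype G] {Ω : Type*} [Fintype Ω] [MulAction G Ω]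

/-- the permutation character -/
noncomputable abbrev pch (G : Type*) [Group G] (Ω : Type*) [MulAction G Ω] : G → ℂ :=
  fun g : G => (Nat.card (MulAction.fixedBy Ω g) : ℂ)

theorem permRep_apply (g : G) (f : Ω → ℂ) (x : Ω) :
    Cfsg.permRep ℂ G Ω g f x = f (g⁻¹ • x) := rfl

theorem permRep_character : (Cfsg.permRep ℂ G Ω).character = pch G Ω := by
  classical
  funext g
  rw [Representation.character, LinearMap.trace_eq_matrix_trace ℂ (Pi.basisFun ℂ Ω), Matrix.trace]
  simp only [Matrix.diag_apply, LinearMap.toMatrix_apply, Pi.basisFun_repr, Pi.basisFun_apply,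
    permRep_apply, Pi.single_apply]
  rw [Finset.sum_boole]
  change _ = ((Nat.card (MulAction.fixedBy Ω g) : ℕ) : ℂ)
  rw [Nat.card_eq_fintype_card, Fintype.card_subtype]
  congr 2
  ext x
  simp only [Finset.mem_filter, Finset.mem_univ, true_and, MulAction.mem_fixedBy]
  constructor
  · intro h
    have := congrArg (fun y => g • y) h
    simp only [smul_inv_smul] at this
    exact this.symm
  · intro h
    rw [inv_smul_eq_iff, h]

/-- the centraliser ring, as a space of endomorphisms -/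
noncomputable abbrev cent (G : Type*) [Group G] (Ω : Type*) [MulAction G Ω] :
    Submodule ℂ ((Ω → ℂ) →ₗ[ℂ] (Ω → ℂ)) :=
  ((Cfsg.permRep ℂ G Ω).linHom (Cfsg.permRep ℂ G Ω)).invariants

theorem mem_cent_iff (S : (Ω → ℂ) →ₗ[ℂ] (Ω → ℂ)) :
    S ∈ cent G Ω ↔ ∀ g : G, S ∘ₗ Cfsg.permRep ℂ G Ω g = Cfsg.permRep ℂ G Ω g ∘ₗ S := by
  rw [Representation.mem_invariants]
  have := Representation.mem_linHom_invariants_iff_isIntertwining
    (ρ := Cfsg.permRep ℂ G Ω) (σ := Cfsg.permRep ℂ G Ω) S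
  simp only [Representation.linHom_apply] at this ⊢
  rw [this, Representation.isIntertwiningMap_iff]
  constructor
  · intro h g
    ext v : 1
    exact h g v
  · intro h g v
    exact LinearMap.congr_fun (h g) v

theorem finrank_cent :
    (finrank ℂ ↥(cent G Ω) : ℂ) = Cfsg.classInner (pch G Ω) (pch G Ω) := by
  rw [← permRep_character, classInner_char_char,
    (Representation.invariantsEquivIntertwiningMap (Cfsg.permRep ℂ G Ω)
      (Cfsg.permRep ℂ G Ω)).finrank_eq]

theorem pch_isCharacter : Cfsg.IsCharacter G (pch G Ω) := by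
  rw [← permRep_character]
  exact isCharacter_of_rep _

theorem pch_isClassFunction : Cfsg.IsClassFunction G (pch G Ω) :=
  IsCharacter.isClassFunction pch_isCharacter

end basic

section mult
variable {G : Type*} [Group G] [Fintype G] {Ω : Type*} [Fintype Ω] [MulAction G Ω]

/-- the multiplicity of an irreducible character in the permutation character -/
noncomputable def mult (Ω : Type*) [Fintype Ω] [MulAction G Ω] (χ : Cfsg.IrrCharacter G) : ℕ :=
  (classInner_isCharacter_nat (pch_isCharacter (G := G) (Ω := Ω))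
    (IsIrrCharacter.isCharacter χ.2)).choose

theorem mult_spec (χ : Cfsg.IrrCharacter G) :
    Cfsg.classInner (pch G Ω) (χ : G → ℂ) = (mult Ω χ : ℂ) :=
  (classInner_isCharacter_nat (pch_isCharacter (G := G) (Ω := Ω))
    (IsIrrCharacter.isCharacter χ.2)).choose_spec

theorem pch_expansion [Fintype (Cfsg.IrrCharacter G)] (g : G) :
    pch G Ω g = ∑ χ : Cfsg.IrrCharacter G, (mult Ω χ : ℂ) * (χ : G → ℂ) g := by
  have hexp := congrFun (classFunction_expansion (pch G Ω) (pch_isClassFunction (G := G) (Ω := Ω))) g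
  rw [hexp, Finset.sum_apply]
  apply Finset.sum_congr rfl
  intro χ _
  rw [Pi.smul_apply, smul_eq_mul, mult_spec]

theorem inner_self_eq_sum_sq [Fintype (Cfsg.IrrCharacter G)] :
    Cfsg.classInner (pch G Ω) (pch G Ω) = ((∑ χ : Cfsg.IrrCharacter G, mult Ω χ ^ 2 : ℕ) : ℂ) := by
  have hexp := classFunction_expansion (pch G Ω) (pch_isClassFunction (G := G) (Ω := Ω))
  have h1 : Cfsg.classInner (pch G Ω) (pch G Ω) = Cfsg.classInner (pch G Ω)
      (∑ χ : Cfsg.IrrCharacter G, Cfsg.classInner (pch G Ω) (χ : G → ℂ) • (χ : G → ℂ)) :=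
    congrArg (Cfsg.classInner (pch G Ω)) hexp
  rw [h1, classInner_sum_right]
  push_cast
  apply Finset.sum_congr rfl
  intro χ _
  rw [classInner_smul_right, mult_spec χ, Complex.conj_natCast]
  ring

theorem finrank_cent_eq [Fintype (Cfsg.IrrCharacter G)] :
    finrank ℂ ↥(cent G Ω) = ∑ χ : Cfsg.IrrCharacter G, mult Ω χ ^ 2 := by
  have h := finrank_cent (G := G) (Ω := Ω)
  rw [inner_self_eq_sum_sq] at h
  exact_mod_cast h

/-- the (unnormalised) central idempotent attached to `χ`, acting on the permutation module -/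
noncomputable def eop (Ω : Type*) [Fintype Ω] [MulAction G Ω] (χ : Cfsg.IrrCharacter G) :
    (Ω → ℂ) →ₗ[ℂ] (Ω → ℂ) :=
  repSum (Cfsg.permRep ℂ G Ω) (fun g => conj ((χ : G → ℂ) g))

theorem isClassFunction_conj (χ : Cfsg.IrrCharacter G) :
    Cfsg.IsClassFunction G (fun g => conj ((χ : G → ℂ) g)) := by
  intro g h
  change conj ((χ : G → ℂ) (h * g * h⁻¹)) = conj ((χ : G → ℂ) g)
  rw [IrrCharacter.isClassFunction χ g h]

theorem eop_comm (χ : Cfsg.IrrCharacter G) (h : G) :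
    eop Ω χ ∘ₗ Cfsg.permRep ℂ G Ω h = Cfsg.permRep ℂ G Ω h ∘ₗ eop Ω χ :=
  repSum_comm _ _ (isClassFunction_conj χ) h

theorem eop_mem_cent (χ : Cfsg.IrrCharacter G) : eop Ω χ ∈ cent G Ω :=
  (mem_cent_iff _).mpr (eop_comm χ)

/-- elements of the centraliser ring commute with the operators `eop` -/
theorem comm_eop (S : (Ω → ℂ) →ₗ[ℂ] (Ω → ℂ)) (hS : S ∈ cent G Ω) (χ : Cfsg.IrrCharacter G) :
    S ∘ₗ eop Ω χ = eop Ω χ ∘ₗ S := by
  rw [mem_cent_iff] at hS
  unfold eop repSum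
  rw [← Module.End.mul_eq_comp, ← Module.End.mul_eq_comp, Finset.mul_sum, Finset.sum_mul]
  apply Finset.sum_congr rfl
  intro g _
  rw [mul_smul_comm, smul_mul_assoc, Module.End.mul_eq_comp, Module.End.mul_eq_comp, hS g]

theorem trace_comp_repSum {V : Type*} [AddCommGroup V] [Module ℂ V]
    (ρ : Representation ℂ G V) (h : G) (c : G → ℂ) :
    LinearMap.trace ℂ V (ρ h ∘ₗ repSum ρ c) = ∑ g : G, c g * ρ.character (h * g) := by
  unfold repSum
  rw [← Module.End.mul_eq_comp, Finset.mul_sum, map_sum]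
  apply Finset.sum_congr rfl
  intro g _
  rw [mul_smul_comm, map_smul, smul_eq_mul, Representation.character, ← map_mul ρ h g]

theorem trace_comp_eop [Fintype (Cfsg.IrrCharacter G)] (h : G) (χ : Cfsg.IrrCharacter G) :
    LinearMap.trace ℂ (Ω → ℂ) (Cfsg.permRep ℂ G Ω h ∘ₗ eop Ω χ) =
      (mult Ω χ : ℂ) * ((Nat.card G : ℂ) * (χ : G → ℂ) h / (χ : G → ℂ) 1) := by
  classical
  unfold eop
  rw [trace_comp_repSum, permRep_character]
  have h1 : ∀ g : G, conj ((χ : G → ℂ) g) * pch G Ω (h * g) =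
      ∑ ψ : Cfsg.IrrCharacter G, (mult Ω ψ : ℂ) * ((ψ : G → ℂ) (h * g) * (χ : G → ℂ) g⁻¹) := by
    intro g
    rw [pch_expansion (Ω := Ω) (h * g), Finset.mul_sum, IrrCharacter.apply_inv]
    apply Finset.sum_congr rfl
    intro ψ _
    ring
  rw [Finset.sum_congr rfl (fun g _ => h1 g), Finset.sum_comm]
  have h2 : ∀ ψ : Cfsg.IrrCharacter G,
      ∑ g : G, (mult Ω ψ : ℂ) * ((ψ : G → ℂ) (h * g) * (χ : G → ℂ) g⁻¹) =
        if ψ = χ then (mult Ω χ : ℂ) * ((Nat.card G : ℂ) * (χ : G → ℂ) h / (χ : G → ℂ) 1) else 0 := by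
    intro ψ
    rw [← Finset.mul_sum, Cfsg.Agent.Lib.Helper25.sum_char_mul_char_inv ψ.2 χ.2 h]
    by_cases hψ : ψ = χ
    · subst hψ
      rw [if_pos rfl, if_pos rfl]
    · have : (ψ : G → ℂ) ≠ (χ : G → ℂ) := fun hc => hψ (Subtype.ext hc)
      rw [if_neg this, if_neg hψ, mul_zero]
  rw [Finset.sum_congr rfl (fun ψ _ => h2 ψ), Finset.sum_ite_eq' Finset.univ χ, if_pos (Finset.mem_univ _)]

end mult

section multfree
variable {G : Type*} [Group G] [Fintype G] {Ω : Type*} [Fintype Ω] [MulAction G Ω]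
  [Fintype (Cfsg.IrrCharacter G)]

/-- linear combinations of the operators `eop` -/
noncomputable def Phi (Ω : Type*) [Fintype Ω] [MulAction G Ω] :
    (Cfsg.IrrCharacter G → ℂ) →ₗ[ℂ] ((Ω → ℂ) →ₗ[ℂ] (Ω → ℂ)) where
  toFun c := ∑ χ : Cfsg.IrrCharacter G, c χ • eop Ω χ
  map_add' c d := by
    simp only [Pi.add_apply, add_smul, Finset.sum_add_distrib]
  map_smul' a c := by
    simp only [Pi.smul_apply, smul_eq_mul, RingHom.id_apply, Finset.smul_sum, smul_smul]

theorem Phi_apply (c : Cfsg.IrrCharacter G → ℂ) :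
    Phi Ω c = ∑ χ : Cfsg.IrrCharacter G, c χ • eop Ω χ := rfl

theorem Phi_mem_cent (c : Cfsg.IrrCharacter G → ℂ) : Phi Ω c ∈ cent G Ω := by
  rw [Phi_apply]
  exact Submodule.sum_mem _ (fun χ _ => Submodule.smul_mem _ _ (eop_mem_cent χ))

theorem comm_Phi (S : (Ω → ℂ) →ₗ[ℂ] (Ω → ℂ)) (hS : S ∈ cent G Ω)
    (c : Cfsg.IrrCharacter G → ℂ) : S ∘ₗ Phi Ω c = Phi Ω c ∘ₗ S := by
  rw [Phi_apply, ← Module.End.mul_eq_comp, ← Module.End.mul_eq_comp, Finset.mul_sum, Finset.sum_mul]
  apply Finset.sum_congr rfl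
  intro χ _
  rw [mul_smul_comm, smul_mul_assoc, Module.End.mul_eq_comp, Module.End.mul_eq_comp,
    comm_eop S hS χ]

theorem trace_comp_Phi (h : G) (c : Cfsg.IrrCharacter G → ℂ) :
    LinearMap.trace ℂ (Ω → ℂ) (Cfsg.permRep ℂ G Ω h ∘ₗ Phi Ω c) =
      ∑ χ : Cfsg.IrrCharacter G,
        (c χ * (mult Ω χ : ℂ) * (Nat.card G : ℂ) / (χ : G → ℂ) 1) * (χ : G → ℂ) h := by
  rw [Phi_apply, ← Module.End.mul_eq_comp, Finset.mul_sum, map_sum]
  apply Finset.sum_congr rfl
  intro χ _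
  rw [mul_smul_comm, map_smul, Module.End.mul_eq_comp, trace_comp_eop, smul_eq_mul]
  ring

theorem Phi_eq_zero (c : Cfsg.IrrCharacter G → ℂ) (hc : Phi Ω c = 0) (χ : Cfsg.IrrCharacter G) :
    c χ * (mult Ω χ : ℂ) = 0 := by
  have h1 : ∑ ψ : Cfsg.IrrCharacter G,
      (c ψ * (mult Ω ψ : ℂ) * (Nat.card G : ℂ) / (ψ : G → ℂ) 1) • (ψ : G → ℂ) = 0 := by
    funext h
    rw [Finset.sum_apply]
    have := trace_comp_Phi (Ω := Ω) h c
    rw [hc, LinearMap.comp_zero, map_zero] at this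
    rw [Pi.zero_apply, this]
    apply Finset.sum_congr rfl
    intro ψ _
    rw [Pi.smul_apply, smul_eq_mul]
  have h2 := (Fintype.linearIndependent_iff.mp (linearIndependent_irrCharacter (G := G))) _ h1 χ
  have h3 : (χ : G → ℂ) 1 ≠ 0 := IsIrrCharacter.apply_one_ne_zero χ.2
  have h4 : (Nat.card G : ℂ) ≠ 0 := card_ne_zero_complex
  rw [div_eq_zero_iff] at h2
  rcases h2 with h2 | h2
  · rcases mul_eq_zero.mp h2 with h5 | h5
    · exact h5
    · exact absurd h5 h4
  · exact absurd h2 h3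

/-- **Multiplicity-free ⇒ the centraliser ring is the image of `Phi`.** -/
theorem cent_eq_range_Phi (hmf : ∀ χ : Cfsg.IrrCharacter G, mult Ω χ ≤ 1) :
    cent G Ω = LinearMap.range (Phi (G := G) Ω) := by
  classical
  symm
  apply Submodule.eq_of_le_of_finrank_le
  · rintro _ ⟨c, rfl⟩
    exact Phi_mem_cent c
  · -- the restriction of `Phi` to functions supported on the constituents is injective
    let I : Finset (Cfsg.IrrCharacter G) := Finset.univ.filter (fun χ => mult Ω χ = 1)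
    let ext0 : (I → ℂ) →ₗ[ℂ] (Cfsg.IrrCharacter G → ℂ) :=
      { toFun := fun c χ => if h : χ ∈ I then c ⟨χ, h⟩ else 0
        map_add' := by
          intro c d
          funext χ
          by_cases h : χ ∈ I <;> simp [h]
        map_smul' := by
          intro a c
          funext χ
          by_cases h : χ ∈ I <;> simp [h] }
    have hinj : Function.Injective ((Phi (G := G) Ω) ∘ₗ ext0) := by
      rw [injective_iff_map_eq_zero]
      intro c hc
      funext χ
      have := Phi_eq_zero (Ω := Ω) (ext0 c) hc χ.1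
      have hχ : mult Ω χ.1 = 1 := (Finset.mem_filter.mp χ.2).2
      rw [hχ, Nat.cast_one, mul_one] at this
      have h2 : ext0 c χ.1 = c χ := by
        change (if h : χ.1 ∈ I then c ⟨χ.1, h⟩ else 0) = c χ
        rw [dif_pos χ.2]
      rw [← h2, this]
      rfl
    have h1 : finrank ℂ (I → ℂ) ≤ finrank ℂ ↥(LinearMap.range (Phi (G := G) Ω)) := by
      have hle : LinearMap.range ((Phi (G := G) Ω) ∘ₗ ext0) ≤ LinearMap.range (Phi (G := G) Ω) :=
        LinearMap.range_comp_le_range _ _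
      calc finrank ℂ (I → ℂ) = finrank ℂ ↥(LinearMap.range ((Phi (G := G) Ω) ∘ₗ ext0)) :=
            (LinearMap.finrank_range_of_inj hinj).symm
        _ ≤ _ := Submodule.finrank_mono hle
    have h2 : finrank ℂ ↥(cent G Ω) = I.card := by
      rw [finrank_cent_eq, Finset.card_filter]
      apply Finset.sum_congr rfl
      intro χ _
      have := hmf χ
      interval_cases h : mult Ω χ <;> simp
    rw [h2]
    simpa using h1

/-- **Multiplicity-free ⇒ commutative.** -/
theorem comm_of_multfree (hmf : ∀ χ : Cfsg.IrrCharacter G, mult Ω χ ≤ 1)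
    (S T : (Ω → ℂ) →ₗ[ℂ] (Ω → ℂ)) (hS : S ∈ cent G Ω) (hT : T ∈ cent G Ω) :
    S ∘ₗ T = T ∘ₗ S := by
  rw [cent_eq_range_Phi hmf] at hT
  obtain ⟨c, rfl⟩ := hT
  exact comm_Phi S hS c

end multfree

section converse
variable {G : Type*} [Group G] [Fintype G]
  {V W : Type*} [AddCommGroup V] [Module ℂ V] [FiniteDimensional ℂ V]
  [AddCommGroup W] [Module ℂ W] [FiniteDimensional ℂ W]

/-- averaging a linear map into an intertwining map -/
noncomputable def avgHom (ρ : Representation ℂ G V) (σ : Representation ℂ G W) (p : V →ₗ[ℂ] W) :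
    V →ₗ[ℂ] W :=
  (Nat.card G : ℂ)⁻¹ • ∑ g : G, σ g ∘ₗ p ∘ₗ ρ g⁻¹

theorem avgHom_comm (ρ : Representation ℂ G V) (σ : Representation ℂ G W) (p : V →ₗ[ℂ] W)
    (h : G) : avgHom ρ σ p ∘ₗ ρ h = σ h ∘ₗ avgHom ρ σ p := by
  unfold avgHom
  rw [LinearMap.smul_comp, LinearMap.comp_smul]
  congr 1
  ext v
  simp only [LinearMap.comp_apply, LinearMap.sum_apply, map_sum]
  apply Fintype.sum_equiv (Equiv.mulLeft h⁻¹)
  intro g
  simp only [Equiv.coe_mulLeft]
  have e1 : ρ g⁻¹ (ρ h v) = ρ (h⁻¹ * g)⁻¹ v := by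
    rw [← Module.End.mul_apply, ← map_mul]
    congr 2
    group
  have e2 : σ h (σ (h⁻¹ * g) (p (ρ (h⁻¹ * g)⁻¹ v))) = σ g (p (ρ (h⁻¹ * g)⁻¹ v)) := by
    rw [← Module.End.mul_apply, ← map_mul]
    congr 2
    group
  rw [e1, e2]

theorem avgHom_comp (ρ : Representation ℂ G V) (σ : Representation ℂ G W) (p : V →ₗ[ℂ] W)
    (f : W →ₗ[ℂ] V) (hf : ∀ g, f ∘ₗ σ g = ρ g ∘ₗ f) (hp : p ∘ₗ f = LinearMap.id) :
    avgHom ρ σ p ∘ₗ f = LinearMap.id := by
  unfold avgHom
  have h1 : ∀ g : G, (σ g ∘ₗ p ∘ₗ ρ g⁻¹) ∘ₗ f = LinearMap.id := by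
    intro g
    ext v
    have e1 : ρ g⁻¹ (f v) = f (σ g⁻¹ v) := (LinearMap.congr_fun (hf g⁻¹) v).symm
    have e2 : p (f (σ g⁻¹ v)) = σ g⁻¹ v := LinearMap.congr_fun hp _
    simp only [LinearMap.comp_apply, LinearMap.id_apply]
    rw [e1, e2, ← Module.End.mul_apply, ← map_mul, mul_inv_cancel, map_one]
    rfl
  have h2 : (∑ g : G, σ g ∘ₗ p ∘ₗ ρ g⁻¹) ∘ₗ f = ∑ g : G, (σ g ∘ₗ p ∘ₗ ρ g⁻¹) ∘ₗ f := by
    ext v
    simp only [LinearMap.comp_apply, LinearMap.sum_apply]
  rw [LinearMap.smul_comp, h2]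
  simp only [h1, Finset.sum_const, Finset.card_univ]
  rw [← Nat.cast_smul_eq_nsmul ℂ, smul_smul, Nat.card_eq_fintype_card,
    inv_mul_cancel₀, one_smul]
  exact_mod_cast Fintype.card_ne_zero

/-- If an irreducible `σ` occurs in `ρ` with multiplicity at least two then the commutant of `ρ`
is not commutative. -/
theorem exists_not_comm (ρ : Representation ℂ G V) (σ : Representation ℂ G W)
    (hσ : σ.IsIrreducible)
    (h2 : 2 ≤ finrank ℂ (Representation.IntertwiningMap σ ρ)) :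
    ∃ S T : V →ₗ[ℂ] V, (∀ g, S ∘ₗ ρ g = ρ g ∘ₗ S) ∧ (∀ g, T ∘ₗ ρ g = ρ g ∘ₗ T) ∧
      S ∘ₗ T ≠ T ∘ₗ S := by
  haveI := hσ
  have hpos : 0 < finrank ℂ (Representation.IntertwiningMap σ ρ) := by omega
  obtain ⟨F₁, hF₁⟩ := Module.finrank_pos_iff_exists_ne_zero.mp hpos
  obtain ⟨F₂, hli⟩ := exists_linearIndependent_pair_of_one_lt_finrank (R := ℂ)
    (show 1 < finrank ℂ (Representation.IntertwiningMap σ ρ) by omega) hF₁
  have hinj : Function.Injective F₁ :=
    (Representation.IsIrreducible.injective_or_eq_zero F₁).resolve_right hF₁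
  have hinj' : Function.Injective F₁.toLinearMap := hinj
  obtain ⟨p₀, hp₀⟩ := LinearMap.exists_leftInverse_of_injective F₁.toLinearMap
    (LinearMap.ker_eq_bot.mpr hinj')
  set p := avgHom ρ σ p₀ with hp
  have hpc : ∀ g, p ∘ₗ ρ g = σ g ∘ₗ p := avgHom_comm ρ σ p₀
  have hpF₁ : p ∘ₗ F₁.toLinearMap = LinearMap.id :=
    avgHom_comp ρ σ p₀ F₁.toLinearMap F₁.isIntertwining' hp₀
  -- p ∘ F₂ is scalar
  have hcomm2 : ∀ g, (p ∘ₗ F₂.toLinearMap) ∘ₗ σ g = σ g ∘ₗ (p ∘ₗ F₂.toLinearMap) := by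
    intro g
    rw [LinearMap.comp_assoc, F₂.isIntertwining' g, ← LinearMap.comp_assoc, hpc g,
      LinearMap.comp_assoc]
  obtain ⟨c, hc⟩ := Cfsg.Agent.Lib.Helper25.schur_scalar σ hσ _ hcomm2
  set F₃ : Representation.IntertwiningMap σ ρ := F₂ - c • F₁ with hF₃
  have hF₃ne : F₃ ≠ 0 := by
    intro h0
    have := (LinearIndependent.pair_iff' hF₁).mp hli c
    apply this
    rw [hF₃, sub_eq_zero] at h0
    exact h0.symm
  have hpF₃ : p ∘ₗ F₃.toLinearMap = 0 := by
    rw [hF₃, Representation.IntertwiningMap.sub_toLinearMap,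
      Representation.IntertwiningMap.toLinearMap_smul, LinearMap.comp_sub, LinearMap.comp_smul,
      hc, hpF₁, sub_self]
  refine ⟨F₁.toLinearMap ∘ₗ p, F₃.toLinearMap ∘ₗ p, ?_, ?_, ?_⟩
  · intro g
    rw [LinearMap.comp_assoc, hpc g, ← LinearMap.comp_assoc, F₁.isIntertwining' g,
      LinearMap.comp_assoc]
  · intro g
    rw [LinearMap.comp_assoc, hpc g, ← LinearMap.comp_assoc, F₃.isIntertwining' g,
      LinearMap.comp_assoc]
  · intro heq
    have e1 : (F₁.toLinearMap ∘ₗ p) ∘ₗ (F₃.toLinearMap ∘ₗ p) = 0 := by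
      rw [LinearMap.comp_assoc, ← LinearMap.comp_assoc p, hpF₃, LinearMap.zero_comp,
        LinearMap.comp_zero]
    have e2 : (F₃.toLinearMap ∘ₗ p) ∘ₗ (F₁.toLinearMap ∘ₗ p) = F₃.toLinearMap ∘ₗ p := by
      rw [LinearMap.comp_assoc, ← LinearMap.comp_assoc p, hpF₁, LinearMap.id_comp]
    rw [e1, e2] at heq
    apply hF₃ne
    apply Representation.IntertwiningMap.ext
    have : (F₃.toLinearMap ∘ₗ p) ∘ₗ F₁.toLinearMap = 0 := by rw [← heq, LinearMap.zero_comp]
    rw [LinearMap.comp_assoc, hpF₁, LinearMap.comp_id] at this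
    exact this

end converse

end Cfsg.Agent.Lib.Helper6.CentRing
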