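import Mathlib
import Cfsg.Agent.Lib.Helper6.CentRing

/-!
# Symmetric elements of the centraliser ring

Matrices of elements of the centraliser ring, generous transitivity.
-/

set_option autoImplicit false
set_option linter.unusedSectionVars false
set_option linter.unusedVariables false
set_option linter.style.haveILetI false

namespace Cfsg.Agent.Lib.Helper6.CentRing

open Cfsg Module Cfsg.Agent.Lib.Helper2
open scoped ComplexConjugate

section sym
variable {G : Type*} [Group G] [Fintype G] {Ω : Type*} [Fintype Ω] [DecidableEq Ω] [MulAction G Ω]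

theorem permRep_single (g : G) (y : Ω) :
    Cfsg.permRep ℂ G Ω g (Pi.single y 1) = Pi.single (g • y) 1 := by
  funext z
  rw [permRep_apply, Pi.single_apply, Pi.single_apply]
  by_cases h : z = g • y
  · rw [if_pos h, if_pos (by rw [h, inv_smul_smul])]
  · rw [if_neg h, if_neg (fun h' => h (by rw [← h', smul_inv_smul]))]

theorem toMatrix'_permRep (g : G) (x y : Ω) :
    LinearMap.toMatrix' (Cfsg.permRep ℂ G Ω g) x y = if x = g • y then 1 else 0 := by
  rw [LinearMap.toMatrix'_apply, permRep_single, Pi.single_apply]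

theorem toMatrix'_permRep_transpose (g : G) :
    (LinearMap.toMatrix' (Cfsg.permRep ℂ G Ω g)).transpose
      = LinearMap.toMatrix' (Cfsg.permRep ℂ G Ω g⁻¹) := by
  ext x y
  rw [Matrix.transpose_apply, toMatrix'_permRep, toMatrix'_permRep]
  by_cases h : y = g • x
  · rw [if_pos h, if_pos (by rw [h, inv_smul_smul])]
  · rw [if_neg h, if_neg (fun h' => h (by rw [h', smul_inv_smul]))]

theorem toMatrix'_cent_smul (S : (Ω → ℂ) →ₗ[ℂ] (Ω → ℂ)) (hS : S ∈ cent G Ω) (g : G) (x y : Ω) :
    LinearMap.toMatrix' S (g • x) (g • y) = LinearMap.toMatrix' S x y := by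
  rw [mem_cent_iff] at hS
  rw [LinearMap.toMatrix'_apply, LinearMap.toMatrix'_apply, ← permRep_single]
  have := congrFun (LinearMap.congr_fun (hS g) (Pi.single y 1)) (g • x)
  rw [LinearMap.comp_apply, LinearMap.comp_apply, permRep_apply, inv_smul_smul] at this
  exact this

theorem comp_mem_cent (S T : (Ω → ℂ) →ₗ[ℂ] (Ω → ℂ)) (hS : S ∈ cent G Ω) (hT : T ∈ cent G Ω) :
    S ∘ₗ T ∈ cent G Ω := by
  rw [mem_cent_iff] at hS hT ⊢
  intro g
  rw [LinearMap.comp_assoc, hT g, ← LinearMap.comp_assoc, hS g, LinearMap.comp_assoc]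

/-- generous transitivity ⇒ all elements of the centraliser ring are symmetric -/
theorem transpose_of_generous (hgen : ∀ a b : Ω, ∃ g : G, g • a = b ∧ g • b = a)
    (S : (Ω → ℂ) →ₗ[ℂ] (Ω → ℂ)) (hS : S ∈ cent G Ω) :
    (LinearMap.toMatrix' S).transpose = LinearMap.toMatrix' S := by
  ext x y
  obtain ⟨g, h1, h2⟩ := hgen x y
  rw [Matrix.transpose_apply]
  have := toMatrix'_cent_smul S hS g y x
  rw [h1, h2] at this
  exact this.symm

/-- if all elements of the centraliser ring are symmetric then it is commutative -/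
theorem comm_of_symm
    (hsym : ∀ S : (Ω → ℂ) →ₗ[ℂ] (Ω → ℂ), S ∈ cent G Ω →
      (LinearMap.toMatrix' S).transpose = LinearMap.toMatrix' S)
    (S T : (Ω → ℂ) →ₗ[ℂ] (Ω → ℂ)) (hS : S ∈ cent G Ω) (hT : T ∈ cent G Ω) :
    S ∘ₗ T = T ∘ₗ S := by
  apply LinearMap.toMatrix'.injective
  have h1 := hsym _ (comp_mem_cent S T hS hT)
  rw [LinearMap.toMatrix'_comp, Matrix.transpose_mul, hsym S hS, hsym T hT] at h1
  rw [LinearMap.toMatrix'_comp, LinearMap.toMatrix'_comp, h1]

theorem toMatrix'_repSum_transpose (c : G → ℂ) :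
    (LinearMap.toMatrix' (repSum (Cfsg.permRep ℂ G Ω) c)).transpose
      = LinearMap.toMatrix' (repSum (Cfsg.permRep ℂ G Ω) (fun g => c g⁻¹)) := by
  unfold repSum
  rw [map_sum, map_sum, Matrix.transpose_sum]
  apply Fintype.sum_equiv (Equiv.inv G)
  intro g
  rw [map_smul, map_smul, Matrix.transpose_smul, toMatrix'_permRep_transpose, Equiv.inv_apply]
  simp only [inv_inv]

/-- `eop χ` is symmetric for real `χ` -/
theorem eop_transpose (χ : Cfsg.IrrCharacter G) (hχ : ∀ g : G, conj ((χ : G → ℂ) g) = (χ : G → ℂ) g) :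
    (LinearMap.toMatrix' (eop Ω χ)).transpose = LinearMap.toMatrix' (eop Ω χ) := by
  unfold eop
  rw [toMatrix'_repSum_transpose]
  congr 2
  funext g
  rw [IrrCharacter.apply_inv, Complex.conj_conj, hχ]

/-- if `eop χ` is symmetric and `χ` occurs in the permutation character then `χ` is real -/
theorem real_of_eop_transpose [Fintype (Cfsg.IrrCharacter G)] (χ : Cfsg.IrrCharacter G)
    (hm : mult Ω χ ≠ 0)
    (hsym : (LinearMap.toMatrix' (eop Ω χ)).transpose = LinearMap.toMatrix' (eop Ω χ)) (h : G) :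
    conj ((χ : G → ℂ) h) = (χ : G → ℂ) h := by
  have h1 := trace_comp_eop (Ω := Ω) h χ
  have h2 := trace_comp_eop (Ω := Ω) h⁻¹ χ
  have h3 : LinearMap.trace ℂ (Ω → ℂ) (Cfsg.permRep ℂ G Ω h ∘ₗ eop Ω χ)
      = LinearMap.trace ℂ (Ω → ℂ) (Cfsg.permRep ℂ G Ω h⁻¹ ∘ₗ eop Ω χ) := by
    rw [LinearMap.trace_eq_matrix_trace ℂ (Pi.basisFun ℂ Ω),
      LinearMap.trace_eq_matrix_trace ℂ (Pi.basisFun ℂ Ω), LinearMap.toMatrix_eq_toMatrix',
      LinearMap.toMatrix'_comp, LinearMap.toMatrix'_comp, ← Matrix.trace_transpose,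
      Matrix.transpose_mul, hsym, toMatrix'_permRep_transpose, Matrix.trace_mul_comm]
  rw [h1, h2, IrrCharacter.apply_inv] at h3
  have hm' : (mult Ω χ : ℂ) ≠ 0 := by exact_mod_cast hm
  have h4 : (χ : G → ℂ) 1 ≠ 0 := IsIrrCharacter.apply_one_ne_zero χ.2
  have h5 : (Nat.card G : ℂ) ≠ 0 := card_ne_zero_complex
  have h6 := mul_left_cancel₀ hm' h3
  rw [div_left_inj' h4] at h6
  exact (mul_left_cancel₀ h5 h6).symm

end sym

section multfree2
variable {G : Type*} [Group G] [Fintype G] {Ω : Type*} [Fintype Ω] [MulAction G Ω]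
  [Fintype (Cfsg.IrrCharacter G)]

/-- **Multiplicity-free ⇒ every element of the centraliser ring is a combination of the `eop χ`
for the constituents `χ`.** -/
theorem exists_Phi_supported (hmf : ∀ χ : Cfsg.IrrCharacter G, mult Ω χ ≤ 1)
    (S : (Ω → ℂ) →ₗ[ℂ] (Ω → ℂ)) (hS : S ∈ cent G Ω) :
    ∃ c : Cfsg.IrrCharacter G → ℂ, (∀ χ, mult Ω χ = 0 → c χ = 0) ∧ S = Phi Ω c := by
  classical
  let I : Finset (Cfsg.IrrCharacter G) := Finset.univ.filter (fun χ => mult Ω χ = 1)
  let ext0 : (I → ℂ) →ₗ[ℂ] (Cfsg.IrrCharacter G → ℂ) :=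
    { toFun := fun c χ => if h : χ ∈ I then c ⟨χ, h⟩ else 0
      map_add' := by
        intro c d
        funext χ
        by_cases h : χ ∈ I <;> simp [h]
      map_smul' := by
        intro a c
        funext χ
        by_cases h : χ ∈ I <;> simp [h] }
  have hrange : LinearMap.range ((Phi (G := G) Ω) ∘ₗ ext0) = cent G Ω := by
    apply Submodule.eq_of_le_of_finrank_le
    · rintro _ ⟨c, rfl⟩
      exact Phi_mem_cent _
    · have hinj : Function.Injective ((Phi (G := G) Ω) ∘ₗ ext0) := by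
        rw [injective_iff_map_eq_zero]
        intro c hc
        funext χ
        have := Phi_eq_zero (Ω := Ω) (ext0 c) hc χ.1
        have hχ : mult Ω χ.1 = 1 := (Finset.mem_filter.mp χ.2).2
        rw [hχ, Nat.cast_one, mul_one] at this
        have h2 : ext0 c χ.1 = c χ := by
          change (if h : χ.1 ∈ I then c ⟨χ.1, h⟩ else 0) = c χ
          rw [dif_pos χ.2]
        rw [← h2, this]
        rfl
      have h2 : finrank ℂ ↥(cent G Ω) = I.card := by
        rw [finrank_cent_eq, Finset.card_filter]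
        apply Finset.sum_congr rfl
        intro χ _
        have := hmf χ
        interval_cases h : mult Ω χ <;> simp
      rw [h2, LinearMap.finrank_range_of_inj hinj]
      simp
  rw [← hrange] at hS
  obtain ⟨c, rfl⟩ := hS
  refine ⟨ext0 c, ?_, rfl⟩
  intro χ hχ
  change (if h : χ ∈ I then c ⟨χ, h⟩ else 0) = 0
  rw [dif_neg]
  intro hI
  have := (Finset.mem_filter.mp hI).2
  omega

/-- multiplicity free with real constituents ⇒ all elements of the centraliser ring are
symmetric -/
theorem transpose_of_multfree_real [DecidableEq Ω]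
    (h : ∀ χ : Cfsg.IrrCharacter G, mult Ω χ ≠ 0 →
      mult Ω χ = 1 ∧ ∀ g : G, conj ((χ : G → ℂ) g) = (χ : G → ℂ) g)
    (S : (Ω → ℂ) →ₗ[ℂ] (Ω → ℂ)) (hS : S ∈ cent G Ω) :
    (LinearMap.toMatrix' S).transpose = LinearMap.toMatrix' S := by
  have hmf : ∀ χ : Cfsg.IrrCharacter G, mult Ω χ ≤ 1 := by
    intro χ
    by_cases h0 : mult Ω χ = 0
    · omega
    · exact (h χ h0).1.le
  obtain ⟨c, hc, rfl⟩ := exists_Phi_supported hmf S hS
  rw [Phi_apply, map_sum, Matrix.transpose_sum]
  apply Finset.sum_congr rfl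
  intro χ _
  rw [map_smul, Matrix.transpose_smul]
  by_cases h0 : mult Ω χ = 0
  · rw [hc χ h0, zero_smul, zero_smul]
  · rw [eop_transpose χ (h χ h0).2]

end multfree2

section orbital
variable {G : Type*} [Group G] [Fintype G] {Ω : Type*} [Fintype Ω] [DecidableEq Ω] [MulAction G Ω]

open Classical in
/-- the adjacency matrix of the orbital containing `(a, b)` -/
noncomputable def orbMat (G : Type*) [Group G] {Ω : Type*} [MulAction G Ω] (a b : Ω) :
    Matrix Ω Ω ℂ :=
  fun x y => if ∃ g : G, g • a = x ∧ g • b = y then 1 else 0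

theorem orbMat_smul (a b : Ω) (g : G) (x y : Ω) :
    orbMat G a b (g • x) (g • y) = orbMat G a b x y := by
  unfold orbMat
  congr 1
  apply propext
  constructor
  · rintro ⟨k, h1, h2⟩
    refine ⟨g⁻¹ * k, ?_, ?_⟩
    · rw [mul_smul, h1, inv_smul_smul]
    · rw [mul_smul, h2, inv_smul_smul]
  · rintro ⟨k, h1, h2⟩
    refine ⟨g * k, ?_, ?_⟩
    · rw [mul_smul, h1]
    · rw [mul_smul, h2]

theorem orbMat_mem_cent (a b : Ω) : Matrix.toLin' (orbMat G a b) ∈ cent G Ω := by
  rw [mem_cent_iff]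
  intro g
  apply LinearMap.toMatrix'.injective
  rw [LinearMap.toMatrix'_comp, LinearMap.toMatrix'_comp, LinearMap.toMatrix'_toLin']
  ext x y
  rw [Matrix.mul_apply, Matrix.mul_apply]
  simp only [toMatrix'_permRep]
  rw [Finset.sum_eq_single (g • y), Finset.sum_eq_single (g⁻¹ • x)]
  · rw [if_pos rfl, if_pos (by rw [smul_inv_smul]), mul_one, one_mul]
    have := orbMat_smul (G := G) a b g (g⁻¹ • x) y
    rw [smul_inv_smul] at this
    exact this
  · intro z _ hz
    rw [if_neg, zero_mul]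
    intro hx
    apply hz
    rw [hx, inv_smul_smul]
  · intro h; exact absurd (Finset.mem_univ _) h
  · intro z _ hz
    rw [if_neg hz, mul_zero]
  · intro h; exact absurd (Finset.mem_univ _) h

/-- if all elements of the centraliser ring are symmetric then the action is generously
transitive on each orbit: each pair of points can be interchanged... -/
theorem swap_of_symm
    (hsym : ∀ S : (Ω → ℂ) →ₗ[ℂ] (Ω → ℂ), S ∈ cent G Ω →
      (LinearMap.toMatrix' S).transpose = LinearMap.toMatrix' S) (a b : Ω) :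
    ∃ g : G, g • a = b ∧ g • b = a := by
  have h1 := hsym _ (orbMat_mem_cent (G := G) a b)
  rw [LinearMap.toMatrix'_toLin'] at h1
  have h2 := congrFun (congrFun h1 a) b
  rw [Matrix.transpose_apply] at h2
  have h3 : orbMat G a b a b = 1 := by
    unfold orbMat
    rw [if_pos ⟨1, one_smul _ _, one_smul _ _⟩]
  rw [h3] at h2
  unfold orbMat at h2
  by_contra hne
  rw [if_neg hne] at h2
  exact zero_ne_one h2

end orbital

end Cfsg.Agent.Lib.Helper6.CentRing
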