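import Cfsg.Agent.Lib.Helper6.G24Hom

set_option autoImplicit false

/-! Explicit words in the root elements of `G₂(4)` whose images on the 6-dimensional module have
orders 6, 10, 7, 13, the last two without fixed points. -/

namespace Cfsg.Agent.Lib.Helper6.G24

/-- `ω` -/
abbrev fw : F4 := Cfsg.Agent.Helper4.TC.F4.w

/-- `ω²` -/
abbrev fv : F4 := Cfsg.Agent.Helper4.TC.F4.v

/-- a word whose image has order 6 -/
def w6 : List (ℕ × F4) := [(11, fw), (0, fv), (2, fv)]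

/-- a word whose image has order 10 -/
def w10 : List (ℕ × F4) := [(8, 1), (3, fw), (11, fw)]

/-- a word whose image has order 7 -/
def w7 : List (ℕ × F4) := [(10, fw), (2, 1), (8, fv)]

/-- a word whose image has order 13 -/
def w13 : List (ℕ × F4) := [(3, 1), (4, 1), (9, fw), (5, 1)]

/-- the inverse of `wD w7 + 1` -/
def B7 : M6 :=
  ⟨⟨0, 0, 0, 0, fv, 1⟩, ⟨0, 1, fw, 1, 0, fv⟩, ⟨0, 0, 0, 0, 1, 0⟩, ⟨fv, 0, 0, 1, fw, 0⟩,
    ⟨0, fv, 0, 0, 0, 0⟩, ⟨0, 0, fv, 0, 0, 1⟩⟩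

/-- the inverse of `wD w13 + 1` -/
def B13 : M6 :=
  ⟨⟨1, 1, fw, fv, fw, fv⟩, ⟨0, 1, 1, fw, 0, fw⟩, ⟨0, 1, fv, fw, fw, fv⟩, ⟨0, 0, 1, fw, 1, fw⟩,
    ⟨0, 0, 0, 1, 0, 1⟩, ⟨fw, 0, 0, 0, 0, 0⟩⟩

theorem w6_pow : (wD w6).mpow 6 = M6.one ∧ (wD w6).mpow 2 ≠ M6.one ∧ (wD w6).mpow 3 ≠ M6.one := by
  decide +kernel

theorem w10_pow :
    (wD w10).mpow 10 = M6.one ∧ (wD w10).mpow 2 ≠ M6.one ∧ (wD w10).mpow 5 ≠ M6.one := by
  decide +kernel

theorem w7_pow : (wD w7).mpow 7 = M6.one := by decide +kernel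

theorem w7_inv : B7.mul ((wD w7).add M6.one) = M6.one := by decide +kernel

theorem w13_pow : (wD w13).mpow 13 = M6.one := by decide +kernel

theorem w13_inv : B13.mul ((wD w13).add M6.one) = M6.one := by decide +kernel

/-- the order of a matrix given as data, from its powers -/
theorem orderOf_toMat (X : M6) (n : ℕ) (hn : 0 < n) (h1 : X.mpow n = M6.one)
    (h2 : ∀ p : ℕ, p.Prime → p ∣ n → X.mpow (n / p) ≠ M6.one) : orderOf X.toMat = n := by
  apply orderOf_eq_of_pow_and_pow_div_prime hn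
  · rw [← M6.toMat_mpow, h1, M6.toMat_one]
  · intro p hp hpn h
    apply h2 p hp hpn
    apply M6.toMat_injective
    rw [M6.toMat_mpow, h, M6.toMat_one]

theorem orderOf_w6 : orderOf (wD w6).toMat = 6 := by
  apply orderOf_toMat _ 6 (by norm_num) w6_pow.1
  intro p hp hp6
  have : p = 2 ∨ p = 3 := by
    have : p ∣ 2 * 3 := hp6
    rcases hp.dvd_mul.mp this with h | h
    · exact Or.inl ((Nat.prime_dvd_prime_iff_eq hp Nat.prime_two).mp h)
    · exact Or.inr ((Nat.prime_dvd_prime_iff_eq hp Nat.prime_three).mp h)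
  rcases this with rfl | rfl
  · exact w6_pow.2.2
  · exact w6_pow.2.1

theorem orderOf_w10 : orderOf (wD w10).toMat = 10 := by
  apply orderOf_toMat _ 10 (by norm_num) w10_pow.1
  intro p hp hp10
  have : p = 2 ∨ p = 5 := by
    have : p ∣ 2 * 5 := hp10
    rcases hp.dvd_mul.mp this with h | h
    · exact Or.inl ((Nat.prime_dvd_prime_iff_eq hp Nat.prime_two).mp h)
    · exact Or.inr ((Nat.prime_dvd_prime_iff_eq hp Nat.prime_five).mp h)
  rcases this with rfl | rfl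
  · exact w10_pow.2.2
  · exact w10_pow.2.1

/-- a matrix `A` with `A ^ q = 1` and `A + 1` invertible: its powers `A ^ E`, `q ∤ E`, have no
fixed vectors -/
theorem fpf_pow {A B : Mat6} {q : ℕ} (hq : q.Prime) (hA : A ^ q = 1) (hB : B * (A + 1) = 1)
    (E : ℕ) (hE : ¬ q ∣ E) (w : Fin 6 → F4) (hw : (A ^ E).mulVec w = w) : w = 0 := by
  have hfix : ∀ (M : Mat6), M.mulVec w = w → ∀ k : ℕ, (M ^ k).mulVec w = w := by
    intro M hM k
    induction k with
    | zero => rw [pow_zero, Matrix.one_mulVec]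
    | succ k ih => rw [pow_succ, ← Matrix.mulVec_mulVec, hM, ih]
  have hcop : Nat.Coprime E q := ((Nat.Prime.coprime_iff_not_dvd hq).mpr hE).symm
  obtain ⟨e', -, he'⟩ := Nat.exists_mul_mod_eq_one_of_coprime hcop hq.one_lt
  have h1 : A ^ (E * e') = A := by
    rw [← Nat.div_add_mod (E * e') q, he', pow_add, pow_mul, hA, one_pow, one_mul, pow_one]
  have h2 : A.mulVec w = w := by
    have := hfix (A ^ E) hw e'
    rwa [← pow_mul, h1] at this
  have h3 : (A + 1).mulVec w = 0 := by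
    rw [Matrix.add_mulVec, h2, Matrix.one_mulVec]
    funext i
    exact F4_add_self _
  have h4 : (B * (A + 1)).mulVec w = 0 := by
    rw [← Matrix.mulVec_mulVec, h3, Matrix.mulVec_zero]
  rwa [hB, Matrix.one_mulVec] at h4

theorem fpf_w7 (E : ℕ) (hE : ¬ 7 ∣ E) (w : Fin 6 → F4)
    (hw : ((wD w7).toMat ^ E).mulVec w = w) : w = 0 := by
  refine fpf_pow (B := B7.toMat) (by norm_num) ?_ ?_ E hE w hw
  · rw [← M6.toMat_mpow, w7_pow, M6.toMat_one]
  · rw [← M6.toMat_one, ← M6.toMat_add, ← M6.toMat_mul, w7_inv]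

theorem fpf_w13 (E : ℕ) (hE : ¬ 13 ∣ E) (w : Fin 6 → F4)
    (hw : ((wD w13).toMat ^ E).mulVec w = w) : w = 0 := by
  refine fpf_pow (B := B13.toMat) (by norm_num) ?_ ?_ E hE w hw
  · rw [← M6.toMat_mpow, w13_pow, M6.toMat_one]
  · rw [← M6.toMat_one, ← M6.toMat_add, ← M6.toMat_mul, w13_inv]

end Cfsg.Agent.Lib.Helper6.G24
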