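import Cfsg.Agent.Lib.Helper6.G24Rel

set_option autoImplicit false

/-! The homomorphism from the presented Steinberg group of type `G₂` over the field with four
elements to the invertible 6 × 6 matrices over that field, mapping `x̄_r(t)` to the root element
`XD r t`. -/

namespace Cfsg.Agent.Lib.Helper6.G24

open Cfsg.Lie

/-- 6 × 6 matrices over `F4` -/
abbrev Mat6 : Type := Matrix (Fin 6) (Fin 6) F4

theorem F4_add_self (t : F4) : t + t = 0 := by cases t <;> rfl

theorem XD_zero : ∀ r < 12, XD r 0 = M6.one := by decide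

theorem M6_one_mul_one : M6.one.mul M6.one = M6.one := by decide

theorem XD_mul_self (r : ℕ) (t : F4) : (XD r t).mul (XD r t) = M6.one := by
  by_cases hr : r < 12
  · rw [XD_add r hr, F4_add_self, XD_zero r hr]
  · rw [XD_of_le r (by omega) t]
    exact M6_one_mul_one

/-- the root elements as invertible matrices -/
def XU (r : ℕ) (t : F4) : Mat6ˣ :=
  ⟨(XD r t).toMat, (XD r t).toMat, by rw [← M6.toMat_mul, XD_mul_self, M6.toMat_one],
    by rw [← M6.toMat_mul, XD_mul_self, M6.toMat_one]⟩

theorem XU_val (r : ℕ) (t : F4) : ((XU r t : Mat6ˣ) : Mat6) = (XD r t).toMat := rfl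

theorem XU_of_le (r : ℕ) (hr : 12 ≤ r) (t : F4) : XU r t = 1 := by
  apply Units.ext
  rw [XU_val, XD_of_le r hr, M6.toMat_one]
  rfl

/-- the product of a word in root elements -/
def wU (w : List (ℕ × F4)) : Mat6ˣ := (w.map fun p => XU p.1 p.2).prod

@[simp] theorem wU_nil : wU [] = 1 := rfl

theorem wU_cons (p : ℕ × F4) (w : List (ℕ × F4)) : wU (p :: w) = XU p.1 p.2 * wU w := by
  simp [wU]

theorem wU_append (w w' : List (ℕ × F4)) : wU (w ++ w') = wU w * wU w' := by
  simp [wU]

theorem wU_val (w : List (ℕ × F4)) : ((wU w : Mat6ˣ) : Mat6) = (wD w).toMat := by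
  induction w with
  | nil => rw [wU_nil, Units.val_one]; exact M6.toMat_one.symm
  | cons p w ih =>
    rw [wU_cons, Units.val_mul, ih, XU_val]
    show _ = ((XD p.1 p.2).mul (wD w)).toMat
    rw [M6.toMat_mul]

theorem XU_add {r : ℕ} (hr : r < 12) (t u : F4) : XU r t * XU r u = XU r (t + u) := by
  apply Units.ext
  rw [Units.val_mul, XU_val, XU_val, XU_val, ← M6.toMat_mul, XD_add r hr]

theorem XU_comm {r s : ℕ} (hr : r < 12) (hs : s < 12) (h1 : s ≠ r) (h2 : s ≠ chevG2.neg r)
    (t u : F4) : XU s u * XU r t = XU r t * XU s u * wU (chevG2.commWord F4 r s t u) := by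
  apply Units.ext
  rw [Units.val_mul, Units.val_mul, Units.val_mul, wU_val, XU_val, XU_val, ← M6.toMat_mul,
    ← M6.toMat_mul, ← M6.toMat_mul, XD_comm r hr s hs t u h1 h2]

theorem wU_h {r : ℕ} (hr : r < 12) {t u : F4} (ht : t ≠ 0) (hu : u ≠ 0) :
    wU (chevG2.hWord r t) * wU (chevG2.hWord r u) = wU (chevG2.hWord r (t * u)) := by
  apply Units.ext
  rw [Units.val_mul, wU_val, wU_val, wU_val, ← M6.toMat_mul, XD_h r hr t u ht hu]

/-- the images of the generators -/
def gen (p : Fin chevG2.nroots × F4) : Mat6ˣ := XU p.1.val p.2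

theorem nroots_eq : chevG2.nroots = 12 := rfl

theorem lift_stX (r : ℕ) (t : F4) : FreeGroup.lift gen (chevG2.stX r t) = XU r t := by
  unfold ChevalleyDatum.stX
  by_cases hr : r < chevG2.nroots
  · rw [dif_pos hr, FreeGroup.lift_apply_of]
    rfl
  · rw [dif_neg hr, map_one, XU_of_le r (by rw [nroots_eq] at hr; omega)]

theorem lift_stWord (w : List (ℕ × F4)) : FreeGroup.lift gen (chevG2.stWord w) = wU w := by
  unfold ChevalleyDatum.stWord
  induction w with
  | nil => simp
  | cons p w ih => rw [List.map_cons, List.prod_cons, map_mul, ih, lift_stX, wU_cons]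

theorem lift_rels : ∀ g ∈ chevG2.steinbergRels F4, FreeGroup.lift gen g = 1 := by
  intro g hg
  rcases hg with (⟨r, t₁, t₂, hr, rfl⟩ | ⟨r, s, t, u, hr, hs, h1, h2, rfl⟩) |
    ⟨r, t₁, t₂, hr, h1, h2, rfl⟩
  · rw [map_mul, map_mul, map_inv, mul_inv_eq_one, lift_stX, lift_stX, lift_stX]
    exact XU_add hr t₁ t₂
  · rw [map_mul, map_mul, map_mul, map_mul, map_inv, map_inv, map_inv, mul_inv_eq_one,
      lift_stX, lift_stX, lift_stWord]
    have e := XU_comm hr hs h1 h2 t u
    calc (XU s u)⁻¹ * (XU r t)⁻¹ * XU s u * XU r t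
        = (XU s u)⁻¹ * (XU r t)⁻¹ * (XU s u * XU r t) := by group
      _ = _ := by rw [e]; group
  · rw [map_mul, map_mul, map_inv, mul_inv_eq_one]
    unfold ChevalleyDatum.stH
    rw [lift_stWord, lift_stWord, lift_stWord]
    exact wU_h hr h1 h2

/-- the representation of the presented group on the 6-dimensional module -/
def psi : chevG2.SteinbergGroup F4 →* Mat6ˣ := PresentedGroup.toGroup lift_rels

theorem psi_mk (x : FreeGroup (Fin chevG2.nroots × F4)) :
    psi (PresentedGroup.mk (chevG2.steinbergRels F4) x) = FreeGroup.lift gen x := rfl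

theorem psi_stWord (w : List (ℕ × F4)) :
    psi (PresentedGroup.mk (chevG2.steinbergRels F4) (chevG2.stWord w)) = wU w := by
  rw [psi_mk, lift_stWord]

/-- the representation, with values in the monoid of all matrices -/
def psiM : chevG2.SteinbergGroup F4 →* Mat6 := (Units.coeHom Mat6).comp psi

theorem psiM_stWord (w : List (ℕ × F4)) :
    psiM (PresentedGroup.mk (chevG2.steinbergRels F4) (chevG2.stWord w)) = (wD w).toMat := by
  show ((psi _ : Mat6ˣ) : Mat6) = _
  rw [psi_stWord, wU_val]

end Cfsg.Agent.Lib.Helper6.G24
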