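import Mathlib
import Cfsg.Agent.Lib.Helper20.A10Core

set_option autoImplicit false

/-! The prime graph of a semidirect product `V ⋊ S` of a finite group `S` of even order with an
elementary abelian 2-group `V`: it equals the prime graph of `S` as soon as, for every odd prime
`q`, either `S` has an element of order `2q` or the elements of order `q` of `S` have no fixed
points on `V`. -/

namespace Cfsg.Agent.Lib.Helper6.G24

open Cfsg.Agent.Lib.Helper20.A10Core Multiplicative

/-- an element of a finite group whose image under a homomorphism has order `n` yields an element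
of order `n` -/
theorem exists_orderOf_eq_of_map {S B : Type*} [Group S] [Finite S] [Monoid B] (f : S →* B)
    (y : S) {n : ℕ} (h : orderOf (f y) = n) : ∃ g : S, orderOf g = n := by
  have hd : n ∣ orderOf y := h ▸ orderOf_map_dvd f y
  obtain ⟨m, hm⟩ := hd
  have hy : 0 < orderOf y := orderOf_pos y
  have hm0 : m ≠ 0 := by
    rintro rfl
    rw [mul_zero] at hm
    omega
  refine ⟨y ^ m, ?_⟩
  rw [orderOf_pow_of_dvd hm0 ⟨n, by rw [hm, mul_comm]⟩, hm]
  exact Nat.mul_div_cancel _ (Nat.pos_of_ne_zero hm0)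

/-- subgroups of prime order `p` are conjugate when `p ^ 2` does not divide the group order -/
theorem exists_conj_of_card_eq_prime {H : Type*} [Group H] [Finite H] {p : ℕ} [Fact p.Prime]
    (hp2 : ¬ p ^ 2 ∣ Nat.card H) (P Q : Subgroup H) (hP : Nat.card P = p) (hQ : Nat.card Q = p) :
    ∃ g : H, ∀ a ∈ P, g * a * g⁻¹ ∈ Q := by
  have hp : p.Prime := Fact.out
  have key : ∀ R : Subgroup H, Nat.card R = p → ∃ S : Sylow p H, R = (S : Subgroup H) := by
    intro R hR
    have hRp : IsPGroup p R := IsPGroup.of_card (n := 1) (by rw [hR, pow_one])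
    obtain ⟨S, hRS⟩ := hRp.exists_le_sylow
    obtain ⟨k, hk⟩ := IsPGroup.iff_card.mp S.isPGroup'
    have hdvd : p ^ k ∣ Nat.card H := hk ▸ Subgroup.card_subgroup_dvd_card (S : Subgroup H)
    have hk1 : k ≤ 1 := by
      by_contra hcon
      exact hp2 ((pow_dvd_pow p (by omega : 2 ≤ k)).trans hdvd)
    have hk0 : k ≠ 0 := by
      intro h0
      have h1 : Nat.card R ∣ Nat.card (S : Subgroup H) := Subgroup.card_dvd_of_le hRS
      rw [hR, hk, h0, pow_zero] at h1
      exact hp.one_lt.ne' (Nat.dvd_one.mp h1)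
    have hS : Nat.card (S : Subgroup H) = p := by
      rw [hk, show k = 1 by omega, pow_one]
    exact ⟨S, Subgroup.eq_of_le_of_card_ge hRS (by rw [hS, hR])⟩
  obtain ⟨S, hS⟩ := key P hP
  obtain ⟨T, hT⟩ := key Q hQ
  obtain ⟨g, hg⟩ := MulAction.exists_smul_eq H S T
  refine ⟨g, fun a ha => ?_⟩
  rw [hT, ← hg, Sylow.coe_subgroup_smul]
  rw [hS] at ha
  have := Subgroup.smul_mem_pointwise_smul a (MulAut.conj g) (S : Subgroup H) ha
  rwa [MulAut.smul_def, MulAut.conj_apply] at this

section fpf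

variable {S : Type*} [Group S] {V : Type*} [AddCommGroup V] [DistribMulAction S V]

/-- the norm of a vector under an element `s` with `s ^ q = 1` is fixed by `s` -/
theorem smul_Sj_of_pow_eq_one (s : S) (v : V) (q : ℕ) (hs : s ^ q = 1) :
    s • Sj s v q = Sj s v q := by
  have h1 : Sj s v (1 + q) = v + s • Sj s v q := by
    rw [Sj_add, pow_one]
    congr 1
    simp [Sj]
  have h2 : Sj s v (q + 1) = Sj s v q + v := by
    rw [Sj_succ, hs, one_smul]
  rw [add_comm 1 q, h2, add_comm] at h1
  exact (add_left_cancel h1).symm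

/-- an element without fixed points has vanishing norms -/
theorem Sj_eq_zero_of_fpf (s : S) (q : ℕ) (hs : s ^ q = 1) (hfp : ∀ w : V, s • w = w → w = 0)
    (v : V) : Sj s v q = 0 :=
  hfp _ (smul_Sj_of_pow_eq_one s v q hs)

/-- fixed-point-freeness is invariant under conjugation -/
theorem fpf_of_conj (s c : S) (hfp : ∀ w : V, (c * s * c⁻¹) • w = w → w = 0) :
    ∀ w : V, s • w = w → w = 0 := by
  intro w hw
  have h1 : (c * s * c⁻¹) • (c • w) = c • w := by
    rw [← mul_smul, mul_assoc, inv_mul_cancel, mul_one, mul_smul, hw]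
  have h2 := hfp _ h1
  have h3 : c⁻¹ • (c • w) = c⁻¹ • (0 : V) := by rw [h2]
  rwa [← mul_smul, inv_mul_cancel, one_smul, smul_zero] at h3

/-- if the powers `y ^ E`, `q ∤ E`, of one element `y` have no fixed points and `q ^ 2` does not
divide the group order then no element of order `q` has fixed points -/
theorem fpf_of_orderOf_eq [Finite S] (q : ℕ) [Fact q.Prime] (hq2 : ¬ q ^ 2 ∣ Nat.card S)
    (hV : ∃ w : V, w ≠ 0) (y : S)
    (hy : ∀ E : ℕ, ¬ q ∣ E → ∀ w : V, y ^ E • w = w → w = 0)
    (s : S) (hs : orderOf s = q) : ∀ w : V, s • w = w → w = 0 := by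
  have hq : q.Prime := Fact.out
  have hqn : q ∣ orderOf y := by
    by_contra hcon
    obtain ⟨w, hw⟩ := hV
    exact hw (hy _ hcon w (by rw [pow_orderOf_eq_one, one_smul]))
  obtain ⟨m, hm⟩ := hqn
  have hy0 : 0 < orderOf y := orderOf_pos y
  have hm0 : m ≠ 0 := by
    rintro rfl
    rw [mul_zero] at hm
    omega
  have hqm : ¬ q ∣ m := by
    rintro ⟨m', rfl⟩
    apply hq2
    have : q ^ 2 ∣ orderOf y := ⟨m', by rw [hm]; ring⟩
    exact this.trans (orderOf_dvd_natCard y)
  have hg0 : orderOf (y ^ m) = q := by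
    rw [orderOf_pow_of_dvd hm0 ⟨q, by rw [hm, mul_comm]⟩, hm]
    exact Nat.mul_div_cancel _ (Nat.pos_of_ne_zero hm0)
  have hP : Nat.card (Subgroup.zpowers s) = q := by rw [Nat.card_zpowers, hs]
  have hQ : Nat.card (Subgroup.zpowers (y ^ m)) = q := by rw [Nat.card_zpowers, hg0]
  obtain ⟨c, hc⟩ := exists_conj_of_card_eq_prime hq2 _ _ hP hQ
  have hmem := hc s (Subgroup.mem_zpowers s)
  rw [← (isOfFinOrder_of_finite (y ^ m)).mem_powers_iff_mem_zpowers] at hmem
  obtain ⟨j, hj⟩ := (Submonoid.mem_powers_iff _ _).mp hmem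
  have hqj : ¬ q ∣ j := by
    rintro ⟨j', rfl⟩
    rw [pow_mul, ← hg0, pow_orderOf_eq_one, one_pow] at hj
    have h1 : s = 1 := by
      have : s = c⁻¹ * (c * s * c⁻¹) * c := by group
      rw [this, ← hj]; group
    rw [h1, orderOf_one] at hs
    exact hq.one_lt.ne hs
  apply fpf_of_conj s c
  rw [← hj, ← pow_mul]
  exact hy (m * j) (fun h => (hq.dvd_mul.mp h).elim hqm hqj)

end fpf

section main

variable {S : Type*} [Group S] {V : Type*} [AddCommGroup V] [DistribMulAction S V]

theorem card_semidirect [Finite S] [Finite V] : Nat.card (G S V) = Nat.card V * Nat.card S := by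
  rw [Nat.card_congr (SemidirectProduct.equivProd (φ := phi S V)), Nat.card_prod]
  rfl

instance finite_semidirect [Finite S] [Finite V] : Finite (G S V) :=
  Finite.of_equiv _ (SemidirectProduct.equivProd (φ := phi S V)).symm

/-- the vertices of the prime graph -/
theorem prime_dvd_card_iff [Finite S] [Finite V] {m : ℕ} (hV : Nat.card V = 2 ^ m)
    (h2 : 2 ∣ Nat.card S) (p : ℕ) (hp : p.Prime) :
    p ∣ Nat.card S ↔ p ∣ Nat.card (G S V) := by
  rw [card_semidirect, hV]
  constructor
  · intro h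
    exact h.mul_left _
  · intro h
    rcases hp.dvd_mul.mp h with h' | h'
    · have := (Nat.prime_dvd_prime_iff_eq hp Nat.prime_two).mp (hp.dvd_of_dvd_pow h')
      rw [this]
      exact h2
    · exact h'

/-- an element `(v, s)` of order `2r` with `s` of odd prime order `r` -/
theorem aux_two_mul
    (hodd : ∀ q : ℕ, q.Prime → q ≠ 2 → (∃ s : S, orderOf s = 2 * q) ∨
      ∀ s : S, orderOf s = q → ∀ v : V, Sj s v q = 0)
    (r : ℕ) (hr : r.Prime) (hr2 : r ≠ 2) (v : V) (s : S) (hs : orderOf s = r)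
    (hg : orderOf (⟨ofAdd v, s⟩ : G S V) = 2 * r) : ∃ s' : S, orderOf s' = 2 * r := by
  rcases hodd r hr hr2 with h | h
  · exact h
  · exfalso
    have h1 : (⟨ofAdd v, s⟩ : G S V) ^ r = 1 := by
      rw [mk_pow, h s hs v, ← hs, pow_orderOf_eq_one]
      rfl
    have h3 := orderOf_dvd_of_pow_eq_one h1
    rw [hg] at h3
    have := Nat.le_of_dvd hr.pos h3
    have := hr.pos
    omega

/-- the edges of the prime graph -/
theorem pairs_iff (h2 : ∀ v : V, v + v = 0)
    (hodd : ∀ q : ℕ, q.Prime → q ≠ 2 → (∃ s : S, orderOf s = 2 * q) ∨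
      ∀ s : S, orderOf s = q → ∀ v : V, Sj s v q = 0)
    (p q : ℕ) (hp : p.Prime) (hq : q.Prime) (hpq : p ≠ q) :
    (∃ s : S, orderOf s = p * q) ↔ (∃ g : G S V, orderOf g = p * q) := by
  constructor
  · rintro ⟨s, hs⟩
    exact ⟨SemidirectProduct.inr s, by
      rw [orderOf_injective _ SemidirectProduct.inr_injective, hs]⟩
  · rintro ⟨g, hg⟩
    obtain ⟨v, s, rfl⟩ := exists_rep g
    have hpq0 : 0 < p * q := Nat.mul_pos hp.pos hq.pos
    have h1 : s ^ (p * q) = 1 := by
      have := pow_orderOf_eq_one (⟨ofAdd v, s⟩ : G S V)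
      rw [hg, mk_pow, mk_eq_one_iff] at this
      exact this.2
    have hn : orderOf s ∣ p * q := orderOf_dvd_of_pow_eq_one h1
    -- the square of `g ^ n` is trivial
    have h3 : (⟨ofAdd v, s⟩ : G S V) ^ (orderOf s * 2) = 1 := by
      rw [pow_mul, mk_pow, pow_orderOf_eq_one, mk_pow, one_pow, Sj_one, mk_eq_one_iff]
      refine ⟨?_, rfl⟩
      rw [two_smul]
      exact h2 _
    have h4 : p * q ∣ orderOf s * 2 := hg ▸ orderOf_dvd_of_pow_eq_one h3
    obtain ⟨a, b, ha, hb, hab⟩ := (Nat.dvd_mul).mp hn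
    rcases (Nat.dvd_prime hp).mp ha with rfl | rfl <;> rcases (Nat.dvd_prime hq).mp hb with rfl | rfl
    · -- `n = 1`
      rw [← hab] at h4
      have := Nat.le_of_dvd (by norm_num) h4
      have := hp.two_le
      have := hq.two_le
      nlinarith
    · -- `n = q`
      rw [one_mul] at hab
      rw [← hab] at h4
      have h5 : p ∣ 2 := by
        have : p * b ∣ 2 * b := by rwa [mul_comm 2 b]
        exact Nat.dvd_of_mul_dvd_mul_right hq.pos this
      have hp2 : p = 2 := (Nat.prime_dvd_prime_iff_eq hp Nat.prime_two).mp h5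
      subst hp2
      exact aux_two_mul hodd b hq (fun h => hpq h.symm) v s hab.symm hg
    · -- `n = p`
      rw [mul_one] at hab
      rw [← hab] at h4
      have h5 : q ∣ 2 := by
        have : a * q ∣ a * 2 := h4
        exact Nat.dvd_of_mul_dvd_mul_left hp.pos this
      have hq2 : q = 2 := (Nat.prime_dvd_prime_iff_eq hq Nat.prime_two).mp h5
      subst hq2
      rw [mul_comm] at hg ⊢
      exact aux_two_mul hodd a hp hpq v s hab.symm hg
    · exact ⟨s, hab.symm⟩

end main

end Cfsg.Agent.Lib.Helper6.G24
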