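import Cfsg.Agent.Lib.Helper6.G24Elt
import Cfsg.Agent.Lib.Helper6.G24Semi
import Cfsg.Agent.Lib.Helper8.ChevSt14
import Cfsg.Agent.Lib.Helper8.ChevFld1
import Cfsg.Agent.S1059

set_option autoImplicit false

/-! The semidirect products `(F₄⁶)^k ⋊ G₂(4)` have the prime graph of `G₂(4)`. -/

namespace Cfsg.Agent.Lib.Helper6.G24

open Cfsg.Lie Cfsg.Agent.Lib.Helper8.Chev Cfsg.Agent.Lib.Helper20.A10Core

/-- the presented Steinberg group of type `G₂` over the field with four elements -/
abbrev St : Type := chevG2.SteinbergGroup F4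

theorem mem7 : chevG2 ∈ [chevG2, chevB2, chevD4, chevF4, chevE6, chevE7, chevE8] := by simp

theorem stHom_injective : Function.Injective (stHom mem7 F4) := by
  rw [injective_iff_map_eq_one]
  intro a ha
  have h : a ∈ (stHom mem7 F4).ker := ha
  rw [stHom_ker mem7, st_center_eq_bot (by simp)] at h
  exact h

/-- the presented group is the Chevalley group -/
noncomputable def stEquiv : St ≃* ↥(chevG2.group F4) :=
  MulEquiv.ofBijective (stHom mem7 F4) ⟨stHom_injective, stHom_surjective mem7⟩

theorem card_St : Nat.card St = 251596800 := by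
  rw [Nat.card_congr stEquiv.toEquiv,
    Cfsg.Agent.S1059.result (F := F4) (q := 4) Cfsg.Agent.Helper4.TC.F4.card_eq]
  norm_num

instance finite_St : Finite St := Nat.finite_of_card_ne_zero (by rw [card_St]; norm_num)

/-- base change of the Chevalley group of type `G₂` along an isomorphism of fields -/
theorem nonempty_chevG2_equiv {F F' : Type*} [Field F] [Field F'] (e : F ≃+* F') :
    Nonempty (↥(chevG2.group F) ≃* ↥(chevG2.group F')) := by
  let f : ↥(chevG2.group F) →* ↥(chevG2.group F') :=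
    ((bc chevG2 e.toRingHom).comp (chevG2.group F).subtype).codRestrict
      (chevG2.group F') fun g => bc_mem_group e.toRingHom g.2
  let f' : ↥(chevG2.group F') →* ↥(chevG2.group F) :=
    ((bc chevG2 e.symm.toRingHom).comp (chevG2.group F').subtype).codRestrict
      (chevG2.group F) fun g => bc_mem_group e.symm.toRingHom g.2
  refine ⟨MulEquiv.ofBijective f ⟨?_, ?_⟩⟩
  · intro g g' h
    apply Subtype.ext
    apply bc_injective (D := chevG2) e.toRingHom
    exact congrArg Subtype.val h
  · intro g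
    refine ⟨f' g, ?_⟩
    apply Subtype.ext
    apply Units.ext
    show ((((g : GL chevG2.Idx F') : Matrix chevG2.Idx chevG2.Idx F').map e.symm.toRingHom).map
      e.toRingHom) = ((g : GL chevG2.Idx F') : Matrix chevG2.Idx chevG2.Idx F')
    ext i j
    simp

/-! ### The module -/

/-- the 6-dimensional module -/
def V0 : Type := Fin 6 → F4

instance : AddCommGroup V0 := inferInstanceAs (AddCommGroup (Fin 6 → F4))

instance : Finite V0 := inferInstanceAs (Finite (Fin 6 → F4))

instance : SMul St V0 := ⟨fun s v => (psiM s).mulVec v⟩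

theorem smul_V0 (s : St) (v : V0) : s • v = ((psiM s).mulVec v : Fin 6 → F4) := rfl

instance : DistribMulAction St V0 where
  one_smul v := by
    rw [smul_V0, map_one]
    exact Matrix.one_mulVec v
  mul_smul s s' v := by
    rw [smul_V0, smul_V0, smul_V0, map_mul]
    exact (Matrix.mulVec_mulVec v (psiM s) (psiM s')).symm
  smul_zero s := by
    rw [smul_V0]
    exact Matrix.mulVec_zero _
  smul_add s v w := by
    rw [smul_V0, smul_V0, smul_V0]
    exact Matrix.mulVec_add _ v w

theorem V0_add_self (v : V0) : v + v = 0 := by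
  funext i
  exact F4_add_self _

theorem card_V0 : Nat.card V0 = 2 ^ 12 := by
  show Nat.card (Fin 6 → F4) = 2 ^ 12
  rw [Nat.card_fun, Nat.card_eq_fintype_card, Nat.card_eq_fintype_card,
    Cfsg.Agent.Helper4.TC.F4.card_eq, Fintype.card_fin]
  norm_num

theorem exists_V0_ne : ∃ w : V0, w ≠ 0 := by
  refine ⟨fun _ => (1 : F4), fun h => ?_⟩
  have := congrFun h 0
  exact absurd this (by decide)

/-- the element of the presented group given by a word -/
def ofWord (w : List (ℕ × F4)) : St := PresentedGroup.mk (chevG2.steinbergRels F4) (chevG2.stWord w)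

theorem psiM_ofWord (w : List (ℕ × F4)) : psiM (ofWord w) = (wD w).toMat := psiM_stWord w

theorem exists_orderOf_six : ∃ s : St, orderOf s = 2 * 3 :=
  exists_orderOf_eq_of_map psiM (ofWord w6) (by rw [psiM_ofWord]; exact orderOf_w6)

theorem exists_orderOf_ten : ∃ s : St, orderOf s = 2 * 5 :=
  exists_orderOf_eq_of_map psiM (ofWord w10) (by rw [psiM_ofWord]; exact orderOf_w10)

theorem fpf_seven (s : St) (hs : orderOf s = 7) : ∀ w : V0, s • w = w → w = 0 := by
  have : Fact (Nat.Prime 7) := ⟨by norm_num⟩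
  refine fpf_of_orderOf_eq 7 (by rw [card_St]; norm_num) exists_V0_ne (ofWord w7) ?_ s hs
  intro E hE w hw
  rw [smul_V0, map_pow, psiM_ofWord] at hw
  exact fpf_w7 E hE w hw

theorem fpf_thirteen (s : St) (hs : orderOf s = 13) : ∀ w : V0, s • w = w → w = 0 := by
  have : Fact (Nat.Prime 13) := ⟨by norm_num⟩
  refine fpf_of_orderOf_eq 13 (by rw [card_St]; norm_num) exists_V0_ne (ofWord w13) ?_ s hs
  intro E hE w hw
  rw [smul_V0, map_pow, psiM_ofWord] at hw
  exact fpf_w13 E hE w hw

theorem prime_dvd_card_St (q : ℕ) (hq : q.Prime) (h : q ∣ Nat.card St) :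
    q = 2 ∨ q = 3 ∨ q = 5 ∨ q = 7 ∨ q = 13 := by
  rw [card_St] at h
  have h1 : q ∣ 2 ^ 12 * 3 ^ 3 * 5 ^ 2 * 7 * 13 := by norm_num; exact h
  rcases hq.dvd_mul.mp h1 with h2 | h2
  · rcases hq.dvd_mul.mp h2 with h3 | h3
    · rcases hq.dvd_mul.mp h3 with h4 | h4
      · rcases hq.dvd_mul.mp h4 with h5 | h5
        · left
          exact (Nat.prime_dvd_prime_iff_eq hq Nat.prime_two).mp (hq.dvd_of_dvd_pow h5)
        · right; left
          exact (Nat.prime_dvd_prime_iff_eq hq Nat.prime_three).mp (hq.dvd_of_dvd_pow h5)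
      · right; right; left
        exact (Nat.prime_dvd_prime_iff_eq hq Nat.prime_five).mp (hq.dvd_of_dvd_pow h4)
    · right; right; right; left
      exact (Nat.prime_dvd_prime_iff_eq hq (by norm_num)).mp h3
  · right; right; right; right
    exact (Nat.prime_dvd_prime_iff_eq hq (by norm_num)).mp h2

/-! ### The groups -/

/-- `k` copies of the module -/
abbrev Vk (k : ℕ) : Type := Fin k → V0

theorem Sj_apply {k : ℕ} (s : St) (v : Vk k) (q : ℕ) (i : Fin k) :
    Sj s v q i = Sj s (v i) q := by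
  unfold Sj
  rw [Finset.sum_apply]
  rfl

theorem card_Vk (k : ℕ) : Nat.card (Vk k) = 2 ^ (12 * k) := by
  rw [Nat.card_fun, card_V0, Nat.card_eq_fintype_card, Fintype.card_fin, pow_mul]

theorem Vk_add_self {k : ℕ} (v : Vk k) : v + v = 0 := by
  funext i
  exact V0_add_self _

theorem hodd (k : ℕ) (q : ℕ) (hq : q.Prime) (hq2 : q ≠ 2) :
    (∃ s : St, orderOf s = 2 * q) ∨ ∀ s : St, orderOf s = q → ∀ v : Vk k, Sj s v q = 0 := by
  by_cases hd : q ∣ Nat.card St
  · rcases prime_dvd_card_St q hq hd with rfl | rfl | rfl | rfl | rfl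
    · exact absurd rfl hq2
    · exact Or.inl exists_orderOf_six
    · exact Or.inl exists_orderOf_ten
    · right
      intro s hs v
      funext i
      rw [Sj_apply]
      exact Sj_eq_zero_of_fpf s 7 (by rw [← hs, pow_orderOf_eq_one]) (fpf_seven s hs) (v i)
    · right
      intro s hs v
      funext i
      rw [Sj_apply]
      exact Sj_eq_zero_of_fpf s 13 (by rw [← hs, pow_orderOf_eq_one]) (fpf_thirteen s hs) (v i)
  · right
    intro s hs
    exact absurd (hs ▸ orderOf_dvd_natCard s) hd

/-- the group `(F₄⁶)^k ⋊ G₂(4)` -/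
abbrev Hk (k : ℕ) : Type := G St (Vk k)

theorem card_Hk (k : ℕ) : Nat.card (Hk k) = 2 ^ (12 * k) * 251596800 := by
  rw [card_semidirect, card_Vk, card_St]

theorem lt_card_Hk (N : ℕ) : N < Nat.card (Hk N) := by
  rw [card_Hk]
  have h1 : N < 2 ^ N := Nat.lt_two_pow_self
  have h2 : 2 ^ N ≤ 2 ^ (12 * N) := Nat.pow_le_pow_right (by norm_num) (by omega)
  nlinarith

theorem main {F : Type*} [Field F] [Fintype F] (hF : Fintype.card F = 4) (N : ℕ) :
    ∃ (H : Type) (_ : Group H) (_ : Finite H), N < Nat.card H ∧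
      ((∀ p : ℕ, p.Prime → (p ∣ Nat.card ↥(chevG2.group F) ↔ p ∣ Nat.card H)) ∧
      (∀ p q : ℕ, p.Prime → q.Prime → p ≠ q →
        ((∃ g : ↥(chevG2.group F), orderOf g = p * q) ↔ (∃ g : H, orderOf g = p * q)))) := by
  have eF : F ≃+* F4 := FiniteField.ringEquivOfCardEq
    (by rw [hF, Cfsg.Agent.Helper4.TC.F4.card_eq])
  obtain ⟨e0⟩ := nonempty_chevG2_equiv eF
  let e : ↥(chevG2.group F) ≃* St := e0.trans stEquiv.symm
  refine ⟨Hk N, inferInstance, inferInstance, lt_card_Hk N, ?_, ?_⟩
  · intro p hp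
    rw [Nat.card_congr e.toEquiv]
    exact prime_dvd_card_iff (card_Vk N) (by rw [card_St]; norm_num) p hp
  · intro p q hp hq hpq
    rw [← pairs_iff (S := St) (V := Vk N) Vk_add_self (hodd N) p q hp hq hpq]
    constructor
    · rintro ⟨g, hg⟩
      exact ⟨e g, by rw [MulEquiv.orderOf_eq, hg]⟩
    · rintro ⟨s, hs⟩
      exact ⟨e.symm s, by rw [MulEquiv.orderOf_eq, hs]⟩

end Cfsg.Agent.Lib.Helper6.G24
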