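import Mathlib
import Cfsg.Agent.Lib.Helper4.TC.FieldFour

set_option autoImplicit false

/-! 6 × 6 matrices over the field with four elements as plain data (rows of six entries), so that
products of explicit matrices can be evaluated by the kernel, with the translation to Mathlib's
matrices. -/

namespace Cfsg.Agent.Lib.Helper6.G24

/-- the computable field with four elements -/
abbrev F4 : Type := Cfsg.Agent.Helper4.TC.F4

/-- a row of six entries -/
structure V6 where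
  (a b c d e f : F4)
  deriving DecidableEq

/-- six rows -/
structure M6 where
  (r0 r1 r2 r3 r4 r5 : V6)
  deriving DecidableEq

namespace V6

/-- sum of rows -/
def add (x y : V6) : V6 := ⟨x.a + y.a, x.b + y.b, x.c + y.c, x.d + y.d, x.e + y.e, x.f + y.f⟩

/-- multiple of a row -/
def smul (k : F4) (x : V6) : V6 := ⟨k * x.a, k * x.b, k * x.c, k * x.d, k * x.e, k * x.f⟩

/-- the row as a function -/
def toFun (v : V6) : Fin 6 → F4 := ![v.a, v.b, v.c, v.d, v.e, v.f]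

/-- the linear combination of the rows of `M` with the coefficients `v` -/
def lin (v : V6) (M : M6) : V6 :=
  (((((smul v.a M.r0).add (smul v.b M.r1)).add (smul v.c M.r2)).add (smul v.d M.r3)).add
    (smul v.e M.r4)).add (smul v.f M.r5)

end V6

namespace M6

/-- the product -/
def mul (X Y : M6) : M6 := ⟨X.r0.lin Y, X.r1.lin Y, X.r2.lin Y, X.r3.lin Y, X.r4.lin Y, X.r5.lin Y⟩

/-- the sum -/
def add (X Y : M6) : M6 :=
  ⟨X.r0.add Y.r0, X.r1.add Y.r1, X.r2.add Y.r2, X.r3.add Y.r3, X.r4.add Y.r4, X.r5.add Y.r5⟩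

/-- the identity -/
def one : M6 :=
  ⟨⟨1, 0, 0, 0, 0, 0⟩, ⟨0, 1, 0, 0, 0, 0⟩, ⟨0, 0, 1, 0, 0, 0⟩, ⟨0, 0, 0, 1, 0, 0⟩,
    ⟨0, 0, 0, 0, 1, 0⟩, ⟨0, 0, 0, 0, 0, 1⟩⟩

/-- powers -/
def mpow (X : M6) : ℕ → M6
  | 0 => one
  | k + 1 => (mpow X k).mul X

/-- the matrix in Mathlib's sense -/
def toMat (X : M6) : Matrix (Fin 6) (Fin 6) F4 :=
  Matrix.of ![X.r0.toFun, X.r1.toFun, X.r2.toFun, X.r3.toFun, X.r4.toFun, X.r5.toFun]

theorem toMat_mul (X Y : M6) : (X.mul Y).toMat = X.toMat * Y.toMat := by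
  ext i j
  fin_cases i <;> fin_cases j <;>
    simp [toMat, mul, V6.lin, V6.add, V6.smul, V6.toFun, Matrix.mul_apply, Fin.sum_univ_six]

theorem toMat_add (X Y : M6) : (X.add Y).toMat = X.toMat + Y.toMat := by
  ext i j
  fin_cases i <;> fin_cases j <;> simp [toMat, add, V6.add, V6.toFun]

theorem toMat_one : one.toMat = 1 := by
  ext i j
  fin_cases i <;> fin_cases j <;> simp [toMat, one, V6.toFun]

theorem toMat_mpow (X : M6) (k : ℕ) : (mpow X k).toMat = X.toMat ^ k := by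
  induction k with
  | zero => rw [pow_zero]; exact toMat_one
  | succ k ih => rw [pow_succ, ← ih, ← toMat_mul]; rfl

/-- the data of a matrix -/
def ofMat (A : Matrix (Fin 6) (Fin 6) F4) : M6 :=
  ⟨⟨A 0 0, A 0 1, A 0 2, A 0 3, A 0 4, A 0 5⟩, ⟨A 1 0, A 1 1, A 1 2, A 1 3, A 1 4, A 1 5⟩,
    ⟨A 2 0, A 2 1, A 2 2, A 2 3, A 2 4, A 2 5⟩, ⟨A 3 0, A 3 1, A 3 2, A 3 3, A 3 4, A 3 5⟩,
    ⟨A 4 0, A 4 1, A 4 2, A 4 3, A 4 4, A 4 5⟩, ⟨A 5 0, A 5 1, A 5 2, A 5 3, A 5 4, A 5 5⟩⟩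

theorem ofMat_toMat (X : M6) : ofMat X.toMat = X := rfl

theorem toMat_injective : Function.Injective toMat :=
  Function.LeftInverse.injective ofMat_toMat

end M6

end Cfsg.Agent.Lib.Helper6.G24
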