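import Cfsg.Prelude.Def_Steinberg
import Cfsg.Prelude.Def_ChevG2
import Cfsg.Agent.Lib.Helper6.G24Mat

set_option autoImplicit false

/-! The root elements of `G₂(4)` on its natural 6-dimensional module in characteristic 2 (weights: the
short roots), as data, and Steinberg's relations (R1), (R2), (R3) for them, checked by evaluation. -/

namespace Cfsg.Agent.Lib.Helper6.G24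

open Cfsg.Lie

/-- the root element `x_r(t)` on the 6-dimensional module (basis: weight vectors of the short roots
`2a+b, a+b, a, -a, -a-b, -2a-b`); the identity for `r ≥ 12` -/
def XD : ℕ → F4 → M6
  | 0, t => ⟨⟨1, 0, 0, 0, 0, 0⟩, ⟨0, 1, 0, 0, 0, 0⟩, ⟨0, 0, 1, 0, 0, 0⟩, ⟨0, 0, 0, 1, 0, 0⟩, ⟨t, 0, 0, 0, 1, 0⟩, ⟨0, t, 0, 0, 0, 1⟩⟩
  | 1, t => ⟨⟨1, 0, 0, 0, 0, 0⟩, ⟨0, 1, 0, 0, 0, 0⟩, ⟨0, 0, 1, 0, 0, 0⟩, ⟨t, 0, 0, 1, 0, 0⟩, ⟨0, 0, 0, 0, 1, 0⟩, ⟨0, 0, t, 0, 0, 1⟩⟩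
  | 2, t => ⟨⟨1, 0, 0, 0, 0, 0⟩, ⟨0, 1, 0, 0, 0, 0⟩, ⟨0, 0, 1, 0, 0, 0⟩, ⟨0, t, 0, 1, 0, 0⟩, ⟨0, 0, t, 0, 1, 0⟩, ⟨t * t, 0, 0, 0, 0, 1⟩⟩
  | 3, t => ⟨⟨1, 0, 0, 0, 0, 0⟩, ⟨0, 1, 0, 0, 0, 0⟩, ⟨t, 0, 1, 0, 0, 0⟩, ⟨0, 0, 0, 1, 0, 0⟩, ⟨0, t * t, 0, 0, 1, 0⟩, ⟨0, 0, 0, t, 0, 1⟩⟩
  | 4, t => ⟨⟨1, 0, 0, 0, 0, 0⟩, ⟨t, 1, 0, 0, 0, 0⟩, ⟨0, 0, 1, 0, 0, 0⟩, ⟨0, 0, t * t, 1, 0, 0⟩, ⟨0, 0, 0, 0, 1, 0⟩, ⟨0, 0, 0, 0, t, 1⟩⟩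
  | 5, t => ⟨⟨1, 0, 0, 0, 0, 0⟩, ⟨0, 1, 0, 0, 0, 0⟩, ⟨0, t, 1, 0, 0, 0⟩, ⟨0, 0, 0, 1, 0, 0⟩, ⟨0, 0, 0, t, 1, 0⟩, ⟨0, 0, 0, 0, 0, 1⟩⟩
  | 6, t => ⟨⟨1, 0, 0, 0, 0, 0⟩, ⟨0, 1, t, 0, 0, 0⟩, ⟨0, 0, 1, 0, 0, 0⟩, ⟨0, 0, 0, 1, t, 0⟩, ⟨0, 0, 0, 0, 1, 0⟩, ⟨0, 0, 0, 0, 0, 1⟩⟩
  | 7, t => ⟨⟨1, t, 0, 0, 0, 0⟩, ⟨0, 1, 0, 0, 0, 0⟩, ⟨0, 0, 1, t * t, 0, 0⟩, ⟨0, 0, 0, 1, 0, 0⟩, ⟨0, 0, 0, 0, 1, t⟩, ⟨0, 0, 0, 0, 0, 1⟩⟩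
  | 8, t => ⟨⟨1, 0, t, 0, 0, 0⟩, ⟨0, 1, 0, 0, t * t, 0⟩, ⟨0, 0, 1, 0, 0, 0⟩, ⟨0, 0, 0, 1, 0, t⟩, ⟨0, 0, 0, 0, 1, 0⟩, ⟨0, 0, 0, 0, 0, 1⟩⟩
  | 9, t => ⟨⟨1, 0, 0, 0, 0, t * t⟩, ⟨0, 1, 0, t, 0, 0⟩, ⟨0, 0, 1, 0, t, 0⟩, ⟨0, 0, 0, 1, 0, 0⟩, ⟨0, 0, 0, 0, 1, 0⟩, ⟨0, 0, 0, 0, 0, 1⟩⟩
  | 10, t => ⟨⟨1, 0, 0, t, 0, 0⟩, ⟨0, 1, 0, 0, 0, 0⟩, ⟨0, 0, 1, 0, 0, t⟩, ⟨0, 0, 0, 1, 0, 0⟩, ⟨0, 0, 0, 0, 1, 0⟩, ⟨0, 0, 0, 0, 0, 1⟩⟩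
  | 11, t => ⟨⟨1, 0, 0, 0, t, 0⟩, ⟨0, 1, 0, 0, 0, t⟩, ⟨0, 0, 1, 0, 0, 0⟩, ⟨0, 0, 0, 1, 0, 0⟩, ⟨0, 0, 0, 0, 1, 0⟩, ⟨0, 0, 0, 0, 0, 1⟩⟩
  | _, _ => M6.one

/-- the product of a word in root elements, as data -/
def wD : List (ℕ × F4) → M6
  | [] => M6.one
  | p :: w => (XD p.1 p.2).mul (wD w)

theorem XD_of_le (r : ℕ) (hr : 12 ≤ r) (t : F4) : XD r t = M6.one := by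
  unfold XD
  split <;> first | omega | rfl

set_option maxRecDepth 100000 in
/-- (R1) -/
theorem XD_add : ∀ r < 12, ∀ t u : F4, (XD r t).mul (XD r u) = XD r (t + u) := by
  decide +kernel

set_option maxRecDepth 100000 in
/-- (R2) -/
theorem XD_comm : ∀ r < 12, ∀ s < 12, ∀ t u : F4, s ≠ r → s ≠ chevG2.neg r →
    (XD s u).mul (XD r t) = ((XD r t).mul (XD s u)).mul (wD (chevG2.commWord F4 r s t u)) := by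
  decide +kernel

set_option maxRecDepth 100000 in
/-- (R3) -/
theorem XD_h : ∀ r < 12, ∀ t u : F4, t ≠ 0 → u ≠ 0 →
    (wD (chevG2.hWord r t)).mul (wD (chevG2.hWord r u)) = wD (chevG2.hWord r (t * u)) := by
  decide +kernel

end Cfsg.Agent.Lib.Helper6.G24
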