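import Mathlib
import Cfsg.Agent.Lib.Helper6.HeisU1
import Cfsg.Agent.Lib.Helper14.HSemi10

/-!
# `SU_3(p)` as a subgroup of `GL_3`: order, conjugacy of semisimple elements
-/

set_option autoImplicit false

namespace Cfsg.Agent.Lib.Helper6.HeisU

open Matrix Cfsg.Agent.Lib.Helper6.Heis3
open Cfsg.Agent.Lib.Helper14.GUConj (sharp sharp_apply sharp_mul sharp_sharp sharp_one sharp_smul sharp_add
  sharp_zero sharp_pow det_sharp pres_iff)
open Cfsg.Agent.Lib.Helper14.HSemi (sigQ sigQ_apply)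

variable {F : Type*} [Field F] [Fintype F] {p : ℕ}

/-- the special unitary group inside `GL_3` -/
abbrev SUg (F : Type*) [Field F] (p : ℕ) : Subgroup (GL (Fin 3) F) :=
  Cfsg.GU 3 F p ⊓ Cfsg.Geo.specialLinear (Fin 3) F

theorem alpha_norm (hF : Fintype.card F = p ^ 2) (M : Matrix (Fin 3) (Fin 3) F)
    (hMu : sharp hF M * M = 1) (hns : ∀ z : F, M ≠ z • (1 : Matrix (Fin 3) (Fin 3) F)) (α : F) (hα0 : α ≠ 0)
    (hq : M ^ 2 = (-α) • M + (-(α ^ 2)) • (1 : Matrix (Fin 3) (Fin 3) F)) : α ^ (p + 1) = 1 := by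
  set S := sharp hF M with hS
  set a := α ^ p with ha
  have ha0 : a ≠ 0 := pow_ne_zero _ hα0
  have hS2 : S ^ 2 = (-a) • S + (-(a ^ 2)) • (1 : Matrix (Fin 3) (Fin 3) F) := by
    have := congrArg (sharp hF) hq
    rw [sharp_pow, sharp_add, sharp_smul, sharp_smul, sharp_one, sigQ_apply, sigQ_apply] at this
    rw [this]
    have e1 : (-α) ^ p = - a := by
      have h1 : sigQ hF (-α) = - sigQ hF α := map_neg _ _
      rw [sigQ_apply, sigQ_apply] at h1
      exact h1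
    have e2 : (-(α ^ 2)) ^ p = -(a ^ 2) := by
      have h1 : sigQ hF (-(α ^ 2)) = - (sigQ hF α) ^ 2 := by rw [map_neg, map_pow]
      rw [sigQ_apply, sigQ_apply] at h1
      exact h1
    rw [e1, e2]
  have h1 : S ^ 2 * M ^ 2 = 1 := by
    rw [pow_two, pow_two]
    calc S * S * (M * M) = S * (S * M) * M := by simp only [mul_assoc]
      _ = 1 := by rw [hMu, mul_one, hMu]
  have h2 : S * M ^ 2 = M := by
    rw [pow_two, ← mul_assoc, hMu, one_mul]
  rw [hS2, add_mul, Matrix.smul_mul, Matrix.smul_mul, one_mul, h2, hq] at h1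
  have h3 : (a ^ 2 * α - a) • M = (1 - a ^ 2 * α ^ 2) • (1 : Matrix (Fin 3) (Fin 3) F) := by
    have : (a ^ 2 * α - a) • M - (1 - a ^ 2 * α ^ 2) • (1 : Matrix (Fin 3) (Fin 3) F) =
        (-a) • M + (-(a ^ 2)) • ((-α) • M + (-(α ^ 2)) • (1 : Matrix (Fin 3) (Fin 3) F)) - 1 := by
      module
    rw [← sub_eq_zero, this, h1, sub_self]
  obtain ⟨h4, -⟩ := lin_nonscalar M hns _ _ h3
  have h5 : a * (a * α - 1) = 0 := by linear_combination h4
  rcases mul_eq_zero.mp h5 with h | h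
  · exact absurd h ha0
  · rw [pow_succ, ← ha]
    linear_combination h

/-- the order of `SU_3(p)` -/
theorem card_SUg (hF : Fintype.card F = p ^ 2) :
    (p + 1) * Nat.card (SUg F p) = p ^ 3 * ((p + 1) * (p ^ 2 - 1) * (p ^ 3 + 1)) := by
  have h1 := Cfsg.Agent.Lib.Helper16.card_SU_mul hF 3 (by norm_num)
  have h2 := Cfsg.Agent.Lib.Helper16.card_GU hF 3
  have h3 := Cfsg.Agent.Lib.Helper16.card_ker_guDet (K := F) (q := p) 3
  have h4 : Nat.card (SUg F p) = Nat.card (Cfsg.Agent.Lib.Helper16.guDet (K := F) (q := p) 3).ker := by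
    apply Nat.card_congr
    exact
      { toFun := fun x => ⟨⟨x.1, x.2.1⟩, x.2.2⟩
        invFun := fun x => ⟨x.1.1, ⟨x.1.2, x.2⟩⟩
        left_inv := fun x => rfl
        right_inv := fun x => rfl }
  rw [h4, h3, h1, h2]
  simp [Finset.prod_range_succ]

theorem not_81_dvd_su (hp : p % 9 = 2 ∨ p % 9 = 5) :
    ¬ 81 ∣ p ^ 3 * ((p ^ 2 - 1) * (p ^ 3 + 1)) := by
  intro h
  obtain ⟨k, rfl⟩ : ∃ k, p = 3 * k + 2 := ⟨p / 3, by omega⟩
  have hk : k % 3 = 0 ∨ k % 3 = 1 := by omega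
  have e1 : (3 * k + 2) ^ 2 - 1 = (3 * k + 1) * (3 * (k + 1)) := by
    have : (3 * k + 2) ^ 2 = (3 * k + 1) * (3 * (k + 1)) + 1 := by ring
    omega
  have e2 : (3 * k + 2) ^ 3 + 1 = 3 * (k + 1) * (3 * (3 * k ^ 2 + 3 * k + 1)) := by ring
  rw [e1, e2] at h
  have e : (3 * k + 2) ^ 3 * ((3 * k + 1) * (3 * (k + 1)) * (3 * (k + 1) * (3 * (3 * k ^ 2 + 3 * k + 1)))) =
      27 * ((3 * k + 2) ^ 3 * ((3 * k + 1) * ((k + 1) ^ 2 * (3 * k ^ 2 + 3 * k + 1)))) := by ring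
  rw [e] at h
  have h3 : 3 ∣ (3 * k + 2) ^ 3 * ((3 * k + 1) * ((k + 1) ^ 2 * (3 * k ^ 2 + 3 * k + 1))) := by
    have : (81 : ℕ) = 27 * 3 := by norm_num
    rw [this] at h
    exact Nat.dvd_of_mul_dvd_mul_left (by norm_num) h
  have p3 := Nat.prime_three
  rcases (Nat.Prime.dvd_mul p3).mp h3 with h4 | h4
  · have := p3.dvd_of_dvd_pow h4
    omega
  · rcases (Nat.Prime.dvd_mul p3).mp h4 with h5 | h5
    · omega
    · rcases (Nat.Prime.dvd_mul p3).mp h5 with h6 | h6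
      · have := p3.dvd_of_dvd_pow h6
        omega
      · have : 3 ∣ 3 * (k ^ 2 + k) + 1 := by
          have e2 : 3 * (k ^ 2 + k) + 1 = 3 * k ^ 2 + 3 * k + 1 := by ring
          rw [e2]; exact h6
        omega

/-- semisimple elements of `SU_3(p)` with the same characteristic polynomial are conjugate in `SU_3(p)` -/
theorem su_conj_of_charpoly (hF : Fintype.card F = p ^ 2) [Fact p.Prime] [CharP F p] (x n : GL (Fin 3) F)
    (hx : x ∈ SUg F p) (hn : n ∈ SUg F p) (k : ℕ) (hk : ¬ p ∣ k) (hxk : x ^ k = 1) (hnk : n ^ k = 1)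
    (hc : (x : Matrix (Fin 3) (Fin 3) F).charpoly = (n : Matrix (Fin 3) (Fin 3) F).charpoly) :
    ∃ g ∈ SUg F p, g⁻¹ * x * g = n := by
  have hxM : (x : Matrix (Fin 3) (Fin 3) F) ^ k = 1 := by
    rw [← Units.val_pow_eq_pow_val, hxk, Units.val_one]
  have hnM : (n : Matrix (Fin 3) (Fin 3) F) ^ k = 1 := by
    rw [← Units.val_pow_eq_pow_val, hnk, Units.val_one]
  obtain ⟨C, hCd, hCp, hCc⟩ := Cfsg.Agent.Lib.Helper14.HSemi.herm_conj_of_charpoly hF p (by norm_num)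
    (x : Matrix (Fin 3) (Fin 3) F) ((x⁻¹ : GL (Fin 3) F) : Matrix (Fin 3) (Fin 3) F)
    (n : Matrix (Fin 3) (Fin 3) F) ((n⁻¹ : GL (Fin 3) F) : Matrix (Fin 3) (Fin 3) F)
    (by rw [← Units.val_mul, mul_inv_cancel, Units.val_one])
    (by rw [← Units.val_mul, inv_mul_cancel, Units.val_one])
    (by rw [← Units.val_mul, mul_inv_cancel, Units.val_one])
    (by rw [← Units.val_mul, inv_mul_cancel, Units.val_one])
    hx.1 hn.1 k hxM hnM hk hc
  let c : GL (Fin 3) F := Matrix.GeneralLinearGroup.mkOfDetNeZero C (by rw [hCd]; exact one_ne_zero)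
  have hcv : (c : Matrix (Fin 3) (Fin 3) F) = C := rfl
  have hcS : c ∈ SUg F p := ⟨hCp, (mem_sl_iff c).mpr (by rw [hcv, hCd])⟩
  refine ⟨c⁻¹, inv_mem hcS, ?_⟩
  rw [inv_inv]
  have : c * x = n * c := by
    apply Units.ext
    rw [Units.val_mul, Units.val_mul, hcv]
    exact hCc
  rw [this, mul_inv_cancel_right]

end Cfsg.Agent.Lib.Helper6.HeisU
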