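import Mathlib
import Cfsg.Agent.Lib.Helper6.HeisU2

/-!
# The normalizer of `3^{1+2}` in `SU_3(p)`: elements of order 2 and 3 are not derangements
-/

set_option autoImplicit false

namespace Cfsg.Agent.Lib.Helper6.HeisU

open Matrix Cfsg.Agent.Lib.Helper6.Heis3
open Cfsg.Agent.Lib.Helper14.GUConj (sharp sharp_apply sharp_mul sharp_sharp sharp_one sharp_smul sharp_add
  sharp_zero sharp_pow det_sharp pres_iff)
open Cfsg.Agent.Lib.Helper14.HSemi (sigQ sigQ_apply)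

variable {F : Type*} [Field F]

theorem quad_of_cube_data (M : Matrix (Fin 3) (Fin 3) F) (z α : F)
    (hM3 : M ^ 3 = z • (1 : Matrix (Fin 3) (Fin 3) F)) (hd : M.det = 1) (hz1 : z ≠ 1)
    (htr : M.trace * α ^ 2 = 1 - z) (he2 : e2 M = - (α * M.trace)) :
    M ^ 2 = (-α) • M + (-(α ^ 2)) • (1 : Matrix (Fin 3) (Fin 3) F) := by
  have hc := ch3 M
  rw [hM3, hd, he2] at hc
  set t := M.trace with ht
  have ht0 : t ≠ 0 := by
    intro h
    rw [h, zero_mul] at htr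
    exact hz1 (by linear_combination htr)
  have key : t • (M ^ 2 - ((-α) • M + (-(α ^ 2)) • (1 : Matrix (Fin 3) (Fin 3) F))) = 0 := by
    have e1 : t • M ^ 2 = z • (1 : Matrix (Fin 3) (Fin 3) F) + (-(α * t)) • M -
        (1 : F) • (1 : Matrix (Fin 3) (Fin 3) F) := by
      rw [hc]; module
    calc t • (M ^ 2 - ((-α) • M + (-(α ^ 2)) • (1 : Matrix (Fin 3) (Fin 3) F)))
        = t • M ^ 2 + (α * t) • M + (t * α ^ 2) • (1 : Matrix (Fin 3) (Fin 3) F) := by module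
      _ = (z • (1 : Matrix (Fin 3) (Fin 3) F) + (-(α * t)) • M - (1 : F) • (1 : Matrix (Fin 3) (Fin 3) F))
            + (α * t) • M + (1 - z) • (1 : Matrix (Fin 3) (Fin 3) F) := by rw [e1, htr]
      _ = 0 := by module
  rcases smul_eq_zero.mp key with h | h
  · exact absurd h ht0
  · exact sub_eq_zero.mp h

variable [Fintype F] {p : ℕ}

/-- conjugating a unitary element of determinant one of the normalizer -/
theorem conj_mem (hF : Fintype.card F = p ^ 2) (γ : F) (hγ : γ ^ 2 + γ + 1 = 0) (g n₀ : GL (Fin 3) F)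
    (hg : g ∈ Cfsg.GU 3 F p)
    (hn₀N : n₀ ∈ Subgroup.normalizer ((R0 γ hγ : Subgroup (GL (Fin 3) F)) : Set (GL (Fin 3) F)))
    (hn₀U : sharp hF (n₀ : Matrix (Fin 3) (Fin 3) F) * (n₀ : Matrix (Fin 3) (Fin 3) F) = 1)
    (hn₀d : (n₀ : Matrix (Fin 3) (Fin 3) F).det = 1) :
    g * n₀ * g⁻¹ ∈ SUg F p ∧
      g * n₀ * g⁻¹ ∈ Cfsg.Geo.subgroupNormalizer ((R0 γ hγ).map (MulAut.conj g).toMonoidHom) := by
  refine ⟨Subgroup.mem_inf.mpr ⟨?_, ?_⟩, conj_mem_normalizer (R0 γ hγ) g n₀ hn₀N⟩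
  · exact mul_mem (mul_mem hg ((mem_GU_iff hF n₀).mpr hn₀U)) (inv_mem hg)
  · rw [mem_sl_iff, Units.val_mul, Units.val_mul, Heis3.det_conj, hn₀d]

/-- the case `r = 2` -/
theorem exists_conj_sq (hF : Fintype.card F = p ^ 2) [Fact p.Prime] [CharP F p] (hp5 : 5 ≤ p)
    (hp3 : p % 3 = 2) (γ : F) (hγ : γ ^ 2 + γ + 1 = 0) (g x : GL (Fin 3) F) (hg : g ∈ Cfsg.GU 3 F p)
    (hx : x ∈ SUg F p) (z : F)
    (hz : ((x ^ 2 : GL (Fin 3) F) : Matrix (Fin 3) (Fin 3) F) = z • (1 : Matrix (Fin 3) (Fin 3) F))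
    (hns : ∀ z : F, (x : Matrix (Fin 3) (Fin 3) F) ≠ z • (1 : Matrix (Fin 3) (Fin 3) F)) :
    ∃ h ∈ SUg F p,
      h⁻¹ * x * h ∈ Cfsg.Geo.subgroupNormalizer ((R0 γ hγ).map (MulAut.conj g).toMonoidHom) := by
  have hpP := (Fact.out : p.Prime)
  have hodd : Odd p := by
    rcases hpP.eq_two_or_odd' with h | h
    · omega
    · exact h
  have h3 : 3 ∣ p + 1 := by omega
  have hxd := (mem_sl_iff x).mp hx.2
  rw [Units.val_pow_eq_pow_val] at hz
  obtain ⟨he2, htr⟩ := sq_data _ hns z hz hxd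
  have hz3 : z ^ 3 = 1 := by
    have := congrArg Matrix.det hz
    rw [Matrix.det_pow, hxd, one_pow, Matrix.det_smul, Matrix.det_one, mul_one] at this
    simpa using this.symm
  have hz0 : z ≠ 0 := by
    intro h; rw [h] at hz3; simp at hz3
  have htr' : (x : Matrix (Fin 3) (Fin 3) F).trace = - z ^ 2 := by
    have : (x : Matrix (Fin 3) (Fin 3) F).trace = (x : Matrix (Fin 3) (Fin 3) F).trace * z ^ 3 := by
      rw [hz3, mul_one]
    rw [this]
    linear_combination z ^ 2 * htr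
  set n₀ : GL (Fin 3) F := scU (z ^ 2) (pow_ne_zero 2 hz0) * TU with hn₀
  have hn₀N : n₀ ∈ Subgroup.normalizer ((R0 γ hγ : Subgroup (GL (Fin 3) F)) : Set (GL (Fin 3) F)) :=
    mul_mem (scU_mem_normalizer γ hγ _ _) (TU_mem_normalizer γ hγ)
  have hn₀v : (n₀ : Matrix (Fin 3) (Fin 3) F) = z ^ 2 • Tm := by
    rw [hn₀, Units.val_mul, scU_val, TU_val, Matrix.smul_mul, one_mul]
  have hz6 : (z ^ 2) ^ 3 = 1 := by
    have : (z ^ 2) ^ 3 = (z ^ 3) ^ 2 := by ring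
    rw [this, hz3, one_pow]
  have hn₀U : sharp hF (n₀ : Matrix (Fin 3) (Fin 3) F) * (n₀ : Matrix (Fin 3) (Fin 3) F) = 1 := by
    rw [hn₀v]
    exact smul_unitary hF _ (cube_root_norm _ hz6 h3) _ (Tm_unitary hF hodd)
  have hn₀d : (n₀ : Matrix (Fin 3) (Fin 3) F).det = 1 := by
    rw [hn₀v, det_smul_Tm, hz6]
  obtain ⟨hnS, hnN⟩ := conj_mem hF γ hγ g n₀ hg hn₀N hn₀U hn₀d
  set n := g * n₀ * g⁻¹ with hn
  have hnv : (n : Matrix (Fin 3) (Fin 3) F) =
      (g : Matrix (Fin 3) (Fin 3) F) * (z ^ 2 • Tm) * ((g⁻¹ : GL (Fin 3) F) : Matrix (Fin 3) (Fin 3) F) := by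
    rw [hn, Units.val_mul, Units.val_mul, hn₀v]
  have hcp : (x : Matrix (Fin 3) (Fin 3) F).charpoly = (n : Matrix (Fin 3) (Fin 3) F).charpoly := by
    rw [hnv, charpoly_conj]
    apply charpoly_eq_of
    · rw [htr', trace_smul_Tm]
    · rw [he2, e2_smul_Tm]
      have : (z ^ 2) ^ 2 = z ^ 3 * z := by ring
      rw [this, hz3, one_mul]
    · rw [hxd, det_smul_Tm, hz6]
  have hx6 : x ^ 6 = 1 := by
    apply Units.ext
    rw [Units.val_pow_eq_pow_val, Units.val_one]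
    have : (x : Matrix (Fin 3) (Fin 3) F) ^ 6 = ((x : Matrix (Fin 3) (Fin 3) F) ^ 2) ^ 3 := by
      rw [← pow_mul]
    rw [this, hz, smul_pow, one_pow, hz3, one_smul]
  have hn6 : n ^ 6 = 1 := by
    rw [hn, Heis3.conj_pow]
    have : n₀ ^ 6 = 1 := by
      apply Units.ext
      rw [Units.val_pow_eq_pow_val, Units.val_one, hn₀v]
      have e1 : (z ^ 2 • (Tm : Matrix (Fin 3) (Fin 3) F)) ^ 6 = ((z ^ 2 • (Tm : Matrix (Fin 3) (Fin 3) F)) ^ 2) ^ 3 := by
        rw [← pow_mul]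
      rw [e1, pow_two, Matrix.smul_mul, Matrix.mul_smul, Tm_mul_Tm, smul_smul, smul_pow, one_pow]
      have : (z ^ 2 * z ^ 2) ^ 3 = (z ^ 3) ^ 4 := by ring
      rw [this, hz3, one_pow, one_smul]
    rw [this]; group
  have hk : ¬ p ∣ 6 := by
    intro h
    have := Nat.le_of_dvd (by norm_num) h
    interval_cases p <;> omega
  obtain ⟨h, hh, hhx⟩ := su_conj_of_charpoly hF x n hx hnS 6 hk hx6 hn6 hcp
  exact ⟨h, hh, by rw [hhx]; exact hnN⟩

/-- the case `r = 3` -/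
theorem exists_conj_cube (hF : Fintype.card F = p ^ 2) [Fact p.Prime] [CharP F p] (hp5 : 5 ≤ p)
    (hp3 : p % 3 = 2) (γ : F) (hγ : γ ^ 2 + γ + 1 = 0) (g x : GL (Fin 3) F) (hg : g ∈ Cfsg.GU 3 F p)
    (hx : x ∈ SUg F p) (z : F)
    (hz : ((x ^ 3 : GL (Fin 3) F) : Matrix (Fin 3) (Fin 3) F) = z • (1 : Matrix (Fin 3) (Fin 3) F))
    (hns : ∀ z : F, (x : Matrix (Fin 3) (Fin 3) F) ≠ z • (1 : Matrix (Fin 3) (Fin 3) F)) :
    ∃ h ∈ SUg F p,
      h⁻¹ * x * h ∈ Cfsg.Geo.subgroupNormalizer ((R0 γ hγ).map (MulAut.conj g).toMonoidHom) := by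
  have hpP := (Fact.out : p.Prime)
  have h3 : 3 ∣ p + 1 := by omega
  have hxd := (mem_sl_iff x).mp hx.2
  have hxU := (mem_GU_iff hF x).mp hx.1
  rw [Units.val_pow_eq_pow_val] at hz
  have hz3 : z ^ 3 = 1 := by
    have := congrArg Matrix.det hz
    rw [Matrix.det_pow, hxd, one_pow, Matrix.det_smul, Matrix.det_one, mul_one] at this
    simpa using this.symm
  have hz0 : z ≠ 0 := by
    intro h; rw [h] at hz3; simp at hz3
  have hk : ¬ p ∣ 9 := by
    intro h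
    have h1 : p ∣ 3 ^ 2 := by norm_num; exact h
    have h2 := hpP.dvd_of_dvd_pow h1
    have := Nat.le_of_dvd (by norm_num) h2
    omega
  have hx9 : x ^ 9 = 1 := by
    apply Units.ext
    rw [Units.val_pow_eq_pow_val, Units.val_one]
    have : (x : Matrix (Fin 3) (Fin 3) F) ^ 9 = ((x : Matrix (Fin 3) (Fin 3) F) ^ 3) ^ 3 := by
      rw [← pow_mul]
    rw [this, hz, smul_pow, one_pow, hz3, one_smul]
  have hγp := cube_root_norm γ (gamma_cube γ hγ) h3
  rcases cube_data _ hns z hz hxd with ⟨htr, he2, hz1⟩ | ⟨α, hα3, hz1, htr, he2⟩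
  · -- regular case
    obtain ⟨hnS, hnN⟩ := conj_mem hF γ hγ g (ZU γ hγ) hg (Subgroup.le_normalizer (ZU_mem γ hγ))
      (by rw [ZU_val]; exact Zm_unitary hF γ hγp) (by rw [ZU_val, det_Zm, gamma_cube γ hγ])
    set n := g * ZU γ hγ * g⁻¹ with hn
    have hnv : (n : Matrix (Fin 3) (Fin 3) F) =
        (g : Matrix (Fin 3) (Fin 3) F) * Zm γ * ((g⁻¹ : GL (Fin 3) F) : Matrix (Fin 3) (Fin 3) F) := by
      rw [hn, Units.val_mul, Units.val_mul, ZU_val]
    have hcp : (x : Matrix (Fin 3) (Fin 3) F).charpoly = (n : Matrix (Fin 3) (Fin 3) F).charpoly := by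
      rw [hnv, charpoly_conj]
      apply charpoly_eq_of
      · rw [htr, trace_Zm]; linear_combination -hγ
      · rw [he2, e2_Zm]; linear_combination (-γ) * hγ
      · rw [hxd, det_Zm, gamma_cube γ hγ]
    have hn9 : n ^ 9 = 1 := by
      rw [hn, Heis3.conj_pow]
      have : (ZU γ hγ) ^ 9 = 1 := by
        apply Units.ext
        rw [Units.val_pow_eq_pow_val, Units.val_one, ZU_val]
        have e1 : (Zm γ) ^ 9 = ((Zm γ) ^ 3) ^ 3 := by rw [← pow_mul]
        rw [e1, Zm_pow_three γ hγ, one_pow]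
      rw [this]; group
    obtain ⟨h, hh, hhx⟩ := su_conj_of_charpoly hF x n hx hnS 9 hk hx9 hn9 hcp
    exact ⟨h, hh, by rw [hhx]; exact hnN⟩
  · -- the case of a double eigenvalue
    have hzq : z ^ 2 + z + 1 = 0 := by
      have : (z - 1) * (z ^ 2 + z + 1) = 0 := by linear_combination hz3
      rcases mul_eq_zero.mp this with h | h
      · exact absurd (sub_eq_zero.mp h) hz1
      · exact h
    have hα0 : α ≠ 0 := by
      intro h; rw [h] at hα3; simp at hα3; exact hz0 hα3.symm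
    have hquad := quad_of_cube_data _ z α hz hxd hz1 htr he2
    have hαn : α ^ (p + 1) = 1 := alpha_norm hF _ hxU hns α hα0 hquad
    have hβ : z ^ 2 = γ ∨ z ^ 2 = γ ^ 2 := by
      rcases cube_root_cases γ z hγ hz3 with h | h | h
      · exact absurd h hz1
      · right; rw [h]
      · left; rw [h]
        have := gamma_cube γ hγ
        calc (γ ^ 2) ^ 2 = γ ^ 3 * γ := by ring
          _ = γ := by rw [this, one_mul]
    have hs0 : α * z ^ 2 ≠ 0 := mul_ne_zero hα0 (pow_ne_zero 2 hz0)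
    have hz6 : (z ^ 2) ^ 3 = 1 := by
      have : (z ^ 2) ^ 3 = (z ^ 3) ^ 2 := by ring
      rw [this, hz3, one_pow]
    have hz2n : (z ^ 2) ^ (p + 1) = 1 := cube_root_norm _ hz6 h3
    set n₀ : GL (Fin 3) F := scU (α * z ^ 2) hs0 * DU (z ^ 2) (pow_ne_zero 2 hz0) with hn₀
    have hn₀N : n₀ ∈ Subgroup.normalizer ((R0 γ hγ : Subgroup (GL (Fin 3) F)) : Set (GL (Fin 3) F)) :=
      mul_mem (scU_mem_normalizer γ hγ _ _) (DU_mem_normalizer' γ hγ _ _ hβ)
    have hn₀v : (n₀ : Matrix (Fin 3) (Fin 3) F) = (α * z ^ 2) • Dm (z ^ 2) := by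
      rw [hn₀, Units.val_mul, scU_val, DU_val, Matrix.smul_mul, one_mul]
    have hdet1 : (α * z ^ 2) ^ 3 * z ^ 2 = 1 := by
      have : (α * z ^ 2) ^ 3 * z ^ 2 = α ^ 3 * (z ^ 3) ^ 2 * z ^ 2 := by ring
      rw [this, hα3, hz3, one_pow, mul_one]
      linear_combination hz3
    have hn₀U : sharp hF (n₀ : Matrix (Fin 3) (Fin 3) F) * (n₀ : Matrix (Fin 3) (Fin 3) F) = 1 := by
      rw [hn₀v]
      apply smul_unitary hF _ _ _ (Dm_unitary hF _ hz2n)
      rw [mul_pow, hαn, hz2n, one_mul]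
    have hn₀d : (n₀ : Matrix (Fin 3) (Fin 3) F).det = 1 := by
      rw [hn₀v, det_smul_Dm, hdet1]
    obtain ⟨hnS, hnN⟩ := conj_mem hF γ hγ g n₀ hg hn₀N hn₀U hn₀d
    set n := g * n₀ * g⁻¹ with hn
    have hnv : (n : Matrix (Fin 3) (Fin 3) F) =
        (g : Matrix (Fin 3) (Fin 3) F) * ((α * z ^ 2) • Dm (z ^ 2)) *
          ((g⁻¹ : GL (Fin 3) F) : Matrix (Fin 3) (Fin 3) F) := by
      rw [hn, Units.val_mul, Units.val_mul, hn₀v]
    have htr' : (x : Matrix (Fin 3) (Fin 3) F).trace = α * z ^ 2 * (2 + z ^ 2) := by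
      apply mul_right_cancel₀ (pow_ne_zero 2 hα0)
      rw [htr]
      have : α * z ^ 2 * (2 + z ^ 2) * α ^ 2 = α ^ 3 * z ^ 2 * (2 + z ^ 2) := by ring
      rw [this, hα3]
      linear_combination (-1 : F) * hzq - (2 + z ^ 2) * hz3
    have hcp : (x : Matrix (Fin 3) (Fin 3) F).charpoly = (n : Matrix (Fin 3) (Fin 3) F).charpoly := by
      rw [hnv, charpoly_conj]
      apply charpoly_eq_of
      · rw [htr', trace_smul_Dm]
      · rw [he2, htr', e2_smul_Dm]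
        linear_combination (-2 * α ^ 2 * z ^ 2) * hzq + (-2 * α ^ 2 * z ^ 3) * hz3
      · rw [hxd, det_smul_Dm, hdet1]
    have hn9 : n ^ 9 = 1 := by
      rw [hn, Heis3.conj_pow]
      have : n₀ ^ 9 = 1 := by
        apply Units.ext
        rw [Units.val_pow_eq_pow_val, Units.val_one, hn₀v, smul_Dm_pow]
        have e1 : (z ^ 2) ^ 9 = 1 := by
          have : (z ^ 2) ^ 9 = (z ^ 3) ^ 6 := by ring
          rw [this, hz3, one_pow]
        have e2' : (α * z ^ 2) ^ 9 = 1 := by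
          have : (α * z ^ 2) ^ 9 = (α ^ 3) ^ 3 * (z ^ 3) ^ 6 := by ring
          rw [this, hα3, hz3, one_pow, mul_one]
        rw [e1, e2', Dm_one, one_smul]
      rw [this]; group
    obtain ⟨h, hh, hhx⟩ := su_conj_of_charpoly hF x n hx hnS 9 hk hx9 hn9 hcp
    exact ⟨h, hh, by rw [hhx]; exact hnN⟩

end Cfsg.Agent.Lib.Helper6.HeisU
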