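import Mathlib
import Cfsg.Agent.S0302

/-!
# The second exterior power of a four-dimensional unitary space, I

Algebraic identities for the second compound matrix `cmp` of `S0302`: compatibility with transpose
and ring homomorphisms, invariance of the polar form of the Pfaffian, and the commutation of `cmp A`
with the semilinear Hodge map `v ↦ Ψ σ(v)` when `Aᵀ W σ(A) = W` for the antidiagonal matrix `W`.
-/

set_option autoImplicit false
set_option linter.style.haveILetI false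
set_option linter.unusedSimpArgs false
set_option linter.unusedSectionVars false

namespace Cfsg.Agent.Lib.Helper6.LamTwo

open Cfsg.Agent.S0302 Matrix

section
variable {E : Type*} [Field E]

/-- the Gram matrix of the polar form of the Pfaffian form -/
def Jm : Matrix I6 I6 E := Matrix.fromBlocks 0 1 1 0

theorem Jm_transpose : (Jm : Matrix I6 I6 E)ᵀ = Jm := by
  unfold Jm
  rw [Matrix.fromBlocks_transpose]
  simp

theorem Jm_mul_Jm : (Jm : Matrix I6 I6 E) * Jm = 1 := by
  unfold Jm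
  rw [Matrix.fromBlocks_multiply]
  simp [Matrix.fromBlocks_one]

theorem cmp_transpose (A : Matrix (Fin 4) (Fin 4) E) : S0302.cmp Aᵀ = (S0302.cmp A)ᵀ := by
  ext I J
  simp only [Cfsg.Agent.S0302.cmp, Matrix.transpose_apply]
  ring

theorem cmp_map (σ : E →+* E) (A : Matrix (Fin 4) (Fin 4) E) :
    S0302.cmp (A.map σ) = (S0302.cmp A).map σ := by
  ext I J
  simp only [Cfsg.Agent.S0302.cmp, Matrix.map_apply, map_sub, map_mul]

set_option maxHeartbeats 4000000 in
theorem cmp_polar (A : Matrix (Fin 4) (Fin 4) E) :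
    (S0302.cmp A)ᵀ * Jm * S0302.cmp A = A.det • (Jm : Matrix I6 I6 E) := by
  rw [det4]
  ext I J
  rcases I with i | i <;> rcases J with j | j <;> fin_cases i <;> fin_cases j <;>
    simp only [Cfsg.Agent.S0302.cmp, pr, Jm, Matrix.mul_apply, Matrix.transpose_apply,
      Fintype.sum_sum_type,
      Fin.sum_univ_three, Matrix.fromBlocks_apply₁₁, Matrix.fromBlocks_apply₁₂,
      Matrix.fromBlocks_apply₂₁, Matrix.fromBlocks_apply₂₂, Matrix.zero_apply, Matrix.one_apply,
      Matrix.smul_apply, smul_eq_mul, Fin.zero_eta, Fin.mk_one, Fin.reduceFinMk] <;> simp <;> ring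

/-- the antidiagonal matrix -/
def Wm : Matrix (Fin 4) (Fin 4) E := !![0,0,0,1; 0,0,1,0; 0,1,0,0; 1,0,0,0]

/-- the matrix of the Hodge map -/
def Psi : Matrix I6 I6 E := Jm * S0302.cmp Wm

theorem Psi_mulVec (x : I6 → E) :
    (Psi : Matrix I6 I6 E) *ᵥ x = fun I => match I with
      | .inl 0 => -x (.inl 0)
      | .inl 1 => x (.inl 1)
      | .inl 2 => -x (.inr 2)
      | .inr 0 => -x (.inr 0)
      | .inr 1 => x (.inr 1)
      | .inr 2 => -x (.inl 2) := by
  funext I
  rcases I with i | i <;> fin_cases i <;>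
    simp [Psi, Jm, Cfsg.Agent.S0302.cmp, pr, Wm, Matrix.mulVec, dotProduct, Matrix.mul_apply,
      Fintype.sum_sum_type, Fin.sum_univ_three, Matrix.one_apply]

/-- commutation of the compound matrix with the Hodge map -/
theorem cmp_mul_Psi (σ : E →+* E) (A Ai : Matrix (Fin 4) (Fin 4) E) (hAi : A * Ai = 1)
    (hdet : A.det = 1) (hU : Aᵀ * Wm * A.map σ = Wm) :
    S0302.cmp A * Psi = Psi * (S0302.cmp A).map σ := by
  have h1 : (S0302.cmp A)ᵀ * Jm * S0302.cmp A = (Jm : Matrix I6 I6 E) := by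
    rw [cmp_polar, hdet, one_smul]
  have h2 : (S0302.cmp A)ᵀ * S0302.cmp Wm * (S0302.cmp A).map σ = S0302.cmp Wm := by
    rw [← cmp_transpose, ← cmp_map, ← cmp_mul, ← cmp_mul, hU]
  have h3 : S0302.cmp A * S0302.cmp Ai = 1 := by rw [← cmp_mul, hAi, cmp_one]
  have e1 : (S0302.cmp A)ᵀ * Jm = Jm * S0302.cmp Ai := by
    calc (S0302.cmp A)ᵀ * Jm = (S0302.cmp A)ᵀ * Jm * (S0302.cmp A * S0302.cmp Ai) := by
          rw [h3, Matrix.mul_one]
      _ = ((S0302.cmp A)ᵀ * Jm * S0302.cmp A) * S0302.cmp Ai := by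
          simp only [Matrix.mul_assoc]
      _ = Jm * S0302.cmp Ai := by rw [h1]
  have e2 : Jm * S0302.cmp A = (S0302.cmp Ai)ᵀ * Jm := by
    have := congrArg Matrix.transpose e1
    rw [Matrix.transpose_mul, Matrix.transpose_mul, Matrix.transpose_transpose, Jm_transpose] at this
    exact this
  have e3 : S0302.cmp A * Jm = Jm * (S0302.cmp Ai)ᵀ := by
    calc S0302.cmp A * Jm = (Jm * Jm) * S0302.cmp A * Jm := by rw [Jm_mul_Jm, Matrix.one_mul]
      _ = Jm * (Jm * S0302.cmp A) * Jm := by simp only [Matrix.mul_assoc]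
      _ = Jm * ((S0302.cmp Ai)ᵀ * Jm) * Jm := by rw [e2]
      _ = Jm * (S0302.cmp Ai)ᵀ * (Jm * Jm) := by simp only [Matrix.mul_assoc]
      _ = Jm * (S0302.cmp Ai)ᵀ := by rw [Jm_mul_Jm, Matrix.mul_one]
  have e4 : S0302.cmp Wm * (S0302.cmp A).map σ = (S0302.cmp Ai)ᵀ * S0302.cmp Wm := by
    have h5 : (S0302.cmp Ai)ᵀ * (S0302.cmp A)ᵀ = 1 := by
      rw [← Matrix.transpose_mul, h3, Matrix.transpose_one]
    calc S0302.cmp Wm * (S0302.cmp A).map σ
        = ((S0302.cmp Ai)ᵀ * (S0302.cmp A)ᵀ) * (S0302.cmp Wm * (S0302.cmp A).map σ) := by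
          rw [h5, Matrix.one_mul]
      _ = (S0302.cmp Ai)ᵀ * ((S0302.cmp A)ᵀ * S0302.cmp Wm * (S0302.cmp A).map σ) := by
          simp only [Matrix.mul_assoc]
      _ = (S0302.cmp Ai)ᵀ * S0302.cmp Wm := by rw [h2]
  unfold Psi
  calc S0302.cmp A * (Jm * S0302.cmp Wm) = (S0302.cmp A * Jm) * S0302.cmp Wm := by
        rw [Matrix.mul_assoc]
    _ = Jm * ((S0302.cmp Ai)ᵀ * S0302.cmp Wm) := by rw [e3, Matrix.mul_assoc]
    _ = Jm * (S0302.cmp Wm * (S0302.cmp A).map σ) := by rw [e4]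
    _ = Jm * S0302.cmp Wm * (S0302.cmp A).map σ := by rw [Matrix.mul_assoc]

/-- the semilinear Hodge involution (with the sign making the fixed space of minus type) -/
def hodge (σ : E →+* E) (v : I6 → E) : I6 → E := -((Psi : Matrix I6 I6 E) *ᵥ (fun I => σ (v I)))

theorem map_mulVec_map (σ : E →+* E) (M : Matrix I6 I6 E) (v : I6 → E) :
    (M.map σ) *ᵥ (fun I => σ (v I)) = fun I => σ ((M *ᵥ v) I) := by
  funext I
  simp only [Matrix.mulVec, dotProduct, Matrix.map_apply, map_sum, map_mul]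

theorem hodge_cmp (σ : E →+* E) (A Ai : Matrix (Fin 4) (Fin 4) E) (hAi : A * Ai = 1)
    (hdet : A.det = 1) (hU : Aᵀ * Wm * A.map σ = Wm) (v : I6 → E) :
    hodge σ (S0302.cmp A *ᵥ v) = S0302.cmp A *ᵥ hodge σ v := by
  unfold hodge
  rw [← map_mulVec_map, Matrix.mulVec_neg, Matrix.mulVec_mulVec, Matrix.mulVec_mulVec,
    cmp_mul_Psi σ A Ai hAi hdet hU]

theorem hodge_apply (σ : E →+* E) (v : I6 → E) :
    hodge σ v = fun I => match I with
      | .inl 0 => σ (v (.inl 0))
      | .inl 1 => -σ (v (.inl 1))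
      | .inl 2 => σ (v (.inr 2))
      | .inr 0 => σ (v (.inr 0))
      | .inr 1 => -σ (v (.inr 1))
      | .inr 2 => σ (v (.inl 2)) := by
  unfold hodge
  rw [Psi_mulVec]
  funext I
  rcases I with i | i <;> fin_cases i <;> simp

end

end Cfsg.Agent.Lib.Helper6.LamTwo
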