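import Mathlib
import Cfsg.Agent.Lib.Helper6.LamTwoA
import Cfsg.Agent.Lib.Helper15.HermAct

/-!
# The second exterior power of a four-dimensional unitary space, II

Descent of the compound matrices to the fixed space of the Hodge involution, over the quadratic
algebra `QE a b = F[ω]`, `ω² = -b + a ω`.  The fixed space is identified with `F⁶` in such a way that
the Pfaffian form becomes `Cfsg.quadFormMinus 2 F a b`.
-/

set_option autoImplicit false
set_option linter.style.haveILetI false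
set_option linter.unusedSimpArgs false
set_option linter.unusedSectionVars false

namespace Cfsg.Agent.Lib.Helper6.LamTwo

open Cfsg.Agent.S0302 Cfsg.Agent.Lib.Helper15 Matrix QuadraticAlgebra

section
variable {F : Type*} [Field F] (a b : F)

/-- the index type of the minus-type form in dimension six -/
abbrev J6 := (Fin 2 ⊕ Fin 2) ⊕ Fin 2

/-- `ε = ω - star ω` -/
def eps : QE a b := ⟨-a, 2⟩

theorem star_eps : star (eps a b) = -eps a b := by
  ext <;> simp [eps] <;> ring

theorem eps_mul_eps : eps a b * eps a b = algebraMap F (QE a b) (a ^ 2 - 4 * b) := by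
  rw [algebraMap_eq]
  ext
  · simp only [eps, re_mul]; ring
  · simp only [eps, im_mul]; ring

variable [Fact (∀ r : F, r ^ 2 ≠ -b + a * r)]

theorem eps_ne_zero [Finite F]
    (hab : ∀ z₁ z₂ : F, z₁ ^ 2 + a * z₁ * z₂ + b * z₂ ^ 2 = 0 → z₁ = 0 ∧ z₂ = 0) :
    eps a b ≠ 0 := by
  intro h
  have h1 : star (omQ a b) = omQ a b := by
    have hre := congrArg QuadraticAlgebra.re h
    have him := congrArg QuadraticAlgebra.im h
    simp only [eps, re_zero, im_zero] at hre him
    ext
    · simp only [omQ, re_star]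
      linear_combination -hre
    · simp only [omQ, im_star]
      linear_combination -him
  have := im_eq_zero_of_star_eq a b hab _ h1
  simp [omQ] at this

theorem star_eps_inv : star (eps a b)⁻¹ = -(eps a b)⁻¹ := by
  rw [star_inv₀, star_eps, inv_neg]

/-- the embedding of `F⁶` onto the fixed space of the Hodge involution -/
noncomputable def Tmap : (J6 → F) →ₗ[F] (I6 → QE a b) :=
  LinearMap.pi (fun I : I6 => match I with
    | .inl 0 => (Algebra.linearMap F (QE a b)).comp (LinearMap.proj (Sum.inl (Sum.inl 0)))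
    | .inl 1 => (LinearMap.mulLeft F (eps a b)).comp
        ((Algebra.linearMap F (QE a b)).comp (LinearMap.proj (Sum.inl (Sum.inl 1))))
    | .inl 2 => (Algebra.linearMap F (QE a b)).comp (LinearMap.proj (Sum.inr 0)) +
        (LinearMap.mulLeft F (omQ a b)).comp
          ((Algebra.linearMap F (QE a b)).comp (LinearMap.proj (Sum.inr 1)))
    | .inr 0 => (Algebra.linearMap F (QE a b)).comp (LinearMap.proj (Sum.inl (Sum.inr 0)))
    | .inr 1 => (LinearMap.mulLeft F (eps a b)⁻¹).comp
        ((Algebra.linearMap F (QE a b)).comp (LinearMap.proj (Sum.inl (Sum.inr 1))))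
    | .inr 2 => (Algebra.linearMap F (QE a b)).comp (LinearMap.proj (Sum.inr 0)) +
        (LinearMap.mulLeft F (star (omQ a b))).comp
          ((Algebra.linearMap F (QE a b)).comp (LinearMap.proj (Sum.inr 1))))

theorem Tmap_inl0 (w : J6 → F) : Tmap a b w (.inl 0) = algebraMap F (QE a b) (w (.inl (.inl 0))) := rfl
theorem Tmap_inl1 (w : J6 → F) :
    Tmap a b w (.inl 1) = eps a b * algebraMap F (QE a b) (w (.inl (.inl 1))) := rfl
theorem Tmap_inl2 (w : J6 → F) :
    Tmap a b w (.inl 2) = algebraMap F (QE a b) (w (.inr 0)) +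
      omQ a b * algebraMap F (QE a b) (w (.inr 1)) := rfl
theorem Tmap_inr0 (w : J6 → F) : Tmap a b w (.inr 0) = algebraMap F (QE a b) (w (.inl (.inr 0))) := rfl
theorem Tmap_inr1 (w : J6 → F) :
    Tmap a b w (.inr 1) = (eps a b)⁻¹ * algebraMap F (QE a b) (w (.inl (.inr 1))) := rfl
theorem Tmap_inr2 (w : J6 → F) :
    Tmap a b w (.inr 2) = algebraMap F (QE a b) (w (.inr 0)) +
      star (omQ a b) * algebraMap F (QE a b) (w (.inr 1)) := rfl

/-- the coordinate map on the fixed space -/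
noncomputable def Lmap : (I6 → QE a b) →ₗ[F] (J6 → F) :=
  LinearMap.pi (fun j : J6 => match j with
    | .inl (.inl 0) => (reₗ (-b) a).comp ((LinearMap.proj (Sum.inl 0) :
        (I6 → QE a b) →ₗ[QE a b] QE a b).restrictScalars F)
    | .inl (.inl 1) => (reₗ (-b) a).comp ((LinearMap.mulLeft F (eps a b)⁻¹).comp
        ((LinearMap.proj (Sum.inl 1) : (I6 → QE a b) →ₗ[QE a b] QE a b).restrictScalars F))
    | .inl (.inr 0) => (reₗ (-b) a).comp ((LinearMap.proj (Sum.inr 0) :
        (I6 → QE a b) →ₗ[QE a b] QE a b).restrictScalars F)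
    | .inl (.inr 1) => (reₗ (-b) a).comp ((LinearMap.mulLeft F (eps a b)).comp
        ((LinearMap.proj (Sum.inr 1) : (I6 → QE a b) →ₗ[QE a b] QE a b).restrictScalars F))
    | .inr 0 => (reₗ (-b) a).comp ((LinearMap.proj (Sum.inl 2) :
        (I6 → QE a b) →ₗ[QE a b] QE a b).restrictScalars F)
    | .inr 1 => (imₗ (-b) a).comp ((LinearMap.proj (Sum.inl 2) :
        (I6 → QE a b) →ₗ[QE a b] QE a b).restrictScalars F))

theorem Lmap_00 (v : I6 → QE a b) : Lmap a b v (.inl (.inl 0)) = (v (.inl 0)).re := rfl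
theorem Lmap_01 (v : I6 → QE a b) : Lmap a b v (.inl (.inl 1)) = ((eps a b)⁻¹ * v (.inl 1)).re := rfl
theorem Lmap_10 (v : I6 → QE a b) : Lmap a b v (.inl (.inr 0)) = (v (.inr 0)).re := rfl
theorem Lmap_11 (v : I6 → QE a b) : Lmap a b v (.inl (.inr 1)) = (eps a b * v (.inr 1)).re := rfl
theorem Lmap_20 (v : I6 → QE a b) : Lmap a b v (.inr 0) = (v (.inl 2)).re := rfl
theorem Lmap_21 (v : I6 → QE a b) : Lmap a b v (.inr 1) = (v (.inl 2)).im := rfl

theorem re_add_omQ (z : QE a b) :
    algebraMap F (QE a b) z.re + omQ a b * algebraMap F (QE a b) z.im = z := by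
  rw [algebraMap_eq, algebraMap_eq]
  ext
  · simp only [omQ, re_add, re_mul]; ring
  · simp only [omQ, im_add, im_mul]; ring

theorem re_add_star_omQ (z : QE a b) :
    algebraMap F (QE a b) z.re + star (omQ a b) * algebraMap F (QE a b) z.im = star z := by
  rw [algebraMap_eq, algebraMap_eq]
  ext
  · simp only [omQ, re_add, re_mul, re_star, im_star]; ring
  · simp only [omQ, im_add, im_mul, re_star, im_star]; ring

theorem star_algebraMap (x : F) : star (algebraMap F (QE a b) x) = algebraMap F (QE a b) x := by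
  rw [algebraMap_eq]
  ext
  · simp only [re_star]; ring
  · simp only [im_star]; ring

theorem eq_algebraMap_of_star_eq [Finite F]
    (hab : ∀ z₁ z₂ : F, z₁ ^ 2 + a * z₁ * z₂ + b * z₂ ^ 2 = 0 → z₁ = 0 ∧ z₂ = 0)
    (z : QE a b) (hz : star z = z) : algebraMap F (QE a b) z.re = z := by
  have him := im_eq_zero_of_star_eq a b hab z hz
  rw [algebraMap_eq]
  ext
  · rfl
  · exact him.symm

/-- the Pfaffian form on the image of `Tmap` is the minus-type form -/
theorem form_Tmap [Finite F]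
    (hab : ∀ z₁ z₂ : F, z₁ ^ 2 + a * z₁ * z₂ + b * z₂ ^ 2 = 0 → z₁ = 0 ∧ z₂ = 0)
    (w : J6 → F) :
    Cfsg.quadFormPlus 3 (QE a b) (Tmap a b w) =
      algebraMap F (QE a b) (Cfsg.quadFormMinus 2 F a b w) := by
  have he := eps_ne_zero a b hab
  unfold Cfsg.quadFormPlus Cfsg.quadFormMinus
  rw [Fin.sum_univ_three, Fin.sum_univ_two]
  have h0 : Tmap a b w (.inl (0 : Fin 3)) = algebraMap F (QE a b) (w (.inl (.inl 0))) := rfl
  have h1 : Tmap a b w (.inl (1 : Fin 3)) =
      eps a b * algebraMap F (QE a b) (w (.inl (.inl 1))) := rfl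
  have h2 : Tmap a b w (.inl (2 : Fin 3)) = algebraMap F (QE a b) (w (.inr 0)) +
      omQ a b * algebraMap F (QE a b) (w (.inr 1)) := rfl
  have h3 : Tmap a b w (.inr (0 : Fin 3)) = algebraMap F (QE a b) (w (.inl (.inr 0))) := rfl
  have h4 : Tmap a b w (.inr (1 : Fin 3)) =
      (eps a b)⁻¹ * algebraMap F (QE a b) (w (.inl (.inr 1))) := rfl
  have h5 : Tmap a b w (.inr (2 : Fin 3)) = algebraMap F (QE a b) (w (.inr 0)) +
      star (omQ a b) * algebraMap F (QE a b) (w (.inr 1)) := rfl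
  rw [h0, h1, h2, h3, h4, h5]
  have e1 : eps a b * algebraMap F (QE a b) (w (.inl (.inl 1))) *
      ((eps a b)⁻¹ * algebraMap F (QE a b) (w (.inl (.inr 1)))) =
      algebraMap F (QE a b) (w (.inl (.inl 1)) * w (.inl (.inr 1))) := by
    rw [map_mul]
    field_simp
  have e2 : (algebraMap F (QE a b) (w (.inr 0)) + omQ a b * algebraMap F (QE a b) (w (.inr 1))) *
      (algebraMap F (QE a b) (w (.inr 0)) + star (omQ a b) * algebraMap F (QE a b) (w (.inr 1))) =
      algebraMap F (QE a b) (w (.inr 0) ^ 2 + a * w (.inr 0) * w (.inr 1) + b * w (.inr 1) ^ 2) := by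
    simp only [algebraMap_eq]
    ext
    · simp only [omQ, re_add, re_mul, im_add, im_mul, re_star, im_star]; ring
    · simp only [omQ, re_add, re_mul, im_add, im_mul, re_star, im_star]; ring
  rw [e1, e2, ← map_mul, ← map_add, ← map_add]

/-- the image of `Tmap` is fixed by the Hodge involution -/
theorem hodge_Tmap (w : J6 → F) :
    hodge (starRingEnd (QE a b)) (Tmap a b w) = Tmap a b w := by
  rw [hodge_apply]
  funext I
  rcases I with i | i <;> fin_cases i
  · change starRingEnd (QE a b) (Tmap a b w (.inl 0)) = Tmap a b w (.inl 0)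
    rw [Tmap_inl0, starRingEnd_apply, star_algebraMap]
  · change -starRingEnd (QE a b) (Tmap a b w (.inl 1)) = Tmap a b w (.inl 1)
    rw [Tmap_inl1, starRingEnd_apply, star_mul', star_eps, star_algebraMap]
    ring
  · change starRingEnd (QE a b) (Tmap a b w (.inr 2)) = Tmap a b w (.inl 2)
    rw [Tmap_inl2, Tmap_inr2, starRingEnd_apply, star_add, star_mul', star_star, star_algebraMap,
      star_algebraMap]
  · change starRingEnd (QE a b) (Tmap a b w (.inr 0)) = Tmap a b w (.inr 0)
    rw [Tmap_inr0, starRingEnd_apply, star_algebraMap]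
  · change -starRingEnd (QE a b) (Tmap a b w (.inr 1)) = Tmap a b w (.inr 1)
    rw [Tmap_inr1, starRingEnd_apply, star_mul', star_eps_inv, star_algebraMap]
    ring
  · change starRingEnd (QE a b) (Tmap a b w (.inl 2)) = Tmap a b w (.inr 2)
    rw [Tmap_inl2, Tmap_inr2, starRingEnd_apply, star_add, star_mul', star_algebraMap,
      star_algebraMap]

theorem Lmap_Tmap [Finite F]
    (hab : ∀ z₁ z₂ : F, z₁ ^ 2 + a * z₁ * z₂ + b * z₂ ^ 2 = 0 → z₁ = 0 ∧ z₂ = 0)
    (w : J6 → F) : Lmap a b (Tmap a b w) = w := by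
  have he := eps_ne_zero a b hab
  funext j
  rcases j with (j | j) | j <;> fin_cases j
  · change Lmap a b (Tmap a b w) (.inl (.inl 0)) = w (.inl (.inl 0))
    rw [Lmap_00, Tmap_inl0]; rfl
  · change Lmap a b (Tmap a b w) (.inl (.inl 1)) = w (.inl (.inl 1))
    rw [Lmap_01, Tmap_inl1, ← mul_assoc, inv_mul_cancel₀ he, one_mul]; rfl
  · change Lmap a b (Tmap a b w) (.inl (.inr 0)) = w (.inl (.inr 0))
    rw [Lmap_10, Tmap_inr0]; rfl
  · change Lmap a b (Tmap a b w) (.inl (.inr 1)) = w (.inl (.inr 1))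
    rw [Lmap_11, Tmap_inr1, ← mul_assoc, mul_inv_cancel₀ he, one_mul]; rfl
  · change Lmap a b (Tmap a b w) (.inr 0) = w (.inr 0)
    rw [Lmap_20, Tmap_inl2, algebraMap_eq, algebraMap_eq]
    simp only [omQ, re_add, re_mul]; ring
  · change Lmap a b (Tmap a b w) (.inr 1) = w (.inr 1)
    rw [Lmap_21, Tmap_inl2, algebraMap_eq, algebraMap_eq]
    simp only [omQ, im_add, im_mul]; ring

theorem Tmap_Lmap [Finite F]
    (hab : ∀ z₁ z₂ : F, z₁ ^ 2 + a * z₁ * z₂ + b * z₂ ^ 2 = 0 → z₁ = 0 ∧ z₂ = 0)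
    (v : I6 → QE a b) (hv : hodge (starRingEnd (QE a b)) v = v) : Tmap a b (Lmap a b v) = v := by
  have he := eps_ne_zero a b hab
  rw [hodge_apply] at hv
  have h0 : star (v (.inl 0)) = v (.inl 0) := congrFun hv (.inl 0)
  have h1 : -star (v (.inl 1)) = v (.inl 1) := congrFun hv (.inl 1)
  have h2 : star (v (.inr 2)) = v (.inl 2) := congrFun hv (.inl 2)
  have h3 : star (v (.inr 0)) = v (.inr 0) := congrFun hv (.inr 0)
  have h4 : -star (v (.inr 1)) = v (.inr 1) := congrFun hv (.inr 1)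
  have h5 : star (v (.inl 2)) = v (.inr 2) := congrFun hv (.inr 2)
  funext I
  rcases I with i | i <;> fin_cases i
  · change Tmap a b (Lmap a b v) (.inl 0) = v (.inl 0)
    rw [Tmap_inl0, Lmap_00]
    exact eq_algebraMap_of_star_eq a b hab _ h0
  · change Tmap a b (Lmap a b v) (.inl 1) = v (.inl 1)
    rw [Tmap_inl1, Lmap_01]
    have hs : star ((eps a b)⁻¹ * v (.inl 1)) = (eps a b)⁻¹ * v (.inl 1) := by
      rw [star_mul', star_eps_inv]
      have : star (v (.inl 1)) = -v (.inl 1) := by linear_combination -h1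
      rw [this]; ring
    rw [eq_algebraMap_of_star_eq a b hab _ hs, ← mul_assoc, mul_inv_cancel₀ he, one_mul]
  · change Tmap a b (Lmap a b v) (.inl 2) = v (.inl 2)
    rw [Tmap_inl2, Lmap_20, Lmap_21]
    exact re_add_omQ a b _
  · change Tmap a b (Lmap a b v) (.inr 0) = v (.inr 0)
    rw [Tmap_inr0, Lmap_10]
    exact eq_algebraMap_of_star_eq a b hab _ h3
  · change Tmap a b (Lmap a b v) (.inr 1) = v (.inr 1)
    rw [Tmap_inr1, Lmap_11]
    have hs : star (eps a b * v (.inr 1)) = eps a b * v (.inr 1) := by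
      rw [star_mul', star_eps]
      have : star (v (.inr 1)) = -v (.inr 1) := by linear_combination -h4
      rw [this]; ring
    rw [eq_algebraMap_of_star_eq a b hab _ hs, ← mul_assoc, inv_mul_cancel₀ he, one_mul]
  · change Tmap a b (Lmap a b v) (.inr 2) = v (.inr 2)
    rw [Tmap_inr2, Lmap_20, Lmap_21, re_add_star_omQ, h5]

/-- descent of a matrix over `QE a b` to the fixed space -/
noncomputable def desc (M : Matrix I6 I6 (QE a b)) : Matrix J6 J6 F :=
  LinearMap.toMatrix' ((Lmap a b).comp (((Matrix.mulVecLin M).restrictScalars F).comp (Tmap a b)))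

theorem desc_mulVec (M : Matrix I6 I6 (QE a b)) (w : J6 → F) :
    desc a b M *ᵥ w = Lmap a b (M *ᵥ Tmap a b w) := by
  unfold desc
  rw [← Matrix.toLin'_apply, Matrix.toLin'_toMatrix']
  rfl

/-- `M` maps the fixed space of the Hodge involution into itself -/
def IsFixPres (M : Matrix I6 I6 (QE a b)) : Prop :=
  ∀ v, hodge (starRingEnd (QE a b)) v = v → hodge (starRingEnd (QE a b)) (M *ᵥ v) = M *ᵥ v

theorem Tmap_desc [Finite F]
    (hab : ∀ z₁ z₂ : F, z₁ ^ 2 + a * z₁ * z₂ + b * z₂ ^ 2 = 0 → z₁ = 0 ∧ z₂ = 0)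
    (M : Matrix I6 I6 (QE a b)) (hM : IsFixPres a b M) (w : J6 → F) :
    Tmap a b (desc a b M *ᵥ w) = M *ᵥ Tmap a b w := by
  rw [desc_mulVec, Tmap_Lmap a b hab _ (hM _ (hodge_Tmap a b w))]

theorem desc_mul [Finite F]
    (hab : ∀ z₁ z₂ : F, z₁ ^ 2 + a * z₁ * z₂ + b * z₂ ^ 2 = 0 → z₁ = 0 ∧ z₂ = 0)
    (M N : Matrix I6 I6 (QE a b)) (hN : IsFixPres a b N) :
    desc a b (M * N) = desc a b M * desc a b N := by
  apply Matrix.mulVec_injective
  funext w
  rw [← Matrix.mulVec_mulVec, desc_mulVec, desc_mulVec, Tmap_desc a b hab N hN,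
    Matrix.mulVec_mulVec]

theorem desc_one [Finite F]
    (hab : ∀ z₁ z₂ : F, z₁ ^ 2 + a * z₁ * z₂ + b * z₂ ^ 2 = 0 → z₁ = 0 ∧ z₂ = 0) :
    desc a b (1 : Matrix I6 I6 (QE a b)) = 1 := by
  apply Matrix.mulVec_injective
  funext w
  rw [desc_mulVec, Matrix.one_mulVec, Matrix.one_mulVec, Lmap_Tmap a b hab]

theorem desc_form [Finite F]
    (hab : ∀ z₁ z₂ : F, z₁ ^ 2 + a * z₁ * z₂ + b * z₂ ^ 2 = 0 → z₁ = 0 ∧ z₂ = 0)
    (M : Matrix I6 I6 (QE a b)) (hM : IsFixPres a b M)
    (hQ : ∀ v, Cfsg.quadFormPlus 3 (QE a b) (M *ᵥ v) = Cfsg.quadFormPlus 3 (QE a b) v)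
    (w : J6 → F) :
    Cfsg.quadFormMinus 2 F a b (desc a b M *ᵥ w) = Cfsg.quadFormMinus 2 F a b w := by
  apply algebraMap_injective (R := F) (a := -b) (b := a)
  rw [← form_Tmap a b hab, ← form_Tmap a b hab, Tmap_desc a b hab M hM, hQ]

/-- a matrix fixing the image of `Tmap` pointwise is the identity -/
theorem eq_one_of_fix [Finite F]
    (hab : ∀ z₁ z₂ : F, z₁ ^ 2 + a * z₁ * z₂ + b * z₂ ^ 2 = 0 → z₁ = 0 ∧ z₂ = 0)
    (M : Matrix I6 I6 (QE a b)) (h : ∀ w : J6 → F, M *ᵥ Tmap a b w = Tmap a b w) : M = 1 := by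
  classical
  have he := eps_ne_zero a b hab
  have hei := inv_ne_zero he
  -- the matrix `N = M - 1` kills the image of `Tmap`
  have hN : ∀ (w : J6 → F) (r : I6), ∑ I : I6, (M - 1) r I * Tmap a b w I = 0 := by
    intro w r
    have h1 := congrFun (h w) r
    have h2 : ((M - 1) *ᵥ Tmap a b w) r = 0 := by
      rw [Matrix.sub_mulVec, Matrix.one_mulVec, h]
      simp
    exact h2
  have key : ∀ r I, (M - 1) r I = 0 := by
    intro r
    have e0 := hN (Pi.single (.inl (.inl 0)) 1) r
    have e1 := hN (Pi.single (.inl (.inl 1)) 1) r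
    have e2 := hN (Pi.single (.inl (.inr 0)) 1) r
    have e3 := hN (Pi.single (.inl (.inr 1)) 1) r
    have e4 := hN (Pi.single (.inr 0) 1) r
    have e5 := hN (Pi.single (.inr 1) 1) r
    simp only [Fintype.sum_sum_type, Fin.sum_univ_three, Tmap_inl0, Tmap_inl1, Tmap_inl2,
      Tmap_inr0, Tmap_inr1, Tmap_inr2, Pi.single_apply, Sum.inl.injEq, Sum.inr.injEq, reduceCtorEq,
      if_true, if_false, map_one, map_zero, mul_zero, mul_one, add_zero, zero_add, Fin.isValue,
      Fin.reduceEq, one_ne_zero, zero_ne_one] at e0 e1 e2 e3 e4 e5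
    have f1 : (M - 1) r (.inl 1) = 0 := by
      rcases mul_eq_zero.mp e1 with h | h
      · exact h
      · exact absurd h he
    have f3 : (M - 1) r (.inr 1) = 0 := by
      rcases mul_eq_zero.mp e3 with h | h
      · exact h
      · exact absurd h hei
    have f4 : (M - 1) r (.inl 2) = 0 := by
      have h6 : (M - 1) r (.inl 2) * eps a b = 0 := by
        have hε : eps a b = omQ a b - star (omQ a b) := by
          ext <;> simp [eps, omQ]
          ring
        rw [hε]
        linear_combination e5 - star (omQ a b) * e4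
      rcases mul_eq_zero.mp h6 with h | h
      · exact h
      · exact absurd h he
    have f5 : (M - 1) r (.inr 2) = 0 := by
      rw [f4, zero_add] at e4
      exact e4
    intro I
    rcases I with i | i <;> fin_cases i
    · exact e0
    · exact f1
    · exact f4
    · exact e2
    · exact f3
    · exact f5
  apply Matrix.ext
  intro r I
  have := key r I
  rw [Matrix.sub_apply, sub_eq_zero] at this
  exact this

end

end Cfsg.Agent.Lib.Helper6.LamTwo
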