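import Mathlib
import Cfsg.Agent.Lib.Helper6.LamTwoB
import Cfsg.Agent.Lib.Helper6.Unitary

/-!
# The second exterior power of a four-dimensional unitary space, III

The conjugation of the quadratic algebra `QE a b` over a finite field is the `q`-th power map, and
the unitary group of the standard Hermitian form is conjugate to the one of the antidiagonal form.
-/

set_option autoImplicit false
set_option linter.style.haveILetI false
set_option linter.unusedSimpArgs false
set_option linter.unusedSectionVars false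

namespace Cfsg.Agent.Lib.Helper6.LamTwo

open Cfsg Cfsg.Agent.S0302 Cfsg.Agent.S0779 Cfsg.Agent.Lib.Helper6 Cfsg.Agent.Lib.Helper15 Matrix
  QuadraticAlgebra Module

section frob
variable {F : Type*} [Field F] [Fintype F] (a b : F) [Fact (∀ r : F, r ^ 2 ≠ -b + a * r)]
  [Fintype (QE a b)] {q : ℕ}

theorem omQ_mul_omQ : omQ a b * omQ a b =
    algebraMap F (QE a b) (-b) + algebraMap F (QE a b) a * omQ a b := by
  rw [algebraMap_eq, algebraMap_eq]
  ext
  · simp only [omQ, re_mul, re_add]; ring
  · simp only [omQ, im_mul, im_add]; ring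

theorem omQ_add_star : omQ a b + star (omQ a b) = algebraMap F (QE a b) a := by
  rw [algebraMap_eq]
  ext
  · simp only [omQ, re_add, re_star]; ring
  · simp only [omQ, im_add, im_star]; ring

theorem omQ_mul_star : omQ a b * star (omQ a b) = algebraMap F (QE a b) b := by
  rw [algebraMap_eq]
  ext
  · simp only [omQ, re_mul, re_star, im_star]; ring
  · simp only [omQ, im_mul, re_star, im_star]; ring

theorem algebraMap_pow_q (hF : Fintype.card F = q) (x : F) :
    (algebraMap F (QE a b) x) ^ q = algebraMap F (QE a b) x := by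
  rw [← map_pow, ← hF, FiniteField.pow_card]

/-- the conjugation of `QE a b` is the `q`-th power map -/
theorem star_eq_pow (hF : Fintype.card F = q) (hE : Fintype.card (QE a b) = q ^ 2) (z : QE a b) :
    z ^ q = star z := by
  -- the image of `ω`
  have hω : omQ a b ^ q = star (omQ a b) := by
    obtain ⟨t, ht⟩ : ∃ t, t = omQ a b ^ q := ⟨_, rfl⟩
    have h1 : t * t = algebraMap F (QE a b) (-b) + algebraMap F (QE a b) a * t := by
      rw [ht, ← mul_pow, omQ_mul_omQ, add_pow_q hE, mul_pow, algebraMap_pow_q a b hF,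
        algebraMap_pow_q a b hF]
    have h2 : (t - omQ a b) * (t - star (omQ a b)) = 0 := by
      have e1 := omQ_add_star a b
      have e2 := omQ_mul_star a b
      have e3 : algebraMap F (QE a b) (-b) = -algebraMap F (QE a b) b := map_neg _ _
      rw [e3] at h1
      linear_combination h1 - t * e1 + e2
    rcases mul_eq_zero.mp h2 with h | h
    · exfalso
      have h3 : t = omQ a b := sub_eq_zero.mp h
      apply conjQ_ne_id hE
      apply RingHom.ext
      intro z
      rw [conjQ_apply, RingHom.id_apply, ← re_add_omQ a b z, add_pow_q hE, mul_pow,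
        algebraMap_pow_q a b hF, algebraMap_pow_q a b hF, ← ht, h3]
    · rw [← ht]; exact sub_eq_zero.mp h
  rw [← re_add_omQ a b z, add_pow_q hE, mul_pow, algebraMap_pow_q a b hF, algebraMap_pow_q a b hF,
    hω, star_add, star_mul', star_algebraMap, star_algebraMap]

end frob

section wform
variable {K : Type*} [Field K] [Fintype K] {q : ℕ}

/-- precomposition with the reversal of `Fin 4` -/
def revv (y : Fin 4 → K) : Fin 4 → K := fun i => y (Fin.rev i)

theorem revv_revv (y : Fin 4 → K) : revv (revv y) = y := by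
  funext i
  simp [revv]

/-- the Hermitian form with antidiagonal Gram matrix -/
def hW (q : ℕ) (x y : Fin 4 → K) : K := hermForm 4 K q x (revv y)

theorem hW_symm (hK : Fintype.card K = q ^ 2) (x y : Fin 4 → K) : (hW q y x) ^ q = hW q x y := by
  unfold hW
  rw [herm_conj hK]
  simp only [hermForm, revv]
  rw [← Equiv.sum_comp Fin.revPerm]
  apply Finset.sum_congr rfl
  intro i _
  simp [Fin.revPerm_apply]

/-- the antidiagonal Hermitian form as a sesquilinear map: `BW y x = hW x y` -/
noncomputable def BW (hK : Fintype.card K = q ^ 2) :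
    (Fin 4 → K) →ₛₗ[conjQ hK] (Fin 4 → K) →ₗ[K] K :=
  LinearMap.mk₂'ₛₗ (conjQ hK) (RingHom.id K) (fun y x => hW q x y)
    (fun y y' x => herm_add_right hK x (revv y) (revv y'))
    (fun c y x => by
      change hermForm 4 K q x (c • revv y) = _
      rw [herm_smul_right]; rfl)
    (fun y x x' => herm_add_left x x' (revv y))
    (fun c y x => by
      change hermForm 4 K q (c • x) (revv y) = _
      rw [herm_smul_left]; rfl)

theorem BW_apply (hK : Fintype.card K = q ^ 2) (x y : Fin 4 → K) : BW hK y x = hW q x y := rfl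

theorem BW_isSymm (hK : Fintype.card K = q ^ 2) : (BW hK).IsSymm :=
  ⟨fun x y => by
    change (hW q y x) ^ q = hW q x y
    exact hW_symm hK x y⟩

theorem BW_nondeg (hK : Fintype.card K = q ^ 2) (u : Fin 4 → K) (h : ∀ v, BW hK u v = 0) :
    u = 0 := by
  have h1 : revv u = 0 := by
    apply herm_nondeg hK
    intro y
    apply herm_swap_zero hK
    exact h y
  rw [← revv_revv u, h1]
  funext i
  simp [revv]

/-- a linear isomorphism carrying the antidiagonal form to the standard one -/
theorem exists_std (hK : Fintype.card K = q ^ 2) :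
    ∃ φ : (Fin 4 → K) ≃ₗ[K] (Fin 4 → K), ∀ x y, hermForm 4 K q (φ x) (φ y) = hW q x y :=
  exists_std_herm hK (BW hK) (BW_isSymm hK) (BW_nondeg hK) 4 (by simp)

/-- conjugation of a matrix by a linear isomorphism -/
noncomputable def cj (φ : (Fin 4 → K) ≃ₗ[K] (Fin 4 → K)) (M : Matrix (Fin 4) (Fin 4) K) :
    Matrix (Fin 4) (Fin 4) K :=
  LinearMap.toMatrix' (φ.symm.toLinearMap.comp ((Matrix.mulVecLin M).comp φ.toLinearMap))

theorem cj_mulVec (φ : (Fin 4 → K) ≃ₗ[K] (Fin 4 → K)) (M : Matrix (Fin 4) (Fin 4) K)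
    (x : Fin 4 → K) : cj φ M *ᵥ x = φ.symm (M *ᵥ φ x) := by
  unfold cj
  rw [← Matrix.toLin'_apply, Matrix.toLin'_toMatrix']
  rfl

theorem cj_mul (φ : (Fin 4 → K) ≃ₗ[K] (Fin 4 → K)) (M N : Matrix (Fin 4) (Fin 4) K) :
    cj φ (M * N) = cj φ M * cj φ N := by
  apply Matrix.mulVec_injective
  funext x
  rw [← Matrix.mulVec_mulVec, cj_mulVec, cj_mulVec, cj_mulVec, LinearEquiv.apply_symm_apply,
    Matrix.mulVec_mulVec]

theorem cj_one (φ : (Fin 4 → K) ≃ₗ[K] (Fin 4 → K)) : cj φ (1 : Matrix (Fin 4) (Fin 4) K) = 1 := by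
  apply Matrix.mulVec_injective
  funext x
  rw [cj_mulVec, Matrix.one_mulVec, Matrix.one_mulVec, LinearEquiv.symm_apply_apply]

theorem cj_det (φ : (Fin 4 → K) ≃ₗ[K] (Fin 4 → K)) (M : Matrix (Fin 4) (Fin 4) K) :
    (cj φ M).det = M.det := by
  unfold cj
  rw [LinearMap.det_toMatrix']
  have h1 : φ.symm.toLinearMap.comp ((Matrix.mulVecLin M).comp φ.toLinearMap) =
      (φ.symm : (Fin 4 → K) →ₗ[K] (Fin 4 → K)) ∘ₗ (Matrix.mulVecLin M) ∘ₗ
        ((φ.symm).symm : (Fin 4 → K) →ₗ[K] (Fin 4 → K)) := by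
    rfl
  rw [h1, LinearMap.det_conj, ← Matrix.toLin'_apply', LinearMap.det_toLin']

theorem cj_eq_neg_one (φ : (Fin 4 → K) ≃ₗ[K] (Fin 4 → K)) (M : Matrix (Fin 4) (Fin 4) K)
    (c : K) (h : cj φ M = c • 1) : M = c • 1 := by
  apply Matrix.mulVec_injective
  funext x
  have h1 := congrArg (fun A => A *ᵥ (φ.symm x)) h
  simp only [cj_mulVec, LinearEquiv.apply_symm_apply, Matrix.smul_mulVec, Matrix.one_mulVec] at h1
  have h2 := congrArg φ h1
  rw [LinearEquiv.apply_symm_apply, map_smul, LinearEquiv.apply_symm_apply] at h2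
  rw [h2, Matrix.smul_mulVec, Matrix.one_mulVec]

theorem cj_pres (hK : Fintype.card K = q ^ 2) (φ : (Fin 4 → K) ≃ₗ[K] (Fin 4 → K))
    (hφ : ∀ x y, hermForm 4 K q (φ x) (φ y) = hW q x y) (M : Matrix (Fin 4) (Fin 4) K)
    (hM : ∀ x y, hermForm 4 K q (M *ᵥ x) (M *ᵥ y) = hermForm 4 K q x y) (x y : Fin 4 → K) :
    hW q (cj φ M *ᵥ x) (cj φ M *ᵥ y) = hW q x y := by
  rw [← hφ, cj_mulVec, cj_mulVec, LinearEquiv.apply_symm_apply, LinearEquiv.apply_symm_apply, hM, hφ]

/-- the matrix form of the unitarity condition for the antidiagonal form -/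
theorem UW_matrix (hK : Fintype.card K = q ^ 2) (σ : K →+* K) (hσ : ∀ z, σ z = z ^ q)
    (A : Matrix (Fin 4) (Fin 4) K)
    (hA : ∀ x y, hW q (A *ᵥ x) (A *ᵥ y) = hW q x y) : Aᵀ * Wm * A.map σ = Wm := by
  classical
  have hq0 : (0 : K) ^ q = 0 := zero_pow (q_pos hK).ne'
  ext i j
  have h := hA (Pi.single i 1) (Pi.single j 1)
  simp only [hW, hermForm, revv, Matrix.mulVec_single_one, Matrix.col_apply] at h
  rw [Matrix.mul_apply]
  simp only [Matrix.mul_apply, Matrix.transpose_apply, Matrix.map_apply, hσ]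
  fin_cases i <;> fin_cases j <;>
    simp [Fin.sum_univ_four, Wm, Fin.rev, Pi.single_apply, hq0] at h ⊢ <;> linear_combination h

end wform

end Cfsg.Agent.Lib.Helper6.LamTwo
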