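import Mathlib
import Cfsg.Agent.Lib.Helper6.LamTwoC

/-!
# The second exterior power of a four-dimensional unitary space, IV

The homomorphism `SU_4(q) → O^-_6(q)`, where `SU_4(q)` is realised over the quadratic algebra
`QE a b` and the orthogonal group is the isometry group of `Cfsg.quadFormMinus 2 F a b`; its kernel
consists of `±1`.
-/

set_option autoImplicit false
set_option linter.style.haveILetI false
set_option linter.unusedSimpArgs false
set_option linter.unusedSectionVars false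

namespace Cfsg.Agent.Lib.Helper6.LamTwo

open Cfsg Cfsg.Agent.S0302 Cfsg.Agent.S0779 Cfsg.Agent.Lib.Helper6 Cfsg.Agent.Lib.Helper15 Matrix
  QuadraticAlgebra Module

section
variable {F : Type*} [Field F] [Fintype F] (a b : F) [Fact (∀ r : F, r ^ 2 ≠ -b + a * r)]
  [Fintype (QE a b)] {q : ℕ}

/-- the matrix of an element of `SU_4` -/
def smat (g : ↥(Cfsg.SU 4 (QE a b) q)) : Matrix (Fin 4) (Fin 4) (QE a b) :=
  ((g : Matrix.SpecialLinearGroup (Fin 4) (QE a b)) : Matrix (Fin 4) (Fin 4) (QE a b))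

theorem smat_mul (g h : ↥(Cfsg.SU 4 (QE a b) q)) : smat a b (g * h) = smat a b g * smat a b h := rfl

theorem smat_one : smat a b (1 : ↥(Cfsg.SU 4 (QE a b) q)) = 1 := rfl

theorem smat_injective : Function.Injective (smat a b (q := q)) := by
  intro g h hgh
  exact Subtype.ext (Subtype.ext hgh)

theorem smat_det (g : ↥(Cfsg.SU 4 (QE a b) q)) : (smat a b g).det = 1 := g.1.2

theorem smat_pres (g : ↥(Cfsg.SU 4 (QE a b) q)) (x y : Fin 4 → QE a b) :
    hermForm 4 (QE a b) q (smat a b g *ᵥ x) (smat a b g *ᵥ y) = hermForm 4 (QE a b) q x y :=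
  g.2 x y

variable (hF : Fintype.card F = q) (hE : Fintype.card (QE a b) = q ^ 2)
  (hab : ∀ z₁ z₂ : F, z₁ ^ 2 + a * z₁ * z₂ + b * z₂ ^ 2 = 0 → z₁ = 0 ∧ z₂ = 0)
  (φ : (Fin 4 → QE a b) ≃ₗ[QE a b] (Fin 4 → QE a b))
  (hφ : ∀ x y, hermForm 4 (QE a b) q (φ x) (φ y) = hW q x y)

/-- the compound matrix of the conjugated matrix -/
noncomputable def cmat (g : ↥(Cfsg.SU 4 (QE a b) q)) : Matrix I6 I6 (QE a b) :=
  S0302.cmp (cj φ (smat a b g))

theorem cmat_mul (g h : ↥(Cfsg.SU 4 (QE a b) q)) :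
    cmat a b φ (g * h) = cmat a b φ g * cmat a b φ h := by
  unfold cmat
  rw [smat_mul, cj_mul, cmp_mul]

theorem cmat_one : cmat a b φ (1 : ↥(Cfsg.SU 4 (QE a b) q)) = 1 := by
  unfold cmat
  rw [smat_one, cj_one, cmp_one]

include hF hE hφ in
theorem cmat_fixPres (g : ↥(Cfsg.SU 4 (QE a b) q)) : IsFixPres a b (cmat a b φ g) := by
  intro v hv
  have hσ : ∀ z : QE a b, starRingEnd (QE a b) z = z ^ q := by
    intro z
    rw [starRingEnd_apply, star_eq_pow a b hF hE]
  have hAi : cj φ (smat a b g) * cj φ (smat a b g⁻¹) = 1 := by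
    rw [← cj_mul, ← smat_mul, mul_inv_cancel, smat_one, cj_one]
  have hdet : (cj φ (smat a b g)).det = 1 := by rw [cj_det, smat_det]
  have hU := UW_matrix hE (starRingEnd (QE a b)) hσ (cj φ (smat a b g))
    (cj_pres hE φ hφ (smat a b g) (smat_pres a b g))
  unfold cmat
  rw [hodge_cmp _ _ _ hAi hdet hU, hv]

theorem cmat_form (g : ↥(Cfsg.SU 4 (QE a b) q)) (v : I6 → QE a b) :
    Cfsg.quadFormPlus 3 (QE a b) (cmat a b φ g *ᵥ v) = Cfsg.quadFormPlus 3 (QE a b) v := by
  unfold cmat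
  rw [cmp_form, cj_det, smat_det, one_mul]

/-- the matrix over `F` attached to an element of `SU_4` -/
noncomputable def rmat (g : ↥(Cfsg.SU 4 (QE a b) q)) : Matrix J6 J6 F := desc a b (cmat a b φ g)

include hF hE hφ hab in
theorem rmat_mul (g h : ↥(Cfsg.SU 4 (QE a b) q)) :
    rmat a b φ (g * h) = rmat a b φ g * rmat a b φ h := by
  unfold rmat
  rw [cmat_mul, desc_mul a b hab _ _ (cmat_fixPres a b hF hE φ hφ h)]

include hab in
theorem rmat_one : rmat a b φ (1 : ↥(Cfsg.SU 4 (QE a b) q)) = 1 := by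
  unfold rmat
  rw [cmat_one, desc_one a b hab]

include hF hE hφ hab in
theorem rmat_form (g : ↥(Cfsg.SU 4 (QE a b) q)) (w : J6 → F) :
    Cfsg.quadFormMinus 2 F a b (rmat a b φ g *ᵥ w) = Cfsg.quadFormMinus 2 F a b w :=
  desc_form a b hab _ (cmat_fixPres a b hF hE φ hφ g) (cmat_form a b φ g) w

/-- the homomorphism `SU_4(q) → O^-_6(q)` -/
noncomputable def rhoU : ↥(Cfsg.SU 4 (QE a b) q) →*
    ↥(Cfsg.isometryGroup F (Cfsg.quadFormMinus 2 F a b)) where
  toFun g := ⟨⟨rmat a b φ g, rmat a b φ g⁻¹, by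
      rw [← rmat_mul a b hF hE hab φ hφ, mul_inv_cancel, rmat_one a b hab], by
      rw [← rmat_mul a b hF hE hab φ hφ, inv_mul_cancel, rmat_one a b hab]⟩, by
    intro u _
    exact rmat_form a b hF hE hab φ hφ g u⟩
  map_one' := by
    apply Subtype.ext
    apply Units.ext
    exact rmat_one a b hab φ
  map_mul' g h := by
    apply Subtype.ext
    apply Units.ext
    exact rmat_mul a b hF hE hab φ hφ g h

theorem rhoU_val (g : ↥(Cfsg.SU 4 (QE a b) q)) :
    (((rhoU a b hF hE hab φ hφ g).1 : GL J6 F) : Matrix J6 J6 F) = rmat a b φ g := rfl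

include hF hE hφ hab in
/-- the kernel consists of `±1` -/
theorem rhoU_eq_one (g : ↥(Cfsg.SU 4 (QE a b) q)) (hg : rhoU a b hF hE hab φ hφ g = 1) :
    smat a b g = 1 ∨ smat a b g = -1 := by
  have h1 : rmat a b φ g = 1 := by
    have := congrArg (fun y : ↥(Cfsg.isometryGroup F (Cfsg.quadFormMinus 2 F a b)) =>
      (((y.1 : GL J6 F) : Matrix J6 J6 F))) hg
    simp only [rhoU_val] at this
    rw [this]
    rfl
  have h2 : cmat a b φ g = 1 := by
    apply eq_one_of_fix a b hab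
    intro w
    have := Tmap_desc a b hab _ (cmat_fixPres a b hF hE φ hφ g) w
    change Tmap a b (rmat a b φ g *ᵥ w) = _ at this
    rw [h1, Matrix.one_mulVec] at this
    exact this.symm
  -- the `SL₄` element
  have hdet : (cj φ (smat a b g)).det = 1 := by rw [cj_det, smat_det]
  obtain ⟨s, hs⟩ : ∃ s : Matrix.SpecialLinearGroup (Fin 4) (QE a b), s.1 = cj φ (smat a b g) :=
    ⟨⟨_, hdet⟩, rfl⟩
  have hsk : s ∈ (Cfsg.Agent.S0302.rho (F := QE a b)).ker :=
    (MonoidHom.mem_ker).mpr ((Cfsg.Agent.S0302.rho_eq_one_iff s).mpr (by rw [hs]; exact h2))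
  have h3 := Cfsg.Agent.S0302.ker_rho_sub s hsk
  rw [hs] at h3
  rcases h3 with h | h
  · left
    have := cj_eq_neg_one φ (smat a b g) 1 (by rw [one_smul]; exact h)
    rw [this, one_smul]
  · right
    have := cj_eq_neg_one φ (smat a b g) (-1) (by rw [neg_smul, one_smul]; exact h)
    rw [this, neg_smul, one_smul]

end

end Cfsg.Agent.Lib.Helper6.LamTwo
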