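import Mathlib
import Cfsg.Agent.Lib.Helper6.LocalBalC
import Cfsg.Agent.Lib.Helper6.LocalBalE
import Cfsg.Agent.Lib.Helper16.FieldCentPSp
import Cfsg.Agent.S0270
import Cfsg.Agent.Lib.Helper6.AutSpC

/-!
# Local balance for field automorphisms of symplectic groups, part F: the subfield subgroup in
the centraliser of a field automorphism
-/

set_option autoImplicit false
set_option linter.unusedSectionVars false
set_option linter.unusedVariables false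
set_option linter.style.haveILetI false

namespace Cfsg.Agent.Lib.Helper6.LocalBal

open Matrix Cfsg Cfsg.Agent.Lib.Helper6 Cfsg.Agent.Lib.Helper6.AutPSp
  Cfsg.Agent.Lib.Helper6.SympRoot
  Cfsg.Agent.Lib.Helper16.H90GL Cfsg.Agent.Lib.Helper16.FieldCoset
  Cfsg.Agent.Lib.Helper16.UnitaryDescent Cfsg.Agent.Lib.Helper16.SympDescent
  Cfsg.Agent.Lib.Helper16.FieldCosetPSp Cfsg.Agent.Lib.Helper16.SplitCount
  Cfsg.Agent.Lib.Helper16.FieldCentPSp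
open Cfsg.Agent.Lib.Helper6.AutPSL (sG sG_val sG_inv_val gl_mul_inv gl_inv_mul)

section
variable {m : ℕ} {F : Type*} [Field F]

local notation "Mat" => Matrix (Fin m ⊕ Fin m) (Fin m ⊕ Fin m) F
local notation "Jm" => Matrix.J (Fin m) F

/-- every element of the image of `PΓSp` is a product of an inner-diagonal and a field
automorphism -/
theorem exists_dec_of_mem [Fintype F] (β : MulAut (Cfsg.PSp m F)) (hβ : β ∈ Cfsg.gammaPSp m F) :
    ∃ (a : ↥(Cfsg.GSp m F)) (τ : RingAut F), β = cPh a * fP τ := by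
  unfold Cfsg.gammaPSp Cfsg.autSubgroupOf at hβ
  induction hβ using Subgroup.closure_induction with
  | mem β hβ =>
    obtain ⟨g, σ, hg, hind⟩ := hβ
    refine ⟨⟨g, hg⟩, σ, ?_⟩
    ext x
    obtain ⟨s, rfl⟩ := pu_surjective x
    change β (pu s) = cPh _ (fP σ (pu s))
    rw [fP_mk, cPh_mk]
    exact hind s _ (by rw [cSp_val, fSp_val])
  | one => exact ⟨1, 1, by rw [map_one, fP_one, one_mul]⟩
  | mul β β' _ _ h h' =>
    obtain ⟨a, τ, rfl⟩ := h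
    obtain ⟨a', τ', rfl⟩ := h'
    refine ⟨a * sGSp τ a', τ * τ', ?_⟩
    calc cPh a * fP τ * (cPh a' * fP τ') = cPh a * (fP τ * cPh a') * fP τ' := by
          simp only [mul_assoc]
      _ = cPh a * (cPh (sGSp τ a') * fP τ) * fP τ' := by rw [rel_fP_cPh]
      _ = cPh (a * sGSp τ a') * fP (τ * τ') := by
          rw [map_mul, fP_mul]; simp only [mul_assoc]
  | inv β _ h =>
    obtain ⟨a, τ, rfl⟩ := h
    refine ⟨sGSp τ⁻¹ a⁻¹, τ⁻¹, ?_⟩
    rw [_root_.mul_inv_rev, ← rel_fP_cPh, map_inv, ← fPhom_apply, ← fPhom_apply, map_inv]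

theorem cPh_fP_mem_gamma (a : ↥(Cfsg.GSp m F)) (τ : RingAut F) :
    (cPh a * fP τ : MulAut (Cfsg.PSp m F)) ∈ Cfsg.gammaPSp m F := by
  apply Subgroup.subset_closure
  exact ⟨a.1, τ, a.2, isSemi_cP_fP a.1 a.2 τ⟩

/-- conjugating an inner-diagonal automorphism by a field automorphism -/
theorem conj_fP_cPh (τ : RingAut F) (g : ↥(Cfsg.GSp m F)) :
    (fP τ * cPh g * (fP τ)⁻¹ : MulAut (Cfsg.PSp m F)) = cPh (sGSp τ g) := by
  rw [rel_fP_cPh, mul_inv_cancel_right]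

theorem multF_sGSp (hm : 1 ≤ m) (σ : RingAut F) (g : ↥(Cfsg.GSp m F)) :
    multF (sGSp σ g) = σ (multF g) := by
  apply multF_eq hm
  change ((sG σ g.1).1)ᵀ * Jm * (sG σ g.1).1 = _
  rw [sG_val]
  have : (g.1.1ᵀ * Jm * g.1.1).map σ = (multF g • Jm).map σ := by rw [multF_spec]
  rw [Matrix.map_mul, Matrix.map_mul, J_map, Matrix.transpose_map] at this
  rw [this]
  ext s t
  rw [Matrix.map_apply, Matrix.smul_apply, Matrix.smul_apply, smul_eq_mul, smul_eq_mul, map_mul]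
  congr 1
  exact congrFun (congrFun (J_map (m := m) σ) s) t

theorem multF_mapGSp [Fintype F] {F₀ : Type*} [Field F₀] (hm : 1 ≤ m) (j : F₀ →+* F) (g₀ : ↥(Cfsg.GSp m F₀)) :
    multF (mapGSp j g₀) = j (multF g₀) := by
  apply multF_eq hm
  rw [mapGSp_val]
  have : (g₀.1.1ᵀ * Matrix.J (Fin m) F₀ * g₀.1.1).map j =
      (multF g₀ • Matrix.J (Fin m) F₀).map j := by rw [multF_spec]
  rw [Matrix.map_mul, Matrix.map_mul, J_map_hom, Matrix.transpose_map] at this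
  rw [this]
  ext s t
  rw [Matrix.map_apply, Matrix.smul_apply, Matrix.smul_apply, smul_eq_mul, smul_eq_mul, map_mul]
  congr 1
  exact congrFun (congrFun (J_map_hom (m := m) j) s) t

end

section bc
variable {m : ℕ} {F : Type*} [Field F] [Fintype F] {F₀ : Type*} [Field F₀] [Fintype F₀]
  (j : F₀ →+* F) (r : ℕ) [hr : Fact r.Prime] [hcr : CharP F r] [hcr₀ : CharP F₀ r]

/-- base change composed with the action -/
noncomputable def bcSp : ↥(Cfsg.GSp m F₀) →* MulAut (Cfsg.PSp m F) := cPh.comp (mapGSp j)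

theorem bcSp_apply (g₀ : ↥(Cfsg.GSp m F₀)) : bcSp j g₀ = cPh (mapGSp j g₀) := rfl

include hr hcr hcr₀ in
theorem bcSp_ker (hm : 1 ≤ m) :
    (bcSp (m := m) j).ker = (cPh : ↥(Cfsg.GSp m F₀) →* MulAut (Cfsg.PSp m F₀)).ker := by
  have hjinj : Function.Injective j := RingHom.injective j
  have hιinj : Function.Injective
      (fun M : Matrix (Fin m ⊕ Fin m) (Fin m ⊕ Fin m) F₀ => M.map j) :=
    Matrix.map_injective hjinj
  ext g₀
  rw [MonoidHom.mem_ker, MonoidHom.mem_ker, bcSp_apply, cPh_eq_one_iff r hm, cPh_eq_one_iff r hm,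
    mapGSp_val]
  constructor
  · rintro ⟨μ, hμ⟩
    let i0 : Fin m ⊕ Fin m := Sum.inl ⟨0, by omega⟩
    have hμ0 : j (g₀.1.1 i0 i0) = μ := by
      have := congrFun (congrFun hμ i0) i0
      simpa using this
    refine ⟨g₀.1.1 i0 i0, ?_⟩
    apply hιinj
    simp only
    rw [hμ]
    ext s t
    rw [Matrix.map_apply, Matrix.smul_apply, Matrix.smul_apply, Matrix.one_apply,
      Matrix.one_apply]
    by_cases hst : s = t
    · rw [if_pos hst, if_pos hst, smul_eq_mul, smul_eq_mul, mul_one, mul_one, hμ0]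
    · rw [if_neg hst, if_neg hst, smul_zero, smul_zero, map_zero]
  · rintro ⟨c, hc⟩
    refine ⟨j c, ?_⟩
    rw [hc]
    ext s t
    rw [Matrix.map_apply, Matrix.smul_apply, Matrix.smul_apply, Matrix.one_apply,
      Matrix.one_apply]
    by_cases hst : s = t
    · rw [if_pos hst, if_pos hst, smul_eq_mul, smul_eq_mul, mul_one, mul_one]
    · rw [if_neg hst, if_neg hst, smul_zero, smul_zero, map_zero]

include hr hcr hcr₀ in
theorem bcSp_eq_iff (hm : 1 ≤ m) (a b : ↥(Cfsg.GSp m F₀)) :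
    bcSp j a = bcSp j b ↔ (cPh a : MulAut (Cfsg.PSp m F₀)) = cPh b := by
  rw [← mul_inv_eq_one, ← map_inv, ← map_mul, ← MonoidHom.mem_ker, bcSp_ker j r hm,
    MonoidHom.mem_ker, map_mul, map_inv, mul_inv_eq_one]

include hr hcr in
theorem bcSp_comm (hm : 1 ≤ m) (σ : RingAut F) (hj : ∀ a : F, σ a = a ↔ a ∈ Set.range j)
    (g₀ : ↥(Cfsg.GSp m F₀)) :
    (fP σ * bcSp j g₀ : MulAut (Cfsg.PSp m F)) = bcSp j g₀ * fP σ := by
  rw [bcSp_apply, comm_iff r hm]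
  refine ⟨1, ?_⟩
  rw [one_smul, mapGSp_val]
  ext s t
  rw [Matrix.map_apply, Matrix.map_apply]
  exact (hj _).mpr ⟨_, rfl⟩

include hr hcr in
/-- descent of a conformal symplectic matrix fixed up to a scalar -/
theorem exists_descent_sp (hm : 1 ≤ m) (σ : RingAut F)
    (hj : ∀ a : F, σ a = a ↔ a ∈ Set.range j) (g : ↥(Cfsg.GSp m F)) (μ : F)
    (hμ : g.1.1.map σ = μ • g.1.1) :
    ∃ g₀ : ↥(Cfsg.GSp m F₀), bcSp j g₀ = cPh g := by
  have hjinj : Function.Injective j := RingHom.injective j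
  haveI : Nonempty (Fin m ⊕ Fin m) := ⟨Sum.inl ⟨0, by omega⟩⟩
  have hιinj : Function.Injective
      (fun M : Matrix (Fin m ⊕ Fin m) (Fin m ⊕ Fin m) F₀ => M.map j) :=
    Matrix.map_injective hjinj
  obtain ⟨a, ha0, ha⟩ := exists_fixed_mul' σ g.1 μ hμ
  have hent : ∀ s t, ∃ b : F₀, j b = (a • g.1.1) s t := by
    intro s t
    have h1 : σ ((a • g.1.1) s t) = (a • g.1.1) s t := by
      have := congrFun (congrFun ha s) t
      rwa [Matrix.map_apply] at this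
    obtain ⟨b, hb⟩ := (hj _).mp h1
    exact ⟨b, hb⟩
  choose M₀ hM₀ using hent
  have hM₀' : (Matrix.of M₀).map j = a • g.1.1 := by
    ext s t
    rw [Matrix.map_apply, Matrix.of_apply, hM₀]
  obtain ⟨c₀, hc₀⟩ : ∃ c₀ : F₀, c₀ = ((Matrix.of M₀)ᵀ * Matrix.J (Fin m) F₀ * Matrix.of M₀)
      (Sum.inr ⟨0, by omega⟩) (Sum.inl ⟨0, by omega⟩) := ⟨_, rfl⟩
  have hmap : ((Matrix.of M₀)ᵀ * Matrix.J (Fin m) F₀ * Matrix.of M₀).map j =
      (a * a * multF g) • Matrix.J (Fin m) F := by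
    rw [Matrix.map_mul, Matrix.map_mul, J_map_hom, Matrix.transpose_map, hM₀',
      Matrix.transpose_smul, Matrix.smul_mul, Matrix.smul_mul, Matrix.mul_smul, smul_smul,
      multF_spec, smul_smul]
  have hjc₀ : j c₀ = a * a * multF g := by
    have := congrFun (congrFun hmap (Sum.inr ⟨0, by omega⟩)) (Sum.inl ⟨0, by omega⟩)
    rw [Matrix.map_apply, ← hc₀, Matrix.smul_apply, J_entry hm, smul_eq_mul, mul_one] at this
    exact this
  have hc₀0 : c₀ ≠ 0 := by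
    intro h0
    rw [h0, map_zero] at hjc₀
    exact mul_ne_zero (mul_ne_zero ha0 ha0) (multF_ne g) hjc₀.symm
  have hJ₀ : (Matrix.of M₀)ᵀ * Matrix.J (Fin m) F₀ * Matrix.of M₀ =
      c₀ • Matrix.J (Fin m) F₀ := by
    apply hιinj
    simp only
    rw [hmap, ← hjc₀]
    ext s t
    rw [Matrix.map_apply, Matrix.smul_apply, Matrix.smul_apply, smul_eq_mul, smul_eq_mul,
      map_mul]
    congr 1
    exact (congrFun (congrFun (J_map_hom (m := m) j) s) t).symm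
  have hinv : (c₀⁻¹ • ((-Matrix.J (Fin m) F₀) * (Matrix.of M₀)ᵀ * Matrix.J (Fin m) F₀)) *
      Matrix.of M₀ = 1 := by
    rw [Matrix.smul_mul]
    have : (-Matrix.J (Fin m) F₀) * (Matrix.of M₀)ᵀ * Matrix.J (Fin m) F₀ * Matrix.of M₀ =
        (-Matrix.J (Fin m) F₀) * ((Matrix.of M₀)ᵀ * Matrix.J (Fin m) F₀ * Matrix.of M₀) := by
      simp only [Matrix.mul_assoc]
    rw [this, hJ₀, Matrix.mul_smul, smul_smul, inv_mul_cancel₀ hc₀0, one_smul, Matrix.neg_mul,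
      Matrix.J_squared, neg_neg]
  obtain ⟨g₀, hg₀, hg₀v⟩ := mem_gsp_of_mat (Matrix.of M₀) _ (mul_eq_one_comm.mp hinv) c₀ hc₀0
    hJ₀
  refine ⟨⟨g₀, hg₀⟩, ?_⟩
  rw [bcSp_apply, cPh_eq_iff r hm]
  refine ⟨a, ?_⟩
  rw [mapGSp_val]
  change g₀.1.map j = _
  rw [hg₀v]
  exact hM₀'

end bc

section sub
variable {m : ℕ} {F : Type*} [Field F] [Fintype F] {F₀ : Type*} [Field F₀] [Fintype F₀]
  (j : F₀ →+* F) (r : ℕ) [hr : Fact r.Prime] [hcr : CharP F r] [hcr₀ : CharP F₀ r]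

theorem mem_multKer (hm : 1 ≤ m) (g : ↥(Cfsg.GSp m F₀)) :
    g ∈ (mult (F := F₀) hm).ker ↔ multF g = 1 := by
  rw [MonoidHom.mem_ker]
  constructor
  · intro h
    have := congrArg Units.val h
    rwa [mult_val, Units.val_one] at this
  · intro h
    apply Units.ext
    rw [mult_val, h, Units.val_one]

/-- the subfield subgroup -/
noncomputable def subSp (hm : 1 ≤ m) : Subgroup (MulAut (Cfsg.PSp m F)) :=
  ((mult (F := F₀) hm).ker).map (bcSp j)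

include hr hcr₀ in
theorem cPh_map_multKer (hm : 1 ≤ m) :
    ((mult (F := F₀) hm).ker).map (cPh : ↥(Cfsg.GSp m F₀) →* MulAut (Cfsg.PSp m F₀)) =
      Cfsg.Inn (Cfsg.PSp m F₀) := by
  ext β
  constructor
  · rintro ⟨g, hg, rfl⟩
    rw [cPh_mem_inn_iff r hm]
    refine ⟨1, ?_⟩
    rw [map_one]
    exact (MonoidHom.mem_ker.mp hg).symm
  · rintro ⟨k, rfl⟩
    obtain ⟨s, rfl⟩ := pu_surjective k
    refine ⟨spGSp s, (mem_multKer hm _).mpr (multF_sp hm s), ?_⟩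
    exact cPh_spGSp s

include hr hcr hcr₀ in
theorem subSp_equiv (hm : 1 ≤ m) (hZ : Subgroup.center (Cfsg.PSp m F₀) = ⊥) :
    Nonempty (↥(subSp (F := F) j hm) ≃* Cfsg.PSp m F₀) := by
  obtain ⟨e1⟩ := map_equiv_of_ker_eq (bcSp (F := F) j)
    (cPh : ↥(Cfsg.GSp m F₀) →* MulAut (Cfsg.PSp m F₀)) (bcSp_ker j r hm) (mult (F := F₀) hm).ker
  obtain ⟨e3⟩ := inn_equiv hZ
  exact ⟨e1.trans ((MulEquiv.subgroupCongr (cPh_map_multKer r hm)).trans e3.symm)⟩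

include hr hcr in
theorem subSp_le (hm : 1 ≤ m) (σ : RingAut F) (hj : ∀ a : F, σ a = a ↔ a ∈ Set.range j) :
    subSp (F := F) j hm ≤ Cfsg.Inn (Cfsg.PSp m F) ⊓ Subgroup.centralizer {fP σ} := by
  rintro _ ⟨g₀, hg₀, rfl⟩
  refine ⟨(cPh_mem_inn_iff r hm _).mpr ⟨1, ?_⟩,
    (mem_cent_singleton _ _).mpr (bcSp_comm j r hm σ hj g₀).symm⟩
  rw [map_one]
  apply Units.ext
  rw [Units.val_one, mult_val, multF_mapGSp hm, (mem_multKer hm g₀).mp hg₀, map_one]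

include hr hcr in
/-- the centraliser of the field automorphism in the image of `PΓSp` -/
theorem exists_cent_decomp_sp (hm : 1 ≤ m) (σ : RingAut F)
    (hj : ∀ a : F, σ a = a ↔ a ∈ Set.range j) (c : MulAut (Cfsg.PSp m F))
    (hcΓ : c ∈ Cfsg.gammaPSp m F) (hc : c * fP σ = fP σ * c) :
    ∃ (g₀ : ↥(Cfsg.GSp m F₀)) (τ' : RingAut F), c = bcSp j g₀ * fP τ' ∧
      ∀ a : F₀, τ' (j a) ∈ Set.range j := by
  obtain ⟨k, τ', hk⟩ := exists_dec_of_mem c hcΓ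
  have hff : (fP σ * fP τ' : MulAut (Cfsg.PSp m F)) = fP τ' * fP σ := by
    rw [← fP_mul, ← fP_mul, ringAut_comm]
  have hkc : (fP σ * cPh k : MulAut (Cfsg.PSp m F)) = cPh k * fP σ := by
    apply comm_of_comm_mul _ _ _ hff
    rw [← hk]
    exact hc
  obtain ⟨μ, hμ⟩ := (comm_iff r hm σ k).mp hkc
  obtain ⟨g₀, hg₀⟩ := exists_descent_sp j r hm σ hj k μ hμ
  refine ⟨g₀, τ', ?_, ?_⟩
  · rw [hk, hg₀]
  · intro b
    rw [← hj]
    have h1 : σ (τ' (j b)) = (σ * τ') (j b) := rfl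
    rw [h1, ringAut_comm]
    change τ' (σ (j b)) = _
    rw [(hj _).mpr ⟨b, rfl⟩]

theorem conj_bcSp (τ' : RingAut F) (τ'₀ : RingAut F₀) (hτ₀ : ∀ a, j (τ'₀ a) = τ' (j a))
    (g₀ s₀ : ↥(Cfsg.GSp m F₀)) :
    (bcSp j g₀ * fP τ') * bcSp j s₀ * (bcSp j g₀ * fP τ')⁻¹ =
      (bcSp j (g₀ * sGSp τ'₀ s₀ * g₀⁻¹) : MulAut (Cfsg.PSp m F)) := by
  have hmat : sGSp τ' (mapGSp j s₀) = mapGSp j (sGSp τ'₀ s₀) := by
    apply Subtype.ext
    apply Units.ext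
    change (sG τ' (mapGSp j s₀).1).1 = (sG τ'₀ s₀.1).1.map j
    rw [sG_val, sG_val, mapGSp_val]
    ext a b
    rw [Matrix.map_apply, Matrix.map_apply, Matrix.map_apply, Matrix.map_apply, hτ₀]
  have h : (fP τ' * bcSp j s₀ * (fP τ')⁻¹ : MulAut (Cfsg.PSp m F)) = bcSp j (sGSp τ'₀ s₀) := by
    rw [bcSp_apply, conj_fP_cPh, hmat, bcSp_apply]
  rw [conj_prod _ _ _ (bcSp j (sGSp τ'₀ s₀)) h, map_mul, map_mul, map_inv]

theorem conj_cPh₀ (τ'₀ : RingAut F₀) (g₀ s₀ : ↥(Cfsg.GSp m F₀)) :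
    (cPh (g₀ * sGSp τ'₀ s₀ * g₀⁻¹) : MulAut (Cfsg.PSp m F₀)) =
      (cPh g₀ * fP τ'₀) * cPh s₀ * (cPh g₀ * fP τ'₀)⁻¹ := by
  rw [conj_prod _ _ _ (cPh (sGSp τ'₀ s₀)) (conj_fP_cPh τ'₀ s₀), map_mul, map_mul, map_inv]

theorem twist_mem_multKer (hm : 1 ≤ m) (τ'₀ : RingAut F₀) (g₀ s₀ : ↥(Cfsg.GSp m F₀))
    (hs₀ : s₀ ∈ (mult (F := F₀) hm).ker) :
    g₀ * sGSp τ'₀ s₀ * g₀⁻¹ ∈ (mult (F := F₀) hm).ker := by
  have h1 : sGSp τ'₀ s₀ ∈ (mult (F := F₀) hm).ker := by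
    rw [mem_multKer, multF_sGSp hm, (mem_multKer hm s₀).mp hs₀, map_one]
  exact (MonoidHom.normal_ker _).conj_mem _ h1 g₀

include hr hcr in
/-- elements of the image of `PΓSp` centralising the field automorphism normalise the subfield
subgroup -/
theorem sp_norm (hm : 1 ≤ m) (σ : RingAut F) (hj : ∀ a : F, σ a = a ↔ a ∈ Set.range j)
    (c : MulAut (Cfsg.PSp m F)) (hcΓ : c ∈ Cfsg.gammaPSp m F) (hc : c * fP σ = fP σ * c)
    (k : MulAut (Cfsg.PSp m F)) (hk : k ∈ subSp (F := F) j hm) :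
    c * k * c⁻¹ ∈ subSp (F := F) j hm := by
  obtain ⟨s₀, hs₀, rfl⟩ := hk
  obtain ⟨g₀, τ', hcd, hpres⟩ := exists_cent_decomp_sp j r hm σ hj c hcΓ hc
  obtain ⟨τ'₀, hτ₀⟩ := exists_restrict_aut j τ' hpres
  rw [hcd, conj_bcSp j τ' τ'₀ hτ₀ g₀ s₀]
  exact ⟨_, twist_mem_multKer hm τ'₀ g₀ s₀ hs₀, rfl⟩

include hr hcr hcr₀ in
/-- elements of the image of `PΓSp` centralising the field automorphism and the subfield subgroup
are powers of the field automorphism -/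
theorem sp_cent (hm : 1 ≤ m) (hZ : Subgroup.center (Cfsg.PSp m F₀) = ⊥) (σ : RingAut F)
    (hj : ∀ a : F, σ a = a ↔ a ∈ Set.range j)
    (c : MulAut (Cfsg.PSp m F)) (hcΓ : c ∈ Cfsg.gammaPSp m F) (hc : c * fP σ = fP σ * c)
    (hcomm : ∀ k ∈ subSp (F := F) j hm, c * k = k * c) :
    c ∈ Subgroup.zpowers (fP σ : MulAut (Cfsg.PSp m F)) := by
  obtain ⟨g₀, τ', hcd, hpres⟩ := exists_cent_decomp_sp j r hm σ hj c hcΓ hc
  obtain ⟨τ'₀, hτ₀⟩ := exists_restrict_aut j τ' hpres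
  obtain ⟨n₀, hn₀⟩ : ∃ n₀ : MulAut (Cfsg.PSp m F₀), n₀ = cPh g₀ * fP τ'₀ := ⟨_, rfl⟩
  have hn1 : n₀ = 1 := by
    apply eq_one_of_comm_inn hZ
    intro k
    have hk : MulAut.conj k ∈
        ((mult (F := F₀) hm).ker).map (cPh : ↥(Cfsg.GSp m F₀) →* MulAut (Cfsg.PSp m F₀)) := by
      rw [cPh_map_multKer r hm]
      exact ⟨k, rfl⟩
    obtain ⟨s₀, hs₀S, hs₀⟩ := hk
    have h1 := hcomm _ ⟨s₀, hs₀S, rfl⟩
    have h2' : c * bcSp j s₀ * c⁻¹ = bcSp j s₀ := by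
      rw [h1, mul_inv_cancel_right]
    rw [hcd, conj_bcSp j τ' τ'₀ hτ₀ g₀ s₀, bcSp_eq_iff j r hm, conj_cPh₀ τ'₀ g₀ s₀, ← hn₀,
      hs₀] at h2'
    exact mul_inv_eq_iff_eq_mul.mp h2'
  rw [hn₀] at hn1
  obtain ⟨hτ₀1, a₀, ha₀⟩ := cPh_fP_eq_one r hm g₀ τ'₀ hn1
  have hb1 : bcSp (F := F) j g₀ = 1 := by
    rw [← MonoidHom.mem_ker, bcSp_ker j r hm, MonoidHom.mem_ker]
    exact cPh_scalar g₀ a₀ ha₀
  have hmem : τ' ∈ Subgroup.zpowers σ := by
    apply mem_zpowers_of_fixed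
    intro a ha
    obtain ⟨b, rfl⟩ := (hj a).mp ha
    rw [← hτ₀, hτ₀1]
    rfl
  obtain ⟨i, hi⟩ := Subgroup.mem_zpowers_iff.mp hmem
  rw [Subgroup.mem_zpowers_iff]
  refine ⟨i, ?_⟩
  rw [hcd, hb1, one_mul, ← hi, ← fPhom_apply, ← fPhom_apply, map_zpow]

include hr hcr in
/-- the inner-diagonal automorphisms centralising the field automorphism come from the subfield -/
theorem inndiag_cent_le (hm : 1 ≤ m) (σ : RingAut F) (hj : ∀ a : F, σ a = a ↔ a ∈ Set.range j) :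
    Cfsg.inndiagPSp m F ⊓ Subgroup.centralizer {fP σ} ≤ (bcSp (F := F) (m := m) j).range := by
  rintro c ⟨hc1, hc2⟩
  have hc1' : c ∈ Cfsg.inndiagPSp m F := hc1
  rw [Cfsg.Agent.Lib.Helper16.FieldCosetPSp.inndiag_eq_range] at hc1'
  obtain ⟨g, rfl⟩ := hc1'
  have hc2' := (mem_cent_singleton _ _).mp hc2
  obtain ⟨μ, hμ⟩ := (comm_iff r hm σ g).mp hc2'.symm
  obtain ⟨g₀, hg₀⟩ := exists_descent_sp j r hm σ hj g μ hμ
  exact ⟨g₀, hg₀⟩

include hr hcr hcr₀ in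
theorem card_range_bcSp (hm : 1 ≤ m) :
    Nat.card ↥(bcSp (F := F) (m := m) j).range =
      Nat.gcd 2 (Fintype.card F₀ - 1) * Nat.card (Cfsg.PSp m F₀) := by
  have h0 : (cPhom : ↥(Cfsg.GSp m F₀) →* MulAut (Cfsg.PSp m F₀)) = cPh :=
    MonoidHom.ext fun g => rfl
  rw [← Subgroup.index_ker, bcSp_ker j r hm, Subgroup.index_ker, ← h0, card_cPhom_range r hm,
    card_Sp hm]

end sub

end Cfsg.Agent.Lib.Helper6.LocalBal
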