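import Mathlib
import Cfsg.Agent.Lib.Helper6.LocalBalF
import Cfsg.Agent.Lib.Helper6.AutSpJ
import Cfsg.Agent.S0247

/-!
# Local balance for field automorphisms of symplectic groups, part G: the two regimes
-/

set_option autoImplicit false
set_option linter.unusedSectionVars false
set_option linter.unusedVariables false
set_option linter.style.haveILetI false

namespace Cfsg.Agent.Lib.Helper6.LocalBal

open Matrix Cfsg Cfsg.Agent.Lib.Helper6 Cfsg.Agent.Lib.Helper6.AutPSp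
  Cfsg.Agent.Lib.Helper6.SympRoot
  Cfsg.Agent.Lib.Helper16.H90GL Cfsg.Agent.Lib.Helper16.FieldCoset
  Cfsg.Agent.Lib.Helper16.UnitaryDescent Cfsg.Agent.Lib.Helper16.SympDescent
  Cfsg.Agent.Lib.Helper16.FieldCosetPSp Cfsg.Agent.Lib.Helper16.SplitCount
  Cfsg.Agent.Lib.Helper16.FieldCentPSp
open Cfsg.Agent.Lib.Helper6.AutPSL (sG sG_val sG_inv_val gl_mul_inv gl_inv_mul img mem_img)

section basic
variable {m : ℕ} {F : Type*} [Field F]

/-- the order of `PSp_{2m}(q)` is even for odd `q` -/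
theorem even_card_PSp [Fintype F] (hm : 1 ≤ m) (h2 : (2 : F) ≠ 0) :
    2 ∣ Nat.card (Cfsg.PSp m F) := by
  obtain ⟨sJ, hsJ⟩ : ∃ sJ : ↥(Matrix.symplecticGroup (Fin m) F), sJ.1 = Matrix.J (Fin m) F :=
    ⟨⟨Matrix.J (Fin m) F, SymplecticGroup.J_mem (Fin m) F⟩, rfl⟩
  have hsq : sJ * sJ = negOne := by
    apply Subtype.ext
    change sJ.1 * sJ.1 = (-1 : Matrix (Fin m ⊕ Fin m) (Fin m ⊕ Fin m) F)
    rw [hsJ, Matrix.J_squared]
  have h1 : (pu sJ) ^ 2 = 1 := by
    rw [pow_two, ← map_mul, hsq, pu_eq_one_iff]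
    exact negOne_mem_center
  have h3 : pu sJ ≠ 1 := by
    intro h
    rw [pu_eq_one_iff] at h
    have hent : sJ.1 (Sum.inl ⟨0, by omega⟩) (Sum.inl ⟨0, by omega⟩) = 0 := by
      rw [hsJ]
      simp [Matrix.J]
    rcases center_cases hm sJ h with h4 | h4
    · rw [h4] at hent
      change (1 : Matrix (Fin m ⊕ Fin m) (Fin m ⊕ Fin m) F) _ _ = 0 at hent
      rw [Matrix.one_apply_eq] at hent
      exact one_ne_zero hent
    · rw [h4] at hent
      change (-1 : Matrix (Fin m ⊕ Fin m) (Fin m ⊕ Fin m) F) _ _ = 0 at hent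
      rw [Matrix.neg_apply, Matrix.one_apply_eq, neg_eq_zero] at hent
      exact one_ne_zero hent
  have h4 : orderOf (pu sJ) = 2 := orderOf_eq_prime h1 h3
  rw [← h4]
  exact orderOf_dvd_natCard _

theorem center_PSp_of_perfect [Fintype F] (hm : 2 ≤ m) (h : m = 2 → 3 ≤ Fintype.card F) :
    Subgroup.center (Cfsg.PSp m F) = ⊥ := by
  have hperf : commutator (Matrix.symplecticGroup (Fin m) F) = ⊤ :=
    Cfsg.Agent.S0269.result m (by
      rcases Nat.lt_or_ge m 3 with h3 | h3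
      · right; left
        exact ⟨by omega, h (by omega)⟩
      · left; exact h3)
  haveI : Group.IsPerfect ↥(Matrix.symplecticGroup (Fin m) F) := ⟨hperf⟩
  exact Group.IsPerfect.center_quotient_center_eq_bot ↥(Matrix.symplecticGroup (Fin m) F)

theorem three_le_card_of_char (F₀ : Type*) [Field F₀] [Fintype F₀] (r : ℕ) [CharP F₀ r]
    (hr2 : r ≠ 2) : 3 ≤ Fintype.card F₀ := by
  have h1 : 1 < Fintype.card F₀ := Fintype.one_lt_card
  by_contra hlt
  have h2 : Fintype.card F₀ = 2 := by omega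
  have h3 := FiniteField.even_card_iff_char_two.mpr (by rw [h2])
  rw [ringChar.eq F₀ r] at h3
  exact hr2 h3

theorem isStd_fP (σ : F ≃+* F) : Cfsg.IsStdFieldAutPSp σ (fP σ : MulAut (Cfsg.PSp m F)) := by
  intro s s' h
  change fP σ (pu s) = pu s'
  rw [fP_mk]
  congr 1
  apply Subtype.ext
  rw [fSp_val, h]

theorem isInnerDiagonal_cPh (g : ↥(Cfsg.GSp m F)) :
    Cfsg.IsInnerDiagonalAutPSp (cPh g : MulAut (Cfsg.PSp m F)) := by
  refine ⟨g.1, g.2, ?_⟩
  have := isSemi_cP_fP g.1 g.2 (RingEquiv.refl F)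
  rwa [show (fP (RingEquiv.refl F) : MulAut (Cfsg.PSp m F)) = 1 from fP_one, mul_one] at this

end basic

section one
variable {m : ℕ} {F : Type*} [Field F] [Fintype F] {F₀ : Type*} [Field F₀] [Fintype F₀]
  (j : F₀ →+* F) (r : ℕ) [hr : Fact r.Prime] [hcr : CharP F r] [hcr₀ : CharP F₀ r]

include hr hcr hcr₀ in
theorem dvd_card_subfield (hm : 1 ≤ m) (σ : RingAut F) (hj : ∀ a : F, σ a = a ↔ a ∈ Set.range j)
    (p : ℕ) (hp : p.Prime)
    (hd : p ∣ Nat.card ↥(Cfsg.Inn (Cfsg.PSp m F) ⊓ Subgroup.centralizer {fP σ})) :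
    p ∣ Nat.card (Cfsg.PSp m F₀) := by
  have h1 : Nat.card ↥(Cfsg.Inn (Cfsg.PSp m F) ⊓ Subgroup.centralizer {fP σ}) ∣
      Nat.card ↥(bcSp (F := F) (m := m) j).range :=
    Subgroup.card_dvd_of_le ((inf_le_inf_right _ inn_le_inndiag).trans
      (inndiag_cent_le j r hm σ hj))
  rw [card_range_bcSp j r hm] at h1
  rcases (Nat.Prime.dvd_mul hp).mp (hd.trans h1) with h5 | h5
  · have h6 : p ∣ 2 := h5.trans (Nat.gcd_dvd_left _ _)
    have h7 : p = 2 := (Nat.prime_dvd_prime_iff_eq hp Nat.prime_two).mp h6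
    rw [h7] at h5 ⊢
    have h8 : 2 ∣ Fintype.card F₀ - 1 := h5.trans (Nat.gcd_dvd_right _ _)
    apply even_card_PSp hm
    intro h20
    have h9 : ringChar F₀ = 2 := by
      apply CharP.ringChar_of_prime_eq_zero Nat.prime_two
      exact_mod_cast h20
    have h10 := FiniteField.even_card_iff_char_two.mp h9
    have h11 : 1 < Fintype.card F₀ := Fintype.one_lt_card
    omega
  · exact h5

include hr hcr hcr₀ in
/-- the subfield subgroup is good, when all automorphisms are semilinear -/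
theorem good_sp_one (hm : 2 ≤ m) (h4 : m = 2 → r ≠ 2) (σ : RingAut F)
    (hj : ∀ a : F, σ a = a ↔ a ∈ Set.range j) (p : ℕ) (hp : p.Prime) :
    Good' (Cfsg.Inn (Cfsg.PSp m F)) (fP σ) p (subSp (F := F) j (show 1 ≤ m by omega)) := by
  have hm1 : 1 ≤ m := by omega
  have h3₀ : m = 2 → 3 ≤ Fintype.card F₀ := fun h => three_le_card_of_char F₀ r (h4 h)
  haveI hsimple₀ := Cfsg.Agent.S0270.result (F := F₀) m hm h3₀
  have hZ₀ := center_PSp_of_perfect (F := F₀) hm h3₀
  obtain ⟨eM⟩ := subSp_equiv (F := F) j r hm1 hZ₀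
  have htop := gamma_eq_top (F := F) r hm h4
  have hΓ : ∀ c : MulAut (Cfsg.PSp m F), c ∈ Cfsg.gammaPSp m F := by
    intro c
    rw [htop]
    exact Subgroup.mem_top c
  refine ⟨subSp_le j r hm1 σ hj, ?_, ?_, ?_, ?_⟩
  · intro h0
    haveI : Nontrivial (Cfsg.PSp m F₀) := IsSimpleGroup.toNontrivial
    obtain ⟨a, ha⟩ := exists_ne (1 : Cfsg.PSp m F₀)
    have h1 : (eM.symm a : MulAut (Cfsg.PSp m F)) ∈ subSp (F := F) j hm1 := (eM.symm a).2
    have h1' : (eM.symm a : MulAut (Cfsg.PSp m F)) ∈ (⊥ : Subgroup (MulAut (Cfsg.PSp m F))) :=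
      h0 ▸ h1
    rw [Subgroup.mem_bot] at h1'
    apply ha
    have h2 : eM.symm a = 1 := Subtype.ext h1'
    rw [← eM.apply_symm_apply a, h2, map_one]
  · intro c hc k hk
    exact sp_norm j r hm1 σ hj c (hΓ c) ((mem_cent_singleton _ _).mp hc) k hk
  · intro c hc hcomm
    exact sp_cent j r hm1 hZ₀ σ hj c (hΓ c) ((mem_cent_singleton _ _).mp hc) hcomm
  · intro hd N hNM hnorm hcop
    haveI : IsSimpleGroup ↥(subSp (F := F) j hm1) := MulEquiv.isSimpleGroup eM
    apply ncore_of_simple (subSp (F := F) j hm1) p hp ?_ N hNM hnorm hcop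
    rw [Nat.card_congr eM.toEquiv]
    exact dvd_card_subfield j r hm1 σ hj p hp hd

end one

section two
variable {F : Type*} [Field F] [Fintype F] [hc2 : CharP F 2]

/-- an element of a short root subgroup is not in a long root subgroup -/
theorem sg_not_mem_Rb (P : HPair 2 F) (w : Fin 2 ⊕ Fin 2 → F) (hw : P.W w) (hw0 : w ≠ 0)
    (u : Fin 2 ⊕ Fin 2 → F) : pu (P.sg w 0) ∉ Rb u := by
  have h2 : (2 : F) = 0 := CharTwo.two_eq_zero
  intro h1
  obtain ⟨c, hc⟩ := (mem_Rb u _).mp h1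
  have h3 : P.sg w 0 = tv u c := pu_inj_two (by norm_num) h2 _ _ hc
  obtain ⟨y, hy, hwy⟩ := P.exists_W_partner hw hw0
  have e1 : av (P.sg w 0) P.f = av (tv u c) P.f := by rw [h3]
  have e2 : av (P.sg w 0) y = av (tv u c) y := by rw [h3]
  rw [P.av_sg_f w 0 hw, av_tv, zero_smul, add_zero] at e1
  rw [P.av_sg_W w 0 hw y hy, av_tv, hwy, one_smul] at e2
  have e1' : w = (c * Cfsg.sympForm 2 F P.f u) • u := add_left_cancel e1
  have e2' : P.e = (c * Cfsg.sympForm 2 F y u) • u := add_left_cancel e2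
  have e3 : Cfsg.sympForm 2 F w P.f = 0 := hw.2
  have e4 := P.hef
  rw [e1', sympForm_smul_left] at e3
  rw [e2', sympForm_smul_left] at e4
  have e5 : Cfsg.sympForm 2 F u P.f ≠ 0 := by
    intro h
    rw [h, mul_zero] at e4
    exact zero_ne_one e4
  have e6 : c * Cfsg.sympForm 2 F P.f u = 0 := by
    rcases mul_eq_zero.mp e3 with h | h
    · exact h
    · exact absurd h e5
  rw [e6, zero_smul] at e1'
  exact hw0 e1'

/-- the standard long root element -/
noncomputable def k₀ : Cfsg.PSp 2 F := pu (tv e1v 1)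

theorem k₀_ne_one : (k₀ : Cfsg.PSp 2 F) ≠ 1 := by
  have h2 : (2 : F) = 0 := CharTwo.two_eq_zero
  intro h
  have h1 : tv (e1v : Fin 2 ⊕ Fin 2 → F) 1 = 1 := by
    apply pu_inj_two (by norm_num) h2
    rw [map_one]
    exact h
  rw [tv_eq_one_iff _ e1v_ne] at h1
  exact one_ne_zero h1

theorem fP_k₀ (σ : RingAut F) : fP σ (k₀ : Cfsg.PSp 2 F) = k₀ := by
  unfold k₀
  rw [← gam_ofField, SemiSim.gam_tv]
  have h1 : (SemiSim.ofField σ : SemiSim 2 F).S e1v = e1v := by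
    change (fun i => σ ((e1v : Fin 2 ⊕ Fin 2 → F) i)) = e1v
    unfold e1v
    exact comp_single σ (Sum.inl 0)
  have h2 : (SemiSim.ofField σ : SemiSim 2 F).σ (1 : F) * (SemiSim.ofField σ : SemiSim 2 F).ν⁻¹ = 1 := by
    change σ 1 * (1 : F)⁻¹ = 1
    rw [map_one, inv_one, mul_one]
  rw [h1, h2]

/-- an automorphism outside the image of `PΓSp_4` does not fix the standard long root element -/
theorem not_fix_k₀ (c : MulAut (Cfsg.PSp 2 F)) (hc : c ∉ Cfsg.gammaPSp 2 F) :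
    c (k₀ : Cfsg.PSp 2 F) ≠ k₀ := by
  intro hfix
  rw [mem_gamma_iff_long] at hc
  have hshort : IsShort (img c (Rb (e1v : Fin 2 ⊕ Fin 2 → F))) := by
    rcases dichotomy c (Rb e1v) ⟨e1v, e1v_ne, rfl⟩ with h | h
    · exact absurd h hc
    · exact h
  obtain ⟨P, w, hw, hw0, hH⟩ := hshort
  have hk : (k₀ : Cfsg.PSp 2 F) ∈ img c (Rb (e1v : Fin 2 ⊕ Fin 2 → F)) := by
    rw [mem_img]
    exact ⟨k₀, (mem_Rb _ _).mpr ⟨1, rfl⟩, hfix⟩
  obtain ⟨a, ha⟩ := (hH _).mp hk
  have ha0 : a ≠ 0 := by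
    intro h0
    rw [h0, zero_smul, P.sg_zero, map_one] at ha
    exact k₀_ne_one ha
  have hw' : P.W (a • w) := P.W_smul a hw
  have hw'0 : a • w ≠ 0 := smul_ne_zero ha0 hw0
  apply sg_not_mem_Rb P (a • w) hw' hw'0 e1v
  rw [← ha]
  exact (mem_Rb _ _).mpr ⟨1, rfl⟩

end two

/-- an automorphism of a centreless group commuting with an inner automorphism fixes the
element -/
theorem fix_of_comm_conj {K : Type*} [Group K] (hZ : Subgroup.center K = ⊥) (n : MulAut K) (k : K)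
    (h : n * MulAut.conj k = MulAut.conj k * n) : n k = k := by
  have h1 : MulAut.conj (n k) = MulAut.conj k := by
    have h2 : n * MulAut.conj k * n⁻¹ = MulAut.conj (n k) := by
      ext y
      rw [MulAut.mul_apply, MulAut.mul_apply, MulAut.conj_apply, MulAut.conj_apply, map_mul,
        map_mul, map_inv, MulAut.apply_inv_self]
    rw [← h2, h, mul_inv_cancel_right]
  have h3 : k⁻¹ * n k ∈ Subgroup.center K := by
    rw [Subgroup.mem_center_iff]
    intro y
    have h4 : n k * y * (n k)⁻¹ = k * y * k⁻¹ := by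
      have := congrArg (fun f : MulAut K => f y) h1
      simpa [MulAut.conj_apply] using this
    have h5 : n k * y = k * y * k⁻¹ * n k := by
      rw [← h4, inv_mul_cancel_right]
    calc y * (k⁻¹ * n k) = k⁻¹ * (k * y * k⁻¹ * n k) := by group
      _ = k⁻¹ * (n k * y) := by rw [h5]
      _ = k⁻¹ * n k * y := by group
  rw [hZ, Subgroup.mem_bot] at h3
  exact (inv_mul_eq_one.mp h3).symm

section two'
variable {F : Type*} [Field F] [Fintype F] [hc2 : CharP F 2] {F₀ : Type*} [Field F₀] [Fintype F₀]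
  [hc2₀ : CharP F₀ 2] (j : F₀ →+* F)

/-- in characteristic two the subfield subgroup is the whole centraliser among the inner
automorphisms -/
theorem subSp_eq_two (σ : RingAut F) (hj : ∀ a : F, σ a = a ↔ a ∈ Set.range j) :
    subSp (F := F) (m := 2) j (by norm_num) =
      Cfsg.Inn (Cfsg.PSp 2 F) ⊓ Subgroup.centralizer {fP σ} := by
  haveI : Fact (Nat.Prime 2) := ⟨Nat.prime_two⟩
  have h1 : 1 ≤ 2 := by norm_num
  apply le_antisymm (subSp_le j 2 h1 σ hj)
  intro c hc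
  have hc' : c ∈ (bcSp (F := F) (m := 2) j).range :=
    inndiag_cent_le j 2 h1 σ hj ⟨inn_le_inndiag hc.1, hc.2⟩
  obtain ⟨g₀, rfl⟩ := hc'
  obtain ⟨t, ht⟩ := FiniteField.isSquare_of_char_two (ringChar.eq F₀ 2) (multF g₀)
  have ht0 : t ≠ 0 := by
    intro h0
    apply multF_ne g₀
    rw [ht, h0, zero_mul]
  obtain ⟨z, hz⟩ : ∃ z : ↥(Cfsg.GSp 2 F₀),
      z.1.1 = t⁻¹ • (1 : Matrix (Fin 2 ⊕ Fin 2) (Fin 2 ⊕ Fin 2) F₀) :=
    ⟨⟨Matrix.GeneralLinearGroup.scalar _ (Units.mk0 t⁻¹ (inv_ne_zero ht0)), scalar_mem_GSp _⟩,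
      scalar_val _⟩
  refine ⟨z * g₀, ?_, ?_⟩
  · rw [SetLike.mem_coe, mem_multKer]
    have h5 : multF (z * g₀) = multF z * multF g₀ := by
      have := congrArg Units.val (map_mul (mult (F := F₀) h1) z g₀)
      rwa [Units.val_mul, mult_val, mult_val, mult_val] at this
    rw [h5, multF_scalar h1 z t⁻¹ hz, ht]
    field_simp
  · rw [map_mul]
    have : bcSp (F := F) j z = 1 := by
      rw [← MonoidHom.mem_ker, bcSp_ker j 2 h1, MonoidHom.mem_ker]
      exact cPh_scalar z t⁻¹ hz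
    rw [this, one_mul]

/-- the subfield subgroup is good, for `PSp_4` in characteristic two -/
theorem good_sp_two (σ : RingAut F) (hj : ∀ a : F, σ a = a ↔ a ∈ Set.range j) (p : ℕ)
    (hp : p.Prime) (hp2 : p ≠ 2) :
    Good' (Cfsg.Inn (Cfsg.PSp 2 F)) (fP σ) p (subSp (F := F) (m := 2) j (by norm_num)) := by
  classical
  haveI : Fact (Nat.Prime 2) := ⟨Nat.prime_two⟩
  have h1 : 1 ≤ 2 := by norm_num
  have h2₀ : (2 : F₀) = 0 := CharTwo.two_eq_zero
  have hZ₀ := center_PSp_four (F := F₀)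
  have hZ := center_PSp_four (F := F)
  obtain ⟨eM⟩ := subSp_equiv (F := F) j 2 h1 hZ₀
  have hMeq := subSp_eq_two j σ hj
  obtain ⟨M, hM⟩ : ∃ M : Subgroup (MulAut (Cfsg.PSp 2 F)), M = subSp (F := F) (m := 2) j h1 :=
    ⟨_, rfl⟩
  have hMeq' : M = Cfsg.Inn (Cfsg.PSp 2 F) ⊓ Subgroup.centralizer {fP σ} := by rw [hM]; exact hMeq
  have eM' : ↥M ≃* Cfsg.PSp 2 F₀ := by rw [hM]; exact eM
  change Good' _ _ _ (subSp (F := F) (m := 2) j h1)
  rw [← hM]
  refine ⟨hMeq'.le, ?_, ?_, ?_, ?_⟩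
  · intro h0
    have ha : (k₀ : Cfsg.PSp 2 F₀) ≠ 1 := k₀_ne_one
    have h1 : (eM'.symm k₀ : MulAut (Cfsg.PSp 2 F)) ∈ M := (eM'.symm k₀).2
    have h1' : (eM'.symm k₀ : MulAut (Cfsg.PSp 2 F)) ∈ (⊥ : Subgroup (MulAut (Cfsg.PSp 2 F))) :=
      h0 ▸ h1
    rw [Subgroup.mem_bot] at h1'
    apply ha
    have h2 : eM'.symm k₀ = 1 := Subtype.ext h1'
    rw [← eM'.apply_symm_apply k₀, h2, map_one]
  · intro c hc k hk
    rw [hMeq'] at hk ⊢
    exact ⟨(Cfsg.innNormal _).conj_mem k hk.1 c,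
      Subgroup.mul_mem _ (Subgroup.mul_mem _ hc hk.2) (Subgroup.inv_mem _ hc)⟩
  · intro c hc hcomm
    by_cases hcΓ : c ∈ Cfsg.gammaPSp 2 F
    · rw [hM] at hcomm
      exact sp_cent j 2 h1 hZ₀ σ hj c hcΓ ((mem_cent_singleton _ _).mp hc) hcomm
    · exfalso
      apply not_fix_k₀ c hcΓ
      apply fix_of_comm_conj hZ
      apply hcomm
      rw [hMeq']
      refine ⟨⟨k₀, rfl⟩, (mem_cent_singleton _ _).mpr ?_⟩
      ext y
      rw [MulAut.mul_apply, MulAut.mul_apply, MulAut.conj_apply, MulAut.conj_apply, map_mul,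
        map_mul, map_inv, fP_k₀]
  · intro hd N hNM hnorm hcop
    have hcardM : Nat.card ↥M =
        Nat.card ↥(Cfsg.Inn (Cfsg.PSp 2 F) ⊓ Subgroup.centralizer {fP σ}) := by rw [hMeq']
    by_cases h3 : 3 ≤ Fintype.card F₀
    · haveI hsimple₀ := Cfsg.Agent.S0270.result (F := F₀) 2 (le_refl 2) (fun _ => h3)
      haveI : IsSimpleGroup ↥M := MulEquiv.isSimpleGroup eM'
      apply ncore_of_simple M p hp ?_ N hNM hnorm hcop
      rw [hcardM]
      exact hd
    · have hF₀ : Fintype.card F₀ = 2 := by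
        have : 1 < Fintype.card F₀ := Fintype.one_lt_card
        omega
      obtain ⟨e247⟩ := Cfsg.Agent.S0247.result (F := F₀) hF₀
      have hbij : Function.Bijective (pu : ↥(Matrix.symplecticGroup (Fin 2) F₀) →* Cfsg.PSp 2 F₀) :=
        ⟨fun a b hab => pu_inj_two (by norm_num) h2₀ a b hab, pu_surjective⟩
      obtain ⟨ePu⟩ : Nonempty (↥(Matrix.symplecticGroup (Fin 2) F₀) ≃* Cfsg.PSp 2 F₀) :=
        ⟨MulEquiv.ofBijective pu hbij⟩
      obtain ⟨e⟩ : Nonempty (↥M ≃* Equiv.Perm (Fin 6)) := ⟨eM'.trans (ePu.symm.trans e247)⟩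
      have hc720 : Nat.card ↥M = 720 := by
        rw [Nat.card_congr e.toEquiv, Nat.card_eq_fintype_card, Fintype.card_perm,
          Fintype.card_fin]
        decide
      rw [← hcardM, hc720] at hd
      have hp360 : p ∣ 360 := by
        have h720 : (720 : ℕ) = 2 * 360 := by norm_num
        rw [h720] at hd
        rcases (Nat.Prime.dvd_mul hp).mp hd with h5 | h5
        · exact absurd ((Nat.prime_dvd_prime_iff_eq hp Nat.prime_two).mp h5) hp2
        · exact h5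
      exact ncore_of_perm6 M e p hp360 hp.one_lt.ne' N hNM hnorm hcop

end two'

end Cfsg.Agent.Lib.Helper6.LocalBal
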