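import Mathlib
import Cfsg.Agent.Lib.Helper6.LocalBalG

/-!
# Local balance for field automorphisms of symplectic groups, part H: the main theorem
-/

set_option autoImplicit false
set_option linter.unusedSectionVars false
set_option linter.unusedVariables false
set_option linter.style.haveILetI false

namespace Cfsg.Agent.Lib.Helper6.LocalBal

open Matrix Cfsg Cfsg.Agent.Lib.Helper6 Cfsg.Agent.Lib.Helper6.AutPSp
  Cfsg.Agent.Lib.Helper6.SympRoot
  Cfsg.Agent.Lib.Helper16.H90GL Cfsg.Agent.Lib.Helper16.FieldCoset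
  Cfsg.Agent.Lib.Helper16.UnitaryDescent Cfsg.Agent.Lib.Helper16.SympDescent
  Cfsg.Agent.Lib.Helper16.FieldCosetPSp Cfsg.Agent.Lib.Helper16.SplitCount
  Cfsg.Agent.Lib.Helper16.FieldCentPSp
open Cfsg.Agent.Lib.Helper6.AutPSL (sG sG_val sG_inv_val gl_mul_inv gl_inv_mul img mem_img)

theorem odd_pow_trick {G : Type*} [Group G] (x : G) (k : ℕ) :
    x = (x * x) ^ (k + 1) * (x ^ (2 * k + 1))⁻¹ := by
  have h1 : (x * x) ^ (k + 1) = x * x ^ (2 * k + 1) := by
    rw [← pow_two, ← pow_mul, ← pow_succ']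
    congr 1
  rw [h1, mul_inv_cancel_right]

theorem conj_inv_eq {G : Type*} [Group G] (h f x : G) (hx : x = h * f * h⁻¹) :
    h⁻¹ * x * (h⁻¹)⁻¹ = f := by
  rw [hx]
  group

/-- **local balance for non-inner-diagonal automorphisms of prime order of `PSp_{2m}(q)`** -/
theorem main_sp {F : Type*} [Field F] [Fintype F] {r : ℕ} [hr : Fact r.Prime] [hcr : CharP F r]
    {m : ℕ} (hm : 2 ≤ m) (hs : m = 2 → 3 ≤ Fintype.card F)
    (A : Subgroup (MulAut (Cfsg.PSp m F))) (hinn : ∀ k : Cfsg.PSp m F, MulAut.conj k ∈ A)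
    {p : ℕ} [hpf : Fact p.Prime] (hpr : p ≠ r) (x : MulAut (Cfsg.PSp m F)) (hxA : x ∈ A)
    (hord : orderOf x = p) (hnot : ¬ Cfsg.IsInnerDiagonalAutPSp x) :
    Cfsg.pPrimeCore p ↥(A ⊓ Subgroup.centralizer {x}) ≠ ⊥ ↔
      (Cfsg.IsFieldAutClassPSp x ∧ Nat.Coprime p (Nat.card
        ↥(MonoidHom.eqLocus x.toMonoidHom (MonoidHom.id (Cfsg.PSp m F))))) := by
  classical
  have hp : p.Prime := hpf.out
  have hm1 : 1 ≤ m := by omega
  have hxp : x ^ p = 1 := by rw [← hord]; exact pow_orderOf_eq_one x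
  -- `x` is in the image of `PΓSp`
  have hxΓ : x ∈ Cfsg.gammaPSp m F := by
    by_cases h4 : m = 2 → r ≠ 2
    · rw [gamma_eq_top (F := F) r hm h4]
      exact Subgroup.mem_top x
    · push Not at h4
      obtain ⟨hm2, hr2⟩ := h4
      subst hm2
      subst hr2
      have hidx := index_gamma_two (F := F)
      obtain ⟨k, hk⟩ := hp.odd_of_ne_two hpr
      have hsq : x * x ∈ Cfsg.gammaPSp 2 F := Subgroup.mul_self_mem_of_index_two hidx x
      rw [odd_pow_trick x k, ← hk, hxp, inv_one, mul_one]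
      exact Subgroup.pow_mem _ hsq _
  obtain ⟨g, σ, hxg⟩ := exists_dec_of_mem x hxΓ
  have hσ1 : σ ≠ 1 := by
    intro h
    apply hnot
    rw [hxg, h, fP_one, mul_one]
    exact isInnerDiagonal_cPh g
  have hσp : σ ^ p = 1 := by
    have h1 := hxp
    rw [hxg, pow_cPh_fP] at h1
    exact (cPh_fP_eq_one r hm1 _ _ h1).1
  have hσord : orderOf σ = p := by
    rcases (Nat.dvd_prime hp).mp (orderOf_dvd_of_pow_eq_one hσp) with h | h
    · exact absurd (orderOf_eq_one_iff.mp h) hσ1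
    · exact h
  have hinj : Function.Injective
      (Cfsg.Agent.Lib.Helper16.FieldCosetPSp.fPhom : RingAut F →* MulAut (Cfsg.PSp m F)) := by
    rw [injective_iff_map_eq_one]
    intro τ hτ
    have e : (cPh (1 : ↥(Cfsg.GSp m F)) * fP τ : MulAut (Cfsg.PSp m F)) = 1 := by
      rw [map_one, one_mul]; exact hτ
    exact (cPh_fP_eq_one r hm1 1 τ e).1
  have hφord : orderOf (fP σ : MulAut (Cfsg.PSp m F)) = p := by
    rw [← Cfsg.Agent.Lib.Helper16.FieldCosetPSp.fPhom_apply, orderOf_injective _ hinj σ, hσord]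
  obtain ⟨h, hh⟩ := core_fieldSp r hm σ p hp.pos hφord g (by rw [← hxg]; exact hord)
  have hxh : x = cPh h * fP σ * (cPh h)⁻¹ := by rw [hxg]; exact hh
  have hxclass : Cfsg.IsFieldAutClassPSp x := by
    refine ⟨(cPh h)⁻¹, σ, hσ1, ?_⟩
    rw [conj_inv_eq (cPh h) (fP σ) x hxh]
    exact isStd_fP σ
  -- the fixed field
  haveI : Fintype ↥(fixK σ) := Fintype.ofFinite _
  obtain ⟨j, hjdef⟩ : ∃ j : ↥(fixK σ) →+* F, j = (fixK σ).subtype := ⟨_, rfl⟩
  have hj : ∀ a : F, σ a = a ↔ a ∈ Set.range j := by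
    intro a
    rw [hjdef]
    constructor
    · intro ha
      exact ⟨⟨a, ha⟩, rfl⟩
    · rintro ⟨b, rfl⟩
      exact b.2
  haveI : CharP ↥(fixK σ) r := RingHom.charP j (RingHom.injective j) r
  obtain ⟨M, hM⟩ : ∃ M : Subgroup (MulAut (Cfsg.PSp m F)), M = subSp (F := F) j hm1 := ⟨_, rfl⟩
  have hgood : Good' (Cfsg.Inn (Cfsg.PSp m F)) (fP σ) p M := by
    rw [hM]
    by_cases h4 : m = 2 → r ≠ 2
    · exact good_sp_one j r hm h4 σ hj p hp
    · push Not at h4
      obtain ⟨hm2, hr2⟩ := h4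
      subst hm2
      subst hr2
      exact good_sp_two j σ hj p hp hpr
  have heI : ∀ k, k ∈ Cfsg.Inn (Cfsg.PSp m F) ↔
      MulAut.conj (cPh h) k ∈ Cfsg.Inn (Cfsg.PSp m F) := by
    intro k
    rw [MulAut.conj_apply]
    constructor
    · intro hk
      exact (Cfsg.innNormal _).conj_mem k hk _
    · intro hk
      have := (Cfsg.innNormal _).conj_mem _ hk (cPh h)⁻¹
      have e : (cPh h)⁻¹ * (cPh h * k * (cPh h)⁻¹) * ((cPh h)⁻¹)⁻¹ = k :=
        conj_inv_eq (cPh h) k _ rfl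
      rwa [e] at this
  have hgood' : Good' (Cfsg.Inn (Cfsg.PSp m F)) x p
      (M.map (MulAut.conj (cPh h : MulAut (Cfsg.PSp m F))).toMonoidHom) := by
    have e : MulAut.conj (cPh h : MulAut (Cfsg.PSp m F)) (fP σ) = x := hxh.symm
    exact hgood.map' (MulAut.conj (cPh h)) heI x e
  have hIA : Cfsg.Inn (Cfsg.PSp m F) ≤ A := by
    rintro _ ⟨k, rfl⟩
    exact hinn k
  have hZ := center_PSp_of_perfect (F := F) hm hs
  rw [core_iff' (Cfsg.Inn (Cfsg.PSp m F)) A hIA x hxA p hxp _ hgood', card_inn_cent hZ x]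
  exact ⟨fun hc => ⟨hxclass, hc⟩, fun hc => hc.2⟩

end Cfsg.Agent.Lib.Helper6.LocalBal
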