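import Cfsg.Agent.Lib.Helper6.M22MultTC
import Cfsg.Agent.Lib.Helper6.M22TC.T1B
import Cfsg.Agent.Lib.Helper6.M22TC.T2B
import Cfsg.Agent.Lib.Helper6.M22TC.T3B

/-! S2036 (helper6): the three coset-enumeration certificates (emitted with helper24's tool for helper4's
checker) in the vocabulary of `card_le_of_weak_cert`.  T1: M22 level (index 352 over the lift of A7),
T2: A7 level with exponent 8 (index 720 over ⟨y⟩), T3: A7 level with exponent 2 and the extra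
relator `(c y c⁻¹ y⁻¹)^2` (index 360). -/

set_option autoImplicit false

namespace Cfsg.Agent.Lib.Helper6.M22Mult

namespace T1

def ord : List ℕ := [5, 7, 11]

def conj : List CRel := [⟨[0], 2, 1, [], 3⟩, ⟨[3, 1, 4, 2], 0, 1, [0, 0, 3, 4], 2⟩, ⟨[3, 5, 0, 2], 0, 2, [0, 3, 4, 4], 1⟩]

def cen : List (List ℕ) := [[0, 2, 1, 3, 0, 3, 3, 0, 2, 2, 2], [0, 0, 0, 0, 3, 3, 3, 3, 1, 2, 2, 2], [0, 0, 0, 2, 2, 2, 1, 3, 1, 2, 2, 2], [0, 0, 2, 0, 0, 3, 0, 0, 2, 0, 0, 3], [2, 4, 2, 4, 2, 4, 2, 4, 2, 4], [0, 2, 5, 3, 3, 0, 3, 4, 0, 3, 0, 5], [0, 0, 3, 0, 4, 3, 0, 0, 3, 0, 4, 3]]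

def extra : List (List ℕ) := []

theorem cen_length : cen.length = 7 := rfl

set_option maxRecDepth 100000 in
theorem bases_ok : Cfsg.Agent.Lib.Helper6.M22TC.T1.bases.all
    (okWord (weakRels 3 ord conj cen 8 ++ extra)) = true := by decide +kernel

set_option maxRecDepth 100000 in
theorem letters_b : lettersLt (2 * (3 + cen.length)) Cfsg.Agent.Lib.Helper6.M22TC.T1.bases = true := by
  decide +kernel

theorem letters_s : lettersLt (2 * (3 + cen.length)) Cfsg.Agent.Lib.Helper6.M22TC.T1.subsL = true := by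
  decide +kernel

theorem subs : Cfsg.Agent.Lib.Helper6.M22TC.T1.subsL = [[0], [2]] := rfl

theorem n_eq : Cfsg.Agent.Lib.Helper6.M22TC.T1.n = 352 := rfl

theorem std : Cfsg.Agent.Lib.Helper5.Sp62.IsStd (3 + cen.length) Cfsg.Agent.Lib.Helper6.M22TC.Cod10.dec :=
  isStd_stdDec 10 _ _ (by decide)

end T1

namespace T2

def ord : List ℕ := [5, 7]

def conj : List CRel := [⟨[2, 1, 1, 3], 0, 3, [0, 2], 1⟩]

def cen : List (List ℕ) := [[0, 2, 1, 3, 0, 3, 3, 0, 2, 2, 2], [0, 0, 0, 0, 3, 3, 3, 3, 1, 2, 2, 2], [0, 0, 0, 2, 2, 2, 1, 3, 1, 2, 2, 2], [0, 0, 2, 0, 0, 3, 0, 0, 2, 0, 0, 3]]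

def extra : List (List ℕ) := []

theorem cen_length : cen.length = 4 := rfl

set_option maxRecDepth 100000 in
theorem bases_ok : Cfsg.Agent.Lib.Helper6.M22TC.T2.bases.all
    (okWord (weakRels 2 ord conj cen 8 ++ extra)) = true := by decide +kernel

set_option maxRecDepth 100000 in
theorem letters_b : lettersLt (2 * (2 + cen.length)) Cfsg.Agent.Lib.Helper6.M22TC.T2.bases = true := by
  decide +kernel

theorem letters_s : lettersLt (2 * (2 + cen.length)) Cfsg.Agent.Lib.Helper6.M22TC.T2.subsL = true := by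
  decide +kernel

theorem subs : Cfsg.Agent.Lib.Helper6.M22TC.T2.subsL = [[2]] := rfl

theorem n_eq : Cfsg.Agent.Lib.Helper6.M22TC.T2.n = 720 := rfl

theorem std : Cfsg.Agent.Lib.Helper5.Sp62.IsStd (2 + cen.length) Cfsg.Agent.Lib.Helper6.M22TC.Cod6.dec :=
  isStd_stdDec 6 _ _ (by decide)

end T2

namespace T3

def ord : List ℕ := [5, 7]

def conj : List CRel := [⟨[2, 1, 1, 3], 0, 3, [0, 2], 1⟩]

def cen : List (List ℕ) := [[0, 2, 1, 3, 0, 3, 3, 0, 2, 2, 2], [0, 0, 0, 0, 3, 3, 3, 3, 1, 2, 2, 2], [0, 0, 0, 2, 2, 2, 1, 3, 1, 2, 2, 2], [0, 0, 2, 0, 0, 3, 0, 0, 2, 0, 0, 3]]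

def extra : List (List ℕ) := [[0, 2, 1, 3, 0, 2, 1, 3]]

theorem cen_length : cen.length = 4 := rfl

set_option maxRecDepth 100000 in
theorem bases_ok : Cfsg.Agent.Lib.Helper6.M22TC.T3.bases.all
    (okWord (weakRels 2 ord conj cen 2 ++ extra)) = true := by decide +kernel

set_option maxRecDepth 100000 in
theorem letters_b : lettersLt (2 * (2 + cen.length)) Cfsg.Agent.Lib.Helper6.M22TC.T3.bases = true := by
  decide +kernel

theorem letters_s : lettersLt (2 * (2 + cen.length)) Cfsg.Agent.Lib.Helper6.M22TC.T3.subsL = true := by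
  decide +kernel

theorem subs : Cfsg.Agent.Lib.Helper6.M22TC.T3.subsL = [[2]] := rfl

theorem n_eq : Cfsg.Agent.Lib.Helper6.M22TC.T3.n = 360 := rfl

theorem std : Cfsg.Agent.Lib.Helper5.Sp62.IsStd (2 + cen.length) Cfsg.Agent.Lib.Helper6.M22TC.Cod6.dec :=
  isStd_stdDec 6 _ _ (by decide)

end T3

end Cfsg.Agent.Lib.Helper6.M22Mult
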