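import Cfsg.Agent.Lib.Helper6.M22MultTC

/-!
# S2036: the group presented by a list of relators, in the vocabulary of `Cfsg.H5.TCk.ev` (helper6)

Definitions only (for the farmed-out pieces of the existence half): `CoverW t R` is the group on `t`
generators presented by the words of `R` (letters `2 i` / `2 i + 1` = generator `i` and its inverse).
-/

set_option autoImplicit false
set_option linter.unusedVariables false

namespace Cfsg.Agent.Lib.Helper6.M22Mult

open Cfsg Cfsg.H5.TCk

/-- the free generators as a sequence -/
def fgen (t : ℕ) : ℕ → FreeGroup (Fin t) :=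
  fun i => if h : i < t then FreeGroup.of ⟨i, h⟩ else 1

/-- the relators as elements of the free group -/
def relSetW (t : ℕ) (R : List (List ℕ)) : Set (FreeGroup (Fin t)) :=
  {x | ∃ r ∈ R, x = ev (fgen t) r}

/-- the group presented by `R` -/
abbrev CoverW (t : ℕ) (R : List (List ℕ)) : Type := PresentedGroup (relSetW t R)

/-- its generators as a sequence -/
def cgenW (t : ℕ) (R : List (List ℕ)) : ℕ → CoverW t R :=
  fun i => PresentedGroup.mk (relSetW t R) (fgen t i)

end Cfsg.Agent.Lib.Helper6.M22Mult
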