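import Cfsg.Agent.Lib.Helper6.M22MultTC
import Cfsg.Agent.Lib.Helper28.OutM22

/-!
# S2036: the generators `c, y, b` of `M22` (orders 5, 7, 11), tables and word evaluation (helper6)
`c = cubeTwist`, `b = o11_b`, `y = b x c x b⁻¹ x` with `x = o22_x`; `⟨c, y⟩ ≅ A7`.
Letters: 0/1 = c, c⁻¹; 2/3 = y, y⁻¹; 4/5 = b, b⁻¹; all other generators are sent to `1`.
-/

set_option autoImplicit false
set_option linter.unusedVariables false

namespace Cfsg.Agent.Lib.Helper6.M22Mult

open Cfsg Cfsg.Agent.Lib.Helper28 Cfsg.H5.TCk Cfsg.H5.StemTC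
open scoped commutatorElement

/-- `y = b x c x b⁻¹ x` -/
noncomputable def yP : Equiv.Perm GolayPt :=
  o11_b * o22_x * cubeTwist * o22_x * o11_b⁻¹ * o22_x

def ytab : Fin 24 → Fin 24 :=
  ![0, 2, 4, 15, 18, 12, 3, 8, 11, 22, 13, 5, 10, 7, 14, 1, 17, 19, 6, 21, 16, 9, 20, 23]

def yinvtab : Fin 24 → Fin 24 :=
  ![0, 15, 1, 6, 2, 11, 18, 13, 7, 21, 12, 8, 5, 10, 14, 3, 20, 16, 4, 17, 22, 19, 9, 23]

theorem yP_acts : TActs yP ytab := by
  have h := ((((o11_b_acts.mul o22_x_acts).mul cubeTwist_acts).mul o22_x_acts).mul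
    o11_binv_acts).mul o22_x_acts
  have htab : ∀ a, o11_btab (o22_xtab (cubeTwistTab (o22_xtab (o11_binvtab (o22_xtab a))))) =
      ytab a := by decide
  intro a
  have h1 := h a
  unfold yP
  rw [h1]
  exact congrArg _ (htab a)

theorem ytab_inv : ∀ a, ytab (yinvtab a) = a := by decide

theorem yP_mem : yP ∈ Spor.M22 := by
  unfold yP
  have hb := o11_b_mem_M22
  have hx := o22_x_mem_M22
  have hc := cubeTwist_mem_M22
  exact Subgroup.mul_mem _ (Subgroup.mul_mem _ (Subgroup.mul_mem _ (Subgroup.mul_mem _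
    (Subgroup.mul_mem _ hb hx) hc) hx) (Subgroup.inv_mem _ hb)) hx

/-- the generators as permutations -/
noncomputable def gP : ℕ → Equiv.Perm GolayPt
  | 0 => cubeTwist
  | 1 => yP
  | 2 => o11_b
  | _ => 1

theorem gP_mem : ∀ i, gP i ∈ Spor.M22
  | 0 => cubeTwist_mem_M22
  | 1 => yP_mem
  | 2 => o11_b_mem_M22
  | (n + 3) => Subgroup.one_mem _

/-- the generators as elements of `M22` -/
noncomputable def gM (i : ℕ) : ↥Spor.M22 := ⟨gP i, gP_mem i⟩

theorem gM_ge (i : ℕ) (hi : 3 ≤ i) : gM i = 1 := by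
  obtain ⟨k, rfl⟩ : ∃ k, i = k + 3 := ⟨i - 3, by omega⟩
  rfl

/-- the tables of the letters -/
def ltab : ℕ → Fin 24 → Fin 24
  | 0 => cubeTwistTab
  | 1 => cubeTwistInvTab
  | 2 => ytab
  | 3 => yinvtab
  | 4 => o11_btab
  | 5 => o11_binvtab
  | _ => fun a => a

theorem gl_acts : ∀ l, TActs (gl gP l) (ltab l)
  | 0 => cubeTwist_acts
  | 1 => cubeTwist_acts.inv cubeTwistInvTab o23_tab_inv.2.2
  | 2 => yP_acts
  | 3 => yP_acts.inv yinvtab ytab_inv
  | 4 => o11_b_acts
  | 5 => o11_binv_acts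
  | (n + 6) => by
    have h : gl gP (n + 6) = 1 := by
      unfold gl
      have h1 : (n + 6) / 2 = n / 2 + 3 := by omega
      rw [h1]
      simp only [gP]
      split_ifs <;> simp
    rw [h]
    exact TActs.one

/-- the table of a word -/
def wtab : List ℕ → Fin 24 → Fin 24
  | [], a => a
  | l :: w, a => ltab l (wtab w a)

theorem ev_acts (w : List ℕ) : TActs (ev gP w) (wtab w) := by
  induction w with
  | nil => exact TActs.one
  | cons l w ih => exact (gl_acts l).mul ih

theorem coe_ev (w : List ℕ) : ((ev gM w : ↥Spor.M22) : Equiv.Perm GolayPt) = ev gP w := by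
  have := map_ev Spor.M22.subtype gM w
  exact this

theorem ev_eq_one (w : List ℕ) (h : ∀ a, wtab w a = a) : ev gM w = 1 := by
  apply Subtype.ext
  rw [coe_ev]
  exact TActs.ext (ev_acts w) TActs.one h

theorem ev_eq_ev (w w' : List ℕ) (h : ∀ a, wtab w a = wtab w' a) : ev gM w = ev gM w' := by
  apply Subtype.ext
  rw [coe_ev, coe_ev]
  exact TActs.ext (ev_acts w) (ev_acts w') h

/-- `x = o22_x` as a word in `c, y` -/
theorem o22_x_eq : o22_x = ev gP [3, 0, 2, 0, 0, 3] :=
  TActs.ext o22_x_acts (ev_acts _) (by decide)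

theorem gM_gen : Subgroup.closure (Set.range fun i : Fin 3 => gM i.val) = ⊤ := by
  have h1 : (Subgroup.closure (Set.range fun i : Fin 3 => gM i.val)).map
      Spor.M22.subtype = Spor.M22 := by
    rw [MonoidHom.map_closure]
    apply le_antisymm
    · rw [Subgroup.closure_le]
      rintro _ ⟨_, ⟨i, rfl⟩, rfl⟩
      exact (gM i.val).2
    · conv_lhs => rw [← o22_gen]
      rw [Subgroup.closure_le]
      have hmem : ∀ i : Fin 3, gP i.val ∈ Subgroup.closure
          (⇑Spor.M22.subtype '' Set.range fun i : Fin 3 => gM i.val) := fun i =>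
        Subgroup.subset_closure ⟨gM i.val, ⟨i, rfl⟩, rfl⟩
      have hev : ∀ w : List ℕ, (∀ l ∈ w, l < 6) → ev gP w ∈ Subgroup.closure
          (⇑Spor.M22.subtype '' Set.range fun i : Fin 3 => gM i.val) := by
        intro w hw
        apply ev_mem gP _ 3 (fun i hi => hmem ⟨i, hi⟩) w
        rw [List.all_eq_true]
        intro l hl
        exact decide_eq_true (hw l hl)
      intro g hg
      simp only [Set.mem_insert_iff, Set.mem_range] at hg
      rcases hg with rfl | rfl | ⟨k, rfl⟩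
      · exact hmem 2
      · exact hmem 0
      · fin_cases k
        show o22_x ∈ _
        rw [o22_x_eq]
        exact hev _ (by decide)
  rw [eq_top_iff]
  intro x _
  have hx : x.1 ∈ (Subgroup.closure (Set.range fun i : Fin 3 => gM i.val)).map
      Spor.M22.subtype := by rw [h1]; exact x.2
  obtain ⟨y, hy, hyx⟩ := hx
  have : y = x := Subtype.ext hyx
  rw [← this]; exact hy

end Cfsg.Agent.Lib.Helper6.M22Mult
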