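import Cfsg.Agent.Lib.Helper6.M22MultRelet

/-! S2036 (helper6): the relators of the weak presentations `W4 = 4.M22` (`e = 8`) and `W3 = 3.M22` (`e = 3`). -/

set_option autoImplicit false

namespace Cfsg.Agent.Lib.Helper6.M22Mult

def ordX : List ℕ := [5, 7, 11]

def conjX : List CRel := [⟨[0], 2, 1, [], 3⟩, ⟨[3, 1, 4, 2], 0, 1, [0, 0, 3, 4], 2⟩, ⟨[3, 5, 0, 2], 0, 2, [0, 3, 4, 4], 1⟩]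

def cenX : List (List ℕ) := [[0, 2, 1, 3, 0, 3, 3, 0, 2, 2, 2], [0, 0, 0, 0, 3, 3, 3, 3, 1, 2, 2, 2], [0, 0, 0, 2, 2, 2, 1, 3, 1, 2, 2, 2], [0, 0, 2, 0, 0, 3, 0, 0, 2, 0, 0, 3], [2, 4, 2, 4, 2, 4, 2, 4, 2, 4], [0, 2, 5, 3, 3, 0, 3, 4, 0, 3, 0, 5], [0, 0, 3, 0, 4, 3, 0, 0, 3, 0, 4, 3]]

/-- two more exact conjugation relators: `u c^3 u⁻¹ = v c v⁻¹` in `⟨c, y⟩` and `u y u⁻¹ = y^2` -/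
def cjc : CRel := ⟨[2, 1, 1, 3], 0, 3, [0, 2], 1⟩

def cjy : CRel := ⟨[0, 3, 1, 3, 0, 0, 3, 0, 0], 1, 1, [], 2⟩

def extraX : List (List ℕ) := [cjc.word, cjy.word]

/-- the relators of the weak presentation with exponent `e` -/
def RX (e : ℕ) : List (List ℕ) := weakRels 3 ordX conjX cenX e ++ extraX

theorem cenX_length : cenX.length = 7 := rfl

theorem RX8_eq : RX 8 = [[0, 0, 0, 0, 0], [2, 2, 2, 2, 2, 2, 2], [4, 4, 4, 4, 4, 4, 4, 4, 4, 4, 4], [0, 4, 1, 5, 5, 5], [3, 1, 4, 2, 0, 3, 5, 0, 2, 0, 0, 3, 4, 1, 1, 5, 2, 1, 1], [3, 5, 0, 2, 0, 0, 3, 1, 4, 2, 0, 3, 4, 4, 1, 5, 5, 2, 1], [0, 2, 1, 3, 0, 3, 3, 0, 2, 2, 2, 7], [6, 0, 7, 1], [6, 2, 7, 3], [6, 4, 7, 5], [6, 6, 6, 6, 6, 6, 6, 6], [0, 0, 0, 0, 3, 3, 3, 3, 1, 2, 2, 2, 9], [8, 0, 9, 1], [8, 2, 9, 3], [8,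 4, 9, 5], [8, 6, 9, 7], [8, 8, 8, 8, 8, 8, 8, 8], [0, 0, 0, 2, 2, 2, 1, 3, 1, 2, 2, 2, 11], [10, 0, 11, 1], [10, 2, 11, 3], [10, 4, 11, 5], [10, 6, 11, 7], [10, 8, 11, 9], [10, 10, 10, 10, 10, 10, 10, 10], [0, 0, 2, 0, 0, 3, 0, 0, 2, 0, 0, 3, 13], [12, 0, 13, 1], [12, 2, 13, 3], [12, 4, 13, 5], [12, 6, 13, 7], [12, 8, 13, 9], [12, 10, 13, 11], [12, 12, 12, 12, 12, 12, 12, 12], [2, 4, 2, 4, 2, 4, 2, 4, 2, 4, 15], [14, 0, 15, 1], [14, 2, 15, 3], [14, 4, 15, 5], [14, 6, 15, 7], [14, 8, 15, 9], [14, 10, 15, 11], [14, 12, 15, 13], [14, 14, 14, 14, 14, 14, 14, 14], [0, 2, 5, 3, 3, 0, 3, 4, 0, 3, 0, 5, 17], [16, 0, 17, 1], [16, 2, 17, 3], [16, 4, 17, 5], [16, 6, 17, 7], [16, 8, 17, 9], [16, 10, 17, 11], [16, 12, 17, 13], [16, 14, 17, 15], [16, 16, 16, 16, 16, 16,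 16, 16], [0, 0, 3, 0, 4, 3, 0, 0, 3, 0, 4, 3, 19], [18, 0, 19, 1], [18, 2, 19, 3], [18, 4, 19, 5], [18, 6, 19, 7], [18, 8, 19, 9], [18, 10, 19, 11], [18, 12, 19, 13], [18, 14, 19, 15], [18, 16, 19, 17], [18, 18, 18, 18, 18, 18, 18, 18], [2, 1, 1, 3, 0, 0, 0, 2, 0, 0, 3, 0, 2, 1, 3, 1], [0, 3, 1, 3, 0, 0, 3, 0, 0, 2, 1, 1, 2, 1, 1, 2, 0, 2, 1, 3, 3]] := by decide

theorem RX3_eq : RX 3 = [[0, 0, 0, 0, 0], [2, 2, 2, 2, 2, 2, 2], [4, 4, 4, 4, 4, 4, 4, 4, 4, 4, 4], [0, 4, 1, 5, 5, 5], [3, 1, 4, 2, 0, 3, 5, 0, 2, 0, 0, 3, 4, 1, 1, 5, 2, 1, 1], [3, 5, 0, 2, 0, 0, 3, 1, 4, 2, 0, 3, 4, 4, 1, 5, 5, 2, 1], [0, 2, 1, 3, 0, 3, 3, 0, 2, 2, 2, 7], [6, 0, 7, 1], [6, 2, 7, 3], [6, 4, 7, 5], [6, 6, 6], [0, 0, 0, 0, 3, 3, 3, 3, 1, 2, 2, 2, 9], [8, 0, 9, 1], [8, 2, 9, 3], [8,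 4, 9, 5], [8, 6, 9, 7], [8, 8, 8], [0, 0, 0, 2, 2, 2, 1, 3, 1, 2, 2, 2, 11], [10, 0, 11, 1], [10, 2, 11, 3], [10, 4, 11, 5], [10, 6, 11, 7], [10, 8, 11, 9], [10, 10, 10], [0, 0, 2, 0, 0, 3, 0, 0, 2, 0, 0, 3, 13], [12, 0, 13, 1], [12, 2, 13, 3], [12, 4, 13, 5], [12, 6, 13, 7], [12, 8, 13, 9], [12, 10, 13, 11], [12, 12, 12], [2, 4, 2, 4, 2, 4, 2, 4, 2, 4, 15], [14, 0, 15, 1], [14, 2, 15, 3], [14, 4, 15, 5], [14, 6, 15, 7], [14, 8, 15, 9], [14, 10, 15, 11], [14, 12, 15, 13], [14, 14, 14], [0, 2, 5, 3, 3, 0, 3, 4, 0, 3, 0, 5, 17], [16, 0, 17, 1], [16, 2, 17, 3], [16, 4, 17, 5], [16, 6, 17, 7], [16, 8, 17, 9], [16, 10, 17, 11], [16, 12, 17, 13], [16, 14, 17, 15], [16, 16, 16], [0, 0, 3, 0, 4, 3, 0, 0, 3, 0, 4, 3, 19], [18, 0, 19, 1], [18, 2, 19, 3], [18, 4, 19,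 5], [18, 6, 19, 7], [18, 8, 19, 9], [18, 10, 19, 11], [18, 12, 19, 13], [18, 14, 19, 15], [18, 16, 19, 17], [18, 18, 18], [2, 1, 1, 3, 0, 0, 0, 2, 0, 0, 3, 0, 2, 1, 3, 1], [0, 3, 1, 3, 0, 0, 3, 0, 0, 2, 1, 1, 2, 1, 1, 2, 0, 2, 1, 3, 3]] := by decide

/-- the generators of the `A7` level inside the `M22` level: `c, y, z₁, …, z₄` -/
def phiX (i : ℕ) : ℕ := if i < 2 then i else i + 1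

end Cfsg.Agent.Lib.Helper6.M22Mult
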