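import Cfsg.Agent.Lib.Helper6.M22MultUpper
import Cfsg.Agent.Lib.Helper17.M22MultC
import Cfsg.Agent.Lib.Helper9.M22MultD

/-!
# S2036: the kernel of every finite stem extension of `M22` is an image of `C12` (helper6)
-/

set_option autoImplicit false
set_option linter.unusedVariables false

namespace Cfsg.Agent.Lib.Helper6.M22Mult

open Cfsg Cfsg.Agent.Lib.Helper28

instance finite_M22 : Finite ↥Spor.M22 :=
  Nat.finite_of_card_ne_zero (by rw [card_M22]; norm_num)

theorem fact3_M22 : (443520 : ℕ).factorization 3 = 2 := by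
  have h : (443520 : ℕ) = 3 ^ 2 * 49280 := by norm_num
  rw [h, Nat.factorization_mul (by norm_num) (by norm_num), Nat.factorization_pow]
  simp [Nat.Prime.factorization_self Nat.prime_three,
    Nat.factorization_eq_zero_of_not_dvd (show ¬ 3 ∣ 49280 by norm_num)]

theorem fact_le_one_M22 (p : ℕ) (hp : p.Prime) (h2 : p ≠ 2) (h3 : p ≠ 3) :
    (443520 : ℕ).factorization p ≤ 1 := by
  by_contra hcon
  push_neg at hcon
  have hdvd : p ^ 2 ∣ 443520 :=
    (Nat.Prime.pow_dvd_iff_le_factorization hp (by norm_num)).mpr hcon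
  have h : (443520 : ℕ) = 1152 * 385 := by norm_num
  rw [h] at hdvd
  have hc2 : Nat.Coprime p 2 := (Nat.coprime_primes hp Nat.prime_two).mpr h2
  have hc3 : Nat.Coprime p 3 := (Nat.coprime_primes hp Nat.prime_three).mpr h3
  have hc : Nat.Coprime (p ^ 2) 1152 := by
    have h1152 : (1152 : ℕ) = 2 ^ 7 * 3 ^ 2 := by norm_num
    rw [h1152]
    exact Nat.Coprime.mul_right (Nat.Coprime.pow _ _ hc2) (Nat.Coprime.pow _ _ hc3)
  have hd : p ^ 2 ∣ 385 := hc.dvd_of_dvd_mul_left hdvd
  have hle : p ^ 2 ≤ 385 := Nat.le_of_dvd (by norm_num) hd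
  have hp20 : p < 20 := by nlinarith
  have hp2 : 2 ≤ p := hp.two_le
  interval_cases p <;> omega

/-- **the upper bound half** -/
theorem upper_half (Γ : Type) [Group Γ] [Finite Γ] (σ : Γ →* ↥Spor.M22)
    (hσ : IsStemExtension σ) :
    ∃ π : Multiplicative (ZMod 12) →* σ.ker, Function.Surjective π := by
  refine surj_of_bounds ?_ ?_ ?_ ?_ Γ σ hσ
  · intro Γ _ _ σ hσ p hp hdvd
    by_contra hcon
    push_neg at hcon
    haveI : Fact p.Prime := ⟨hp⟩
    have h1 := (factorization_ker_le σ hσ p).1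
      (by rw [card_M22]; exact fact_le_one_M22 p hp hcon.1 hcon.2)
    have hpos : 0 < (Nat.card σ.ker).factorization p :=
      Nat.Prime.factorization_pos_of_dvd hp Nat.card_pos.ne' hdvd
    omega
  · intro Γ _ _ σ hσ
    haveI : Fact (Nat.Prime 3) := ⟨Nat.prime_three⟩
    exact (factorization_ker_le σ hσ 3).2 (by rw [card_M22]; exact fact3_M22)
  · intro Γ _ _ σ hσ hexp
    exact card_ker_le_four σ hσ hexp
  · intro Γ _ _ σ hσ hexp
    exact card_ker_le_two σ hσ hexp

end Cfsg.Agent.Lib.Helper6.M22Mult
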