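import Cfsg.Agent.Lib.Helper9.M22MultG1
import Cfsg.Agent.Lib.Helper11.M22MultG2
import Cfsg.Agent.Lib.Helper19.M22MultG3
import Cfsg.Agent.Lib.Helper6.M22MultExRels
import Cfsg.Agent.Lib.Helper6.M22MultUpperMain
import Cfsg.Agent.Lib.Helper6.M22TC.T4B
import Cfsg.Agent.Lib.Helper6.M22TC.T5B

/-!
# S2036: the groups presented by the weak relators `RX e` are covers of `M22` (helper6)
-/

set_option autoImplicit false
set_option linter.unusedVariables false

namespace Cfsg.Agent.Lib.Helper6.M22Mult

open Cfsg Cfsg.Agent.Lib.Helper28 Cfsg.H5.TCk Cfsg.H5.StemTC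

/-! ### membership in `weakRels` -/

section mem

variable (n : ℕ) (ord : List ℕ) (conj : List CRel) (cen : List (List ℕ)) (e : ℕ)

theorem pow_rel_mem (i : ℕ) (hi : i < n) :
    List.replicate (ord.getD i 0) (2 * i) ∈ weakRels n ord conj cen e := by
  unfold weakRels
  apply List.mem_append_left
  apply List.mem_append_left
  exact List.mem_map.mpr ⟨i, List.mem_range.mpr hi, rfl⟩

theorem conj_rel_mem (t : CRel) (ht : t ∈ conj) : t.word ∈ weakRels n ord conj cen e := by
  unfold weakRels
  apply List.mem_append_left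
  apply List.mem_append_right
  exact List.mem_map.mpr ⟨t, ht, rfl⟩

theorem cen_rel_mem (j : ℕ) (hj : j < cen.length) :
    cen.getD j [] ++ [2 * (n + j) + 1] ∈ weakRels n ord conj cen e := by
  unfold weakRels
  apply List.mem_append_right
  rw [List.mem_flatMap]
  refine ⟨j, List.mem_range.mpr hj, ?_⟩
  apply List.mem_append_left
  apply List.mem_append_left
  exact List.mem_singleton.mpr rfl

theorem cw_rel_mem (j : ℕ) (hj : j < cen.length) (g : ℕ) (hg : g < n + j) :
    cw (n + j) g ∈ weakRels n ord conj cen e := by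
  unfold weakRels
  apply List.mem_append_right
  rw [List.mem_flatMap]
  refine ⟨j, List.mem_range.mpr hj, ?_⟩
  apply List.mem_append_left
  apply List.mem_append_right
  exact List.mem_map.mpr ⟨g, List.mem_range.mpr hg, rfl⟩

end mem

/-- the commutator relator says that the two generators commute -/
theorem commute_of_cw {Γ : Type*} [Group Γ] (γ : ℕ → Γ) (z g : ℕ) (h : ev γ (cw z g) = 1) :
    γ z * γ g = γ g * γ z := by
  unfold cw at h
  simp only [ev, gl_even, gl_odd, mul_one] at h
  have h2 : γ z * γ g * ((γ z)⁻¹ * (γ g)⁻¹) = 1 := by rw [← h]; group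
  calc γ z * γ g = γ z * γ g * ((γ z)⁻¹ * (γ g)⁻¹) * (γ g * γ z) := by group
    _ = γ g * γ z := by rw [h2, one_mul]

/-! ### the cover -/

theorem std10 : Cfsg.Agent.Lib.Helper5.Sp62.IsStd 10 Cfsg.Agent.Lib.Helper6.M22TC.Cod10.dec :=
  isStd_stdDec 10 _ _ (by decide)

theorem std6 : Cfsg.Agent.Lib.Helper5.Sp62.IsStd 6 Cfsg.Agent.Lib.Helper6.M22TC.Cod6.dec :=
  isStd_stdDec 6 _ _ (by decide)

theorem gM_gen10 : Subgroup.closure (Set.range fun i : Fin 10 => gM i.val) = ⊤ := by
  rw [eq_top_iff, ← gM_gen]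
  apply Subgroup.closure_mono
  rintro _ ⟨i, rfl⟩
  exact ⟨⟨i.val, by omega⟩, rfl⟩

/-- the conjugation relators used for perfectness -/
def cjX (i : ℕ) : CRel := if i = 0 then cjc else if i = 1 then cjy else ⟨[0], 2, 1, [], 3⟩

def mX (i : ℕ) : ℕ := if i = 0 then 3 else if i = 1 then 6 else 5

theorem cjX_mem (e : ℕ) (i : ℕ) (hi : i < 3) : (cjX i).word ∈ RX e := by
  unfold RX
  interval_cases i
  · apply List.mem_append_right
    simp [cjX, extraX]
  · apply List.mem_append_right
    simp [cjX, extraX]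
  · apply List.mem_append_left
    apply conj_rel_mem
    simp [cjX, conjX]

/-- **the group presented by `RX e` is a cover of `M22` with kernel of order `k`**, given the two
coset enumerations and the model -/
theorem exists_cover_RX (e k : ℕ) (hk : 0 < k)
    (hlet : lettersLt (2 * 10) (RX e) = true)
    (hM22 : ∀ r ∈ RX e, ∀ a, wtab r a = a)
    (bases1 subs1 : List (List ℕ)) (n1 : ℕ)
    (hb1 : Finite (PresentedGroup (Cfsg.Agent.Helper4.TC.relSet
          Cfsg.Agent.Lib.Helper6.M22TC.Cod10.dec bases1) ⧸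
        (Subgroup.closure (Cfsg.Agent.Helper4.TC.relSet
          Cfsg.Agent.Lib.Helper6.M22TC.Cod10.dec subs1)).map
          (PresentedGroup.mk (Cfsg.Agent.Helper4.TC.relSet
            Cfsg.Agent.Lib.Helper6.M22TC.Cod10.dec bases1))) ∧
      Nat.card (PresentedGroup (Cfsg.Agent.Helper4.TC.relSet
          Cfsg.Agent.Lib.Helper6.M22TC.Cod10.dec bases1) ⧸
        (Subgroup.closure (Cfsg.Agent.Helper4.TC.relSet
          Cfsg.Agent.Lib.Helper6.M22TC.Cod10.dec subs1)).map
          (PresentedGroup.mk (Cfsg.Agent.Helper4.TC.relSet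
            Cfsg.Agent.Lib.Helper6.M22TC.Cod10.dec bases1))) ≤ n1)
    (hsubs1 : subs1 = [[0], [2]])
    (hok1 : bases1.all (okWord (RX e)) = true)
    (hlb1 : lettersLt (2 * 10) bases1 = true)
    (bases2 : List (List ℕ)) (n2 : ℕ)
    (hb2 : Finite (PresentedGroup (Cfsg.Agent.Helper4.TC.relSet
          Cfsg.Agent.Lib.Helper6.M22TC.Cod6.dec bases2) ⧸
        (Subgroup.closure (Cfsg.Agent.Helper4.TC.relSet
          Cfsg.Agent.Lib.Helper6.M22TC.Cod6.dec [[2 * 1]])).map
          (PresentedGroup.mk (Cfsg.Agent.Helper4.TC.relSet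
            Cfsg.Agent.Lib.Helper6.M22TC.Cod6.dec bases2))) ∧
      Nat.card (PresentedGroup (Cfsg.Agent.Helper4.TC.relSet
          Cfsg.Agent.Lib.Helper6.M22TC.Cod6.dec bases2) ⧸
        (Subgroup.closure (Cfsg.Agent.Helper4.TC.relSet
          Cfsg.Agent.Lib.Helper6.M22TC.Cod6.dec [[2 * 1]])).map
          (PresentedGroup.mk (Cfsg.Agent.Helper4.TC.relSet
            Cfsg.Agent.Lib.Helper6.M22TC.Cod6.dec bases2))) ≤ n2)
    (hok2 : (bases2.map (relet phiX)).all (okWord (RX e)) = true)
    (hlb2 : lettersLt (2 * 6) bases2 = true)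
    (hn : n1 * (n2 * 7) = k * 443520)
    (jz : ℕ) (hjz : jz < 7)
    (hM : ∃ (Δ : Type) (_ : Group Δ) (p : ℕ → Δ), (∀ r ∈ RX e, ev p r = 1) ∧
      ∀ m, 0 < m → m < k → ev p [2 * (3 + jz)] ^ m ≠ 1) :
    ∃ (Γ : Type) (_ : Group Γ) (_ : Finite Γ) (σ : Γ →* ↥Spor.M22), IsStemExtension σ ∧
      Nonempty (σ.ker ≃* Multiplicative (ZMod k)) := by
  classical
  set γ := cgenW 10 (RX e) with hγ
  have hrel : ∀ r ∈ RX e, ev γ r = 1 := fun r hr => cgenW_rel 10 (RX e) r hr
  have hgen : Subgroup.closure (Set.range fun i : Fin 10 => γ i.val) = ⊤ := closure_cgenW 10 (RX e)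
  have hweak : ∀ r ∈ weakRels 3 ordX conjX cenX e, ev γ r = 1 := fun r hr =>
    hrel r (List.mem_append_left _ hr)
  -- the defining relators of the central generators
  have hzdef : ∀ j < 7, γ (3 + j) = ev γ (cenX.getD j []) := by
    intro j hj
    have h1 := hweak _ (cen_rel_mem 3 ordX conjX cenX e j (by rw [cenX_length]; exact hj))
    rw [ev_append] at h1
    have h2 : ev γ [2 * (3 + j) + 1] = (γ (3 + j))⁻¹ := by
      simp only [ev, mul_one, gl_odd]
    rw [h2] at h1
    exact (mul_inv_eq_one.mp h1).symm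
  have hcomm : ∀ j < 7, ∀ g < 3 + j, γ (3 + j) * γ g = γ g * γ (3 + j) := by
    intro j hj g hg
    exact commute_of_cw γ (3 + j) g
      (hweak _ (cw_rel_mem 3 ordX conjX cenX e j (by rw [cenX_length]; exact hj) g hg))
  have hpow : ∀ i < 3, γ i ^ ordX.getD i 0 = 1 := by
    intro i hi
    rw [← ev_replicate_even]
    exact hweak _ (pow_rel_mem 3 ordX conjX cenX e i hi)
  -- the order of the cover
  have hcenlet : ∀ j < 7, ∀ l ∈ cenX.getD j [], l < 2 * 3 := by decide
  have hcenlet4 : ∀ j < 4, (cenX.getD j []).all (fun l => decide (l < 2 * 2)) = true := by decide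
  have hC : Finite (CoverW 10 (RX e)) ∧ Nat.card (CoverW 10 (RX e)) ≤ k * Nat.card ↥Spor.M22 := by
    have h := card_le_two_level γ (RX e) hrel 10 hgen Cfsg.Agent.Lib.Helper6.M22TC.Cod10.dec std10
      bases1 subs1 n1 hb1 hok1 hlb1 (by rw [hsubs1]; decide) 6 phiX
      (by intro i hi; unfold phiX; split_ifs <;> omega)
      (by
        rw [hsubs1]
        intro s hs
        simp only [List.mem_cons, List.not_mem_nil, or_false] at hs
        rcases hs with rfl | rfl
        · exact ⟨0, by norm_num, rfl⟩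
        · exact ⟨1, by norm_num, rfl⟩)
      (by
        intro i hi
        set M := Subgroup.closure {x : CoverW 10 (RX e) | ∃ s ∈ subs1, x = ev γ s} with hMdef
        have hm0 : γ 0 ∈ M := Subgroup.subset_closure
          ⟨[0], by rw [hsubs1]; simp, by simp only [ev, mul_one]; exact (gl_even γ 0).symm⟩
        have hm1 : γ 1 ∈ M := Subgroup.subset_closure
          ⟨[2], by rw [hsubs1]; simp, by simp only [ev, mul_one]; exact (gl_even γ 1).symm⟩
        have hmem : ∀ i < 2, γ i ∈ M := by
          intro i hi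
          interval_cases i
          · exact hm0
          · exact hm1
        by_cases h2 : i < 2
        · have : phiX i = i := by unfold phiX; rw [if_pos h2]
          rw [this]
          exact hmem i h2
        · have : phiX i = 3 + (i - 2) := by unfold phiX; rw [if_neg h2]; omega
          rw [this, hzdef (i - 2) (by omega)]
          exact ev_mem γ M 2 hmem _ (hcenlet4 (i - 2) (by omega)))
      Cfsg.Agent.Lib.Helper6.M22TC.Cod6.dec std6 bases2 1 (by norm_num) n2 hb2 hok2 hlb2 7
      (by norm_num) (by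
        have : phiX 1 = 1 := rfl
        rw [this]
        exact hpow 1 (by norm_num))
    rw [hn] at h
    rw [card_M22]
    exact h
  -- centrality of `z`
  have hzcen : ev γ [2 * (3 + jz)] ∈ Subgroup.center (CoverW 10 (RX e)) := by
    have hz : ev γ [2 * (3 + jz)] = γ (3 + jz) := by
      simp only [ev, mul_one, gl_even]
    rw [hz, Subgroup.mem_center_iff]
    have hle : Subgroup.closure (Set.range fun i : Fin 10 => γ i.val) ≤
        Subgroup.centralizer {γ (3 + jz)} := by
      rw [Subgroup.closure_le]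
      rintro _ ⟨i, rfl⟩
      rw [SetLike.mem_coe, Subgroup.mem_centralizer_iff]
      intro h hh
      rw [Set.mem_singleton_iff] at hh
      subst hh
      show γ (3 + jz) * γ i.val = γ i.val * γ (3 + jz)
      rcases lt_trichotomy i.val (3 + jz) with hlt | heq | hgt
      · exact hcomm jz hjz i.val hlt
      · rw [heq]
      · obtain ⟨j, hj⟩ : ∃ j, i.val = 3 + j := ⟨i.val - 3, by omega⟩
        have hj7 : j < 7 := by have := i.isLt; omega
        rw [hj]
        exact (hcomm j hj7 (3 + jz) (by omega)).symm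
    intro x
    have hx : x ∈ Subgroup.centralizer {γ (3 + jz)} := hle (by rw [hgen]; trivial)
    rw [Subgroup.mem_centralizer_iff] at hx
    exact (hx _ rfl).symm
  -- perfectness
  have hP : commutator (CoverW 10 (RX e)) = ⊤ := by
    refine commutator_eq_top_of_conj γ 3 ordX cenX hgen hpow ?_ cjX mX ?_
    · intro j hj
      rw [cenX_length] at hj
      exact ⟨hcenlet j hj, hweak _ (cen_rel_mem 3 ordX conjX cenX e j (by rw [cenX_length]; exact hj))⟩
    · intro i hi
      refine ⟨?_, hrel _ (cjX_mem e i hi), ?_⟩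
      · interval_cases i <;> rfl
      · interval_cases i <;> rfl
  -- the image in `M22`
  have hgrel : ∀ r ∈ RX e, ev gM r = 1 := fun r hr => ev_eq_one r (hM22 r hr)
  have hgz : ev gM [2 * (3 + jz)] = 1 := by
    simp only [ev, mul_one, gl_even]
    exact gM_ge _ (by omega)
  exact exists_cover_of_weak 10 (RX e) hlet gM hgrel gM_gen10 k hk hC [2 * (3 + jz)]
    (by intro l hl; rw [List.mem_singleton] at hl; omega) hgz hzcen hM hP

end Cfsg.Agent.Lib.Helper6.M22Mult
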