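import Cfsg.Agent.Lib.Helper6.M22MultM3

/-! S2036 (helper6): model M3, relator check, part 0. -/

set_option autoImplicit false

namespace Cfsg.Agent.Lib.Helper6.M22Mult.M3

def chunk0 : List (List ℕ) := [[0, 0, 0, 0, 0], [2, 2, 2, 2, 2, 2, 2], [4, 4, 4, 4, 4, 4, 4, 4, 4, 4, 4], [0, 4, 1, 5, 5, 5], [3, 1, 4, 2, 0, 3, 5, 0, 2, 0, 0, 3, 4, 1, 1, 5, 2, 1, 1], [3, 5, 0, 2, 0, 0, 3, 1, 4, 2, 0, 3, 4, 4, 1, 5, 5, 2, 1], [0, 2, 1, 3, 0, 3, 3, 0, 2, 2, 2, 7], [6, 0, 7, 1], [6, 2, 7, 3], [6, 4, 7, 5], [6, 6, 6], [0, 0, 0, 0, 3, 3, 3, 3, 1, 2, 2, 2, 9], [8, 0, 9, 1], [8, 2, 9, 3], [8, 4, 9, 5], [8, 6, 9, 7], [8, 8, 8], [0, 0, 0, 2, 2, 2, 1, 3, 1, 2, 2, 2, 11], [10, 0, 11, 1], [10, 2, 11, 3], [10, 4, 11, 5], [10, 6, 11, 7], [10, 8, 11, 9], [10, 10, 10], [0, 0, 2, 0, 0, 3, 0, 0, 2, 0, 0,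 3, 13], [12, 0, 13, 1], [12, 2, 13, 3], [12, 4, 13, 5], [12, 6, 13, 7], [12, 8, 13, 9], [12, 10, 13, 11]]

set_option maxRecDepth 1000000 in
theorem chunk0_ok : chunk0.all fixAll = true := by decide +kernel

end Cfsg.Agent.Lib.Helper6.M22Mult.M3
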