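import Cfsg.Agent.Lib.Helper6.M22MultM3

/-! S2036 (helper6): model M3, relator check, part 1. -/

set_option autoImplicit false

namespace Cfsg.Agent.Lib.Helper6.M22Mult.M3

def chunk1 : List (List ℕ) := [[12, 12, 12], [2, 4, 2, 4, 2, 4, 2, 4, 2, 4, 15], [14, 0, 15, 1], [14, 2, 15, 3], [14, 4, 15, 5], [14, 6, 15, 7], [14, 8, 15, 9], [14, 10, 15, 11], [14, 12, 15, 13], [14, 14, 14], [0, 2, 5, 3, 3, 0, 3, 4, 0, 3, 0, 5, 17], [16, 0, 17, 1], [16, 2, 17, 3], [16, 4, 17, 5], [16, 6, 17, 7], [16, 8, 17, 9], [16, 10, 17, 11], [16, 12, 17, 13], [16, 14, 17, 15], [16, 16, 16], [0, 0, 3, 0, 4, 3, 0, 0, 3, 0, 4, 3, 19], [18, 0, 19, 1], [18, 2, 19, 3], [18, 4, 19, 5], [18, 6, 19, 7], [18, 8, 19, 9], [18, 10, 19, 11], [18, 12, 19, 13], [18, 14, 19, 15], [18, 16, 19, 17], [18, 18, 18], [2, 1, 1, 3, 0, 0, 0, 2, 0, 0, 3, 0, 2, 1, 3, 1], [0, 3, 1, 3,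 0, 0, 3, 0, 0, 2, 1, 1, 2, 1, 1, 2, 0, 2, 1, 3, 3]]

set_option maxRecDepth 1000000 in
theorem chunk1_ok : chunk1.all fixAll = true := by decide +kernel

end Cfsg.Agent.Lib.Helper6.M22Mult.M3
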