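import Cfsg.Agent.Lib.Helper6.M22MultM4

/-! S2036 (helper6): model M4, relator check, part 1. -/

set_option autoImplicit false

namespace Cfsg.Agent.Lib.Helper6.M22Mult.M4

def chunk1 : List (List ℕ) := [[3, 1, 4, 2, 0, 3, 5, 0, 2, 0, 0, 3, 4, 1, 1, 5, 2, 1, 1], [3, 5, 0, 2, 0, 0, 3, 1, 4, 2, 0, 3, 4, 4, 1, 5, 5, 2, 1]]

set_option maxRecDepth 1000000 in
theorem chunk1_ok : chunk1.all fixAll = true := by decide +kernel

end Cfsg.Agent.Lib.Helper6.M22Mult.M4
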