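import Cfsg.Agent.Lib.Helper6.M22MultM4

/-! S2036 (helper6): model M4, relator check, part 2. -/

set_option autoImplicit false

namespace Cfsg.Agent.Lib.Helper6.M22Mult.M4

def chunk2 : List (List ℕ) := [[0, 2, 1, 3, 0, 3, 3, 0, 2, 2, 2, 7], [6, 0, 7, 1], [6, 2, 7, 3], [6, 4, 7, 5], [6, 6, 6, 6, 6, 6, 6, 6], [0, 0, 0, 0, 3, 3, 3, 3, 1, 2, 2, 2, 9]]

set_option maxRecDepth 1000000 in
theorem chunk2_ok : chunk2.all fixAll = true := by decide +kernel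

end Cfsg.Agent.Lib.Helper6.M22Mult.M4
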