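import Cfsg.Agent.Lib.Helper6.M22MultM4

/-! S2036 (helper6): model M4, relator check, part 3. -/

set_option autoImplicit false

namespace Cfsg.Agent.Lib.Helper6.M22Mult.M4

def chunk3 : List (List ℕ) := [[8, 0, 9, 1], [8, 2, 9, 3], [8, 4, 9, 5], [8, 6, 9, 7], [8, 8, 8, 8, 8, 8, 8, 8], [0, 0, 0, 2, 2, 2, 1, 3, 1, 2, 2, 2, 11], [10, 0, 11, 1], [10, 2, 11, 3]]

set_option maxRecDepth 1000000 in
theorem chunk3_ok : chunk3.all fixAll = true := by decide +kernel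

end Cfsg.Agent.Lib.Helper6.M22Mult.M4
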