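import Cfsg.Agent.Lib.Helper6.M22MultM4

/-! S2036 (helper6): model M4, relator check, part 4. -/

set_option autoImplicit false

namespace Cfsg.Agent.Lib.Helper6.M22Mult.M4

def chunk4 : List (List ℕ) := [[10, 4, 11, 5], [10, 6, 11, 7], [10, 8, 11, 9], [10, 10, 10, 10, 10, 10, 10, 10], [0, 0, 2, 0, 0, 3, 0, 0, 2, 0, 0, 3, 13], [12, 0, 13, 1], [12, 2, 13, 3], [12, 4, 13, 5]]

set_option maxRecDepth 1000000 in
theorem chunk4_ok : chunk4.all fixAll = true := by decide +kernel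

end Cfsg.Agent.Lib.Helper6.M22Mult.M4
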