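import Cfsg.Agent.Lib.Helper6.M22MultM4

/-! S2036 (helper6): model M4, relator check, part 5. -/

set_option autoImplicit false

namespace Cfsg.Agent.Lib.Helper6.M22Mult.M4

def chunk5 : List (List ℕ) := [[12, 6, 13, 7], [12, 8, 13, 9], [12, 10, 13, 11], [12, 12, 12, 12, 12, 12, 12, 12], [2, 4, 2, 4, 2, 4, 2, 4, 2, 4, 15], [14, 0, 15, 1], [14, 2, 15, 3], [14, 4, 15, 5]]

set_option maxRecDepth 1000000 in
theorem chunk5_ok : chunk5.all fixAll = true := by decide +kernel

end Cfsg.Agent.Lib.Helper6.M22Mult.M4
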