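import Cfsg.Agent.Lib.Helper6.M22MultM4

/-! S2036 (helper6): model M4, relator check, part 6. -/

set_option autoImplicit false

namespace Cfsg.Agent.Lib.Helper6.M22Mult.M4

def chunk6 : List (List ℕ) := [[14, 6, 15, 7], [14, 8, 15, 9], [14, 10, 15, 11], [14, 12, 15, 13], [14, 14, 14, 14, 14, 14, 14, 14], [0, 2, 5, 3, 3, 0, 3, 4, 0, 3, 0, 5, 17], [16, 0, 17, 1], [16, 2, 17, 3]]

set_option maxRecDepth 1000000 in
theorem chunk6_ok : chunk6.all fixAll = true := by decide +kernel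

end Cfsg.Agent.Lib.Helper6.M22Mult.M4
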