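import Cfsg.Agent.Lib.Helper6.M22MultM4

/-! S2036 (helper6): model M4, relator check, part 7. -/

set_option autoImplicit false

namespace Cfsg.Agent.Lib.Helper6.M22Mult.M4

def chunk7 : List (List ℕ) := [[16, 4, 17, 5], [16, 6, 17, 7], [16, 8, 17, 9], [16, 10, 17, 11], [16, 12, 17, 13], [16, 14, 17, 15], [16, 16, 16, 16, 16, 16, 16, 16], [0, 0, 3, 0, 4, 3, 0, 0, 3, 0, 4, 3, 19]]

set_option maxRecDepth 1000000 in
theorem chunk7_ok : chunk7.all fixAll = true := by decide +kernel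

end Cfsg.Agent.Lib.Helper6.M22Mult.M4
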