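import Cfsg.Agent.Lib.Helper6.M22MultM4

/-! S2036 (helper6): model M4, relator check, part 8. -/

set_option autoImplicit false

namespace Cfsg.Agent.Lib.Helper6.M22Mult.M4

def chunk8 : List (List ℕ) := [[18, 0, 19, 1], [18, 2, 19, 3], [18, 4, 19, 5], [18, 6, 19, 7], [18, 8, 19, 9], [18, 10, 19, 11], [18, 12, 19, 13], [18, 14, 19, 15], [18, 16, 19, 17], [18, 18, 18, 18, 18, 18, 18, 18]]

set_option maxRecDepth 1000000 in
theorem chunk8_ok : chunk8.all fixAll = true := by decide +kernel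

end Cfsg.Agent.Lib.Helper6.M22Mult.M4
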