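import Cfsg.Agent.Lib.Helper6.M22MultExRels
import Cfsg.Agent.Lib.Helper6.M22MultM4R0
import Cfsg.Agent.Lib.Helper6.M22MultM4R1
import Cfsg.Agent.Lib.Helper6.M22MultM4R2
import Cfsg.Agent.Lib.Helper6.M22MultM4R3
import Cfsg.Agent.Lib.Helper6.M22MultM4R4
import Cfsg.Agent.Lib.Helper6.M22MultM4R5
import Cfsg.Agent.Lib.Helper6.M22MultM4R6
import Cfsg.Agent.Lib.Helper6.M22MultM4R7
import Cfsg.Agent.Lib.Helper6.M22MultM4R8
import Cfsg.Agent.Lib.Helper6.M22MultM4R9

/-! S2036 (helper6): the permutation model M4 of the weak presentation `RX 8`. -/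

set_option autoImplicit false

namespace Cfsg.Agent.Lib.Helper6.M22Mult.M4

open Cfsg.H5.TCk

theorem RX_split : RX 8 = chunk0 ++ chunk1 ++ chunk2 ++ chunk3 ++ chunk4 ++ chunk5 ++ chunk6 ++ chunk7 ++ chunk8 ++ chunk9 := by decide

theorem all_ok : (RX 8).all fixAll = true := by
  rw [RX_split]
  simp only [List.all_append, chunk0_ok, chunk1_ok, chunk2_ok, chunk3_ok, chunk4_ok, chunk5_ok, chunk6_ok, chunk7_ok, chunk8_ok, chunk9_ok, Bool.and_self]

set_option maxRecDepth 100000 in
theorem moves_1 : moves0 [14] = true := by decide +kernel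

set_option maxRecDepth 100000 in
theorem moves_2 : moves0 [14, 14] = true := by decide +kernel

set_option maxRecDepth 100000 in
theorem moves_3 : moves0 [14, 14, 14] = true := by decide +kernel

theorem ev_pow_replicate (w : List ℕ) (m : ℕ) : ev mp w ^ m = ev mp (List.replicate m w).flatten := by
  induction m with
  | zero => simp [ev]
  | succ m ih =>
    rw [List.replicate_succ, List.flatten_cons, Cfsg.H5.TCk.ev_append, pow_succ', ih]

/-- the model: the relators hold and the central element has order at least `4` -/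
theorem model : ∃ (Δ : Type) (_ : Group Δ) (p : ℕ → Δ), (∀ r ∈ RX 8, ev p r = 1) ∧
    ∀ m, 0 < m → m < 4 → ev p [14] ^ m ≠ 1 := by
  refine ⟨Equiv.Perm (Fin 4928), inferInstance, mp, ?_, ?_⟩
  · intro r hr
    exact ev_eq_one r (List.all_eq_true.mp all_ok r hr)
  · intro m h0 hm
    rw [ev_pow_replicate]
    interval_cases m
    · exact ev_ne_one _ moves_1
    · exact ev_ne_one _ moves_2
    · exact ev_ne_one _ moves_3

end Cfsg.Agent.Lib.Helper6.M22Mult.M4
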