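import Cfsg.Agent.Lib.Helper6.M22MultExist
import Cfsg.Agent.Lib.Helper6.M22MultM3Main
import Cfsg.Agent.Lib.Helper6.M22MultM4Main
import Cfsg.Agent.Lib.Helper9.FibreStem

/-!
# S2036: `M22` has a finite stem extension with kernel `C12` (helper6)

`4 · M22` and `3 · M22` are the groups presented by the weak relators `RX 8` and `RX 3`; the fibre product
of the two covers has kernel `C4 × C3 = C12`.
-/

set_option autoImplicit false
set_option linter.unusedVariables false

namespace Cfsg.Agent.Lib.Helper6.M22Mult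

open Cfsg Cfsg.Agent.Lib.Helper28 Cfsg.H5.TCk

set_option maxRecDepth 100000 in
theorem letters8 : lettersLt (2 * 10) (RX 8) = true := by decide +kernel

set_option maxRecDepth 100000 in
theorem letters3 : lettersLt (2 * 10) (RX 3) = true := by decide +kernel

set_option maxRecDepth 100000 in
theorem m22_rel8 : ∀ r ∈ RX 8, ∀ a, wtab r a = a := by decide +kernel

set_option maxRecDepth 100000 in
theorem m22_rel3 : ∀ r ∈ RX 3, ∀ a, wtab r a = a := by decide +kernel

set_option maxRecDepth 100000 in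
theorem ok1_8 : Cfsg.Agent.Lib.Helper6.M22TC.T1.bases.all (okWord (RX 8)) = true := by
  decide +kernel

set_option maxRecDepth 100000 in
theorem ok2_8 : (Cfsg.Agent.Lib.Helper6.M22TC.T2.bases.map (relet phiX)).all (okWord (RX 8)) = true := by
  decide +kernel

set_option maxRecDepth 100000 in
theorem ok1_3 : Cfsg.Agent.Lib.Helper6.M22TC.T4.bases.all (okWord (RX 3)) = true := by
  decide +kernel

set_option maxRecDepth 100000 in
theorem ok2_3 : (Cfsg.Agent.Lib.Helper6.M22TC.T5.bases.map (relet phiX)).all (okWord (RX 3)) = true := by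
  decide +kernel

set_option maxRecDepth 100000 in
theorem lb1_3 : lettersLt (2 * 10) Cfsg.Agent.Lib.Helper6.M22TC.T4.bases = true := by decide +kernel

set_option maxRecDepth 100000 in
theorem lb2_3 : lettersLt (2 * 6) Cfsg.Agent.Lib.Helper6.M22TC.T5.bases = true := by decide +kernel

/-- `4 · M22` -/
theorem cover4 : ∃ (Γ : Type) (_ : Group Γ) (_ : Finite Γ) (σ : Γ →* ↥Spor.M22),
    IsStemExtension σ ∧ Nonempty (σ.ker ≃* Multiplicative (ZMod 4)) :=
  exists_cover_RX 8 4 (by norm_num) letters8 m22_rel8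
    Cfsg.Agent.Lib.Helper6.M22TC.T1.bases Cfsg.Agent.Lib.Helper6.M22TC.T1.subsL
    Cfsg.Agent.Lib.Helper6.M22TC.T1.n Cfsg.Agent.Lib.Helper6.M22TC.T1.bound T1.subs ok1_8
    T1.letters_b Cfsg.Agent.Lib.Helper6.M22TC.T2.bases Cfsg.Agent.Lib.Helper6.M22TC.T2.n
    Cfsg.Agent.Lib.Helper6.M22TC.T2.bound ok2_8 T2.letters_b (by rw [T1.n_eq, T2.n_eq]) 4
    (by norm_num) M4.model

/-- `3 · M22` -/
theorem cover3 : ∃ (Γ : Type) (_ : Group Γ) (_ : Finite Γ) (σ : Γ →* ↥Spor.M22),
    IsStemExtension σ ∧ Nonempty (σ.ker ≃* Multiplicative (ZMod 3)) :=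
  exists_cover_RX 3 3 (by norm_num) letters3 m22_rel3
    Cfsg.Agent.Lib.Helper6.M22TC.T4.bases Cfsg.Agent.Lib.Helper6.M22TC.T4.subsL
    Cfsg.Agent.Lib.Helper6.M22TC.T4.n Cfsg.Agent.Lib.Helper6.M22TC.T4.bound rfl ok1_3
    lb1_3 Cfsg.Agent.Lib.Helper6.M22TC.T5.bases Cfsg.Agent.Lib.Helper6.M22TC.T5.n
    Cfsg.Agent.Lib.Helper6.M22TC.T5.bound ok2_3 lb2_3 (by decide) 0
    (by norm_num) M3.model

/-- **the existence half** -/
theorem exists_half : ∃ (Γ : Type) (_ : Group Γ) (_ : Finite Γ) (σ : Γ →* ↥Spor.M22),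
    IsStemExtension σ ∧ Nonempty (σ.ker ≃* Multiplicative (ZMod 12)) :=
  Cfsg.Agent.Lib.Helper9.FibreStem.exists_stem_mul ↥Spor.M22 4 3 (by decide) cover4 cover3

/-- **S2036** -/
theorem main : HasCyclicSchurMultiplier ↥Spor.M22 12 :=
  ⟨exists_half, fun Γ _ _ σ hσ => upper_half Γ σ hσ⟩

end Cfsg.Agent.Lib.Helper6.M22Mult
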