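import Cfsg.Agent.Lib.Helper28.BSGSPerm
import Cfsg.Agent.H5.TCkSound
import Cfsg.Agent.Lib.Helper6.M22MultM4Tab

/-! S2036 (helper6): the permutation model M4 on 4928 points: checker (pattern of helper22's `Sp62M`). -/

set_option autoImplicit false

namespace Cfsg.Agent.Lib.Helper6.M22Mult.M4

open Cfsg.H5.TCk Cfsg.Agent.Lib.Helper28.BSGS

set_option maxRecDepth 1000000 in
theorem pairs : (List.range 10).all
    (fun i => pairOK 4928 13 (mtab (2 * i)) (mtab (2 * i + 1))) = true := by decide +kernel

theorem pair (i : ℕ) (hi : i < 10) : pairOK 4928 13 (mtab (2 * i)) (mtab (2 * i + 1)) = true :=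
  List.all_eq_true.mp pairs i (List.mem_range.mpr hi)

/-- the generators of the model -/
def mp (i : ℕ) : Equiv.Perm (Fin 4928) := permOf 4928 13 (mtab (2 * i)) (mtab (2 * i + 1))

theorem gl_acts (l : ℕ) (hl : l < 20) (a : Fin 4928) :
    (gl mp l a).val = look 13 (mtab l) a.val := by
  by_cases h : l % 2 = 0
  · obtain ⟨k, rfl⟩ : ∃ k, l = 2 * k := ⟨l / 2, by omega⟩
    have h1 : gl mp (2 * k) = mp k := by
      unfold gl
      rw [if_pos h, Nat.mul_div_cancel_left k (by norm_num)]
    rw [h1]
    unfold mp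
    exact permOf_apply (pair k (by omega)) a
  · obtain ⟨k, rfl⟩ : ∃ k, l = 2 * k + 1 := ⟨l / 2, by omega⟩
    have h1 : gl mp (2 * k + 1) = (mp k)⁻¹ := by
      unfold gl
      rw [if_neg h]
      have : (2 * k + 1) / 2 = k := by omega
      rw [this]
    rw [h1]
    unfold mp
    exact permOf_inv_apply (pair k (by omega)) a

theorem ev_acts (w : List ℕ) (hw : w.all (fun l => decide (l < 20)) = true) :
    ActsByW 4928 13 (ev mp w) (w.map mtab) := by
  induction w with
  | nil => exact actsByW_one 4928 13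
  | cons l w ih =>
    rw [List.all_cons, Bool.and_eq_true] at hw
    exact actsByW_cons (gl_acts l (of_decide_eq_true hw.1)) (ih hw.2)

/-- Boolean test: the word fixes every point -/
def fixAll (w : List ℕ) : Bool :=
  w.all (fun l => decide (l < 20)) &&
    (List.range 4928).all fun a => evalW 13 (w.map mtab) a == a

theorem ev_eq_one (w : List ℕ) (h : fixAll w = true) : ev mp w = 1 := by
  unfold fixAll at h
  rw [Bool.and_eq_true] at h
  obtain ⟨h1, h2⟩ := h
  rw [List.all_eq_true] at h2
  ext a
  rw [ev_acts w h1 a]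
  have := h2 a.val (List.mem_range.mpr a.isLt)
  rw [beq_iff_eq] at this
  rw [this]
  rfl

/-- Boolean test: the word moves the point `0` -/
def moves0 (w : List ℕ) : Bool :=
  w.all (fun l => decide (l < 20)) && !(evalW 13 (w.map mtab) 0 == 0)

theorem ev_ne_one (w : List ℕ) (h : moves0 w = true) : ev mp w ≠ 1 := by
  unfold moves0 at h
  rw [Bool.and_eq_true] at h
  obtain ⟨h1, h2⟩ := h
  intro h3
  have h4 := ev_acts w h1 (⟨0, by norm_num⟩ : Fin 4928)
  rw [h3] at h4
  simp only [Equiv.Perm.coe_one, id_eq] at h4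
  rw [← h4] at h2
  simp at h2

end Cfsg.Agent.Lib.Helper6.M22Mult.M4
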