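import Cfsg.Agent.H5.StemTC
import Cfsg.Agent.Lib.Helper5.Sp62Bridge
import Cfsg.Agent.Lib.Helper4.TC.Std
import Cfsg.Agent.Lib.Helper11.M22MultA

/-!
# S2036: a generic "weak presentation" coset-enumeration bound (helper6)

Generators `x i` (`i < n`) of `Γ` of orders prime to the central kernel of `σ : Γ →* G`, relators of
three kinds: orders, conjugation relators `u g^a u⁻¹ = v g^b v⁻¹` (exact by uniqueness of lifts of order
prime to the kernel) and relators of `G` which are only central in `Γ`; the latter get names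
`z_j` (extra generators), commute with everything and have `e`-th power `1`.
-/

set_option autoImplicit false
set_option linter.unusedVariables false
set_option linter.unusedSectionVars false

namespace Cfsg.Agent.Lib.Helper6.M22Mult

open Cfsg Cfsg.H5.TCk Cfsg.H5.StemTC Cfsg.H5.StemLift

universe u

/-- a conjugation relator `u g^a u⁻¹ = v g^b v⁻¹` -/
structure CRel where
  u : List ℕ
  g : ℕ
  a : ℕ
  v : List ℕ
  b : ℕ

def CRel.lhs (t : CRel) : List ℕ := t.u ++ List.replicate t.a (2 * t.g) ++ winv t.u

def CRel.rhs (t : CRel) : List ℕ := t.v ++ List.replicate t.b (2 * t.g) ++ winv t.v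

def CRel.word (t : CRel) : List ℕ := t.lhs ++ winv t.rhs

/-- commutator word of two generators -/
def cw (z g : ℕ) : List ℕ := [2 * z, 2 * g, 2 * z + 1, 2 * g + 1]

/-- the relators of the weak presentation -/
def weakRels (n : ℕ) (ord : List ℕ) (conj : List CRel) (cen : List (List ℕ)) (e : ℕ) :
    List (List ℕ) :=
  (List.range n).map (fun i => List.replicate (ord.getD i 0) (2 * i)) ++ conj.map CRel.word ++
    (List.range cen.length).flatMap fun j =>
      [cen.getD j [] ++ [2 * (n + j) + 1]] ++ (List.range (n + j)).map (fun g => cw (n + j) g) ++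
        [List.replicate e (2 * (n + j))]

section

variable {Γ : Type u} [Group Γ]

/-- all generators: the lifts and the values of the central relators -/
def full (n : ℕ) (x : ℕ → Γ) (cen : List (List ℕ)) (i : ℕ) : Γ :=
  if i < n then x i else ev x (cen.getD (i - n) [])

theorem ev_replicate_even (γ : ℕ → Γ) (i k : ℕ) : ev γ (List.replicate k (2 * i)) = γ i ^ k := by
  induction k with
  | zero => simp [ev]
  | succ k ih => rw [List.replicate_succ, ev, ih, gl_even, pow_succ']

theorem ev_congr_lt (γ γ' : ℕ → Γ) (n : ℕ) (h : ∀ i < n, γ i = γ' i) (w : List ℕ)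
    (hw : ∀ l ∈ w, l < 2 * n) : ev γ w = ev γ' w := by
  induction w with
  | nil => rfl
  | cons l w ih =>
    have hl : l < 2 * n := hw l (List.mem_cons_self ..)
    have hgl : gl γ l = gl γ' l := by
      unfold gl
      have : l / 2 < n := by omega
      rw [h _ this]
    simp only [ev]
    rw [hgl, ih (fun l' hl' => hw l' (List.mem_cons_of_mem _ hl'))]

theorem conj_pow (U X : Γ) (k : ℕ) : (U * X * U⁻¹) ^ k = U * X ^ k * U⁻¹ := by
  induction k with
  | zero => simp
  | succ k ih => rw [pow_succ, ih, pow_succ]; group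

end

/-- the word or its inverse is one of the relators -/
def okWord (rels : List (List ℕ)) (b : List ℕ) : Bool := decide (b ∈ rels) || decide (winv b ∈ rels)

theorem ev_of_ok {Γ : Type u} [Group Γ] (γ : ℕ → Γ) (rels : List (List ℕ))
    (hrel : ∀ r ∈ rels, ev γ r = 1) (b : List ℕ) (h : okWord rels b = true) : ev γ b = 1 := by
  unfold okWord at h
  rw [Bool.or_eq_true, decide_eq_true_eq, decide_eq_true_eq] at h
  rcases h with h | h
  · exact hrel b h
  · have := hrel _ h
    rw [ev_winv, inv_eq_one] at this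
    exact this

def lettersLt (m : ℕ) (B : List (List ℕ)) : Bool := B.all fun b => b.all fun l => decide (l < m)

theorem lt_of_lettersLt {m : ℕ} {B : List (List ℕ)} (h : lettersLt m B = true) :
    ∀ b ∈ B, ∀ l ∈ b, l < m := by
  intro b hb l hl
  unfold lettersLt at h
  rw [List.all_eq_true] at h
  have h1 := h b hb
  rw [List.all_eq_true] at h1
  exact of_decide_eq_true (h1 l hl)

/-- the standard decoding is standard -/
theorem isStd_stdDec (t : ℕ) (gens : List (Fin t)) (x0 : Fin t)
    (h : ∀ i : Fin t, gens.getD i.val x0 = i) :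
    Cfsg.Agent.Lib.Helper5.Sp62.IsStd t (Cfsg.Agent.Helper4.TC.stdDec gens x0) := by
  intro c hc
  unfold Cfsg.Agent.Helper4.TC.stdDec
  have h2 : c / 2 < t := by omega
  have h3 := h ⟨c / 2, h2⟩
  simp only at h3
  refine ⟨by rw [h3], ?_⟩
  show Nat.beq (c % 2) 0 = decide (c % 2 = 0)
  rcases Nat.mod_two_eq_zero_or_one c with h4 | h4 <;> rw [h4] <;> rfl

/-- **The bound.** -/
theorem card_le_of_weak_cert {Γ G : Type u} [Group Γ] [Group G] [Finite Γ] (σ : Γ →* G)
    (hcen : σ.ker ≤ Subgroup.center Γ) (e : ℕ) (hexp : ∀ z ∈ σ.ker, z ^ e = 1)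
    (n : ℕ) (γ : ℕ → G) (hγ : ∀ i, n ≤ i → γ i = 1) (x : ℕ → Γ) (hx : ∀ i < n, σ (x i) = γ i)
    (ord : List ℕ) (hord : ∀ i < n, x i ^ ord.getD i 0 = 1)
    (hcop : ∀ i < n, (Nat.card σ.ker).Coprime (ord.getD i 0))
    (hgen : Subgroup.closure (Set.range fun i : Fin n => x i.val) = ⊤)
    (conj : List CRel) (hconj : ∀ t ∈ conj, t.g < n ∧ ev γ t.word = 1)
    (cen : List (List ℕ)) (hcenw : ∀ r ∈ cen, (∀ l ∈ r, l < 2 * n) ∧ ev γ r = 1)
    (extra : List (List ℕ)) (hextra : ∀ r ∈ extra, ev (full n x cen) r = 1)
    (K : Subgroup Γ) [Finite K]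
    (dec : ℕ → Cfsg.Agent.Helper4.TC.Letter (Fin (n + cen.length)))
    (hdec : Cfsg.Agent.Lib.Helper5.Sp62.IsStd (n + cen.length) dec)
    (bases sgens : List (List ℕ)) (bound : ℕ)
    (hb : Finite (PresentedGroup (Cfsg.Agent.Helper4.TC.relSet dec bases) ⧸
        (Subgroup.closure (Cfsg.Agent.Helper4.TC.relSet dec sgens)).map
          (PresentedGroup.mk (Cfsg.Agent.Helper4.TC.relSet dec bases))) ∧
      Nat.card (PresentedGroup (Cfsg.Agent.Helper4.TC.relSet dec bases) ⧸
        (Subgroup.closure (Cfsg.Agent.Helper4.TC.relSet dec sgens)).map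
          (PresentedGroup.mk (Cfsg.Agent.Helper4.TC.relSet dec bases))) ≤ bound)
    (hbok : bases.all (okWord (weakRels n ord conj cen e ++ extra)) = true)
    (hlb : lettersLt (2 * (n + cen.length)) bases = true)
    (hls : lettersLt (2 * (n + cen.length)) sgens = true)
    (hsg : ∀ g ∈ sgens, ev (full n x cen) g ∈ K) :
    Nat.card Γ ≤ bound * Nat.card K := by
  classical
  set f := full n x cen with hf
  have hf_lt : ∀ i < n, f i = x i := fun i hi => by rw [hf]; unfold full; rw [if_pos hi]
  have hf_ge : ∀ j, f (n + j) = ev x (cen.getD j []) := fun j => by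
    rw [hf]; unfold full
    rw [if_neg (by omega)]
    congr 2
    omega
  -- words in the base letters
  have hev_base : ∀ w : List ℕ, (∀ l ∈ w, l < 2 * n) → ev f w = ev x w :=
    fun w hw => ev_congr_lt f x n hf_lt w hw
  -- images
  have hσx : ∀ w : List ℕ, (∀ l ∈ w, l < 2 * n) → σ (ev x w) = ev γ w := by
    intro w hw
    rw [map_ev]
    exact ev_congr_lt _ _ n hx w hw
  have hσf : ∀ i, σ (f i) = γ i := by
    intro i
    by_cases hi : i < n
    · rw [hf_lt i hi, hx i hi]
    · obtain ⟨j, rfl⟩ : ∃ j, i = n + j := ⟨i - n, by omega⟩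
      rw [hf_ge, hγ _ (by omega)]
      by_cases hj : j < cen.length
      · have hmem : cen.getD j [] ∈ cen := by
          rw [List.getD_eq_getElem _ _ hj]; exact List.getElem_mem hj
        rw [hσx _ (hcenw _ hmem).1, (hcenw _ hmem).2]
      · rw [List.getD_eq_default _ _ (by omega)]
        simp [ev]
  have hσev : ∀ w : List ℕ, σ (ev f w) = ev γ w := by
    intro w
    rw [map_ev]
    congr 1
    funext i
    exact hσf i
  have hz_ker : ∀ j, f (n + j) ∈ σ.ker := fun j => by
    rw [MonoidHom.mem_ker, hσf, hγ _ (by omega)]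
  have hz_cen : ∀ j, f (n + j) ∈ Subgroup.center Γ := fun j => hcen (hz_ker j)
  -- the relators hold
  have hrel : ∀ r ∈ weakRels n ord conj cen e ++ extra, ev f r = 1 := by
    intro r hr
    rw [List.mem_append] at hr
    rcases hr with hr | hr
    swap
    · exact hextra r hr
    unfold weakRels at hr
    rw [List.mem_append, List.mem_append] at hr
    rcases hr with (hr | hr) | hr
    · rw [List.mem_map] at hr
      obtain ⟨i, hi, rfl⟩ := hr
      rw [List.mem_range] at hi
      rw [ev_replicate_even, hf_lt i hi, hord i hi]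
    · rw [List.mem_map] at hr
      obtain ⟨t, ht, rfl⟩ := hr
      obtain ⟨hg, hw⟩ := hconj t ht
      have hpowL : (ev f t.lhs) ^ ord.getD t.g 0 = 1 := by
        unfold CRel.lhs
        rw [ev_append, ev_append, ev_winv, ev_replicate_even, conj_pow, ← pow_mul, mul_comm,
          pow_mul, hf_lt _ hg, hord _ hg, one_pow]
        group
      have hpowR : (ev f t.rhs) ^ ord.getD t.g 0 = 1 := by
        unfold CRel.rhs
        rw [ev_append, ev_append, ev_winv, ev_replicate_even, conj_pow, ← pow_mul, mul_comm,
          pow_mul, hf_lt _ hg, hord _ hg, one_pow]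
        group
      have himg : σ (ev f t.lhs) = σ (ev f t.rhs) := by
        have h1 : σ (ev f t.word) = 1 := by rw [hσev, hw]
        unfold CRel.word at h1
        rw [ev_append, ev_winv, map_mul, map_inv, mul_inv_eq_one] at h1
        exact h1
      have heq := lift_unique σ hcen (hcop _ hg) hpowL hpowR himg
      unfold CRel.word
      rw [ev_append, ev_winv, heq, mul_inv_cancel]
    · rw [List.mem_flatMap] at hr
      obtain ⟨j, hj, hr⟩ := hr
      rw [List.mem_range] at hj
      rw [List.mem_append, List.mem_append] at hr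
      have hmem : cen.getD j [] ∈ cen := by
        rw [List.getD_eq_getElem _ _ hj]; exact List.getElem_mem hj
      rcases hr with (hr | hr) | hr
      · rw [List.mem_singleton] at hr
        subst hr
        rw [ev_append, hev_base _ (hcenw _ hmem).1]
        simp only [ev, mul_one, gl_odd]
        rw [hf_ge, mul_inv_cancel]
      · rw [List.mem_map] at hr
        obtain ⟨g, _, rfl⟩ := hr
        unfold cw
        simp only [ev, mul_one, gl_odd, gl_even]
        have hc := Subgroup.mem_center_iff.mp (hz_cen j) (f g)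
        calc f (n + j) * (f g * ((f (n + j))⁻¹ * (f g)⁻¹))
            = (f (n + j) * f g) * (f (n + j))⁻¹ * (f g)⁻¹ := by group
          _ = (f g * f (n + j)) * (f (n + j))⁻¹ * (f g)⁻¹ := by rw [hc]
          _ = 1 := by group
      · rw [List.mem_singleton] at hr
        subst hr
        rw [ev_replicate_even]
        exact hexp _ (hz_ker j)
  -- generation
  have hgen' : Subgroup.closure (Set.range fun i : Fin (n + cen.length) => f i.val) = ⊤ := by
    rw [eq_top_iff, ← hgen, Subgroup.closure_le]
    rintro _ ⟨i, rfl⟩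
    apply Subgroup.subset_closure
    exact ⟨⟨i.val, by omega⟩, hf_lt i.val i.isLt⟩
  exact (Cfsg.Agent.Lib.Helper5.Sp62.card_le_of_bound dec hdec bases sgens bound hb
    (lt_of_lettersLt hlb) (lt_of_lettersLt hls) f
    (fun b hb' => ev_of_ok f _ hrel b (List.all_eq_true.mp hbok b hb')) hgen' K hsg).2

end Cfsg.Agent.Lib.Helper6.M22Mult
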