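import Cfsg.Agent.Lib.Helper6.M22MultUpperA
import Cfsg.Agent.Lib.Helper6.M22MultCerts

/-!
# S2036: the upper bound for the kernel of a stem extension of `M22` with kernel of exponent `8`
resp. `2` (helper6)
-/

set_option autoImplicit false
set_option linter.unusedVariables false
set_option linter.unusedSectionVars false

namespace Cfsg.Agent.Lib.Helper6.M22Mult

open Cfsg Cfsg.Agent.Lib.Helper28 Cfsg.H5.TCk Cfsg.H5.StemTC Cfsg.H5.StemLift

theorem card_M22 : Nat.card ↥Spor.M22 = 443520 := by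
  rw [M22_eq_G22]
  exact card_G22

/-- a subgroup of `2`-power exponent has order prime to every odd number -/
theorem coprime_of_exp {Γ : Type*} [Group Γ] (K : Subgroup Γ) [Finite K] (k : ℕ)
    (hexp : ∀ z ∈ K, z ^ 2 ^ k = 1) (m : ℕ) (hm : Odd m) : (Nat.card K).Coprime m := by
  haveI : Fact (Nat.Prime 2) := ⟨Nat.prime_two⟩
  have hp : IsPGroup 2 K := fun g => ⟨k, Subtype.ext (by simpa using hexp g g.2)⟩
  obtain ⟨n, hn⟩ := IsPGroup.iff_card.mp hp
  rw [hn]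
  exact Nat.Coprime.pow_left n (Nat.coprime_two_left.mpr hm)

theorem ev_replicate_gM (i k : ℕ) (h : ∀ a, wtab (List.replicate k (2 * i)) a = a) :
    gM i ^ k = 1 := by
  rw [← ev_replicate_even]
  exact ev_eq_one _ h

theorem gM0_pow : gM 0 ^ 5 = 1 := ev_replicate_gM 0 5 (by decide)

theorem gM1_pow : gM 1 ^ 7 = 1 := ev_replicate_gM 1 7 (by decide)

theorem gM2_pow : gM 2 ^ 11 = 1 := ev_replicate_gM 2 11 (by decide)

/-! ### the `A7` level -/

/-- generators of `HA` as a sequence -/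
noncomputable def gA (i : ℕ) : ↥HA :=
  if i = 0 then ⟨gM 0, gM0_mem⟩ else if i = 1 then ⟨gM 1, gM1_mem⟩ else 1

theorem gA_ge (i : ℕ) (hi : 2 ≤ i) : gA i = 1 := by
  unfold gA
  rw [if_neg (by omega), if_neg (by omega)]

theorem coe_gA (i : ℕ) (hi : i < 2) : ((gA i : ↥HA) : ↥Spor.M22) = gM i := by
  interval_cases i
  · rfl
  · rfl

theorem coe_ev_gA (w : List ℕ) (hw : ∀ l ∈ w, l < 2 * 2) :
    ((ev gA w : ↥HA) : ↥Spor.M22) = ev gM w := by
  have h1 : ((ev gA w : ↥HA) : ↥Spor.M22) = HA.subtype (ev gA w) := rfl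
  rw [h1, map_ev]
  exact ev_congr_lt _ _ 2 (fun i hi => coe_gA i hi) w hw

theorem ev_gA_eq_one (w : List ℕ) (hw : ∀ l ∈ w, l < 2 * 2) (h : ∀ a, wtab w a = a) :
    ev gA w = 1 := by
  apply Subtype.ext
  rw [coe_ev_gA w hw]
  exact ev_eq_one w h

theorem closure_gA : Subgroup.closure (Set.range fun i : Fin 2 => gA i.val) = ⊤ := by
  have h : Subgroup.closure (((↑) : ↥HA → ↥Spor.M22) ⁻¹' ({gM 0, gM 1} : Set ↥Spor.M22)) = ⊤ :=
    Subgroup.closure_closure_coe_preimage (k := ({gM 0, gM 1} : Set ↥Spor.M22))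
  rw [eq_top_iff, ← h]
  apply Subgroup.closure_mono
  rintro ⟨x, hx⟩ hx'
  have hx2 : x = gM 0 ∨ x = gM 1 := by simpa using hx'
  rcases hx2 with rfl | rfl
  · exact ⟨0, rfl⟩
  · exact ⟨1, rfl⟩

section levelA

variable {Γ : Type} [Group Γ] [Finite Γ] (σ : Γ →* ↥Spor.M22)

/-- the two lifts as a sequence in the lift of `HA` -/
def yL (x0 x1 : Γ) (h0L : x0 ∈ liftSub σ HA) (h1L : x1 ∈ liftSub σ HA) (i : ℕ) :
    ↥(liftSub σ HA) :=
  if i = 0 then ⟨x0, h0L⟩ else ⟨x1, h1L⟩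

/-- the `A7` level: the lift of `HA` has order at most `7 * bound` -/
theorem card_L_le (hσ : IsStemExtension σ) (e k : ℕ) (hek : e = 2 ^ k)
    (hexp : ∀ z ∈ σ.ker, z ^ e = 1)
    (x0 x1 : Γ) (h0L : x0 ∈ liftSub σ HA) (h1L : x1 ∈ liftSub σ HA)
    (h0 : σ x0 = gM 0) (h1 : σ x1 = gM 1) (h05 : x0 ^ 5 = 1) (h17 : x1 ^ 7 = 1)
    (conj : List CRel)
    (hconj : ∀ t ∈ conj, t.g < 2 ∧ (∀ l ∈ t.word, l < 2 * 2) ∧ ∀ a, wtab t.word a = a)
    (cen : List (List ℕ)) (hcenw : ∀ r ∈ cen, (∀ l ∈ r, l < 2 * 2) ∧ ∀ a, wtab r a = a)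
    (extra : List (List ℕ))
    (hextra : ∀ r ∈ extra, ev (full 2 (yL σ x0 x1 h0L h1L) cen) r = 1)
    (dec : ℕ → Cfsg.Agent.Helper4.TC.Letter (Fin (2 + cen.length)))
    (hdec : Cfsg.Agent.Lib.Helper5.Sp62.IsStd (2 + cen.length) dec)
    (bases sgens : List (List ℕ)) (bound : ℕ)
    (hb : Finite (PresentedGroup (Cfsg.Agent.Helper4.TC.relSet dec bases) ⧸
        (Subgroup.closure (Cfsg.Agent.Helper4.TC.relSet dec sgens)).map
          (PresentedGroup.mk (Cfsg.Agent.Helper4.TC.relSet dec bases))) ∧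
      Nat.card (PresentedGroup (Cfsg.Agent.Helper4.TC.relSet dec bases) ⧸
        (Subgroup.closure (Cfsg.Agent.Helper4.TC.relSet dec sgens)).map
          (PresentedGroup.mk (Cfsg.Agent.Helper4.TC.relSet dec bases))) ≤ bound)
    (hbok : bases.all (okWord (weakRels 2 [5, 7] conj cen e ++ extra)) = true)
    (hlb : lettersLt (2 * (2 + cen.length)) bases = true)
    (hls : lettersLt (2 * (2 + cen.length)) sgens = true)
    (hsub : sgens = [[2]]) :
    Nat.card ↥(liftSub σ HA) ≤ bound * 7 := by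
  classical
  set τ := liftHom σ HA hσ.1 HA_perfect with hτdef
  have hτ : IsStemExtension τ := liftHom_stem σ HA hσ HA_perfect
  have hτval : ∀ z : ↥(liftSub σ HA), ((τ z : ↥HA) : ↥Spor.M22) = σ z.1 := fun z => rfl
  have hexpτ : ∀ z ∈ τ.ker, z ^ e = 1 := by
    intro z hz
    apply Subtype.ext
    have h2 : σ z.1 = 1 := by
      rw [← hτval, MonoidHom.mem_ker.mp hz]
      rfl
    have := hexp z.1 (MonoidHom.mem_ker.mpr h2)
    simpa using this
  have hcopτ : ∀ m, Odd m → (Nat.card τ.ker).Coprime m := fun m hm =>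
    coprime_of_exp τ.ker k (by rw [← hek]; exact hexpτ) m hm
  set y := yL σ x0 x1 h0L h1L with hy
  have hy0 : y 0 = ⟨x0, h0L⟩ := by rw [hy]; unfold yL; rw [if_pos rfl]
  have hy1 : y 1 = ⟨x1, h1L⟩ := by rw [hy]; unfold yL; rw [if_neg (by norm_num)]
  have hx : ∀ i < 2, τ (y i) = gA i := by
    intro i hi
    apply Subtype.ext
    rw [hτval, coe_gA i hi]
    interval_cases i
    · rw [hy0]; exact h0
    · rw [hy1]; exact h1
  have hord : ∀ i < 2, y i ^ ([5, 7] : List ℕ).getD i 0 = 1 := by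
    intro i hi
    apply Subtype.ext
    interval_cases i
    · rw [hy0]; simpa using h05
    · rw [hy1]; simpa using h17
  have hcop : ∀ i < 2, (Nat.card τ.ker).Coprime (([5, 7] : List ℕ).getD i 0) := by
    intro i hi
    interval_cases i
    · exact hcopτ 5 (by decide)
    · exact hcopτ 7 (by decide)
  have hgen : Subgroup.closure (Set.range fun i : Fin 2 => y i.val) = ⊤ := by
    apply eq_top_of_map_eq_top τ hτ
    rw [MonoidHom.map_closure, ← closure_gA]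
    congr 1
    ext z
    constructor
    · rintro ⟨_, ⟨i, rfl⟩, rfl⟩
      exact ⟨i, (hx i.val i.isLt).symm⟩
    · rintro ⟨i, rfl⟩
      exact ⟨y i.val, ⟨i, rfl⟩, hx i.val i.isLt⟩
  have hconj' : ∀ t ∈ conj, t.g < 2 ∧ ev gA t.word = 1 := fun t ht =>
    ⟨(hconj t ht).1, ev_gA_eq_one _ (hconj t ht).2.1 (hconj t ht).2.2⟩
  have hcenw' : ∀ r ∈ cen, (∀ l ∈ r, l < 2 * 2) ∧ ev gA r = 1 := fun r hr =>
    ⟨(hcenw r hr).1, ev_gA_eq_one _ (hcenw r hr).1 (hcenw r hr).2⟩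
  have h7 : (y 1) ^ 7 = 1 := by
    apply Subtype.ext
    rw [hy1]; simpa using h17
  have hordpos : 0 < orderOf (y 1) :=
    orderOf_pos_iff.mpr (isOfFinOrder_iff_pow_eq_one.mpr ⟨7, by norm_num, h7⟩)
  have hordle : orderOf (y 1) ≤ 7 := orderOf_le_of_pow_eq_one (by norm_num) h7
  haveI : Finite (Subgroup.zpowers (y 1)) := inferInstance
  have hmain := card_le_of_weak_cert τ hτ.2.1 e hexpτ 2 gA gA_ge y hx [5, 7] hord hcop hgen conj
    hconj' cen hcenw' extra hextra (Subgroup.zpowers (y 1)) dec hdec bases sgens bound hb hbok hlb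
    hls (by
      rw [hsub]
      intro g hg
      rw [List.mem_singleton] at hg
      subst hg
      have : ev (full 2 y cen) [2] = y 1 := by
        have h1 : ev (full 2 y cen) [2] = gl (full 2 y cen) (2 * 1) * 1 := rfl
        rw [h1, mul_one, gl_even]
        unfold full
        rw [if_pos (by norm_num)]
      rw [this]
      exact Subgroup.mem_zpowers _)
  refine le_trans hmain (Nat.mul_le_mul_left _ ?_)
  rw [Nat.card_zpowers]
  exact hordle

end levelA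

section levelM

variable {Γ : Type} [Group Γ] [Finite Γ] (σ : Γ →* ↥Spor.M22)

/-- the three lifts as a sequence -/
def xM (x0 x1 x2 : Γ) (i : ℕ) : Γ := if i = 0 then x0 else if i = 1 then x1 else x2

set_option maxRecDepth 100000 in
theorem T1_conj_ok : ∀ t ∈ T1.conj, t.g < 3 ∧ ∀ a, wtab t.word a = a := by decide

set_option maxRecDepth 100000 in
theorem T1_cen_ok : ∀ r ∈ T1.cen, (∀ l ∈ r, l < 2 * 3) ∧ ∀ a, wtab r a = a := by decide

/-- the `M22` level: canonical lifts of `c`, `y` in the lift of `HA`, and `|Γ| ≤ 352 |L|` -/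
theorem card_le_L (hσ : IsStemExtension σ) (k : ℕ) (hk : k ≤ 3)
    (hexp : ∀ z ∈ σ.ker, z ^ 2 ^ k = 1) :
    ∃ x0 x1 : Γ, x0 ∈ liftSub σ HA ∧ x1 ∈ liftSub σ HA ∧ σ x0 = gM 0 ∧ σ x1 = gM 1 ∧
      x0 ^ 5 = 1 ∧ x1 ^ 7 = 1 ∧ Nat.card Γ ≤ 352 * Nat.card ↥(liftSub σ HA) := by
  classical
  have hexp8 : ∀ z ∈ σ.ker, z ^ 8 = 1 := by
    intro z hz
    have h8 : 8 = 2 ^ k * 2 ^ (3 - k) := by
      rw [← pow_add]
      have : k + (3 - k) = 3 := by omega
      rw [this]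
      norm_num
    rw [h8, pow_mul, hexp z hz, one_pow]
  have hcop : ∀ m, Odd m → (Nat.card σ.ker).Coprime m := fun m hm =>
    coprime_of_exp σ.ker k hexp m hm
  obtain ⟨x0, h0L, h0, h05⟩ := exists_lift_pow_eq_one σ hσ HA HA_perfect (gM 0) gM0_mem 5
    (hcop 5 (by decide)) gM0_pow
  obtain ⟨x1, h1L, h1, h17⟩ := exists_lift_pow_eq_one σ hσ HA HA_perfect (gM 1) gM1_mem 7
    (hcop 7 (by decide)) gM1_pow
  obtain ⟨x2, h2, h211⟩ := exists_lift_pow_eq_one' σ hσ.1 hσ.2.1 (gM 2) 11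
    (hcop 11 (by decide)) gM2_pow
  refine ⟨x0, x1, h0L, h1L, h0, h1, h05, h17, ?_⟩
  set x := xM x0 x1 x2 with hxdef
  have hx0 : x 0 = x0 := rfl
  have hx1 : x 1 = x1 := rfl
  have hx2 : x 2 = x2 := rfl
  have hx : ∀ i < 3, σ (x i) = gM i := by
    intro i hi
    interval_cases i
    · rw [hx0]; exact h0
    · rw [hx1]; exact h1
    · rw [hx2]; exact h2
  have hord : ∀ i < 3, x i ^ T1.ord.getD i 0 = 1 := by
    intro i hi
    interval_cases i
    · rw [hx0]; exact h05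
    · rw [hx1]; exact h17
    · rw [hx2]; exact h211
  have hcop' : ∀ i < 3, (Nat.card σ.ker).Coprime (T1.ord.getD i 0) := by
    intro i hi
    interval_cases i
    · exact hcop 5 (by decide)
    · exact hcop 7 (by decide)
    · exact hcop 11 (by decide)
  have hgen : Subgroup.closure (Set.range fun i : Fin 3 => x i.val) = ⊤ := by
    apply eq_top_of_map_eq_top σ hσ
    rw [MonoidHom.map_closure, ← gM_gen]
    congr 1
    ext z
    constructor
    · rintro ⟨_, ⟨i, rfl⟩, rfl⟩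
      exact ⟨i, (hx i.val i.isLt).symm⟩
    · rintro ⟨i, rfl⟩
      exact ⟨x i.val, ⟨i, rfl⟩, hx i.val i.isLt⟩
  have hconj : ∀ t ∈ T1.conj, t.g < 3 ∧ ev gM t.word = 1 := fun t ht =>
    ⟨(T1_conj_ok t ht).1, ev_eq_one _ (T1_conj_ok t ht).2⟩
  have hcenw : ∀ r ∈ T1.cen, (∀ l ∈ r, l < 2 * 3) ∧ ev gM r = 1 := fun r hr =>
    ⟨(T1_cen_ok r hr).1, ev_eq_one _ (T1_cen_ok r hr).2⟩
  have hmain := card_le_of_weak_cert σ hσ.2.1 8 hexp8 3 gM gM_ge x hx T1.ord hord hcop' hgen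
    T1.conj hconj T1.cen hcenw T1.extra (by intro r hr; simp [T1.extra] at hr) (liftSub σ HA)
    Cfsg.Agent.Lib.Helper6.M22TC.Cod10.dec T1.std Cfsg.Agent.Lib.Helper6.M22TC.T1.bases
    Cfsg.Agent.Lib.Helper6.M22TC.T1.subsL Cfsg.Agent.Lib.Helper6.M22TC.T1.n
    Cfsg.Agent.Lib.Helper6.M22TC.T1.bound T1.bases_ok T1.letters_b T1.letters_s (by
      rw [T1.subs]
      intro g hg
      simp only [List.mem_cons, List.not_mem_nil, or_false] at hg
      rcases hg with rfl | rfl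
      · have : ev (full 3 x T1.cen) [0] = x0 := by
          have h1 : ev (full 3 x T1.cen) [0] = gl (full 3 x T1.cen) (2 * 0) * 1 := rfl
          rw [h1, mul_one, gl_even]
          unfold full
          rw [if_pos (by norm_num)]
          exact hx0
        rw [this]; exact h0L
      · have : ev (full 3 x T1.cen) [2] = x1 := by
          have h1 : ev (full 3 x T1.cen) [2] = gl (full 3 x T1.cen) (2 * 1) * 1 := rfl
          rw [h1, mul_one, gl_even]
          unfold full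
          rw [if_pos (by norm_num)]
          exact hx1
        rw [this]; exact h1L)
  rw [T1.n_eq] at hmain
  exact hmain

theorem card_eq_ker_mul (hσ : IsStemExtension σ) : Nat.card Γ = 443520 * Nat.card σ.ker := by
  rw [Subgroup.card_eq_card_quotient_mul_card_subgroup σ.ker,
    Nat.card_congr (QuotientGroup.quotientKerEquivOfSurjective σ hσ.1).toEquiv, card_M22]

set_option maxRecDepth 100000 in
theorem T2_conj_ok :
    ∀ t ∈ T2.conj, t.g < 2 ∧ (∀ l ∈ t.word, l < 2 * 2) ∧ ∀ a, wtab t.word a = a := by decide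

set_option maxRecDepth 100000 in
theorem T2_cen_ok : ∀ r ∈ T2.cen, (∀ l ∈ r, l < 2 * 2) ∧ ∀ a, wtab r a = a := by decide

set_option maxRecDepth 100000 in
theorem T3_conj_ok :
    ∀ t ∈ T3.conj, t.g < 2 ∧ (∀ l ∈ t.word, l < 2 * 2) ∧ ∀ a, wtab t.word a = a := by decide

set_option maxRecDepth 100000 in
theorem T3_cen_ok : ∀ r ∈ T3.cen, (∀ l ∈ r, l < 2 * 2) ∧ ∀ a, wtab r a = a := by decide

/-- **exponent 8**: the kernel has order at most `4` -/
theorem card_ker_le_four (hσ : IsStemExtension σ) (hexp : ∀ z ∈ σ.ker, z ^ 8 = 1) :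
    Nat.card σ.ker ≤ 4 := by
  obtain ⟨x0, x1, h0L, h1L, h0, h1, h05, h17, hΓ⟩ := card_le_L σ hσ 3 le_rfl hexp
  have hL := card_L_le σ hσ 8 3 rfl hexp x0 x1 h0L h1L h0 h1 h05 h17 T2.conj T2_conj_ok T2.cen
    T2_cen_ok T2.extra (by intro r hr; simp [T2.extra] at hr)
    Cfsg.Agent.Lib.Helper6.M22TC.Cod6.dec T2.std Cfsg.Agent.Lib.Helper6.M22TC.T2.bases
    Cfsg.Agent.Lib.Helper6.M22TC.T2.subsL Cfsg.Agent.Lib.Helper6.M22TC.T2.n
    Cfsg.Agent.Lib.Helper6.M22TC.T2.bound T2.bases_ok T2.letters_b T2.letters_s T2.subs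
  rw [T2.n_eq] at hL
  rw [card_eq_ker_mul σ hσ] at hΓ
  have h3 : 443520 * Nat.card σ.ker ≤ 443520 * 4 := by
    calc 443520 * Nat.card σ.ker ≤ 352 * Nat.card ↥(liftSub σ HA) := hΓ
      _ ≤ 352 * (720 * 7) := Nat.mul_le_mul_left _ hL
      _ = 443520 * 4 := by norm_num
  exact Nat.le_of_mul_le_mul_left h3 (by norm_num)

/-- **exponent 2**: the kernel has order at most `2` -/
theorem card_ker_le_two (hσ : IsStemExtension σ) (hexp : ∀ z ∈ σ.ker, z ^ 2 = 1) :
    Nat.card σ.ker ≤ 2 := by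
  obtain ⟨x0, x1, h0L, h1L, h0, h1, h05, h17, hΓ⟩ :=
    card_le_L σ hσ 1 (by norm_num) (by simpa using hexp)
  have hsq : (x0 * x1 * x0⁻¹ * x1⁻¹) ^ 2 = 1 := by
    apply lift_t_sq σ hσ.1 hσ.2.1 hexp
    rw [map_mul, map_mul, map_mul, map_inv, map_inv, h0, h1]
    simp [wt, ev, gl, mul_assoc]
  have hL := card_L_le σ hσ 2 1 rfl hexp x0 x1 h0L h1L h0 h1 h05 h17 T3.conj T3_conj_ok T3.cen
    T3_cen_ok T3.extra (by
      intro r hr
      simp only [T3.extra, List.mem_singleton] at hr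
      subst hr
      apply Subtype.ext
      have hy0 : yL σ x0 x1 h0L h1L 0 = ⟨x0, h0L⟩ := by unfold yL; rw [if_pos rfl]
      have hy1 : yL σ x0 x1 h0L h1L 1 = ⟨x1, h1L⟩ := by unfold yL; rw [if_neg (by norm_num)]
      have hf0 : full 2 (yL σ x0 x1 h0L h1L) T3.cen 0 = ⟨x0, h0L⟩ := by
        unfold full; rw [if_pos (by norm_num), hy0]
      have hf1 : full 2 (yL σ x0 x1 h0L h1L) T3.cen 1 = ⟨x1, h1L⟩ := by
        unfold full; rw [if_pos (by norm_num), hy1]
      simp only [ev, gl, hf0, hf1]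
      norm_num
      rw [pow_two] at hsq
      simpa [mul_assoc] using hsq)
    Cfsg.Agent.Lib.Helper6.M22TC.Cod6.dec T3.std Cfsg.Agent.Lib.Helper6.M22TC.T3.bases
    Cfsg.Agent.Lib.Helper6.M22TC.T3.subsL Cfsg.Agent.Lib.Helper6.M22TC.T3.n
    Cfsg.Agent.Lib.Helper6.M22TC.T3.bound T3.bases_ok T3.letters_b T3.letters_s T3.subs
  rw [T3.n_eq] at hL
  rw [card_eq_ker_mul σ hσ] at hΓ
  have h3 : 443520 * Nat.card σ.ker ≤ 443520 * 2 := by
    calc 443520 * Nat.card σ.ker ≤ 352 * Nat.card ↥(liftSub σ HA) := hΓ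
      _ ≤ 352 * (360 * 7) := Nat.mul_le_mul_left _ hL
      _ = 443520 * 2 := by norm_num
  exact Nat.le_of_mul_le_mul_left h3 (by norm_num)

end levelM

end Cfsg.Agent.Lib.Helper6.M22Mult
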