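import Cfsg.Agent.Lib.Helper6.M22MultData
import Cfsg.Agent.Lib.Helper23.M22MultE

/-!
# S2036: the subgroup `H = ⟨c, y⟩ ≅ A7` of `M22`, table facts (helper6)
-/

set_option autoImplicit false
set_option linter.unusedVariables false

namespace Cfsg.Agent.Lib.Helper6.M22Mult

open Cfsg Cfsg.Agent.Lib.Helper28 Cfsg.H5.TCk Cfsg.H5.StemTC Cfsg.H5.StemLift
open scoped commutatorElement

/-- `H = ⟨c, y⟩` -/
noncomputable def HA : Subgroup ↥Spor.M22 := Subgroup.closure {gM 0, gM 1}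

theorem gM0_mem : gM 0 ∈ HA := Subgroup.subset_closure (by simp)

theorem gM1_mem : gM 1 ∈ HA := Subgroup.subset_closure (by simp)

theorem ev_mem_HA (w : List ℕ) (hw : ∀ l ∈ w, l < 4) : ev gM w ∈ HA := by
  apply ev_mem gM HA 2 (fun i hi => ?_) w
  · rw [List.all_eq_true]
    intro l hl
    exact decide_eq_true (hw l hl)
  · interval_cases i
    · exact gM0_mem
    · exact gM1_mem

theorem comm_word' (u v : List ℕ) :
    ⁅ev gM u, ev gM v⁆ = ev gM (u ++ v ++ winv u ++ winv v) := by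
  rw [commutatorElement_def, ev_append, ev_append, ev_append, ev_winv, ev_winv]

theorem HA_perfect : HA ≤ ⁅HA, HA⁆ := by
  have h0 : gM 0 ∈ ⁅HA, HA⁆ := by
    have h1 : gM 0 = ⁅ev gM [2, 0, 0, 3], ev gM [2, 0, 3, 0]⁆ := by
      rw [comm_word']
      have : gM 0 = ev gM [0] := by simp [ev, gl]
      rw [this]
      exact ev_eq_ev _ _ (by decide)
    rw [h1]
    exact Subgroup.commutator_mem_commutator (ev_mem_HA _ (by decide)) (ev_mem_HA _ (by decide))
  have h1' : gM 1 ∈ ⁅HA, HA⁆ := by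
    have h1 : gM 1 = ⁅ev gM [0, 3, 3, 1, 2], ev gM [1, 3, 3, 0]⁆ := by
      rw [comm_word']
      have : gM 1 = ev gM [2] := by simp [ev, gl]
      rw [this]
      exact ev_eq_ev _ _ (by decide)
    rw [h1]
    exact Subgroup.commutator_mem_commutator (ev_mem_HA _ (by decide)) (ev_mem_HA _ (by decide))
  show Subgroup.closure {gM 0, gM 1} ≤ _
  rw [Subgroup.closure_le]
  intro g hg
  simp only [Set.mem_insert_iff, Set.mem_singleton_iff] at hg
  rcases hg with rfl | rfl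
  · exact h0
  · exact h1'

/-! ### the involution `t = [c, y]` and the elementary abelian group of order 8 -/

def wt : List ℕ := [0, 2, 1, 3]

def cjw (g : List ℕ) : List ℕ := g ++ wt ++ winv g

theorem ev_cjw (g : List ℕ) : ev gM g * ev gM wt * (ev gM g)⁻¹ = ev gM (cjw g) := by
  unfold cjw
  rw [ev_append, ev_append, ev_winv]

/-- every lift of `t = [c,y]` to a central extension of `M22` with kernel of exponent 2 squares
to `1` -/
theorem lift_t_sq {Γ : Type} [Group Γ] (σ : Γ →* ↥Spor.M22) (hsurj : Function.Surjective σ)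
    (hcen : σ.ker ≤ Subgroup.center Γ) (hexp : ∀ z ∈ σ.ker, z ^ 2 = 1) (x : Γ)
    (hx : σ x = ev gM wt) : x ^ 2 = 1 := by
  refine sq_eq_one_of_klein8 σ hsurj hcen hexp (ev gM wt) (ev gM (cjw [0, 0]))
    (ev gM (cjw [3, 0])) (ev gM (cjw [5, 2])) ?_ ?_ ?_ ?_ ⟨ev gM [0, 0], ev_cjw _⟩
    ⟨ev gM [3, 0], ev_cjw _⟩ ⟨ev gM [5, 2], ev_cjw _⟩ ⟨ev gM [5, 1, 1], ?_⟩
    ⟨ev gM [3, 0, 4, 3], ?_⟩ ⟨ev gM [1, 2, 4], ?_⟩ ⟨ev gM [1, 2, 0, 5], ?_⟩ x hx
  · rw [pow_two, ← ev_append]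
    exact ev_eq_one _ (by decide)
  · rw [← ev_append, ← ev_append]
    exact ev_eq_ev _ _ (by decide)
  · rw [← ev_append, ← ev_append]
    exact ev_eq_ev _ _ (by decide)
  · rw [← ev_append, ← ev_append]
    exact ev_eq_ev _ _ (by decide)
  · rw [ev_cjw, ← ev_append]
    exact ev_eq_ev _ _ (by decide)
  · rw [ev_cjw, ← ev_append]
    exact ev_eq_ev _ _ (by decide)
  · rw [ev_cjw, ← ev_append]
    exact ev_eq_ev _ _ (by decide)
  · rw [ev_cjw, ← ev_append, ← ev_append]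
    exact ev_eq_ev _ _ (by decide)

end Cfsg.Agent.Lib.Helper6.M22Mult
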