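import Cfsg.Agent.Lib.Helper18.MinDegBurnside

/-!
# S2140 front, piece F4 (part 1): the Burnside counting lemmas for a commutative subgroup
acting on a coset space `G ⧸ H`.
-/

set_option autoImplicit false

namespace Cfsg.Agent.Lib.Helper11.MinDeg.Dich

open MulAction

/-- conjugation invariance of fixed point counts -/
theorem card_fixedBy_conj {G Ω : Type*} [Group G] [MulAction G Ω] (g t : G) :
    Nat.card (fixedBy Ω (g * t * g⁻¹)) = Nat.card (fixedBy Ω t) := by
  refine (Nat.card_congr ?_).symm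
  refine
    { toFun := fun ω => ⟨g • (ω : Ω), ?_⟩
      invFun := fun ω => ⟨g⁻¹ • (ω : Ω), ?_⟩
      left_inv := fun ω => by simp
      right_inv := fun ω => by simp }
  · have h := ω.2
    rw [mem_fixedBy] at h ⊢
    rw [← mul_smul, mul_assoc, inv_mul_cancel, mul_one, mul_smul, h]
  · have h := ω.2
    rw [mem_fixedBy] at h ⊢
    have h2 : g⁻¹ • ((g * t * g⁻¹) • (ω : Ω)) = g⁻¹ • (ω : Ω) := by rw [h]
    rw [← mul_smul, ← mul_assoc, ← mul_assoc, inv_mul_cancel, one_mul, mul_smul] at h2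
    exact h2

theorem burnside_sub {G : Type*} [Group G] [Finite G] (Av H : Subgroup G)
    (hcomm : ∀ x ∈ Av, ∀ y ∈ Av, x * y = y * x) (f β : ℕ)
    (hfix : ∀ t ∈ Av, t ≠ 1 → Nat.card (fixedBy (G ⧸ H) t) = f)
    (hβ : ∀ g : G, Nat.card {a : G // a ∈ Av ∧ g⁻¹ * a * g ∈ H} = β)
    (hno : ∀ g : G, ∃ a ∈ Av, g⁻¹ * a * g ∉ H)
    (hlt : H.index < 2 * Nat.card Av) :
    H.index = f + Nat.card Av ∧
    (∃ s : ℕ, s * β = Nat.card Av ∧ (f + 1) * s = f + Nat.card Av) ∧
    (f = 0 ∨ Nat.card Av ≤ β * β) ∧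
    (∀ U : Subgroup G, (∃ a ∈ Av, a ∉ U) → ∀ g g' : G,
       (∀ a ∈ Av, g⁻¹ * a * g ∈ H → a ∈ U) → (∀ a ∈ Av, g'⁻¹ * a * g' ∈ H → a ∈ U) →
       ∀ a ∈ Av, (g⁻¹ * a * g ∈ H ↔ g'⁻¹ * a * g' ∈ H)) := by
  classical
  let _ : CommGroup ↥Av :=
    { Av.toGroup with mul_comm := fun a b => Subtype.ext (hcomm a a.2 b b.2) }
  let _ : Fintype ↥Av := Fintype.ofFinite _
  let _ : Fintype (G ⧸ H) := Fintype.ofFinite _
  have hstab : ∀ (g : G) (a : ↥Av),
      a ∈ stabilizer ↥Av (g : G ⧸ H) ↔ g⁻¹ * (a : G) * g ∈ H := by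
    intro g a
    rw [mem_stabilizer_iff]
    show ((((a : G) * g : G)) : G ⧸ H) = (g : G ⧸ H) ↔ _
    rw [QuotientGroup.eq, ← H.inv_mem_iff]
    simp [mul_assoc]
  have hfix' : ∀ t : ↥Av, t ≠ 1 → Nat.card (fixedBy (G ⧸ H) t) = f := by
    intro t ht
    exact hfix t t.2 (fun h => ht (Subtype.ext h))
  have hno' : ∀ ω : G ⧸ H, stabilizer ↥Av ω ≠ ⊤ := by
    intro ω
    induction ω using QuotientGroup.induction_on with
    | H g =>
      intro htop
      obtain ⟨a, ha, hna⟩ := hno g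
      apply hna
      rw [← hstab g ⟨a, ha⟩, htop]
      trivial
  have hidxcard : H.index = Fintype.card (G ⧸ H) := by
    rw [← Nat.card_eq_fintype_card]; rfl
  have hAvcard : Nat.card ↥Av = Fintype.card ↥Av := Nat.card_eq_fintype_card
  have hlt' : Fintype.card (G ⧸ H) < 2 * Fintype.card ↥Av := by
    rw [← hidxcard, ← hAvcard]; exact hlt
  obtain ⟨hcard, horb⟩ := burnside_card f hfix' hno' ⟨((1 : G) : G ⧸ H)⟩ hlt'
  -- stabilisers all have order β
  have hβ' : ∀ ω : G ⧸ H, Nat.card (stabilizer ↥Av ω) = β := by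
    intro ω
    induction ω using QuotientGroup.induction_on with
    | H g =>
      rw [← hβ g]
      refine Nat.card_congr ?_
      exact
        { toFun := fun a => ⟨(a : ↥Av), (a : ↥Av).2, (hstab g a).1 a.2⟩
          invFun := fun a => ⟨⟨a.1, a.2.1⟩, (hstab g ⟨a.1, a.2.1⟩).2 a.2.2⟩
          left_inv := fun a => rfl
          right_inv := fun a => rfl }
  have hβpos : 0 < β := by
    rw [← hβ' ((1 : G) : G ⧸ H)]
    exact Nat.card_pos
  have hidx : ∀ ω : G ⧸ H, (stabilizer ↥Av ω).index = Nat.card ↥Av / β := by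
    intro ω
    have h1 := Subgroup.card_mul_index (stabilizer ↥Av ω)
    rw [hβ' ω] at h1
    rw [← h1, Nat.mul_div_cancel_left _ hβpos]
  have hdvd : β ∣ Nat.card ↥Av := by
    rw [← hβ' ((1 : G) : G ⧸ H)]
    exact Subgroup.card_subgroup_dvd_card _
  obtain ⟨s, hs⟩ := hdvd
  have hs' : Nat.card ↥Av / β = s := by rw [hs, Nat.mul_div_cancel_left _ hβpos]
  let _ : Fintype (orbitRel.Quotient ↥Av (G ⧸ H)) := Fintype.ofFinite _
  have hsum : Nat.card (G ⧸ H) = (f + 1) * s := by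
    rw [Nat.card_congr (selfEquivSigmaOrbitsQuotientStabilizer ↥Av (G ⧸ H)), Nat.card_sigma]
    have : ∀ ω : orbitRel.Quotient ↥Av (G ⧸ H),
        Nat.card (↥Av ⧸ stabilizer ↥Av ω.out) = s := by
      intro ω
      rw [← hs']
      exact hidx _
    simp only [this]
    rw [Finset.sum_const, Finset.card_univ, ← Nat.card_eq_fintype_card, horb, smul_eq_mul]
  refine ⟨?_, ?_, ?_, ?_⟩
  · rw [hidxcard, hcard, hAvcard]
  · refine ⟨s, ?_, ?_⟩
    · rw [hs, mul_comm]
    · rw [← hsum, Nat.card_eq_fintype_card, hcard, hAvcard]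
  · by_cases hf : f = 0
    · exact Or.inl hf
    right
    have h2 : 1 < Nat.card (orbitRel.Quotient ↥Av (G ⧸ H)) := by rw [horb]; omega
    have : Nontrivial (orbitRel.Quotient ↥Av (G ⧸ H)) :=
      (Finite.one_lt_card_iff_nontrivial).1 h2
    obtain ⟨o1, o2, hne⟩ := exists_pair_ne (orbitRel.Quotient ↥Av (G ⧸ H))
    induction o1 using Quotient.inductionOn' with | h ω =>
    induction o2 using Quotient.inductionOn' with | h ω' =>
    have hnotin : ω' ∉ orbit ↥Av ω := by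
      intro h
      apply hne
      exact (Quotient.sound' ((orbitRel_apply).2 h)).symm
    have hU : stabilizer ↥Av ω ⊔ stabilizer ↥Av ω' = ⊤ := by
      by_contra hU
      exact hnotin (burnside_unique f hfix' hcard horb _ hU ω ω' le_sup_left le_sup_right)
    have hsurj : Function.Surjective
        (fun p : stabilizer ↥Av ω × stabilizer ↥Av ω' => ((p.1 : ↥Av) * (p.2 : ↥Av))) := by
      intro x
      have hx : x ∈ stabilizer ↥Av ω ⊔ stabilizer ↥Av ω' := by rw [hU]; trivial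
      obtain ⟨y, hy, z, hz, rfl⟩ := Subgroup.mem_sup.1 hx
      exact ⟨(⟨y, hy⟩, ⟨z, hz⟩), rfl⟩
    have := Nat.card_le_card_of_surjective _ hsurj
    rw [Nat.card_prod, hβ' ω, hβ' ω'] at this
    exact this
  · intro U hU g g' hg hg' a ha
    have hUne : U.subgroupOf Av ≠ ⊤ := by
      intro htop
      obtain ⟨b, hb, hbU⟩ := hU
      apply hbU
      have : (⟨b, hb⟩ : ↥Av) ∈ U.subgroupOf Av := by rw [htop]; trivial
      exact Subgroup.mem_subgroupOf.1 this
    have h1 : stabilizer ↥Av (g : G ⧸ H) ≤ U.subgroupOf Av := by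
      intro b hb
      rw [Subgroup.mem_subgroupOf]
      exact hg b b.2 ((hstab g b).1 hb)
    have h2 : stabilizer ↥Av (g' : G ⧸ H) ≤ U.subgroupOf Av := by
      intro b hb
      rw [Subgroup.mem_subgroupOf]
      exact hg' b b.2 ((hstab g' b).1 hb)
    obtain ⟨b, hb⟩ := burnside_unique f hfix' hcard horb (U.subgroupOf Av) hUne
      (g : G ⧸ H) (g' : G ⧸ H) h1 h2
    have hb' : b • (g : G ⧸ H) = (g' : G ⧸ H) := hb
    rw [← hstab g ⟨a, ha⟩, ← hstab g' ⟨a, ha⟩, mem_stabilizer_iff, mem_stabilizer_iff, ← hb']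
    constructor
    · intro h
      rw [← mul_smul, mul_comm, mul_smul, h]
    · intro h
      rw [← mul_smul, mul_comm, mul_smul] at h
      exact MulAction.injective b h

end Cfsg.Agent.Lib.Helper11.MinDeg.Dich
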