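import Mathlib
import Cfsg.Agent.Lib.Helper21.FrobeniusCount

/-!
# Numbers of elements of each order (helper6 library)

`mk G k` is the number of elements of order `k` of `G`.  Basic arithmetic constraints:
`mk G 1 = 1`, `φ(k) ∣ mk G k`, Frobenius' theorem `k ∣ ∑_{d ∣ k} mk G d` for `k ∣ |G|`,
Lagrange, Cauchy, and `|G| = ∑_{k ∣ |G|} mk G k`.
-/

set_option autoImplicit false

namespace Cfsg.Agent.Lib.Helper6.Nse

universe u

/-- number of elements of order `k` -/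
noncomputable def mk (G : Type u) [Group G] (k : ℕ) : ℕ := Nat.card {g : G // orderOf g = k}

variable {G : Type u} [Group G] [Finite G]

theorem mk_eq_card_filter [Fintype G] (k : ℕ) [DecidablePred fun g : G => orderOf g = k] :
    mk G k = (Finset.univ.filter (fun g : G => orderOf g = k)).card := by
  unfold mk
  rw [Nat.card_eq_fintype_card, Fintype.card_subtype]

theorem mk_one : mk G 1 = 1 := by
  unfold mk
  rw [Nat.card_eq_one_iff_unique]
  refine ⟨⟨?_⟩, ⟨⟨1, orderOf_one⟩⟩⟩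
  rintro ⟨a, ha⟩ ⟨b, hb⟩
  apply Subtype.ext
  simp only
  rw [orderOf_eq_one_iff] at ha hb
  rw [ha, hb]

theorem mk_ne_zero_iff (k : ℕ) : mk G k ≠ 0 ↔ ∃ g : G, orderOf g = k := by
  unfold mk
  rw [Nat.card_ne_zero]
  constructor
  · rintro ⟨⟨g, hg⟩, -⟩
    exact ⟨g, hg⟩
  · rintro ⟨g, hg⟩
    exact ⟨⟨⟨g, hg⟩⟩, inferInstance⟩

theorem mk_zero : mk G 0 = 0 := by
  by_contra h
  obtain ⟨g, hg⟩ := (mk_ne_zero_iff 0).mp h
  exact (orderOf_pos g).ne' hg

theorem dvd_card_of_mk_ne_zero (k : ℕ) (h : mk G k ≠ 0) : k ∣ Nat.card G := by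
  obtain ⟨g, rfl⟩ := (mk_ne_zero_iff k).mp h
  exact orderOf_dvd_natCard g

theorem mk_ne_zero_of_dvd (d k : ℕ) (hd : d ∣ k) (h : mk G k ≠ 0) : mk G d ≠ 0 := by
  obtain ⟨g, rfl⟩ := (mk_ne_zero_iff k).mp h
  rw [mk_ne_zero_iff]
  obtain ⟨e, he⟩ := hd
  have hpos := orderOf_pos g
  have he0 : e ≠ 0 := by
    rintro rfl
    rw [mul_zero] at he
    omega
  have hd0 : d ≠ 0 := by
    rintro rfl
    rw [zero_mul] at he
    omega
  refine ⟨g ^ e, ?_⟩
  rw [orderOf_pow_of_dvd he0 ⟨d, by rw [he, mul_comm]⟩, he]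
  exact Nat.mul_div_cancel _ (Nat.pos_of_ne_zero he0)

theorem mk_prime_ne_zero (p : ℕ) (hp : p.Prime) (h : p ∣ Nat.card G) : mk G p ≠ 0 := by
  haveI : Fact p.Prime := ⟨hp⟩
  rw [mk_ne_zero_iff]
  exact exists_prime_orderOf_dvd_card' p h

theorem totient_dvd_mk (k : ℕ) : Nat.totient k ∣ mk G k := by
  classical
  letI : Fintype G := Fintype.ofFinite G
  rw [mk_eq_card_filter]
  apply Cfsg.Agent.Lib.Helper21.dvd_card_of_zpowers_invariant (fun x : G => orderOf x = k)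
  · intro x x' hxx hx
    rw [← Nat.card_zpowers, ← hxx, Nat.card_zpowers]
    exact hx
  · intro x hx
    rw [hx]

theorem card_pow_eq_one_eq_sum (k : ℕ) (hk : k ≠ 0) :
    Nat.card {g : G // g ^ k = 1} = ∑ d ∈ Nat.divisors k, mk G d := by
  classical
  letI : Fintype G := Fintype.ofFinite G
  rw [Nat.card_eq_fintype_card, Fintype.card_subtype]
  rw [Finset.card_eq_sum_card_fiberwise (f := fun g : G => orderOf g) (t := Nat.divisors k)]
  · apply Finset.sum_congr rfl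
    intro d hd
    rw [mk_eq_card_filter]
    congr 1
    ext g
    simp only [Finset.mem_filter, Finset.mem_univ, true_and, and_iff_right_iff_imp]
    intro hg
    rw [← hg] at hd
    exact orderOf_dvd_iff_pow_eq_one.mp (Nat.dvd_of_mem_divisors hd)
  · intro g hg
    rw [Finset.mem_coe] at hg ⊢
    simp only [Finset.mem_filter, Finset.mem_univ, true_and] at hg
    rw [Nat.mem_divisors]
    exact ⟨orderOf_dvd_of_pow_eq_one hg, hk⟩

/-- **Frobenius**, in terms of the order statistics -/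
theorem frobenius (k : ℕ) (hk : k ∣ Nat.card G) : k ∣ ∑ d ∈ Nat.divisors k, mk G d := by
  have hk0 : k ≠ 0 := by
    rintro rfl
    rw [zero_dvd_iff] at hk
    exact Nat.card_pos.ne' hk
  rw [← card_pow_eq_one_eq_sum k hk0]
  exact Cfsg.Agent.Lib.Helper21.frobenius_dvd_card_pow_eq_one k hk

theorem card_eq_sum : Nat.card G = ∑ d ∈ Nat.divisors (Nat.card G), mk G d := by
  rw [← card_pow_eq_one_eq_sum _ Nat.card_pos.ne']
  symm
  apply Nat.card_congr
  exact Equiv.subtypeUnivEquiv (fun g => pow_card_eq_one')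

/-- translation of equality of `nse` sets -/
theorem nse_iff (S : Set ℕ) :
    ((fun m : ℕ => Nat.card {g : G // orderOf g = m}) '' Set.range (orderOf : G → ℕ)) = S ↔
    (∀ k, mk G k ≠ 0 → mk G k ∈ S) ∧ (∀ s ∈ S, ∃ k, mk G k ≠ 0 ∧ mk G k = s) := by
  constructor
  · intro h
    constructor
    · intro k hk
      obtain ⟨g, hg⟩ := (mk_ne_zero_iff k).mp hk
      rw [← h]
      exact ⟨k, ⟨g, hg⟩, rfl⟩
    · intro s hs
      rw [← h] at hs
      obtain ⟨k, ⟨g, hg⟩, rfl⟩ := hs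
      exact ⟨k, (mk_ne_zero_iff k).mpr ⟨g, hg⟩, rfl⟩
  · rintro ⟨h1, h2⟩
    ext s
    constructor
    · rintro ⟨k, ⟨g, hg⟩, rfl⟩
      exact h1 k ((mk_ne_zero_iff k).mpr ⟨g, hg⟩)
    · intro hs
      obtain ⟨k, hk, rfl⟩ := h2 s hs
      obtain ⟨g, hg⟩ := (mk_ne_zero_iff k).mp hk
      exact ⟨k, ⟨g, hg⟩, rfl⟩

end Cfsg.Agent.Lib.Helper6.Nse
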