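import Mathlib

/-!
# A verified arithmetic checker for "numbers of elements of each order" (helper6 library)

`Ax m N vals` collects the arithmetic constraints satisfied by `m k = #{g : orderOf g = k}` in a
group of order `N` whose set of nonzero values of `m` is `vals`.  `dfs` searches for assignments of
values to the divisors of a number satisfying the local constraints; `dfs_sound` says that the true
assignment is found by the search.
-/

set_option autoImplicit false

namespace Cfsg.Agent.Lib.Helper6.Nse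

/-- the arithmetic constraints -/
structure Ax (m : ℕ → ℕ) (N : ℕ) (vals : List ℕ) : Prop where
  pos : N ≠ 0
  one : m 1 = 1
  tot : ∀ k, Nat.totient k ∣ m k
  frob : ∀ k, k ∣ N → k ∣ ∑ d ∈ Nat.divisors k, m d
  dvd : ∀ k, m k ≠ 0 → k ∣ N
  down : ∀ d k, d ∣ k → m k ≠ 0 → m d ≠ 0
  cauchy : ∀ p, p.Prime → p ∣ N → m p ≠ 0
  sum : N = ∑ k ∈ Nat.divisors N, m k
  mem : ∀ k, m k ≠ 0 → m k ∈ vals
  att : ∀ s ∈ vals, ∃ k, m k = s

/-- sum of the values assigned to divisors of `k` -/
def sumDiv (k : ℕ) : List (ℕ × ℕ) → ℕ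
  | [] => 0
  | x :: t => bif k % x.1 == 0 then x.2 + sumDiv k t else sumDiv k t

/-- all divisors of `k` assigned so far have nonzero value -/
def downOK (k : ℕ) : List (ℕ × ℕ) → Bool
  | [] => true
  | x :: t => (k % x.1 != 0 || x.2 != 0) && downOK k t

/-- value assigned to `k` (or `0`) -/
def look (k : ℕ) : List (ℕ × ℕ) → ℕ
  | [] => 0
  | x :: t => bif x.1 == k then x.2 else look k t

/-- depth-first search for admissible assignments -/
def dfs (okv : ℕ → ℕ → Bool) (vals : List ℕ) (final : List (ℕ × ℕ) → Bool) :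
    List ℕ → List (ℕ × ℕ) → Bool
  | [], asg => final asg
  | k :: rest, asg =>
    (0 :: vals).any (fun v => okv k v && (v == 0 || downOK k asg) &&
      ((v + sumDiv k asg) % k == 0) && dfs okv vals final rest ((k, v) :: asg))

/-- local value constraints: `m 1 = 1`, `m 2 = m2`, parity, and `φ(5) = 4`, `φ(7) = 6` -/
def okv (m2 : ℕ) (k v : ℕ) : Bool :=
  bif k == 1 then v == 1 else bif k == 2 then v == m2 else
    (v % 2 == 0 && (k != 5 || v % 4 == 0) && (k != 7 || v % 6 == 0))

/-- final check at a leaf -/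
def finalN (vals primes : List ℕ) (goal : List (ℕ × ℕ)) (N₀ N : ℕ) (asg : List (ℕ × ℕ)) : Bool :=
  ((asg.map Prod.snd).sum == N) && vals.all (fun s => asg.any (fun x => x.2 == s)) &&
    primes.all (fun p => N % p != 0 || look p asg != 0) &&
    !(N == N₀ && goal.all (fun x => look x.1 asg == x.2))

/-- the complete check over all candidate orders in `box` -/
def checkAll (okv : ℕ → ℕ → Bool) (vals primes : List ℕ) (goal : List (ℕ × ℕ)) (N₀ : ℕ)
    (box : List ℕ) : Bool :=
  box.all (fun N => !(dfs okv vals (finalN vals primes goal N₀ N)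
    (box.filter (fun d => N % d == 0)) []))

/-- list of all products `∏ pᵢ ^ jᵢ`, `jᵢ ≤ eᵢ` -/
def boxList : List (ℕ × ℕ) → List ℕ
  | [] => [1]
  | x :: ps => (List.range (x.2 + 1)).flatMap (fun i => (boxList ps).map (fun d => x.1 ^ i * d))

/-- `∏ pᵢ ^ eᵢ` -/
def prodPow (ps : List (ℕ × ℕ)) : ℕ := (ps.map (fun x => x.1 ^ x.2)).prod

variable {m : ℕ → ℕ} {N : ℕ} {vals : List ℕ}

/-! ### general list lemmas -/

theorem sumDiv_map (k : ℕ) (l : List ℕ) :
    sumDiv k (l.map (fun d => (d, m d))) = ((l.filter (fun d => k % d == 0)).map m).sum := by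
  induction l with
  | nil => rfl
  | cons a t ih =>
    rw [List.map_cons, sumDiv, List.filter_cons]
    by_cases h : (k % a == 0) = true
    · simp only [h, cond_true, if_true, List.map_cons, List.sum_cons, ih]
    · rw [Bool.not_eq_true] at h
      simp only [h, cond_false, Bool.false_eq_true, if_false, ih]

theorem downOK_map (k : ℕ) (l : List ℕ) (h : ∀ d ∈ l, d ∣ k → m d ≠ 0) :
    downOK k (l.map (fun d => (d, m d))) = true := by
  induction l with
  | nil => rfl
  | cons a t ih =>
    rw [List.map_cons, downOK, Bool.and_eq_true]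
    refine ⟨?_, ih (fun d hd => h d (List.mem_cons_of_mem _ hd))⟩
    by_cases hd : a ∣ k
    · have := h a List.mem_cons_self hd
      simp [this]
    · have : k % a ≠ 0 := fun h0 => hd (Nat.dvd_of_mod_eq_zero h0)
      simp [this]

theorem look_map (k : ℕ) (l : List ℕ) :
    look k (l.map (fun d => (d, m d))) = if k ∈ l then m k else 0 := by
  induction l with
  | nil => simp [look]
  | cons a t ih =>
    rw [List.map_cons, look]
    by_cases h : a = k
    · subst h
      simp
    · have h' : (a == k) = false := by simpa using h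
      simp only [h', cond_false, ih, List.mem_cons]
      have : ¬ k = a := fun e => h e.symm
      simp [this]

theorem sumDiv_eq (l : List ℕ) (hl : l.Nodup) (k : ℕ)
    (hk : ∀ d, (d ∈ l ∧ d ∣ k) ↔ d ∈ Nat.properDivisors k) :
    sumDiv k (l.map (fun d => (d, m d))) = ∑ d ∈ Nat.properDivisors k, m d := by
  rw [sumDiv_map]
  have hnd : (l.filter (fun d => k % d == 0)).Nodup := hl.filter _
  rw [← List.sum_toFinset m hnd]
  apply Finset.sum_congr _ (fun _ _ => rfl)
  ext d
  rw [List.mem_toFinset, List.mem_filter, ← hk d]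
  simp only [beq_iff_eq]
  rw [Nat.dvd_iff_mod_eq_zero]

/-! ### soundness of the search -/

theorem dfs_aux (hax : Ax m N vals) (okv : ℕ → ℕ → Bool)
    (hokv : ∀ k, k ∣ N → okv k (m k) = true) (K : ℕ) (hK : K ∣ N)
    (final : List (ℕ × ℕ) → Bool) :
    ∀ (todo pre : List ℕ), (pre ++ todo).Pairwise (· < ·) → (∀ d, d ∈ pre ++ todo ↔ d ∣ K) →
      final ((pre ++ todo).reverse.map (fun d => (d, m d))) = true →
      dfs okv vals final todo (pre.reverse.map (fun d => (d, m d))) = true := by
  intro todo
  induction todo with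
  | nil =>
    intro pre _ _ hf
    rw [List.append_nil] at hf
    exact hf
  | cons k rest ih =>
    intro pre hsorted hmem hf
    have hkK : k ∣ K := (hmem k).mp (by simp)
    have hkN : k ∣ N := hkK.trans hK
    have hK0 : K ≠ 0 := by
      rintro rfl
      rw [zero_dvd_iff] at hK
      exact hax.pos hK
    have hk0 : k ≠ 0 := by
      rintro rfl
      rw [zero_dvd_iff] at hkK
      exact hK0 hkK
    rw [dfs, List.any_eq_true]
    refine ⟨m k, ?_, ?_⟩
    · by_cases h0 : m k = 0
      · rw [h0]; exact List.mem_cons_self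
      · exact List.mem_cons_of_mem _ (hax.mem k h0)
    have hs := List.pairwise_append.mp hsorted
    have hlt : ∀ d ∈ pre, d < k := fun d hd => hs.2.2 d hd k List.mem_cons_self
    have hpre_nodup : pre.reverse.Nodup := by
      rw [List.nodup_reverse]
      exact hs.1.imp (fun h => h.ne)
    rw [Bool.and_eq_true, Bool.and_eq_true, Bool.and_eq_true]
    refine ⟨⟨⟨hokv k hkN, ?_⟩, ?_⟩, ?_⟩
    · rw [Bool.or_eq_true]
      by_cases h0 : m k = 0
      · left; simp [h0]
      · right
        apply downOK_map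
        intro d _ hdk
        exact hax.down d k hdk h0
    · rw [beq_iff_eq]
      apply Nat.mod_eq_zero_of_dvd
      rw [sumDiv_eq pre.reverse hpre_nodup k]
      · have := hax.frob k hkN
        rw [← Nat.cons_self_properDivisors hk0, Finset.sum_cons] at this
        exact this
      · intro d
        rw [List.mem_reverse, Nat.mem_properDivisors]
        constructor
        · rintro ⟨hd, hdk⟩
          exact ⟨hdk, hlt d hd⟩
        · rintro ⟨hdk, hdlt⟩
          refine ⟨?_, hdk⟩
          have hdm : d ∈ pre ++ k :: rest := (hmem d).mpr (hdk.trans hkK)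
          rw [List.mem_append, List.mem_cons] at hdm
          rcases hdm with h | h | h
          · exact h
          · omega
          · have := (List.pairwise_cons.mp hs.2.1).1 d h
            omega
    · have e1 : (k, m k) :: pre.reverse.map (fun d => (d, m d)) =
          (pre ++ [k]).reverse.map (fun d => (d, m d)) := by
        simp
      have e2 : (pre ++ [k]) ++ rest = pre ++ k :: rest := by simp
      rw [e1]
      apply ih
      · rw [e2]; exact hsorted
      · rw [e2]; exact hmem
      · rw [e2]; exact hf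

theorem dfs_sound (hax : Ax m N vals) (okv : ℕ → ℕ → Bool)
    (hokv : ∀ k, k ∣ N → okv k (m k) = true) (K : ℕ) (hK : K ∣ N)
    (final : List (ℕ × ℕ) → Bool) (L : List ℕ) (hL : L.Pairwise (· < ·))
    (hmem : ∀ d, d ∈ L ↔ d ∣ K)
    (hf : final (L.reverse.map (fun d => (d, m d))) = true) :
    dfs okv vals final L [] = true := by
  have := dfs_aux hax okv hokv K hK final L [] (by simpa using hL) (by simpa using hmem)
    (by simpa using hf)
  simpa using this

/-! ### the value constraints -/

theorem okv_true (hax : Ax m N vals) (m2 : ℕ) (hm2 : m 2 = m2) (k : ℕ) (hk : k ∣ N) :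
    okv m2 k (m k) = true := by
  have hk0 : k ≠ 0 := by
    rintro rfl
    rw [zero_dvd_iff] at hk
    exact hax.pos hk
  unfold okv
  by_cases h1 : k = 1
  · subst h1
    simp [hax.one]
  by_cases h2 : k = 2
  · subst h2
    simp [hm2]
  have h1' : (k == 1) = false := by simpa using h1
  have h2' : (k == 2) = false := by simpa using h2
  rw [h1', h2', cond_false, cond_false]
  have hev : m k % 2 = 0 := by
    have h3 : 2 < k := by omega
    have := (Nat.totient_even h3).two_dvd.trans (hax.tot k)
    omega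
  rw [Bool.and_eq_true, Bool.and_eq_true]
  refine ⟨⟨by simpa using hev, ?_⟩, ?_⟩
  · by_cases h5 : k = 5
    · subst h5
      have := hax.tot 5
      rw [Nat.totient_prime (by norm_num)] at this
      have : m 5 % 4 = 0 := Nat.mod_eq_zero_of_dvd this
      simp [this]
    · simp [h5]
  · by_cases h7 : k = 7
    · subst h7
      have := hax.tot 7
      rw [Nat.totient_prime (by norm_num)] at this
      have : m 7 % 6 = 0 := Nat.mod_eq_zero_of_dvd this
      simp [this]
    · simp [h7]

theorem m_zero (hax : Ax m N vals) : m 0 = 0 := by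
  by_contra h
  have := hax.dvd 0 h
  rw [zero_dvd_iff] at this
  exact hax.pos this

/-- an odd value other than `1` must be the number of involutions -/
theorem m_two_eq (hax : Ax m N vals) (s : ℕ) (hs : s ∈ vals) (hodd : s % 2 = 1) (hne : s ≠ 1) :
    m 2 = s := by
  obtain ⟨k, hk⟩ := hax.att s hs
  by_cases h2 : k = 2
  · rw [← h2]; exact hk
  exfalso
  by_cases h0 : k = 0
  · rw [h0, m_zero hax] at hk
    omega
  by_cases h1 : k = 1
  · rw [h1, hax.one] at hk
    exact hne hk.symm
  have h3 : 2 < k := by omega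
  have := (Nat.totient_even h3).two_dvd.trans (hax.tot k)
  omega

/-! ### bounding prime powers -/

theorem pow_bound (hax : Ax m N vals) (okv : ℕ → ℕ → Bool)
    (hokv : ∀ k, k ∣ N → okv k (m k) = true) (p : ℕ) (hp : p.Prime) (e : ℕ)
    (hcheck : dfs okv vals (fun _ => true) ((List.range (e + 2)).map (fun i => p ^ i)) [] = false) :
    ¬ p ^ (e + 1) ∣ N := by
  intro hdvd
  have := dfs_sound hax okv hokv (p ^ (e + 1)) hdvd (fun _ => true)
    ((List.range (e + 2)).map (fun i => p ^ i)) ?_ ?_ rfl
  · rw [hcheck] at this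
    exact Bool.false_ne_true this
  · rw [List.pairwise_map]
    exact (List.pairwise_lt_range).imp (fun h => Nat.pow_lt_pow_right hp.one_lt h)
  · intro d
    rw [Nat.dvd_prime_pow hp, List.mem_map]
    constructor
    · rintro ⟨i, hi, rfl⟩
      rw [List.mem_range] at hi
      exact ⟨i, by omega, rfl⟩
    · rintro ⟨i, hi, rfl⟩
      exact ⟨i, by rw [List.mem_range]; omega, rfl⟩

theorem dvd_prodPow (ps : List (ℕ × ℕ)) : ∀ (N : ℕ), N ≠ 0 → (∀ x ∈ ps, x.1.Prime) →
    (∀ p, p.Prime → p ∣ N → ∃ x ∈ ps, x.1 = p) → (∀ x ∈ ps, ¬ x.1 ^ (x.2 + 1) ∣ N) →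
    N ∣ prodPow ps := by
  induction ps with
  | nil =>
    intro N _ _ hp _
    have : N = 1 := by
      rw [Nat.eq_one_iff_not_exists_prime_dvd]
      intro p hpp hpN
      obtain ⟨x, hx, -⟩ := hp p hpp hpN
      simp at hx
    rw [this]
    exact one_dvd _
  | cons x ps ih =>
    intro N hN hpr hp hb
    have hxp : x.1.Prime := hpr x List.mem_cons_self
    obtain ⟨i, N', hN', rfl⟩ := Nat.exists_eq_pow_mul_and_not_dvd hN x.1 hxp.ne_one
    have hi : i ≤ x.2 := by
      by_contra hlt
      push Not at hlt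
      apply hb x List.mem_cons_self
      exact (pow_dvd_pow x.1 hlt).trans (dvd_mul_right _ _)
    have hN'0 : N' ≠ 0 := by
      rintro rfl
      simp at hN
    have ih' := ih N' hN'0 (fun y hy => hpr y (List.mem_cons_of_mem _ hy)) ?_ ?_
    · unfold prodPow
      rw [List.map_cons, List.prod_cons]
      exact Nat.mul_dvd_mul (pow_dvd_pow x.1 hi) ih'
    · intro q hq hqN'
      obtain ⟨y, hy, hyq⟩ := hp q hq (hqN'.trans (dvd_mul_left _ _))
      rw [List.mem_cons] at hy
      rcases hy with rfl | hy
      · exfalso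
        rw [hyq] at hN'
        exact hN' hqN'
      · exact ⟨y, hy, hyq⟩
    · intro y hy hdvd
      exact hb y (List.mem_cons_of_mem _ hy) (hdvd.trans (dvd_mul_left _ _))

theorem mem_boxList (ps : List (ℕ × ℕ)) : (∀ x ∈ ps, x.1.Prime) → ∀ d, d ∣ prodPow ps →
    d ∈ boxList ps := by
  induction ps with
  | nil =>
    intro _ d hd
    have : d = 1 := by simpa [prodPow] using hd
    rw [this]
    simp [boxList]
  | cons x ps ih =>
    intro hpr d hd
    have hxp : x.1.Prime := hpr x List.mem_cons_self
    unfold prodPow at hd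
    rw [List.map_cons, List.prod_cons] at hd
    obtain ⟨a, b, ha, hb, rfl⟩ := (Nat.dvd_mul).mp hd
    obtain ⟨i, hi, rfl⟩ := (Nat.dvd_prime_pow hxp).mp ha
    rw [boxList, List.mem_flatMap]
    refine ⟨i, by rw [List.mem_range]; omega, ?_⟩
    rw [List.mem_map]
    exact ⟨b, ih (fun y hy => hpr y (List.mem_cons_of_mem _ hy)) b hb, rfl⟩

/-! ### the final check -/

theorem look_eq (hax : Ax m N vals) (L : List ℕ) (hmem : ∀ d, d ∈ L ↔ d ∣ N) (k : ℕ) :
    look k (L.reverse.map (fun d => (d, m d))) = m k := by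
  rw [look_map]
  by_cases h : k ∈ L.reverse
  · rw [if_pos h]
  · rw [if_neg h]
    rw [List.mem_reverse, hmem] at h
    by_contra h0
    exact h (hax.dvd k (fun e => h0 e.symm))

theorem finalN_false (hax : Ax m N vals) (h0 : 0 ∉ vals) (primes : List ℕ)
    (hpr : ∀ p ∈ primes, p.Prime) (goal : List (ℕ × ℕ)) (N₀ : ℕ) (L : List ℕ)
    (hL : L.Pairwise (· < ·)) (hmem : ∀ d, d ∈ L ↔ d ∣ N)
    (h : finalN vals primes goal N₀ N (L.reverse.map (fun d => (d, m d))) = false) :
    N = N₀ ∧ ∀ x ∈ goal, m x.1 = x.2 := by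
  have hA : (((L.reverse.map (fun d => (d, m d))).map Prod.snd).sum == N) = true := by
    rw [beq_iff_eq, List.map_map]
    have hnd : L.reverse.Nodup := by
      rw [List.nodup_reverse]
      exact hL.imp (fun h => h.ne)
    have e : (Prod.snd ∘ fun d => (d, m d)) = m := rfl
    rw [e, ← List.sum_toFinset m hnd]
    conv_rhs => rw [hax.sum]
    apply Finset.sum_congr _ (fun _ _ => rfl)
    ext d
    rw [List.mem_toFinset, List.mem_reverse, hmem, Nat.mem_divisors]
    exact ⟨fun h => ⟨h, hax.pos⟩, fun h => h.1⟩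
  have hB : (vals.all (fun s => (L.reverse.map (fun d => (d, m d))).any (fun x => x.2 == s)))
      = true := by
    rw [List.all_eq_true]
    intro s hs
    obtain ⟨k, hk⟩ := hax.att s hs
    have hk0 : m k ≠ 0 := by
      rw [hk]
      rintro rfl
      exact h0 hs
    rw [List.any_eq_true]
    refine ⟨(k, m k), ?_, by simpa using hk⟩
    rw [List.mem_map]
    exact ⟨k, by rw [List.mem_reverse, hmem]; exact hax.dvd k hk0, rfl⟩
  have hC : (primes.all (fun p => N % p != 0 ||
      look p (L.reverse.map (fun d => (d, m d))) != 0)) = true := by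
    rw [List.all_eq_true]
    intro p hp
    rw [look_eq hax L hmem]
    by_cases hd : p ∣ N
    · have := hax.cauchy p (hpr p hp) hd
      simp [this]
    · have : N % p ≠ 0 := fun h0 => hd (Nat.dvd_of_mod_eq_zero h0)
      simp [this]
  have hD : (N == N₀ && goal.all (fun x => look x.1 (L.reverse.map (fun d => (d, m d))) == x.2))
      = true := by
    by_contra hD
    rw [Bool.not_eq_true] at hD
    rw [finalN, hA, hB, hC, hD] at h
    exact absurd h (by decide)
  rw [Bool.and_eq_true, beq_iff_eq, List.all_eq_true] at hD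
  refine ⟨hD.1, fun x hx => ?_⟩
  have := hD.2 x hx
  rw [beq_iff_eq, look_eq hax L hmem] at this
  exact this

theorem checkAll_sound (hax : Ax m N vals) (h0 : 0 ∉ vals) (okv : ℕ → ℕ → Bool)
    (hokv : ∀ k, k ∣ N → okv k (m k) = true) (primes : List ℕ)
    (hpr : ∀ p ∈ primes, p.Prime) (goal : List (ℕ × ℕ)) (N₀ : ℕ) (box : List ℕ)
    (hbox : box.Pairwise (· < ·)) (M : ℕ) (hboxmem : ∀ d, d ∣ M → d ∈ box) (hNM : N ∣ M)
    (hcheck : checkAll okv vals primes goal N₀ box = true) :
    N = N₀ ∧ ∀ x ∈ goal, m x.1 = x.2 := by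
  unfold checkAll at hcheck
  rw [List.all_eq_true] at hcheck
  have h1 := hcheck N (hboxmem N hNM)
  rw [Bool.not_eq_true'] at h1
  have hL : (box.filter (fun d => N % d == 0)).Pairwise (· < ·) := hbox.filter _
  have hmem : ∀ d, d ∈ box.filter (fun d => N % d == 0) ↔ d ∣ N := by
    intro d
    rw [List.mem_filter, beq_iff_eq]
    constructor
    · rintro ⟨-, hd⟩
      exact Nat.dvd_of_mod_eq_zero hd
    · intro hd
      exact ⟨hboxmem d (hd.trans hNM), Nat.mod_eq_zero_of_dvd hd⟩
  apply finalN_false hax h0 primes hpr goal N₀ _ hL hmem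
  by_contra hne
  rw [Bool.not_eq_false] at hne
  have := dfs_sound hax okv hokv N dvd_rfl _ _ hL hmem hne
  rw [h1] at this
  exact Bool.false_ne_true this

/-! ### further consequences of the constraints -/

theorem prime_cand (hax : Ax m N vals) (p : ℕ) (hp : p.Prime) (hpN : p ∣ N) :
    ∃ v ∈ vals, p ∣ v + 1 ∧ (p - 1) ∣ v := by
  have h0 := hax.cauchy p hp hpN
  refine ⟨m p, hax.mem p h0, ?_, ?_⟩
  · have := hax.frob p hpN
    rw [Nat.Prime.divisors hp, Finset.sum_pair hp.one_lt.ne, hax.one, add_comm] at this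
    exact this
  · have := hax.tot p
    rwa [Nat.totient_prime hp] at this

theorem m_eq_zero_of_sum (hax : Ax m N vals) (S : Finset ℕ) (hsum : ∑ k ∈ S, m k = N) (k : ℕ)
    (hk : k ∉ S) : m k = 0 := by
  by_contra h
  have h1 : ∑ x ∈ insert k S, m x ≤ ∑ x ∈ Nat.divisors N, m x :=
    Finset.sum_le_sum_of_ne_zero
      (fun x _ hx => Nat.mem_divisors.mpr ⟨hax.dvd x hx, hax.pos⟩)
  rw [Finset.sum_insert hk, hsum, ← hax.sum] at h1
  omega

theorem mem_primeFactorsList_of_dvd (p n : ℕ) (hp : p.Prime) (h : p ∣ n) (hn : n ≠ 0) :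
    p ∈ Nat.primeFactorsList n := (Nat.mem_primeFactorsList hn).mpr ⟨hp, h⟩

end Cfsg.Agent.Lib.Helper6.Nse
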