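import Mathlib
import Cfsg.Agent.Lib.Helper6.Nse2

/-!
# Kernel-evaluated arithmetic checks for `nse(A₄)`, `nse(A₅)`, `nse(A₆)` (helper6 library)
-/

set_option autoImplicit false

namespace Cfsg.Agent.Lib.Helper6.Nse

def vals4 : List ℕ := [1, 3, 8]

def ps4 : List (ℕ × ℕ) := [(2, 2), (3, 2)]

def primes4 : List ℕ := [2, 3]

def goal4 : List (ℕ × ℕ) := [(2, 3), (3, 8)]

def box4 : List ℕ := [1, 2, 3, 4, 6, 9, 12, 18, 36]

set_option maxRecDepth 1000000 in
theorem check4 : checkAll (okv 3) vals4 primes4 goal4 12 box4 = true := by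
  decide +kernel

set_option maxRecDepth 1000000 in
theorem box4_sorted : box4.Pairwise (· < ·) := by
  decide +kernel

set_option maxRecDepth 1000000 in
theorem box4_sub : ∀ d ∈ boxList ps4, d ∈ box4 := by
  decide +kernel

theorem bound4_2 : dfs (okv 3) vals4 (fun _ => true) ((List.range (2 + 2)).map (fun i => 2 ^ i)) [] = false := by
  decide +kernel

theorem bound4_3 : dfs (okv 3) vals4 (fun _ => true) ((List.range (2 + 2)).map (fun i => 3 ^ i)) [] = false := by
  decide +kernel

def vals5 : List ℕ := [1, 15, 20, 24]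

def ps5 : List (ℕ × ℕ) := [(2, 6), (3, 2), (5, 2)]

def primes5 : List ℕ := [2, 3, 5]

def goal5 : List (ℕ × ℕ) := [(2, 15), (3, 20), (5, 24)]

def box5 : List ℕ := [1, 2, 3, 4, 5, 6, 8, 9, 10, 12, 15, 16, 18, 20, 24, 25, 30, 32, 36, 40, 45, 48, 50, 60, 64, 72, 75, 80, 90, 96, 100, 120, 144, 150, 160, 180, 192, 200, 225, 240, 288, 300, 320, 360, 400, 450, 480, 576, 600, 720, 800, 900, 960, 1200, 1440, 1600, 1800, 2400, 2880, 3600, 4800, 7200, 14400]

set_option maxRecDepth 1000000 in
theorem check5 : checkAll (okv 15) vals5 primes5 goal5 60 box5 = true := by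
  decide +kernel

set_option maxRecDepth 1000000 in
theorem box5_sorted : box5.Pairwise (· < ·) := by
  decide +kernel

set_option maxRecDepth 1000000 in
theorem box5_sub : ∀ d ∈ boxList ps5, d ∈ box5 := by
  decide +kernel

theorem bound5_2 : dfs (okv 15) vals5 (fun _ => true) ((List.range (6 + 2)).map (fun i => 2 ^ i)) [] = false := by
  decide +kernel

theorem bound5_3 : dfs (okv 15) vals5 (fun _ => true) ((List.range (2 + 2)).map (fun i => 3 ^ i)) [] = false := by
  decide +kernel

theorem bound5_5 : dfs (okv 15) vals5 (fun _ => true) ((List.range (2 + 2)).map (fun i => 5 ^ i)) [] = false := by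
  decide +kernel

def vals6 : List ℕ := [1, 45, 80, 90, 144]

def ps6 : List (ℕ × ℕ) := [(2, 3), (3, 4), (5, 2), (7, 1)]

def primes6 : List ℕ := [2, 3, 5, 7]

def goal6 : List (ℕ × ℕ) := [(2, 45), (3, 80), (4, 90), (5, 144)]

def box6 : List ℕ := [1, 2, 3, 4, 5, 6, 7, 8, 9, 10, 12, 14, 15, 18, 20, 21, 24, 25, 27, 28, 30, 35, 36, 40, 42, 45, 50, 54, 56, 60, 63, 70, 72, 75, 81, 84, 90, 100, 105, 108, 120, 126, 135, 140, 150, 162, 168, 175, 180, 189, 200, 210, 216, 225, 252, 270, 280, 300, 315, 324, 350, 360, 378, 405, 420, 450, 504, 525, 540, 567, 600, 630, 648, 675, 700, 756, 810, 840, 900, 945, 1050, 1080, 1134, 1260, 1350, 1400, 1512, 1575, 1620, 1800, 1890, 2025, 2100, 2268, 2520, 2700, 2835, 3150, 3240, 3780, 4050, 4200, 4536, 4725, 5400, 5670, 6300, 7560, 8100, 9450, 11340, 12600, 14175, 16200, 18900, 22680, 28350, 37800, 56700, 113400]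

set_option maxRecDepth 1000000 in
theorem check6 : checkAll (okv 45) vals6 primes6 goal6 360 box6 = true := by
  decide +kernel

set_option maxRecDepth 1000000 in
theorem box6_sorted : box6.Pairwise (· < ·) := by
  decide +kernel

set_option maxRecDepth 1000000 in
theorem box6_sub : ∀ d ∈ boxList ps6, d ∈ box6 := by
  decide +kernel

theorem bound6_2 : dfs (okv 45) vals6 (fun _ => true) ((List.range (3 + 2)).map (fun i => 2 ^ i)) [] = false := by
  decide +kernel

theorem bound6_3 : dfs (okv 45) vals6 (fun _ => true) ((List.range (4 + 2)).map (fun i => 3 ^ i)) [] = false := by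
  decide +kernel

theorem bound6_5 : dfs (okv 45) vals6 (fun _ => true) ((List.range (2 + 2)).map (fun i => 5 ^ i)) [] = false := by
  decide +kernel

theorem bound6_7 : dfs (okv 45) vals6 (fun _ => true) ((List.range (1 + 2)).map (fun i => 7 ^ i)) [] = false := by
  decide +kernel

end Cfsg.Agent.Lib.Helper6.Nse
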