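import Mathlib
import Cfsg.Agent.Lib.Helper6.Nse1

/-!
# Simplicity from the numbers of elements of each order (helper6 library)

A group of order `60` (resp. `360`) with `20` (resp. `80`) elements of order `3`, `24` (resp. `144`)
elements of order `5` and all element orders at most `5` is simple.
-/

set_option autoImplicit false

namespace Cfsg.Agent.Lib.Helper6.Nse

universe u

variable {G : Type u} [Group G] [Finite G]

omit [Finite G] in
theorem orderOf_conj' (g x : G) : orderOf (g * x * g⁻¹) = orderOf x := by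
  rw [← MulAut.conj_apply, MulEquiv.orderOf_eq]

theorem mem_of_coprime_index (H : Subgroup G) [H.Normal] (g : G)
    (h : (orderOf g).Coprime H.index) : g ∈ H := by
  rw [← QuotientGroup.eq_one_iff]
  have h1 : ((g : G ⧸ H)) ^ orderOf g = 1 := by
    rw [← QuotientGroup.mk_pow, pow_orderOf_eq_one]
    rfl
  have h2 : ((g : G ⧸ H)) ^ H.index = 1 := by
    rw [Subgroup.index_eq_card]
    exact pow_card_eq_one'
  have h3 := Nat.dvd_gcd (orderOf_dvd_of_pow_eq_one h1) (orderOf_dvd_of_pow_eq_one h2)
  rw [Nat.Coprime] at h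
  rw [h, Nat.dvd_one, orderOf_eq_one_iff] at h3
  exact h3

theorem sum_mk_le_card (H : Subgroup G) (K : Finset ℕ)
    (hK : ∀ g : G, orderOf g ∈ K → g ∈ H) : ∑ k ∈ K, mk G k ≤ Nat.card H := by
  classical
  letI : Fintype G := Fintype.ofFinite G
  have h1 : Nat.card H = (Finset.univ.filter (fun g : G => g ∈ H)).card := by
    rw [Nat.card_eq_fintype_card, Fintype.card_subtype]
  have h2 : ∑ k ∈ K, mk G k = (Finset.univ.filter (fun g : G => orderOf g ∈ K)).card := by
    rw [Finset.card_eq_sum_card_fiberwise (f := fun g : G => orderOf g) (t := K)]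
    · apply Finset.sum_congr rfl
      intro k hk
      rw [mk_eq_card_filter]
      congr 1
      ext g
      simp only [Finset.mem_filter, Finset.mem_univ, true_and]
      constructor
      · intro h
        exact ⟨h ▸ hk, h⟩
      · exact fun h => h.2
    · intro g hg
      rw [Finset.mem_coe] at hg ⊢
      simpa using hg
  rw [h1, h2]
  apply Finset.card_le_card
  intro g hg
  simp only [Finset.mem_filter, Finset.mem_univ, true_and] at hg ⊢
  exact hK g hg

omit [Finite G] in
/-- a conjugation of prime-power order without fixed points on an invariant finite set -/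
theorem dvd_card_of_conj_fpf [DecidableEq G] (g : G) (p : ℕ) [Fact p.Prime]
    (hg : g ^ p = 1) (T : Finset G) (hT : ∀ x ∈ T, g * x * g⁻¹ ∈ T)
    (hfix : ∀ x ∈ T, g * x * g⁻¹ ≠ x) : p ∣ T.card := by
  let f : T → T := fun x => ⟨g * x.1 * g⁻¹, hT x.1 x.2⟩
  have hinj : Function.Injective f := by
    intro x y hxy
    have := congrArg Subtype.val hxy
    simp only [f] at this
    exact Subtype.ext (mul_left_cancel (mul_right_cancel this))
  let σ : Equiv.Perm T := Equiv.ofBijective f (Finite.injective_iff_bijective.mp hinj)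
  have hσ1 : ∀ x : T, ((σ x : T) : G) = g * x.1 * g⁻¹ := fun x => rfl
  have hpow : ∀ k : ℕ, ∀ x : T, (((σ ^ k) x : T) : G) = g ^ k * x.1 * (g ^ k)⁻¹ := by
    intro k
    induction k with
    | zero => intro x; simp
    | succ k ih =>
      intro x
      rw [pow_succ, Equiv.Perm.mul_apply, ih, hσ1, pow_succ, mul_inv_rev]
      simp only [mul_assoc]
  have hσ : σ ^ p ^ 1 = 1 := by
    rw [pow_one]
    ext x
    rw [hpow, hg]
    simp
  by_contra hnd
  rw [← Fintype.card_coe] at hnd
  obtain ⟨a, ha⟩ := Equiv.Perm.exists_fixed_point_of_prime hnd hσ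
  exact hfix a.1 a.2 (congrArg Subtype.val ha)

/-- an element of order `5` has no nontrivial fixed points of order prime to `5` if all element
orders are at most `5` -/
theorem conj_ne_of_small (hord : ∀ x : G, orderOf x ≤ 5) (g : G) (hg : orderOf g = 5) (x : G)
    (hx1 : x ≠ 1) (hcop : Nat.Coprime 5 (orderOf x)) : g * x * g⁻¹ ≠ x := by
  intro h
  have hc : Commute g x := by
    rw [Commute, SemiconjBy]
    rw [mul_inv_eq_iff_eq_mul] at h
    exact h
  have h1 := hc.orderOf_mul_eq_mul_orderOf_of_coprime (by rw [hg]; exact hcop)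
  have h2 := hord (g * x)
  rw [h1, hg] at h2
  have h3 : orderOf x ≠ 1 := fun e => hx1 (orderOf_eq_one_iff.mp e)
  have h4 := orderOf_pos x
  omega

theorem card_mod_of_fpf (hord : ∀ x : G, orderOf x ≤ 5) (H : Subgroup G) [H.Normal] (g : G)
    (hg : orderOf g = 5) (hH : ¬ 5 ∣ Nat.card H) : Nat.card H % 5 = 1 := by
  classical
  letI : Fintype G := Fintype.ofFinite G
  haveI : Fact (Nat.Prime 5) := ⟨by norm_num⟩
  have h1 : Nat.card H = (Finset.univ.filter (fun g : G => g ∈ H)).card := by
    rw [Nat.card_eq_fintype_card, Fintype.card_subtype]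
  have hone : (1 : G) ∈ Finset.univ.filter (fun g : G => g ∈ H) := by
    simp [H.one_mem]
  have h2 : 5 ∣ ((Finset.univ.filter (fun g : G => g ∈ H)).erase 1).card := by
    apply dvd_card_of_conj_fpf g 5 (by rw [← hg]; exact pow_orderOf_eq_one g)
    · intro x hx
      rw [Finset.mem_erase, Finset.mem_filter] at hx ⊢
      refine ⟨?_, Finset.mem_univ _, ?_⟩
      · rw [Ne, conj_eq_one_iff]
        exact hx.1
      · exact ‹H.Normal›.conj_mem x hx.2.2 g
    · intro x hx
      rw [Finset.mem_erase, Finset.mem_filter] at hx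
      apply conj_ne_of_small hord g hg x hx.1
      exact (Nat.Prime.coprime_iff_not_dvd (by norm_num)).mpr
        (fun hd => hH (hd.trans (Subgroup.orderOf_dvd_natCard H hx.2.2)))
  rw [Finset.card_erase_of_mem hone, ← h1] at h2
  have := Nat.card_pos (α := H)
  omega

open Classical in
/-- in a normal subgroup whose order is divisible by a prime `q ≠ 5`, there are at least `5`
elements of order `q` -/
theorem five_le_card_order (hord : ∀ x : G, orderOf x ≤ 5) (H : Subgroup G) [H.Normal] (g : G)
    (hg : orderOf g = 5) (q : ℕ) (hq : q.Prime) (hq5 : q ≠ 5) (hqH : q ∣ Nat.card H)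
    [Fintype G] :
    5 ≤ (Finset.univ.filter (fun x : G => x ∈ H ∧ orderOf x = q)).card := by
  haveI : Fact (Nat.Prime 5) := ⟨by norm_num⟩
  haveI : Fact q.Prime := ⟨hq⟩
  have h2 : 5 ∣ (Finset.univ.filter (fun x : G => x ∈ H ∧ orderOf x = q)).card := by
    apply dvd_card_of_conj_fpf g 5 (by rw [← hg]; exact pow_orderOf_eq_one g)
    · intro x hx
      rw [Finset.mem_filter] at hx ⊢
      refine ⟨Finset.mem_univ _, ‹H.Normal›.conj_mem x hx.2.1 g, ?_⟩
      rw [orderOf_conj']
      exact hx.2.2
    · intro x hx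
      rw [Finset.mem_filter] at hx
      apply conj_ne_of_small hord g hg x
      · intro h1
        rw [h1, orderOf_one] at hx
        exact hq.ne_one hx.2.2.symm
      · rw [hx.2.2]
        exact (Nat.coprime_primes (by norm_num) hq).mpr (fun e => hq5 e.symm)
  obtain ⟨x, hx⟩ := exists_prime_orderOf_dvd_card' (G := H) q hqH
  have hne : (Finset.univ.filter (fun x : G => x ∈ H ∧ orderOf x = q)).card ≠ 0 := by
    rw [Finset.card_ne_zero]
    refine ⟨(x : G), ?_⟩
    rw [Finset.mem_filter]
    refine ⟨Finset.mem_univ _, x.2, ?_⟩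
    rw [Subgroup.orderOf_coe]
    exact hx
  obtain ⟨c, hc⟩ := h2
  rw [hc] at hne ⊢
  have : c ≠ 0 := by
    rintro rfl
    exact hne rfl
  omega

theorem not_card_six (hord : ∀ x : G, orderOf x ≤ 5) (H : Subgroup G) [H.Normal] (g : G)
    (hg : orderOf g = 5) (hH : Nat.card H = 6) : False := by
  classical
  letI : Fintype G := Fintype.ofFinite G
  have h1 : Nat.card H = (Finset.univ.filter (fun g : G => g ∈ H)).card := by
    rw [Nat.card_eq_fintype_card, Fintype.card_subtype]
  have hone : (1 : G) ∈ Finset.univ.filter (fun g : G => g ∈ H) := by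
    simp [H.one_mem]
  have h2 := five_le_card_order hord H g hg 2 (by norm_num) (by norm_num) (by rw [hH]; norm_num)
  have h3 := five_le_card_order hord H g hg 3 (by norm_num) (by norm_num) (by rw [hH]; norm_num)
  have hdisj : Disjoint (Finset.univ.filter (fun x : G => x ∈ H ∧ orderOf x = 2))
      (Finset.univ.filter (fun x : G => x ∈ H ∧ orderOf x = 3)) := by
    rw [Finset.disjoint_left]
    intro x hx hx'
    rw [Finset.mem_filter] at hx hx'
    omega
  have hsub : (Finset.univ.filter (fun x : G => x ∈ H ∧ orderOf x = 2)) ∪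
      (Finset.univ.filter (fun x : G => x ∈ H ∧ orderOf x = 3)) ⊆
      (Finset.univ.filter (fun g : G => g ∈ H)).erase 1 := by
    intro x hx
    rw [Finset.mem_union, Finset.mem_filter, Finset.mem_filter] at hx
    rw [Finset.mem_erase, Finset.mem_filter]
    rcases hx with hx | hx
    · refine ⟨?_, Finset.mem_univ _, hx.2.1⟩
      rintro rfl
      rw [orderOf_one] at hx
      omega
    · refine ⟨?_, Finset.mem_univ _, hx.2.1⟩
      rintro rfl
      rw [orderOf_one] at hx
      omega
  have h4 := Finset.card_le_card hsub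
  rw [Finset.card_union_of_disjoint hdisj, Finset.card_erase_of_mem hone, ← h1, hH] at h4
  omega

/-- the simplicity criterion -/
theorem simple_of_counts (N m3 m5 : ℕ)
    (hcase : (N = 60 ∧ m3 = 20 ∧ m5 = 24) ∨ (N = 360 ∧ m3 = 80 ∧ m5 = 144))
    (hN : Nat.card G = N) (h3 : mk G 3 = m3) (h5 : mk G 5 = m5)
    (hord : ∀ x : G, orderOf x ≤ 5) : IsSimpleGroup G := by
  haveI : Nontrivial G := by
    rw [← Finite.one_lt_card_iff_nontrivial, hN]
    rcases hcase with ⟨rfl, -, -⟩ | ⟨rfl, -, -⟩ <;> norm_num
  refine ⟨fun H hH => ?_⟩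
  haveI := hH
  by_contra hcon
  push Not at hcon
  obtain ⟨hbot, htop⟩ := hcon
  have hh1 : Nat.card H ≠ 1 := fun e => hbot (Subgroup.card_eq_one.mp e)
  have hi1 : H.index ≠ 1 := fun e => htop (Subgroup.index_eq_one.mp e)
  have hmul := H.card_mul_index
  rw [hN] at hmul
  have hm5 : m5 ≠ 0 := by
    rcases hcase with ⟨-, -, rfl⟩ | ⟨-, -, rfl⟩ <;> norm_num
  obtain ⟨g, hg⟩ := (mk_ne_zero_iff 5).mp (by rw [h5]; exact hm5)
  have h1 := mk_one (G := G)
  have hi0 : H.index ≠ 0 := by
    intro e
    rw [e, mul_zero] at hmul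
    rcases hcase with ⟨rfl, -, -⟩ | ⟨rfl, -, -⟩ <;> omega
  by_cases hd : 5 ∣ Nat.card H
  · -- all elements of order 5 lie in `H`
    have hi5 : ¬ 5 ∣ H.index := by
      intro hi5
      have h25 : 5 * 5 ∣ N := by
        rw [← hmul]
        exact Nat.mul_dvd_mul hd hi5
      rcases hcase with ⟨rfl, -, -⟩ | ⟨rfl, -, -⟩ <;> omega
    have hle1 : ∑ k ∈ ({1, 5} : Finset ℕ), mk G k ≤ Nat.card H := by
      apply sum_mk_le_card
      intro x hx
      rw [Finset.mem_insert, Finset.mem_singleton] at hx
      apply mem_of_coprime_index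
      rcases hx with hx | hx
      · rw [hx]; exact Nat.coprime_one_left _
      · rw [hx]; exact (Nat.Prime.coprime_iff_not_dvd (by norm_num)).mpr hi5
    rw [Finset.sum_pair (by norm_num), h1, h5] at hle1
    have hi2 : H.index = 2 := by
      by_contra hne
      have h3' : 3 ≤ H.index := by omega
      have := Nat.mul_le_mul hle1 h3'
      rw [hmul] at this
      rcases hcase with ⟨rfl, -, rfl⟩ | ⟨rfl, -, rfl⟩ <;> omega
    have hle2 : ∑ k ∈ ({1, 3, 5} : Finset ℕ), mk G k ≤ Nat.card H := by
      apply sum_mk_le_card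
      intro x hx
      rw [Finset.mem_insert, Finset.mem_insert, Finset.mem_singleton] at hx
      apply mem_of_coprime_index
      rw [hi2]
      rcases hx with hx | hx | hx <;> rw [hx] <;> norm_num
    rw [Finset.sum_insert (by norm_num), Finset.sum_pair (by norm_num), h1, h3, h5] at hle2
    rw [hi2] at hmul
    rcases hcase with ⟨rfl, rfl, rfl⟩ | ⟨rfl, rfl, rfl⟩ <;> omega
  · have hmod := card_mod_of_fpf hord H g hg hd
    have hcop : Nat.Coprime (Nat.card H) 5 :=
      ((Nat.Prime.coprime_iff_not_dvd (by norm_num)).mpr hd).symm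
    have hdvdN : Nat.card H ∣ N := ⟨_, hmul.symm⟩
    rcases hcase with ⟨rfl, rfl, rfl⟩ | ⟨rfl, rfl, rfl⟩
    · have h12 : Nat.card H ∣ 12 := by
        apply hcop.dvd_of_dvd_mul_left (m := 5)
        exact hdvdN
      have hle := Nat.le_of_dvd (by norm_num) h12
      have h6 : Nat.card H = 6 := by
        interval_cases Nat.card H <;> omega
      exact not_card_six hord H g hg h6
    · have h72 : Nat.card H ∣ 72 := by
        apply hcop.dvd_of_dvd_mul_left (m := 5)
        exact hdvdN
      have hle := Nat.le_of_dvd (by norm_num) h72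
      have h6 : Nat.card H = 6 ∨ Nat.card H = 36 := by
        interval_cases Nat.card H <;> omega
      rcases h6 with h6 | h36
      · exact not_card_six hord H g hg h6
      · rw [h36] at hmul
        have hi10 : H.index = 10 := by omega
        have hle2 : ∑ k ∈ ({1, 3} : Finset ℕ), mk G k ≤ Nat.card H := by
          apply sum_mk_le_card
          intro x hx
          rw [Finset.mem_insert, Finset.mem_singleton] at hx
          apply mem_of_coprime_index
          rw [hi10]
          rcases hx with hx | hx <;> rw [hx] <;> norm_num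
        rw [Finset.sum_pair (by norm_num), h1, h3, h36] at hle2
        omega

end Cfsg.Agent.Lib.Helper6.Nse
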