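import Mathlib
import Cfsg.Agent.Lib.Helper6.Nse1

/-!
# Numbers of elements of each order in `A₄`, `A₅`, `A₆` (helper6 library)
-/

set_option autoImplicit false

namespace Cfsg.Agent.Lib.Helper6.Nse

/-- transfer of a count in `alternatingGroup (Fin n)` to a decidable count of permutations -/
theorem mk_alt_eq (n k c : ℕ) (P : Equiv.Perm (Fin n) → Prop) [DecidablePred P]
    (hP : ∀ g : Equiv.Perm (Fin n), orderOf g = k ↔ P g)
    (hc : (Finset.univ.filter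
      (fun g : Equiv.Perm (Fin n) => Equiv.Perm.sign g = 1 ∧ P g)).card = c) :
    mk (alternatingGroup (Fin n)) k = c := by
  unfold mk
  rw [← hc, ← Fintype.card_subtype, ← Nat.card_eq_fintype_card]
  apply Nat.card_congr
  refine ⟨fun g => ⟨g.1.1, Equiv.Perm.mem_alternatingGroup.mp g.1.2, (hP _).mp ?_⟩,
    fun g => ⟨⟨g.1, Equiv.Perm.mem_alternatingGroup.mpr g.2.1⟩, ?_⟩, ?_, ?_⟩
  · rw [Subgroup.orderOf_coe]
    exact g.2
  · rw [← Subgroup.orderOf_coe]
    exact (hP _).mpr g.2.2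
  · intro g
    rfl
  · intro g
    rfl

theorem orderOf_eq_four_iff {G : Type*} [Group G] (g : G) :
    orderOf g = 4 ↔ g ^ 4 = 1 ∧ g ^ 2 ≠ 1 := by
  constructor
  · intro h
    refine ⟨by rw [← h]; exact pow_orderOf_eq_one g, fun h2 => ?_⟩
    have := orderOf_dvd_of_pow_eq_one h2
    rw [h] at this
    omega
  · rintro ⟨h4, h2⟩
    exact orderOf_eq_prime_pow (p := 2) (n := 1) (by simpa using h2) (by simpa using h4)

theorem orderOf_eq_prime_iff' {G : Type*} [Group G] (g : G) (p : ℕ) [Fact p.Prime] :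
    orderOf g = p ↔ g ^ p = 1 ∧ g ≠ 1 := orderOf_eq_prime_iff

instance fact_prime_two' : Fact (Nat.Prime 2) := ⟨Nat.prime_two⟩
instance fact_prime_three' : Fact (Nat.Prime 3) := ⟨Nat.prime_three⟩
instance fact_prime_five' : Fact (Nat.Prime 5) := ⟨Nat.prime_five⟩

/-! ### `A₄` -/

set_option maxRecDepth 1000000 in
theorem A4_mk2 : mk (alternatingGroup (Fin 4)) 2 = 3 :=
  mk_alt_eq 4 2 3 (fun g => g ^ 2 = 1 ∧ g ≠ 1) (fun g => orderOf_eq_prime_iff' g 2)
    (by decide +kernel)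

set_option maxRecDepth 1000000 in
theorem A4_mk3 : mk (alternatingGroup (Fin 4)) 3 = 8 :=
  mk_alt_eq 4 3 8 (fun g => g ^ 3 = 1 ∧ g ≠ 1) (fun g => orderOf_eq_prime_iff' g 3)
    (by decide +kernel)

set_option maxRecDepth 1000000 in
theorem A4_orders : ∀ g : Equiv.Perm (Fin 4), Equiv.Perm.sign g = 1 → g ^ 2 = 1 ∨ g ^ 3 = 1 := by
  decide +kernel

/-! ### `A₅` -/

set_option maxRecDepth 1000000 in
theorem A5_mk2 : mk (alternatingGroup (Fin 5)) 2 = 15 :=
  mk_alt_eq 5 2 15 (fun g => g ^ 2 = 1 ∧ g ≠ 1) (fun g => orderOf_eq_prime_iff' g 2)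
    (by decide +kernel)

set_option maxRecDepth 1000000 in
theorem A5_mk3 : mk (alternatingGroup (Fin 5)) 3 = 20 :=
  mk_alt_eq 5 3 20 (fun g => g ^ 3 = 1 ∧ g ≠ 1) (fun g => orderOf_eq_prime_iff' g 3)
    (by decide +kernel)

set_option maxRecDepth 1000000 in
theorem A5_mk5 : mk (alternatingGroup (Fin 5)) 5 = 24 :=
  mk_alt_eq 5 5 24 (fun g => g ^ 5 = 1 ∧ g ≠ 1) (fun g => orderOf_eq_prime_iff' g 5)
    (by decide +kernel)

set_option maxRecDepth 1000000 in
theorem A5_orders : ∀ g : Equiv.Perm (Fin 5), Equiv.Perm.sign g = 1 →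
    g ^ 2 = 1 ∨ g ^ 3 = 1 ∨ g ^ 5 = 1 := by
  decide +kernel

end Cfsg.Agent.Lib.Helper6.Nse
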