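import Mathlib
import Cfsg.Agent.Lib.Helper6.Nse5

/-!
# Numbers of elements of each order in `A₆` (helper6 library)
-/

set_option autoImplicit false

namespace Cfsg.Agent.Lib.Helper6.Nse

set_option maxRecDepth 1000000 in
theorem A6_mk2 : mk (alternatingGroup (Fin 6)) 2 = 45 :=
  mk_alt_eq 6 2 45 (fun g => g ^ 2 = 1 ∧ g ≠ 1) (fun g => orderOf_eq_prime_iff' g 2)
    (by decide +kernel)

set_option maxRecDepth 1000000 in
theorem A6_mk3 : mk (alternatingGroup (Fin 6)) 3 = 80 :=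
  mk_alt_eq 6 3 80 (fun g => g ^ 3 = 1 ∧ g ≠ 1) (fun g => orderOf_eq_prime_iff' g 3)
    (by decide +kernel)

set_option maxRecDepth 1000000 in
theorem A6_mk4 : mk (alternatingGroup (Fin 6)) 4 = 90 :=
  mk_alt_eq 6 4 90 (fun g => g ^ 4 = 1 ∧ g ^ 2 ≠ 1) (fun g => orderOf_eq_four_iff g)
    (by decide +kernel)

set_option maxRecDepth 1000000 in
theorem A6_mk5 : mk (alternatingGroup (Fin 6)) 5 = 144 :=
  mk_alt_eq 6 5 144 (fun g => g ^ 5 = 1 ∧ g ≠ 1) (fun g => orderOf_eq_prime_iff' g 5)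
    (by decide +kernel)

set_option maxRecDepth 1000000 in
theorem A6_orders : ∀ g : Equiv.Perm (Fin 6), Equiv.Perm.sign g = 1 →
    g ^ 4 = 1 ∨ g ^ 3 = 1 ∨ g ^ 5 = 1 := by
  decide +kernel

end Cfsg.Agent.Lib.Helper6.Nse
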