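import Mathlib
import Cfsg.Agent.Lib.Helper6.Nse3
import Cfsg.Agent.Lib.Helper6.Nse4
import Cfsg.Agent.Lib.Helper6.Nse6
import Cfsg.Agent.S0494
import Cfsg.Agent.Lib.Helper28.Order360
import Cfsg.Agent.Lib.Helper2.OrderTwelve

/-!
# Recognition of `A₄`, `A₅`, `A₆` by the set `nse` (helper6 library)
-/

set_option autoImplicit false

namespace Cfsg.Agent.Lib.Helper6.Nse

universe u

/-- the set of numbers of elements of each order -/
def nseSet (G : Type u) [Group G] : Set ℕ :=
  (fun m : ℕ => Nat.card {g : G // orderOf g = m}) '' Set.range (orderOf : G → ℕ)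

theorem ax_of_group {G : Type u} [Group G] [Finite G] (vals : List ℕ)
    (h : nseSet G = {s | s ∈ vals}) : Ax (mk G) (Nat.card G) vals := by
  obtain ⟨h1, h2⟩ := (nse_iff _).mp h
  exact
    { pos := Nat.card_pos.ne'
      one := mk_one
      tot := totient_dvd_mk
      frob := frobenius
      dvd := dvd_card_of_mk_ne_zero
      down := mk_ne_zero_of_dvd
      cauchy := mk_prime_ne_zero
      sum := card_eq_sum
      mem := fun k hk => h1 k hk
      att := fun s hs => (h2 s hs).imp (fun k hk => hk.2) }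

theorem nse_of_table {A : Type u} [Group A] [Finite A] (tab : List (ℕ × ℕ))
    (htab : ∀ x ∈ tab, mk A x.1 = x.2 ∧ x.2 ≠ 0)
    (hall : ∀ g : A, ∃ x ∈ tab, orderOf g = x.1) :
    nseSet A = {s | s ∈ tab.map Prod.snd} := by
  rw [nseSet, nse_iff]
  constructor
  · intro k hk
    obtain ⟨g, hg⟩ := (mk_ne_zero_iff k).mp hk
    obtain ⟨x, hx, hgx⟩ := hall g
    rw [Set.mem_setOf_eq, List.mem_map]
    refine ⟨x, hx, ?_⟩
    rw [← hg, hgx]
    exact (htab x hx).1.symm
  · intro s hs
    rw [Set.mem_setOf_eq, List.mem_map] at hs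
    obtain ⟨x, hx, rfl⟩ := hs
    refine ⟨x.1, ?_, (htab x hx).1⟩
    rw [(htab x hx).1]
    exact (htab x hx).2

theorem small_divisors (k : ℕ) (h : k ∣ 4 ∨ k ∣ 3 ∨ k ∣ 5) :
    k = 1 ∨ k = 2 ∨ k = 3 ∨ k = 4 ∨ k = 5 := by
  rcases h with h | h | h <;>
  · have := Nat.le_of_dvd (by norm_num) h
    interval_cases k <;> omega

theorem small_divisors' (k : ℕ) (h : k ∣ 2 ∨ k ∣ 3 ∨ k ∣ 5) :
    k = 1 ∨ k = 2 ∨ k = 3 ∨ k = 5 := by
  rcases h with h | h | h <;>
  · have := Nat.le_of_dvd (by norm_num) h
    interval_cases k <;> omega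

theorem nse_alt4 : nseSet (alternatingGroup (Fin 4)) = {s | s ∈ vals4} := by
  have := nse_of_table (A := alternatingGroup (Fin 4)) [(1, 1), (2, 3), (3, 8)] ?_ ?_
  · exact this
  · intro x hx
    simp only [List.mem_cons, List.not_mem_nil, or_false] at hx
    rcases hx with rfl | rfl | rfl
    · exact ⟨mk_one, by norm_num⟩
    · exact ⟨A4_mk2, by norm_num⟩
    · exact ⟨A4_mk3, by norm_num⟩
  · intro g
    have h1 := A4_orders g.1 (Equiv.Perm.mem_alternatingGroup.mp g.2)
    have h2 : orderOf g ∣ 2 ∨ orderOf g ∣ 3 ∨ orderOf g ∣ 5 := by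
      rw [← Subgroup.orderOf_coe]
      rcases h1 with h | h
      · exact Or.inl (orderOf_dvd_of_pow_eq_one h)
      · exact Or.inr (Or.inl (orderOf_dvd_of_pow_eq_one h))
    have h3 : ¬ orderOf g ∣ 5 ∨ orderOf g = 1 := by
      rw [← Subgroup.orderOf_coe]
      rcases h1 with h | h
      · have := orderOf_dvd_of_pow_eq_one h
        by_cases h5 : orderOf (g : Equiv.Perm (Fin 4)) ∣ 5
        · right
          have := Nat.dvd_gcd this h5
          simpa using this
        · exact Or.inl h5
      · have := orderOf_dvd_of_pow_eq_one h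
        by_cases h5 : orderOf (g : Equiv.Perm (Fin 4)) ∣ 5
        · right
          have := Nat.dvd_gcd this h5
          simpa using this
        · exact Or.inl h5
    rcases small_divisors' _ h2 with h | h | h | h
    · exact ⟨(1, 1), by simp, h⟩
    · exact ⟨(2, 3), by simp, h⟩
    · exact ⟨(3, 8), by simp, h⟩
    · exfalso
      rcases h3 with h3 | h3
      · exact h3 (by rw [h])
      · omega

theorem nse_alt5 : nseSet (alternatingGroup (Fin 5)) = {s | s ∈ vals5} := by
  have := nse_of_table (A := alternatingGroup (Fin 5)) [(1, 1), (2, 15), (3, 20), (5, 24)] ?_ ?_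
  · exact this
  · intro x hx
    simp only [List.mem_cons, List.not_mem_nil, or_false] at hx
    rcases hx with rfl | rfl | rfl | rfl
    · exact ⟨mk_one, by norm_num⟩
    · exact ⟨A5_mk2, by norm_num⟩
    · exact ⟨A5_mk3, by norm_num⟩
    · exact ⟨A5_mk5, by norm_num⟩
  · intro g
    have h1 := A5_orders g.1 (Equiv.Perm.mem_alternatingGroup.mp g.2)
    have h2 : orderOf g ∣ 2 ∨ orderOf g ∣ 3 ∨ orderOf g ∣ 5 := by
      rw [← Subgroup.orderOf_coe]
      rcases h1 with h | h | h
      · exact Or.inl (orderOf_dvd_of_pow_eq_one h)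
      · exact Or.inr (Or.inl (orderOf_dvd_of_pow_eq_one h))
      · exact Or.inr (Or.inr (orderOf_dvd_of_pow_eq_one h))
    rcases small_divisors' _ h2 with h | h | h | h
    · exact ⟨(1, 1), by simp, h⟩
    · exact ⟨(2, 15), by simp, h⟩
    · exact ⟨(3, 20), by simp, h⟩
    · exact ⟨(5, 24), by simp, h⟩

theorem nse_alt6 : nseSet (alternatingGroup (Fin 6)) = {s | s ∈ vals6} := by
  have := nse_of_table (A := alternatingGroup (Fin 6))
    [(1, 1), (2, 45), (3, 80), (4, 90), (5, 144)] ?_ ?_
  · exact this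
  · intro x hx
    simp only [List.mem_cons, List.not_mem_nil, or_false] at hx
    rcases hx with rfl | rfl | rfl | rfl | rfl
    · exact ⟨mk_one, by norm_num⟩
    · exact ⟨A6_mk2, by norm_num⟩
    · exact ⟨A6_mk3, by norm_num⟩
    · exact ⟨A6_mk4, by norm_num⟩
    · exact ⟨A6_mk5, by norm_num⟩
  · intro g
    have h1 := A6_orders g.1 (Equiv.Perm.mem_alternatingGroup.mp g.2)
    have h2 : orderOf g ∣ 4 ∨ orderOf g ∣ 3 ∨ orderOf g ∣ 5 := by
      rw [← Subgroup.orderOf_coe]
      rcases h1 with h | h | h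
      · exact Or.inl (orderOf_dvd_of_pow_eq_one h)
      · exact Or.inr (Or.inl (orderOf_dvd_of_pow_eq_one h))
      · exact Or.inr (Or.inr (orderOf_dvd_of_pow_eq_one h))
    rcases small_divisors _ h2 with h | h | h | h | h
    · exact ⟨(1, 1), by simp, h⟩
    · exact ⟨(2, 45), by simp, h⟩
    · exact ⟨(3, 80), by simp, h⟩
    · exact ⟨(4, 90), by simp, h⟩
    · exact ⟨(5, 144), by simp, h⟩

/-! ### the three cases -/

section cases

variable {G : Type u} [Group G] [Finite G]

theorem solve4 (h : nseSet G = {s | s ∈ vals4}) :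
    Nat.card G = 12 ∧ mk G 2 = 3 ∧ mk G 3 = 8 := by
  have hax := ax_of_group vals4 h
  have hm2 : mk G 2 = 3 := m_two_eq hax 3 (by decide) (by norm_num) (by norm_num)
  have hokv := okv_true hax 3 hm2
  have hprimes : ∀ p, p.Prime → p ∣ Nat.card G → ∃ x ∈ ps4, x.1 = p := by
    intro p hp hpN
    obtain ⟨v, hv, h1, h2⟩ := prime_cand hax p hp hpN
    simp only [vals4, List.mem_cons, List.not_mem_nil, or_false] at hv
    have key : p = 2 ∨ p = 3 := by
      rcases hv with rfl | rfl | rfl
      · have hm := mem_primeFactorsList_of_dvd p _ hp h1 (by norm_num)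
        simp at hm
        omega
      · have hm := mem_primeFactorsList_of_dvd p _ hp h1 (by norm_num)
        simp at hm
        omega
      · have hm := mem_primeFactorsList_of_dvd p _ hp h1 (by norm_num)
        simp at hm
        omega
    rcases key with rfl | rfl
    · exact ⟨(2, 2), by simp [ps4], rfl⟩
    · exact ⟨(3, 2), by simp [ps4], rfl⟩
  have hpr : ∀ x ∈ ps4, x.1.Prime := by
    intro x hx
    simp only [ps4, List.mem_cons, List.not_mem_nil, or_false] at hx
    rcases hx with rfl | rfl <;> norm_num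
  have hbounds : ∀ x ∈ ps4, ¬ x.1 ^ (x.2 + 1) ∣ Nat.card G := by
    intro x hx
    simp only [ps4, List.mem_cons, List.not_mem_nil, or_false] at hx
    rcases hx with rfl | rfl
    · exact pow_bound hax (okv 3) hokv 2 (by norm_num) 2 bound4_2
    · exact pow_bound hax (okv 3) hokv 3 (by norm_num) 2 bound4_3
  have hNM := dvd_prodPow ps4 (Nat.card G) hax.pos hpr hprimes hbounds
  have hpr' : ∀ p ∈ primes4, p.Prime := by
    intro p hp
    simp only [primes4, List.mem_cons, List.not_mem_nil, or_false] at hp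
    rcases hp with rfl | rfl <;> norm_num
  obtain ⟨hN, hgoal⟩ := checkAll_sound hax (by decide) (okv 3) hokv primes4 hpr' goal4 12 box4
    box4_sorted (prodPow ps4) (fun d hd => box4_sub d (mem_boxList ps4 hpr d hd)) hNM check4
  refine ⟨hN, hm2, ?_⟩
  exact hgoal (3, 8) (by simp [goal4])

theorem solve5 (h : nseSet G = {s | s ∈ vals5}) :
    Nat.card G = 60 ∧ mk G 2 = 15 ∧ mk G 3 = 20 ∧ mk G 5 = 24 := by
  have hax := ax_of_group vals5 h
  have hm2 : mk G 2 = 15 := m_two_eq hax 15 (by decide) (by norm_num) (by norm_num)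
  have hokv := okv_true hax 15 hm2
  have hprimes : ∀ p, p.Prime → p ∣ Nat.card G → ∃ x ∈ ps5, x.1 = p := by
    intro p hp hpN
    obtain ⟨v, hv, h1, h2⟩ := prime_cand hax p hp hpN
    simp only [vals5, List.mem_cons, List.not_mem_nil, or_false] at hv
    have key : p = 2 ∨ p = 3 ∨ p = 5 := by
      rcases hv with rfl | rfl | rfl | rfl
      · have hm := mem_primeFactorsList_of_dvd p _ hp h1 (by norm_num)
        simp at hm
        omega
      · have hm := mem_primeFactorsList_of_dvd p _ hp h1 (by norm_num)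
        simp at hm
        omega
      · have hm := mem_primeFactorsList_of_dvd p _ hp h1 (by norm_num)
        simp at hm
        rcases hm with rfl | rfl
        · omega
        · omega
      · have hm := mem_primeFactorsList_of_dvd p _ hp h1 (by norm_num)
        simp at hm
        omega
    rcases key with rfl | rfl | rfl
    · exact ⟨(2, 6), by simp [ps5], rfl⟩
    · exact ⟨(3, 2), by simp [ps5], rfl⟩
    · exact ⟨(5, 2), by simp [ps5], rfl⟩
  have hpr : ∀ x ∈ ps5, x.1.Prime := by
    intro x hx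
    simp only [ps5, List.mem_cons, List.not_mem_nil, or_false] at hx
    rcases hx with rfl | rfl | rfl <;> norm_num
  have hbounds : ∀ x ∈ ps5, ¬ x.1 ^ (x.2 + 1) ∣ Nat.card G := by
    intro x hx
    simp only [ps5, List.mem_cons, List.not_mem_nil, or_false] at hx
    rcases hx with rfl | rfl | rfl
    · exact pow_bound hax (okv 15) hokv 2 (by norm_num) 6 bound5_2
    · exact pow_bound hax (okv 15) hokv 3 (by norm_num) 2 bound5_3
    · exact pow_bound hax (okv 15) hokv 5 (by norm_num) 2 bound5_5
  have hNM := dvd_prodPow ps5 (Nat.card G) hax.pos hpr hprimes hbounds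
  have hpr' : ∀ p ∈ primes5, p.Prime := by
    intro p hp
    simp only [primes5, List.mem_cons, List.not_mem_nil, or_false] at hp
    rcases hp with rfl | rfl | rfl <;> norm_num
  obtain ⟨hN, hgoal⟩ := checkAll_sound hax (by decide) (okv 15) hokv primes5 hpr' goal5 60 box5
    box5_sorted (prodPow ps5) (fun d hd => box5_sub d (mem_boxList ps5 hpr d hd)) hNM check5
  refine ⟨hN, hm2, ?_, ?_⟩
  · exact hgoal (3, 20) (by simp [goal5])
  · exact hgoal (5, 24) (by simp [goal5])

theorem solve6 (h : nseSet G = {s | s ∈ vals6}) :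
    Nat.card G = 360 ∧ mk G 2 = 45 ∧ mk G 3 = 80 ∧ mk G 4 = 90 ∧ mk G 5 = 144 := by
  have hax := ax_of_group vals6 h
  have hm2 : mk G 2 = 45 := m_two_eq hax 45 (by decide) (by norm_num) (by norm_num)
  have hokv := okv_true hax 45 hm2
  have hprimes : ∀ p, p.Prime → p ∣ Nat.card G → ∃ x ∈ ps6, x.1 = p := by
    intro p hp hpN
    obtain ⟨v, hv, h1, h2⟩ := prime_cand hax p hp hpN
    simp only [vals6, List.mem_cons, List.not_mem_nil, or_false] at hv
    have key : p = 2 ∨ p = 3 ∨ p = 5 ∨ p = 7 := by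
      rcases hv with rfl | rfl | rfl | rfl | rfl
      · have hm := mem_primeFactorsList_of_dvd p _ hp h1 (by norm_num)
        simp at hm
        omega
      · have hm := mem_primeFactorsList_of_dvd p _ hp h1 (by norm_num)
        simp at hm
        rcases hm with rfl | rfl
        · omega
        · omega
      · have hm := mem_primeFactorsList_of_dvd p _ hp h1 (by norm_num)
        simp at hm
        omega
      · have hm := mem_primeFactorsList_of_dvd p _ hp h1 (by norm_num)
        simp at hm
        rcases hm with rfl | rfl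
        · omega
        · omega
      · have hm := mem_primeFactorsList_of_dvd p _ hp h1 (by norm_num)
        simp at hm
        rcases hm with rfl | rfl
        · omega
        · omega
    rcases key with rfl | rfl | rfl | rfl
    · exact ⟨(2, 3), by simp [ps6], rfl⟩
    · exact ⟨(3, 4), by simp [ps6], rfl⟩
    · exact ⟨(5, 2), by simp [ps6], rfl⟩
    · exact ⟨(7, 1), by simp [ps6], rfl⟩
  have hpr : ∀ x ∈ ps6, x.1.Prime := by
    intro x hx
    simp only [ps6, List.mem_cons, List.not_mem_nil, or_false] at hx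
    rcases hx with rfl | rfl | rfl | rfl <;> norm_num
  have hbounds : ∀ x ∈ ps6, ¬ x.1 ^ (x.2 + 1) ∣ Nat.card G := by
    intro x hx
    simp only [ps6, List.mem_cons, List.not_mem_nil, or_false] at hx
    rcases hx with rfl | rfl | rfl | rfl
    · exact pow_bound hax (okv 45) hokv 2 (by norm_num) 3 bound6_2
    · exact pow_bound hax (okv 45) hokv 3 (by norm_num) 4 bound6_3
    · exact pow_bound hax (okv 45) hokv 5 (by norm_num) 2 bound6_5
    · exact pow_bound hax (okv 45) hokv 7 (by norm_num) 1 bound6_7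
  have hNM := dvd_prodPow ps6 (Nat.card G) hax.pos hpr hprimes hbounds
  have hpr' : ∀ p ∈ primes6, p.Prime := by
    intro p hp
    simp only [primes6, List.mem_cons, List.not_mem_nil, or_false] at hp
    rcases hp with rfl | rfl | rfl | rfl <;> norm_num
  obtain ⟨hN, hgoal⟩ := checkAll_sound hax (by decide) (okv 45) hokv primes6 hpr' goal6 360 box6
    box6_sorted (prodPow ps6) (fun d hd => box6_sub d (mem_boxList ps6 hpr d hd)) hNM check6
  refine ⟨hN, hm2, ?_, ?_, ?_⟩
  · exact hgoal (3, 80) (by simp [goal6])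
  · exact hgoal (4, 90) (by simp [goal6])
  · exact hgoal (5, 144) (by simp [goal6])

theorem case4 (h : nseSet G = nseSet (alternatingGroup (Fin 4))) :
    Nonempty (G ≃* alternatingGroup (Fin 4)) := by
  rw [nse_alt4] at h
  have hax := ax_of_group vals4 h
  obtain ⟨hN, h2, h3⟩ := solve4 h
  have hS : ∑ k ∈ ({1, 2, 3} : Finset ℕ), mk G k = Nat.card G := by
    rw [Finset.sum_insert (by norm_num), Finset.sum_pair (by norm_num), mk_one, h2, h3, hN]
    norm_num
  apply Cfsg.Agent.Lib.Helper2.nonempty_mulEquiv_A4 hN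
  intro z hz hzc
  obtain ⟨x, hx⟩ := (mk_ne_zero_iff (G := G) 3).mp (by rw [h3]; norm_num)
  have hc : Commute z x := (Subgroup.mem_center_iff.mp hzc x).symm
  have h6 := hc.orderOf_mul_eq_mul_orderOf_of_coprime (by rw [hz, hx]; norm_num)
  rw [hz, hx] at h6
  have h0 := m_eq_zero_of_sum hax _ hS 6 (by norm_num)
  exact (mk_ne_zero_iff 6).mpr ⟨z * x, h6⟩ h0

theorem case5 (h : nseSet G = nseSet (alternatingGroup (Fin 5))) :
    Nonempty (G ≃* alternatingGroup (Fin 5)) := by
  rw [nse_alt5] at h
  have hax := ax_of_group vals5 h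
  obtain ⟨hN, h2, h3, h5⟩ := solve5 h
  have hS : ∑ k ∈ ({1, 2, 3, 5} : Finset ℕ), mk G k = Nat.card G := by
    rw [Finset.sum_insert (by norm_num), Finset.sum_insert (by norm_num),
      Finset.sum_pair (by norm_num), mk_one, h2, h3, h5, hN]
    norm_num
  have hord : ∀ x : G, orderOf x ≤ 5 := by
    intro x
    by_contra hlt
    have h0 := m_eq_zero_of_sum hax _ hS (orderOf x) (by
      simp only [Finset.mem_insert, Finset.mem_singleton]
      omega)
    exact (mk_ne_zero_iff _).mpr ⟨x, rfl⟩ h0
  have := simple_of_counts 60 20 24 (Or.inl ⟨rfl, rfl, rfl⟩) hN h3 h5 hord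
  exact Cfsg.Agent.S0494.result hN

theorem case6 (h : nseSet G = nseSet (alternatingGroup (Fin 6))) :
    Nonempty (G ≃* alternatingGroup (Fin 6)) := by
  rw [nse_alt6] at h
  have hax := ax_of_group vals6 h
  obtain ⟨hN, h2, h3, h4, h5⟩ := solve6 h
  have hS : ∑ k ∈ ({1, 2, 3, 4, 5} : Finset ℕ), mk G k = Nat.card G := by
    rw [Finset.sum_insert (by norm_num), Finset.sum_insert (by norm_num),
      Finset.sum_insert (by norm_num), Finset.sum_pair (by norm_num), mk_one, h2, h3, h4, h5, hN]
    norm_num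
  have hord : ∀ x : G, orderOf x ≤ 5 := by
    intro x
    by_contra hlt
    have h0 := m_eq_zero_of_sum hax _ hS (orderOf x) (by
      simp only [Finset.mem_insert, Finset.mem_singleton]
      omega)
    exact (mk_ne_zero_iff _).mpr ⟨x, rfl⟩ h0
  have := simple_of_counts 360 80 144 (Or.inr ⟨rfl, rfl, rfl⟩) hN h3 h5 hord
  exact Cfsg.Agent.Lib.Helper28.Order360.main hN

end cases

end Cfsg.Agent.Lib.Helper6.Nse
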