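import Mathlib
import Cfsg.Prelude.Def_GeometricClasses
import Cfsg.Agent.Lib.Helper6.SpCorTensPlus

/-!
# Similitudes of the split quadratic form `J ⊗ J` on `F^4 = F^2 ⊗ F^2` (helper6; for OEPlus X3)

`sim_class`: a matrix `b` with `bᵀ (J ⊗ J) b = β (J ⊗ J)`, `β ≠ 0`, `2 ≠ 0`, is a Kronecker product `b₁ ⊗ b₂`
(w.r.t. the two binary digits `hi`, `lo` of `Fin 4`) or becomes one after swapping the columns `1 ↔ 2`
(the swap of the two tensor factors).  `det_of_kron4`: in the first case `det b = β ^ 2`; in the second `det b = - β ^ 2`.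
-/

set_option autoImplicit false

namespace Cfsg.Agent.Lib.Helper6.OEPlusX3

open scoped Matrix Kronecker
open Cfsg Cfsg.Geo Cfsg.Agent.Lib.Helper6.SpCorTensPlus

variable {F : Type*} [Field F]

/-- `b` is a Kronecker product with respect to the binary digits of `Fin 4` -/
def IsKron4 (b : Matrix (Fin 4) (Fin 4) F) : Prop :=
  ∃ b₁ b₂ : Matrix (Fin 2) (Fin 2) F, ∀ l l', b l l' = b₁ (hi l) (hi l') * b₂ (lo l) (lo l')

theorem col_entry (b : Matrix (Fin 4) (Fin 4) F) (m m' : Fin 4) :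
    (bᵀ * (NN4 : Matrix (Fin 4) (Fin 4) F) * b) m m' =
      b 0 m * b 3 m' + b 3 m * b 0 m' - b 1 m * b 2 m' - b 2 m * b 1 m' := by
  simp [NN4, JJ, hi, lo, Matrix.mul_apply, Fin.sum_univ_four]
  ring

theorem row_entry (b : Matrix (Fin 4) (Fin 4) F) (l l' : Fin 4) :
    (b * (NN4 : Matrix (Fin 4) (Fin 4) F) * bᵀ) l l' =
      b l 0 * b l' 3 + b l 3 * b l' 0 - b l 1 * b l' 2 - b l 2 * b l' 1 := by
  simp [NN4, JJ, hi, lo, Matrix.mul_apply, Fin.sum_univ_four]
  ring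

theorem NN4_vals : (NN4 : Matrix (Fin 4) (Fin 4) F) 0 0 = 0 ∧ (NN4 : Matrix (Fin 4) (Fin 4) F) 0 1 = 0 ∧
    (NN4 : Matrix (Fin 4) (Fin 4) F) 0 2 = 0 ∧ (NN4 : Matrix (Fin 4) (Fin 4) F) 0 3 = 1 ∧
    (NN4 : Matrix (Fin 4) (Fin 4) F) 1 0 = 0 ∧ (NN4 : Matrix (Fin 4) (Fin 4) F) 1 1 = 0 ∧
    (NN4 : Matrix (Fin 4) (Fin 4) F) 1 2 = -1 ∧ (NN4 : Matrix (Fin 4) (Fin 4) F) 1 3 = 0 ∧
    (NN4 : Matrix (Fin 4) (Fin 4) F) 2 0 = 0 ∧ (NN4 : Matrix (Fin 4) (Fin 4) F) 2 1 = -1 ∧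
    (NN4 : Matrix (Fin 4) (Fin 4) F) 2 2 = 0 ∧ (NN4 : Matrix (Fin 4) (Fin 4) F) 2 3 = 0 ∧
    (NN4 : Matrix (Fin 4) (Fin 4) F) 3 0 = 1 ∧ (NN4 : Matrix (Fin 4) (Fin 4) F) 3 1 = 0 ∧
    (NN4 : Matrix (Fin 4) (Fin 4) F) 3 2 = 0 ∧ (NN4 : Matrix (Fin 4) (Fin 4) F) 3 3 = 0 := by
  simp [NN4, JJ, hi, lo]

/-- the row version of the similitude equation -/
theorem row_of_col (b : Matrix (Fin 4) (Fin 4) F) (β : F) (hβ : β ≠ 0)
    (hcol : bᵀ * (NN4 : Matrix (Fin 4) (Fin 4) F) * b = β • NN4) :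
    b * (NN4 : Matrix (Fin 4) (Fin 4) F) * bᵀ = β • NN4 := by
  have h1 : (β⁻¹ • ((NN4 : Matrix (Fin 4) (Fin 4) F) * bᵀ * NN4)) * b = 1 := by
    rw [Matrix.smul_mul, Matrix.mul_assoc, Matrix.mul_assoc, ← Matrix.mul_assoc bᵀ, hcol, Matrix.mul_smul, NN4_sq, smul_smul,
      inv_mul_cancel₀ hβ, one_smul]
  have h2 := mul_eq_one_comm.mp h1
  rw [Matrix.mul_smul] at h2
  have h3 : b * ((NN4 : Matrix (Fin 4) (Fin 4) F) * bᵀ * NN4) = β • 1 := by
    rw [← h2, smul_smul, mul_inv_cancel₀ hβ, one_smul]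
  have h4 : b * ((NN4 : Matrix (Fin 4) (Fin 4) F) * bᵀ * NN4) * NN4 = β • NN4 := by
    rw [h3, Matrix.smul_mul, Matrix.one_mul]
  rw [← h4, Matrix.mul_assoc, Matrix.mul_assoc, Matrix.mul_assoc, NN4_sq, Matrix.mul_one]

/-- proportionality of `2 × 2` matrices from the vanishing of a quadratic form -/
theorem prop2 (x00 x01 x10 x11 y00 y01 y10 y11 : F) (h1 : x00 * y10 - x10 * y00 = 0)
    (h2 : x01 * y11 - x11 * y01 = 0) (h3 : x00 * y11 + y10 * x01 - x10 * y01 - y00 * x11 = 0) :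
    (x00 * x11 - x01 * x10) * y00 = (x00 * y11 - x10 * y01) * x00 ∧
    (x00 * x11 - x01 * x10) * y01 = (x00 * y11 - x10 * y01) * x01 ∧
    (x00 * x11 - x01 * x10) * y10 = (x00 * y11 - x10 * y01) * x10 ∧
    (x00 * x11 - x01 * x10) * y11 = (x00 * y11 - x10 * y01) * x11 := by
  refine ⟨?_, ?_, ?_, ?_⟩
  · linear_combination (-x00) * h3 + x01 * h1
  · linear_combination (-x00) * h2
  · linear_combination (-x10) * h3 + x11 * h1
  · linear_combination (-x10) * h2

/-- a similitude whose upper left `2 × 2` block is invertible is a Kronecker product -/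
theorem kron_of_block (h2 : (2 : F) ≠ 0) (b : Matrix (Fin 4) (Fin 4) F) (β : F) (hβ : β ≠ 0)
    (hcol : bᵀ * (NN4 : Matrix (Fin 4) (Fin 4) F) * b = β • NN4)
    (hd : b 0 0 * b 1 1 - b 0 1 * b 1 0 ≠ 0) : IsKron4 b := by
  have hrow := row_of_col b β hβ hcol
  have C : ∀ m m', b 0 m * b 3 m' + b 3 m * b 0 m' - b 1 m * b 2 m' - b 2 m * b 1 m' =
      β * (NN4 : Matrix (Fin 4) (Fin 4) F) m m' := by
    intro m m'
    rw [← col_entry, hcol, Matrix.smul_apply, smul_eq_mul]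
  have R : ∀ l l', b l 0 * b l' 3 + b l 3 * b l' 0 - b l 1 * b l' 2 - b l 2 * b l' 1 =
      β * (NN4 : Matrix (Fin 4) (Fin 4) F) l l' := by
    intro l l'
    rw [← row_entry, hrow, Matrix.smul_apply, smul_eq_mul]
  obtain ⟨n00, n01, n02, n03, n10, n11, n12, n13, n20, n21, n22, n23, n30, n31, n32, n33⟩ := NN4_vals (F := F)
  have half : ∀ x : F, 2 * x = 0 → x = 0 := by
    intro x hx
    rcases mul_eq_zero.mp hx with h | h
    · exact absurd h h2
    · exact h
  -- the block `Y` (rows 2, 3; columns 0, 1)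
  have a1 : b 0 0 * b 3 0 - b 1 0 * b 2 0 = 0 := by
    apply half
    have := C 0 0
    rw [n00, mul_zero] at this
    linear_combination this
  have a2 : b 0 1 * b 3 1 - b 1 1 * b 2 1 = 0 := by
    apply half
    have := C 1 1
    rw [n11, mul_zero] at this
    linear_combination this
  have a3 : b 0 0 * b 3 1 + b 3 0 * b 0 1 - b 1 0 * b 2 1 - b 2 0 * b 1 1 = 0 := by
    have := C 0 1
    rw [n01, mul_zero] at this
    linear_combination this
  obtain ⟨y00, y01, y10, y11⟩ := prop2 (b 0 0) (b 0 1) (b 1 0) (b 1 1) (b 2 0) (b 2 1) (b 3 0) (b 3 1) a1 a2 a3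
  -- the block `Z` (rows 0, 1; columns 2, 3)
  have r1 : b 0 0 * b 0 3 - b 0 1 * b 0 2 = 0 := by
    apply half
    have := R 0 0
    rw [n00, mul_zero] at this
    linear_combination this
  have r2 : b 1 0 * b 1 3 - b 1 1 * b 1 2 = 0 := by
    apply half
    have := R 1 1
    rw [n11, mul_zero] at this
    linear_combination this
  have r3 : b 0 0 * b 1 3 + b 0 3 * b 1 0 - b 0 1 * b 1 2 - b 0 2 * b 1 1 = 0 := by
    have := R 0 1
    rw [n01, mul_zero] at this
    linear_combination this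
  obtain ⟨z00, z10, z01, z11⟩ := prop2 (b 0 0) (b 1 0) (b 0 1) (b 1 1) (b 0 2) (b 1 2) (b 0 3) (b 1 3) r1 r2 r3
  obtain ⟨d, hddef⟩ : ∃ d : F, d = b 0 0 * b 1 1 - b 0 1 * b 1 0 := ⟨_, rfl⟩
  have hd0 : d ≠ 0 := by rw [hddef]; exact hd
  obtain ⟨t10, ht10⟩ : ∃ t : F, t = (b 0 0 * b 3 1 - b 1 0 * b 2 1) / d := ⟨_, rfl⟩
  obtain ⟨t01, ht01⟩ : ∃ t : F, t = (b 0 0 * b 1 3 - b 0 1 * b 1 2) / d := ⟨_, rfl⟩
  have e20 : b 2 0 = t10 * b 0 0 := by
    rw [ht10, div_mul_eq_mul_div, eq_div_iff hd0, hddef]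
    linear_combination y00
  have e21 : b 2 1 = t10 * b 0 1 := by
    rw [ht10, div_mul_eq_mul_div, eq_div_iff hd0, hddef]
    linear_combination y01
  have e30 : b 3 0 = t10 * b 1 0 := by
    rw [ht10, div_mul_eq_mul_div, eq_div_iff hd0, hddef]
    linear_combination y10
  have e31 : b 3 1 = t10 * b 1 1 := by
    rw [ht10, div_mul_eq_mul_div, eq_div_iff hd0, hddef]
    linear_combination y11
  have e02 : b 0 2 = t01 * b 0 0 := by
    rw [ht01, div_mul_eq_mul_div, eq_div_iff hd0, hddef]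
    linear_combination z00
  have e12 : b 1 2 = t01 * b 1 0 := by
    rw [ht01, div_mul_eq_mul_div, eq_div_iff hd0, hddef]
    linear_combination z10
  have e03 : b 0 3 = t01 * b 0 1 := by
    rw [ht01, div_mul_eq_mul_div, eq_div_iff hd0, hddef]
    linear_combination z01
  have e13 : b 1 3 = t01 * b 1 1 := by
    rw [ht01, div_mul_eq_mul_div, eq_div_iff hd0, hddef]
    linear_combination z11
  -- the block `W` (rows 2, 3; columns 2, 3)
  have c02 := C 0 2
  have c03 := C 0 3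
  have c12 := C 1 2
  have c13 := C 1 3
  rw [n02, mul_zero, e30, e02, e20, e12] at c02
  rw [n03, mul_one, e30, e03, e20, e13] at c03
  rw [n12, e31, e02, e21, e12] at c12
  rw [n13, mul_zero, e31, e03, e21, e13] at c13
  obtain ⟨t11, ht11⟩ : ∃ t : F, t = (β + t10 * t01 * d) / d := ⟨_, rfl⟩
  have e22 : b 2 2 = t11 * b 0 0 := by
    rw [ht11, div_mul_eq_mul_div, eq_div_iff hd0, hddef]
    linear_combination (b 0 1) * c02 - (b 0 0) * c12
  have e32 : b 3 2 = t11 * b 1 0 := by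
    rw [ht11, div_mul_eq_mul_div, eq_div_iff hd0, hddef]
    linear_combination (b 1 1) * c02 - (b 1 0) * c12
  have e23 : b 2 3 = t11 * b 0 1 := by
    rw [ht11, div_mul_eq_mul_div, eq_div_iff hd0, hddef]
    linear_combination (b 0 1) * c03 - (b 0 0) * c13
  have e33 : b 3 3 = t11 * b 1 1 := by
    rw [ht11, div_mul_eq_mul_div, eq_div_iff hd0, hddef]
    linear_combination (b 1 1) * c03 - (b 1 0) * c13
  refine ⟨!![1, t01; t10, t11], !![b 0 0, b 0 1; b 1 0, b 1 1], ?_⟩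
  intro l l'
  fin_cases l <;> fin_cases l' <;>
    simp [hi, lo, e20, e21, e30, e31, e02, e12, e03, e13, e22, e32, e23, e33]

/-- one of the four `2 × 2` minors `{0,1}`, `{2,3}`, `{0,2}`, `{1,3}` of the first two rows of an invertible
similitude does not vanish (the first two rows span a totally singular plane) -/
theorem exists_minor (h2 : (2 : F) ≠ 0) (b : Matrix (Fin 4) (Fin 4) F) (β : F) (hβ : β ≠ 0)
    (hcol : bᵀ * (NN4 : Matrix (Fin 4) (Fin 4) F) * b = β • NN4) :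
    b 0 0 * b 1 1 - b 0 1 * b 1 0 ≠ 0 ∨ b 0 2 * b 1 3 - b 0 3 * b 1 2 ≠ 0 ∨
      b 0 0 * b 1 2 - b 0 2 * b 1 0 ≠ 0 ∨ b 0 1 * b 1 3 - b 0 3 * b 1 1 ≠ 0 := by
  by_contra hcon
  push Not at hcon
  obtain ⟨m01, m23, m02, m13⟩ := hcon
  have hrow := row_of_col b β hβ hcol
  have R : ∀ l l', b l 0 * b l' 3 + b l 3 * b l' 0 - b l 1 * b l' 2 - b l 2 * b l' 1 =
      β * (NN4 : Matrix (Fin 4) (Fin 4) F) l l' := by
    intro l l'
    rw [← row_entry, hrow, Matrix.smul_apply, smul_eq_mul]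
  obtain ⟨n00, n01, n02, n03, n10, n11, n12, n13, n20, n21, n22, n23, n30, n31, n32, n33⟩ := NN4_vals (F := F)
  have half : ∀ x : F, 2 * x = 0 → x = 0 := by
    intro x hx
    rcases mul_eq_zero.mp hx with h | h
    · exact absurd h h2
    · exact h
  have r1 : b 0 0 * b 0 3 - b 0 1 * b 0 2 = 0 := by
    apply half
    have := R 0 0
    rw [n00, mul_zero] at this
    linear_combination this
  have r2 : b 1 0 * b 1 3 - b 1 1 * b 1 2 = 0 := by
    apply half
    have := R 1 1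
    rw [n11, mul_zero] at this
    linear_combination this
  have r3 : b 0 0 * b 1 3 + b 0 3 * b 1 0 - b 0 1 * b 1 2 - b 0 2 * b 1 1 = 0 := by
    have := R 0 1
    rw [n01, mul_zero] at this
    linear_combination this
  -- the two remaining minors
  have hsq : (b 0 0 * b 1 3 - b 0 3 * b 1 0) ^ 2 = (b 0 1 * b 1 2 - b 0 2 * b 1 1) ^ 2 := by
    linear_combination (b 0 0 * b 1 3 + b 0 3 * b 1 0 + b 0 1 * b 1 2 + b 0 2 * b 1 1) * r3
      - 4 * (b 0 0 * b 0 3) * r2 - 4 * (b 1 1 * b 1 2) * r1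
  have hpl : (b 0 0 * b 1 3 - b 0 3 * b 1 0) * (b 0 1 * b 1 2 - b 0 2 * b 1 1) = 0 := by
    linear_combination (-(b 0 2 * b 1 3 - b 0 3 * b 1 2)) * m01 + (b 0 1 * b 1 3 - b 0 3 * b 1 1) * m02
  have m03 : b 0 0 * b 1 3 - b 0 3 * b 1 0 = 0 := by
    have h4 : (b 0 0 * b 1 3 - b 0 3 * b 1 0) ^ 4 = 0 := by
      have : (b 0 0 * b 1 3 - b 0 3 * b 1 0) ^ 4 =
          ((b 0 0 * b 1 3 - b 0 3 * b 1 0) * (b 0 1 * b 1 2 - b 0 2 * b 1 1)) ^ 2 := by
        rw [mul_pow, ← hsq]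
        ring
      rw [this, hpl]
      ring
    exact pow_eq_zero_iff (by norm_num) |>.mp h4
  have m12 : b 0 1 * b 1 2 - b 0 2 * b 1 1 = 0 := by
    rw [m03] at hsq
    have : (b 0 1 * b 1 2 - b 0 2 * b 1 1) ^ 2 = 0 := by rw [← hsq]; ring
    exact pow_eq_zero_iff (by norm_num) |>.mp this
  -- `b` is injective on row vectors
  have hinj : ∀ x : Fin 4 → F, x ᵥ* b = 0 → x = 0 := by
    intro x hx
    have h1 : (β⁻¹ • ((NN4 : Matrix (Fin 4) (Fin 4) F) * bᵀ * NN4)) * b = 1 := by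
      rw [Matrix.smul_mul, Matrix.mul_assoc, Matrix.mul_assoc, ← Matrix.mul_assoc bᵀ, hcol, Matrix.mul_smul, NN4_sq,
        smul_smul, inv_mul_cancel₀ hβ, one_smul]
    have h3 := mul_eq_one_comm.mp h1
    have : x = (x ᵥ* b) ᵥ* (β⁻¹ • ((NN4 : Matrix (Fin 4) (Fin 4) F) * bᵀ * NN4)) := by
      rw [Matrix.vecMul_vecMul, h3, Matrix.vecMul_one]
    rw [this, hx, Matrix.zero_vecMul]
  -- the rows 0 and 1 are dependent
  have hdep : ∀ m₀ : Fin 4, b 0 m₀ = 0 := by
    intro m₀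
    have hx : (fun l : Fin 4 => if l = 0 then b 1 m₀ else if l = 1 then - b 0 m₀ else 0) ᵥ* b = 0 := by
      funext m
      simp only [Matrix.vecMul, dotProduct, Fin.sum_univ_four, Pi.zero_apply]
      simp only [Fin.reduceEq, if_true, if_false]
      fin_cases m₀ <;> fin_cases m <;> simp <;>
        first
          | ring1
          | linear_combination m01
          | linear_combination (-1 : F) * m01
          | linear_combination m23
          | linear_combination (-1 : F) * m23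
          | linear_combination m02
          | linear_combination (-1 : F) * m02
          | linear_combination m13
          | linear_combination (-1 : F) * m13
          | linear_combination m03
          | linear_combination (-1 : F) * m03
          | linear_combination m12
          | linear_combination (-1 : F) * m12
    have := congrFun (hinj _ hx) 1
    simp at this
    exact this
  have hx0 : (Pi.single 0 1 : Fin 4 → F) ᵥ* b = 0 := by
    funext m
    rw [Matrix.single_one_vecMul]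
    exact hdep m
  have := congrFun (hinj _ hx0) 0
  simp at this

/-- permuting the columns by a similitude of `NN4` -/
theorem sim_submatrix (b : Matrix (Fin 4) (Fin 4) F) (β : F)
    (hcol : bᵀ * (NN4 : Matrix (Fin 4) (Fin 4) F) * b = β • NN4) (π : Fin 4 → Fin 4) (ε : F)
    (hπ : ∀ m m', (NN4 : Matrix (Fin 4) (Fin 4) F) (π m) (π m') = ε * NN4 m m') :
    (b.submatrix id π)ᵀ * (NN4 : Matrix (Fin 4) (Fin 4) F) * (b.submatrix id π) = (ε * β) • NN4 := by
  ext m m'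
  have := congrFun (congrFun hcol (π m)) (π m')
  rw [col_entry, Matrix.smul_apply, smul_eq_mul, hπ] at this
  rw [col_entry, Matrix.smul_apply, smul_eq_mul]
  simp only [Matrix.submatrix_apply, id]
  rw [this]
  ring

/-- the swap of the high digit -/
def S4 : Fin 4 → Fin 4 := ![2, 3, 0, 1]

/-- the swap of the two digits -/
def T4 : Equiv.Perm (Fin 4) := Equiv.swap 1 2

theorem T4_vals : T4 0 = 0 ∧ T4 1 = 2 ∧ T4 2 = 1 ∧ T4 3 = 3 := by
  refine ⟨?_, ?_, ?_, ?_⟩ <;> decide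

theorem NN4_S4 (m m' : Fin 4) : (NN4 : Matrix (Fin 4) (Fin 4) F) (S4 m) (S4 m') = (-1) * NN4 m m' := by
  fin_cases m <;> fin_cases m' <;> simp [NN4, JJ, hi, lo, S4]

theorem NN4_T4 (m m' : Fin 4) : (NN4 : Matrix (Fin 4) (Fin 4) F) (T4 m) (T4 m') = 1 * NN4 m m' := by
  obtain ⟨t0, t1, t2, t3⟩ := T4_vals
  fin_cases m <;> fin_cases m' <;> simp [NN4, JJ, hi, lo, t0, t1, t2, t3]

theorem S4_S4 (m : Fin 4) : S4 (S4 m) = m := by
  fin_cases m <;> rfl

theorem hi_S4 (m : Fin 4) : hi (S4 m) = ![1, 0] (hi m) := by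
  fin_cases m <;> rfl

theorem lo_S4 (m : Fin 4) : lo (S4 m) = lo m := by
  fin_cases m <;> rfl

theorem kron_of_submatrix_S4 (b : Matrix (Fin 4) (Fin 4) F) (h : IsKron4 (b.submatrix id S4)) : IsKron4 b := by
  obtain ⟨b₁, b₂, hb⟩ := h
  refine ⟨b₁.submatrix id ![1, 0], b₂, ?_⟩
  intro l l'
  have := hb l (S4 l')
  rw [Matrix.submatrix_apply, id, S4_S4, hi_S4, lo_S4] at this
  rw [this, Matrix.submatrix_apply, id]

/-- **classification of the similitudes of `J ⊗ J`** -/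
theorem sim_class (h2 : (2 : F) ≠ 0) (b : Matrix (Fin 4) (Fin 4) F) (β : F) (hβ : β ≠ 0)
    (hcol : bᵀ * (NN4 : Matrix (Fin 4) (Fin 4) F) * b = β • NN4) :
    IsKron4 b ∨ IsKron4 (b.submatrix id T4) := by
  obtain ⟨t0, t1, t2, t3⟩ := T4_vals
  have hT := sim_submatrix b β hcol T4 1 NN4_T4
  rw [one_mul] at hT
  rcases exists_minor h2 b β hβ hcol with h | h | h | h
  · exact Or.inl (kron_of_block h2 b β hβ hcol h)
  · left
    apply kron_of_submatrix_S4
    have hS := sim_submatrix b β hcol S4 (-1) NN4_S4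
    refine kron_of_block h2 _ (-1 * β) (mul_ne_zero (neg_ne_zero.mpr one_ne_zero) hβ) hS ?_
    simpa [S4] using h
  · right
    refine kron_of_block h2 _ β hβ hT ?_
    simpa [t0, t1, t2, t3] using h
  · right
    apply kron_of_submatrix_S4
    have hS := sim_submatrix _ β hT S4 (-1) NN4_S4
    refine kron_of_block h2 _ (-1 * β) (mul_ne_zero (neg_ne_zero.mpr one_ne_zero) hβ) hS ?_
    simpa [S4, t0, t1, t2, t3] using h

/-- the binary digits as an equivalence -/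
def hl : Fin 4 ≃ Fin 2 × Fin 2 where
  toFun l := (hi l, lo l)
  invFun p := pk p.1 p.2
  left_inv l := pk_hi_lo l
  right_inv p := by
    rcases p with ⟨j, k⟩
    simp only [hi_pk, lo_pk]

theorem hl_apply (l : Fin 4) : hl l = (hi l, lo l) := rfl

theorem kron4_eq (b : Matrix (Fin 4) (Fin 4) F) (b₁ b₂ : Matrix (Fin 2) (Fin 2) F)
    (hb : ∀ l l', b l l' = b₁ (hi l) (hi l') * b₂ (lo l) (lo l')) : b = (b₁ ⊗ₖ b₂).submatrix hl hl := by
  ext l l'
  rw [hb, Matrix.submatrix_apply, hl_apply, hl_apply, Matrix.kroneckerMap_apply]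

/-- the determinant of a Kronecker similitude -/
theorem det_of_kron4 (b : Matrix (Fin 4) (Fin 4) F) (β : F)
    (hcol : bᵀ * (NN4 : Matrix (Fin 4) (Fin 4) F) * b = β • NN4) (h : IsKron4 b) : b.det = β ^ 2 := by
  obtain ⟨b₁, b₂, hb⟩ := h
  have hdet : b.det = b₁.det ^ 2 * b₂.det ^ 2 := by
    rw [kron4_eq b b₁ b₂ hb, Matrix.det_submatrix_equiv_self, Matrix.det_kronecker, Fintype.card_fin]
  have hβ : β = b₁.det * b₂.det := by
    have := congrFun (congrFun hcol 0) 3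
    rw [col_entry, Matrix.smul_apply, smul_eq_mul, NN4_vals.2.2.2.1, mul_one] at this
    rw [← this, hb 0 0, hb 3 3, hb 3 0, hb 0 3, hb 1 0, hb 2 3, hb 2 0, hb 1 3, Matrix.det_fin_two, Matrix.det_fin_two]
    simp [hi, lo]
    ring
  rw [hdet, hβ]
  ring

/-- a similitude of `J ⊗ J` of determinant `β ^ 2` is a Kronecker product -/
theorem kron_of_sim_det (h2 : (2 : F) ≠ 0) (b : Matrix (Fin 4) (Fin 4) F) (β : F) (hβ : β ≠ 0)
    (hcol : bᵀ * (NN4 : Matrix (Fin 4) (Fin 4) F) * b = β • NN4) (hdet : b.det = β ^ 2) : IsKron4 b := by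
  rcases sim_class h2 b β hβ hcol with h | h
  · exact h
  · exfalso
    have hT := sim_submatrix b β hcol T4 1 NN4_T4
    rw [one_mul] at hT
    have h1 := det_of_kron4 _ β hT h
    have h3 : (b.submatrix id T4).det = -1 * b.det := by
      rw [Matrix.det_permute', T4, Equiv.Perm.sign_swap (by decide)]
      simp
    rw [h3, hdet] at h1
    have h4 : (2 : F) * β ^ 2 = 0 := by linear_combination (-1 : F) * h1
    rcases mul_eq_zero.mp h4 with h | h
    · exact h2 h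
    · exact hβ (pow_eq_zero_iff (by norm_num) |>.mp h)

end Cfsg.Agent.Lib.Helper6.OEPlusX3
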