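import Mathlib
import Cfsg.Prelude.Def_GeometricClasses
import Cfsg.Agent.Lib.Helper1.OEDefs
import Cfsg.Agent.Lib.Helper6.OEPlusX3a
import Cfsg.Agent.Lib.Helper6.OEPlusX
import Cfsg.Agent.Lib.Helper13.TensorOrth3
import Cfsg.Agent.Lib.Helper19.S5662C7STD

/-!
# Plus row S5871, piece X3 of `notes/OEPlusSkel_helper13.lean.txt` (helper6)

`(O₃ ⊗ O₄⁺) ∩ Ω ≤ Sp₂ ⊗ Sp₆` : `V₄⁺ = V₂ ⊗ V₂`, regroup `V₃ ⊗ (V₂ ⊗ V₂) = V₂ ⊗ (V₃ ⊗ V₂)`.

The statement is for `⊓ omegaGL Q` (NOT `⊓ isometryGroup F Q`, for which it is false: the swap of the two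
factors of `V₂ ⊗ V₂` is an isometry of determinant `-1`).  An element `a ⊗ b` of the isometry group has `b` a
similitude of `J ⊗ J`; by `OEPlusX3a.kron_of_sim_det` it is a Kronecker product as soon as `det b = β ^ 2`,
which follows from `det (a ⊗ b) = 1`.
-/

set_option autoImplicit false
set_option linter.unusedSectionVars false
set_option linter.unusedVariables false

namespace Cfsg.Agent.Lib.Helper6.OEPlusX3

open Matrix Cfsg Cfsg.Geo Module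
open Cfsg.Agent.Lib.Helper1.OE
open Cfsg.Agent.Lib.Helper13.TNM Cfsg.Agent.Lib.Helper6 Cfsg.Agent.Lib.Helper6.SpCorTensPlus
open scoped Kronecker

variable {F : Type*} [Field F]

/-- `Fin 3 × Fin 2 ≃ Fin 6` -/
def fp6 : Fin 3 × Fin 2 ≃ Fin 6 := finProdFinEquiv

/-- the regrouping `Fin 3 × (Fin 2 × Fin 2) ≃ Fin 2 × (Fin 3 × Fin 2)` -/
def rho : Fin 3 × Fin 4 ≃ Fin 2 × Fin 6 where
  toFun p := (lo p.2, fp6 (p.1, hi p.2))
  invFun r := ((fp6.symm r.2).1, pk (fp6.symm r.2).2 r.1)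
  left_inv p := by
    rcases p with ⟨i, l⟩
    simp only [Equiv.symm_apply_apply, pk_hi_lo]
  right_inv r := by
    rcases r with ⟨k, s⟩
    simp only [lo_pk, hi_pk, Prod.mk.eta, Equiv.apply_symm_apply]

theorem rho_apply (i : Fin 3) (l : Fin 4) : rho (i, l) = (lo l, fp6 (i, hi l)) := rfl

/-- regrouping a Kronecker product -/
theorem kron_regroup (a : Matrix (Fin 3) (Fin 3) F) (b : Matrix (Fin 4) (Fin 4) F)
    (b₁ b₂ : Matrix (Fin 2) (Fin 2) F) (hb : ∀ l l', b l l' = b₁ (hi l) (hi l') * b₂ (lo l) (lo l')) :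
    a ⊗ₖ b = (b₂ ⊗ₖ ((a ⊗ₖ b₁).submatrix fp6.symm fp6.symm)).submatrix rho rho := by
  ext ⟨i, l⟩ ⟨i', l'⟩
  rw [Matrix.submatrix_apply, rho_apply, rho_apply, Matrix.kroneckerMap_apply, Matrix.kroneckerMap_apply,
    Matrix.submatrix_apply, Equiv.symm_apply_apply, Equiv.symm_apply_apply, Matrix.kroneckerMap_apply, hb]
  ring

/-- reindexing the form of a Gram matrix -/
theorem formOfGram_submatrix {κ κ' : Type} [Fintype κ] [Fintype κ'] (r : κ ≃ κ') (G : Matrix κ' κ' F)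
    (x y : κ' → F) : formOfGram id (G.submatrix r r) (x ∘ r) (y ∘ r) = formOfGram id G x y := by
  unfold formOfGram
  rw [← Equiv.sum_comp r]
  apply Finset.sum_congr rfl
  intro a _
  rw [← Equiv.sum_comp r]
  rfl

/-- a Kronecker isometry of `G₁ ⊗ (J ⊗ J)` consists of two similitudes -/
theorem sim_of_kron (G₁ : Matrix (Fin 3) (Fin 3) F) (hG₁ : G₁ ≠ 0) (a : Matrix (Fin 3) (Fin 3) F)
    (b : Matrix (Fin 4) (Fin 4) F)
    (h : (a ⊗ₖ b)ᵀ * (G₁ ⊗ₖ (NN4 : Matrix (Fin 4) (Fin 4) F)) * (a ⊗ₖ b) = G₁ ⊗ₖ NN4) :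
    ∃ β : F, β ≠ 0 ∧ bᵀ * (NN4 : Matrix (Fin 4) (Fin 4) F) * b = β • NN4 ∧ aᵀ * G₁ * a = β⁻¹ • G₁ := by
  rw [← Matrix.kroneckerMap_transpose, ← Matrix.mul_kronecker_mul, ← Matrix.mul_kronecker_mul] at h
  obtain ⟨i₀, i₀', hne⟩ : ∃ i₀ i₀', G₁ i₀ i₀' ≠ 0 := by
    by_contra hcon
    push Not at hcon
    apply hG₁
    ext i i'
    exact hcon i i'
  have h03 : (NN4 : Matrix (Fin 4) (Fin 4) F) 0 3 = 1 := NN4_vals.2.2.2.1
  have hent : ∀ (i i' : Fin 3) (l l' : Fin 4), (aᵀ * G₁ * a) i i' * (bᵀ * (NN4 : Matrix (Fin 4) (Fin 4) F) * b) l l' =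
      G₁ i i' * (NN4 : Matrix (Fin 4) (Fin 4) F) l l' := by
    intro i i' l l'
    have := congrFun (congrFun h (i, l)) (i', l')
    rw [Matrix.kroneckerMap_apply, Matrix.kroneckerMap_apply] at this
    exact this
  obtain ⟨s, hs⟩ : ∃ s : F, s = (aᵀ * G₁ * a) i₀ i₀' := ⟨_, rfl⟩
  have hs0 : s ≠ 0 := by
    intro h0
    have := hent i₀ i₀' 0 3
    rw [← hs, h0, zero_mul, h03, mul_one] at this
    exact hne this.symm
  have hβ : G₁ i₀ i₀' / s ≠ 0 := div_ne_zero hne hs0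
  have hb : bᵀ * (NN4 : Matrix (Fin 4) (Fin 4) F) * b = (G₁ i₀ i₀' / s) • NN4 := by
    ext l l'
    rw [Matrix.smul_apply, smul_eq_mul, div_mul_eq_mul_div, eq_div_iff hs0, ← hent i₀ i₀' l l', ← hs]
    ring
  refine ⟨G₁ i₀ i₀' / s, hβ, hb, ?_⟩
  ext i i'
  have := hent i i' 0 3
  rw [hb, Matrix.smul_apply, smul_eq_mul, h03, mul_one, mul_one] at this
  rw [Matrix.smul_apply, smul_eq_mul, ← this]
  field_simp

/-- the determinant of the second factor -/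
theorem det_second (G₁ : Matrix (Fin 3) (Fin 3) F) (hG₁ : G₁.det ≠ 0) (a : Matrix (Fin 3) (Fin 3) F)
    (b : Matrix (Fin 4) (Fin 4) F) (β : F) (hβ : β ≠ 0)
    (hb : bᵀ * (NN4 : Matrix (Fin 4) (Fin 4) F) * b = β • NN4) (ha : aᵀ * G₁ * a = β⁻¹ • G₁)
    (hdet : (a ⊗ₖ b).det = 1) : b.det = β ^ 2 := by
  have hN : (NN4 : Matrix (Fin 4) (Fin 4) F).det ≠ 0 := by
    intro h0
    have := congrArg Matrix.det (NN4_sq (F := F))
    rw [Matrix.det_mul, h0, mul_zero, Matrix.det_one] at this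
    exact zero_ne_one this
  have h1 := congrArg Matrix.det ha
  rw [Matrix.det_mul, Matrix.det_mul, Matrix.det_transpose, Matrix.det_smul, Fintype.card_fin] at h1
  have hx : a.det ^ 2 = (β⁻¹) ^ 3 := by
    apply mul_right_cancel₀ hG₁
    linear_combination h1
  have h3 := congrArg Matrix.det hb
  rw [Matrix.det_mul, Matrix.det_mul, Matrix.det_transpose, Matrix.det_smul, Fintype.card_fin] at h3
  have hy : b.det ^ 2 = β ^ 4 := by
    apply mul_right_cancel₀ hN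
    linear_combination h3
  rw [Matrix.det_kronecker, Fintype.card_fin, Fintype.card_fin] at hdet
  have h4 : a.det ^ 4 = (β⁻¹) ^ 6 := by
    rw [show a.det ^ 4 = (a.det ^ 2) ^ 2 by ring, hx]
    ring
  have h5 : b.det ^ 3 = b.det * β ^ 4 := by
    rw [show b.det ^ 3 = b.det * b.det ^ 2 by ring, hy]
  rw [h4, h5] at hdet
  have h6 : β⁻¹ * β = 1 := inv_mul_cancel₀ hβ
  have h7 : (β⁻¹) ^ 6 * β ^ 6 = 1 := by rw [← mul_pow, h6, one_pow]
  have h8 : b.det = b.det * ((β⁻¹) ^ 6 * β ^ 6) := by rw [h7, mul_one]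
  rw [h8]
  linear_combination (β ^ 2) * hdet

section main
variable [Fintype F] {ι : Type} [Fintype ι] [DecidableEq ι] {Q : (ι → F) → F}

theorem det_eq_one_of_mem_omega (Q : (ι → F) → F) (x : GL ι F) (hx : x ∈ omegaGL Q) :
    (x : Matrix ι ι F).det = 1 := by
  obtain ⟨y, hy, rfl⟩ := Subgroup.mem_map.mp hx
  have h1 := Abelianization.commutator_subset_ker
    (Matrix.GeneralLinearGroup.det.comp (Cfsg.isometryGroup F Q).subtype) hy
  have h3 := congrArg Units.val (MonoidHom.mem_ker.mp h1)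
  simpa using h3

/-- **X3**, generic index type: `(O₃ ⊗ O₄⁺) ∩ Ω ≤ Sp₂ ⊗ Sp₆` -/
theorem tensor_three_four_plus_gen (hQ : IsNondegenerateQuadraticForm Q) (hodd : Odd (Fintype.card F))
    (e : ι ≃ Fin 3 × Fin 4) (P : GL ι F) (f₁ : (Fin 3 → F) → (Fin 3 → F) → F)
    (f₂ : (Fin 4 → F) → (Fin 4 → F) → F) (hf₁ : IsSymmetricForm f₁) (hf₂ : IsSymmetricForm f₂)
    (hT : IsTensorFormStructure id (QuadraticMap.polar Q) f₁ f₂ e P)
    (hp : ∃ U : Submodule F (Fin 4 → F), finrank F U = 2 ∧ ∀ u ∈ U, ∀ v ∈ U, f₂ u v = 0) :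
    ∃ (e' : ι ≃ Fin 2 × Fin 6) (P' : GL ι F) (g₁ : (Fin 2 → F) → (Fin 2 → F) → F)
      (g₂ : (Fin 6 → F) → (Fin 6 → F) → F), IsSymplecticForm g₁ ∧ IsSymplecticForm g₂ ∧
      IsTensorFormStructure id (QuadraticMap.polar Q) g₁ g₂ e' P' ∧
      tensorProductSubgroup 3 4 e P ⊓ omegaGL Q ≤ tensorProductSubgroup 2 6 e' P' := by
  classical
  obtain ⟨c, hc, hT⟩ := hT
  obtain ⟨G₁, hG₁⟩ : ∃ G₁ : Matrix (Fin 3) (Fin 3) F, G₁ = gramMatrix f₁ := ⟨_, rfl⟩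
  obtain ⟨G₂, hG₂⟩ : ∃ G₂ : Matrix (Fin 4) (Fin 4) F, G₂ = gramMatrix f₂ := ⟨_, rfl⟩
  rw [← hG₁, ← hG₂] at hT
  have h2 : (2 : F) ≠ 0 := OETypeTens.two_ne_zero_of_odd_card hodd
  -- facts on `G₁`
  have hG₁s : G₁ᵀ = G₁ := by
    ext i j
    rw [Matrix.transpose_apply, hG₁]
    exact hf₁.symm _ _
  have hG₁d : G₁.det ≠ 0 := by
    intro h0
    obtain ⟨v, hv0, hv⟩ := Matrix.exists_mulVec_eq_zero_iff.mpr h0
    obtain ⟨x, hx⟩ := (hf₁.nondegenerate v hv0).1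
    apply hx
    rw [bilin_eq_formOfGram hf₁.bilinear, ← hG₁, formOfGram_eq]
    simp only [Function.id_comp]
    rw [hv, dotProduct_zero]
  have hG₁0 : G₁ ≠ 0 := by
    intro h0
    rw [h0, Matrix.det_zero] at hG₁d
    exact hG₁d rfl
  -- facts on `G₂`
  have hf2eq : ∀ x y : Fin 4 → F, f₂ x y = bb G₂ x y := by
    intro x y
    rw [bilin_eq_formOfGram hf₂.bilinear, ← hG₂, formOfGram_eq]
    rfl
  have hs : G₂ᵀ = G₂ := by
    ext i j
    rw [Matrix.transpose_apply, hG₂]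
    exact hf₂.symm _ _
  have hnd : ∀ v : Fin 4 → F, G₂ *ᵥ v = 0 → v = 0 := by
    intro v hv
    by_contra hv0
    obtain ⟨x, hx⟩ := (hf₂.nondegenerate v hv0).1
    apply hx
    rw [hf2eq]
    unfold bb
    rw [hv, dotProduct_zero]
  obtain ⟨U, hdim, hUti⟩ := hp
  have hU : ∀ w ∈ U, bb G₂ w w = 0 := by
    intro w hw
    rw [← hf2eq]
    exact hUti w hw w hw
  obtain ⟨C₂, hC₂⟩ := exists_hyperbolic h2 G₂ hs hnd U hU hdim
  obtain ⟨C, hCdef⟩ : ∃ C : GL (Fin 3 × Fin 4) F, C = kronGL 1 C₂ := ⟨_, rfl⟩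
  obtain ⟨P₁, hP₁⟩ : ∃ P₁ : GL ι F, P₁ = P * glReindex e.symm C := ⟨_, rfl⟩
  have htps : tensorProductSubgroup 3 4 e P = (kroneckerSubgroup 3 4 F).map (psi e P₁) := by
    rw [← tps_eq, hP₁, tps_change _ _ _ _ _ (hCdef ▸ kronGL_mem 1 C₂)]
  obtain ⟨G, hG⟩ : ∃ G : Matrix (Fin 3 × Fin 4) (Fin 3 × Fin 4) F,
      G = G₁ ⊗ₖ (NN4 : Matrix (Fin 4) (Fin 4) F) := ⟨_, rfl⟩
  have hT' : ∀ x y, QuadraticMap.polar Q (TT e P₁ x) (TT e P₁ y) = c * formOfGram id G x y := by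
    intro x y
    rw [hP₁, TT_change, TT_change]
    have h1 := hT ((C : Matrix _ _ F) *ᵥ x) ((C : Matrix _ _ F) *ᵥ y)
    have hmat : (C : Matrix (Fin 3 × Fin 4) (Fin 3 × Fin 4) F)ᵀ * (G₁ ⊗ₖ G₂) *
        (C : Matrix (Fin 3 × Fin 4) (Fin 3 × Fin 4) F).map id = G := by
      rw [hCdef, kronGL_val, Matrix.map_id, Units.val_one, ← Matrix.kroneckerMap_transpose,
        Matrix.transpose_one, ← Matrix.mul_kronecker_mul, ← Matrix.mul_kronecker_mul, one_mul, mul_one, hC₂, hG]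
    have h3 : QuadraticMap.polar Q (TT e P ((C : Matrix _ _ F) *ᵥ x)) (TT e P ((C : Matrix _ _ F) *ᵥ y))
        = c * formOfGram id (G₁ ⊗ₖ G₂) ((C : Matrix _ _ F) *ᵥ x) ((C : Matrix _ _ F) *ᵥ y) := h1
    rw [h3, formOfGram_mulVec id rfl (fun _ _ => rfl) (fun _ _ => rfl), hmat]
  -- the new data
  obtain ⟨G₆, hG₆⟩ : ∃ G₆ : Matrix (Fin 6) (Fin 6) F,
      G₆ = (G₁ ⊗ₖ (JJ : Matrix (Fin 2) (Fin 2) F)).submatrix fp6.symm fp6.symm := ⟨_, rfl⟩
  have hGreg : G = ((JJ : Matrix (Fin 2) (Fin 2) F) ⊗ₖ G₆).submatrix rho rho := by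
    rw [hG, hG₆]
    exact kron_regroup G₁ NN4 JJ JJ (fun l l' => NN4_apply l l')
  have hJs : (JJ : Matrix (Fin 2) (Fin 2) F)ᵀ = -JJ := by
    ext i j
    fin_cases i <;> fin_cases j <;> simp [JJ]
  have hJd : (JJ : Matrix (Fin 2) (Fin 2) F).det = 1 := by
    rw [Matrix.det_fin_two]
    simp [JJ]
  have hG₆s : G₆ᵀ = -G₆ := by
    rw [hG₆, Matrix.transpose_submatrix, ← Matrix.kroneckerMap_transpose, hG₁s, hJs]
    ext i j
    simp [Matrix.kroneckerMap_apply]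
  have hG₆d : IsUnit G₆.det := by
    rw [hG₆, Matrix.det_submatrix_equiv_self, Matrix.det_kronecker, hJd, one_pow, mul_one]
    exact (pow_ne_zero _ hG₁d).isUnit
  have hsy1 : IsSymplecticForm (formOfGram id (JJ : Matrix (Fin 2) (Fin 2) F)) :=
    Cfsg.Agent.Lib.Helper19.S5662C7STD.isSymplecticForm_formOfGram h2 JJ (by rw [hJd]; exact isUnit_one) hJs
  have hsy2 : IsSymplecticForm (formOfGram id G₆) :=
    Cfsg.Agent.Lib.Helper19.S5662C7STD.isSymplecticForm_formOfGram h2 G₆ hG₆d hG₆s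
  refine ⟨e.trans rho, P₁, formOfGram id (JJ : Matrix (Fin 2) (Fin 2) F), formOfGram id G₆, hsy1, hsy2,
    ⟨c, hc, ?_⟩, ?_⟩
  · intro x' y'
    rw [Cfsg.Agent.Lib.Helper19.S5662C7STD.gramMatrix_formOfGram_id,
      Cfsg.Agent.Lib.Helper19.S5662C7STD.gramMatrix_formOfGram_id]
    have h1 := hT' (x' ∘ rho) (y' ∘ rho)
    rw [hGreg, formOfGram_submatrix] at h1
    exact h1
  · intro g hg
    obtain ⟨hg1, hg2⟩ := Subgroup.mem_inf.mp hg
    rw [htps] at hg1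
    obtain ⟨M, hM, rfl⟩ := Subgroup.mem_map.mp hg1
    obtain ⟨a, b, rfl⟩ := eq_kronGL_of_mem hM
    have hiso := mem_isometryGroup_of_mem_omegaGL Q _ hg2
    have hpres := polar_of_iso Q _ hiso
    have hmat : ((kronGL a b : GL (Fin 3 × Fin 4) F) : Matrix _ _ F)ᵀ * G * ((kronGL a b : GL (Fin 3 × Fin 4) F) : Matrix _ _ F) = G := by
      have h1 := psi_mem_preserving_iff e P₁ (f := QuadraticMap.polar Q) (φ := formOfGram id G) hc hT' (kronGL a b)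
      have h3 := preserves_iff (id : F → F) rfl rfl (fun _ _ => rfl) (fun _ _ => rfl) G
        ((kronGL a b : GL (Fin 3 × Fin 4) F) : Matrix _ _ F)
      rw [Matrix.map_id] at h3
      exact (h1.trans h3).mp hpres
    rw [kronGL_val, hG] at hmat
    obtain ⟨β, hβ, hb, ha⟩ := sim_of_kron G₁ hG₁0 _ _ hmat
    have hdet1 := det_eq_one_of_mem_omega Q _ hg2
    rw [psi_val, Matrix.det_mul, Matrix.det_mul, Matrix.det_submatrix_equiv_self, kronGL_val] at hdet1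
    have hPP : (P₁ : Matrix ι ι F).det * ((P₁⁻¹ : GL ι F) : Matrix ι ι F).det = 1 := by
      rw [← Matrix.det_mul, ← Units.val_mul, mul_inv_cancel, Units.val_one, Matrix.det_one]
    have hdetab : ((a : Matrix (Fin 3) (Fin 3) F) ⊗ₖ (b : Matrix (Fin 4) (Fin 4) F)).det = 1 := by
      linear_combination hdet1 - (((a : Matrix (Fin 3) (Fin 3) F) ⊗ₖ (b : Matrix (Fin 4) (Fin 4) F)).det) * hPP
    have hdetb := det_second G₁ hG₁d _ _ β hβ hb ha hdetab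
    obtain ⟨b₁, b₂, hb12⟩ := kron_of_sim_det h2 _ β hβ hb hdetb
    have hreg := kron_regroup (a : Matrix (Fin 3) (Fin 3) F) (b : Matrix (Fin 4) (Fin 4) F) b₁ b₂ hb12
    obtain ⟨d, hd⟩ : ∃ d : Matrix (Fin 6) (Fin 6) F,
        d = ((a : Matrix (Fin 3) (Fin 3) F) ⊗ₖ b₁).submatrix fp6.symm fp6.symm := ⟨_, rfl⟩
    rw [← hd] at hreg
    have hdd : (b₂ ⊗ₖ d).det ≠ 0 := by
      have : (b₂ ⊗ₖ d).det = 1 := by
        rw [← Matrix.det_submatrix_equiv_self rho, ← hreg]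
        exact hdetab
      rw [this]
      exact one_ne_zero
    rw [Matrix.det_kronecker] at hdd
    have hb₂0 : b₂.det ≠ 0 := by
      intro h0
      apply hdd
      rw [h0, zero_pow (by rw [Fintype.card_fin]; norm_num), zero_mul]
    have hd0 : d.det ≠ 0 := by
      intro h0
      apply hdd
      rw [h0, zero_pow (by rw [Fintype.card_fin]; norm_num), mul_zero]
    rw [tps_eq]
    refine Subgroup.mem_map.mpr ⟨kronGL (Matrix.GeneralLinearGroup.mkOfDetNeZero b₂ hb₂0)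
      (Matrix.GeneralLinearGroup.mkOfDetNeZero d hd0), kronGL_mem _ _, ?_⟩
    apply Units.ext
    rw [psi_val, psi_val, kronGL_val, kronGL_val, hreg, Matrix.submatrix_submatrix]
    rfl

/-- **X3** (shape of `notes/OEPlusSkel_helper13.lean.txt`, with `⊓ omegaGL Q`), plus the vanishing of `Q` on the
pure tensors of the new decomposition -/
theorem tensor_three_four_plus {n : ℕ} {Q : (Fin n → F) → F} (hQ : IsNondegenerateQuadraticForm Q)
    (hodd : Odd (Fintype.card F))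
    (e : Fin n ≃ Fin 3 × Fin 4) (P : GL (Fin n) F) (f₁ : (Fin 3 → F) → (Fin 3 → F) → F)
    (f₂ : (Fin 4 → F) → (Fin 4 → F) → F) (hf₁ : IsSymmetricForm f₁) (hf₂ : IsSymmetricForm f₂)
    (hT : IsTensorFormStructure id (QuadraticMap.polar Q) f₁ f₂ e P)
    (hp : ∃ U : Submodule F (Fin 4 → F), finrank F U = 2 ∧ ∀ u ∈ U, ∀ v ∈ U, f₂ u v = 0) :
    ∃ (e' : Fin n ≃ Fin 2 × Fin 6) (P' : GL (Fin n) F) (g₁ : (Fin 2 → F) → (Fin 2 → F) → F)
      (g₂ : (Fin 6 → F) → (Fin 6 → F) → F), IsSymplecticForm g₁ ∧ IsSymplecticForm g₂ ∧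
      IsTensorFormStructure id (QuadraticMap.polar Q) g₁ g₂ e' P' ∧
      (∀ (x₁ : Fin 2 → F) (x₂ : Fin 6 → F), Q ((P' : Matrix (Fin n) (Fin n) F) *ᵥ (pure2 x₁ x₂ ∘ e')) = 0) ∧
      tensorProductSubgroup 3 4 e P ⊓ omegaGL Q ≤ tensorProductSubgroup 2 6 e' P' := by
  obtain ⟨e', P', g₁, g₂, h1, h2, h3, h4⟩ := tensor_three_four_plus_gen hQ hodd e P f₁ f₂ hf₁ hf₂ hT hp
  exact ⟨e', P', g₁, g₂, h1, h2, h3,
    fun x₁ x₂ => OEPlusX.pure_zero_of_odd hQ hodd e' P' g₁ g₂ h1 h2 h3 x₁ x₂, h4⟩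

end main

end Cfsg.Agent.Lib.Helper6.OEPlusX3
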