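import Mathlib
import Cfsg.Agent.S0292
import Cfsg.Agent.Lib.Helper6.Spinor3

/-!
# Involutions of `Ω_{2m+1}(q)`, `q` odd: `m` pairwise non-conjugate classes
-/

set_option autoImplicit false
open Cfsg Matrix

namespace Cfsg.Agent.Lib.Helper6.OmInvol

open Cfsg.Agent.Lib.Helper6

section general
variable {F : Type*} [Field F] {ι : Type} [Fintype ι] [DecidableEq ι] (Q : QuadraticForm F (ι → F))

theorem mat_ext_single {X Y : Matrix ι ι F}
    (h : ∀ c, X *ᵥ Pi.single c 1 = Y *ᵥ Pi.single c 1) : X = Y := by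
  ext r c
  have := congrFun (h c) r
  rwa [mulVec_single_one, mulVec_single_one] at this

/-- the matrix with columns `fr c` -/
def frameMat (fr : ι → (ι → F)) : Matrix ι ι F := Matrix.of (fun r c => fr c r)

theorem frameMat_mulVec_single (fr : ι → (ι → F)) (c : ι) :
    frameMat fr *ᵥ Pi.single c 1 = fr c := by
  ext r
  rw [mulVec_single_one]
  rfl

/-- an orthogonal frame of anisotropic vectors -/
structure IsOrthoFrame (fr : ι → (ι → F)) : Prop where
  ortho : ∀ c c', c ≠ c' → QuadraticMap.polar ⇑Q (fr c) (fr c') = 0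
  aniso : ∀ c, Q (fr c) ≠ 0

variable {Q}

theorem frameMat_det_isUnit (h2 : (2 : F) ≠ 0) {fr : ι → (ι → F)} (h : IsOrthoFrame Q fr) :
    IsUnit (frameMat fr).det := by
  rw [← Matrix.isUnit_iff_isUnit_det, ← Matrix.linearIndependent_cols_iff_isUnit]
  have hcol : (frameMat fr).col = fr := by
    ext c r
    rfl
  rw [hcol]
  apply LinearMap.BilinForm.linearIndependent_of_iIsOrtho (B := QuadraticMap.polarBilin Q)
  · rw [LinearMap.BilinForm.iIsOrtho_def]
    intro c c' hcc'
    exact h.ortho c c' hcc'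
  · intro c hc
    have h1 : QuadraticMap.polar ⇑Q (fr c) (fr c) = 0 := hc
    rw [QuadraticMap.polar_self, two_smul, ← two_mul] at h1
    rcases mul_eq_zero.mp h1 with h0 | h0
    · exact h2 h0
    · exact h.aniso c h0

theorem refl_frame {fr : ι → (ι → F)} (h : IsOrthoFrame Q fr) (c c' : ι) :
    Cfsg.reflectionMatrix ⇑Q (fr c) *ᵥ fr c' = (if c' = c then (-1 : F) else 1) • fr c' := by
  rw [reflectionMatrix_mulVec]
  by_cases hc : c' = c
  · subst hc
    rw [if_pos rfl, QuadraticMap.polar_self, two_smul, ← two_mul]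
    have : (Q (fr c'))⁻¹ * (2 * Q (fr c')) = 2 := by
      rw [mul_comm 2, ← mul_assoc, inv_mul_cancel₀ (h.aniso c'), one_mul]
    rw [this]
    module
  · rw [if_neg hc, h.ortho c c' (Ne.symm hc), mul_zero, zero_smul, sub_zero, one_smul]

/-- the product of the reflections in the frame vectors of a list -/
def prodRefl (Q : QuadraticForm F (ι → F)) (fr : ι → (ι → F)) (L : List ι) : Matrix ι ι F :=
  (L.map (fun c => Cfsg.reflectionMatrix ⇑Q (fr c))).prod

theorem prod_frame {fr : ι → (ι → F)} (h : IsOrthoFrame Q fr) (L : List ι) (hL : L.Nodup) (c' : ι) :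
    prodRefl Q fr L *ᵥ fr c' = (if c' ∈ L then (-1 : F) else 1) • fr c' := by
  unfold prodRefl
  induction L with
  | nil => simp
  | cons c L ih =>
    rw [List.nodup_cons] at hL
    rw [List.map_cons, List.prod_cons, ← mulVec_mulVec, ih hL.2, mulVec_smul, refl_frame h, smul_smul]
    congr 1
    by_cases h1 : c' = c
    · subst h1
      rw [if_neg hL.1, if_pos rfl, if_pos List.mem_cons_self]
      ring
    · rw [if_neg h1]
      by_cases h3 : c' ∈ L
      · rw [if_pos h3, if_pos (List.mem_cons_of_mem _ h3)]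
        ring
      · rw [if_neg h3, if_neg (by simp [h1, h3])]
        ring

theorem prod_mul_frameMat {fr : ι → (ι → F)} (h : IsOrthoFrame Q fr) (L : List ι) (hL : L.Nodup) :
    prodRefl Q fr L * frameMat fr =
      frameMat fr * Matrix.diagonal (fun c => if c ∈ L then (-1 : F) else 1) := by
  apply mat_ext_single
  intro c
  rw [← mulVec_mulVec, ← mulVec_mulVec, frameMat_mulVec_single, prod_frame h L hL,
    diagonal_mulVec_single, mul_one]
  have : (Pi.single c (if c ∈ L then (-1 : F) else 1) : ι → F) =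
      (if c ∈ L then (-1 : F) else 1) • Pi.single c 1 := by
    rw [← Pi.single_smul, smul_eq_mul, mul_one]
  rw [this, mulVec_smul, frameMat_mulVec_single]

theorem prod_sq (h2 : (2 : F) ≠ 0) {fr : ι → (ι → F)} (h : IsOrthoFrame Q fr) (L : List ι)
    (hL : L.Nodup) : prodRefl Q fr L * prodRefl Q fr L = 1 := by
  have key := prod_mul_frameMat h L hL
  have hdet := frameMat_det_isUnit h2 h
  set M := prodRefl Q fr L
  set P := frameMat fr
  set D := Matrix.diagonal (fun c => if c ∈ L then (-1 : F) else 1)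
  have hDD : D * D = 1 := by
    rw [Matrix.diagonal_mul_diagonal, ← Matrix.diagonal_one]
    congr 1
    funext c
    by_cases hc : c ∈ L
    · rw [if_pos hc]; ring
    · rw [if_neg hc]; ring
  calc M * M = M * M * (P * P⁻¹) := by rw [Matrix.mul_nonsing_inv P hdet, Matrix.mul_one]
    _ = (M * (M * P)) * P⁻¹ := by simp only [Matrix.mul_assoc]
    _ = (M * (P * D)) * P⁻¹ := by rw [key]
    _ = ((M * P) * D) * P⁻¹ := by rw [Matrix.mul_assoc M P D]
    _ = (P * D * D) * P⁻¹ := by rw [key]
    _ = (P * (D * D)) * P⁻¹ := by rw [Matrix.mul_assoc P D D]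
    _ = 1 := by rw [hDD, Matrix.mul_one, Matrix.mul_nonsing_inv P hdet]

theorem prod_rank [DecidableEq F] (h2 : (2 : F) ≠ 0) {fr : ι → (ι → F)} (h : IsOrthoFrame Q fr)
    (L : List ι) (hL : L.Nodup) : (prodRefl Q fr L - 1).rank = L.length := by
  have key := prod_mul_frameMat h L hL
  have hdet := frameMat_det_isUnit h2 h
  have h1 : (prodRefl Q fr L - 1) * frameMat fr =
      frameMat fr * Matrix.diagonal (fun c => (if c ∈ L then (-1 : F) else 1) - 1) := by
    rw [Matrix.sub_mul, key, Matrix.one_mul]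
    have : Matrix.diagonal (fun c => (if c ∈ L then (-1 : F) else 1) - 1) =
        Matrix.diagonal (fun c => if c ∈ L then (-1 : F) else 1) - 1 := by
      rw [← Matrix.diagonal_one, Matrix.diagonal_sub]
    rw [this, Matrix.mul_sub, Matrix.mul_one]
  have h3 := Matrix.rank_mul_eq_left_of_isUnit_det (frameMat fr) (prodRefl Q fr L - 1) hdet
  have h4 := Matrix.rank_mul_eq_right_of_isUnit_det (frameMat fr)
    (Matrix.diagonal (fun c => (if c ∈ L then (-1 : F) else 1) - 1)) hdet
  rw [← h3, h1, h4, Matrix.rank_diagonal]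
  rw [Fintype.card_of_subtype L.toFinset, List.toFinset_card_of_nodup hL]
  intro c
  rw [List.mem_toFinset]
  by_cases hc : c ∈ L
  · rw [if_pos hc]
    constructor
    · intro _ h0
      apply h2
      linear_combination -h0
    · intro _; exact hc
  · rw [if_neg hc, sub_self]
    constructor
    · intro h0; exact absurd h0 hc
    · intro h0; exact absurd rfl h0

end general

end Cfsg.Agent.Lib.Helper6.OmInvol
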