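import Mathlib
import Cfsg.Agent.Lib.Helper6.OmInvol

/-!
# Involutions of `PΩ_{2m+1}(q)`: the specific frame and lists
-/

set_option autoImplicit false
open Cfsg Matrix

namespace Cfsg.Agent.Lib.Helper6.OmInvol

open Cfsg.Agent.Lib.Helper6 Cfsg.Agent.S0292

section spec
variable {F : Type*} [Field F] {m : ℕ}

/-- the orthogonal frame `x₀, e_i + f_i, e_i - f_i` -/
def fr : II m → (II m → F)
  | Sum.inl _ => pv none
  | Sum.inr (Sum.inl i) => pv (some i)
  | Sum.inr (Sum.inr i) => bv i

theorem fr_frame (h2 : (2 : F) ≠ 0) : IsOrthoFrame (QOdd F m) (fr (F := F) (m := m)) := by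
  constructor
  · intro c c' hcc'
    rcases c with c | c | c <;> rcases c' with c' | c' | c'
    · exact absurd rfl hcc'
    · exact polar_pv_pv none (some c') (by simp)
    · exact polar_pv_bv none c'
    · exact polar_pv_pv (some c) none (by simp)
    · exact polar_pv_pv (some c) (some c') (fun h => hcc' (by rw [Option.some.inj h]))
    · exact polar_pv_bv (some c) c'
    · rw [QuadraticMap.polar_comm]; exact polar_pv_bv none c
    · rw [QuadraticMap.polar_comm]; exact polar_pv_bv (some c') c
    · exact polar_bv_bv c c' (fun h => hcc' (by rw [h]))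
  · intro c
    rcases c with c | c | c
    · change QOdd F m (pv none) ≠ 0
      rw [Q_pv]; exact one_ne_zero
    · change QOdd F m (pv (some c)) ≠ 0
      rw [Q_pv]; exact one_ne_zero
    · change QOdd F m (bv c) ≠ 0
      rw [Q_bv]; exact neg_ne_zero.mpr one_ne_zero

/-- indices of the norm-one vectors -/
def plusIdx : Fin (m + 1) → II m := Fin.cases (Sum.inl ()) (fun i => Sum.inr (Sum.inl i))

/-- indices of the norm-minus-one vectors -/
def minusIdx : Fin m → II m := fun i => Sum.inr (Sum.inr i)

theorem plusIdx_injective : Function.Injective (plusIdx (m := m)) := by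
  intro a b hab
  induction a using Fin.cases with
  | zero =>
    induction b using Fin.cases with
    | zero => rfl
    | succ b => simp [plusIdx] at hab
  | succ a =>
    induction b using Fin.cases with
    | zero => simp [plusIdx] at hab
    | succ b =>
      simp only [plusIdx, Fin.cases_succ, Sum.inr.injEq, Sum.inl.injEq] at hab
      rw [hab]

theorem minusIdx_injective : Function.Injective (minusIdx (m := m)) := by
  intro a b hab
  simpa [minusIdx] using hab

theorem plusIdx_ne_minusIdx (a : Fin (m + 1)) (b : Fin m) : plusIdx a ≠ minusIdx b := by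
  induction a using Fin.cases with
  | zero => simp [plusIdx, minusIdx]
  | succ a => simp [plusIdx, minusIdx]

theorem Q_fr_plus (a : Fin (m + 1)) : QOdd F m (fr (plusIdx a)) = 1 := by
  induction a using Fin.cases with
  | zero => exact Q_pv none
  | succ a => exact Q_pv (some a)

theorem Q_fr_minus (b : Fin m) : QOdd F m (fr (minusIdx b)) = -1 := Q_bv b

/-- the list of `p` plus-indices and `n` minus-indices -/
def idxList (p n : ℕ) (hp : p ≤ m + 1) (hn : n ≤ m) : List (II m) :=
  List.ofFn (fun j : Fin p => plusIdx (Fin.castLE hp j)) ++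
    List.ofFn (fun j : Fin n => minusIdx (Fin.castLE hn j))

theorem idxList_length (p n : ℕ) (hp : p ≤ m + 1) (hn : n ≤ m) :
    (idxList p n hp hn).length = p + n := by
  unfold idxList
  rw [List.length_append, List.length_ofFn, List.length_ofFn]

theorem idxList_nodup (p n : ℕ) (hp : p ≤ m + 1) (hn : n ≤ m) : (idxList p n hp hn).Nodup := by
  unfold idxList
  rw [List.nodup_append]
  refine ⟨?_, ?_, ?_⟩
  · rw [List.nodup_ofFn]
    exact plusIdx_injective.comp (Fin.castLE_injective hp)
  · rw [List.nodup_ofFn]
    exact minusIdx_injective.comp (Fin.castLE_injective hn)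
  · intro a ha b hb hab
    rw [List.mem_ofFn] at ha hb
    obtain ⟨i, rfl⟩ := ha
    obtain ⟨j, rfl⟩ := hb
    exact plusIdx_ne_minusIdx _ _ hab

theorem idxList_prod (p n : ℕ) (hp : p ≤ m + 1) (hn : n ≤ m) :
    ((idxList p n hp hn).map (fun c => QOdd F m (fr c))).prod = (-1) ^ n := by
  unfold idxList
  rw [List.map_append, List.prod_append, List.map_ofFn, List.map_ofFn, List.prod_ofFn, List.prod_ofFn]
  simp only [Function.comp, Q_fr_plus, Q_fr_minus, Finset.prod_const_one, one_mul, Finset.prod_const,
    Finset.card_univ, Fintype.card_fin]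

/-- lists for the involutions -/
theorem exists_list (k : ℕ) (hk : k ≤ m) : ∃ L : List (II m), L.Nodup ∧ L.length = 2 * k ∧
    IsSquare ((L.map (fun c => QOdd F m (fr c))).prod) := by
  refine ⟨idxList (2 * k - 2 * (k / 2)) (2 * (k / 2)) (by omega) (by omega), idxList_nodup _ _ _ _, ?_, ?_⟩
  · rw [idxList_length]
    omega
  · rw [idxList_prod, pow_mul]
    refine ⟨(-1) ^ (k / 2), ?_⟩
    rw [neg_one_sq, one_pow, ← pow_add, ← two_mul, pow_mul, neg_one_sq, one_pow]

end spec

end Cfsg.Agent.Lib.Helper6.OmInvol
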