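import Mathlib
import Cfsg.Agent.Lib.Helper6.OmInvol2

/-!
# `m` pairwise non-conjugate involutions of `PΩ_{2m+1}(q)`
-/

set_option autoImplicit false
open Cfsg Matrix

namespace Cfsg.Agent.Lib.Helper6.OmInvol

open Cfsg.Agent.Lib.Helper6 Cfsg.Agent.S0292

section spec
variable {F : Type*} [Field F] [Fintype F] [DecidableEq F] {m : ℕ}

/-- the matrix of an element of `Ω` -/
def omat (ω : ↥(Cfsg.Omega F ⇑(QOdd F m))) : Matrix (II m) (II m) F :=
  ((ω.1.1 : GL (II m) F) : Matrix (II m) (II m) F)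

omit [Fintype F] [DecidableEq F] in
theorem omat_mul (a b : ↥(Cfsg.Omega F ⇑(QOdd F m))) : omat (a * b) = omat a * omat b := rfl

omit [Fintype F] [DecidableEq F] in
theorem omat_one : omat (1 : ↥(Cfsg.Omega F ⇑(QOdd F m))) = 1 := rfl

omit [Fintype F] [DecidableEq F] in
theorem omat_injective : Function.Injective (omat (F := F) (m := m)) := by
  intro a b hab
  apply Subtype.ext
  apply Subtype.ext
  apply Units.ext
  exact hab

omit [Fintype F] [DecidableEq F] in
theorem omat_det_isUnit (ω : ↥(Cfsg.Omega F ⇑(QOdd F m))) : IsUnit (omat ω).det :=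
  Matrix.isUnits_det_units (ω.1.1 : GL (II m) F)

theorem exists_omega (h2 : (2 : F) ≠ 0) (hm : 1 ≤ m) (k : ℕ) (hk : k ≤ m) :
    ∃ ω : ↥(Cfsg.Omega F ⇑(QOdd F m)), omat ω * omat ω = 1 ∧ (omat ω - 1).rank = 2 * k := by
  obtain ⟨L, hL, hlen, hsq⟩ := exists_list (F := F) k hk
  have hfr := fr_frame (F := F) (m := m) h2
  have hvs : ∀ v ∈ L.map (fr (F := F) (m := m)), QOdd F m v ≠ 0 := by
    intro v hv
    obtain ⟨c, _, rfl⟩ := List.mem_map.mp hv
    exact hfr.aniso c
  obtain ⟨g, hg⟩ := exists_of_list' (QOdd F m) (L.map fr) hvs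
  have hcard : 2 ≤ Fintype.card (II m) := by
    rw [Fintype.card_sum, Fintype.card_sum, Fintype.card_fin]; simp; omega
  have hmem : g ∈ Cfsg.Omega F ⇑(QOdd F m) := by
    rw [mem_Omega_iff_list' (QOdd F m) h2 (nondegenerate_QOdd F h2 m) hcard g (L.map fr) hvs hg]
    rw [List.length_map, hlen, List.map_map]
    exact ⟨⟨k, by ring⟩, hsq⟩
  have hmat : omat ⟨g, hmem⟩ = prodRefl (QOdd F m) fr L := by
    change ((g.1 : GL (II m) F) : Matrix (II m) (II m) F) = _
    rw [hg, List.map_map]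
    rfl
  refine ⟨⟨g, hmem⟩, ?_, ?_⟩
  · rw [hmat]
    exact prod_sq h2 hfr L hL
  · rw [hmat, prod_rank h2 hfr L hL, hlen]

theorem pomega_invols (h2 : (2 : F) ≠ 0) (hm : 3 ≤ m) :
    ∃ y : Fin m → Cfsg.POmega F ⇑(QOdd F m), (∀ k, y k ≠ 1) ∧ (∀ k, y k * y k = 1) ∧
      ∀ j k, j ≠ k → ∀ g : Cfsg.POmega F ⇑(QOdd F m), g * y j * g⁻¹ ≠ y k := by
  have hex : ∀ k : Fin m, ∃ ω : ↥(Cfsg.Omega F ⇑(QOdd F m)), omat ω * omat ω = 1 ∧
      (omat ω - 1).rank = 2 * (k.val + 1) := fun k => exists_omega h2 (by omega) (k.val + 1) (by omega)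
  choose ω hω1 hω2 using hex
  have hcenter := center_trivial (F := F) h2 hm
  refine ⟨fun k => QuotientGroup.mk (ω k), ?_, ?_, ?_⟩
  · intro k hk
    rw [QuotientGroup.eq_one_iff, hcenter, Subgroup.mem_bot] at hk
    have h1 := hω2 k
    rw [hk, omat_one, sub_self, Matrix.rank_zero] at h1
    omega
  · intro k
    rw [← QuotientGroup.mk_mul, QuotientGroup.eq_one_iff]
    have : ω k * ω k = 1 := by
      apply omat_injective
      rw [omat_mul, hω1, omat_one]
    rw [this]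
    exact one_mem _
  · intro j k hjk g hg
    obtain ⟨h, rfl⟩ := QuotientGroup.mk_surjective g
    rw [← QuotientGroup.mk_inv, ← QuotientGroup.mk_mul, ← QuotientGroup.mk_mul, QuotientGroup.eq,
      hcenter, Subgroup.mem_bot] at hg
    have h1 : h * ω j * h⁻¹ = ω k := by
      rw [inv_mul_eq_one] at hg
      exact hg
    have h3 : h * ω j = ω k * h := by
      rw [← h1, inv_mul_cancel_right]
    have h4 : omat h * omat (ω j) = omat (ω k) * omat h := by
      rw [← omat_mul, ← omat_mul, h3]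
    have h5 : (omat (ω k) - 1) * omat h = omat h * (omat (ω j) - 1) := by
      rw [Matrix.sub_mul, Matrix.mul_sub, Matrix.one_mul, Matrix.mul_one, h4]
    have h6 := Matrix.rank_mul_eq_left_of_isUnit_det (omat h) (omat (ω k) - 1) (omat_det_isUnit h)
    have h7 := Matrix.rank_mul_eq_right_of_isUnit_det (omat h) (omat (ω j) - 1) (omat_det_isUnit h)
    rw [h5, h7, hω2 j, hω2 k] at h6
    apply hjk
    apply Fin.ext
    omega

end spec

end Cfsg.Agent.Lib.Helper6.OmInvol
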