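import Mathlib
import Cfsg.Agent.Lib.Helper6.OrtT8

/-!
# Arithmetic of the `r = 2` criteria
-/

set_option autoImplicit false

namespace Cfsg.Agent.Lib.Helper6.OrtS

theorem arith_two_minus (q d a : ℕ) (hq : q % 2 = 1) :
    (¬ Good q d ∨ (-1 : ℤ) = (if q % 4 = 1 then (1 : ℤ) else -1) ^ a) ↔
      ((Even d ∧ q % 4 = 3 ∧ (2 * a) % 4 = 2) ∨ (Odd d ∧ q % 8 ≠ 1)) := by
  unfold Good
  by_cases hq4 : q % 4 = 1
  · rw [if_pos hq4, one_pow]
    simp only [Nat.even_iff, Nat.odd_iff]
    constructor
    · rintro (h | h)
      · omega
      · norm_num at h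
    · intro h
      left
      omega
  · rw [if_neg hq4]
    rcases Nat.even_or_odd a with h | h
    · rw [h.neg_one_pow]
      have h' := Nat.even_iff.mp h
      simp only [Nat.even_iff, Nat.odd_iff]
      constructor
      · rintro (h1 | h1)
        · omega
        · norm_num at h1
      · intro h1
        left
        omega
    · rw [h.neg_one_pow]
      have h' := Nat.odd_iff.mp h
      simp only [Nat.even_iff, Nat.odd_iff]
      constructor
      · intro _
        omega
      · intro _
        right
        trivial

theorem arith_two_plus (q d a : ℕ) (hq : q % 2 = 1) :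
    (¬ Good q d ∨ (1 : ℤ) = (if q % 4 = 1 then (1 : ℤ) else -1) ^ a) ↔
      ((2 * d) % 4 = 2 ∨ (2 * a) % 4 = 0 ∨ q % 4 = 1) := by
  unfold Good
  by_cases hq4 : q % 4 = 1
  · rw [if_pos hq4, one_pow]
    constructor
    · intro _
      exact Or.inr (Or.inr hq4)
    · intro _
      exact Or.inr rfl
  · rw [if_neg hq4]
    rcases Nat.even_or_odd a with h | h
    · rw [h.neg_one_pow]
      have h' := Nat.even_iff.mp h
      constructor
      · intro _
        right; left
        omega
      · intro _
        exact Or.inr rfl
    · rw [h.neg_one_pow]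
      have h' := Nat.odd_iff.mp h
      simp only [Nat.even_iff]
      constructor
      · rintro (h1 | h1)
        · left
          omega
        · norm_num at h1
      · intro h1
        left
        omega

end Cfsg.Agent.Lib.Helper6.OrtS
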