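import Mathlib
import Cfsg.Agent.Lib.Helper6.OrtU2

/-!
# Involutions of `Ω(Q)` in characteristic two fixing no nondegenerate subspace of given type,
and the criterion for `r = p = 2`
-/

set_option autoImplicit false

namespace Cfsg.Agent.Lib.Helper6.OrtS

open Module Submodule QuadraticMap Cfsg.Agent.Lib.Helper15.PSpI Cfsg.Agent.Lib.Helper14.OrthEven
  Cfsg.Agent.Lib.Helper15.PSpJ Cfsg.Agent.Lib.Helper13 Cfsg.Agent.Lib.Helper15

universe u

section derange

variable {F V : Type u} [Field F] [Fintype F] [CharP F 2] [AddCommGroup V] [Module F V]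
  [FiniteDimensional F V] (Q : QuadraticForm F V)

/-- an alternating involution has even rank on every invariant nondegenerate subspace -/
theorem even_rank_restrict (t : isoGroup Q) (ht : t * t = 1)
    (halt : ∀ x, polar Q x (t.1 x - x) = 0) (W : Submodule F V)
    (hWn : NondegOn (polarBilin Q) W) (hWt : ∀ x ∈ W, t.1 x ∈ W) :
    Even (finrank F (W.map (t.1.toLinearMap - LinearMap.id))) := by
  have htt := isoGroup_sq_apply Q t ht
  let f : W →ₗ[F] W := t.1.toLinearMap.restrict hWt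
  have hf : ∀ x : W, ((f x : W) : V) = t.1 x := fun x => rfl
  have hinv : Function.Involutive f := fun x => Subtype.ext (by rw [hf, hf, htt])
  let te : W ≃ₗ[F] W := LinearEquiv.ofInvolutive f hinv
  have hte : ∀ x : W, ((te x : W) : V) = t.1 x := fun x => rfl
  have hmem : te ∈ isoGroup (Qr Q W) := fun x => by
    rw [Qr_apply, Qr_apply, hte]; exact t.2 x
  let tW : isoGroup (Qr Q W) := ⟨te, hmem⟩
  have htW : tW * tW = 1 := by
    apply Subtype.ext
    apply LinearEquiv.ext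
    intro x
    exact hinv x
  have haltW : ∀ x : W, polar (Qr Q W) x (tW.1 x - x) = 0 := fun x => by
    rw [polar_Qr]
    exact halt x
  have hev := ((invol_rank_facts (Qr Q W) (nondegenerate_Qr Q hWn) tW htW).2.2 haltW).1
  have hmap : W.map (t.1.toLinearMap - LinearMap.id) =
      (LinearMap.range (tW.1.toLinearMap - LinearMap.id)).map W.subtype := by
    ext y
    constructor
    · rintro ⟨x, hx, rfl⟩
      exact ⟨_, ⟨⟨x, hx⟩, rfl⟩, rfl⟩
    · rintro ⟨_, ⟨x, rfl⟩, rfl⟩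
      exact ⟨x.1, x.2, rfl⟩
  rw [hmap, Submodule.finrank_map_subtype_eq]
  exact hev

/-- if the Witt indices do not allow it, an alternating involution of maximal even rank fixes
no nondegenerate subspace of dimension `2a` and sign `η` -/
theorem exists_derangement_two (hQ : (polarBilin Q).Nondegenerate) (d : ℕ)
    (hV : finrank F V = 2 * d) (ε : ℤ) (hε : ε = 1 ∨ ε = -1) (hsV : SgnOn Q ⊤ ε) (a : ℕ)
    (η : ℤ) (hη : η = 1 ∨ η = -1)
    (hc : ¬ 2 * (wi ε d / 2) ≤ 2 * (wi η a / 2) + 2 * (wi (ε * η) (d - a) / 2)) :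
    ∃ t : isoGroup Q, t * t = 1 ∧ t ≠ 1 ∧
      Even (finrank F (LinearMap.range (t.1.toLinearMap - LinearMap.id))) ∧
      ∀ W ∈ NSet Q (2 * a) η, ¬ ∀ x ∈ W, t.1 x ∈ W := by
  have hVn : NondegOn (polarBilin Q) ⊤ := fun u _ h0 => hQ.1 u (fun v => h0 v mem_top)
  have hεη : ε * η = 1 ∨ ε * η = -1 := by
    rcases hε with rfl | rfl <;> rcases hη with rfl | rfl <;> simp
  obtain ⟨k, hk⟩ : ∃ k, k = wi ε d / 2 := ⟨_, rfl⟩
  obtain ⟨u, -, hl, ho, hs⟩ := exists_ts_fam Q ⊤ hVn d (by rw [finrank_top, hV]) ε hε hsV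
    (ι := Fin k ⊕ Fin k) (by rw [Fintype.card_sum, Fintype.card_fin]; omega)
  obtain ⟨t, ht, -, hrk, halt⟩ := exists_alt_model Q hQ
    (Sum.swap : Fin k ⊕ Fin k → Fin k ⊕ Fin k) Sum.swap_swap (by rintro (c | c) <;> simp)
    u hl ho hs
  rw [Fintype.card_sum, Fintype.card_fin] at hrk
  have hk1 : 1 ≤ k := by omega
  refine ⟨t, ht, ?_, ⟨k, hrk⟩, ?_⟩
  · rintro rfl
    have h0 : LinearMap.range ((1 : isoGroup Q).1.toLinearMap - LinearMap.id : V →ₗ[F] V) = ⊥ := by
      rw [LinearMap.range_eq_bot]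
      apply LinearMap.ext
      intro x
      show x - x = 0
      exact sub_self x
    rw [h0, finrank_bot] at hrk
    omega
  · rintro W ⟨hWf, hWn, hWs⟩ hWt
    obtain ⟨hW'n, hW'f, hW's, ho', hdj, hsup⟩ :=
      sgnOn_perp Q hVn d hV ε hsV W hWn a hWf η hη hWs
    obtain ⟨W', hW'⟩ : ∃ W', W' = perpIn (polarBilin Q) ⊤ W := ⟨_, rfl⟩
    rw [← hW'] at hW'n hW'f hW's ho' hdj hsup
    have htt := isoGroup_sq_apply Q t ht
    have hW't : ∀ x ∈ W', t.1 x ∈ W' := by
      intro x hx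
      rw [hW'] at hx ⊢
      refine mem_perpIn.mpr ⟨mem_top, fun u hu => ?_⟩
      have e1 : polar Q u (t.1 x) = polar Q (t.1 u) x := by
        rw [← isoGroup_polar Q t (t.1 u) x, htt]
      rw [pB_apply, e1]
      exact (mem_perpIn.mp hx).2 _ (hWt u hu)
    have he1 := even_rank_restrict Q t ht halt W hWn hWt
    have he2 := even_rank_restrict Q t ht halt W' hW'n hW't
    obtain ⟨N, hN⟩ : ∃ N : V →ₗ[F] V, N = t.1.toLinearMap - LinearMap.id := ⟨_, rfl⟩
    rw [← hN] at he1 he2 hrk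
    have hNx : ∀ x, N x = t.1 x - x := fun x => by rw [hN]; rfl
    have hsubW : W.map N ≤ W := by
      rintro _ ⟨x, hx, rfl⟩
      rw [hNx]
      exact W.sub_mem (hWt x hx) hx
    have hsubW' : W'.map N ≤ W' := by
      rintro _ ⟨x, hx, rfl⟩
      rw [hNx]
      exact W'.sub_mem (hW't x hx) hx
    have htsN : ∀ (Y : Submodule F V), ∀ y ∈ Y.map N, Q y = 0 := by
      rintro Y _ ⟨x, -, rfl⟩
      exact ((invol_rank_facts Q hQ t ht).2.2 halt).2 _ ⟨x, by rw [hN]⟩
    have hb1 := ts_le_wi Q W hWn a hWf η hη hWs _ hsubW (htsN W)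
    have hb2 := ts_le_wi Q W' hW'n (d - a) hW'f (ε * η) hεη hW's _ hsubW' (htsN W')
    have h4 : LinearMap.range N = W.map N ⊔ W'.map N := by
      rw [LinearMap.range_eq_map, ← hsup, Submodule.map_sup]
    have h5 := Submodule.finrank_add_le_finrank_add_finrank (W.map N) (W'.map N)
    rw [← h4, hrk] at h5
    obtain ⟨r₁, hr₁⟩ := he1
    obtain ⟨r₂, hr₂⟩ := he2
    omega

end derange

section mat

variable {F : Type u} [Field F] [Fintype F] [CharP F 2] {ι : Type} [Fintype ι] [DecidableEq ι]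
  (Q : QuadraticForm F (ι → F))

omit [Fintype F] [Fintype ι] [DecidableEq ι] in
theorem eq_one_of_mul_self_two (z : F) (hz : z * z = 1) : z = 1 := by
  have h2 : (2 : F) = 0 := CharP.cast_eq_zero F 2
  have h1 : (z - 1) * (z - 1) = 0 := by
    have : (z - 1) * (z - 1) = z * z - 2 * z + 1 := by ring
    rw [this, hz, h2]
    ring_nf
    rw [h2]
  have := mul_self_eq_zero.mp h1
  exact sub_eq_zero.mp this

/-- criterion for `r = p = 2`: every involution of `Ω(Q)` fixes a nondegenerate subspace of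
dimension `2a` and sign `η` iff the Witt indices allow an alternating involution of maximal even
rank to split -/
theorem char_two_iff (hQ : (polarBilin Q).Nondegenerate) (d : ℕ)
    (hn : Fintype.card ι = 2 * d) (hd : 3 ≤ d) (ε : ℤ) (hε : ε = 1 ∨ ε = -1)
    (hsV : SgnOn Q ⊤ ε) (a : ℕ) (ha : 1 ≤ a) (had : a + 1 ≤ d) (η : ℤ) (hη : η = 1 ∨ η = -1) :
    (∀ x : GL ι F, x ∈ Cfsg.Geo.omegaGL (⇑Q) →
      (∃ z : F, ((x ^ 2 : GL ι F) : Matrix ι ι F) = z • (1 : Matrix ι ι F)) →
      (∀ z : F, (x : Matrix ι ι F) ≠ z • (1 : Matrix ι ι F)) →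
      ∃ W : Submodule F (ι → F), W ∈ NSet Q (2 * a) η ∧
        W.map (Matrix.toLin' (x : Matrix ι ι F)) ≤ W) ↔
    2 * (wi ε d / 2) ≤ 2 * (wi η a / 2) + 2 * (wi (ε * η) (d - a) / 2) := by
  have hV : finrank F (ι → F) = 2 * d := by rw [Module.finrank_fintype_fun_eq_card, hn]
  have hne : Nonempty ι := by
    apply Fintype.card_pos_iff.mp
    omega
  obtain ⟨v₀, hv₀⟩ := exists_Q_ne_zero Q hQ
  constructor
  · intro h
    by_contra hc
    obtain ⟨t, ht, htne, hrk, hder⟩ := exists_derangement_two Q hQ d hV ε hε hsV a η hη hc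
    obtain ⟨y, hy⟩ : ∃ y : Cfsg.isometryGroup F ⇑Q, y = (isoEquiv (⇑Q) Q (fun _ => rfl)).symm t :=
      ⟨_, rfl⟩
    have hyt : isoEquiv (⇑Q) Q (fun _ => rfl) y = t := by rw [hy, MulEquiv.apply_symm_apply]
    have hyy : y * y = 1 := by
      apply (isoEquiv (⇑Q) Q (fun _ => rfl)).injective
      rw [map_mul, hyt, ht, map_one]
    have hyne : y ≠ 1 := by
      rintro rfl
      rw [map_one] at hyt
      exact htne hyt.symm
    have hord : orderOf y = 2 := orderOf_eq_prime (by rw [pow_two]; exact hyy) hyne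
    have hyΩ : y ∈ Cfsg.Omega F ⇑Q := by
      rw [isometryGroup_involution_mem_Omega_iff' (⇑Q) Q (fun _ => rfl) hQ (by omega) y hord,
        rank_sub_one_eq (⇑Q) Q (fun _ => rfl), hyt]
      exact hrk
    have hmv : ∀ v, ((y : GL ι F) : Matrix ι ι F).mulVec v = t.1 v := by
      intro v
      rw [← hyt, isoEquiv_apply]
    obtain ⟨W, hW, hWx⟩ := h (y : GL ι F) (Subgroup.mem_map.mpr ⟨y, hyΩ, rfl⟩) ⟨1, by
        rw [one_smul]
        have h1 : (y : GL ι F) ^ 2 = 1 := by
          have := congrArg (fun g : Cfsg.isometryGroup F ⇑Q => (g : GL ι F)) hyy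
          rw [pow_two]
          exact this
        rw [h1]
        rfl⟩ (by
      intro z hz
      have hzz : z * z = 1 := by
        have h1 := t.2 v₀
        rw [← hmv, hz, Matrix.smul_mulVec, Matrix.one_mulVec, QuadraticMap.map_smul,
          smul_eq_mul] at h1
        exact mul_right_cancel₀ hv₀ (by rw [h1, one_mul])
      rw [eq_one_of_mul_self_two z hzz, one_smul] at hz
      apply htne
      apply Subtype.ext
      apply LinearEquiv.ext
      intro v
      rw [← hmv, hz, Matrix.one_mulVec]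
      rfl)
    apply hder W hW
    intro v hv
    rw [← hmv]
    exact hWx ⟨v, hv, by rw [Matrix.toLin'_apply]⟩
  · intro hc x hxΩ hx2 hxns
    obtain ⟨y, hyΩ, rfl⟩ := Subgroup.mem_map.mp hxΩ
    obtain ⟨t, ht⟩ : ∃ t, t = isoEquiv (⇑Q) Q (fun _ => rfl) y := ⟨_, rfl⟩
    have hmv : ∀ v, ((y : GL ι F) : Matrix ι ι F).mulVec v = t.1 v := by
      intro v
      rw [ht, isoEquiv_apply]
    obtain ⟨z, hz⟩ := hx2
    have hpow : ∀ v, t.1 (t.1 v) = z • v := by
      intro v
      rw [← hmv, ← hmv, Matrix.mulVec_mulVec, ← pow_two]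
      have : (((y : GL ι F) : Matrix ι ι F) ^ 2) = z • (1 : Matrix ι ι F) := by
        rw [← hz]
        simp
      rw [this, Matrix.smul_mulVec, Matrix.one_mulVec]
    have hzz : z * z = 1 := by
      have h1 : Q (t.1 (t.1 v₀)) = Q v₀ := by rw [t.2, t.2]
      rw [hpow, QuadraticMap.map_smul, smul_eq_mul] at h1
      exact mul_right_cancel₀ hv₀ (by rw [h1, one_mul])
    have hz1 := eq_one_of_mul_self_two z hzz
    have htt : t * t = 1 := by
      apply Subtype.ext
      apply LinearEquiv.ext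
      intro v
      show t.1 (t.1 v) = v
      rw [hpow, hz1, one_smul]
    have hyy : y * y = 1 := by
      apply (isoEquiv (⇑Q) Q (fun _ => rfl)).injective
      rw [map_mul, ← ht, htt, map_one]
    have hyne : y ≠ 1 := by
      rintro rfl
      apply hxns 1
      rw [one_smul]
      rfl
    have hord : orderOf y = 2 := orderOf_eq_prime (by rw [pow_two]; exact hyy) hyne
    have hrk : Even (finrank F (LinearMap.range (t.1.toLinearMap - LinearMap.id))) := by
      rw [ht, ← rank_sub_one_eq (⇑Q) Q (fun _ => rfl),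
        ← isometryGroup_involution_mem_Omega_iff' (⇑Q) Q (fun _ => rfl) hQ (by omega) y hord]
      exact hyΩ
    obtain ⟨W, hW, hWt⟩ := invol_fixes_of_cond Q hQ d hV ε hε hsV a ha had η hη hc t htt hrk
    refine ⟨W, hW, ?_⟩
    rintro _ ⟨v, hv, rfl⟩
    rw [Matrix.toLin'_apply]
    show ((y : GL ι F) : Matrix ι ι F).mulVec v ∈ W
    rw [hmv]
    exact hWt v hv

end mat

section arith

theorem wi_one (n : ℕ) : wi 1 n = n := by rw [wi, if_pos rfl]

theorem wi_neg_one (n : ℕ) : wi (-1) n = n - 1 := by rw [wi, if_neg (by norm_num)]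

/-- the criterion for `(ε, η) = (+, +)` -/
theorem cond_pp (d a : ℕ) (had : a ≤ d) :
    (2 * (wi 1 d / 2) ≤ 2 * (wi 1 a / 2) + 2 * (wi (1 * 1) (d - a) / 2)) ↔ (Odd d ∨ Even a) := by
  rw [mul_one, wi_one, wi_one, wi_one, Nat.odd_iff, Nat.even_iff]
  omega

/-- the criterion for `(ε, η) = (+, -)` -/
theorem cond_pm (d a : ℕ) (ha : 1 ≤ a) (had : a + 1 ≤ d) :
    ¬ (2 * (wi 1 d / 2) ≤ 2 * (wi (-1) a / 2) + 2 * (wi (1 * -1) (d - a) / 2)) := by
  rw [one_mul, wi_one, wi_neg_one, wi_neg_one]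
  omega

/-- the criterion for `(ε, η) = (-, +)` -/
theorem cond_mp (d a : ℕ) (ha : 1 ≤ a) (had : a + 1 ≤ d) :
    (2 * (wi (-1) d / 2) ≤ 2 * (wi 1 a / 2) + 2 * (wi (-1 * 1) (d - a) / 2)) ↔
      (Even d ∨ Even a) := by
  rw [mul_one, wi_one, wi_neg_one, wi_neg_one, Nat.even_iff, Nat.even_iff]
  omega

/-- the criterion for `(ε, η) = (-, -)` -/
theorem cond_mm (d a : ℕ) (ha : 1 ≤ a) (had : a + 1 ≤ d) :
    (2 * (wi (-1) d / 2) ≤ 2 * (wi (-1) a / 2) + 2 * (wi (-1 * -1) (d - a) / 2)) ↔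
      (Even d ∨ Odd a) := by
  have e : ((-1 : ℤ) * -1) = 1 := by norm_num
  rw [e, wi_one, wi_neg_one, wi_neg_one, Nat.even_iff, Nat.odd_iff]
  omega

end arith

end Cfsg.Agent.Lib.Helper6.OrtS
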