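import Mathlib
import Cfsg.Agent.Lib.Helper6.OrtU3

/-!
# Plus type subspaces in the vocabulary of statement S5974
-/

set_option autoImplicit false

namespace Cfsg.Agent.Lib.Helper6.OrtS

open Module Submodule QuadraticMap Cfsg.Agent.Lib.Helper15.PSpI Cfsg.Agent.Lib.Helper14.OrthEven
  Cfsg.Agent.Lib.Helper15.PSpJ

universe u

section translate

variable {F : Type u} {ι : Type} [Fintype ι] [DecidableEq ι] [Field F] [Fintype F]
variable (Q : QuadraticForm F (ι → F))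

omit [DecidableEq ι] in
/-- membership in the set of plus type `m`-subspaces, spelled out -/
theorem mem_NSet_plus_iff' (m : ℕ) (hm : Even m) (W : Submodule F (ι → F)) :
    W ∈ NSet Q m 1 ↔ (finrank F W = m ∧
      (∀ u ∈ W, u ≠ 0 → ∃ v ∈ W, QuadraticMap.polar ⇑Q u v ≠ 0) ∧
      ∃ U : Submodule F (ι → F), U ≤ W ∧ 2 * finrank F U = m ∧ ∀ u ∈ U, Q u = 0) := by
  obtain ⟨n, hn⟩ := hm
  constructor
  · rintro ⟨h1, h2, h3⟩
    refine ⟨h1, (nondegOn_iff' Q W).mpr h2, ?_⟩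
    obtain ⟨U, hUW, hU0, hUf⟩ := (sgnOn_one_iff_plus Q W h2 n (by omega)).mp h3
    exact ⟨U, hUW, by omega, hU0⟩
  · rintro ⟨h1, h2, U, hUW, hUf, hU0⟩
    have h2' := (nondegOn_iff' Q W).mp h2
    exact ⟨h1, h2', (sgnOn_one_iff_plus Q W h2' n (by omega)).mpr ⟨U, hUW, hU0, by omega⟩⟩

end translate

end Cfsg.Agent.Lib.Helper6.OrtS
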