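import Mathlib
import Cfsg.Agent.Lib.Helper6.AutOrt29

/-!
# Group theory for outer automorphism groups: recognising `D₈ × C_f`
-/

set_option autoImplicit false
set_option linter.unusedSectionVars false
set_option linter.unusedVariables false
set_option linter.deprecated false

namespace Cfsg.Agent.Lib.Helper6.OutGrp

open Cfsg.Agent.Lib.Helper6.AutOrt

theorem d4_comm : ∀ g h : DihedralGroup 4,
    g * h * g⁻¹ * h⁻¹ = 1 ∨ g * h * g⁻¹ * h⁻¹ = DihedralGroup.r 2 := by decide

theorem d4_center : ∀ c : DihedralGroup 4, (∀ g, c * g = g * c) → c = 1 ∨ c = DihedralGroup.r 2 := by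
  decide

/-- a split extension with a generator centralising the kernel is a direct product -/
theorem nonempty_mulEquiv_ker_prod {G A : Type*} [Group G] [Group A] [Finite G] {f n : ℕ}
    (hf : 1 ≤ f) (hcard : Nat.card G = n * f) (ψ : G →* A) (y : G)
    (hord : orderOf (ψ y) = f) (hyf : y ^ f = 1) (hK : Nat.card ψ.ker = n)
    (hcent : ∀ k ∈ ψ.ker, y * k = k * y) :
    Nonempty (G ≃* ↥ψ.ker × Multiplicative (ZMod f)) := by
  have hordy : orderOf y = f := by
    apply Nat.dvd_antisymm
    · exact orderOf_dvd_of_pow_eq_one hyf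
    · rw [← hord]
      exact orderOf_map_dvd ψ y
  have hcomm : ∀ h ∈ ψ.ker, ∀ k ∈ Subgroup.zpowers y, h * k = k * h := by
    intro h hh k hk
    obtain ⟨j, rfl⟩ := Subgroup.mem_zpowers_iff.mp hk
    have : Commute y h := hcent h hh
    exact ((this.zpow_left j).eq).symm
  have hdisj : ∀ g, g ∈ ψ.ker → g ∈ Subgroup.zpowers y → g = 1 := by
    intro g hg hgy
    obtain ⟨j, rfl⟩ := Subgroup.mem_zpowers_iff.mp hgy
    rw [MonoidHom.mem_ker, map_zpow] at hg
    have h1 : (orderOf (ψ y) : ℤ) ∣ j := orderOf_dvd_iff_zpow_eq_one.mpr hg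
    rw [hord, ← hordy] at h1
    exact orderOf_dvd_iff_zpow_eq_one.mp h1
  obtain ⟨e1⟩ := nonempty_mulEquiv_prod ψ.ker (Subgroup.zpowers y) hcomm hdisj (by
    rw [hcard, hK, Nat.card_zpowers, hordy])
  obtain ⟨e2⟩ := nonempty_zpowers_mulEquiv y f hordy
  exact ⟨e1.trans (MulEquiv.prodCongr (MulEquiv.refl _) e2)⟩

/-- recognising `D₈ × C_f`: the kernel is dihedral of order eight, the generator of the complement
centralises a non-central involution and moves the other elements by at most a fixed involution -/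
theorem nonempty_mulEquiv_D4_prod {G A : Type*} [Group G] [Group A] [Finite G] {f : ℕ}
    (hf : 1 ≤ f) (hcard : Nat.card G = 8 * f) (ψ : G →* A) (x u z : G)
    (hord : orderOf (ψ x) = f) (hxf : x ^ f = 1) (e : ↥ψ.ker ≃* DihedralGroup 4)
    (hu : u ∈ ψ.ker) (hz : z ∈ ψ.ker) (hu2 : u * u = 1) (hz2 : z * z = 1) (hu1 : u ≠ 1)
    (huz : u ≠ z) (hz1 : z ≠ 1) (hxu : x * u = u * x)
    (hxk : ∀ k ∈ ψ.ker, x * k * x⁻¹ * k⁻¹ = 1 ∨ x * k * x⁻¹ * k⁻¹ = z) :
    Nonempty (G ≃* DihedralGroup 4 × Multiplicative (ZMod f)) := by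
  classical
  have hK8 : Nat.card ψ.ker = 8 := by
    rw [Nat.card_congr e.toEquiv, Nat.card_eq_fintype_card, DihedralGroup.card]
  -- it suffices to find a generator of a complement centralising the kernel
  suffices hy : ∃ y : G, ψ y = ψ x ∧ y ^ f = 1 ∧ ∀ k ∈ ψ.ker, y * k = k * y by
    obtain ⟨y, hy1, hy2, hy3⟩ := hy
    obtain ⟨e1⟩ := nonempty_mulEquiv_ker_prod hf hcard ψ y (by rw [hy1]; exact hord) hy2 hK8 hy3
    exact ⟨e1.trans (MulEquiv.prodCongr e (MulEquiv.refl _))⟩
  set α : MulAut ↥ψ.ker := MulAut.conjNormal x with hα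
  have hαv : ∀ k : ↥ψ.ker, ((α k : ↥ψ.ker) : G) = x * k * x⁻¹ := fun k =>
    MulAut.conjNormal_apply x k
  set uK : ↥ψ.ker := ⟨u, hu⟩ with huK
  set zK : ↥ψ.ker := ⟨z, hz⟩ with hzK
  have hzK2 : zK * zK = 1 := Subtype.ext hz2
  have huK2 : uK * uK = 1 := Subtype.ext hu2
  have hzK1 : zK ≠ 1 := fun h => hz1 (congrArg Subtype.val h)
  have hzKinv : zK⁻¹ = zK := inv_eq_of_mul_eq_one_right hzK2
  have huKinv : uK⁻¹ = uK := inv_eq_of_mul_eq_one_right huK2
  have B1 : ∀ k : ↥ψ.ker, α k = k ∨ α k = zK * k := by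
    intro k
    rcases hxk k k.2 with h | h
    · left
      apply Subtype.ext
      rw [hαv]
      exact mul_inv_eq_one.mp h
    · right
      apply Subtype.ext
      rw [hαv]
      exact mul_inv_eq_iff_eq_mul.mp h
  by_cases hall : ∀ k : ↥ψ.ker, α k = k
  · refine ⟨x, rfl, hxf, ?_⟩
    intro k hk
    have h1 := congrArg Subtype.val (hall ⟨k, hk⟩)
    rw [hαv] at h1
    exact mul_inv_eq_iff_eq_mul.mp h1
  push Not at hall
  obtain ⟨k₀, hk₀⟩ := hall
  have hαk₀ : α k₀ = zK * k₀ := (B1 k₀).resolve_left hk₀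
  -- the involution is central
  have B2a : ∀ k : ↥ψ.ker, α k = zK * k → k * zK = zK * k := by
    intro k hk
    have h1 : α (k * k) = zK * k * (zK * k) := by rw [map_mul, hk]
    rcases B1 (k * k) with h2 | h2
    · rw [h1] at h2
      have h3 : zK * k * zK = k := by
        have := congrArg (fun t => t * k⁻¹) h2
        simpa [mul_assoc] using this
      calc k * zK = (zK * zK) * k * zK := by rw [hzK2, one_mul]
        _ = zK * (zK * k * zK) := by simp only [mul_assoc]
        _ = zK * k := by rw [h3]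
    · exfalso
      rw [h1] at h2
      apply hzK1
      have h3 : zK * k = k := by
        have := congrArg (fun t => (zK * k)⁻¹ * t) h2
        simpa [mul_assoc] using this
      have := congrArg (fun t => t * k⁻¹) h3
      simpa [mul_assoc] using this
  have B2 : ∀ k : ↥ψ.ker, k * zK = zK * k := by
    intro k
    rcases B1 k with h | h
    · have h1 : α (k * k₀) = k * (zK * k₀) := by rw [map_mul, h, hαk₀]
      rcases B1 (k * k₀) with h2 | h2
      · exfalso
        rw [h1] at h2
        apply hzK1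
        have := congrArg (fun t => k⁻¹ * t * k₀⁻¹) h2
        simpa [mul_assoc] using this
      · rw [h1] at h2
        have := congrArg (fun t => t * k₀⁻¹) h2
        simpa [mul_assoc] using this
    · exact B2a k h
  have B3z : α zK = zK := by
    rcases B1 zK with h | h
    · exact h
    · exfalso
      rw [hzK2] at h
      apply hzK1
      exact (map_eq_one_iff α α.injective).mp h
  have B3u : α uK = uK := by
    apply Subtype.ext
    rw [hαv]
    change x * u * x⁻¹ = u
    rw [hxu, mul_inv_cancel_right]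
  -- the fixed points
  set Fix : Subgroup ↥ψ.ker :=
    { carrier := {k | α k = k}
      one_mem' := map_one α
      mul_mem' := by
        intro a b ha hb
        change α (a * b) = a * b
        rw [map_mul, ha, hb]
      inv_mem' := by
        intro a ha
        change α a⁻¹ = a⁻¹
        rw [map_inv, ha] } with hFix
  have hmemFix : ∀ k, k ∈ Fix ↔ α k = k := fun k => Iff.rfl
  have hidx : Fix.index = 2 := by
    rw [Subgroup.index_eq_two_iff]
    refine ⟨k₀⁻¹, ?_⟩
    intro b
    rw [hmemFix, hmemFix]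
    rcases B1 b with h | h
    · right
      refine ⟨h, ?_⟩
      intro h1
      rw [map_mul, h, map_inv, hαk₀] at h1
      apply hzK1
      have h2 : zK * k₀ = k₀ := inv_injective (mul_left_cancel h1)
      have := congrArg (fun t => t * k₀⁻¹) h2
      simpa [mul_assoc] using this
    · left
      refine ⟨?_, ?_⟩
      · rw [map_mul, h, map_inv, hαk₀, _root_.mul_inv_rev, hzKinv]
        calc zK * b * (k₀⁻¹ * zK) = zK * (b * k₀⁻¹ * zK) := by simp only [mul_assoc]
          _ = zK * (zK * (b * k₀⁻¹)) := by rw [B2]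
          _ = b * k₀⁻¹ := by rw [← mul_assoc, hzK2, one_mul]
      · intro h1
        rw [h1] at h
        apply hzK1
        have := congrArg (fun t => t * b⁻¹) h
        simpa [mul_assoc] using this.symm
  have hcardFix : Nat.card Fix = 4 := by
    have h1 := Subgroup.card_mul_index Fix
    rw [hidx, hK8] at h1
    omega
  haveI : Fact (Nat.Prime 2) := ⟨Nat.prime_two⟩
  have hFixcomm : ∀ a b : ↥Fix, a * b = b * a :=
    IsPGroup.commutative_of_card_eq_prime_sq (p := 2) (by rw [hcardFix]; norm_num)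
  have hFixu : ∀ k : ↥ψ.ker, α k = k → uK * k = k * uK := by
    intro k hk
    have := hFixcomm ⟨uK, B3u⟩ ⟨k, hk⟩
    exact congrArg Subtype.val this
  -- the fixed involution is not central
  have hezK : e zK = DihedralGroup.r 2 := by
    rcases d4_center (e zK) (by
      intro g
      obtain ⟨k, rfl⟩ := e.surjective g
      rw [← map_mul, ← map_mul, ← B2]) with h | h
    · exfalso
      apply hzK1
      exact (map_eq_one_iff e e.injective).mp h
    · exact h
  have hunc : ∃ k₁ : ↥ψ.ker, uK * k₁ ≠ k₁ * uK := by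
    by_contra hcon
    push Not at hcon
    rcases d4_center (e uK) (by
      intro g
      obtain ⟨k, rfl⟩ := e.surjective g
      rw [← map_mul, ← map_mul, hcon]) with h | h
    · apply hu1
      have := (map_eq_one_iff e e.injective).mp h
      exact congrArg Subtype.val this
    · apply huz
      have : uK = zK := e.injective (h.trans hezK.symm)
      exact congrArg Subtype.val this
  obtain ⟨k₁, hk₁⟩ := hunc
  have hαk₁ : α k₁ = zK * k₁ := by
    rcases B1 k₁ with h | h
    · exact absurd (hFixu k₁ h) hk₁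
    · exact h
  have hcomm1 : uK * k₁ * uK⁻¹ = zK * k₁ := by
    rcases d4_comm (e uK) (e k₁) with h | h
    · exfalso
      apply hk₁
      rw [← map_inv, ← map_inv, ← map_mul, ← map_mul, ← map_mul] at h
      have h1 := (map_eq_one_iff e e.injective).mp h
      have h2 := mul_inv_eq_one.mp h1
      exact mul_inv_eq_iff_eq_mul.mp h2
    · rw [← map_inv, ← map_inv, ← map_mul, ← map_mul, ← map_mul, ← hezK] at h
      have h1 := e.injective h
      exact mul_inv_eq_iff_eq_mul.mp h1
  -- `f` is even
  have hpow : ∀ j : ℕ, (α ^ j) k₁ = zK ^ j * k₁ := by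
    intro j
    induction j with
    | zero => simp
    | succ j ih =>
      rw [pow_succ', MulAut.mul_apply, ih, map_mul, map_pow, B3z, hαk₁, pow_succ, mul_assoc]
  have hαf : α ^ f = 1 := by
    rw [hα, ← map_pow, hxf, map_one]
  have hzf : zK ^ f = 1 := by
    have := hpow f
    rw [hαf, MulAut.one_apply] at this
    have h1 := congrArg (fun t => t * k₁⁻¹) this
    simpa [mul_assoc] using h1.symm
  have hordz : orderOf zK = 2 := orderOf_eq_prime (by rw [pow_two]; exact hzK2) hzK1
  have hfeven : 2 ∣ f := by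
    rw [← hordz]
    exact orderOf_dvd_of_pow_eq_one hzf
  -- the new generator
  refine ⟨u * x, ?_, ?_, ?_⟩
  · rw [map_mul, MonoidHom.mem_ker.mp hu, one_mul]
  · have hc : Commute u x := hxu.symm
    rw [hc.mul_pow, hxf, mul_one]
    obtain ⟨t, rfl⟩ := hfeven
    rw [pow_mul, pow_two, hu2, one_pow]
  · intro k hk
    set kK : ↥ψ.ker := ⟨k, hk⟩ with hkK
    have key : uK * α kK * uK⁻¹ = kK := by
      rcases B1 kK with h | h
      · rw [h, hFixu kK h, mul_inv_cancel_right]
      · -- `kK = k₁ * v` with `v` fixed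
        obtain ⟨v, hv⟩ : ∃ v : ↥ψ.ker, v = k₁⁻¹ * kK := ⟨_, rfl⟩
        have hvfix : α v = v := by
          rw [hv, map_mul, map_inv, hαk₁, h, _root_.mul_inv_rev, hzKinv]
          calc k₁⁻¹ * zK * (zK * kK) = k₁⁻¹ * ((zK * zK) * kK) := by simp only [mul_assoc]
            _ = k₁⁻¹ * kK := by rw [hzK2, one_mul]
        have hkv : kK = k₁ * v := by rw [hv, mul_inv_cancel_left]
        have h1 : uK * v * uK⁻¹ = v := by rw [hFixu v hvfix, mul_inv_cancel_right]
        rw [h, hkv]
        calc uK * (zK * (k₁ * v)) * uK⁻¹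
            = (uK * zK) * (k₁ * v) * uK⁻¹ := by simp only [mul_assoc]
          _ = (zK * uK) * (k₁ * v) * uK⁻¹ := by rw [B2 uK]
          _ = zK * (uK * k₁ * uK⁻¹) * (uK * v * uK⁻¹) := by
            simp only [mul_assoc, inv_mul_cancel_left]
          _ = zK * (zK * k₁) * v := by rw [hcomm1, h1]
          _ = k₁ * v := by rw [← mul_assoc, hzK2, one_mul]
    have key' := congrArg Subtype.val key
    rw [Subgroup.coe_mul, Subgroup.coe_mul, Subgroup.coe_inv, hαv] at key'
    change u * (x * k * x⁻¹) * u⁻¹ = k at key'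
    have : u * x * k = (u * (x * k * x⁻¹) * u⁻¹) * (u * x) := by group
    rw [this, key']

end Cfsg.Agent.Lib.Helper6.OutGrp
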