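import Mathlib

/-!
# Central products: `Ω ⧸ Z(Ω)` for a quotient `Ω` of `G × H`

If `ρ : G × H →* Ω` is onto and injective on each factor then
`Ω ⧸ Z(Ω) ≃* (G ⧸ Z(G)) × (H ⧸ Z(H))`.
-/

set_option autoImplicit false

namespace Cfsg.Agent.Lib.Helper6

theorem prod_center_equiv {G H Ω : Type*} [Group G] [Group H] [Group Ω] (ρ : G × H →* Ω)
    (hsurj : Function.Surjective ρ) (hG : ∀ g : G, ρ (g, 1) = 1 → g = 1)
    (hH : ∀ h : H, ρ (1, h) = 1 → h = 1) :
    Nonempty ((Ω ⧸ Subgroup.center Ω) ≃* (G ⧸ Subgroup.center G) × (H ⧸ Subgroup.center H)) := by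
  let f : G × H →* Ω ⧸ Subgroup.center Ω := (QuotientGroup.mk' (Subgroup.center Ω)).comp ρ
  have hf : Function.Surjective f := (QuotientGroup.mk'_surjective _).comp hsurj
  let Φ : G × H →* (G ⧸ Subgroup.center G) × (H ⧸ Subgroup.center H) :=
    (QuotientGroup.mk' (Subgroup.center G)).prodMap (QuotientGroup.mk' (Subgroup.center H))
  have hΦ : Function.Surjective Φ := by
    rintro ⟨a, b⟩
    obtain ⟨g, rfl⟩ := QuotientGroup.mk'_surjective _ a
    obtain ⟨h, rfl⟩ := QuotientGroup.mk'_surjective _ b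
    exact ⟨(g, h), rfl⟩
  have hmemf : ∀ x : G × H, x ∈ f.ker ↔ ρ x ∈ Subgroup.center Ω := by
    intro x
    rw [MonoidHom.mem_ker]
    change ((ρ x : Ω) : Ω ⧸ Subgroup.center Ω) = 1 ↔ _
    rw [QuotientGroup.eq_one_iff]
  have hmemΦ : ∀ x : G × H, x ∈ Φ.ker ↔ x.1 ∈ Subgroup.center G ∧ x.2 ∈ Subgroup.center H := by
    intro x
    rw [MonoidHom.mem_ker]
    change (((x.1 : G) : G ⧸ Subgroup.center G), ((x.2 : H) : H ⧸ Subgroup.center H)) = 1 ↔ _
    rw [Prod.ext_iff]
    change ((x.1 : G) : G ⧸ Subgroup.center G) = 1 ∧ ((x.2 : H) : H ⧸ Subgroup.center H) = 1 ↔ _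
    rw [QuotientGroup.eq_one_iff, QuotientGroup.eq_one_iff]
  have hk : f.ker = Φ.ker := by
    ext x
    rw [hmemf, hmemΦ]
    constructor
    · intro hx
      rw [Subgroup.mem_center_iff] at hx
      constructor
      · rw [Subgroup.mem_center_iff]
        intro g'
        have h1 := hx (ρ (g', 1))
        rw [← map_mul, ← map_mul] at h1
        have h2 : ρ ((g' * x.1) * (x.1 * g')⁻¹, 1) = 1 := by
          have e : ((g' * x.1) * (x.1 * g')⁻¹, (1 : H)) = ((g', 1) * x) * (x * (g', 1))⁻¹ := by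
            ext <;> simp
          rw [e, map_mul, map_inv, h1, mul_inv_cancel]
        have := hG _ h2
        exact mul_inv_eq_one.mp this
      · rw [Subgroup.mem_center_iff]
        intro h'
        have h1 := hx (ρ (1, h'))
        rw [← map_mul, ← map_mul] at h1
        have h2 : ρ (1, (h' * x.2) * (x.2 * h')⁻¹) = 1 := by
          have e : ((1 : G), (h' * x.2) * (x.2 * h')⁻¹) = ((1, h') * x) * (x * (1, h'))⁻¹ := by
            ext <;> simp
          rw [e, map_mul, map_inv, h1, mul_inv_cancel]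
        have := hH _ h2
        exact mul_inv_eq_one.mp this
    · rintro ⟨h1, h2⟩
      rw [Subgroup.mem_center_iff] at h1 h2 ⊢
      intro y
      obtain ⟨z, rfl⟩ := hsurj y
      rw [← map_mul, ← map_mul]
      congr 1
      ext
      · exact h1 z.1
      · exact h2 z.2
  have e1 : ((G × H) ⧸ f.ker) ≃* (Ω ⧸ Subgroup.center Ω) :=
    QuotientGroup.quotientKerEquivOfSurjective f hf
  have e2 : ((G × H) ⧸ Φ.ker) ≃* (G ⧸ Subgroup.center G) × (H ⧸ Subgroup.center H) :=
    QuotientGroup.quotientKerEquivOfSurjective Φ hΦ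
  have e3 : ((G × H) ⧸ f.ker) ≃* ((G × H) ⧸ Φ.ker) := QuotientGroup.quotientMulEquivOfEq hk
  exact ⟨(e1.symm.trans e3).trans e2⟩

end Cfsg.Agent.Lib.Helper6
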