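import Mathlib
import Cfsg.Agent.Lib.Helper6.CentRing2
import Cfsg.Agent.Lib.Helper2.RankFive

/-!
# Rank three permutation groups: eigenvalues of the orbital matrices

* `eop_comp_eop` : orthogonality of the operators `eop`;
* `trace_eop` : their traces;
-/

set_option autoImplicit false
set_option linter.unusedSectionVars false
set_option linter.unusedVariables false
set_option linter.style.haveILetI false

namespace Cfsg.Agent.Lib.Helper6.CentRing

open Cfsg Module Cfsg.Agent.Lib.Helper2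
open scoped ComplexConjugate

section eopalg
variable {G : Type*} [Group G] [Fintype G] {Ω : Type*} [Fintype Ω] [MulAction G Ω]

/-- product of two `repSum`s: convolution -/
theorem repSum_comp_repSum {V : Type*} [AddCommGroup V] [Module ℂ V]
    (ρ : Representation ℂ G V) (c d : G → ℂ) :
    repSum ρ c ∘ₗ repSum ρ d = repSum ρ (fun h => ∑ g : G, c g * d (g⁻¹ * h)) := by
  unfold repSum
  rw [← Module.End.mul_eq_comp, Finset.sum_mul]
  simp_rw [Finset.mul_sum, Finset.sum_smul]
  rw [Finset.sum_comm (s := (Finset.univ : Finset G)) (t := (Finset.univ : Finset G))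
    (f := fun h g => (c g * d (g⁻¹ * h)) • ρ h)]
  apply Finset.sum_congr rfl
  intro g _
  rw [← Equiv.sum_comp (Equiv.mulLeft g) (fun h => (c g * d (g⁻¹ * h)) • ρ h)]
  apply Finset.sum_congr rfl
  intro k _
  rw [Equiv.coe_mulLeft, inv_mul_cancel_left, smul_mul_smul_comm, map_mul]

/-- **orthogonality of the operators `eop`** -/
theorem eop_comp_eop (χ ψ : Cfsg.IrrCharacter G) :
    eop Ω χ ∘ₗ eop Ω ψ =
      if χ = ψ then ((Nat.card G : ℂ) / (χ : G → ℂ) 1) • eop Ω χ else 0 := by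
  classical
  unfold eop
  rw [repSum_comp_repSum]
  have h1 : ∀ h : G, ∑ g : G, conj ((χ : G → ℂ) g) * conj ((ψ : G → ℂ) (g⁻¹ * h)) =
      if χ = ψ then (Nat.card G : ℂ) / (χ : G → ℂ) 1 * conj ((χ : G → ℂ) h) else 0 := by
    intro h
    have h2 := Cfsg.Agent.Lib.Helper25.sum_char_mul_char_inv ψ.2 χ.2 h⁻¹
    have h3 : ∀ g : G, conj ((χ : G → ℂ) g) * conj ((ψ : G → ℂ) (g⁻¹ * h)) =
        (ψ : G → ℂ) (h⁻¹ * g) * (χ : G → ℂ) g⁻¹ := by
      intro g
      rw [← IrrCharacter.apply_inv χ g, ← IrrCharacter.apply_inv ψ (g⁻¹ * h), mul_inv_rev, inv_inv,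
        mul_comm]
    rw [Finset.sum_congr rfl (fun g _ => h3 g), h2]
    by_cases hχψ : χ = ψ
    · subst hχψ
      rw [if_pos rfl, if_pos rfl, IrrCharacter.apply_inv χ h]
      ring
    · rw [if_neg hχψ, if_neg]
      intro hc
      exact hχψ (Subtype.ext hc.symm)
  rw [show (fun h => ∑ g : G, conj ((χ : G → ℂ) g) * conj ((ψ : G → ℂ) (g⁻¹ * h))) =
    fun h => if χ = ψ then (Nat.card G : ℂ) / (χ : G → ℂ) 1 * conj ((χ : G → ℂ) h) else 0 from
    funext h1]
  by_cases hχψ : χ = ψ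
  · simp only [if_pos hχψ]
    unfold repSum
    rw [Finset.smul_sum]
    apply Finset.sum_congr rfl
    intro g _
    rw [smul_smul]
  · simp only [if_neg hχψ]
    unfold repSum
    simp

/-- the trace of `eop` -/
theorem trace_eop [Fintype (Cfsg.IrrCharacter G)] (χ : Cfsg.IrrCharacter G) :
    LinearMap.trace ℂ (Ω → ℂ) (eop Ω χ) = (mult Ω χ : ℂ) * (Nat.card G : ℂ) := by
  have h := trace_comp_eop (Ω := Ω) (1 : G) χ
  rw [map_one, Module.End.one_eq_id, LinearMap.id_comp] at h
  rw [h]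
  have h3 : (χ : G → ℂ) 1 ≠ 0 := IsIrrCharacter.apply_one_ne_zero χ.2
  field_simp

/-- **spectral decomposition** of an element of the centraliser ring, in the multiplicity-free case -/
theorem spectral [Fintype (Cfsg.IrrCharacter G)] (hmf : ∀ χ : Cfsg.IrrCharacter G, mult Ω χ ≤ 1)
    (S : (Ω → ℂ) →ₗ[ℂ] (Ω → ℂ)) (hS : S ∈ cent G Ω) :
    ∃ θ : Cfsg.IrrCharacter G → ℂ,
      (∀ χ, S ∘ₗ eop Ω χ = θ χ • eop Ω χ) ∧
      LinearMap.trace ℂ (Ω → ℂ) S =
        ∑ χ : Cfsg.IrrCharacter G, (mult Ω χ : ℂ) * (χ : G → ℂ) 1 * θ χ ∧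
      LinearMap.trace ℂ (Ω → ℂ) (S ∘ₗ S) =
        ∑ χ : Cfsg.IrrCharacter G, (mult Ω χ : ℂ) * (χ : G → ℂ) 1 * θ χ ^ 2 := by
  classical
  have hS' := hS
  rw [cent_eq_range_Phi hmf] at hS'
  obtain ⟨c, rfl⟩ := hS'
  have hdeg : ∀ χ : Cfsg.IrrCharacter G, (χ : G → ℂ) 1 ≠ 0 :=
    fun χ => IsIrrCharacter.apply_one_ne_zero χ.2
  have hi : ∀ χ, Phi Ω c ∘ₗ eop Ω χ = (c χ * (Nat.card G : ℂ) / (χ : G → ℂ) 1) • eop Ω χ := by
    intro χ
    rw [Phi_apply, ← Module.End.mul_eq_comp, Finset.sum_mul]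
    rw [Finset.sum_eq_single χ]
    · rw [smul_mul_assoc, Module.End.mul_eq_comp, eop_comp_eop, if_pos rfl, smul_smul]
      congr 1
      ring
    · intro ψ _ hψ
      rw [smul_mul_assoc, Module.End.mul_eq_comp, eop_comp_eop, if_neg hψ, smul_zero]
    · intro h
      exact absurd (Finset.mem_univ _) h
  refine ⟨fun χ => c χ * (Nat.card G : ℂ) / (χ : G → ℂ) 1, hi, ?_, ?_⟩
  · have h := trace_comp_Phi (Ω := Ω) (1 : G) c
    rw [map_one, Module.End.one_eq_id, LinearMap.id_comp] at h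
    rw [h]
    apply Finset.sum_congr rfl
    intro χ _
    have := hdeg χ
    field_simp
  · have h1 : Phi Ω c ∘ₗ Phi Ω c = ∑ χ : Cfsg.IrrCharacter G, c χ • (Phi Ω c ∘ₗ eop Ω χ) := by
      conv_lhs => rw [Phi_apply (Ω := Ω) c]
      rw [← Module.End.mul_eq_comp, Finset.mul_sum]
      apply Finset.sum_congr rfl
      intro χ _
      rw [mul_smul_comm, Module.End.mul_eq_comp]
      rfl
    rw [h1, map_sum]
    apply Finset.sum_congr rfl
    intro χ _
    rw [hi χ, map_smul, map_smul, trace_eop, smul_eq_mul, smul_eq_mul]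
    have := hdeg χ
    field_simp

end eopalg

section orbital2
variable {G : Type*} [Group G] [Fintype G] {Ω : Type*} [Fintype Ω] [DecidableEq Ω] [MulAction G Ω]

theorem orbMat_eq_one_iff (a b x y : Ω) :
    orbMat G a b x y = 1 ↔ ∃ g : G, g • a = x ∧ g • b = y := by
  unfold orbMat
  by_cases h : ∃ g : G, g • a = x ∧ g • b = y
  · simp [h]
  · simp [h]

theorem orbMat_eq_zero_iff (a b x y : Ω) :
    orbMat G a b x y = 0 ↔ ¬ ∃ g : G, g • a = x ∧ g • b = y := by
  unfold orbMat
  by_cases h : ∃ g : G, g • a = x ∧ g • b = y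
  · simp [h]
  · simp [h]

theorem orbMat_zero_or_one (a b x y : Ω) : orbMat G a b x y = 0 ∨ orbMat G a b x y = 1 := by
  by_cases h : ∃ g : G, g • a = x ∧ g • b = y
  · exact Or.inr ((orbMat_eq_one_iff a b x y).mpr h)
  · exact Or.inl ((orbMat_eq_zero_iff a b x y).mpr h)

theorem orbMat_diag (a b : Ω) (hab : b ≠ a) (x : Ω) : orbMat G a b x x = 0 := by
  rw [orbMat_eq_zero_iff]
  rintro ⟨g, h1, h2⟩
  apply hab
  have : g • b = g • a := by rw [h1, h2]
  exact smul_left_cancel g this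

theorem orbMat_self_self (a b : Ω) : orbMat G a b a b = 1 :=
  (orbMat_eq_one_iff a b a b).mpr ⟨1, one_smul _ _, one_smul _ _⟩

/-- the orbital matrix only depends on the suborbit -/
theorem orbMat_congr (a b b' : Ω) (h : ∃ k : G, k • a = a ∧ k • b = b') :
    orbMat G a b' = orbMat G a b := by
  obtain ⟨k, hk1, hk2⟩ := h
  ext x y
  unfold orbMat
  congr 1
  apply propext
  constructor
  · rintro ⟨g, h1, h2⟩
    refine ⟨g * k, ?_, ?_⟩
    · rw [mul_smul, hk1, h1]
    · rw [mul_smul, hk2, h2]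
  · rintro ⟨g, h1, h2⟩
    refine ⟨g * k⁻¹, ?_, ?_⟩
    · rw [mul_smul, ← h1]
      congr 1
      rw [inv_smul_eq_iff, hk1]
    · rw [mul_smul, ← h2]
      congr 1
      rw [inv_smul_eq_iff, hk2]

/-- the transposed orbital -/
theorem orbMat_transpose (a b : Ω) (g₀ : G) (hg₀ : g₀ • a = b) :
    (orbMat G a b).transpose = orbMat G a (g₀⁻¹ • a) := by
  ext x y
  rw [Matrix.transpose_apply]
  unfold orbMat
  congr 1
  apply propext
  constructor
  · rintro ⟨g, h1, h2⟩
    refine ⟨g * g₀, ?_, ?_⟩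
    · rw [mul_smul, hg₀, h2]
    · rw [mul_smul, smul_inv_smul, h1]
  · rintro ⟨g, h1, h2⟩
    refine ⟨g * g₀⁻¹, ?_, ?_⟩
    · rw [mul_smul, h2]
    · rw [mul_smul, ← hg₀, inv_smul_smul, h1]

/-- row sums -/
theorem orbMat_row_sum [MulAction.IsPretransitive G Ω] (a b x : Ω) :
    ∑ y : Ω, orbMat G a b x y = (Nat.card (MulAction.orbit (MulAction.stabilizer G a) b) : ℂ) := by
  classical
  obtain ⟨g, rfl⟩ := MulAction.exists_smul_eq G a x
  rw [← Equiv.sum_comp (MulAction.toPerm g) (fun y => orbMat G a b (g • a) y)]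
  simp only [MulAction.toPerm_apply, orbMat_smul]
  have h1 : ∀ y : Ω, orbMat G a b a y =
      if y ∈ MulAction.orbit (MulAction.stabilizer G a) b then 1 else 0 := by
    intro y
    by_cases hy : y ∈ MulAction.orbit (MulAction.stabilizer G a) b
    · rw [if_pos hy, orbMat_eq_one_iff]
      exact (Subdeg.mem_orbit_stab_iff a b y).mp hy
    · rw [if_neg hy, orbMat_eq_zero_iff]
      intro h
      exact hy ((Subdeg.mem_orbit_stab_iff a b y).mpr h)
  rw [Finset.sum_congr rfl (fun y _ => h1 y), Finset.sum_boole, Nat.card_eq_fintype_card,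
    Fintype.card_subtype]

/-- column sums -/
theorem orbMat_col_sum [MulAction.IsPretransitive G Ω] (a b y : Ω) :
    ∑ x : Ω, orbMat G a b x y = (Nat.card (MulAction.orbit (MulAction.stabilizer G a) b) : ℂ) := by
  classical
  have hconst : ∀ y' : Ω, ∑ x : Ω, orbMat G a b x y' = ∑ x : Ω, orbMat G a b x y := by
    intro y'
    obtain ⟨g, rfl⟩ := MulAction.exists_smul_eq G y y'
    rw [← Equiv.sum_comp (MulAction.toPerm g) (fun x => orbMat G a b x (g • y))]
    simp only [MulAction.toPerm_apply, orbMat_smul]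
  have h1 : ∑ y' : Ω, ∑ x : Ω, orbMat G a b x y' =
      (Fintype.card Ω : ℂ) * ∑ x : Ω, orbMat G a b x y := by
    rw [Finset.sum_congr rfl (fun y' _ => hconst y'), Finset.sum_const, Finset.card_univ,
      nsmul_eq_mul]
  have h2 : ∑ y' : Ω, ∑ x : Ω, orbMat G a b x y' =
      (Fintype.card Ω : ℂ) * (Nat.card (MulAction.orbit (MulAction.stabilizer G a) b) : ℂ) := by
    rw [Finset.sum_comm, Finset.sum_congr rfl (fun x _ => orbMat_row_sum a b x), Finset.sum_const,
      Finset.card_univ, nsmul_eq_mul]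
  have hne : (Fintype.card Ω : ℂ) ≠ 0 := by
    have : Nonempty Ω := ⟨a⟩
    exact_mod_cast Fintype.card_ne_zero
  rw [h1] at h2
  exact mul_left_cancel₀ hne h2

/-- the square of an orbital matrix is invariant -/
theorem orbMat_sq_smul (a b : Ω) (g : G) (x y : Ω) :
    (orbMat G a b * orbMat G a b) (g • x) (g • y) = (orbMat G a b * orbMat G a b) x y := by
  rw [Matrix.mul_apply, Matrix.mul_apply,
    ← Equiv.sum_comp (MulAction.toPerm g) (fun z => orbMat G a b (g • x) z * orbMat G a b z (g • y))]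
  simp only [MulAction.toPerm_apply, orbMat_smul]

/-- the entries of the square are natural numbers -/
theorem orbMat_sq_nat (a b x y : Ω) :
    ∃ n : ℕ, (orbMat G a b * orbMat G a b) x y = (n : ℂ) := by
  classical
  rw [Matrix.mul_apply]
  have h1 : ∀ z : Ω, orbMat G a b x z * orbMat G a b z y =
      if (orbMat G a b x z = 1 ∧ orbMat G a b z y = 1) then 1 else 0 := by
    intro z
    rcases orbMat_zero_or_one (G := G) a b x z with h | h <;>
      rcases orbMat_zero_or_one (G := G) a b z y with h' | h' <;> simp [h, h']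
  rw [Finset.sum_congr rfl (fun z _ => h1 z), Finset.sum_boole]
  exact ⟨_, rfl⟩

/-- the structure of a rank three action around a point -/
theorem three_orbits (a b : Ω) (hb : b ≠ a)
    (hrank : Nat.card (MulAction.orbitRel.Quotient (MulAction.stabilizer G a) Ω) = 3) :
    ∃ c : Ω, c ≠ a ∧ c ∉ MulAction.orbit (MulAction.stabilizer G a) b ∧
      (∀ y : Ω, y = a ∨ y ∈ MulAction.orbit (MulAction.stabilizer G a) b ∨
        y ∈ MulAction.orbit (MulAction.stabilizer G a) c) ∧
      Fintype.card Ω = 1 + Nat.card (MulAction.orbit (MulAction.stabilizer G a) b) +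
        Nat.card (MulAction.orbit (MulAction.stabilizer G a) c) := by
  classical
  haveI : Fintype (MulAction.orbitRel.Quotient (MulAction.stabilizer G a) Ω) := Fintype.ofFinite _
  set qa : MulAction.orbitRel.Quotient (MulAction.stabilizer G a) Ω := Quotient.mk'' a with hqa
  set qb : MulAction.orbitRel.Quotient (MulAction.stabilizer G a) Ω := Quotient.mk'' b with hqb
  have hab : qb ≠ qa := RankFive.mk_ne_of_ne a b hb
  rw [Nat.card_eq_fintype_card] at hrank
  obtain ⟨qc, hca, hcb⟩ : ∃ qc : MulAction.orbitRel.Quotient (MulAction.stabilizer G a) Ω,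
      qc ≠ qa ∧ qc ≠ qb := by
    by_contra hcon
    push Not at hcon
    have hsub : (Finset.univ : Finset (MulAction.orbitRel.Quotient (MulAction.stabilizer G a) Ω))
        ⊆ {qa, qb} := by
      intro q _
      simp only [Finset.mem_insert, Finset.mem_singleton]
      by_cases h : q = qa
      · exact Or.inl h
      · exact Or.inr (hcon q h)
    have := Finset.card_le_card hsub
    rw [Finset.card_univ, hrank] at this
    have h2 : ({qa, qb} : Finset _).card ≤ 2 := Finset.card_le_two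
    omega
  have huniv : (Finset.univ : Finset (MulAction.orbitRel.Quotient (MulAction.stabilizer G a) Ω))
      = {qa, qb, qc} := by
    symm
    apply Finset.eq_univ_of_card
    rw [hrank, Finset.card_insert_of_notMem, Finset.card_insert_of_notMem, Finset.card_singleton]
    · simp only [Finset.mem_singleton]
      exact fun h => hcb h.symm
    · simp only [Finset.mem_insert, Finset.mem_singleton, not_or]
      exact ⟨fun h => hab h.symm, fun h => hca h.symm⟩
  obtain ⟨c, hc⟩ : ∃ c : Ω, (Quotient.mk'' c : MulAction.orbitRel.Quotient _ Ω) = qc :=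
    ⟨qc.out, Quotient.out_eq' qc⟩
  have hmem : ∀ x y : Ω,
      (Quotient.mk'' y : MulAction.orbitRel.Quotient (MulAction.stabilizer G a) Ω) = Quotient.mk'' x ↔
        y ∈ MulAction.orbit (MulAction.stabilizer G a) x := by
    intro x y
    rw [Quotient.eq'']
    rfl
  refine ⟨c, ?_, ?_, ?_, ?_⟩
  · rintro rfl
    exact hca hc.symm
  · intro h
    apply hcb
    rw [← hc]
    exact (hmem b c).mpr h
  · intro y
    have hy : (Quotient.mk'' y : MulAction.orbitRel.Quotient (MulAction.stabilizer G a) Ω) ∈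
        (Finset.univ : Finset _) := Finset.mem_univ _
    rw [huniv] at hy
    simp only [Finset.mem_insert, Finset.mem_singleton] at hy
    rcases hy with hy | hy | hy
    · left
      have := (hmem a y).mp hy
      rw [RankFive.orbit_stab_self] at this
      exact this
    · right; left
      exact (hmem b y).mp hy
    · right; right
      rw [← hc] at hy
      exact (hmem c y).mp hy
  · have h1 := RankFive.card_eq_sum_orbits (Ω := Ω) (MulAction.stabilizer G a)
    rw [Nat.card_eq_fintype_card, huniv, Finset.sum_insert, Finset.sum_insert,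
      Finset.sum_singleton] at h1
    · rw [h1, hqa, hqb, ← hc, MulAction.orbitRel.Quotient.orbit_mk,
        MulAction.orbitRel.Quotient.orbit_mk, MulAction.orbitRel.Quotient.orbit_mk,
        RankFive.orbit_stab_self]
      simp
      ring
    · simp only [Finset.mem_singleton]
      exact fun h => hcb h.symm
    · simp only [Finset.mem_insert, Finset.mem_singleton, not_or]
      exact ⟨fun h => hab h.symm, fun h => hca h.symm⟩

/-- in a primitive action, a point stabiliser fixing a second point acts trivially -/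
theorem prim_stab_fix [MulAction.IsPreprimitive G Ω] (a b : Ω) (hb : b ≠ a)
    (hfix : ∀ h : G, h • a = a → h • b = b) (h : G) (ha : h • a = a) (x : Ω) : h • x = x := by
  haveI : Nontrivial Ω := ⟨⟨b, a, hb⟩⟩
  have hco : IsCoatom (MulAction.stabilizer G a) :=
    MulAction.IsPreprimitive.isCoatom_stabilizer_of_isPreprimitive (G := G) a
  have hle : MulAction.stabilizer G a ≤ MulAction.stabilizer G b := by
    intro k hk
    exact hfix k hk
  have heq : MulAction.stabilizer G b = MulAction.stabilizer G a := by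
    by_contra hne
    have hlt : MulAction.stabilizer G a < MulAction.stabilizer G b :=
      lt_of_le_of_ne hle (fun h => hne h.symm)
    have htop := hco.2 _ hlt
    obtain ⟨g, hg⟩ := MulAction.exists_smul_eq G b a
    have : g ∈ MulAction.stabilizer G b := by rw [htop]; trivial
    rw [MulAction.mem_stabilizer_iff] at this
    exact hb (this.symm.trans hg)
  obtain ⟨g, hg⟩ := MulAction.exists_smul_eq G a b
  have hnorm : g ∈ Subgroup.normalizer (MulAction.stabilizer G a : Set G) := by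
    rw [Subgroup.mem_normalizer_iff]
    intro k
    constructor
    · intro hk
      have : g * k * g⁻¹ ∈ MulAction.stabilizer G b := by
        rw [MulAction.mem_stabilizer_iff, mul_smul, mul_smul, ← hg, inv_smul_smul]
        rw [MulAction.mem_stabilizer_iff] at hk
        rw [hk]
      rwa [heq] at this
    · intro hk
      rw [← heq, MulAction.mem_stabilizer_iff, mul_smul, mul_smul, ← hg, inv_smul_smul] at hk
      rw [MulAction.mem_stabilizer_iff]
      exact smul_left_cancel g hk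
  have hgn : g ∉ MulAction.stabilizer G a := by
    intro h'
    rw [MulAction.mem_stabilizer_iff] at h'
    exact hb (hg.symm.trans h')
  have hNtop : Subgroup.normalizer (MulAction.stabilizer G a : Set G) = ⊤ := by
    apply hco.2
    apply lt_of_le_of_ne Subgroup.le_normalizer
    intro h'
    apply hgn
    rw [h']
    exact hnorm
  obtain ⟨k, rfl⟩ := MulAction.exists_smul_eq G a x
  have hk : k ∈ Subgroup.normalizer (MulAction.stabilizer G a : Set G) := by rw [hNtop]; trivial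
  have h2 : k⁻¹ * h * k ∈ MulAction.stabilizer G a := by
    have hk' : k⁻¹ ∈ Subgroup.normalizer (MulAction.stabilizer G a : Set G) := by
      rw [hNtop]; trivial
    rw [Subgroup.mem_normalizer_iff] at hk'
    have := (hk' h).mp (MulAction.mem_stabilizer_iff.mpr ha)
    rwa [inv_inv] at this
  rw [MulAction.mem_stabilizer_iff, mul_smul, mul_smul, inv_smul_eq_iff] at h2
  exact h2

/-- in a primitive rank three action of even degree, no non-trivial suborbit is a singleton -/
theorem prim_orbit_card_ne_one [MulAction.IsPreprimitive G Ω] (a b : Ω) (hb : b ≠ a)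
    (hrank : Nat.card (MulAction.orbitRel.Quotient (MulAction.stabilizer G a) Ω) = 3)
    (heven : Even (Fintype.card Ω)) :
    Nat.card (MulAction.orbit (MulAction.stabilizer G a) b) ≠ 1 := by
  classical
  intro h1
  have hfix : ∀ h : G, h • a = a → h • b = b := by
    intro h ha
    have hb' : h • b ∈ MulAction.orbit (MulAction.stabilizer G a) b :=
      (Subdeg.mem_orbit_stab_iff a b (h • b)).mpr ⟨h, ha, rfl⟩
    have hb'' : b ∈ MulAction.orbit (MulAction.stabilizer G a) b := MulAction.mem_orbit_self b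
    rw [Nat.card_eq_one_iff_unique] at h1
    obtain ⟨hs, -⟩ := h1
    have := @Subsingleton.elim _ hs ⟨h • b, hb'⟩ ⟨b, hb''⟩
    exact congrArg Subtype.val this
  obtain ⟨c, hca, hcb, hcov, hcard⟩ := three_orbits (G := G) a b hb hrank
  have hc1 : Nat.card (MulAction.orbit (MulAction.stabilizer G a) c) = 1 := by
    have : MulAction.orbit (MulAction.stabilizer G a) c = {c} := by
      ext y
      rw [Subdeg.mem_orbit_stab_iff, Set.mem_singleton_iff]
      constructor
      · rintro ⟨h, ha, rfl⟩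
        exact prim_stab_fix a b hb hfix h ha c
      · rintro rfl
        exact ⟨1, one_smul _ _, one_smul _ _⟩
    rw [this]
    simp
  rw [h1, hc1] at hcard
  rw [hcard] at heven
  exact absurd heven (by decide)

end orbital2

section decomp
variable {G : Type*} [Group G] [Fintype G] {Ω : Type*} [Fintype Ω] [DecidableEq Ω] [MulAction G Ω]
  [Fintype (Cfsg.IrrCharacter G)]

/-- multiplicities when the permutation character is `1 + χ₁ + χ₂` -/
theorem mult_of_decomp (χ₁ χ₂ : G → ℂ) (h₁ : Cfsg.IsIrrCharacter G χ₁)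
    (h₂ : Cfsg.IsIrrCharacter G χ₂) (hπ : pch G Ω = fun g => 1 + χ₁ g + χ₂ g)
    (χ : Cfsg.IrrCharacter G) :
    (mult Ω χ : ℂ) = (if (trivialIrr G) = χ then 1 else 0) +
      (if (⟨χ₁, h₁⟩ : Cfsg.IrrCharacter G) = χ then 1 else 0) +
      (if (⟨χ₂, h₂⟩ : Cfsg.IrrCharacter G) = χ then 1 else 0) := by
  classical
  rw [← mult_spec (Ω := Ω) χ, hπ]
  have hfun : (fun g => 1 + χ₁ g + χ₂ g) = ((trivialIrr G : Cfsg.IrrCharacter G) : G → ℂ) + χ₁ + χ₂ := by
    funext g
    rfl
  rw [hfun, classInner_add_left, classInner_add_left,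
    Cfsg.Agent.Lib.Helper25.irr_classInner (trivialIrr G).2 χ.2,
    Cfsg.Agent.Lib.Helper25.irr_classInner h₁ χ.2, Cfsg.Agent.Lib.Helper25.irr_classInner h₂ χ.2]
  have e0 : (((trivialIrr G : Cfsg.IrrCharacter G) : G → ℂ) = (χ : G → ℂ)) ↔ trivialIrr G = χ :=
    ⟨fun h => Subtype.ext h, fun h => congrArg Subtype.val h⟩
  have e1 : (χ₁ = (χ : G → ℂ)) ↔ (⟨χ₁, h₁⟩ : Cfsg.IrrCharacter G) = χ :=
    ⟨fun h => Subtype.ext h, fun h => congrArg Subtype.val h⟩
  have e2 : (χ₂ = (χ : G → ℂ)) ↔ (⟨χ₂, h₂⟩ : Cfsg.IrrCharacter G) = χ :=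
    ⟨fun h => Subtype.ext h, fun h => congrArg Subtype.val h⟩
  simp only [e0, e1, e2]

/-- sums weighted by the multiplicities -/
theorem sum_mult_of_decomp (χ₁ χ₂ : G → ℂ) (h₁ : Cfsg.IsIrrCharacter G χ₁)
    (h₂ : Cfsg.IsIrrCharacter G χ₂) (hπ : pch G Ω = fun g => 1 + χ₁ g + χ₂ g)
    (f : Cfsg.IrrCharacter G → ℂ) :
    ∑ χ : Cfsg.IrrCharacter G, (mult Ω χ : ℂ) * f χ =
      f (trivialIrr G) + f ⟨χ₁, h₁⟩ + f ⟨χ₂, h₂⟩ := by
  classical
  simp_rw [mult_of_decomp (Ω := Ω) χ₁ χ₂ h₁ h₂ hπ, add_mul, Finset.sum_add_distrib, ite_mul, one_mul,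
    zero_mul, Finset.sum_ite_eq, Finset.mem_univ, if_true]

/-- the all-ones matrix -/
def Jmat (Ω : Type*) : Matrix Ω Ω ℂ := Matrix.of fun _ _ => 1

theorem eop_apply (χ : Cfsg.IrrCharacter G) (f : Ω → ℂ) (x : Ω) :
    eop Ω χ f x = ∑ g : G, conj ((χ : G → ℂ) g) * f (g⁻¹ • x) := by
  unfold eop
  rw [repSum_apply, Finset.sum_apply]
  apply Finset.sum_congr rfl
  intro g _
  rw [Pi.smul_apply, smul_eq_mul, permRep_apply]

/-- `eop` of the trivial character has constant values (transitive case) -/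
theorem eop_trivial_const [MulAction.IsPretransitive G Ω] (f : Ω → ℂ) (x y : Ω) :
    eop Ω (trivialIrr G) f x = eop Ω (trivialIrr G) f y := by
  obtain ⟨h, rfl⟩ := MulAction.exists_smul_eq G x y
  rw [eop_apply, eop_apply, ← Equiv.sum_comp (Equiv.mulLeft h)
    (fun g => conj (((trivialIrr G : Cfsg.IrrCharacter G) : G → ℂ) g) * f (g⁻¹ • h • x))]
  apply Finset.sum_congr rfl
  intro g _
  rw [Equiv.coe_mulLeft, mul_inv_rev, mul_smul, inv_smul_smul]
  rfl

/-- the orbital matrix acts on the trivial component by the subdegree -/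
theorem orbMat_comp_eop_trivial [MulAction.IsPretransitive G Ω] (a b : Ω) :
    Matrix.toLin' (orbMat G a b) ∘ₗ eop Ω (trivialIrr G) =
      (Nat.card (MulAction.orbit (MulAction.stabilizer G a) b) : ℂ) • eop Ω (trivialIrr G) := by
  apply LinearMap.ext
  intro f
  funext x
  rw [LinearMap.comp_apply, Matrix.toLin'_apply, Matrix.mulVec, dotProduct, LinearMap.smul_apply,
    Pi.smul_apply, smul_eq_mul, ← orbMat_row_sum (G := G) a b x, Finset.sum_mul]
  apply Finset.sum_congr rfl
  intro y _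
  rw [eop_trivial_const f y x]

/-- the all-ones matrix kills the non-trivial components -/
theorem Jmat_comp_eop (χ : Cfsg.IrrCharacter G) (hχ : trivialIrr G ≠ χ) :
    Matrix.toLin' (Jmat Ω) ∘ₗ eop Ω χ = 0 := by
  classical
  apply LinearMap.ext
  intro f
  funext x
  rw [LinearMap.comp_apply, Matrix.toLin'_apply, Matrix.mulVec, dotProduct]
  simp only [Jmat, Matrix.of_apply, one_mul, LinearMap.zero_apply, Pi.zero_apply, eop_apply]
  rw [Finset.sum_comm]
  have h1 : ∀ g : G, ∑ y : Ω, conj ((χ : G → ℂ) g) * f (g⁻¹ • y) =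
      conj ((χ : G → ℂ) g) * ∑ y : Ω, f y := by
    intro g
    rw [← Finset.mul_sum]
    congr 1
    exact Equiv.sum_comp (MulAction.toPerm g⁻¹) f
  rw [Finset.sum_congr rfl (fun g _ => h1 g), ← Finset.sum_mul]
  have h2 : ∑ g : G, conj ((χ : G → ℂ) g) = 0 := by
    have h3 := Cfsg.Agent.Lib.Helper25.irr_classInner (trivialIrr G).2 χ.2
    rw [if_neg (fun h => hχ (Subtype.ext h)), classInner_def] at h3
    have h4 : (Nat.card G : ℂ)⁻¹ ≠ 0 := inv_ne_zero card_ne_zero_complex
    have h5 := (mul_eq_zero.mp h3).resolve_left h4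
    rw [← h5]
    apply Finset.sum_congr rfl
    intro g _
    change _ = (1 : ℂ) * _
    rw [one_mul]
  rw [h2, zero_mul]

/-- `eop` of a constituent is non-zero -/
theorem eop_ne_zero (χ : Cfsg.IrrCharacter G) (hχ : mult Ω χ ≠ 0) : eop Ω χ ≠ 0 := by
  intro h
  have h1 := trace_eop (Ω := Ω) χ
  rw [h, map_zero] at h1
  have h2 : (Nat.card G : ℂ) ≠ 0 := card_ne_zero_complex
  have h3 : (mult Ω χ : ℂ) ≠ 0 := by exact_mod_cast hχ
  exact mul_ne_zero h3 h2 h1.symm

/-- the quadratic relation satisfied by an orbital matrix of a rank three action -/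
theorem orbMat_sq_eq [MulAction.IsPretransitive G Ω] (a b c : Ω) (hb : b ≠ a) (hca : c ≠ a)
    (hcb : c ∉ MulAction.orbit (MulAction.stabilizer G a) b)
    (hcov : ∀ y : Ω, y = a ∨ y ∈ MulAction.orbit (MulAction.stabilizer G a) b ∨
        y ∈ MulAction.orbit (MulAction.stabilizer G a) c) :
    orbMat G a b * orbMat G a b =
      ((orbMat G a b * orbMat G a b) a c) • Jmat Ω +
      ((orbMat G a b * orbMat G a b) a a - (orbMat G a b * orbMat G a b) a c) • (1 : Matrix Ω Ω ℂ) +
      ((orbMat G a b * orbMat G a b) a b - (orbMat G a b * orbMat G a b) a c) • orbMat G a b := by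
  ext x y
  obtain ⟨g, rfl⟩ := MulAction.exists_smul_eq G a x
  obtain ⟨y', rfl⟩ : ∃ y', g • y' = y := ⟨g⁻¹ • y, smul_inv_smul g y⟩
  rw [orbMat_sq_smul]
  simp only [Matrix.add_apply, Matrix.smul_apply, smul_eq_mul, Jmat, Matrix.of_apply, mul_one,
    orbMat_smul, Matrix.one_apply, smul_left_cancel_iff]
  rcases hcov y' with h | hy | hy
  · rw [h, if_pos rfl, orbMat_diag a b hb]
    ring
  · obtain ⟨h, ha, rfl⟩ := (Subdeg.mem_orbit_stab_iff a b y').mp hy
    have h1 : (orbMat G a b * orbMat G a b) a (h • b) = (orbMat G a b * orbMat G a b) a b := by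
      have := orbMat_sq_smul a b h a b
      rw [ha] at this
      exact this
    have h2 : orbMat G a b a (h • b) = 1 := (orbMat_eq_one_iff a b a (h • b)).mpr ⟨h, ha, rfl⟩
    have h3 : a ≠ h • b := by
      intro h'
      apply hb
      rw [← ha] at h'
      exact (smul_left_cancel h h').symm
    rw [h1, h2, if_neg h3]
    ring
  · obtain ⟨h, ha, rfl⟩ := (Subdeg.mem_orbit_stab_iff a c y').mp hy
    have h1 : (orbMat G a b * orbMat G a b) a (h • c) = (orbMat G a b * orbMat G a b) a c := by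
      have := orbMat_sq_smul a b h a c
      rw [ha] at this
      exact this
    have h2 : orbMat G a b a (h • c) = 0 := by
      rw [orbMat_eq_zero_iff]
      rintro ⟨g', hg'a, hg'b⟩
      apply hcb
      rw [Subdeg.mem_orbit_stab_iff]
      refine ⟨h⁻¹ * g', ?_, ?_⟩
      · rw [mul_smul, hg'a, inv_smul_eq_iff, ha]
      · rw [mul_smul, hg'b, inv_smul_smul]
    have h3 : a ≠ h • c := by
      intro h'
      apply hca
      rw [← ha] at h'
      exact (smul_left_cancel h h').symm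
    rw [h1, h2, if_neg h3]
    ring

/-- in a rank three action of even degree the orbital matrices are symmetric -/
theorem orbMat_symm [MulAction.IsPretransitive G Ω] (a b : Ω) (hb : b ≠ a)
    (hrank : Nat.card (MulAction.orbitRel.Quotient (MulAction.stabilizer G a) Ω) = 3)
    (heven : Even (Fintype.card Ω)) : (orbMat G a b).transpose = orbMat G a b := by
  classical
  obtain ⟨c, hca, hcb, hcov, hcard⟩ := three_orbits (G := G) a b hb hrank
  obtain ⟨g₀, hg₀⟩ := MulAction.exists_smul_eq G a b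
  rw [orbMat_transpose a b g₀ hg₀]
  rcases hcov (g₀⁻¹ • a) with h | h | h
  · exfalso
    apply hb
    rw [← hg₀]
    rw [inv_smul_eq_iff] at h
    exact h.symm
  · exact orbMat_congr a b _ ((Subdeg.mem_orbit_stab_iff a b _).mp h)
  · exfalso
    have h1 : orbMat G a (g₀⁻¹ • a) = orbMat G a c :=
      orbMat_congr a c _ ((Subdeg.mem_orbit_stab_iff a c _).mp h)
    have h2 : (orbMat G a b).transpose = orbMat G a c := by
      rw [orbMat_transpose a b g₀ hg₀, h1]
    have h3 : (Nat.card (MulAction.orbit (MulAction.stabilizer G a) b) : ℂ) =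
        (Nat.card (MulAction.orbit (MulAction.stabilizer G a) c) : ℂ) := by
      rw [← orbMat_col_sum (G := G) a b a, ← orbMat_row_sum (G := G) a c a, ← h2]
      rfl
    have h4 : Nat.card (MulAction.orbit (MulAction.stabilizer G a) b) =
        Nat.card (MulAction.orbit (MulAction.stabilizer G a) c) := by exact_mod_cast h3
    rw [← h4] at hcard
    rw [hcard] at heven
    obtain ⟨j, hj⟩ := heven
    omega

end decomp


theorem rank3_nt (m k : ℕ) (hm : 2 ≤ m) (hk1 : 1 ≤ k) (hk2 : k ≤ 2 * m - 2) (r s : ℂ) (u e : ℤ)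
    (T1 : (k : ℂ) + ((m : ℂ) - 1) * r + (m : ℂ) * s = 0)
    (T2 : (k : ℂ) ^ 2 + ((m : ℂ) - 1) * r ^ 2 + (m : ℂ) * s ^ 2 = 2 * (m : ℂ) * (k : ℂ))
    (Qr : r ^ 2 = (u : ℂ) + (e : ℂ) * r) (Qs : s ^ 2 = (u : ℂ) + (e : ℂ) * s) :
    k = 1 ∨ k = 2 * m - 2 ∨ ∃ d : ℤ, (m : ℤ) = 2 * d ^ 2 - 2 * d + 1 ∧ (k : ℤ) = (m : ℤ) - d := by
  have hmC : (m : ℂ) ≠ 0 := by
    have : m ≠ 0 := by omega
    exact_mod_cast this
  -- r ≠ s
  have hrs : r ≠ s := by
    intro h
    subst h
    have h1 : (2 * (m : ℂ) - 1) * r = -(k : ℂ) := by linear_combination T1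
    have h2 : (2 * (m : ℂ) - 1) * ((k : ℂ) ^ 2 + (2 * (m : ℂ) - 1) * r ^ 2) =
        (2 * (m : ℂ) - 1) * (2 * (m : ℂ) * (k : ℂ)) := by
      congr 1
      linear_combination T2
    have h3 : (2 * (m : ℂ)) * (k : ℂ) * ((k : ℂ) - (2 * (m : ℂ) - 1)) = 0 := by
      have : ((2 * (m : ℂ) - 1) * r) ^ 2 = (k : ℂ) ^ 2 := by rw [h1]; ring
      linear_combination h2 - this
    have hkC : (k : ℂ) ≠ 0 := by
      have : k ≠ 0 := by omega
      exact_mod_cast this
    have h2m : (2 * (m : ℂ)) ≠ 0 := mul_ne_zero two_ne_zero hmC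
    rcases mul_eq_zero.mp h3 with h4 | h4
    · exact (mul_ne_zero h2m hkC) h4
    · have h5 : (k : ℂ) = ((2 * m - 1 : ℕ) : ℂ) := by
        rw [Nat.cast_sub (by omega)]
        push_cast
        linear_combination h4
      have h6 : k = 2 * m - 1 := by exact_mod_cast h5
      omega
  -- r + s = e
  have hsum : r + s = (e : ℂ) := by
    have h1 : (r - s) * (r + s - (e : ℂ)) = 0 := by linear_combination Qr - Qs
    rcases mul_eq_zero.mp h1 with h | h
    · exact absurd (sub_eq_zero.mp h) hrs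
    · linear_combination h
  have hs : s = -(k : ℂ) - ((m : ℂ) - 1) * (e : ℂ) := by
    linear_combination T1 - ((m : ℂ) - 1) * hsum
  have hr : r = (k : ℂ) + (m : ℂ) * (e : ℂ) := by
    linear_combination hsum - hs
  -- the integer equation
  have hZ : 2 * ((k : ℤ) + ((m : ℤ) - 1) * e) ^ 2 + ((m : ℤ) - 1) * e ^ 2 = 2 * (k : ℤ) := by
    have h1 : (m : ℂ) * (2 * ((k : ℂ) + ((m : ℂ) - 1) * (e : ℂ)) ^ 2 + ((m : ℂ) - 1) * (e : ℂ) ^ 2
        - 2 * (k : ℂ)) = 0 := by
      rw [hr, hs] at T2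
      linear_combination T2
    have h2 := (mul_eq_zero.mp h1).resolve_left hmC
    have h3 : ((2 * ((k : ℤ) + ((m : ℤ) - 1) * e) ^ 2 + ((m : ℤ) - 1) * e ^ 2 : ℤ) : ℂ) =
        ((2 * (k : ℤ) : ℤ) : ℂ) := by
      push_cast
      linear_combination h2
    exact_mod_cast h3
  -- bound on e
  have hm1 : (1 : ℤ) ≤ (m : ℤ) - 1 := by
    have : (2 : ℤ) ≤ (m : ℤ) := by exact_mod_cast hm
    linarith
  have hkZ : (k : ℤ) ≤ 2 * (m : ℤ) - 2 := by
    have : ((k : ℕ) : ℤ) ≤ ((2 * m - 2 : ℕ) : ℤ) := by exact_mod_cast hk2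
    rw [Nat.cast_sub (by omega)] at this
    push_cast at this
    exact this
  have hk1Z : (1 : ℤ) ≤ (k : ℤ) := by exact_mod_cast hk1
  have he2 : e ^ 2 ≤ 4 := by
    by_contra hcon
    push Not at hcon
    have h5 : (5 : ℤ) ≤ e ^ 2 := by linarith
    nlinarith [sq_nonneg ((k : ℤ) + ((m : ℤ) - 1) * e)]
  have heb : -2 ≤ e ∧ e ≤ 2 := by
    constructor <;> nlinarith
  obtain ⟨he1, he2'⟩ := heb
  interval_cases e
  · -- e = -2
    right; left
    have h1 : (k : ℤ) = 2 * (m : ℤ) - 2 := by nlinarith [sq_nonneg ((k : ℤ) + ((m : ℤ) - 1) * (-2))]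
    omega
  · -- e = -1
    right; right
    refine ⟨(m : ℤ) - (k : ℤ), ?_, by ring⟩
    linear_combination (-1 : ℤ) * hZ
  · -- e = 0
    left
    have h1 : (k : ℤ) ^ 2 = (k : ℤ) := by linarith [hZ]
    have h2 : (k : ℤ) = 1 := by nlinarith
    exact_mod_cast h2
  · -- e = 1
    exfalso
    nlinarith [sq_nonneg ((k : ℤ) + ((m : ℤ) - 1) * 1)]
  · -- e = 2
    exfalso
    nlinarith [sq_nonneg ((k : ℤ) + ((m : ℤ) - 1) * 2)]

section main
variable {G : Type*} [Group G] [Fintype G] {Ω : Type*} [Fintype Ω] [DecidableEq Ω] [MulAction G Ω]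
  [Fintype (Cfsg.IrrCharacter G)]

/-- **the analysis of one suborbit** -/
theorem rank3_analysis [MulAction.IsPreprimitive G Ω] (m : ℕ) (hm : Fintype.card Ω = 2 * m)
    (a₀ : Ω) (hrank : Nat.card (MulAction.orbitRel.Quotient (MulAction.stabilizer G a₀) Ω) = 3)
    (χ₁ χ₂ : G → ℂ) (h₁ : Cfsg.IsIrrCharacter G χ₁) (h₂ : Cfsg.IsIrrCharacter G χ₂)
    (hπ : pch G Ω = fun g => 1 + χ₁ g + χ₂ g) (hd₁ : χ₁ 1 = (m : ℂ) - 1) (hd₂ : χ₂ 1 = m)
    (b : Ω) (hb : b ≠ a₀) :
    ∃ d : ℤ, (m : ℤ) = 2 * d ^ 2 - 2 * d + 1 ∧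
      (Nat.card (MulAction.orbit (MulAction.stabilizer G a₀) b) : ℤ) = (m : ℤ) - d := by
  classical
  haveI : MulAction.IsPretransitive G Ω := MulAction.IsPreprimitive.toIsPretransitive
  have heven : Even (Fintype.card Ω) := ⟨m, by rw [hm]; ring⟩
  obtain ⟨c, hca, hcb, hcov, hcard⟩ := three_orbits (G := G) a₀ b hb hrank
  set k := Nat.card (MulAction.orbit (MulAction.stabilizer G a₀) b) with hk
  set l := Nat.card (MulAction.orbit (MulAction.stabilizer G a₀) c) with hl
  have hk1 : 1 ≤ k := by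
    haveI : Nonempty (MulAction.orbit (MulAction.stabilizer G a₀) b) :=
      ⟨⟨b, MulAction.mem_orbit_self b⟩⟩
    exact Nat.card_pos
  have hl1 : 1 ≤ l := by
    haveI : Nonempty (MulAction.orbit (MulAction.stabilizer G a₀) c) :=
      ⟨⟨c, MulAction.mem_orbit_self c⟩⟩
    exact Nat.card_pos
  have hkne : k ≠ 1 := prim_orbit_card_ne_one a₀ b hb hrank heven
  have hlne : l ≠ 1 := prim_orbit_card_ne_one a₀ c hca hrank heven
  have hm2 : 2 ≤ m := by omega
  have hk2 : k ≤ 2 * m - 2 := by omega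
  -- the three constituents
  set X₀ : Cfsg.IrrCharacter G := trivialIrr G with hX₀
  set X₁ : Cfsg.IrrCharacter G := ⟨χ₁, h₁⟩ with hX₁
  set X₂ : Cfsg.IrrCharacter G := ⟨χ₂, h₂⟩ with hX₂
  have hmult := mult_of_decomp (Ω := Ω) χ₁ χ₂ h₁ h₂ hπ
  have hmult0 : (mult Ω X₀ : ℂ) = 1 := by
    rw [← mult_spec (Ω := Ω) X₀]
    have h1 := RankFive.mult_spec (G := G) (Ω := Ω) a₀ (trivialIrr G)
    rw [RankFive.mult_trivial a₀] at h1
    simpa using h1
  have h12 : X₁ ≠ X₂ := by
    intro h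
    have h' : χ₁ = χ₂ := congrArg Subtype.val h
    rw [h'] at hd₁
    rw [hd₁] at hd₂
    have : ((m : ℂ) - 1) - m = 0 := by rw [hd₂]; ring
    norm_num at this
  have h01 : X₀ ≠ X₁ ∧ X₀ ≠ X₂ := by
    have h := hmult X₀
    rw [hmult0, if_pos rfl] at h
    by_cases e1 : X₁ = X₀
    · exfalso
      rw [if_pos e1] at h
      by_cases e2 : X₂ = X₀
      · rw [if_pos e2] at h; norm_num at h
      · rw [if_neg e2] at h; norm_num at h
    · by_cases e2 : X₂ = X₀
      · exfalso
        rw [if_neg e1, if_pos e2] at h; norm_num at h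
      · exact ⟨fun h => e1 h.symm, fun h => e2 h.symm⟩
  obtain ⟨h01, h02⟩ := h01
  have hmult1 : (mult Ω X₁ : ℂ) = 1 := by
    rw [hmult X₁, if_neg h01, if_pos rfl, if_neg (fun h => h12 h.symm)]; ring
  have hmult2 : (mult Ω X₂ : ℂ) = 1 := by
    rw [hmult X₂, if_neg h02, if_neg h12, if_pos rfl]; ring
  have hmf : ∀ χ : Cfsg.IrrCharacter G, mult Ω χ ≤ 1 := by
    intro χ
    have h := hmult χ
    have : (mult Ω χ : ℂ) = 0 ∨ (mult Ω χ : ℂ) = 1 := by
      by_cases e0 : X₀ = χ
      · right; rw [← e0]; exact hmult0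
      · by_cases e1 : X₁ = χ
        · right; rw [← e1]; exact hmult1
        · by_cases e2 : X₂ = χ
          · right; rw [← e2]; exact hmult2
          · left; rw [h, if_neg e0, if_neg e1, if_neg e2]; ring
    rcases this with h' | h'
    · have : mult Ω χ = 0 := by exact_mod_cast h'
      omega
    · have : mult Ω χ = 1 := by exact_mod_cast h'
      omega
  -- the orbital matrix
  set A := orbMat G a₀ b with hA
  have hsymm : A.transpose = A := orbMat_symm a₀ b hb hrank heven
  obtain ⟨θ, hθ, htr1, htr2⟩ := spectral (Ω := Ω) hmf (Matrix.toLin' A) (orbMat_mem_cent a₀ b)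
  -- the traces
  have hsum := sum_mult_of_decomp (Ω := Ω) χ₁ χ₂ h₁ h₂ hπ
  have hdeg0 : (X₀ : G → ℂ) 1 = 1 := rfl
  have hdeg1 : (X₁ : G → ℂ) 1 = (m : ℂ) - 1 := hd₁
  have hdeg2 : (X₂ : G → ℂ) 1 = m := hd₂
  have htrA : LinearMap.trace ℂ (Ω → ℂ) (Matrix.toLin' A) = 0 := by
    rw [Matrix.trace_toLin'_eq, Matrix.trace]
    apply Finset.sum_eq_zero
    intro x _
    exact orbMat_diag a₀ b hb x
  have htrAA : LinearMap.trace ℂ (Ω → ℂ) (Matrix.toLin' A ∘ₗ Matrix.toLin' A) =
      2 * (m : ℂ) * (k : ℂ) := by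
    rw [← Matrix.toLin'_mul, Matrix.trace_toLin'_eq, Matrix.trace]
    have h1 : ∀ x : Ω, (A * A).diag x = (k : ℂ) := by
      intro x
      rw [Matrix.diag_apply, Matrix.mul_apply, ← orbMat_row_sum (G := G) a₀ b x]
      apply Finset.sum_congr rfl
      intro y _
      have hyx : A y x = A x y := by
        have := congrFun (congrFun hsymm x) y
        rwa [Matrix.transpose_apply] at this
      rw [hyx]
      change A x y * A x y = A x y
      rcases orbMat_zero_or_one (G := G) a₀ b x y with h | h <;> rw [← hA] at h <;> rw [h] <;> simp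
    rw [Finset.sum_congr rfl (fun x _ => h1 x), Finset.sum_const, Finset.card_univ, hm,
      nsmul_eq_mul]
    push_cast
    ring
  have hne0 : eop Ω X₀ ≠ 0 := eop_ne_zero X₀ (by
    intro h; rw [h] at hmult0; norm_num at hmult0)
  have hne1 : eop Ω X₁ ≠ 0 := eop_ne_zero X₁ (by
    intro h; rw [h] at hmult1; norm_num at hmult1)
  have hne2 : eop Ω X₂ ≠ 0 := eop_ne_zero X₂ (by
    intro h; rw [h] at hmult2; norm_num at hmult2)
  have hθ0 : θ X₀ = (k : ℂ) := by
    have h1 := hθ X₀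
    have h2 := orbMat_comp_eop_trivial (G := G) a₀ b
    rw [← hA, ← hX₀, h1] at h2
    exact smul_left_injective ℂ hne0 h2
  have T1 : (k : ℂ) + ((m : ℂ) - 1) * θ X₁ + (m : ℂ) * θ X₂ = 0 := by
    have h1 := hsum (fun χ => (χ : G → ℂ) 1 * θ χ)
    simp only [] at h1
    rw [hd₁, hd₂, hθ0, show ((trivialIrr G : Cfsg.IrrCharacter G) : G → ℂ) 1 = 1 from rfl,
      one_mul] at h1
    rw [← h1, ← htrA, htr1]
    apply Finset.sum_congr rfl
    intro χ _
    ring
  have T2 : (k : ℂ) ^ 2 + ((m : ℂ) - 1) * θ X₁ ^ 2 + (m : ℂ) * θ X₂ ^ 2 =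
      2 * (m : ℂ) * (k : ℂ) := by
    have h1 := hsum (fun χ => (χ : G → ℂ) 1 * θ χ ^ 2)
    simp only [] at h1
    rw [hd₁, hd₂, hθ0, show ((trivialIrr G : Cfsg.IrrCharacter G) : G → ℂ) 1 = 1 from rfl,
      one_mul] at h1
    rw [← h1, ← htrAA, htr2]
    apply Finset.sum_congr rfl
    intro χ _
    ring
  -- the quadratic relation
  have hsq := orbMat_sq_eq (G := G) a₀ b c hb hca hcb hcov
  rw [← hA] at hsq
  obtain ⟨nα, hnα⟩ := orbMat_sq_nat (G := G) a₀ b a₀ a₀
  obtain ⟨nβ, hnβ⟩ := orbMat_sq_nat (G := G) a₀ b a₀ b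
  obtain ⟨nγ, hnγ⟩ := orbMat_sq_nat (G := G) a₀ b a₀ c
  rw [← hA] at hnα hnβ hnγ
  rw [hnα, hnβ, hnγ] at hsq
  have hQ : ∀ χ : Cfsg.IrrCharacter G, X₀ ≠ χ → eop Ω χ ≠ 0 →
      θ χ ^ 2 = (((nα : ℤ) - (nγ : ℤ) : ℤ) : ℂ) + (((nβ : ℤ) - (nγ : ℤ) : ℤ) : ℂ) * θ χ := by
    intro χ hχ hne
    have h1 : Matrix.toLin' (A * A) ∘ₗ eop Ω χ = (θ χ ^ 2) • eop Ω χ := by
      rw [Matrix.toLin'_mul, LinearMap.comp_assoc, hθ χ, LinearMap.comp_smul, hθ χ, smul_smul,
        pow_two]
    have h2 : Matrix.toLin' (A * A) ∘ₗ eop Ω χ =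
        (((nα : ℂ) - (nγ : ℂ)) + ((nβ : ℂ) - (nγ : ℂ)) * θ χ) • eop Ω χ := by
      rw [hsq, map_add, map_add, map_smul, map_smul, map_smul, Matrix.toLin'_one,
        LinearMap.add_comp, LinearMap.add_comp, LinearMap.smul_comp, LinearMap.smul_comp,
        LinearMap.smul_comp, Jmat_comp_eop χ hχ, hθ χ, LinearMap.id_comp, smul_zero, zero_add,
        smul_smul, ← add_smul]
    rw [h1] at h2
    have h4 := smul_left_injective ℂ hne h2
    push_cast
    linear_combination h4
  have hQ1 := hQ X₁ h01 hne1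
  have hQ2 := hQ X₂ h02 hne2
  rcases rank3_nt m k hm2 hk1 hk2 (θ X₁) (θ X₂) _ _ T1 T2 hQ1 hQ2 with h | h | h
  · exact absurd h hkne
  · exfalso
    apply hlne
    omega
  · exact h

end main

end Cfsg.Agent.Lib.Helper6.CentRing
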