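import Mathlib
import Cfsg.Agent.S0786
import Cfsg.Agent.Lib.Helper6.OmegaList

/-!
# Reflections with norms in a fixed square class (odd characteristic)

For `F` finite of odd order, `Q` nondegenerate on `F^n`, `c ≠ 0`: the subgroup `Rc Q c` generated by the
reflections in vectors `v` with `Q v ∈ c (F^×)^2`.

* `exists_orth_value` : the orthogonal complement of an orthogonal anisotropic family of `j ≤ n - 2`
  vectors represents every value;
* `edge_mem` : if `Q u = Q x` and `Q (u - x) ∈ c (F^×)^2` then `r_u r_x ∈ Rc`;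
* `key_mem` : for `n ≥ 4`, `(n, q) ≠ (4, 3)`: `r_u r_w ∈ Rc` whenever `Q u = Q w ≠ 0`.
-/

set_option autoImplicit false
open Cfsg

namespace Cfsg.Agent.Lib.Helper6

open Matrix Cfsg.Agent.Lib.Helper14 Cfsg.Agent.S0792

section orth
variable {F : Type*} [Field F] [Fintype F] {n : ℕ} (Q : QuadraticForm F (Fin n → F))

/-- two more orthogonal anisotropic vectors -/
theorem exists_orth_pair (h2 : (2 : F) ≠ 0) (hQ : (QuadraticMap.polarBilin Q).Nondegenerate)
    (j : ℕ) (hj : j + 2 ≤ n) (v : Fin j → (Fin n → F))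
    (horth : ∀ i i', i ≠ i' → QuadraticMap.polar ⇑Q (v i) (v i') = 0)
    (hani : ∀ i, Q (v i) ≠ 0) :
    ∃ w₁ w₂, Q w₁ ≠ 0 ∧ Q w₂ ≠ 0 ∧ QuadraticMap.polar ⇑Q w₁ w₂ = 0 ∧
      (∀ i, QuadraticMap.polar ⇑Q (v i) w₁ = 0) ∧ (∀ i, QuadraticMap.polar ⇑Q (v i) w₂ = 0) := by
  obtain ⟨w, hw, hwv⟩ := exists_aniso Q h2 hQ j (by omega) v horth hani
  obtain ⟨w₂, hw₂, hw₂v⟩ := exists_aniso Q h2 hQ (j + 1) (by omega) (Fin.snoc v w) (by
      intro i i' hii'
      induction i using Fin.lastCases with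
      | last =>
        induction i' using Fin.lastCases with
        | last => exact absurd rfl hii'
        | cast i' =>
          rw [Fin.snoc_last, Fin.snoc_castSucc, QuadraticMap.polar_comm]
          exact hwv i'
      | cast i =>
        induction i' using Fin.lastCases with
        | last =>
          rw [Fin.snoc_last, Fin.snoc_castSucc]
          exact hwv i
        | cast i' =>
          rw [Fin.snoc_castSucc, Fin.snoc_castSucc]
          exact horth i i' (fun h => hii' (by rw [h]))) (by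
      intro i
      induction i using Fin.lastCases with
      | last => rw [Fin.snoc_last]; exact hw
      | cast i => rw [Fin.snoc_castSucc]; exact hani i)
  refine ⟨w, w₂, hw, hw₂, ?_, hwv, ?_⟩
  · have := hw₂v (Fin.last j)
    rwa [Fin.snoc_last] at this
  · intro i
    have := hw₂v i.castSucc
    rwa [Fin.snoc_castSucc] at this

/-- the orthogonal complement of an orthogonal anisotropic family of at most `n - 2` vectors
represents every value -/
theorem exists_orth_value (h2 : (2 : F) ≠ 0) (hQ : (QuadraticMap.polarBilin Q).Nondegenerate)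
    (j : ℕ) (hj : j + 2 ≤ n) (v : Fin j → (Fin n → F))
    (horth : ∀ i i', i ≠ i' → QuadraticMap.polar ⇑Q (v i) (v i') = 0)
    (hani : ∀ i, Q (v i) ≠ 0) (δ : F) :
    ∃ y, Q y = δ ∧ ∀ i, QuadraticMap.polar ⇑Q (v i) y = 0 := by
  classical
  obtain ⟨w₁, w₂, hw₁, hw₂, h12, hv1, hv2⟩ := exists_orth_pair Q h2 hQ j hj v horth hani
  obtain ⟨s, t, hst⟩ := exists_binary_value h2 (Q w₁) (Q w₂) δ hw₁ hw₂
  refine ⟨s • w₁ + t • w₂, ?_, ?_⟩
  · rw [Q_add, Q_smul, Q_smul, QuadraticMap.polar_smul_left, QuadraticMap.polar_smul_right, h12,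
      smul_zero, smul_zero, add_zero]
    linear_combination hst
  · intro i
    rw [QuadraticMap.polar_add_right, QuadraticMap.polar_smul_right, QuadraticMap.polar_smul_right,
      hv1, hv2, smul_zero, smul_zero, add_zero]

/-- every value is represented -/
theorem exists_value (h2 : (2 : F) ≠ 0) (hQ : (QuadraticMap.polarBilin Q).Nondegenerate)
    (hn : 2 ≤ n) (δ : F) : ∃ y, Q y = δ := by
  obtain ⟨y, hy, -⟩ := exists_orth_value Q h2 hQ 0 (by omega) Fin.elim0 (fun i => i.elim0)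
    (fun i => i.elim0) δ
  exact ⟨y, hy⟩

end orth

section rc
variable {F : Type*} [Field F] {n : ℕ} (Q : QuadraticForm F (Fin n → F))

/-- the reflections in vectors of norm in `c (F^×)^2` -/
def RcSet (c : F) : Set ↥(Cfsg.isometryGroup F ⇑Q) :=
  {g | ∃ (v : Fin n → F) (t : F), t ≠ 0 ∧ Q v = c * t ^ 2 ∧
    ((g : Matrix.GeneralLinearGroup (Fin n) F) : Matrix (Fin n) (Fin n) F) =
      Cfsg.reflectionMatrix ⇑Q v}

/-- the subgroup they generate -/
def Rc (c : F) : Subgroup ↥(Cfsg.isometryGroup F ⇑Q) := Subgroup.closure (RcSet Q c)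

theorem mkRefl_mem_RcSet (c : F) (v : Fin n → F) (hv : Q v ≠ 0) (t : F) (ht : t ≠ 0)
    (hvt : Q v = c * t ^ 2) : mkRefl Q v hv ∈ RcSet Q c :=
  ⟨v, t, ht, hvt, rfl⟩

theorem mkRefl_mem_Rc (c : F) (v : Fin n → F) (hv : Q v ≠ 0) (t : F) (ht : t ≠ 0)
    (hvt : Q v = c * t ^ 2) : mkRefl Q v hv ∈ Rc Q c :=
  Subgroup.subset_closure (mkRefl_mem_RcSet Q c v hv t ht hvt)

theorem RcSet_conj (c : F) (hc : c ≠ 0) (g s : ↥(Cfsg.isometryGroup F ⇑Q)) (hs : s ∈ RcSet Q c) :
    g * s * g⁻¹ ∈ RcSet Q c := by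
  obtain ⟨v, t, ht, hvt, hsv⟩ := hs
  have hv : Q v ≠ 0 := by
    rw [hvt]; exact mul_ne_zero hc (pow_ne_zero 2 ht)
  have hs' : s = mkRefl Q v hv := eq_mkRefl Q v hv s hsv
  have hgv : Q (imat Q g *ᵥ v) = Q v := pres Q g v
  rw [hs', conj_refl Q g v hv (by rw [hgv]; exact hv)]
  exact mkRefl_mem_RcSet Q c _ _ t ht (by rw [hgv, hvt])

instance Rc_normal (c : F) [hc : NeZero c] : (Rc Q c).Normal := by
  have h_base : RcSet Q c = Group.conjugatesOfSet (RcSet Q c) := by
    refine Set.Subset.antisymm Group.subset_conjugatesOfSet fun a h => ?_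
    simp_rw [Group.mem_conjugatesOfSet_iff, isConj_iff] at h
    obtain ⟨b, hb, d, rfl⟩ := h
    exact RcSet_conj Q c hc.out d b hb
  change (Subgroup.closure (RcSet Q c)).Normal
  rw [h_base]
  exact Subgroup.normalClosure_normal

/-- **edge lemma** -/
theorem edge_mem (c : F) [NeZero c] (u x : Fin n → F) (hu : Q u ≠ 0) (hx : Q x ≠ 0)
    (hux : Q u = Q x) (t : F) (ht : t ≠ 0) (hv : Q (u - x) = c * t ^ 2) :
    mkRefl Q u hu * mkRefl Q x hx ∈ Rc Q c := by
  have hc : c ≠ 0 := NeZero.ne c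
  have hv0 : Q (u - x) ≠ 0 := by rw [hv]; exact mul_ne_zero hc (pow_ne_zero 2 ht)
  have hmove : imat Q (mkRefl Q (u - x) hv0) *ᵥ u = x := refl_move1 Q u x hux hv0
  have hconj := conj_refl Q (mkRefl Q (u - x) hv0) u hu (by rw [hmove]; exact hx)
  have hx' : mkRefl Q x hx = mkRefl Q (u - x) hv0 * mkRefl Q u hu * (mkRefl Q (u - x) hv0)⁻¹ := by
    rw [hconj]
    congr 1
    exact hmove.symm
  have hv_mem : mkRefl Q (u - x) hv0 ∈ Rc Q c := mkRefl_mem_Rc Q c _ hv0 t ht hv
  have huinv : (mkRefl Q u hu)⁻¹ = mkRefl Q u hu :=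
    inv_eq_of_mul_eq_one_left (mkRefl_mul_self Q u hu)
  rw [hx']
  have : mkRefl Q u hu * (mkRefl Q (u - x) hv0 * mkRefl Q u hu * (mkRefl Q (u - x) hv0)⁻¹) =
      (mkRefl Q u hu * mkRefl Q (u - x) hv0 * (mkRefl Q u hu)⁻¹) * (mkRefl Q (u - x) hv0)⁻¹ := by
    rw [huinv]; group
  rw [this]
  exact Subgroup.mul_mem _ ((Rc_normal Q c).conj_mem _ hv_mem _) (Subgroup.inv_mem _ hv_mem)

end rc

section key
variable {F : Type*} [Field F] [Fintype F] {n : ℕ} (Q : QuadraticForm F (Fin n → F))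

theorem polar_self' (x : Fin n → F) : QuadraticMap.polar ⇑Q x x = 2 * Q x := by
  rw [QuadraticMap.polar_self, nsmul_eq_mul]; norm_num

theorem mkRefl_inv (a : Fin n → F) (ha : Q a ≠ 0) : (mkRefl Q a ha)⁻¹ = mkRefl Q a ha :=
  inv_eq_of_mul_eq_one_left (mkRefl_mul_self Q a ha)

/-- the nondegenerate case of the key lemma -/
theorem nondeg_mem (h2 : (2 : F) ≠ 0) (hQ : (QuadraticMap.polarBilin Q).Nondegenerate)
    (hn : 4 ≤ n) (c : F) [NeZero c] (u w : Fin n → F) (hu : Q u ≠ 0) (hw : Q w ≠ 0)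
    (huw : Q u = Q w) (hnd : QuadraticMap.polar ⇑Q u w ^ 2 ≠ 4 * Q u ^ 2) :
    mkRefl Q u hu * mkRefl Q w hw ∈ Rc Q c := by
  classical
  set γ := Q u with hγ
  set β := QuadraticMap.polar ⇑Q u w with hβ
  have h4 : (4 : F) ≠ 0 := by
    have : (4 : F) = 2 * 2 := by norm_num
    rw [this]; exact mul_ne_zero h2 h2
  have hp : 2 * γ + β ≠ 0 := by
    intro h
    apply hnd
    have : β = -(2 * γ) := by linear_combination h
    rw [this]; ring
  have hm : 2 * γ - β ≠ 0 := by
    intro h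
    apply hnd
    have : β = 2 * γ := by linear_combination -h
    rw [this]; ring
  have huu : QuadraticMap.polar ⇑Q u u = 2 * γ := polar_self' Q u
  have hww : QuadraticMap.polar ⇑Q w w = 2 * γ := by rw [polar_self', ← huw]
  have hwu : QuadraticMap.polar ⇑Q w u = β := by rw [QuadraticMap.polar_comm]
  -- orthogonalise
  set w' := w - (β / (2 * γ)) • u with hw'
  have h1 : QuadraticMap.polar ⇑Q u w' = 0 := by
    rw [hw', QuadraticMap.polar_sub_right, QuadraticMap.polar_smul_right, huu, smul_eq_mul]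
    field_simp
    ring
  have h2' : Q w' ≠ 0 := by
    have : Q w' = (2 * γ + β) * (2 * γ - β) / (4 * γ) := by
      rw [hw', Q_sub, Q_smul, QuadraticMap.polar_smul_right, hwu, ← huw, ← hγ, smul_eq_mul]
      field_simp
      ring
    rw [this]
    exact div_ne_zero (mul_ne_zero hp hm) (mul_ne_zero h4 hu)
  obtain ⟨y, hy, hyv⟩ := exists_orth_value Q h2 hQ 2 (by omega) ![u, w'] (by
      intro i i' hii'
      fin_cases i <;> fin_cases i'
      · exact absurd rfl hii'
      · exact h1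
      · change QuadraticMap.polar ⇑Q w' u = 0
        rw [QuadraticMap.polar_comm]; exact h1
      · exact absurd rfl hii') (by
      intro i
      fin_cases i
      · exact hu
      · exact h2')
    (γ - ((2 * γ - c) / (2 * γ + β)) ^ 2 * (2 * γ + β))
  have hyu : QuadraticMap.polar ⇑Q u y = 0 := hyv 0
  have hyw' : QuadraticMap.polar ⇑Q w' y = 0 := hyv 1
  have hyw : QuadraticMap.polar ⇑Q w y = 0 := by
    rw [hw', QuadraticMap.polar_sub_left, QuadraticMap.polar_smul_left, hyu, smul_zero,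
      sub_zero] at hyw'
    exact hyw'
  set α := (2 * γ - c) / (2 * γ + β) with hα
  set x := α • (u + w) + y with hx
  have hQuw : Q (u + w) = 2 * γ + β := by rw [Q_add, ← huw]; ring
  have hQx : Q x = γ := by
    rw [hx, Q_add, Q_smul, hQuw, QuadraticMap.polar_smul_left, QuadraticMap.polar_add_left, hyu,
      hyw, hy]
    simp only [smul_eq_mul]
    ring
  have hux : QuadraticMap.polar ⇑Q u x = 2 * γ - c := by
    rw [hx, QuadraticMap.polar_add_right, QuadraticMap.polar_smul_right,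
      QuadraticMap.polar_add_right, huu, hyu, smul_eq_mul, hα]
    field_simp
    ring
  have hwx : QuadraticMap.polar ⇑Q w x = 2 * γ - c := by
    rw [hx, QuadraticMap.polar_add_right, QuadraticMap.polar_smul_right,
      QuadraticMap.polar_add_right, hww, hwu, hyw, smul_eq_mul, hα]
    field_simp
    ring
  have hx0 : Q x ≠ 0 := by rw [hQx]; exact hu
  have e1 : mkRefl Q u hu * mkRefl Q x hx0 ∈ Rc Q c := by
    apply edge_mem Q c u x hu hx0 hQx.symm 1 one_ne_zero
    rw [Q_sub, hQx, hux]; ring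
  have e2 : mkRefl Q w hw * mkRefl Q x hx0 ∈ Rc Q c := by
    apply edge_mem Q c w x hw hx0 (by rw [hQx, ← huw]) 1 one_ne_zero
    rw [Q_sub, hQx, hwx, ← huw]; ring
  have : mkRefl Q u hu * mkRefl Q w hw =
      (mkRefl Q u hu * mkRefl Q x hx0) * (mkRefl Q w hw * mkRefl Q x hx0)⁻¹ := by
    rw [_root_.mul_inv_rev, mkRefl_inv, mkRefl_inv, mul_assoc, ← mul_assoc (mkRefl Q x hx0),
      mkRefl_mul_self, one_mul]
  rw [this]
  exact Subgroup.mul_mem _ e1 (Subgroup.inv_mem _ e2)

theorem card_ne_two_of_two_ne_zero (h2 : (2 : F) ≠ 0) : Fintype.card F ≠ 2 := by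
  intro h
  apply h2
  have := Nat.cast_card_eq_zero F
  rw [h] at this
  exact_mod_cast this

/-- a field of odd order other than `F_3` has an element avoiding `0, s, -s` -/
theorem exists_avoid (h2 : (2 : F) ≠ 0) (h3 : Fintype.card F ≠ 3) (s : F) :
    ∃ t : F, t ≠ 0 ∧ t ≠ s ∧ t ≠ -s := by
  classical
  by_contra hcon
  push Not at hcon
  have hsub : (Finset.univ : Finset F) ⊆ {0, s, -s} := by
    intro t _
    simp only [Finset.mem_insert, Finset.mem_singleton]
    by_cases h0 : t = 0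
    · exact Or.inl h0
    · by_cases hs : t = s
      · exact Or.inr (Or.inl hs)
      · exact Or.inr (Or.inr (hcon t h0 hs))
  have hle : Fintype.card F ≤ 3 := by
    calc Fintype.card F = (Finset.univ : Finset F).card := rfl
      _ ≤ ({0, s, -s} : Finset F).card := Finset.card_le_card hsub
      _ ≤ 3 := Finset.card_le_three
  have h1 : 1 < Fintype.card F := Fintype.one_lt_card
  have hne2 : Fintype.card F ≠ 2 := card_ne_two_of_two_ne_zero h2
  omega

/-- the degenerate case: an intermediate vector -/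
theorem exists_mid (h2 : (2 : F) ≠ 0) (hQ : (QuadraticMap.polarBilin Q).Nondegenerate)
    (hn : 4 ≤ n) (hq : Fintype.card F ≠ 3 ∨ 6 ≤ n) (u w : Fin n → F) (hu : Q u ≠ 0)
    (huw : Q u = Q w) (hd : QuadraticMap.polar ⇑Q u w = 2 * Q u) (hne : u ≠ w) :
    ∃ x, Q x = Q u ∧ QuadraticMap.polar ⇑Q u x ^ 2 ≠ 4 * Q u ^ 2 ∧
      QuadraticMap.polar ⇑Q x w ^ 2 ≠ 4 * Q u ^ 2 := by
  classical
  set γ := Q u with hγ
  have h4 : (4 : F) ≠ 0 := by
    have : (4 : F) = 2 * 2 := by norm_num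
    rw [this]; exact mul_ne_zero h2 h2
  have h4γ : 4 * γ ^ 2 ≠ 0 := mul_ne_zero h4 (pow_ne_zero 2 hu)
  have huu : QuadraticMap.polar ⇑Q u u = 2 * γ := polar_self' Q u
  set z := u - w with hz
  have hz0 : z ≠ 0 := sub_ne_zero.mpr hne
  have hQz : Q z = 0 := by rw [hz, Q_sub, ← huw, hd]; ring
  have huz : QuadraticMap.polar ⇑Q u z = 0 := by
    rw [hz, QuadraticMap.polar_sub_right, huu, hd]; ring
  have hzz : QuadraticMap.polar ⇑Q z z = 0 := by rw [polar_self', hQz, mul_zero]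
  have hw_eq : w = u - z := by rw [hz]; abel
  -- a vector pairing nontrivially with z
  obtain ⟨p₀, hp₀⟩ : ∃ p₀, QuadraticMap.polar ⇑Q z p₀ ≠ 0 := by
    by_contra hcon
    push Not at hcon
    exact hz0 (hQ.1 z hcon)
  set p := p₀ - (QuadraticMap.polar ⇑Q u p₀ / (2 * γ)) • u with hp
  have hup : QuadraticMap.polar ⇑Q u p = 0 := by
    rw [hp, QuadraticMap.polar_sub_right, QuadraticMap.polar_smul_right, huu, smul_eq_mul]
    field_simp
    ring
  have hzu : QuadraticMap.polar ⇑Q z u = 0 := by rw [QuadraticMap.polar_comm]; exact huz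
  set b := QuadraticMap.polar ⇑Q z p with hb
  have hb0 : b ≠ 0 := by
    rw [hb, hp, QuadraticMap.polar_sub_right, QuadraticMap.polar_smul_right, hzu, smul_zero,
      sub_zero]
    exact hp₀
  have hpz : QuadraticMap.polar ⇑Q p z = b := by rw [QuadraticMap.polar_comm]
  rcases hq with hq | hq
  · -- more than three elements
    obtain ⟨t, ht0, ht1, ht2⟩ := exists_avoid h2 hq (2 * γ / b)
    set a := (γ - t ^ 2 * Q p) / (t * b) with ha
    refine ⟨t • p + a • z, ?_, ?_, ?_⟩
    · rw [Q_add, Q_smul, Q_smul, hQz, QuadraticMap.polar_smul_left, QuadraticMap.polar_smul_right,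
        hpz, ha]
      simp only [smul_eq_mul]
      field_simp
      ring
    · rw [QuadraticMap.polar_add_right, QuadraticMap.polar_smul_right,
        QuadraticMap.polar_smul_right, hup, huz]
      simp only [smul_zero, add_zero]
      intro h
      apply h4γ
      rw [← h]; ring
    · rw [hw_eq, QuadraticMap.polar_sub_right, QuadraticMap.polar_add_left,
        QuadraticMap.polar_add_left, QuadraticMap.polar_smul_left, QuadraticMap.polar_smul_left,
        QuadraticMap.polar_smul_left, QuadraticMap.polar_smul_left,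
        QuadraticMap.polar_comm ⇑Q p u, hup, hzu, hpz, hzz]
      simp only [smul_eq_mul, mul_zero, add_zero, zero_sub]
      intro h
      have h' : (t * b - 2 * γ) * (t * b + 2 * γ) = 0 := by linear_combination h
      rcases mul_eq_zero.mp h' with h'' | h''
      · apply ht1
        field_simp
        linear_combination h''
      · apply ht2
        field_simp
        linear_combination h''
  · -- dimension at least six
    obtain ⟨p', hup', hzp', hp'0⟩ : ∃ p', QuadraticMap.polar ⇑Q u p' = 0 ∧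
        QuadraticMap.polar ⇑Q z p' = b ∧ Q p' ≠ 0 := by
      by_cases hQp : Q p = 0
      · refine ⟨p + z, ?_, ?_, ?_⟩
        · rw [QuadraticMap.polar_add_right, hup, huz, add_zero]
        · rw [QuadraticMap.polar_add_right, hzz, add_zero]
        · rw [Q_add, hQp, hQz, hpz]
          simpa using hb0
      · exact ⟨p, hup, rfl, hQp⟩
    set z' := z - (b / (2 * Q p')) • p' with hz'
    have hpp' : QuadraticMap.polar ⇑Q p' p' = 2 * Q p' := polar_self' Q p'
    have hp'z : QuadraticMap.polar ⇑Q p' z = b := by rw [QuadraticMap.polar_comm]; exact hzp'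
    have hp'u : QuadraticMap.polar ⇑Q p' u = 0 := by rw [QuadraticMap.polar_comm]; exact hup'
    have h1 : QuadraticMap.polar ⇑Q p' z' = 0 := by
      rw [hz', QuadraticMap.polar_sub_right, QuadraticMap.polar_smul_right, hpp', hp'z,
        smul_eq_mul]
      field_simp
      ring
    have h2' : QuadraticMap.polar ⇑Q u z' = 0 := by
      rw [hz', QuadraticMap.polar_sub_right, QuadraticMap.polar_smul_right, huz, hup', smul_zero,
        sub_zero]
    have h3 : Q z' ≠ 0 := by
      have : Q z' = - b ^ 2 / (4 * Q p') := by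
        rw [hz', Q_sub, Q_smul, QuadraticMap.polar_smul_right, hzp', hQz, smul_eq_mul]
        field_simp
        ring
      rw [this]
      exact div_ne_zero (neg_ne_zero.mpr (pow_ne_zero 2 hb0)) (mul_ne_zero h4 hp'0)
    obtain ⟨y, hy, hyv⟩ := exists_orth_value Q h2 hQ 3 (by omega) ![u, p', z'] (by
        intro i i' hii'
        fin_cases i <;> fin_cases i'
        · exact absurd rfl hii'
        · exact hup'
        · exact h2'
        · exact hp'u
        · exact absurd rfl hii'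
        · exact h1
        · change QuadraticMap.polar ⇑Q z' u = 0
          rw [QuadraticMap.polar_comm]; exact h2'
        · change QuadraticMap.polar ⇑Q z' p' = 0
          rw [QuadraticMap.polar_comm]; exact h1
        · exact absurd rfl hii') (by
        intro i
        fin_cases i
        · exact hu
        · exact hp'0
        · exact h3) γ
    have hyu : QuadraticMap.polar ⇑Q u y = 0 := hyv 0
    have hyp : QuadraticMap.polar ⇑Q p' y = 0 := hyv 1
    have hyz' : QuadraticMap.polar ⇑Q z' y = 0 := hyv 2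
    have hyz : QuadraticMap.polar ⇑Q z y = 0 := by
      rw [hz', QuadraticMap.polar_sub_left, QuadraticMap.polar_smul_left, hyp, smul_zero,
        sub_zero] at hyz'
      exact hyz'
    refine ⟨y, hy, ?_, ?_⟩
    · rw [hyu]
      intro h
      apply h4γ
      rw [← h]; ring
    · rw [hw_eq, QuadraticMap.polar_sub_right, QuadraticMap.polar_comm ⇑Q y u, hyu,
        QuadraticMap.polar_comm ⇑Q y z, hyz]
      intro h
      apply h4γ
      rw [← h]; ring

theorem key_mem_aux (h2 : (2 : F) ≠ 0) (hQ : (QuadraticMap.polarBilin Q).Nondegenerate)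
    (hn : 4 ≤ n) (hq : Fintype.card F ≠ 3 ∨ 6 ≤ n) (c : F) [NeZero c] (u w : Fin n → F)
    (hu : Q u ≠ 0) (hw : Q w ≠ 0) (huw : Q u = Q w)
    (hd : QuadraticMap.polar ⇑Q u w = 2 * Q u) :
    mkRefl Q u hu * mkRefl Q w hw ∈ Rc Q c := by
  by_cases hne : u = w
  · subst hne
    rw [mkRefl_mul_self]
    exact Subgroup.one_mem _
  · obtain ⟨x, hx, hux, hxw⟩ := exists_mid Q h2 hQ hn hq u w hu huw hd hne
    have hx0 : Q x ≠ 0 := by rw [hx]; exact hu
    have e1 := nondeg_mem Q h2 hQ hn c u x hu hx0 hx.symm hux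
    have e2 := nondeg_mem Q h2 hQ hn c x w hx0 hw (by rw [hx, huw]) (by rw [hx]; exact hxw)
    have : mkRefl Q u hu * mkRefl Q w hw =
        (mkRefl Q u hu * mkRefl Q x hx0) * (mkRefl Q x hx0 * mkRefl Q w hw) := by
      rw [mul_assoc, ← mul_assoc (mkRefl Q x hx0), mkRefl_mul_self, one_mul]
    rw [this]
    exact Subgroup.mul_mem _ e1 e2

/-- **key lemma**: the product of two reflections in vectors of the same norm lies in `Rc` -/
theorem key_mem (h2 : (2 : F) ≠ 0) (hQ : (QuadraticMap.polarBilin Q).Nondegenerate)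
    (hn : 4 ≤ n) (hq : Fintype.card F ≠ 3 ∨ 6 ≤ n) (c : F) [NeZero c] (u w : Fin n → F)
    (hu : Q u ≠ 0) (hw : Q w ≠ 0) (huw : Q u = Q w) :
    mkRefl Q u hu * mkRefl Q w hw ∈ Rc Q c := by
  by_cases hnd : QuadraticMap.polar ⇑Q u w ^ 2 = 4 * Q u ^ 2
  · have h' : (QuadraticMap.polar ⇑Q u w - 2 * Q u) * (QuadraticMap.polar ⇑Q u w + 2 * Q u) = 0 := by
      linear_combination hnd
    rcases mul_eq_zero.mp h' with h'' | h''
    · exact key_mem_aux Q h2 hQ hn hq c u w hu hw huw (by linear_combination h'')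
    · have hw' : Q (-w) ≠ 0 := by rw [QuadraticMap.map_neg]; exact hw
      have e := key_mem_aux Q h2 hQ hn hq c u (-w) hu hw' (by rw [QuadraticMap.map_neg]; exact huw)
        (by rw [QuadraticMap.polar_neg_right]; linear_combination -h'')
      have hneg : mkRefl Q (-w) hw' = mkRefl Q w hw := by
        apply eq_mkRefl
        change Cfsg.reflectionMatrix ⇑Q (-w) = _
        rw [← neg_one_smul F w]
        exact refl_smul Q w (-1) (by simp)
      rwa [hneg] at e
  · exact nondeg_mem Q h2 hQ hn c u w hu hw huw hnd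

/-- the scaled version -/
theorem key_mem' (h2 : (2 : F) ≠ 0) (hQ : (QuadraticMap.polarBilin Q).Nondegenerate)
    (hn : 4 ≤ n) (hq : Fintype.card F ≠ 3 ∨ 6 ≤ n) (c : F) [NeZero c] (u w : Fin n → F)
    (hu : Q u ≠ 0) (hw : Q w ≠ 0) (t : F) (ht : t ≠ 0) (huw : Q w = Q u * t ^ 2) :
    mkRefl Q u hu * mkRefl Q w hw ∈ Rc Q c := by
  have hQw' : Q (t⁻¹ • w) = Q u := by
    rw [Q_smul, huw]
    field_simp
  have hw' : Q (t⁻¹ • w) ≠ 0 := by rw [hQw']; exact hu
  have e := key_mem Q h2 hQ hn hq c u (t⁻¹ • w) hu hw' hQw'.symm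
  have hsm : mkRefl Q (t⁻¹ • w) hw' = mkRefl Q w hw := by
    apply eq_mkRefl
    exact refl_smul Q w t⁻¹ (inv_ne_zero ht)
  rwa [hsm] at e

end key

section cover
variable {F : Type*} [Field F] [Fintype F] {n : ℕ} (Q : QuadraticForm F (Fin n → F))

/-- square classes via the quadratic character -/
theorem sq_class_iff [DecidableEq F] (x c : F) (hx : x ≠ 0) (hc : c ≠ 0) :
    (∃ t, t ≠ 0 ∧ x = c * t ^ 2) ↔ quadraticChar F x = quadraticChar F c := by
  constructor
  · rintro ⟨t, ht, rfl⟩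
    rw [map_mul, map_pow, quadraticChar_sq_one ht, mul_one]
  · intro h
    have h1 : quadraticChar F (x * c) = 1 := by
      rw [map_mul, h, ← pow_two, quadraticChar_sq_one hc]
    obtain ⟨s, hs⟩ := (quadraticChar_one_iff_isSquare (mul_ne_zero hx hc)).mp h1
    have hs0 : s ≠ 0 := by
      rintro rfl
      rw [mul_zero] at hs
      exact mul_ne_zero hx hc hs
    refine ⟨s / c, div_ne_zero hs0 hc, ?_⟩
    field_simp
    linear_combination hs

/-- two vectors outside the class of `c` have norms in the same class -/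
theorem same_class_of_not [DecidableEq F] (x y c : F) (hx : x ≠ 0) (hy : y ≠ 0) (hc : c ≠ 0)
    (hxc : ¬ ∃ t, t ≠ 0 ∧ x = c * t ^ 2) (hyc : ¬ ∃ t, t ≠ 0 ∧ y = c * t ^ 2) :
    ∃ t, t ≠ 0 ∧ y = x * t ^ 2 := by
  rw [sq_class_iff x c hx hc] at hxc
  rw [sq_class_iff y c hy hc] at hyc
  rw [sq_class_iff y x hy hx]
  rcases quadraticChar_dichotomy (F := F) hx with h1 | h1 <;>
    rcases quadraticChar_dichotomy (F := F) hy with h3 | h3 <;>
    rcases quadraticChar_dichotomy (F := F) hc with h5 | h5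
  all_goals first | (exfalso; apply hxc; rw [h1, h5]; done) | (exfalso; apply hyc; rw [h3, h5]; done) | (rw [h1, h3])

/-- from a covering by two cosets to index two -/
theorem index_two_of_cover {G : Type*} [Group G] (H : Subgroup G) [H.Normal] (r : G)
    (hr : r ∉ H) (hcover : ∀ g, g ∈ H ∨ r * g ∈ H) : H.index = 2 := by
  rw [Subgroup.index_eq_two_iff']
  refine ⟨r, fun b => ?_⟩
  by_cases hb : b ∈ H
  · right
    refine ⟨hb, fun h => hr ?_⟩
    have := H.mul_mem h (H.inv_mem hb)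
    rwa [mul_inv_cancel_right] at this
  · left
    exact ⟨(hcover b).resolve_left hb, hb⟩

/-- the covering, for `n ≥ 4` -/
theorem cover_of_four_le (h2 : (2 : F) ≠ 0) (hQ : (QuadraticMap.polarBilin Q).Nondegenerate)
    (hn : 4 ≤ n) (hq : Fintype.card F ≠ 3 ∨ 6 ≤ n) (c : F) [NeZero c] (u₀ : Fin n → F)
    (hu₀ : Q u₀ ≠ 0) (hcl : ¬ ∃ t, t ≠ 0 ∧ Q u₀ = c * t ^ 2)
    (g : ↥(Cfsg.isometryGroup F ⇑Q)) : g ∈ Rc Q c ∨ mkRefl Q u₀ hu₀ * g ∈ Rc Q c := by
  classical
  have hc : c ≠ 0 := NeZero.ne c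
  have htop := Cfsg.Agent.S0786.closure_Rset_eq_top Q hQ (Or.inl (card_ne_two_of_two_ne_zero h2))
  have hg : g ∈ Subgroup.closure (Rset Q) := by rw [htop]; trivial
  set r := mkRefl Q u₀ hu₀ with hr
  have hrinv : r⁻¹ = r := mkRefl_inv Q u₀ hu₀
  have hrr : r * r = 1 := mkRefl_mul_self Q u₀ hu₀
  induction hg using Subgroup.closure_induction with
  | mem x hx =>
    obtain ⟨a, ha, hxa⟩ := hx
    have hx' : x = mkRefl Q a ha := eq_mkRefl Q a ha x hxa
    by_cases hcl' : ∃ t, t ≠ 0 ∧ Q a = c * t ^ 2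
    · left
      obtain ⟨t, ht, hat⟩ := hcl'
      rw [hx']
      exact mkRefl_mem_Rc Q c a ha t ht hat
    · right
      obtain ⟨t, ht, hat⟩ := same_class_of_not (Q u₀) (Q a) c hu₀ ha hc hcl hcl'
      rw [hx']
      exact key_mem' Q h2 hQ hn hq c u₀ a hu₀ ha t ht hat
  | one => exact Or.inl (Subgroup.one_mem _)
  | mul x y _ _ hx hy =>
    rcases hx with hx | hx <;> rcases hy with hy | hy
    · exact Or.inl (Subgroup.mul_mem _ hx hy)
    · right
      have : r * (x * y) = (r * x * r⁻¹) * (r * y) := by group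
      rw [this]
      exact Subgroup.mul_mem _ ((Rc_normal Q c).conj_mem _ hx _) hy
    · right
      rw [← mul_assoc]
      exact Subgroup.mul_mem _ hx hy
    · left
      have : x * y = (r * (r * x) * r⁻¹) * (r * y) := by
        rw [hrinv]
        calc x * y = (r * r) * x * ((r * r) * y) := by rw [hrr, one_mul, one_mul]
          _ = r * (r * x) * r * (r * y) := by group
      rw [this]
      exact Subgroup.mul_mem _ ((Rc_normal Q c).conj_mem _ hx _) hy
  | inv x _ hx =>
    rcases hx with hx | hx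
    · exact Or.inl (Subgroup.inv_mem _ hx)
    · right
      have : r * x⁻¹ = r * (r * x)⁻¹ * r⁻¹ := by
        rw [_root_.mul_inv_rev, hrinv]
        calc r * x⁻¹ = r * x⁻¹ * (r * r) := by rw [hrr, mul_one]
          _ = r * (x⁻¹ * r) * r := by group
      rw [this]
      exact (Rc_normal Q c).conj_mem _ (Subgroup.inv_mem _ hx) _

end cover

section plane
variable {F : Type*} [Field F] [Fintype F] (Q : QuadraticForm F (Fin 2 → F))

/-- expansion in an orthogonal basis of the plane -/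
theorem plane_expand (h2 : (2 : F) ≠ 0) (v₁ v₂ : Fin 2 → F) (hv₁ : Q v₁ ≠ 0) (hv₂ : Q v₂ ≠ 0)
    (h12 : QuadraticMap.polar ⇑Q v₁ v₂ = 0) (x : Fin 2 → F) :
    ∃ s t : F, x = s • v₁ + t • v₂ := by
  classical
  set B : LinearMap.BilinForm F (Fin 2 → F) := QuadraticMap.polarBilin Q with hB
  have hli : LinearIndependent F ![v₁, v₂] := by
    apply LinearMap.BilinForm.linearIndependent_of_iIsOrtho (B := B)
    · intro i i' hii'
      fin_cases i <;> fin_cases i'
      · exact absurd rfl hii'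
      · exact h12
      · change QuadraticMap.polar ⇑Q v₂ v₁ = 0
        rw [QuadraticMap.polar_comm]; exact h12
      · exact absurd rfl hii'
    · intro i
      change QuadraticMap.polar ⇑Q (![v₁, v₂] i) (![v₁, v₂] i) ≠ 0
      rw [polar_self']
      fin_cases i
      · exact mul_ne_zero h2 hv₁
      · exact mul_ne_zero h2 hv₂
  have hspan : Submodule.span F (Set.range ![v₁, v₂]) = ⊤ :=
    hli.span_eq_top_of_card_eq_finrank' (by simp)
  have hx : x ∈ Submodule.span F (Set.range ![v₁, v₂]) := by rw [hspan]; trivial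
  rw [Matrix.range_cons, Matrix.range_cons, Matrix.range_empty, Set.union_empty,
    Set.singleton_union] at hx
  obtain ⟨s, t, hst⟩ := Submodule.mem_span_pair.mp hx
  exact ⟨s, t, hst.symm⟩

/-- an isometry fixing an orthogonal basis is trivial -/
theorem plane_eq_one (h2 : (2 : F) ≠ 0) (v₁ v₂ : Fin 2 → F) (hv₁ : Q v₁ ≠ 0) (hv₂ : Q v₂ ≠ 0)
    (h12 : QuadraticMap.polar ⇑Q v₁ v₂ = 0) (g : ↥(Cfsg.isometryGroup F ⇑Q))
    (hg1 : imat Q g *ᵥ v₁ = v₁) (hg2 : imat Q g *ᵥ v₂ = v₂) : g = 1 := by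
  apply Subtype.ext
  apply Units.ext
  change imat Q g = 1
  apply matrix_ext_mulVec
  intro x
  obtain ⟨s, t, rfl⟩ := plane_expand Q h2 v₁ v₂ hv₁ hv₂ h12 x
  rw [Matrix.one_mulVec, Matrix.mulVec_add, Matrix.mulVec_smul, Matrix.mulVec_smul, hg1, hg2]

/-- a singular vector orthogonal to an anisotropic vector of the plane vanishes -/
theorem plane_singular (h2 : (2 : F) ≠ 0) (hQ : (QuadraticMap.polarBilin Q).Nondegenerate)
    (b x : Fin 2 → F) (hb : Q b ≠ 0) (hbx : QuadraticMap.polar ⇑Q b x = 0) (hx : Q x = 0) :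
    x = 0 := by
  obtain ⟨b', hb', hbb'⟩ := exists_aniso Q h2 hQ 1 (by omega) (fun _ => b)
    (fun i i' h => absurd (Subsingleton.elim i i') h) (fun _ => hb)
  have h12 : QuadraticMap.polar ⇑Q b b' = 0 := hbb' 0
  obtain ⟨s, t, rfl⟩ := plane_expand Q h2 b b' hb hb' h12 x
  have hs : s = 0 := by
    rw [QuadraticMap.polar_add_right, QuadraticMap.polar_smul_right, QuadraticMap.polar_smul_right,
      h12, polar_self', smul_zero, add_zero, smul_eq_mul] at hbx
    rcases mul_eq_zero.mp hbx with h | h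
    · exact h
    · exact absurd h (mul_ne_zero h2 hb)
  subst hs
  rw [zero_smul, zero_add, Q_smul] at hx
  have ht : t = 0 := by
    rcases mul_eq_zero.mp hx with h | h
    · exact mul_self_eq_zero.mp h
    · exact absurd h hb'
  rw [ht, zero_smul, zero_smul, add_zero]

/-- an isometry of the plane fixing an anisotropic vector is trivial or the reflection in the
orthogonal vector -/
theorem plane_fix (h2 : (2 : F) ≠ 0) (v₁ v₂ : Fin 2 → F) (hv₁ : Q v₁ ≠ 0) (hv₂ : Q v₂ ≠ 0)
    (h12 : QuadraticMap.polar ⇑Q v₁ v₂ = 0) (g : ↥(Cfsg.isometryGroup F ⇑Q))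
    (hg1 : imat Q g *ᵥ v₁ = v₁) : g = 1 ∨ g = mkRefl Q v₂ hv₂ := by
  obtain ⟨s, t, hst⟩ := plane_expand Q h2 v₁ v₂ hv₁ hv₂ h12 (imat Q g *ᵥ v₂)
  have hs : s = 0 := by
    have h := pres_polar Q g v₁ v₂
    change QuadraticMap.polar ⇑Q (imat Q g *ᵥ v₁) (imat Q g *ᵥ v₂) = _ at h
    rw [hg1, hst, h12, QuadraticMap.polar_add_right, QuadraticMap.polar_smul_right,
      QuadraticMap.polar_smul_right, h12, polar_self', smul_zero, add_zero, smul_eq_mul] at h
    rcases mul_eq_zero.mp h with h | h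
    · exact h
    · exact absurd h (mul_ne_zero h2 hv₁)
  subst hs
  rw [zero_smul, zero_add] at hst
  have ht : t = 1 ∨ t = -1 := by
    have h := pres Q g v₂
    change Q (imat Q g *ᵥ v₂) = _ at h
    rw [hst, Q_smul] at h
    have : t * t = 1 := by
      have h' : (t * t - 1) * Q v₂ = 0 := by linear_combination h
      rcases mul_eq_zero.mp h' with h'' | h''
      · linear_combination h''
      · exact absurd h'' hv₂
    exact mul_self_eq_one_iff.mp this
  rcases ht with ht | ht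
  · left
    apply plane_eq_one Q h2 v₁ v₂ hv₁ hv₂ h12 g hg1
    rw [hst, ht, one_smul]
  · right
    have h1 : mkRefl Q v₂ hv₂ * g = 1 := by
      apply plane_eq_one Q h2 v₁ v₂ hv₁ hv₂ h12
      · change (Cfsg.reflectionMatrix ⇑Q v₂ * imat Q g) *ᵥ v₁ = v₁
        rw [← Matrix.mulVec_mulVec, hg1]
        apply refl_fix
        rw [QuadraticMap.polar_comm]; exact h12
      · change (Cfsg.reflectionMatrix ⇑Q v₂ * imat Q g) *ᵥ v₂ = v₂
        rw [← Matrix.mulVec_mulVec, hst, ht, neg_one_smul, Matrix.mulVec_neg,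
          (Cfsg.Agent.S0784.result Q v₂ hv₂).2.1, neg_neg]
    calc g = (mkRefl Q v₂ hv₂ * mkRefl Q v₂ hv₂) * g := by rw [mkRefl_mul_self, one_mul]
      _ = mkRefl Q v₂ hv₂ * (mkRefl Q v₂ hv₂ * g) := by rw [mul_assoc]
      _ = mkRefl Q v₂ hv₂ := by rw [h1, mul_one]

theorem det_mkRefl {n : ℕ} (Q : QuadraticForm F (Fin n → F)) (a : Fin n → F) (ha : Q a ≠ 0) :
    (imat Q (mkRefl Q a ha)).det = -1 := by
  classical
  exact (Cfsg.Agent.S0784.result Q a ha).2.2.2

/-- **plane fact**: an isometry of determinant `-1` of a nondegenerate plane is a reflection -/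
theorem plane_det_neg_one (h2 : (2 : F) ≠ 0) (hQ : (QuadraticMap.polarBilin Q).Nondegenerate)
    (g : ↥(Cfsg.isometryGroup F ⇑Q)) (hdet : (imat Q g).det = -1) :
    ∃ (b : Fin 2 → F) (hb : Q b ≠ 0), g = mkRefl Q b hb := by
  classical
  have hne : (-1 : F) ≠ 1 := neg_one_ne_one_of_two h2
  obtain ⟨v₁, v₂, hv₁, hv₂, h12, -, -⟩ := exists_orth_pair Q h2 hQ 0 (by omega) Fin.elim0
    (fun i => i.elim0) (fun i => i.elim0)
  set gv := imat Q g *ᵥ v₁ with hgv
  have hQgv : Q gv = Q v₁ := pres Q g v₁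
  by_cases hcase : Q (v₁ - gv) ≠ 0
  · set r := mkRefl Q (v₁ - gv) hcase with hr
    have hmove : Cfsg.reflectionMatrix ⇑Q (v₁ - gv) *ᵥ v₁ = gv :=
      refl_move1 Q v₁ gv hQgv.symm hcase
    have hfix : imat Q (r * g) *ᵥ v₁ = v₁ := by
      change (Cfsg.reflectionMatrix ⇑Q (v₁ - gv) * imat Q g) *ᵥ v₁ = v₁
      rw [← Matrix.mulVec_mulVec, ← hgv]
      have h3 : Cfsg.reflectionMatrix ⇑Q (v₁ - gv) *ᵥ gv =
          Cfsg.reflectionMatrix ⇑Q (v₁ - gv) *ᵥ (Cfsg.reflectionMatrix ⇑Q (v₁ - gv) *ᵥ v₁) := by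
        rw [hmove]
      rw [h3, Matrix.mulVec_mulVec, refl_refl Q _ hcase, Matrix.one_mulVec]
    have hg : g = r * (r * g) := by rw [← mul_assoc, hr, mkRefl_mul_self, one_mul]
    rcases plane_fix Q h2 v₁ v₂ hv₁ hv₂ h12 (r * g) hfix with h | h
    · refine ⟨v₁ - gv, hcase, ?_⟩
      rw [hg, h, mul_one]
    · exfalso
      rw [h] at hg
      have hd : (imat Q g).det = 1 := by
        rw [hg, imat_mul, Matrix.det_mul, hr, det_mkRefl, det_mkRefl]; ring
      rw [hd] at hdet
      exact hne hdet.symm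
  · push Not at hcase
    have hplus : Q (v₁ + gv) ≠ 0 := by
      intro h0
      have h1 : Q (v₁ + gv) + Q (v₁ - gv) = 2 * Q v₁ + 2 * Q gv := by
        rw [Q_add, Q_sub]; ring
      rw [h0, hcase, hQgv] at h1
      have : (2 * 2) * Q v₁ = 0 := by linear_combination -h1
      rcases mul_eq_zero.mp this with h | h
      · exact mul_ne_zero h2 h2 h
      · exact hv₁ h
    have horth : QuadraticMap.polar ⇑Q (v₁ + gv) (v₁ - gv) = 0 := by
      rw [QuadraticMap.polar_add_left, QuadraticMap.polar_sub_right, QuadraticMap.polar_sub_right,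
        polar_self', polar_self', hQgv, QuadraticMap.polar_comm ⇑Q gv v₁]
      ring
    have hz := plane_singular Q h2 hQ (v₁ + gv) (v₁ - gv) hplus horth hcase
    have hfix : imat Q g *ᵥ v₁ = v₁ := by
      rw [← hgv]
      exact (sub_eq_zero.mp hz).symm
    rcases plane_fix Q h2 v₁ v₂ hv₁ hv₂ h12 g hfix with h | h
    · exfalso
      have hd : (imat Q g).det = 1 := by
        rw [h]
        change (1 : Matrix (Fin 2) (Fin 2) F).det = 1
        exact Matrix.det_one
      rw [hd] at hdet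
      exact hne hdet.symm
    · exact ⟨v₂, hv₂, h⟩

end plane

section final
variable {F : Type*} [Field F] [Fintype F] [DecidableEq F] {n : ℕ}
  (Q : QuadraticForm F (Fin n → F))

/-- the character distinguishing the class of `c` -/
theorem exists_classChar (h2 : (2 : F) ≠ 0) (hQ : (QuadraticMap.polarBilin Q).Nondegenerate)
    (hn : 2 ≤ n) (c : F) (hc : c ≠ 0) :
    ∃ χ : ↥(Cfsg.isometryGroup F ⇑Q) →* ℤˣ, ∀ (a : Fin n → F) (ha : Q a ≠ 0),
      χ (mkRefl Q a ha) = if quadraticChar F (Q a) = quadraticChar F c then 1 else -1 := by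
  obtain ⟨θ, hθ, -, -⟩ := spinor_main Q h2 hQ hn
  by_cases hsq : IsSquare c
  · refine ⟨θ, fun a ha => ?_⟩
    have h1 : quadraticChar F c = 1 := (quadraticChar_one_iff_isSquare hc).mpr hsq
    rw [hθ a ha, h1]
    by_cases hsa : IsSquare (Q a)
    · rw [if_pos hsa, if_pos ((quadraticChar_one_iff_isSquare ha).mpr hsa)]
    · rw [if_neg hsa, if_neg (fun h => hsa ((quadraticChar_one_iff_isSquare ha).mp h))]
  · refine ⟨θ * detSign Q h2 hQ, fun a ha => ?_⟩
    have h1 : quadraticChar F c = -1 := quadraticChar_neg_one_iff_not_isSquare.mpr hsq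
    rw [MonoidHom.mul_apply, hθ a ha, detSign_refl, h1]
    by_cases hsa : IsSquare (Q a)
    · have h3 : quadraticChar F (Q a) = 1 := (quadraticChar_one_iff_isSquare ha).mpr hsa
      rw [if_pos hsa, h3, if_neg (by decide)]
      rfl
    · have h3 : quadraticChar F (Q a) = -1 := quadraticChar_neg_one_iff_not_isSquare.mpr hsa
      rw [if_neg hsa, h3, if_pos rfl]
      rfl

theorem Rc_le_ker (c : F) (hc : c ≠ 0) (χ : ↥(Cfsg.isometryGroup F ⇑Q) →* ℤˣ)
    (hχ : ∀ (a : Fin n → F) (ha : Q a ≠ 0),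
      χ (mkRefl Q a ha) = if quadraticChar F (Q a) = quadraticChar F c then 1 else -1) :
    Rc Q c ≤ χ.ker := by
  unfold Rc
  rw [Subgroup.closure_le]
  rintro s ⟨v, t, ht, hvt, hsv⟩
  have hv : Q v ≠ 0 := by
    rw [hvt]; exact mul_ne_zero hc (pow_ne_zero 2 ht)
  have hs' : s = mkRefl Q v hv := eq_mkRefl Q v hv s hsv
  change χ s = 1
  rw [hs', hχ v hv, if_pos ((sq_class_iff (Q v) c hv hc).mp ⟨t, ht, hvt⟩)]

/-- from the covering property to index two -/
theorem index_Rc_of_cover (h2 : (2 : F) ≠ 0) (hQ : (QuadraticMap.polarBilin Q).Nondegenerate)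
    (hn : 2 ≤ n) (c : F) (hc : c ≠ 0)
    (hcover : ∀ (χ : ↥(Cfsg.isometryGroup F ⇑Q) →* ℤˣ),
      (∀ (a : Fin n → F) (ha : Q a ≠ 0),
        χ (mkRefl Q a ha) = if quadraticChar F (Q a) = quadraticChar F c then 1 else -1) →
      ∀ (u₀ : Fin n → F) (hu₀ : Q u₀ ≠ 0), (¬ ∃ t, t ≠ 0 ∧ Q u₀ = c * t ^ 2) →
      ∀ g, g ∈ Rc Q c ∨ mkRefl Q u₀ hu₀ * g ∈ Rc Q c) :
    (Rc Q c).index = 2 := by
  haveI : NeZero c := ⟨hc⟩
  obtain ⟨χ, hχ⟩ := exists_classChar Q h2 hQ hn c hc
  obtain ⟨ν, hν⟩ := FiniteField.exists_nonsquare (F := F) (ringChar_ne_two h2)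
  have hν0 : ν ≠ 0 := by
    rintro rfl
    exact hν ⟨0, by simp⟩
  obtain ⟨u₀, hu₀⟩ := exists_value Q h2 hQ hn (ν * c)
  have hu₀0 : Q u₀ ≠ 0 := by rw [hu₀]; exact mul_ne_zero hν0 hc
  have hchar : quadraticChar F (Q u₀) ≠ quadraticChar F c := by
    rw [hu₀, map_mul, quadraticChar_neg_one_iff_not_isSquare.mpr hν]
    rcases quadraticChar_dichotomy (F := F) hc with h | h <;> rw [h] <;> decide
  have hcl : ¬ ∃ t, t ≠ 0 ∧ Q u₀ = c * t ^ 2 := by
    rw [sq_class_iff (Q u₀) c hu₀0 hc]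
    exact hchar
  apply index_two_of_cover (Rc Q c) (mkRefl Q u₀ hu₀0)
  · intro hmem
    have h1 := Rc_le_ker Q c hc χ hχ hmem
    change χ (mkRefl Q u₀ hu₀0) = 1 at h1
    rw [hχ u₀ hu₀0, if_neg hchar] at h1
    exact absurd h1 (by decide)
  · exact hcover χ hχ u₀ hu₀0 hcl

/-- index two, for `n ≥ 4` -/
theorem index_Rc_of_four_le (h2 : (2 : F) ≠ 0) (hQ : (QuadraticMap.polarBilin Q).Nondegenerate)
    (hn : 4 ≤ n) (hq : Fintype.card F ≠ 3 ∨ 6 ≤ n) (c : F) (hc : c ≠ 0) :
    (Rc Q c).index = 2 := by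
  haveI : NeZero c := ⟨hc⟩
  apply index_Rc_of_cover Q h2 hQ (by omega) c hc
  intro χ _ u₀ hu₀ hcl g
  exact cover_of_four_le Q h2 hQ hn hq c u₀ hu₀ hcl g

end final

section final2
variable {F : Type*} [Field F] [Fintype F] [DecidableEq F] (Q : QuadraticForm F (Fin 2 → F))

/-- in the plane, the kernel of the class character is `Rc` -/
theorem ker_le_Rc_plane (h2 : (2 : F) ≠ 0) (hQ : (QuadraticMap.polarBilin Q).Nondegenerate)
    (c : F) (hc : c ≠ 0) (χ : ↥(Cfsg.isometryGroup F ⇑Q) →* ℤˣ)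
    (hχ : ∀ (a : Fin 2 → F) (ha : Q a ≠ 0),
      χ (mkRefl Q a ha) = if quadraticChar F (Q a) = quadraticChar F c then 1 else -1)
    (g : ↥(Cfsg.isometryGroup F ⇑Q)) (hg : χ g = 1) : g ∈ Rc Q c := by
  have hneg : ∀ g : ↥(Cfsg.isometryGroup F ⇑Q), χ g = 1 → (imat Q g).det = -1 → g ∈ Rc Q c := by
    intro g hg hdet
    obtain ⟨b, hb, rfl⟩ := plane_det_neg_one Q h2 hQ g hdet
    rw [hχ b hb] at hg
    have hch : quadraticChar F (Q b) = quadraticChar F c := by
      by_contra h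
      rw [if_neg h] at hg
      exact absurd hg (by decide)
    obtain ⟨t, ht, hbt⟩ := (sq_class_iff (Q b) c hb hc).mpr hch
    exact mkRefl_mem_Rc Q c b hb t ht hbt
  have hdet : (imat Q g).det = 1 ∨ (imat Q g).det = -1 := (Cfsg.Agent.S0785.result Q hQ).1 g
  rcases hdet with hdet | hdet
  · obtain ⟨a₀, ha₀⟩ := exists_value Q h2 hQ le_rfl c
    have ha₀0 : Q a₀ ≠ 0 := by rw [ha₀]; exact hc
    have hmem : mkRefl Q a₀ ha₀0 ∈ Rc Q c :=
      mkRefl_mem_Rc Q c a₀ ha₀0 1 one_ne_zero (by rw [ha₀]; ring)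
    have h1 : g * mkRefl Q a₀ ha₀0 ∈ Rc Q c := by
      apply hneg
      · rw [map_mul, hg, one_mul, hχ a₀ ha₀0, if_pos (by rw [ha₀])]
      · rw [imat_mul, Matrix.det_mul, hdet, det_mkRefl, one_mul]
    have := Subgroup.mul_mem _ h1 (Subgroup.inv_mem _ hmem)
    rwa [mul_inv_cancel_right] at this
  · exact hneg g hg hdet

/-- index two, in the plane -/
theorem index_Rc_plane (h2 : (2 : F) ≠ 0) (hQ : (QuadraticMap.polarBilin Q).Nondegenerate)
    (c : F) (hc : c ≠ 0) : (Rc Q c).index = 2 := by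
  apply index_Rc_of_cover Q h2 hQ le_rfl c hc
  intro χ hχ u₀ hu₀ hcl g
  have hu : χ (mkRefl Q u₀ hu₀) = -1 := by
    rw [hχ u₀ hu₀, if_neg]
    rw [← sq_class_iff (Q u₀) c hu₀ hc]
    exact hcl
  rcases Int.units_eq_one_or (χ g) with h | h
  · exact Or.inl (ker_le_Rc_plane Q h2 hQ c hc χ hχ g h)
  · right
    apply ker_le_Rc_plane Q h2 hQ c hc χ hχ
    rw [map_mul, hu, h]
    rfl

end final2

end Cfsg.Agent.Lib.Helper6
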