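import Mathlib
import Cfsg.Prelude.Def_RootSubgroups
import Cfsg.Agent.H26.RootLine3
import Cfsg.Agent.H26.RootSub18
import Cfsg.Agent.S5038

set_option autoImplicit false

/-!
# Comparing the sets `Ω_A` of rank one partners (helper6)

`rop_eq_of_subset` (Lemma K): for commuting members `X, Y` of a set of abstract root subgroups
with a common rank one partner `Z`, `Ω_X ⊆ Ω_Y` forces `Ω_X = Ω_Y`.

`exists_quad`: in the commutator case `(A, E)` (no isolated vertices) there is `D` with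
`Quad S E A ⁅E, A⁆ D`.
-/

namespace Cfsg.Agent.Lib.Helper6.RootOrd

open Cfsg Cfsg.Agent.H26

variable {G : Type*} [Group G] {S : Set (Subgroup G)}

/-- Inclusion of rank one partner sets is invariant under conjugation. -/
lemma rop_cj_subset (hS : IsRootSubgroupSet S) {P Q : Subgroup G}
    (h : rankOnePartners S P ⊆ rankOnePartners S Q) (g : G) :
    rankOnePartners S (cj P g) ⊆ rankOnePartners S (cj Q g) := by
  rintro B ⟨hB, hPB⟩
  have h1 : IsRankOnePair P (cj B g⁻¹) := by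
    have := rankOnePair_cj hPB g⁻¹
    rwa [cj_cj, mul_inv_cancel, cj_one] at this
  have h2 := h ⟨cj_mem_S hS hB g⁻¹, h1⟩
  have h3 := rankOnePair_cj h2.2 g
  rw [cj_cj, inv_mul_cancel, cj_one] at h3
  exact ⟨hB, h3⟩

lemma rop_cj_eq (hS : IsRootSubgroupSet S) {P Q : Subgroup G}
    (h : rankOnePartners S P = rankOnePartners S Q) (g : G) :
    rankOnePartners S (cj P g) = rankOnePartners S (cj Q g) :=
  Set.Subset.antisymm (rop_cj_subset hS h.subset g) (rop_cj_subset hS h.symm.subset g)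

lemma rop_conjBy_eq (hS : IsRootSubgroupSet S) {P Q : Subgroup G}
    (h : rankOnePartners S P = rankOnePartners S Q) (g : G) :
    rankOnePartners S (conjBy P g) = rankOnePartners S (conjBy Q g) := by
  rw [conjBy_eq_cj, conjBy_eq_cj]
  exact rop_cj_eq hS h g⁻¹

/-- **Lemma K.** Commuting members `X`, `Y` with a common rank one partner `Z`:
`Ω_X ⊆ Ω_Y` implies `Ω_X = Ω_Y`. -/
theorem rop_eq_of_subset (hS : IsRootSubgroupSet S) {X Y Z : Subgroup G}
    (hZ : Z ∈ S) (hXY : ∀ x ∈ X, ∀ y ∈ Y, x * y = y * x)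
    (hXZ : IsRankOnePair X Z) (hYZ : IsRankOnePair Y Z)
    (hsub : rankOnePartners S X ⊆ rankOnePartners S Y) :
    rankOnePartners S X = rankOnePartners S Y := by
  have hTmul : ∀ v w : G, rankOnePartners S Z ⊆ rankOnePartners S (cj Z v) →
      rankOnePartners S Z ⊆ rankOnePartners S (cj Z w) →
      rankOnePartners S Z ⊆ rankOnePartners S (cj Z (v * w)) := by
    intro v w hv hw
    have := rop_cj_subset hS hv w
    rw [cj_cj] at this
    exact hw.trans this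
  have hTY : ∀ y ∈ Y, rankOnePartners S Z ⊆ rankOnePartners S (cj Z y) → y = 1 := by
    intro y hy hyT
    by_contra hy1
    have h1 : IsRankOnePair Z (cj Z y) := rankOnePair_cj_self hYZ hy hy1
    have h2 := hyT ⟨cj_mem_S hS hZ y, h1⟩
    exact h2.2.ne rfl
  have hM : ∀ x ∈ X, x ≠ 1 → ∃ y ∈ Y, ∃ k : G, cj X k = Z ∧ cj Y k = cj Z (y * x⁻¹) ∧
      rankOnePartners S Z ⊆ rankOnePartners S (cj Z (y * x⁻¹)) := by
    intro x hx hx1
    obtain ⟨z, hxz⟩ := exists_match_left hXZ hx hx1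
    obtain ⟨y, hyz⟩ := exists_match_right hYZ hxz.2.2.1 hxz.2.2.2.1
    have e1 : cj X (z * x⁻¹) = Z := by
      rw [← cj_cj, hxz.2.2.2.2, cj_cj, mul_inv_cancel, cj_one]
    have e2 : cj Y (z * x⁻¹) = cj Z (y * x⁻¹) := by
      rw [← cj_cj, hyz.2.2.2.2, cj_cj]
    refine ⟨y, hyz.1, z * x⁻¹, e1, e2, ?_⟩
    have := rop_cj_subset hS hsub (z * x⁻¹)
    rwa [e1, e2] at this
  obtain ⟨x, hx, hx1⟩ := rankOne_exists_ne_one hXZ
  obtain ⟨y₁, hy₁, k, hk1, hk2, hv₁⟩ := hM x hx hx1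
  obtain ⟨y₂, hy₂, -, -, -, hv₂⟩ := hM x⁻¹ (inv_mem hx) (inv_ne_one.mpr hx1)
  rw [inv_inv] at hv₂
  have hprod : y₁ * x⁻¹ * (y₂ * x) = y₁ * y₂ := by
    have := hXY x⁻¹ (inv_mem hx) y₂ hy₂
    calc y₁ * x⁻¹ * (y₂ * x) = y₁ * (x⁻¹ * y₂) * x := by group
      _ = y₁ * (y₂ * x⁻¹) * x := by rw [this]
      _ = y₁ * y₂ := by group
  have h12 : y₁ * y₂ = 1 := by
    apply hTY _ (mul_mem hy₁ hy₂)
    have := hTmul _ _ hv₁ hv₂
    rwa [hprod] at this
  have hy₂e : y₂ = y₁⁻¹ := (eq_inv_of_mul_eq_one_right h12)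
  have hinv : y₂ * x = (y₁ * x⁻¹)⁻¹ := by
    have := hXY x hx y₁⁻¹ (inv_mem hy₁)
    rw [hy₂e, mul_inv_rev, inv_inv, this]
  rw [hinv] at hv₂
  -- Ω_Z = Ω_{Z^{v₁}}
  have hback : rankOnePartners S (cj Z (y₁ * x⁻¹)) ⊆ rankOnePartners S Z := by
    have := rop_cj_subset hS hv₂ (y₁ * x⁻¹)
    rwa [cj_cj, inv_mul_cancel, cj_one] at this
  apply Set.Subset.antisymm hsub
  have h3 : rankOnePartners S (cj Y k) ⊆ rankOnePartners S (cj X k) := by
    rw [hk1, hk2]; exact hback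
  have := rop_cj_subset hS h3 k⁻¹
  rwa [cj_cj, cj_cj, mul_inv_cancel, cj_one, cj_one] at this

/-- In the commutator case `(A, E)` (no isolated vertices) there is a member `D` with
`Quad S E A ⁅E, A⁆ D`; in particular `(A, D)` is a rank one pair, `D` commutes with `E`, and
`(⁅E, A⁆, D)` is in the commutator case. -/
theorem exists_quad (hS : IsRootSubgroupSet S) (hall : ∀ A ∈ S, NonIso S A) {A E : Subgroup G}
    (hA : A ∈ S) (hE : E ∈ S) (h : RootCommutatorCase S A E) : ∃ D, Quad S E A ⁅E, A⁆ D := by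
  have hEA : RootCommutatorCase S E A := rcc_symm h
  have hF : ⁅E, A⁆ ∈ S := hEA.1
  have hL : E ∈ linePartners S ⁅E, A⁆ := mem_linePartners_comm hS hE hA hEA (hall E hE)
  have hiso : ∀ A ∈ S, ¬ IsIsolatedIn (FAdj S) S A := by
    intro A hA
    obtain ⟨D, hD, hAD⟩ := hall A hA
    exact fun hi => (hi.2 D).1 ⟨hA, hD, hAD⟩
  have hne : E ≠ ⁅E, A⁆ := rcc_ne hS hEA
  obtain ⟨x, -, hx1, hx2⟩ := Cfsg.Agent.S5038.result hS hiso hF hL E ⟨hE, le_sup_right⟩
    ⁅E, A⁆ ⟨hF, le_sup_left⟩ ⁅E, A⁆ ⟨hF, le_sup_left⟩ E ⟨hE, le_sup_right⟩ hne hne.symm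
  refine ⟨conjBy A x, quad_of hS hE hA hF (hS.conj_mem A hA x) ?_⟩
  calc ⁅conjBy A x, ⁅E, A⁆⁆ = ⁅conjBy A x, conjBy E x⁆ := by rw [hx1]
    _ = conjBy ⁅A, E⁆ x := (map_commutator' (MulAut.conj x).toMonoidHom A E).symm
    _ = conjBy ⁅E, A⁆ x := by rw [Subgroup.commutator_comm]
    _ = E := hx2

end Cfsg.Agent.Lib.Helper6.RootOrd
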