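import Mathlib
import Cfsg.Prelude.Def_RootSubgroups
import Cfsg.Agent.Lib.Helper6.RootOrdA
import Cfsg.Agent.S5041

set_option autoImplicit false

/-!
# `G = ⟨Λ_A, B⟩` for a non-degenerate class of abstract root subgroups (helper6)
-/

namespace Cfsg.Agent.Lib.Helper6.RootGen

open Cfsg Cfsg.Agent.H26 Cfsg.Agent.Lib.Helper6.RootOrd

variable {G : Type*} [Group G] {S : Set (Subgroup G)}

lemma conjBy_comp (A : Subgroup G) (g h : G) : conjBy (conjBy A g) h = conjBy A (h * g) :=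
  Cfsg.Agent.H26.conjBy_conjBy A g h

lemma mem_conjBy_iff {A : Subgroup G} {g x : G} : x ∈ conjBy A g ↔ g⁻¹ * x * g ∈ A := by
  rw [conjBy_eq_cj, mem_cj, inv_inv]

lemma conj_mem_conjBy' {A : Subgroup G} {g x : G} (hx : x ∈ A) : g * x * g⁻¹ ∈ conjBy A g :=
  ⟨x, hx, rfl⟩

/-- Conjugation transports subgroup partitions by members of a conjugation invariant family. -/
lemma partition_conjBy (hS : IsRootSubgroupSet S) {N : Subgroup G}
    (h : IsSubgroupPartition N (membersIn S N)) (g : G) :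
    IsSubgroupPartition (conjBy N g) (membersIn S (conjBy N g)) := by
  refine ⟨fun C hC => hC.2, ?_, ?_⟩
  · intro x hx hx1
    rw [mem_conjBy_iff] at hx
    have hy1 : g⁻¹ * x * g ≠ 1 := by
      intro hh
      apply hx1
      have : x = g * (g⁻¹ * x * g) * g⁻¹ := by group
      rw [this, hh]; group
    obtain ⟨C₀, hC₀, hyC₀⟩ := h.2.1 _ hx hy1
    refine ⟨conjBy C₀ g, ⟨hS.conj_mem C₀ hC₀.1 g, Subgroup.map_mono hC₀.2⟩, ?_⟩
    rw [mem_conjBy_iff]; exact hyC₀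
  · intro C hC D hD hCD
    have hC₀ : conjBy C g⁻¹ ∈ membersIn S N := by
      refine ⟨hS.conj_mem C hC.1 g⁻¹, ?_⟩
      have : conjBy C g⁻¹ ≤ conjBy (conjBy N g) g⁻¹ := Subgroup.map_mono hC.2
      rwa [conjBy_inv_cancel] at this
    have hD₀ : conjBy D g⁻¹ ∈ membersIn S N := by
      refine ⟨hS.conj_mem D hD.1 g⁻¹, ?_⟩
      have : conjBy D g⁻¹ ≤ conjBy (conjBy N g) g⁻¹ := Subgroup.map_mono hD.2
      rwa [conjBy_inv_cancel] at this
    have hne : conjBy C g⁻¹ ≠ conjBy D g⁻¹ := fun hh => hCD (conjBy_injective hh)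
    have hbot := h.2.2 _ hC₀ _ hD₀ hne
    rw [eq_bot_iff]
    rintro x ⟨hxC, hxD⟩
    rw [Subgroup.mem_bot]
    have h1 : g⁻¹ * x * g⁻¹⁻¹ ∈ conjBy C g⁻¹ ⊓ conjBy D g⁻¹ :=
      ⟨conj_mem_conjBy' hxC, conj_mem_conjBy' hxD⟩
    rw [hbot, Subgroup.mem_bot] at h1
    have : x = g * (g⁻¹ * x * g⁻¹⁻¹) * g⁻¹ := by group
    rw [this, h1]; group

/-- `Λ` is conjugation invariant. -/
lemma linePartners_conjBy (hS : IsRootSubgroupSet S) {A B : Subgroup G}
    (h : B ∈ linePartners S A) (g : G) : conjBy B g ∈ linePartners S (conjBy A g) := by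
  obtain ⟨⟨hBS, hBA, hbot⟩, hpart⟩ := h
  refine ⟨⟨hS.conj_mem B hBS g, fun hh => hBA (conjBy_injective hh), ?_⟩, ?_⟩
  · have e : ⁅conjBy A g, conjBy B g⁆ = conjBy ⁅A, B⁆ g :=
      (map_commutator' (MulAut.conj g).toMonoidHom A B).symm
    rw [e, hbot]
    exact Subgroup.map_bot _
  · have e : conjBy A g ⊔ conjBy B g = conjBy (A ⊔ B) g := (Subgroup.map_sup _ _ _).symm
    rw [e]
    exact partition_conjBy hS hpart g

lemma lineCtx_of_linePartners (hS : IsRootSubgroupSet S) {A F : Subgroup G} (hA : A ∈ S)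
    (hF : F ∈ linePartners S A) : LineCtx S (A ⊔ F) := by
  obtain ⟨⟨hFS, -, hbot⟩, hpart⟩ := hF
  refine ⟨comm_sup_of_comm (commSub hS hA) (commSub hS hFS) (comm_of_bot hbot), ?_⟩
  intro x hx hx1
  obtain ⟨C, hC, hxC⟩ := hpart.2.1 x hx hx1
  exact ⟨C, hC.1, hC.2, hxC⟩

/-- For `F ∈ Λ_A` there is `F' ∈ Λ_A` with `⁅F, F'⁆ = A` (commutator case). -/
theorem exists_line_rcc (hS : IsRootSubgroupSet S) (hall : ∀ A ∈ S, NonIso S A)
    {A F : Subgroup G} (hA : A ∈ S) (hF : F ∈ linePartners S A) :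
    ∃ F' ∈ linePartners S A, RootCommutatorCase S F F' ∧ ⁅F, F'⁆ = A := by
  have hiso : ∀ A ∈ S, ¬ IsIsolatedIn (FAdj S) S A := by
    intro A hA
    obtain ⟨D, hD, hAD⟩ := hall A hA
    exact fun hi => (hi.2 D).1 ⟨hA, hD, hAD⟩
  have hN := lineCtx_of_linePartners hS hA hF
  have hFS : F ∈ S := hF.1.1
  have hAF : A ≠ F := Ne.symm hF.1.2.1
  obtain ⟨C, hC, hAC⟩ := hall A hA
  obtain ⟨K, hK, hAK, hKeq⟩ := line_structure hS hall hA hFS hC hAF hN hAC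
  have hP : ⁅A, K⁆ ∈ membersIn S (A ⊔ F) := ⟨hAK.1, hKeq ▸ le_sup_right⟩
  obtain ⟨x, -, hx1, hx2⟩ := Cfsg.Agent.S5038.result hS hiso hA hF A ⟨hA, le_sup_left⟩
    ⁅A, K⁆ hP F ⟨hFS, le_sup_right⟩ A ⟨hA, le_sup_left⟩ (rcc_ne hS hAK) hAF.symm
  have hrcc : RootCommutatorCase S F (conjBy K x) := by
    have := rcc_conjBy hS hAK x
    rwa [hx1] at this
  have hcomm : ⁅F, conjBy K x⁆ = A := by
    calc ⁅F, conjBy K x⁆ = ⁅conjBy A x, conjBy K x⁆ := by rw [hx1]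
      _ = conjBy ⁅A, K⁆ x := (map_commutator' (MulAut.conj x).toMonoidHom A K).symm
      _ = A := hx2
  refine ⟨conjBy K x, ?_, hrcc, hcomm⟩
  have hK'S : conjBy K x ∈ S := hS.conj_mem K hK x
  have := mem_linePartners_comm hS hK'S hFS (rcc_symm hrcc) (hall _ hK'S)
  rwa [Subgroup.commutator_comm, hcomm] at this

/-- In a rank one pair, `B` is conjugate to `A` under `A ⊔ B`. -/
lemma rankOne_conj {A B : Subgroup G} (h : IsRankOnePair A B) : ∃ g ∈ A ⊔ B, B = conjBy A g := by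
  obtain ⟨a, ha, ha1⟩ := rankOne_exists_ne_one h
  obtain ⟨b, hm⟩ := exists_match_left h ha ha1
  refine ⟨a * b⁻¹, mul_mem (Subgroup.mem_sup_left ha) (inv_mem (Subgroup.mem_sup_right hm.2.2.1)), ?_⟩
  have e : cj A b = cj B a := hm.2.2.2.2
  have : B = cj A (b * a⁻¹) := by
    rw [← cj_cj, e, cj_cj, mul_inv_cancel, cj_one]
  rw [this, conjBy_eq_cj]
  congr 1
  group

end Cfsg.Agent.Lib.Helper6.RootGen
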