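import Mathlib
import Cfsg.Prelude.Def_RootSubgroups
import Cfsg.Agent.Lib.Helper6.RootGenA

set_option autoImplicit false

/-!
# `G = ⟨Λ_A, B⟩` and weak TI-subsets (helper6)
-/

namespace Cfsg.Agent.Lib.Helper6.RootGen

open Cfsg Cfsg.Agent.H26 Cfsg.Agent.Lib.Helper6.RootOrd

variable {G : Type*} [Group G] {S : Set (Subgroup G)}

lemma commutator_le_of_le {H K G₀ : Subgroup G} (hH : H ≤ G₀) (hK : K ≤ G₀) : ⁅H, K⁆ ≤ G₀ := by
  rw [Subgroup.commutator_le]
  intro x hx y hy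
  rw [commutatorElement_def]
  exact mul_mem (mul_mem (mul_mem (hH hx) (hK hy)) (inv_mem (hH hx))) (inv_mem (hK hy))

/-- Key claim: every `F ∈ Λ_A` is conjugate to `A` under any subgroup `G₀` containing `Λ_A`, `A` and a
rank one partner `B` of `A`. -/
theorem conj_of_linePartner (hS : IsRootSubgroupSet S) (hall : ∀ A ∈ S, NonIso S A)
    {A B F : Subgroup G} {G₀ : Subgroup G} (hA : A ∈ S) (hB : B ∈ S) (hAB : IsRankOnePair A B)
    (hΛ : ∀ C ∈ linePartners S A, C ≤ G₀) (hAG : A ≤ G₀) (hBG : B ≤ G₀)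
    (hF : F ∈ linePartners S A) : ∃ g ∈ G₀, F = conjBy A g := by
  have hN := lineCtx_of_linePartners hS hA hF
  have hFS : F ∈ S := hF.1.1
  have hAF : A ≠ F := Ne.symm hF.1.2.1
  have hFG : F ≤ G₀ := hΛ F hF
  rcases line_pair hS hall hN hA hFS hB le_sup_left le_sup_right hAF hAB with hFB | hFB
  · -- rank one: F ~ B ~ A
    obtain ⟨g₂, hg₂, e₂⟩ := rankOne_conj hAB
    obtain ⟨g₁, hg₁, e₁⟩ := rankOne_conj (RankOnePair_symm hFB)
    refine ⟨g₁ * g₂, mul_mem ((sup_le hBG hFG) hg₁) ((sup_le hAG hBG) hg₂), ?_⟩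
    rw [e₁, e₂, conjBy_comp]
  · -- commutator case
    obtain ⟨hAD, hADeq⟩ := line_comm_eq hS hall hN hA hFS hB le_sup_left le_sup_right hAF hAB hFB
    obtain ⟨F', hF', hFF', hFF'eq⟩ := exists_line_rcc hS hall hA hF
    have hF'S : F' ∈ S := hF'.1.1
    have hF'G : F' ≤ G₀ := hΛ F' hF'
    obtain ⟨f', hf', hf'1⟩ := exists_ne_one_of_mem hS hF'S
    have hDS : ⁅F, B⁆ ∈ S := hFB.1
    have hDG : ⁅F, B⁆ ≤ G₀ := commutator_le_of_le hFG hBG
    -- D' = conjBy D f'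
    have hD'S : conjBy ⁅F, B⁆ f' ∈ S := hS.conj_mem _ hDS f'
    have hAf' : conjBy A f' = A := by
      apply conjBy_eq_self_of_comm
      intro c hc
      rw [← hFF'eq] at hc
      exact (rcc_central_right hFF' c hc f' hf').symm
    have hAD' : RootCommutatorCase S A (conjBy ⁅F, B⁆ f') := by
      have := rcc_conjBy hS hAD f'
      rwa [hAf'] at this
    have hAD'eq : ⁅A, conjBy ⁅F, B⁆ f'⁆ = conjBy F f' := by
      calc ⁅A, conjBy ⁅F, B⁆ f'⁆ = ⁅conjBy A f', conjBy ⁅F, B⁆ f'⁆ := by rw [hAf']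
        _ = conjBy ⁅A, ⁅F, B⁆⁆ f' := (map_commutator' (MulAut.conj f').toMonoidHom A ⁅F, B⁆).symm
        _ = conjBy F f' := by rw [hADeq]
    have hFmem : F ∈ membersIn S (A ⊔ ⁅A, conjBy ⁅F, B⁆ f'⁆) := by
      refine ⟨hFS, ?_⟩
      rw [hAD'eq]
      intro f hf
      have h1 : f' * f * f'⁻¹ ∈ conjBy F f' := conj_mem_conjBy' hf
      have h2 : f' * f⁻¹ * f'⁻¹ * f ∈ A := by
        have := Subgroup.commutator_mem_commutator hf' (inv_mem hf)
        rw [commutatorElement_def, Subgroup.commutator_comm, hFF'eq, inv_inv] at this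
        exact this
      have e2 : f = (f' * f * f'⁻¹) * (f' * f⁻¹ * f'⁻¹ * f) := by group
      rw [e2]
      exact mul_mem (Subgroup.mem_sup_right h1) (Subgroup.mem_sup_left h2)
    rw [rcc_members hS hA hD'S hAD' (hall A hA)] at hFmem
    rcases hFmem with ⟨d', hd', hd'eq⟩ | hFmem
    · refine ⟨d', ?_, hd'eq.symm⟩
      have hle : conjBy ⁅F, B⁆ f' ≤ G₀ := by
        rintro _ ⟨y, hy, rfl⟩
        exact mul_mem (mul_mem (hF'G hf') (hDG hy)) (inv_mem (hF'G hf'))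
      exact hle hd'
    · exfalso
      have hFe : F = ⁅A, conjBy ⁅F, B⁆ f'⁆ := hFmem
      rw [hAD'eq, conjBy_eq_cj] at hFe
      have := rcc_no_norm hS hFS hFF' (hall F hFS) (inv_mem hf') hFe.symm
      exact hf'1 (inv_eq_one.mp this)

/-- `A ≤ ⟨Λ_A⟩`. -/
theorem le_of_linePartners_le (hS : IsRootSubgroupClass S) (hnd : IsNondegenerateRootSet S)
    {A : Subgroup G} {G₀ : Subgroup G} (hA : A ∈ S)
    (hΛ : ∀ C ∈ linePartners S A, C ≤ G₀) : A ≤ G₀ := by
  have hall := all_nonIso_of_nondegenerate hS hnd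
  obtain ⟨E, hE, hAE⟩ := exists_rcc_partner hS hnd hA
  have hF : ⁅A, E⁆ ∈ linePartners S A := comm_mem_linePartners hS.1 hA hE hAE (hall A hA)
  obtain ⟨F', hF', -, heq⟩ := exists_line_rcc hS.1 hall hA hF
  rw [← heq]
  exact commutator_le_of_le (hΛ _ hF) (hΛ _ hF')

/-- **S5042**: `G = ⟨Λ_A, B⟩`. -/
theorem gen_linePartners (hS : IsRootSubgroupClass S) (hnd : IsNondegenerateRootSet S)
    {A B : Subgroup G} (hA : A ∈ S) (hB : B ∈ rankOnePartners S A) :
    (⨆ C ∈ linePartners S A, C) ⊔ B = ⊤ := by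
  have hall := all_nonIso_of_nondegenerate hS hnd
  set G₀ : Subgroup G := (⨆ C ∈ linePartners S A, C) ⊔ B with hG₀
  have hΛ : ∀ C ∈ linePartners S A, C ≤ G₀ := fun C hC =>
    le_trans (le_biSup (fun C => C) hC) le_sup_left
  have hBG : B ≤ G₀ := le_sup_right
  have hAG : A ≤ G₀ := le_of_linePartners_le hS hnd hA hΛ
  have hE := (Cfsg.Agent.S5041.result hS hnd).1
  have key : ∀ E, Relation.ReflTransGen (EAdj S S) A E → ∃ g ∈ G₀, E = conjBy A g := by
    intro E hpath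
    induction hpath with
    | refl => exact ⟨1, one_mem _, (conjBy_one' A).symm⟩
    | @tail E F _ hstep ih =>
      obtain ⟨g, hg, rfl⟩ := ih
      have hF₀ : conjBy F g⁻¹ ∈ linePartners S A := by
        have := linePartners_conjBy hS.1 hstep.2.2 g⁻¹
        rwa [conjBy_inv_cancel] at this
      obtain ⟨g₀, hg₀, e⟩ := conj_of_linePartner hS.1 hall hA hB.1 hB.2 hΛ hAG hBG hF₀
      refine ⟨g * g₀, mul_mem hg hg₀, ?_⟩
      rw [← conjBy_comp, ← e, conjBy_cancel_inv]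
  rw [eq_top_iff, ← hS.1.generates]
  apply iSup₂_le
  intro E hES
  obtain ⟨g, hg, rfl⟩ := key E (hE A hA E hES)
  rintro _ ⟨y, hy, rfl⟩
  exact mul_mem (mul_mem hg (hAG hy)) (inv_mem hg)

end Cfsg.Agent.Lib.Helper6.RootGen
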