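import Mathlib
import Cfsg.Prelude.Def_RootSubgroups
import Cfsg.Agent.Lib.Helper6.RootGenB

set_option autoImplicit false

/-!
# Weak TI-subsets of a non-degenerate class of abstract root subgroups are abelian (helper6)
-/

namespace Cfsg.Agent.Lib.Helper6.RootGen

open Cfsg Cfsg.Agent.H26 Cfsg.Agent.Lib.Helper6.RootOrd

variable {G : Type*} [Group G] {S : Set (Subgroup G)}

/-- The setwise stabilizer of a family of subgroups under conjugation. -/
def famStab (Δ : Set (Subgroup G)) : Subgroup G where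
  carrier := {g | (fun A => conjBy A g) '' Δ = Δ}
  one_mem' := by
    show (fun A => conjBy A 1) '' Δ = Δ
    have : (fun A : Subgroup G => conjBy A 1) = id := by
      funext A; exact conjBy_one' A
    rw [this, Set.image_id]
  mul_mem' := by
    intro g h hg hh
    show (fun A => conjBy A (g * h)) '' Δ = Δ
    have : (fun A : Subgroup G => conjBy A (g * h)) = (fun A => conjBy A g) ∘ (fun A => conjBy A h) := by
      funext A; exact (conjBy_comp A h g).symm
    rw [this, Set.image_comp]
    have hh' : (fun A => conjBy A h) '' Δ = Δ := hh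
    have hg' : (fun A => conjBy A g) '' Δ = Δ := hg
    rw [hh', hg']
  inv_mem' := by
    intro g hg
    show (fun A => conjBy A g⁻¹) '' Δ = Δ
    have hg' : (fun A => conjBy A g) '' Δ = Δ := hg
    conv_lhs => rw [← hg']
    rw [← Set.image_comp]
    have : (fun A : Subgroup G => conjBy A g⁻¹) ∘ (fun A => conjBy A g) = id := by
      funext A; exact conjBy_inv_cancel A g
    rw [this, Set.image_id]

lemma mem_famStab {Δ : Set (Subgroup G)} {g : G} :
    g ∈ famStab Δ ↔ (fun A => conjBy A g) '' Δ = Δ := Iff.rfl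

lemma conjBy_mem_of_mem_famStab {Δ : Set (Subgroup G)} {g : G} (hg : g ∈ famStab Δ)
    {A : Subgroup G} (hA : A ∈ Δ) : conjBy A g ∈ Δ := by
  have : conjBy A g ∈ (fun A => conjBy A g) '' Δ := ⟨A, hA, rfl⟩
  rwa [mem_famStab.mp hg] at this

/-- A member of `S` normalizing a member of a weak TI-subset `Δ` stabilizes `Δ`. -/
lemma le_famStab_of_normalizes {Δ : Set (Subgroup G)} (hΔ : IsWeakTISubset S Δ)
    {E C : Subgroup G} (hE : E ∈ Δ) (hC : C ∈ S) (hn : ∀ c ∈ C, conjBy E c = E) :
    C ≤ famStab Δ := by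
  intro c hc
  by_cases hc1 : c = 1
  · rw [hc1]; exact one_mem _
  · rcases hΔ.2.2.2 c ⟨hc1, C, hC, hc⟩ with h | h
    · exact h
    · exfalso
      have h1 : E ∈ (fun A => conjBy A c) '' Δ := ⟨E, hE, hn c hc⟩
      exact Set.disjoint_left.mp h h1 hE

/-- No rank one pair inside a weak TI-subset of a non-degenerate class. -/
theorem no_rankOne_in_weakTI (hS : IsRootSubgroupClass S) (hnd : IsNondegenerateRootSet S)
    {Δ : Set (Subgroup G)} (hΔ : IsWeakTISubset S Δ) {A B : Subgroup G} (hA : A ∈ Δ) (hB : B ∈ Δ)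
    (hAB : IsRankOnePair A B) : False := by
  have hAS := hΔ.1 hA
  have hBS := hΔ.1 hB
  have hΛ : ∀ C ∈ linePartners S A, C ≤ famStab Δ := by
    intro C hC
    apply le_famStab_of_normalizes hΔ hA hC.1.1
    intro c hc
    apply conjBy_eq_self_of_comm
    intro a ha
    exact (comm_of_bot hC.1.2.2 a ha c hc).symm
  have hBle : B ≤ famStab Δ := by
    apply le_famStab_of_normalizes hΔ hB hBS
    intro b hb
    apply conjBy_eq_self_of_comm
    intro b' hb'
    exact commSub hS.1 hBS b hb b' hb'
  have htop : famStab Δ = ⊤ := by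
    rw [eq_top_iff, ← gen_linePartners hS hnd hAS ⟨hBS, hAB⟩]
    exact sup_le (iSup₂_le hΛ) hBle
  apply hΔ.2.2.1
  apply Set.Subset.antisymm hΔ.1
  intro E hE
  obtain ⟨g, rfl⟩ := hS.2.2 A hAS E hE
  have hg : g ∈ famStab Δ := by rw [htop]; trivial
  exact conjBy_mem_of_mem_famStab hg hA

/-- **S5040**: weak TI-subsets of a non-degenerate class are abelian. -/
theorem weakTI_abelian (hS : IsRootSubgroupClass S) (hnd : IsNondegenerateRootSet S)
    {Δ : Set (Subgroup G)} (hΔ : IsWeakTISubset S Δ) : IsAbelianFamily Δ := by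
  have hall := all_nonIso_of_nondegenerate hS hnd
  intro A hA B hB
  have hAS := hΔ.1 hA
  have hBS := hΔ.1 hB
  rcases hS.1.pair A hAS B hBS with h | h | h
  · exact comm_of_bot h
  · exact (no_rankOne_in_weakTI hS hnd hΔ hA hB h).elim
  · exfalso
    obtain ⟨D, hq⟩ := exists_quad hS.1 hall hAS hBS h
    have hAD : IsRankOnePair A D := hq.rankOne hS.1
    have hDB := hq.commAD
    have hDle : D ≤ famStab Δ := le_famStab_of_normalizes hΔ hB hq.memD
      (fun d hd => conjBy_eq_self_of_comm (fun b hb => (hDB b hb d hd).symm))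
    have hAle : A ≤ famStab Δ := le_famStab_of_normalizes hΔ hA hAS
      (fun a ha => conjBy_eq_self_of_comm (fun a' ha' => commSub hS.1 hAS a ha a' ha'))
    obtain ⟨g, hg, e⟩ := rankOne_conj hAD
    have hDΔ : D ∈ Δ := by
      rw [e]; exact conjBy_mem_of_mem_famStab ((sup_le hAle hDle) hg) hA
    exact no_rankOne_in_weakTI hS hnd hΔ hA hDΔ hAD

end Cfsg.Agent.Lib.Helper6.RootGen
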