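import Mathlib
import Cfsg.Prelude.Def_RootSubgroups
import Cfsg.Agent.Lib.Helper6.RootOrdA

set_option autoImplicit false

/-!
# `C_Σ(A) ⊆ C_Σ(C)` and `Ω_A ⊆ Ω_C` for a class of abstract root subgroups (helper6)
-/

namespace Cfsg.Agent.Lib.Helper6.RootOrd

open Cfsg Cfsg.Agent.H26

variable {G : Type*} [Group G] {S : Set (Subgroup G)}

lemma mem_centralizingMembers_iff {A B : Subgroup G} :
    B ∈ centralizingMembers S A ↔ B ∈ S ∧ ∀ a ∈ A, ∀ b ∈ B, a * b = b * a := by
  constructor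
  · rintro ⟨hB, hle⟩
    refine ⟨hB, fun a ha b hb => ?_⟩
    exact Subgroup.mem_centralizer_iff.mp (hle hb) a ha
  · rintro ⟨hB, h⟩
    refine ⟨hB, fun b hb => ?_⟩
    rw [Subgroup.mem_centralizer_iff]
    intro a ha
    exact h a ha b hb

/-- `C_Σ(A) ⊆ C_Σ(C)` implies `Ω_C ⊆ Ω_A`. -/
lemma rop_subset_of_cent_subset (hS : IsRootSubgroupSet S) {A C : Subgroup G} (hA : A ∈ S)
    (hC : C ∈ S) (hsub : centralizingMembers S A ⊆ centralizingMembers S C) :
    rankOnePartners S C ⊆ rankOnePartners S A := by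
  rintro B ⟨hB, hCB⟩
  rcases hS.pair A hA B hB with h | h | h
  · exfalso
    have h1 : B ∈ centralizingMembers S A := mem_centralizingMembers_iff.mpr ⟨hB, comm_of_bot h⟩
    have h2 := (mem_centralizingMembers_iff.mp (hsub h1)).2
    exact comm_not_rankOne h2 hCB
  · exact ⟨hB, h⟩
  · exfalso
    have hK : ⁅A, B⁆ ∈ S := h.1
    have h1 : ⁅A, B⁆ ∈ centralizingMembers S A :=
      mem_centralizingMembers_iff.mpr ⟨hK, fun a ha k hk => (rcc_central_left h k hk a ha).symm⟩
    have h2 := (mem_centralizingMembers_iff.mp (hsub h1)).2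
    apply rcc_comm_not_centralizes hS hB hA (rcc_symm h) hC (RankOnePair_symm hCB)
    apply bot_of_comm
    intro k hk c hc
    rw [Subgroup.commutator_comm] at hk
    exact (h2 c hc k hk).symm

/-- Non-degenerate case, rank one partners. -/
theorem nd_rop (hS : IsRootSubgroupClass S) (hnd : IsNondegenerateRootSet S) {A C : Subgroup G}
    (hA : A ∈ S) (hC : C ∈ S)
    (hsub : rankOnePartners S A ⊆ rankOnePartners S C) :
    ⁅A, C⁆ = ⊥ ∧ rankOnePartners S A = rankOnePartners S C := by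
  have hall := all_nonIso_of_nondegenerate hS hnd
  rcases hS.1.pair A hA C hC with h | h | h
  · refine ⟨h, ?_⟩
    obtain ⟨Z, hZ, hAZ⟩ := hall A hA
    have hCZ := (hsub ⟨hZ, hAZ⟩).2
    exact rop_eq_of_subset hS.1 hZ (comm_of_bot h) hAZ hCZ hsub
  · exact absurd rfl (hsub ⟨hC, h⟩).2.ne
  · exfalso
    obtain ⟨D, hq⟩ := exists_quad hS.1 hall hA hC h
    have hAD : IsRankOnePair A D := hq.rankOne hS.1
    have hCD : IsRankOnePair C D := (hsub ⟨hq.memD, hAD⟩).2
    exact comm_not_rankOne hq.commAD hCD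

/-- Degenerate case, rank one partners. -/
theorem dg_rop (hS : IsRootSubgroupClass S) (hdg : IsDegenerateRootSet S) {A C : Subgroup G}
    (hA : A ∈ S) (hC : C ∈ S)
    (hsub : rankOnePartners S A ⊆ rankOnePartners S C) :
    ⁅A, C⁆ = ⊥ ∧ rankOnePartners S A = rankOnePartners S C := by
  rcases hS.1.pair A hA C hC with h | h | h
  · refine ⟨h, ?_⟩
    by_cases hne : (rankOnePartners S A).Nonempty
    · obtain ⟨Z, hZ, hAZ⟩ := hne
      have hCZ := (hsub ⟨hZ, hAZ⟩).2
      exact rop_eq_of_subset hS.1 hZ (comm_of_bot h) hAZ hCZ hsub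
    · apply Set.Subset.antisymm hsub
      rintro B ⟨hB, hCB⟩
      exfalso
      apply hne
      obtain ⟨g, rfl⟩ := hS.2.2 A hA C hC
      rw [conjBy_eq_cj] at hCB
      have := rankOnePair_cj hCB g
      rw [cj_cj, inv_mul_cancel, cj_one] at this
      exact ⟨cj B g, cj_mem_S hS.1 hB g, this⟩
  · exact absurd rfl (hsub ⟨hC, h⟩).2.ne
  · exact absurd h (hdg A hA C hC)

/-- The exceptional configuration in the non-degenerate case: `Ω_A = Ω_C`, `E` commutes with `C`
and `(A, E)` is in the commutator case. -/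
theorem nd_cent_false (hS : IsRootSubgroupSet S) (hall : ∀ A ∈ S, NonIso S A) {A C E : Subgroup G}
    (hA : A ∈ S) (hE : E ∈ S)
    (heq : rankOnePartners S C = rankOnePartners S A)
    (hEC : ∀ c ∈ C, ∀ e ∈ E, c * e = e * c) (h : RootCommutatorCase S A E) : False := by
  have hiso : ∀ A ∈ S, ¬ IsIsolatedIn (FAdj S) S A := by
    intro A hA
    obtain ⟨D, hD, hAD⟩ := hall A hA
    exact fun hi => (hi.2 D).1 ⟨hA, hD, hAD⟩
  have hF : ⁅A, E⁆ ∈ S := h.1
  -- step a
  have hstepa : ∀ e ∈ E, rankOnePartners S (conjBy A e) = rankOnePartners S A := by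
    intro e he
    have h1 := rop_conjBy_eq hS heq e
    have h2 : conjBy C e = C := by
      rw [conjBy_eq_cj]
      apply cj_eq_of_comm
      intro c hc
      exact (hEC c hc e⁻¹ (inv_mem he)).symm
    rw [h2] at h1
    rw [← h1, heq]
  -- step b
  have hL : ⁅A, E⁆ ∈ linePartners S A := comm_mem_linePartners hS hA hE h (hall A hA)
  have hne : A ≠ ⁅A, E⁆ := rcc_ne hS h
  obtain ⟨x, -, hx1, hx2⟩ := Cfsg.Agent.S5038.result hS hiso hA hL A ⟨hA, le_sup_left⟩
    ⁅A, E⁆ ⟨hF, le_sup_right⟩ ⁅A, E⁆ ⟨hF, le_sup_right⟩ A ⟨hA, le_sup_left⟩ hne hne.symm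
  -- step c
  obtain ⟨e, he, he1⟩ := exists_ne_one_of_mem hS hE
  have hPle : conjBy A e ≤ A ⊔ ⁅A, E⁆ := rcc_conj_le he
  have hPx : conjBy (conjBy A e) x ∈ membersIn S (A ⊔ ⁅A, E⁆) := by
    refine ⟨hS.conj_mem _ (hS.conj_mem A hA e) x, ?_⟩
    have h0 : conjBy (conjBy A e) x ≤ conjBy (A ⊔ ⁅A, E⁆) x := Subgroup.map_mono hPle
    have h1 : conjBy (A ⊔ ⁅A, E⁆) x = conjBy A x ⊔ conjBy ⁅A, E⁆ x := Subgroup.map_sup _ _ _
    rw [h1, hx1, hx2, sup_comm] at h0
    exact h0
  have hΩF : rankOnePartners S ⁅A, E⁆ = rankOnePartners S A := by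
    have h1 := rop_conjBy_eq hS (hstepa e he) x
    rw [hx1] at h1
    rw [rcc_members hS hA hE h (hall A hA)] at hPx
    rcases hPx with ⟨e', he', he'eq⟩ | hPx
    · have he'eq' : conjBy A e' = conjBy (conjBy A e) x := he'eq
      rw [← h1, ← he'eq']
      exact hstepa e' he'
    · exfalso
      have hPx' : conjBy (conjBy A e) x = ⁅A, E⁆ := hPx
      rw [← hx1] at hPx'
      have hAe : conjBy A e = A := conjBy_injective hPx'
      rw [conjBy_eq_cj] at hAe
      have := rcc_no_norm hS hA h (hall A hA) (inv_mem he) hAe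
      exact he1 (inv_eq_one.mp this)
  -- step d
  obtain ⟨D, hq⟩ := exists_quad hS hall hA hE h
  have hAD : IsRankOnePair A D := hq.rankOne hS
  have hFD : IsRankOnePair ⁅A, E⁆ D := by
    have : D ∈ rankOnePartners S ⁅A, E⁆ := by rw [hΩF]; exact ⟨hq.memD, hAD⟩
    exact this.2
  have hrcc : RootCommutatorCase S ⁅A, E⁆ D := by
    have := hq.rCD
    rwa [Subgroup.commutator_comm] at this
  exact rcc_not_rankOne hS hq.memD hrcc hFD

/-- Main theorem. -/
theorem main (hS : IsRootSubgroupClass S)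
    (hdn : IsDegenerateRootSet S ∨ IsNondegenerateRootSet S)
    {A C : Subgroup G} (hA : A ∈ S) (hC : C ∈ S) :
    (centralizingMembers S A ⊆ centralizingMembers S C →
      centralizingMembers S A = centralizingMembers S C) ∧
    (rankOnePartners S A ⊆ rankOnePartners S C →
      ⁅A, C⁆ = ⊥ ∧ rankOnePartners S A = rankOnePartners S C) := by
  have H2 : ∀ {A C : Subgroup G}, A ∈ S → C ∈ S →
      rankOnePartners S A ⊆ rankOnePartners S C →
      ⁅A, C⁆ = ⊥ ∧ rankOnePartners S A = rankOnePartners S C := by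
    intro A C hA hC hsub
    rcases hdn with hdg | hnd
    · exact dg_rop hS hdg hA hC hsub
    · exact nd_rop hS hnd hA hC hsub
  refine ⟨?_, H2 hA hC⟩
  intro hsub
  apply Set.Subset.antisymm hsub
  have h1 := rop_subset_of_cent_subset hS.1 hA hC hsub
  obtain ⟨-, heq⟩ := H2 hC hA h1
  intro E hE
  obtain ⟨hES, hEC⟩ := mem_centralizingMembers_iff.mp hE
  rcases hS.1.pair A hA E hES with h | h | h
  · exact mem_centralizingMembers_iff.mpr ⟨hES, comm_of_bot h⟩
  · exfalso
    have : E ∈ rankOnePartners S C := by rw [heq]; exact ⟨hES, h⟩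
    exact comm_not_rankOne hEC this.2
  · exfalso
    rcases hdn with hdg | hnd
    · exact hdg A hA E hES h
    · exact nd_cent_false hS.1 (all_nonIso_of_nondegenerate hS hnd) hA hES heq hEC h

end Cfsg.Agent.Lib.Helper6.RootOrd
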