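import Mathlib
import Cfsg.Prelude.Def_RootSubgroups
import Cfsg.Agent.H26.RankOne4

set_option autoImplicit false

namespace Cfsg.Agent.Helper6.SpecSL2

open Cfsg Cfsg.Agent.H26

variable {G : Type*} [Group G]

/-- `g ^ t` for `t : ZMod p`. -/
def pw (p : ℕ) (g : G) (t : ZMod p) : G := g ^ t.val

section pw

variable {p : ℕ} [Fact p.Prime] {g : G}

lemma pw_add (hg : g ^ p = 1) (t u : ZMod p) : pw p g (t + u) = pw p g t * pw p g u := by
  unfold pw
  rw [ZMod.val_add, ← pow_add, ← pow_eq_pow_mod _ hg]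

lemma pw_zero : pw p g (0 : ZMod p) = 1 := by
  unfold pw; rw [ZMod.val_zero, pow_zero]

lemma pw_one : pw p g (1 : ZMod p) = g := by
  unfold pw
  have : (1 : ZMod p).val = 1 := by
    have hp : 1 < p := (Fact.out : p.Prime).one_lt
    have : Fact (1 < p) := ⟨hp⟩
    exact ZMod.val_one p
  rw [this, pow_one]

lemma pw_neg (hg : g ^ p = 1) (t : ZMod p) : pw p g (-t) = (pw p g t)⁻¹ := by
  have h := pw_add hg (-t) t
  rw [neg_add_cancel, pw_zero] at h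
  exact eq_inv_of_mul_eq_one_left h.symm

lemma pw_mul (hg : g ^ p = 1) (t u : ZMod p) : (pw p g t) ^ u.val = pw p g (t * u) := by
  unfold pw
  rw [ZMod.val_mul, ← pow_mul, ← pow_eq_pow_mod _ hg]

omit [Fact p.Prime] in
lemma pw_pow_p (hg : g ^ p = 1) (t : ZMod p) : (pw p g t) ^ p = 1 := by
  unfold pw
  rw [← pow_mul, mul_comm, pow_mul, hg, one_pow]

lemma pw_ne_one (hg : g ^ p = 1) (hg1 : g ≠ 1) {t : ZMod p} (ht : t ≠ 0) : pw p g t ≠ 1 := by
  intro h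
  have h2 := pw_mul hg t t⁻¹
  rw [h, one_pow, mul_inv_cancel₀ ht, pw_one] at h2
  exact hg1 h2.symm

omit [Fact p.Prime] in
lemma pw_mem {H : Subgroup G} (hg : g ∈ H) (t : ZMod p) : pw p g t ∈ H := pow_mem hg _

end pw

/-- `n a n⁻¹ = b⁻¹` for `n = a b⁻¹ a`. -/
lemma Match.conj_n {A B : Subgroup G} (hs : SAUS A B) {a b : G} (h : Match A B a b) :
    (a * b⁻¹ * a) * a * (a * b⁻¹ * a)⁻¹ = b⁻¹ := by
  have h1 := h.n_eq hs
  calc (a * b⁻¹ * a) * a * (a * b⁻¹ * a)⁻¹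
      = (b⁻¹ * a * b⁻¹) * a * (a * b⁻¹ * a)⁻¹ := by rw [h1]
    _ = b⁻¹ := by group

lemma Match.conj_n_pow {A B : Subgroup G} (hs : SAUS A B) {a b : G} (h : Match A B a b) (k : ℕ) :
    (a * b⁻¹ * a) * a ^ k * (a * b⁻¹ * a)⁻¹ = (b⁻¹) ^ k := by
  have h1 := Match.conj_n hs h
  have h2 := (conj_pow (a := a * b⁻¹ * a) (b := a) (i := k)).symm
  rw [h2, h1]

variable {p : ℕ} [Fact p.Prime]

/-- `b(a^t) = b^{1/t}`. -/
lemma match_pw {A B : Subgroup G} (hs : SAUS A B) {a b : G} (h : Match A B a b)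
    (hap : a ^ p = 1) {t : ZMod p} (ht : t ≠ 0) : Match A B (pw p a t) (pw p b t⁻¹) := by
  have hbp : b ^ p = 1 := (h.pow_eq_one_iff hs p).mp hap
  have hne : a ^ t.val ≠ 1 := pw_ne_one hap h.2.1 ht
  obtain ⟨f, hf, hfb⟩ := powProp_all t.val hs a b h hne
  have hfp : f ^ p = 1 := by
    apply (hf.pow_eq_one_iff hs p).mp
    rw [← pow_mul, mul_comm, pow_mul, hap, one_pow]
  have hfeq : pw p b t⁻¹ = f := by
    have h1 : pw p f t = b := hfb
    rw [← h1]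
    have h2 := pw_mul hfp t t⁻¹
    rw [mul_inv_cancel₀ ht, pw_one] at h2
    exact h2
  rw [hfeq]
  exact hf

/-- The Steinberg relation in a special rank one group with abelian unipotent subgroups. -/
lemma steinberg_rel {A B : Subgroup G} (hs : SAUS A B) {a b : G} (h : Match A B a b)
    (hap : a ^ p = 1) (t u : ZMod p) (ht : t ≠ 0) :
    (pw p a t * pw p b (-t⁻¹) * pw p a t) * pw p a u * (pw p a t * pw p b (-t⁻¹) * pw p a t)⁻¹ *
      (pw p b (-(t⁻¹ ^ 2 * u)))⁻¹ = 1 := by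
  have hbp : b ^ p = 1 := (h.pow_eq_one_iff hs p).mp hap
  have hm := match_pw hs h hap ht
  rw [pw_neg hbp t⁻¹]
  have hu : pw p a u = (pw p a t) ^ (t⁻¹ * u).val := by
    rw [pw_mul hap, ← mul_assoc, mul_inv_cancel₀ ht, one_mul]
  rw [hu, Match.conj_n_pow hs hm, inv_pow, pw_mul hbp, pw_neg hbp, inv_inv]
  have : t⁻¹ * (t⁻¹ * u) = t⁻¹ ^ 2 * u := by ring
  rw [this, inv_mul_cancel]

end Cfsg.Agent.Helper6.SpecSL2
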