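import Mathlib
import Cfsg.Prelude.Def_RootSubgroups
import Cfsg.Agent.Lib.Helper6.SpecSL2A

set_option autoImplicit false

namespace Cfsg.Agent.Helper6.SpecSL2

open Cfsg Cfsg.Agent.H26

variable {G : Type*} [Group G] {A B : Subgroup G}

lemma mem_normalizer_of_cj_eq {K : Subgroup G} {g : G} (h : cj K g = K) :
    g ∈ Subgroup.normalizer (K : Set G) := by
  rw [Subgroup.mem_normalizer_iff]
  intro x
  have : x ∈ cj K g ↔ g * x * g⁻¹ ∈ K := mem_cj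
  rw [h] at this
  exact this

/-- `n(u) n(a)⁻¹` lies in the diagonal subgroup. -/
lemma hua_mem (hs : SAUS A B) {a b u f : G} (h : Match A B a b) (hu : Match A B u f) :
    (u * f⁻¹ * u) * (a * b⁻¹ * a)⁻¹ ∈ rankOneDiagonal A B := by
  have hA1 : cj A (u * f⁻¹ * u) = B := hu.cj_n_left hs
  have hB1 : cj B (u * f⁻¹ * u) = A := hu.cj_n_right hs
  have hA2 : cj B (a * b⁻¹ * a)⁻¹ = A := by
    have := h.cj_n_left hs
    rw [cj_eq_iff] at this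
    exact this.symm
  have hB2 : cj A (a * b⁻¹ * a)⁻¹ = B := by
    have := h.cj_n_right hs
    rw [cj_eq_iff] at this
    exact this.symm
  unfold rankOneDiagonal
  rw [Subgroup.mem_inf, Subgroup.mem_inf]
  refine ⟨⟨?_, ?_⟩, ?_⟩
  · have hA : A ≤ A ⊔ B := le_sup_left
    have hB : B ≤ A ⊔ B := le_sup_right
    exact mul_mem (mul_mem (mul_mem (hA hu.1) (inv_mem (hB hu.2.2.1))) (hA hu.1))
      (inv_mem (mul_mem (mul_mem (hA h.1) (inv_mem (hB h.2.2.1))) (hA h.1)))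
  · apply mem_normalizer_of_cj_eq
    rw [← cj_cj, hA1, hA2]
  · apply mem_normalizer_of_cj_eq
    rw [← cj_cj, hB1, hB2]

/-- `(★')`: `u⁻¹ · n β(u)⁻¹ n⁻¹ ∈ [A, H]`. -/
lemma star (hs : SAUS A B) {a b u f : G} (h : Match A B a b) (hu : Match A B u f) :
    u⁻¹ * ((a * b⁻¹ * a) * f⁻¹ * (a * b⁻¹ * a)⁻¹) ∈ ⁅A, rankOneDiagonal A B⁆ := by
  have hh := hua_mem hs h hu
  have hc := Subgroup.commutator_mem_commutator (inv_mem hu.1) (inv_mem hh)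
  have h1 : u * (u * f⁻¹ * u) = (u * f⁻¹ * u) * f⁻¹ := by
    have := hu.pow_n hs 1
    simpa using this
  have h2 : (u * f⁻¹ * u)⁻¹ * u * (u * f⁻¹ * u) = f⁻¹ := by
    rw [mul_assoc, h1]; group
  rw [commutatorElement_def] at hc
  have : u⁻¹ * ((u * f⁻¹ * u) * (a * b⁻¹ * a)⁻¹)⁻¹ * u⁻¹⁻¹ * ((u * f⁻¹ * u) * (a * b⁻¹ * a)⁻¹)⁻¹⁻¹ =
      u⁻¹ * ((a * b⁻¹ * a) * f⁻¹ * (a * b⁻¹ * a)⁻¹) := by
    calc u⁻¹ * ((u * f⁻¹ * u) * (a * b⁻¹ * a)⁻¹)⁻¹ * u⁻¹⁻¹ * ((u * f⁻¹ * u) * (a * b⁻¹ * a)⁻¹)⁻¹⁻¹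
        = u⁻¹ * ((a * b⁻¹ * a) * ((u * f⁻¹ * u)⁻¹ * u * (u * f⁻¹ * u)) * (a * b⁻¹ * a)⁻¹) := by group
      _ = u⁻¹ * ((a * b⁻¹ * a) * f⁻¹ * (a * b⁻¹ * a)⁻¹) := by rw [h2]
  rw [← this]
  exact hc

/-- `n b n⁻¹ = a⁻¹`. -/
lemma conj_n_b (hs : SAUS A B) {a b : G} (h : Match A B a b) :
    (a * b⁻¹ * a) * b * (a * b⁻¹ * a)⁻¹ = a⁻¹ := by
  have h1 : a * (a * b⁻¹ * a) = (a * b⁻¹ * a) * b⁻¹ := by
    have := h.pow_n hs 1
    simpa using this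
  have h2 : (a * b⁻¹ * a) * b⁻¹ * (a * b⁻¹ * a)⁻¹ = a := by
    rw [← h1]; group
  have h3 := congrArg (fun x => x⁻¹) h2
  simp only [mul_inv_rev, inv_inv] at h3
  rw [← h3]; group

/-- The key consequence of the recursion: `a u⁻² ∈ [A, H]` for distinct `a, u ∈ A#`. -/
lemma sq_mem (hs : SAUS A B) {a u : G} (ha : a ∈ A) (ha1 : a ≠ 1) (hu : u ∈ A) (hu1 : u ≠ 1)
    (hne : u ≠ a) : a * (u ^ 2)⁻¹ ∈ ⁅A, rankOneDiagonal A B⁆ := by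
  obtain ⟨b, h⟩ := exists_match_left hs.pair ha ha1
  obtain ⟨f, hf⟩ := exists_match_left hs.pair hu hu1
  set n := a * b⁻¹ * a with hn
  set v := n⁻¹ * u * n with hv
  have hnA : cj A n = B := h.cj_n_left hs
  have hvB : v ∈ B := by
    rw [← hnA, mem_cj]
    have : n * v * n⁻¹ = u := by rw [hv]; group
    rw [this]; exact hu
  have hvb1 : v * b ≠ 1 := by
    intro hh
    apply hne
    have h1 : a * n = n * b⁻¹ := by
      have := h.pow_n hs 1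
      simpa using this
    have h2 : v = b⁻¹ := eq_inv_of_mul_eq_one_left hh
    have h3 : u = n * v * n⁻¹ := by rw [hv]; group
    rw [h3, h2, ← h1]; group
  obtain ⟨g, hg⟩ := exists_match_left (RankOnePair_symm hs.pair) (mul_mem hvB h.2.2.1) hvb1
  have hE := match_E hs h hf hne (hv) hg
  -- three applications of `star`
  have s0 := star hs h hf
  have s1 := star hs h hE
  have s2 := star hs h hg.symm
  set A₀ := ⁅A, rankOneDiagonal A B⁆ with hA₀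
  set w := n * f⁻¹ * n⁻¹ with hw
  have hgA : g ∈ A := hg.2.2.1
  have hnb : n * b * n⁻¹ = a⁻¹ := conj_n_b hs h
  have hwA : w ∈ A := by
    have hnB : cj B n = A := h.cj_n_right hs
    have : w ∈ cj B n⁻¹ := by
      rw [mem_cj, hw]
      have : n⁻¹ * (n * f⁻¹ * n⁻¹) * n⁻¹⁻¹ = f⁻¹ := by group
      rw [this]; exact inv_mem hf.2.2.1
    have h5 : cj B n⁻¹ = A := by
      have := h.cj_n_left hs
      rw [cj_eq_iff] at this
      exact this.symm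
    rw [h5] at this; exact this
  -- s1 : (g a⁻¹)⁻¹ * (n (f b⁻¹)⁻¹ n⁻¹) ∈ A₀
  have e1 : (g * a⁻¹)⁻¹ * (n * (f * b⁻¹)⁻¹ * n⁻¹) = g⁻¹ * w := by
    have : n * (f * b⁻¹)⁻¹ * n⁻¹ = (n * b * n⁻¹) * (n * f⁻¹ * n⁻¹) := by group
    rw [this, hnb, ← hw]
    have hc : a * g⁻¹ = g⁻¹ * a := hs.commA a ha g⁻¹ (inv_mem hgA)
    calc (g * a⁻¹)⁻¹ * (a⁻¹ * w) = (a * g⁻¹) * a⁻¹ * w := by group
      _ = g⁻¹ * w := by rw [hc]; group
  rw [e1] at s1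
  -- g u⁻¹ ∈ A₀
  have t1 : u⁻¹ * g ∈ A₀ := by
    have : u⁻¹ * g = (u⁻¹ * w) * (g⁻¹ * w)⁻¹ := by group
    rw [this]
    exact mul_mem s0 (inv_mem s1)
  -- s2 : g⁻¹ * (n (v b)⁻¹ n⁻¹) ∈ A₀
  have e2 : g⁻¹ * (n * (v * b)⁻¹ * n⁻¹) = g⁻¹ * (a * u⁻¹) := by
    have h6 : n * (v * b)⁻¹ * n⁻¹ = (n * b * n⁻¹)⁻¹ * (n * v * n⁻¹)⁻¹ := by group
    have h7 : n * v * n⁻¹ = u := by rw [hv]; group
    rw [h6, hnb, h7, inv_inv]
  rw [e2] at s2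
  have : a * (u ^ 2)⁻¹ = (u⁻¹ * g) * (g⁻¹ * (a * u⁻¹)) := by
    have hc2 : u⁻¹ * a = a * u⁻¹ := hs.commA _ (inv_mem hu) _ ha
    calc a * (u ^ 2)⁻¹ = (a * u⁻¹) * u⁻¹ := by group
      _ = (u⁻¹ * a) * u⁻¹ := by rw [hc2]
      _ = (u⁻¹ * g) * (g⁻¹ * (a * u⁻¹)) := by group
  rw [this]
  exact mul_mem t1 s2

lemma comm_aux {M : Type*} [CommGroup M] (a u w : M) :
    w ^ 2 = (a * (w ^ 2)⁻¹) * ((a * (u ^ 2)⁻¹) * (u * (w ^ 2)⁻¹) ^ 2)⁻¹ := by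
  have h : ∀ (a u w : Additive M),
      2 • w = (a + -(2 • w)) + -((a + -(2 • u)) + 2 • (u + -(2 • w))) := by
    intro a u w; abel
  exact h (Additive.ofMul a) (Additive.ofMul u) (Additive.ofMul w)

lemma comm_aux' {M : Type*} [Group M] (hc : ∀ x y : M, x * y = y * x) (a u w : M) :
    w ^ 2 = (a * (w ^ 2)⁻¹) * ((a * (u ^ 2)⁻¹) * (u * (w ^ 2)⁻¹) ^ 2)⁻¹ := by
  let _ : CommGroup M := { ‹Group M› with mul_comm := hc }
  exact comm_aux a u w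

/-- With three distinct non-identity elements, `A ≤ [A, H]`. -/
lemma mem_comm_of_three (hs : SAUS A B) {a u w : G} (ha : a ∈ A) (ha1 : a ≠ 1) (hu : u ∈ A)
    (hu1 : u ≠ 1) (hw : w ∈ A) (hw1 : w ≠ 1) (hau : a ≠ u) (haw : a ≠ w) (huw : u ≠ w) :
    a ∈ ⁅A, rankOneDiagonal A B⁆ := by
  set A₀ := ⁅A, rankOneDiagonal A B⁆ with hA₀
  have p_au := sq_mem hs ha ha1 hu hu1 hau.symm
  have p_aw := sq_mem hs ha ha1 hw hw1 haw.symm
  have p_uw := sq_mem hs hu hu1 hw hw1 huw.symm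
  have p_wu := sq_mem hs hw hw1 hu hu1 huw
  -- w² ∈ A₀
  have hw2 : w ^ 2 ∈ A₀ := by
    have key := comm_aux' (M := ↥A) (fun x y => Subtype.ext (hs.commA x x.2 y y.2))
      ⟨a, ha⟩ ⟨u, hu⟩ ⟨w, hw⟩
    have key2 := congrArg Subtype.val key
    simp only [Subgroup.coe_mul, Subgroup.coe_pow, Subgroup.coe_inv] at key2
    rw [key2]
    exact mul_mem p_aw (inv_mem (mul_mem p_au (pow_mem p_uw 2)))
  -- then u² by symmetry is not needed: a = (a w⁻²) w²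
  have : a = (a * (w ^ 2)⁻¹) * w ^ 2 := by group
  rw [this]
  exact mul_mem p_aw hw2

end Cfsg.Agent.Helper6.SpecSL2
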