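import Mathlib
import Cfsg.Prelude.Def_RootSubgroups
import Cfsg.Agent.Lib.Helper6.RootGenB
import Cfsg.Agent.Lib.Helper6.RootOrdB
import Cfsg.Agent.Lib.Helper6.SpecSL2C
import Cfsg.Agent.Lib.Helper10.Transport
import Cfsg.Agent.S5034
import Cfsg.Agent.S5032

set_option autoImplicit false

/-!
# Quasisimplicity criterion for groups generated by abstract root subgroups (helper6)
-/

namespace Cfsg.Agent.Lib.Helper6.RootSimp

open Cfsg Cfsg.Agent.H26 Cfsg.Agent.Lib.Helper6.RootOrd Cfsg.Agent.Lib.Helper6.RootGen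

variable {G : Type*} [Group G] {S : Set (Subgroup G)}

/-- Perfect + normal dichotomy + non-central ⇒ quasisimple. -/
theorem isQuasisimple_of_dichotomy {X : Type*} [Group X] (hperf : Group.IsPerfect X)
    (hZ : Subgroup.center X ≠ ⊤)
    (hdich : ∀ N : Subgroup X, N.Normal → N = ⊤ ∨ N ≤ Subgroup.center X) : IsQuasisimple X := by
  refine ⟨hperf, ?_⟩
  have : Nontrivial (X ⧸ Subgroup.center X) := by
    by_contra hnt
    rw [not_nontrivial_iff_subsingleton] at hnt
    exact hZ (QuotientGroup.subgroup_eq_top_of_subsingleton _ hnt)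
  refine ⟨fun H hH => ?_⟩
  have hsurj : Function.Surjective (QuotientGroup.mk' (Subgroup.center X)) :=
    QuotientGroup.mk'_surjective _
  set N := H.comap (QuotientGroup.mk' (Subgroup.center X)) with hNdef
  have hN : N.Normal := hH.comap _
  have hHN : H = N.map (QuotientGroup.mk' (Subgroup.center X)) :=
    (Subgroup.map_comap_eq_self_of_surjective hsurj H).symm
  rcases hdich N hN with hNtop | hNZ
  · right
    rw [hHN, hNtop, ← MonoidHom.range_eq_map, MonoidHom.range_eq_top]
    exact hsurj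
  · left
    rw [hHN, eq_bot_iff]
    rintro _ ⟨n, hn, rfl⟩
    rw [Subgroup.mem_bot, QuotientGroup.mk'_apply, QuotientGroup.eq_one_iff]
    exact hNZ hn

/-- `⁅E, F⁆ ≤ N` in terms of the quotient map. -/
lemma comm_le_iff {N : Subgroup G} [N.Normal] {E F : Subgroup G} :
    ⁅E, F⁆ ≤ N ↔ ∀ e ∈ E, ∀ f ∈ F,
      (QuotientGroup.mk' N e) * (QuotientGroup.mk' N f) = (QuotientGroup.mk' N f) * (QuotientGroup.mk' N e) := by
  rw [Subgroup.commutator_le]
  constructor
  · intro h e he f hf
    have h1 := h e he f hf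
    rw [← QuotientGroup.eq_one_iff, commutatorElement_def] at h1
    have h2 : (QuotientGroup.mk' N e) * (QuotientGroup.mk' N f) * (QuotientGroup.mk' N e)⁻¹ *
        (QuotientGroup.mk' N f)⁻¹ = 1 := by
      simpa using h1
    calc (QuotientGroup.mk' N e) * (QuotientGroup.mk' N f)
        = ((QuotientGroup.mk' N e) * (QuotientGroup.mk' N f) * (QuotientGroup.mk' N e)⁻¹ *
          (QuotientGroup.mk' N f)⁻¹) * ((QuotientGroup.mk' N f) * (QuotientGroup.mk' N e)) := by group
      _ = (QuotientGroup.mk' N f) * (QuotientGroup.mk' N e) := by rw [h2, one_mul]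
  · intro h e he f hf
    have h1 := h e he f hf
    rw [← QuotientGroup.eq_one_iff, commutatorElement_def]
    have : ((e * f * e⁻¹ * f⁻¹ : G) : G ⧸ N) = (QuotientGroup.mk' N e) * (QuotientGroup.mk' N f) *
        (QuotientGroup.mk' N e)⁻¹ * (QuotientGroup.mk' N f)⁻¹ := by
      simp
    rw [this, h1]; group

/-- The principle (K): members of `S` commuting modulo `N` commute. -/
def KProp (S : Set (Subgroup G)) (N : Subgroup G) : Prop :=
  ∀ E ∈ S, ∀ F ∈ S, ⁅E, F⁆ ≤ N → ⁅E, F⁆ = ⊥

lemma mk_conj_eq {N : Subgroup G} [N.Normal] {n : G} (hn : n ∈ N) (x : G) :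
    QuotientGroup.mk' N (n * x * n⁻¹) = QuotientGroup.mk' N x := by
  have : QuotientGroup.mk' N n = 1 := (QuotientGroup.eq_one_iff n).mpr hn
  rw [map_mul, map_mul, map_inv, this]; group

/-- A normal subgroup satisfying (K) is central. -/
theorem normal_le_center (hS : IsRootSubgroupSet S) (hall : ∀ A ∈ S, NonIso S A)
    (h2' : ∀ A ∈ S, ∀ C ∈ S, A ≠ C → centralizingMembers S A ≠ centralizingMembers S C)
    {N : Subgroup G} (hN : N.Normal) (hK : KProp S N) : N ≤ Subgroup.center G := by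
  have := hN
  -- Step 1
  have step1 : ∀ n ∈ N, ∀ A ∈ S, conjBy A n = A := by
    intro n hn A hA
    by_contra hne
    have hAn : conjBy A n ∈ S := hS.conj_mem A hA n
    apply h2' A hA (conjBy A n) hAn (Ne.symm hne)
    ext C
    rw [mem_centralizingMembers_iff, mem_centralizingMembers_iff]
    constructor
    · rintro ⟨hC, hcomm⟩
      refine ⟨hC, ?_⟩
      have hle : ⁅conjBy A n, C⁆ ≤ N := by
        rw [comm_le_iff]
        rintro _ ⟨a, ha, rfl⟩ c hc
        show QuotientGroup.mk' N (n * a * n⁻¹) * _ = _ * QuotientGroup.mk' N (n * a * n⁻¹)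
        rw [mk_conj_eq hn, ← map_mul, ← map_mul, hcomm a ha c hc]
      exact comm_of_bot (hK _ hAn C hC hle)
    · rintro ⟨hC, hcomm⟩
      refine ⟨hC, ?_⟩
      have hle : ⁅A, C⁆ ≤ N := by
        rw [comm_le_iff]
        intro a ha c hc
        have h1 := hcomm (n * a * n⁻¹) ⟨a, ha, rfl⟩ c hc
        have h2 := congrArg (QuotientGroup.mk' N) h1
        rw [map_mul (QuotientGroup.mk' N) (n * a * n⁻¹) c, map_mul (QuotientGroup.mk' N) c (n * a * n⁻¹),
          mk_conj_eq hn] at h2
        exact h2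
      exact comm_of_bot (hK A hA C hC hle)
  -- Step 2
  have step2 : ∀ A ∈ S, ∀ e ∈ A, e ∈ N → e = 1 := by
    intro A hA e heA heN
    by_contra he1
    obtain ⟨B, hB, hAB⟩ := hall A hA
    obtain ⟨b, hm⟩ := exists_match_left hAB heA he1
    have hAb : cj A b ∈ S := cj_mem_S hS hA b
    have hle : ⁅cj A b, B⁆ ≤ N := by
      rw [comm_le_iff]
      intro x hx b'' hb''
      rw [hm.2.2.2.2, mem_cj] at hx
      have hx' : QuotientGroup.mk' N x = QuotientGroup.mk' N (e * x * e⁻¹) := (mk_conj_eq heN x).symm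
      rw [hx', ← map_mul, ← map_mul, commSub hS hB _ hx _ hb'']
    have hbot := hK _ hAb B hB hle
    have hr := rankOnePair_cj hAB b
    rw [cj_of_mem hm.2.2.1] at hr
    exact comm_not_rankOne (comm_of_bot hbot) hr
  -- Step 3
  intro n hn
  have hcomm : ∀ A ∈ S, ∀ a ∈ A, n * a = a * n := by
    intro A hA a ha
    have h1 : n * a * n⁻¹ ∈ A := by
      have : n * a * n⁻¹ ∈ conjBy A n := ⟨a, ha, rfl⟩
      rwa [step1 n hn A hA] at this
    have h2 : n * a * n⁻¹ * a⁻¹ ∈ N := by
      have : a * n⁻¹ * a⁻¹ ∈ N := hN.conj_mem _ (inv_mem hn) a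
      have e : n * a * n⁻¹ * a⁻¹ = n * (a * n⁻¹ * a⁻¹) := by group
      rw [e]; exact mul_mem hn this
    have h3 := step2 A hA _ (mul_mem h1 (inv_mem ha)) h2
    calc n * a = (n * a * n⁻¹ * a⁻¹) * (a * n) := by group
      _ = a * n := by rw [h3, one_mul]
  have hle : (⨆ A ∈ S, A) ≤ Subgroup.centralizer {n} := by
    apply iSup₂_le
    intro A hA a ha
    rw [Subgroup.mem_centralizer_singleton_iff]
    exact (hcomm A hA a ha).symm
  rw [hS.generates] at hle
  rw [Subgroup.mem_center_iff]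
  intro g
  have := hle (Subgroup.mem_top g)
  rw [Subgroup.mem_centralizer_singleton_iff] at this
  exact this

/-- A normal subgroup containing a member of a class is everything. -/
lemma eq_top_of_member_le (hS : IsRootSubgroupClass S) {N : Subgroup G} (hN : N.Normal)
    {E : Subgroup G} (hE : E ∈ S) (hEN : E ≤ N) : N = ⊤ := by
  rw [eq_top_iff, ← hS.1.generates]
  apply iSup₂_le
  intro F hF
  obtain ⟨g, rfl⟩ := hS.2.2 E hE F hF
  rintro _ ⟨y, hy, rfl⟩
  exact hN.conj_mem y (hEN hy) g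

/-- (K) in the non-degenerate case. -/
theorem kprop_nd (hS : IsRootSubgroupClass S) (hnd : IsNondegenerateRootSet S)
    {N : Subgroup G} (hN : N.Normal) (hNtop : N ≠ ⊤) : KProp S N := by
  have := hN
  have hall := all_nonIso_of_nondegenerate hS hnd
  intro E hE F hF hle
  rcases hS.1.pair E hE F hF with h | h | h
  · exact h
  · exfalso
    obtain ⟨⟨C, hCL, hCS, hFC⟩, -⟩ := Cfsg.Agent.S5034.result hS hnd hE ⟨hF, h⟩
    have hrFC : RootCommutatorCase S F C := rcc_of_comm_mem hS.1 hF hCS hFC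
    have hrCF : RootCommutatorCase S C F := rcc_symm hrFC
    have hNL := lineCtx_of_linePartners hS.1 hE hCL
    have hEC : E ≠ C := Ne.symm hCL.1.2.1
    obtain ⟨-, heq⟩ := line_comm_eq hS.1 hall hNL hE hCS hF le_sup_left le_sup_right hEC h hrCF
    apply hNtop
    apply eq_top_of_member_le hS hN hCS
    rw [← heq, comm_le_iff]
    -- E commutes modulo N with ⁅C, F⁆
    set K : Subgroup G := (Subgroup.centralizer ((E.map (QuotientGroup.mk' N) : Subgroup (G ⧸ N)) : Set (G ⧸ N))).comap
      (QuotientGroup.mk' N) with hKdef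
    have hCK : C ≤ K := by
      intro c hc
      rw [hKdef, Subgroup.mem_comap, Subgroup.mem_centralizer_iff]
      rintro _ ⟨e, he, rfl⟩
      rw [← map_mul, ← map_mul, comm_of_bot hCL.1.2.2 e he c hc]
    have hFK : F ≤ K := by
      intro f hf
      rw [hKdef, Subgroup.mem_comap, Subgroup.mem_centralizer_iff]
      rintro _ ⟨e, he, rfl⟩
      exact (comm_le_iff.mp hle) e he f hf
    have hDK : ⁅C, F⁆ ≤ K := commutator_le_of_le hCK hFK
    intro e he d hd
    have := hDK hd
    rw [hKdef, Subgroup.mem_comap, Subgroup.mem_centralizer_iff] at this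
    exact this _ ⟨e, he, rfl⟩
  · exfalso
    exact hNtop (eq_top_of_member_le hS hN h.1 hle)

/-- Three distinct non-identity elements. -/
def HasThree (A : Subgroup G) : Prop :=
  ∃ a ∈ A, ∃ u ∈ A, ∃ w ∈ A, a ≠ 1 ∧ u ≠ 1 ∧ w ≠ 1 ∧ a ≠ u ∧ a ≠ w ∧ u ≠ w

lemma hasThree_of_card {A : Subgroup G} (h : 3 < ENat.card A) : HasThree A := by
  have h1 : 3 < ((A : Subgroup G) : Set G).encard := by
    have := h
    rwa [show ENat.card ↥A = ENat.card ↥((A : Subgroup G) : Set G) from rfl, ENat.card_coe_set_eq] at this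
  set T : Set G := ((A : Subgroup G) : Set G) \ {1} with hT
  have h2 : T.encard + 1 = ((A : Subgroup G) : Set G).encard :=
    Set.encard_sdiff_singleton_add_one (one_mem A)
  have h3 : 2 < T.encard := by
    rw [← h2] at h1
    by_contra hcon
    push Not at hcon
    have : T.encard + 1 ≤ 2 + 1 := by gcongr
    have h4 : (2 : ℕ∞) + 1 = 3 := by norm_num
    rw [h4] at this
    exact absurd h1 (not_lt.mpr this)
  have h5 : 1 < T.encard := lt_trans (by norm_num) h3
  obtain ⟨a, u, ha, hu, hau⟩ := Set.one_lt_encard_iff.mp h5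
  have h6 : T.encard ≤ (T \ {a, u}).encard + ({a, u} : Set G).encard :=
    Set.encard_le_encard_sdiff_add_encard T {a, u}
  rw [Set.encard_pair hau] at h6
  have h7 : (T \ {a, u}).Nonempty := by
    rw [← Set.encard_pos]
    by_contra hcon
    push Not at hcon
    have h8 : (T \ {a, u}).encard = 0 := le_antisymm hcon zero_le
    rw [h8, zero_add] at h6
    exact absurd h3 (not_lt.mpr h6)
  obtain ⟨w, hw, hwn⟩ := h7
  have hwa : w ≠ a := fun hh => hwn (Or.inl hh)
  have hwu : w ≠ u := fun hh => hwn (Or.inr hh)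
  exact ⟨a, ha.1, u, hu.1, w, hw.1, ha.2, hu.2, hw.2, hau, hwa.symm, hwu.symm⟩

/-- With three distinct non-identity elements and a special partner, `A ≤ [A, H]`. -/
lemma le_comm_diag {A B : Subgroup G} (hs : SAUS A B) (h3 : HasThree A) :
    A ≤ ⁅A, rankOneDiagonal A B⁆ := by
  obtain ⟨a, ha, u, hu, w, hw, ha1, hu1, hw1, hau, haw, huw⟩ := h3
  intro x hx
  by_cases hx1 : x = 1
  · rw [hx1]; exact one_mem _
  by_cases hxa : x = a
  · rw [hxa]; exact Cfsg.Agent.Helper6.SpecSL2.mem_comm_of_three hs ha ha1 hu hu1 hw hw1 hau haw huw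
  by_cases hxu : x = u
  · rw [hxu]; exact Cfsg.Agent.Helper6.SpecSL2.mem_comm_of_three hs hu hu1 ha ha1 hw hw1 hau.symm huw haw
  by_cases hxw : x = w
  · rw [hxw]; exact Cfsg.Agent.Helper6.SpecSL2.mem_comm_of_three hs hw hw1 ha ha1 hu hu1 haw.symm huw.symm hau
  exact Cfsg.Agent.Helper6.SpecSL2.mem_comm_of_three hs hx hx1 ha ha1 hu hu1 hxa hxu hau

/-- (K) in the large case. -/
theorem kprop_large (hS : IsRootSubgroupClass S)
    (h4 : ∀ A ∈ S, ∀ B ∈ rankOnePartners S A, IsSpecialRankOnePair A B)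
    (h3 : ∀ A ∈ S, HasThree A)
    {N : Subgroup G} (hN : N.Normal) (hNtop : N ≠ ⊤) : KProp S N := by
  have := hN
  intro E hE F hF hle
  rcases hS.1.pair E hE F hF with h | h | h
  · exact h
  · exfalso
    have hs : SAUS E F := saus_of (h4 E hE F ⟨hF, h⟩) ⟨hS.1.commutative E hE, hS.1.commutative F hF⟩
    have hEle := le_comm_diag hs (h3 E hE)
    apply hNtop
    apply eq_top_of_member_le hS hN hE
    refine hEle.trans ?_
    rw [comm_le_iff]
    set K : Subgroup G := (Subgroup.centralizer ((E.map (QuotientGroup.mk' N) : Subgroup (G ⧸ N)) : Set (G ⧸ N))).comap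
      (QuotientGroup.mk' N) with hKdef
    have hEK : E ≤ K := by
      intro c hc
      rw [hKdef, Subgroup.mem_comap, Subgroup.mem_centralizer_iff]
      rintro _ ⟨e, he, rfl⟩
      rw [← map_mul, ← map_mul, commSub hS.1 hE e he c hc]
    have hFK : F ≤ K := by
      intro f hf
      rw [hKdef, Subgroup.mem_comap, Subgroup.mem_centralizer_iff]
      rintro _ ⟨e, he, rfl⟩
      exact (comm_le_iff.mp hle) e he f hf
    have hHK : rankOneDiagonal E F ≤ K := by
      intro x hx
      exact (sup_le hEK hFK) hx.1.1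
    intro e he d hd
    have := hHK hd
    rw [hKdef, Subgroup.mem_comap, Subgroup.mem_centralizer_iff] at this
    exact this _ ⟨e, he, rfl⟩
  · exfalso
    exact hNtop (eq_top_of_member_le hS hN h.1 hle)

end Cfsg.Agent.Lib.Helper6.RootSimp
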