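import Mathlib
import Cfsg.Prelude.Def_RootSubgroups
import Cfsg.Agent.Lib.Helper6.RootSimpA

set_option autoImplicit false

/-!
# Quasisimplicity criterion: assembly (helper6)
-/

namespace Cfsg.Agent.Lib.Helper6.RootSimp

open Cfsg Cfsg.Agent.H26 Cfsg.Agent.Lib.Helper6.RootOrd Cfsg.Agent.Lib.Helper6.RootGen

variable {G : Type*} [Group G] {S : Set (Subgroup G)}

theorem main (hS : IsRootSubgroupSet S) (h2 : ∃ A ∈ S, ∃ B ∈ S, A ≠ B)
    (h1 : IsConnectedFamily (FAdj S) S)
    (h2' : ∀ A ∈ S, ∀ C ∈ S, A ≠ C → centralizingMembers S A ≠ centralizingMembers S C)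
    (h3 : IsDegenerateRootSet S → ∀ A ∈ S, 3 < ENat.card A)
    (h4 : ∀ A ∈ S, ∀ B ∈ rankOnePartners S A, IsSpecialRankOnePair A B) :
    (∀ A ∈ S, commutator G ⊔ A = ⊤ ∧ A ⊓ commutator G ≠ ⊥) ∧ IsQuasisimple ↥(commutator G) ∧
    (IsNondegenerateRootSet S → commutator G = ⊤) ∧
    ((∃ A ∈ S, ∃ B ∈ rankOnePartners S A, Group.IsPerfect ↥(A ⊔ B)) → commutator G = ⊤) := by
  obtain ⟨hclass, A₀, hA₀, hniso⟩ := (Cfsg.Agent.S5032.result hS h2).mp h1
  have hSc : IsRootSubgroupClass S := ⟨hS, hclass⟩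
  have hN₀ : NonIso S A₀ := nonIso_of_not_isolated hA₀ hniso
  have hall : ∀ A ∈ S, NonIso S A := by
    intro A hA
    obtain ⟨g, rfl⟩ := hclass.2 A₀ hA₀ A hA
    exact nonIso_conjBy hS hN₀ g
  have key : commutator G = ⊤ ∧ ∀ N : Subgroup G, N.Normal → N ≠ ⊤ → KProp S N := by
    by_cases hdeg : IsDegenerateRootSet S
    · have h3' : ∀ A ∈ S, HasThree A := fun A hA => hasThree_of_card (h3 hdeg A hA)
      refine ⟨?_, fun N hN hNtop => kprop_large hSc h4 h3' hN hNtop⟩
      rw [eq_top_iff, ← hS.generates]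
      apply iSup₂_le
      intro A hA
      obtain ⟨B, hB, hAB⟩ := hall A hA
      have hs : SAUS A B :=
        saus_of (h4 A hA B ⟨hB, hAB⟩) ⟨hS.commutative A hA, hS.commutative B hB⟩
      exact (le_comm_diag hs (h3' A hA)).trans (Subgroup.commutator_mono le_top le_top)
    · have hnd : IsNondegenerateRootSet S := by
        unfold IsDegenerateRootSet at hdeg
        push Not at hdeg
        obtain ⟨A, hA, B, hB, hAB⟩ := hdeg
        refine ⟨⟨A, hA, ⁅A, B⁆, hAB.1, rcc_ne hS hAB,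
          bot_of_comm (fun a ha k hk => (rcc_central_left hAB k hk a ha).symm)⟩, ?_,
          ⟨A, hA, B, hB, hAB⟩⟩
        obtain ⟨D, hD, hAD⟩ := hall A hA
        exact ⟨A, hA, D, hD, hAD⟩
      refine ⟨?_, fun N hN hNtop => kprop_nd hSc hnd hN hNtop⟩
      rw [eq_top_iff, ← hS.generates]
      apply iSup₂_le
      intro A hA
      obtain ⟨E, hE, hAE⟩ := exists_rcc_partner hSc hnd hA
      have hF := comm_mem_linePartners hS hA hE hAE (hall A hA)
      obtain ⟨F', -, -, heq⟩ := exists_line_rcc hS hall hA hF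
      rw [← heq]
      exact Subgroup.commutator_mono le_top le_top
  obtain ⟨hperf, hK⟩ := key
  have hQ : IsQuasisimple G := by
    apply isQuasisimple_of_dichotomy (Group.isPerfect_def.mpr hperf)
    · intro hZ
      obtain ⟨B, hB, hAB⟩ := hN₀
      apply comm_not_rankOne _ hAB
      intro a _ b _
      have : a ∈ Subgroup.center G := by rw [hZ]; trivial
      exact ((Subgroup.mem_center_iff.mp this) b).symm
    · intro N hN
      by_cases hNtop : N = ⊤
      · exact Or.inl hNtop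
      · exact Or.inr (normal_le_center hS hall h2' hN (hK N hN hNtop))
  refine ⟨?_, ?_, fun _ => hperf, fun _ => hperf⟩
  · intro A hA
    refine ⟨by rw [hperf, top_sup_eq], ?_⟩
    rw [hperf, inf_top_eq]
    exact hS.ne_bot A hA
  · have e : G ≃* ↥(commutator G) :=
      (Subgroup.topEquiv.symm).trans (MulEquiv.subgroupCongr hperf.symm)
    exact Cfsg.Agent.Lib.Helper10.isQuasisimple_of_mulEquiv e hQ

end Cfsg.Agent.Lib.Helper6.RootSimp
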