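import Mathlib
import Cfsg.Prelude.Def_RootSubgroups
import Cfsg.Agent.H26.RankOne3
import Cfsg.Agent.H26.RootSub2

set_option autoImplicit false

/-!
# A criterion for a rank one pair to be special (helper6)

If `(A, B)` is a rank one pair with `B` abelian and some `v` centralizing `A` moves `B` to a
different subgroup `B^v` commuting elementwise with `B`, then `(A, B)` is special.
-/

namespace Cfsg.Agent.Lib.Helper6.RootSpec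

open Cfsg Cfsg.Agent.H26

variable {G : Type*} [Group G]

lemma comm_cj {P Q : Subgroup G} (h : ∀ p ∈ P, ∀ q ∈ Q, p * q = q * p) (g : G) :
    ∀ p ∈ cj P g, ∀ q ∈ cj Q g, p * q = q * p := by
  intro p hp q hq
  rw [mem_cj] at hp hq
  have := h _ hp _ hq
  have e1 : p * q = g⁻¹ * ((g * p * g⁻¹) * (g * q * g⁻¹)) * g := by group
  have e2 : q * p = g⁻¹ * ((g * q * g⁻¹) * (g * p * g⁻¹)) * g := by group
  rw [e1, e2, this]

lemma cj_inj {P Q : Subgroup G} {g : G} (h : cj P g = cj Q g) : P = Q := by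
  have := congrArg (fun X => cj X g⁻¹) h
  simpa [cj_cj, cj_one] using this

lemma inv_comm_of_comm {v a : G} (h : v * a = a * v) : v⁻¹ * a = a * v⁻¹ := by
  calc v⁻¹ * a = v⁻¹ * (a * v) * v⁻¹ := by group
    _ = v⁻¹ * (v * a) * v⁻¹ := by rw [h]
    _ = a * v⁻¹ := by group

/-- For `v` centralizing `A` and a matching pair `A^{b'} = B^{a'}`:
`A^{v⁻¹ b' v b'⁻¹} = ((B^v)^{a'})^{b'⁻¹}`. -/
lemma cj_A_phi {A B : Subgroup G} {v : G} (hvA : ∀ a ∈ A, v * a = a * v)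
    {a' b' : G} (ha' : a' ∈ A) (hm : cj A b' = cj B a') :
    cj A (v⁻¹ * b' * v * b'⁻¹) = cj (cj (cj B v) a') b'⁻¹ := by
  have hv' : ∀ a ∈ A, v⁻¹ * a = a * v⁻¹ := fun a ha => inv_comm_of_comm (hvA a ha)
  have e : a' * v = v * a' := (hvA a' ha').symm
  rw [← cj_cj, ← cj_cj, ← cj_cj, cj_eq_of_comm hv', hm, cj_cj B a' v, e, ← cj_cj B v a']

/-- `A^{v⁻¹ b' v b'⁻¹}` commutes elementwise with `A`. -/
lemma cj_A_phi_comm {A B : Subgroup G} {v : G} (hvA : ∀ a ∈ A, v * a = a * v)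
    (hBv : ∀ x ∈ B, ∀ y ∈ cj B v, x * y = y * x)
    {a' b' : G} (ha' : a' ∈ A) (hm : cj A b' = cj B a') :
    ∀ p ∈ cj A (v⁻¹ * b' * v * b'⁻¹), ∀ q ∈ A, p * q = q * p := by
  rw [cj_A_phi hvA ha' hm]
  have h1 : ∀ p ∈ cj B v, ∀ q ∈ B, p * q = q * p := fun p hp q hq => (hBv q hq p hp).symm
  have h2 := comm_cj (comm_cj h1 a') b'⁻¹
  have e : cj (cj B a') b'⁻¹ = A := by rw [← hm, cj_cj, mul_inv_cancel, cj_one]
  rw [e] at h2
  exact h2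

/-- If `A^{v⁻¹ b' v b'⁻¹} = A` then `b' = 1` (when `B^v ≠ B`). -/
lemma phi_inj {A B : Subgroup G} (h : IsRankOnePair A B) {v : G}
    (hvA : ∀ a ∈ A, v * a = a * v) (hne : cj B v ≠ B) {b' : G} (hb' : b' ∈ B)
    (hfix : cj A (v⁻¹ * b' * v * b'⁻¹) = A) : b' = 1 := by
  by_contra hb1
  obtain ⟨a', ha', -, -, -, hm⟩ := exists_match_right h hb' hb1
  rw [cj_A_phi hvA ha' hm] at hfix
  have h1 : cj (cj B v) a' = cj A b' := by
    have := congrArg (fun X => cj X b') hfix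
    simpa [cj_cj, cj_one] using this
  rw [hm] at h1
  exact hne (cj_inj h1)

/-- **Criterion.** A rank one pair `(A, B)` with `B` abelian is special as soon as some `v`
centralizing `A` moves `B` to a different subgroup commuting elementwise with `B`. -/
theorem special_of_centralizing {A B : Subgroup G} (h : IsRankOnePair A B)
    (hBc : ∀ x ∈ B, ∀ y ∈ B, x * y = y * x) {v : G}
    (hvA : ∀ a ∈ A, v * a = a * v)
    (hBv : ∀ x ∈ B, ∀ y ∈ cj B v, x * y = y * x) (hne : cj B v ≠ B) :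
    IsSpecialRankOnePair A B := by
  refine ⟨h, ?_⟩
  intro a ha ha1 b hb hb1 hab
  change cj A b = cj B a at hab
  -- the element b₂ with a^b = b₂^a
  have hw0 : b⁻¹ * a * b ∈ cj B a := by
    rw [← hab, mem_cj]
    have : b * (b⁻¹ * a * b) * b⁻¹ = a := by group
    rw [this]; exact ha
  rw [mem_cj] at hw0
  obtain ⟨b₂, hb₂⟩ : ∃ b₂, b₂ = a * (b⁻¹ * a * b) * a⁻¹ := ⟨_, rfl⟩
  rw [← hb₂] at hw0
  have hw : b⁻¹ * a * b = a⁻¹ * b₂ * a := by rw [hb₂]; group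
  -- x = b^v, y = b₂^v
  have hxmem : ∀ c ∈ B, v⁻¹ * c * v ∈ cj B v := by
    intro c hc
    rw [mem_cj]
    have : v * (v⁻¹ * c * v) * v⁻¹ = c := by group
    rw [this]; exact hc
  obtain ⟨x, hx⟩ : ∃ x, x = v⁻¹ * b * v := ⟨_, rfl⟩
  obtain ⟨y, hy⟩ : ∃ y, y = v⁻¹ * b₂ * v := ⟨_, rfl⟩
  have hxm : x ∈ cj B v := by rw [hx]; exact hxmem b hb
  have hym : y ∈ cj B v := by rw [hy]; exact hxmem b₂ hw0
  have hxB : ∀ c ∈ B, c * x = x * c := fun c hc => hBv c hc x hxm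
  have hyB : ∀ c ∈ B, c * y = y * c := fun c hc => hBv c hc y hym
  have hva : v * a = a * v := hvA a ha
  have hva' : v * a⁻¹ = a⁻¹ * v := hvA a⁻¹ (inv_mem ha)
  -- s = x b⁻¹, s' = y⁻¹ b₂
  obtain ⟨s, hs⟩ : ∃ s, s = x * b⁻¹ := ⟨_, rfl⟩
  obtain ⟨s', hs'⟩ : ∃ s', s' = y⁻¹ * b₂ := ⟨_, rfl⟩
  have hsB : ∀ c ∈ B, c * s = s * c := by
    intro c hc
    calc c * s = (c * x) * b⁻¹ := by rw [hs]; group
      _ = x * (c * b⁻¹) := by rw [hxB c hc]; group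
      _ = x * (b⁻¹ * c) := by rw [hBc c hc b⁻¹ (inv_mem hb)]
      _ = s * c := by rw [hs]; group
  have hs'B : ∀ c ∈ B, c * s' = s' * c := by
    intro c hc
    have hy' : c * y⁻¹ = y⁻¹ * c := (inv_comm_of_comm (hyB c hc).symm).symm
    calc c * s' = (c * y⁻¹) * b₂ := by rw [hs']; group
      _ = y⁻¹ * (c * b₂) := by rw [hy']; group
      _ = y⁻¹ * (b₂ * c) := by rw [hBc c hc b₂ hw0]
      _ = s' * c := by rw [hs']; group
  -- key element identity (1)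
  have key : b⁻¹ * s⁻¹ * a⁻¹ * s * a * b = a⁻¹ * s' * a := by
    have e0 : (b⁻¹ * a * b)⁻¹ * v * (b⁻¹ * a * b) = (a⁻¹ * b₂ * a)⁻¹ * v * (a⁻¹ * b₂ * a) := by
      rw [hw]
    have eL : (b⁻¹ * a * b)⁻¹ * v * (b⁻¹ * a * b) = v * (x⁻¹ * a⁻¹ * x * b⁻¹ * a * b) := by
      calc (b⁻¹ * a * b)⁻¹ * v * (b⁻¹ * a * b)
          = b⁻¹ * (a⁻¹ * v) * (v⁻¹ * b * v) * b⁻¹ * a * b := by group
        _ = b⁻¹ * (v * a⁻¹) * (v⁻¹ * b * v) * b⁻¹ * a * b := by rw [hva']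
        _ = v * (v⁻¹ * b * v)⁻¹ * a⁻¹ * (v⁻¹ * b * v) * b⁻¹ * a * b := by group
        _ = v * (x⁻¹ * a⁻¹ * x * b⁻¹ * a * b) := by rw [← hx]; group
    have eR : (a⁻¹ * b₂ * a)⁻¹ * v * (a⁻¹ * b₂ * a) = v * (a⁻¹ * y⁻¹ * b₂ * a) := by
      calc (a⁻¹ * b₂ * a)⁻¹ * v * (a⁻¹ * b₂ * a)
          = a⁻¹ * b₂⁻¹ * (a * v) * a⁻¹ * b₂ * a := by group
        _ = a⁻¹ * b₂⁻¹ * (v * a) * a⁻¹ * b₂ * a := by rw [hva]
        _ = (a⁻¹ * v) * (v⁻¹ * b₂ * v)⁻¹ * b₂ * a := by group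
        _ = (v * a⁻¹) * (v⁻¹ * b₂ * v)⁻¹ * b₂ * a := by rw [hva']
        _ = v * (a⁻¹ * y⁻¹ * b₂ * a) := by rw [← hy]; group
    rw [eL, eR] at e0
    have e1 := mul_left_cancel e0
    calc b⁻¹ * s⁻¹ * a⁻¹ * s * a * b = x⁻¹ * a⁻¹ * x * b⁻¹ * a * b := by rw [hs]; group
      _ = a⁻¹ * y⁻¹ * b₂ * a := e1
      _ = a⁻¹ * s' * a := by rw [hs']; group
  -- A^s and A^{s'} in terms of φ
  have hsphi : s = v⁻¹ * b * v * b⁻¹ := by rw [hs, hx]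
  -- the commuting property of A^s with A
  have hAs_comm : ∀ p ∈ cj A s, ∀ q ∈ A, p * q = q * p := by
    rw [hsphi]; exact cj_A_phi_comm hvA hBv ha hab
  -- b₄ matching a⁻¹
  obtain ⟨b₄, -, -, hb₄, -, hm₄⟩ := exists_match_left h (inv_mem ha) (inv_ne_one.mpr ha1)
  -- apply `cj B ·` to key
  have hcj : cj B (b⁻¹ * s⁻¹ * a⁻¹ * s * a * b) = cj B (a⁻¹ * s' * a) := by rw [key]
  have hbinv : cj B b⁻¹ = B := cj_of_mem (inv_mem hb)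
  have hsinvB : cj B s⁻¹ = B := by
    apply cj_eq_of_comm
    intro c hc
    exact inv_comm_of_comm (hsB c hc).symm
  have hE : cj B a⁻¹ = cj A b₄ := hm₄.symm
  have hb₄s : b₄ * s = s * b₄ := hsB b₄ hb₄
  have hb₄s' : b₄ * s' = s' * b₄ := hs'B b₄ hb₄
  have hL : cj B (b⁻¹ * s⁻¹ * a⁻¹ * s * a * b) = cj (cj (cj A s) b₄) a := by
    rw [← cj_cj, ← cj_cj, ← cj_cj, ← cj_cj, ← cj_cj, hbinv, hsinvB, hE, cj_cj A b₄ s, hb₄s,
      ← cj_cj A s b₄]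
    apply cj_eq_of_comm
    -- F commutes with B
    have h1 := comm_cj (comm_cj hAs_comm b₄) a
    have e : cj (cj A b₄) a = B := by rw [← hE, cj_cj, inv_mul_cancel, cj_one]
    rw [e] at h1
    intro p hp
    exact (h1 p hp b hb).symm
  have hR : cj B (a⁻¹ * s' * a) = cj (cj (cj A s') b₄) a := by
    rw [← cj_cj, ← cj_cj, hE, cj_cj A b₄ s', hb₄s', ← cj_cj A s' b₄]
  rw [hL, hR] at hcj
  have hAss' : cj A s = cj A s' := cj_inj (cj_inj hcj)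
  -- so A^{s s'⁻¹} = A
  have hfix : cj A (s * s'⁻¹) = A := by
    rw [← cj_cj, hAss', cj_cj, mul_inv_cancel, cj_one]
  -- s s'⁻¹ = φ((b b₂)⁻¹)
  have hxy : x * y = y * x := comm_cj hBc v x hxm y hym
  have hyb : b⁻¹ * y = y * b⁻¹ := hyB b⁻¹ (inv_mem hb)
  have hb₂y : b₂⁻¹ * y = y * b₂⁻¹ := hyB b₂⁻¹ (inv_mem hw0)
  have hbb₂ : b⁻¹ * b₂⁻¹ = b₂⁻¹ * b⁻¹ := hBc _ (inv_mem hb) _ (inv_mem hw0)
  have hss' : s * s'⁻¹ = v⁻¹ * (b * b₂) * v * (b * b₂)⁻¹ := by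
    have e1 : s * s'⁻¹ = x * (b⁻¹ * b₂⁻¹) * y := by rw [hs, hs']; group
    have e2 : v⁻¹ * (b * b₂) * v * (b * b₂)⁻¹ = x * y * (b₂⁻¹ * b⁻¹) := by rw [hx, hy]; group
    rw [e1, e2, hbb₂]
    calc x * (b₂⁻¹ * b⁻¹) * y = x * b₂⁻¹ * (b⁻¹ * y) := by group
      _ = x * b₂⁻¹ * (y * b⁻¹) := by rw [hyb]
      _ = x * (b₂⁻¹ * y) * b⁻¹ := by group
      _ = x * (y * b₂⁻¹) * b⁻¹ := by rw [hb₂y]
      _ = x * y * (b₂⁻¹ * b⁻¹) := by group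
  rw [hss'] at hfix
  have h3 : b * b₂ = 1 := phi_inj h hvA hne (mul_mem hb hw0) hfix
  have hb₂e : b₂ = b⁻¹ := (eq_inv_of_mul_eq_one_right h3)
  rw [hw, hb₂e]

end Cfsg.Agent.Lib.Helper6.RootSpec
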