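import Cfsg.Agent.Lib.Helper8.S1572Defs
import Cfsg.Agent.Lib.Helper28.M24Words

set_option autoImplicit false
set_option linter.unusedVariables false

/-! S1572 piece [A]: the index of the stabiliser of the standard cross in any overgroup is
congruent to 1 modulo 23 (fixed-point count for the coordinate shift of order 23). -/

namespace Cfsg.Agent.Lib.Helper8.S1572

open Cfsg Cfsg.Agent.Lib.Helper4 Cfsg.Agent.Helper4.CO Cfsg.Agent.Helper4.LC
  Cfsg.Agent.Lib.Helper28 Cfsg.Agent.S0398

namespace Helper6A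

/-- the coordinate shift as an automorphism of the lattice -/
noncomputable def gS : ↥Co0 :=
  ⟨permPerm m24shift m24shift_mem_M24, permPerm_mem m24shift m24shift_mem_M24⟩

theorem m24shift_none : m24shift none = none := rfl

theorem m24shift_some (x : ZMod 23) : m24shift (some x) = some (x + 1) := rfl

theorem m24shift_inv_none : m24shift⁻¹ none = none := by
  rw [Equiv.Perm.inv_eq_iff_eq]; rfl

theorem gS_e8_none : co0Hom gS (e8 none) = e8 none := by
  rw [co0Hom_apply]
  show permPerm m24shift m24shift_mem_M24 (e8 none) = e8 none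
  rw [permPerm_e8, m24shift_inv_none]

theorem gS_mem_Nstd : gS ∈ Nstd := fun v hv => stdCross_of_fix gS none gS_e8_none v hv

theorem m24shift_pow_none (n : ℕ) : (m24shift ^ n) none = none := by
  induction n with
  | zero => rfl
  | succ n ih => rw [pow_succ', Equiv.Perm.mul_apply, ih, m24shift_none]

theorem m24shift_pow_some (n : ℕ) (x : ZMod 23) : (m24shift ^ n) (some x) = some (x + n) := by
  induction n with
  | zero => simp
  | succ n ih =>
    rw [pow_succ', Equiv.Perm.mul_apply, ih, m24shift_some]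
    congr 1
    push_cast
    ring

theorem m24shift_pow_23 : m24shift ^ 23 = 1 := by
  apply Equiv.ext
  intro i
  cases i with
  | none => rw [m24shift_pow_none]; rfl
  | some x =>
    rw [m24shift_pow_some]
    have : ((23 : ℕ) : ZMod 23) = 0 := by decide
    rw [this, add_zero]; rfl

theorem permPerm_pow_apply (σ : Equiv.Perm GolayPt) (hσ : σ ∈ M24) (n : ℕ) (v : ↥leechLattice)
    (i : GolayPt) :
    ((((permPerm σ hσ) ^ n) v : ↥leechLattice) : GolayPt → ℤ) i =
      (v : GolayPt → ℤ) ((σ ^ n) i) := by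
  induction n generalizing v with
  | zero => rfl
  | succ n ih =>
    rw [pow_succ, Equiv.Perm.mul_apply, ih, pow_succ', Equiv.Perm.mul_apply]
    rfl

theorem gS_pow_23 : gS ^ 23 = 1 := by
  apply Subtype.ext
  show (permPerm m24shift m24shift_mem_M24) ^ 23 = 1
  apply Equiv.ext
  intro v
  apply Subtype.ext
  funext i
  rw [permPerm_pow_apply, m24shift_pow_23]
  rfl

theorem isPGroup_zpowers {G : Type*} [Group G] (x : G) (hx : x ^ 23 = 1) :
    IsPGroup 23 ↥(Subgroup.zpowers x) := by
  rintro ⟨y, hy⟩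
  obtain ⟨z, rfl⟩ := Subgroup.mem_zpowers_iff.1 hy
  refine ⟨1, Subtype.ext ?_⟩
  show (x ^ z) ^ 23 ^ 1 = 1
  rw [pow_one, ← zpow_natCast, ← zpow_mul, mul_comm, zpow_mul, zpow_natCast, hx, one_zpow]

theorem sqNorm_neg' (x : GolayPt → ℤ) : sqNorm (-x) = sqNorm x := by
  unfold sqNorm
  apply Finset.sum_congr rfl
  intro i _
  rw [Pi.neg_apply, neg_sq]

theorem cross_neg {x : GolayPt → ℤ} (hx : x ∈ leechLattice) : cross (-x) = cross x := by
  ext y
  constructor
  · rintro ⟨hy, hn, z, hz, he⟩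
    refine ⟨hy, by rw [hn, sqNorm_neg'], z + x, leechLattice.add_mem hz hx, ?_⟩
    have : x - y = (-x - y) + 2 • x := by rw [two_nsmul]; abel
    rw [this, he, smul_add]
  · rintro ⟨hy, hn, z, hz, he⟩
    refine ⟨hy, by rw [hn, sqNorm_neg'], z - x, leechLattice.sub_mem hz hx, ?_⟩
    have : -x - y = (x - y) - 2 • x := by rw [two_nsmul]; abel
    rw [this, he, smul_sub]

theorem cross_of_mem_stdCross (y : GolayPt → ℤ) (hy : y ∈ stdCross) : cross y = stdCross := by
  obtain ⟨i, s, hs, rfl⟩ := hy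
  rcases hs with rfl | rfl
  · exact cross_single i
  · have h : (Pi.single i 8 : GolayPt → ℤ) ∈ leechLattice := (e8 i).2
    rw [single_neg_eight, cross_neg h]
    exact cross_single i

/-- an automorphism sending one vector of the standard cross into the standard cross stabilises
the standard cross -/
theorem mem_Nstd_of_one (k : ↥Co0) (v : ↥leechLattice) (hv : (v : GolayPt → ℤ) ∈ stdCross)
    (hu : ((co0Hom k v : ↥leechLattice) : GolayPt → ℤ) ∈ stdCross) : k ∈ Nstd := by
  intro w hw
  show ((co0Hom k w : ↥leechLattice) : GolayPt → ℤ) ∈ stdCross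
  rw [← cross_of_mem_stdCross _ hu]
  apply smul_mem_cross
  rw [cross_of_mem_stdCross _ hv]
  exact hw

theorem int_sq_aux (a b : ℤ) (h : a ^ 2 + 23 * b ^ 2 = 64) : b = 0 ∧ (a = 8 ∨ a = -8) := by
  have hb1 : -1 ≤ b := by nlinarith
  have hb2 : b ≤ 1 := by nlinarith
  have ha1 : -8 ≤ a := by nlinarith
  have ha2 : a ≤ 8 := by nlinarith
  interval_cases b <;> interval_cases a <;> omega

/-- a vector of the lattice fixed by the shift, of norm 64, is in the standard cross -/
theorem mem_stdCross_of_shift_fixed (u : ↥leechLattice)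
    (hfix : co0Hom gS u = u) (hn : sqNorm (u : GolayPt → ℤ) = 64) :
    (u : GolayPt → ℤ) ∈ stdCross := by
  have h1 : ∀ i : GolayPt, (u : GolayPt → ℤ) (m24shift i) = (u : GolayPt → ℤ) i := by
    intro i
    have := congrArg (fun w : ↥leechLattice => (w : GolayPt → ℤ) i) hfix
    exact this
  have h2 : ∀ n : ℕ, (u : GolayPt → ℤ) (some (n : ZMod 23)) = (u : GolayPt → ℤ) (some 0) := by
    intro n
    induction n with
    | zero => simp
    | succ n ih =>
      rw [← ih, ← h1 (some (n : ZMod 23)), m24shift_some]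
      push_cast
      rfl
  have h3 : ∀ x : ZMod 23, (u : GolayPt → ℤ) (some x) = (u : GolayPt → ℤ) (some 0) := by
    intro x
    have := h2 x.val
    rwa [ZMod.natCast_zmod_val] at this
  set a := (u : GolayPt → ℤ) none with ha
  set b := (u : GolayPt → ℤ) (some 0) with hb
  have h4 : a ^ 2 + 23 * b ^ 2 = 64 := by
    rw [← hn]
    unfold sqNorm
    rw [Fintype.sum_option]
    congr 1
    rw [Finset.sum_congr rfl (fun x _ => by rw [h3 x])]
    rw [Finset.sum_const, Finset.card_univ, ZMod.card, nsmul_eq_mul]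
    push_cast
    rfl
  have hb0 : b = 0 ∧ (a = 8 ∨ a = -8) := int_sq_aux a b h4
  refine ⟨none, a, hb0.2, ?_⟩
  funext i
  cases i with
  | none => rw [Pi.single_eq_same]
  | some x =>
    rw [Pi.single_eq_of_ne (by simp), h3 x]
    exact hb0.1

/-- the vectors of the standard cross, inside the lattice -/
def crossSet : Set ↥leechLattice := {v | (v : GolayPt → ℤ) ∈ stdCross}

theorem ncard_crossSet : crossSet.ncard = 48 := by
  have h : crossSet = (Subtype.val : ↥leechLattice → (GolayPt → ℤ)) ⁻¹' stdCross := rfl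
  rw [h, Set.ncard_preimage_of_injective_subset_range Subtype.val_injective, ncard_stdCross]
  rintro y ⟨i, s, hs, rfl⟩
  exact ⟨⟨_, single_mem i s hs⟩, rfl⟩

/-- the action of a subgroup of the stabiliser on the vectors of the standard cross -/
def crossSub (P : Subgroup ↥Co0) (hPN : ∀ c ∈ P, c ∈ Nstd) : SubMulAction ↥P ↥leechLattice where
  carrier := crossSet
  smul_mem' := fun c v hv => hPN c.1 c.2 v hv

theorem exists_fixed (P : Subgroup ↥Co0) (hP : IsPGroup 23 ↥P) (hPN : ∀ c ∈ P, c ∈ Nstd) :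
    ∃ v : ↥leechLattice, (v : GolayPt → ℤ) ∈ stdCross ∧ ∀ c ∈ P, c • v = v := by
  have : Fact (Nat.Prime 23) := ⟨by norm_num⟩
  letI : MulAction ↥P ↥(crossSub P hPN) := SubMulAction.mulAction (crossSub P hPN)
  have hcard : Nat.card ↥(crossSub P hPN) = 48 := by
    have : Nat.card ↥(crossSub P hPN) = Nat.card ↥crossSet := rfl
    rw [this, Nat.card_coe_set_eq, ncard_crossSet]
  have hnd : ¬ 23 ∣ Nat.card ↥(crossSub P hPN) := by rw [hcard]; norm_num
  obtain ⟨⟨v, hv⟩, hfix⟩ := hP.nonempty_fixed_point_of_prime_not_dvd_card ↥(crossSub P hPN) hnd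
  refine ⟨v, hv, fun c hc => ?_⟩
  have := hfix ⟨c, hc⟩
  exact congrArg Subtype.val this

/-- the key step: if a conjugate of the shift stabilises the standard cross, so does the
conjugating element -/
theorem mem_Nstd_of_conj (H : Subgroup ↥Co0) (hH : (H : Set ↥Co0) = Nstd) (k : ↥Co0)
    (hk : k⁻¹ * gS * k ∈ H) : k ∈ Nstd := by
  have hmem : ∀ c, c ∈ H ↔ c ∈ Nstd := fun c => by rw [← hH]; rfl
  set h := k⁻¹ * gS * k with hh
  have h23 : h ^ 23 = 1 := by
    have : h = k⁻¹ * gS * (k⁻¹)⁻¹ := by rw [inv_inv]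
    rw [this, conj_pow, gS_pow_23, mul_one, inv_inv, inv_mul_cancel]
  have hP := isPGroup_zpowers h h23
  have hPN : ∀ c ∈ Subgroup.zpowers h, c ∈ Nstd := fun c hc =>
    (hmem c).1 ((Subgroup.zpowers_le.2 hk) hc)
  obtain ⟨v, hv, hfix⟩ := exists_fixed (Subgroup.zpowers h) hP hPN
  have hv1 : h • v = v := hfix h (Subgroup.mem_zpowers h)
  -- `u = k v` is fixed by the shift
  have hu : co0Hom gS (co0Hom k v) = co0Hom k v := by
    have h1 : (k * h) • v = k • v := by rw [mul_smul, hv1]
    have h2 : k * h = gS * k := by rw [hh]; group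
    rw [h2, mul_smul] at h1
    exact h1
  have hn : sqNorm ((co0Hom k v : ↥leechLattice) : GolayPt → ℤ) = 64 := by
    rw [co0_sqNorm]
    obtain ⟨i, s, hs, he⟩ := hv
    rw [he]; exact sqNorm_single i s hs
  exact mem_Nstd_of_one k v hv (mem_stdCross_of_shift_fixed _ hu hn)

end Helper6A

open Helper6A in
/-- [A] -/
theorem relIndex_mod23 [Finite ↥Co0] (H K : Subgroup ↥Co0) (hH : (H : Set ↥Co0) = Nstd)
    (hHK : H ≤ K) : H.relIndex K % 23 = 1 := by
  have hmem : ∀ c, c ∈ H ↔ c ∈ Nstd := fun c => by rw [← hH]; rfl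
  have hgH : gS ∈ H := (hmem _).2 gS_mem_Nstd
  have hg23 : (⟨gS, hHK hgH⟩ : ↥K) ^ 23 = 1 := Subtype.ext gS_pow_23
  have hP := isPGroup_zpowers (⟨gS, hHK hgH⟩ : ↥K) hg23
  have : Fact (Nat.Prime 23) := ⟨by norm_num⟩
  have key := hP.card_modEq_card_fixedPoints (↥K ⧸ H.subgroupOf K)
  have hfp : MulAction.fixedPoints ↥(Subgroup.zpowers (⟨gS, hHK hgH⟩ : ↥K))
      (↥K ⧸ H.subgroupOf K) = {((1 : ↥K) : ↥K ⧸ H.subgroupOf K)} := by
    ext q
    constructor
    · intro hq
      induction q using QuotientGroup.induction_on with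
      | H k =>
        have h1 := hq ⟨_, Subgroup.mem_zpowers (⟨gS, hHK hgH⟩ : ↥K)⟩
        have h2 : (((⟨gS, hHK hgH⟩ : ↥K) * k : ↥K) : ↥K ⧸ H.subgroupOf K) =
            (k : ↥K ⧸ H.subgroupOf K) := h1
        rw [QuotientGroup.eq, Subgroup.mem_subgroupOf] at h2
        have h3 := H.inv_mem h2
        have h4 : (k : ↥Co0)⁻¹ * gS * (k : ↥Co0) ∈ H := by
          have : (k : ↥Co0)⁻¹ * gS * (k : ↥Co0) =
              (((((⟨gS, hHK hgH⟩ : ↥K) * k)⁻¹ * k : ↥K) : ↥Co0))⁻¹ := by
            push_cast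
            group
          rw [this]; exact h3
        have h5 : (k : ↥Co0) ∈ H := (hmem _).2 (mem_Nstd_of_conj H hH k h4)
        rw [Set.mem_singleton_iff]
        symm
        rw [QuotientGroup.eq, Subgroup.mem_subgroupOf]
        simpa using h5
    · intro hq
      rw [Set.mem_singleton_iff] at hq
      subst hq
      rintro ⟨p, hp⟩
      have hle : Subgroup.zpowers (⟨gS, hHK hgH⟩ : ↥K) ≤ H.subgroupOf K := by
        rw [Subgroup.zpowers_le, Subgroup.mem_subgroupOf]
        exact hgH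
      have hpL := hle hp
      show ((p * 1 : ↥K) : ↥K ⧸ H.subgroupOf K) = ((1 : ↥K) : ↥K ⧸ H.subgroupOf K)
      rw [QuotientGroup.eq]
      simpa using (H.subgroupOf K).inv_mem hpL
  rw [hfp, Nat.card_coe_set_eq, Set.ncard_singleton] at key
  have : H.relIndex K = Nat.card (↥K ⧸ H.subgroupOf K) := rfl
  rw [this]
  exact key

end Cfsg.Agent.Lib.Helper8.S1572
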