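import Cfsg.Agent.Lib.Helper8.ChevPack
import Cfsg.Prelude.Def_ChevStructure
import Cfsg.Prelude.Def_ChevG2
import Cfsg.Prelude.Def_ChevB2
import Cfsg.Prelude.Def_ChevD4
import Cfsg.Prelude.Def_ChevF4
import Cfsg.Prelude.Def_ChevE6
import Cfsg.Prelude.Def_ChevE7
import Cfsg.Prelude.Def_ChevE8

/-!
# S2244 farm-out (architect helper26): FO-2 `asc_witness`

Every positive root which is not fundamental is a term, with coefficient `±1`, of the commutator
formula of two smaller positive roots, and the terms of that formula come in increasing order.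
One witness pair `(r1, r2)` per root, checked by `decide +kernel` on the seven tables.
-/

set_option autoImplicit false

namespace Cfsg.Agent.Lib.Helper6.S2244B

open Cfsg Cfsg.Lie Matrix Cfsg.Agent.Lib.Helper8.Chev

/-- the property of a witness pair -/
def AscP (D : ChevalleyDatum) (r r1 r2 : ℕ) : Prop :=
  D.nroots / 2 ≤ r1 ∧ r1 < r ∧ D.nroots / 2 ≤ r2 ∧ r2 < r ∧ r1 ≠ r2 ∧
    (D.commTerms r1 r2).Pairwise (fun a b => a.1 < b.1) ∧
    (∀ c ∈ D.commTerms r1 r2, r1 < c.1 ∧ r2 < c.1 ∧ c.1 < D.nroots) ∧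
    ∃ c ∈ D.commTerms r1 r2, c.1 = r ∧ (c.2.1 = 1 ∨ c.2.1 = -1)

instance (D : ChevalleyDatum) (r r1 r2 : ℕ) : Decidable (AscP D r r1 r2) := by
  unfold AscP
  infer_instance

/-- `r` is a fundamental root -/
def IsSimp (D : ChevalleyDatum) (r : ℕ) : Prop := ∃ i, i < D.rank ∧ r = D.simple i

instance (D : ChevalleyDatum) (r : ℕ) : Decidable (IsSimp D r) := by
  unfold IsSimp
  infer_instance

/-- the table check -/
noncomputable def checkAsc (D : ChevalleyDatum) (tbl : List (ℕ × ℕ)) : Bool :=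
  forallLtF (fun r => Nat.blt r (D.nroots / 2) || decide (IsSimp D r) ||
    decide (AscP D r (nthF (0, 0) tbl r).1 (nthF (0, 0) tbl r).2)) D.nroots

theorem asc_of_check {D : ChevalleyDatum} {tbl : List (ℕ × ℕ)} (h : checkAsc D tbl = true)
    {r : ℕ} (hr : D.nroots / 2 ≤ r) (hrn : r < D.nroots) (hns : ∀ i < D.rank, r ≠ D.simple i) :
    ∃ r1 r2, AscP D r r1 r2 := by
  simp only [checkAsc, forallLtF_eq_true, Bool.or_eq_true, decide_eq_true_eq, Nat.blt_eq] at h
  rcases h r hrn with (h | h) | h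
  · omega
  · obtain ⟨i, hi, hri⟩ := h
    exact absurd hri (hns i hi)
  · exact ⟨_, _, h⟩

/-- the witness table of `chevG2` -/
def tblG2 : List (ℕ × ℕ) :=
  [(0, 0), (0, 0), (0, 0), (0, 0), (0, 0), (0, 0), (0, 0), (0, 0), (6, 7), (6, 7), (6, 7), (6, 10)]

set_option maxRecDepth 100000 in
theorem checkAsc_G2 : checkAsc chevG2 tblG2 = true := by decide +kernel

/-- the witness table of `chevB2` -/
def tblB2 : List (ℕ × ℕ) :=
  [(0, 0), (0, 0), (0, 0), (0, 0), (0, 0), (0, 0), (4, 5), (4, 5)]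

set_option maxRecDepth 100000 in
theorem checkAsc_B2 : checkAsc chevB2 tblB2 = true := by decide +kernel

/-- the witness table of `chevD4` -/
def tblD4 : List (ℕ × ℕ) :=
  [(0, 0), (0, 0), (0, 0), (0, 0), (0, 0), (0, 0), (0, 0), (0, 0), (0, 0), (0, 0), (0, 0), (0, 0), (0, 0), (0, 0), (0, 0), (12, 14), (13, 14), (12, 16), (0, 0), (14, 18), (12, 19), (13, 19), (12, 21), (14, 22)]

set_option maxRecDepth 100000 in
theorem checkAsc_D4 : checkAsc chevD4 tblD4 = true := by decide +kernel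

/-- the witness table of `chevF4` -/
def tblF4 : List (ℕ × ℕ) :=
  [(0, 0), (0, 0), (0, 0), (0, 0), (0, 0), (0, 0), (0, 0), (0, 0), (0, 0), (0, 0), (0, 0), (0, 0), (0, 0), (0, 0), (0, 0), (0, 0), (0, 0), (0, 0), (0, 0), (0, 0), (0, 0), (0, 0), (0, 0), (0, 0), (0, 0), (0, 0), (24, 25), (0, 0), (25, 27), (24, 28), (25, 27), (24, 30), (24, 28), (0, 0), (27, 33), (25, 34), (24, 35), (27, 35), (24, 37), (25, 38), (27, 39), (25, 34), (24, 41), (24, 35), (27, 43), (24, 37), (25, 45), (24, 46)]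

set_option maxRecDepth 100000 in
theorem checkAsc_F4 : checkAsc chevF4 tblF4 = true := by decide +kernel

/-- the witness table of `chevE6` -/
def tblE6 : List (ℕ × ℕ) :=
  [(0, 0), (0, 0), (0, 0), (0, 0), (0, 0), (0, 0), (0, 0), (0, 0), (0, 0), (0, 0), (0, 0), (0, 0), (0, 0), (0, 0), (0, 0), (0, 0), (0, 0), (0, 0), (0, 0), (0, 0), (0, 0), (0, 0), (0, 0), (0, 0), (0, 0), (0, 0), (0, 0), (0, 0), (0, 0), (0, 0), (0, 0), (0, 0), (0, 0), (0, 0), (0, 0), (0, 0), (0, 0), (0, 0), (36, 37), (0, 0), (37, 39), (36, 40), (0, 0), (39, 42), (37, 43), (36, 44), (0, 0), (39, 46), (37, 47), (36, 48), (42, 47), (37, 50), (36, 51), (39, 51), (36, 53), (37, 54), (0, 0), (42, 56), (39, 57), (37, 58), (36, 59), (46, 58), (37, 61), (36, 62), (39, 62), (36, 64), (37, 65), (42, 64), (36, 67), (37, 68), (39, 69), (46, 70)]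

set_option maxRecDepth 100000 in
theorem checkAsc_E6 : checkAsc chevE6 tblE6 = true := by decide +kernel

/-- the witness table of `chevE7` -/
def tblE7 : List (ℕ × ℕ) :=
  [(0, 0), (0, 0), (0, 0), (0, 0), (0, 0), (0, 0), (0, 0), (0, 0), (0, 0), (0, 0), (0, 0), (0, 0), (0, 0), (0, 0), (0, 0), (0, 0), (0, 0), (0, 0), (0, 0), (0, 0), (0, 0), (0, 0), (0, 0), (0, 0), (0, 0), (0, 0), (0, 0), (0, 0), (0, 0), (0, 0), (0, 0), (0, 0), (0, 0), (0, 0), (0, 0), (0, 0), (0, 0), (0, 0), (0, 0), (0, 0), (0, 0), (0, 0), (0, 0), (0, 0), (0, 0), (0, 0), (0, 0), (0, 0), (0, 0), (0, 0), (0, 0), (0, 0), (0, 0), (0, 0), (0, 0), (0, 0), (0, 0), (0, 0), (0, 0), (0, 0), (0, 0), (0, 0), (0, 0), (0, 0), (0, 0), (63, 64), (0, 0), (64, 66), (63, 67), (0, 0), (66, 69), (64, 70), (63, 71), (0, 0), (69, 73), (66, 74), (64, 75), (63, 76), (0, 0), (69, 78), (66, 79), (64, 80), (63, 81), (73, 79), (66, 83), (64, 84), (63, 85), (69, 84), (64, 87), (63, 88), (66, 88), (63, 90),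 (64, 91), (0, 0), (73, 93), (69, 94), (66, 95), (64, 96), (63, 97), (78, 95), (66, 99), (64, 100), (63, 101), (69, 100), (64, 103), (63, 104), (66, 104), (63, 106), (64, 107), (73, 103), (64, 109), (63, 110), (66, 110), (63, 112), (64, 113), (69, 112), (63, 115), (64, 116), (66, 117), (78, 115), (63, 119), (64, 120), (66, 121), (69, 122), (73, 123), (93, 124)]

set_option maxRecDepth 100000 in
theorem checkAsc_E7 : checkAsc chevE7 tblE7 = true := by decide +kernel

/-- the witness table of `chevE8` -/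
def tblE8 : List (ℕ × ℕ) :=
  [(0, 0), (0, 0), (0, 0), (0, 0), (0, 0), (0, 0), (0, 0), (0, 0), (0, 0), (0, 0), (0, 0), (0, 0), (0, 0), (0, 0), (0, 0), (0, 0), (0, 0), (0, 0), (0, 0), (0, 0), (0, 0), (0, 0), (0, 0), (0, 0), (0, 0), (0, 0), (0, 0), (0, 0), (0, 0), (0, 0), (0, 0), (0, 0), (0, 0), (0, 0), (0, 0), (0, 0), (0, 0), (0, 0), (0, 0), (0, 0), (0, 0), (0, 0), (0, 0), (0, 0), (0, 0), (0, 0), (0, 0), (0, 0), (0, 0), (0, 0), (0, 0), (0, 0), (0, 0), (0, 0), (0, 0), (0, 0), (0, 0), (0, 0), (0, 0), (0, 0), (0, 0), (0, 0), (0, 0), (0, 0), (0, 0), (0, 0), (0, 0), (0, 0), (0, 0), (0, 0), (0, 0), (0, 0), (0, 0), (0, 0), (0, 0), (0, 0), (0, 0), (0, 0), (0, 0), (0, 0), (0, 0), (0, 0), (0, 0), (0, 0), (0, 0), (0, 0), (0, 0), (0, 0), (0, 0), (0, 0), (0, 0), (0, 0), (0, 0), (0, 0), (0, 0), (0, 0), (0, 0), (0, 0), (0, 0), (0, 0), (0, 0), (0, 0), (0, 0), (0, 0), (0, 0), (0, 0), (0, 0), (0, 0), (0, 0), (0, 0), (0, 0), (0, 0), (0, 0), (0, 0), (0, 0), (0,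 0), (0, 0), (0, 0), (0, 0), (0, 0), (0, 0), (0, 0), (120, 121), (0, 0), (121, 123), (120, 124), (0, 0), (123, 126), (121, 127), (120, 128), (0, 0), (126, 130), (123, 131), (121, 132), (120, 133), (0, 0), (130, 135), (126, 136), (123, 137), (121, 138), (120, 139), (0, 0), (130, 141), (126, 142), (123, 143), (121, 144), (120, 145), (135, 142), (126, 147), (123, 148), (121, 149), (120, 150), (130, 148), (123, 152), (121, 153), (120, 154), (126, 153), (121, 156), (120, 157), (123, 157), (120, 159), (121, 160), (0, 0), (135, 162), (130, 163), (126, 164), (123, 165), (121, 166), (120, 167), (141, 164), (126, 169), (123, 170), (121, 171), (120, 172), (130, 170), (123, 174), (121, 175), (120, 176), (126, 175), (121, 178), (120, 179), (123, 179), (120, 181), (121, 182), (135, 174), (123, 184), (121, 185), (120, 186), (126, 185), (121, 188), (120, 189), (123, 189), (120, 191), (121, 192), (130, 188), (121, 194), (120, 195), (123, 195), (120, 197), (121,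 198), (126, 197), (120, 200), (121, 201), (123, 202), (141, 194), (121, 204), (120, 205), (123, 205), (120, 207), (121, 208), (126, 207), (120, 210), (121, 211), (123, 212), (130, 210), (120, 214), (121, 215), (123, 216), (126, 217), (135, 214), (120, 219), (121, 220), (123, 221), (126, 222), (130, 223), (141, 224), (162, 219), (120, 226), (121, 227), (123, 228), (126, 229), (130, 230), (135, 231), (141, 231), (135, 233), (130, 234), (126, 235), (123, 236), (121, 237), (120, 238)]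

set_option maxRecDepth 100000 in
theorem checkAsc_E8 : checkAsc chevE8 tblE8 = true := by decide +kernel

/-- FO-2 -/
theorem asc_witness {D : ChevalleyDatum}
    (hD : D ∈ [chevG2, chevB2, chevD4, chevF4, chevE6, chevE7, chevE8])
    {r : ℕ} (hr : D.nroots / 2 ≤ r) (hrn : r < D.nroots) (hns : ∀ i < D.rank, r ≠ D.simple i) :
    ∃ r1 r2, D.nroots / 2 ≤ r1 ∧ r1 < r ∧ D.nroots / 2 ≤ r2 ∧ r2 < r ∧ r1 ≠ r2 ∧
      (D.commTerms r1 r2).Pairwise (fun a b => a.1 < b.1) ∧
      (∀ c ∈ D.commTerms r1 r2, r1 < c.1 ∧ r2 < c.1 ∧ c.1 < D.nroots) ∧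
      ∃ c ∈ D.commTerms r1 r2, c.1 = r ∧ (c.2.1 = 1 ∨ c.2.1 = -1) := by
  simp only [List.mem_cons, List.not_mem_nil, or_false] at hD
  rcases hD with rfl | rfl | rfl | rfl | rfl | rfl | rfl
  · exact asc_of_check checkAsc_G2 hr hrn hns
  · exact asc_of_check checkAsc_B2 hr hrn hns
  · exact asc_of_check checkAsc_D4 hr hrn hns
  · exact asc_of_check checkAsc_F4 hr hrn hns
  · exact asc_of_check checkAsc_E6 hr hrn hns
  · exact asc_of_check checkAsc_E7 hr hrn hns
  · exact asc_of_check checkAsc_E8 hr hrn hns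

end Cfsg.Agent.Lib.Helper6.S2244B
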