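import Mathlib
import Cfsg.Agent.Lib.Helper23.SU3UCoord

/-!
# S2283 farm-out (architect helper23): FO-6, the special design for `q = 8`

`F = F_64 = F_2(ω, τ)`, `ω² + ω + 1 = 0`, `τ³ + τ + 1 = 0`.  All field identities are closed by
machine-generated `linear_combination` certificates over the three relations `hω`, `hτ`, `h2`.
-/

set_option autoImplicit false
set_option linter.unusedVariables false

namespace Cfsg.Agent.Lib.Helper6.S2283FO6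

open Matrix Cfsg.Agent.Lib.Helper6 Cfsg.Agent.S0779 Cfsg.Agent.S0781
open Cfsg.Agent.Lib.Helper6.SUG Cfsg.Agent.Lib.Helper13 Cfsg.Agent.Lib.Helper9.SUGen
open Cfsg.Agent.Lib.Helper23.SU3U

variable {F : Type*} [Field F] [Fintype F]

theorem two_eq_zero (hF : Fintype.card F = 8 ^ 2) : (2 : F) = 0 := by
  have h : ((Fintype.card F : ℕ) : F) = 0 := Nat.cast_card_eq_zero F
  rw [hF] at h
  have h6 : (2 : F) ^ 6 = 0 := by
    push_cast at h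
    linear_combination h
  exact pow_eq_zero_iff (by norm_num) |>.mp h6

theorem exists_mu (hF : Fintype.card F = 8 ^ 2) :
    ∃ μ : F, μ ^ 63 = 1 ∧ ∀ k : ℕ, μ ^ k = 1 → 63 ∣ k := by
  obtain ⟨μ, hμ0, -, hord⟩ := exists_gen hF
  refine ⟨μ, ?_, ?_⟩
  · have := FiniteField.pow_card_sub_one_eq_one μ hμ0
    rw [hF] at this
    exact this
  · intro k hk
    exact hord k hk

theorem exists_omega (hF : Fintype.card F = 8 ^ 2) : ∃ ω : F, ω ^ 2 + ω + 1 = 0 := by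
  obtain ⟨μ, h63, hord⟩ := exists_mu hF
  refine ⟨μ ^ 21, ?_⟩
  have h1 : μ ^ 21 ≠ 1 := by
    intro h
    have := hord 21 h
    omega
  have h3 : (μ ^ 21 - 1) * ((μ ^ 21) ^ 2 + μ ^ 21 + 1) = 0 := by
    linear_combination h63
  rcases mul_eq_zero.mp h3 with h | h
  · exact absurd (sub_eq_zero.mp h) h1
  · exact h

theorem exists_tau (hF : Fintype.card F = 8 ^ 2) : ∃ τ : F, τ ^ 3 + τ + 1 = 0 := by
  obtain ⟨μ, h63, hord⟩ := exists_mu hF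
  have h2 := two_eq_zero hF
  obtain ⟨σ, hσ⟩ : ∃ σ : F, σ = μ ^ 9 := ⟨_, rfl⟩
  have h7 : σ ^ 7 = 1 := by
    rw [hσ, ← pow_mul]
    exact h63
  have h1 : σ ≠ 1 := by
    intro h
    rw [hσ] at h
    have := hord 9 h
    omega
  have h3 : (σ - 1) * ((σ ^ 3 + σ + 1) * (σ ^ 3 + σ ^ 2 + 1)) = 0 := by
    linear_combination h7 + (σ ^ 4 - σ ^ 3) * h2
  rcases mul_eq_zero.mp h3 with h | h
  · exact absurd (sub_eq_zero.mp h) h1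
  · rcases mul_eq_zero.mp h with h | h
    · exact ⟨σ, h⟩
    · refine ⟨σ ^ 6, ?_⟩
      linear_combination σ ^ 4 * h + (σ ^ 11 + σ ^ 4 - 1) * h7

/-- the exponents `κ` with `κ ^ r = 64`, `r ≥ 2` -/
theorem kappa_cases (κ r : ℕ) (hr : 2 ≤ r) (h : κ ^ r = 8 ^ 2) : κ = 2 ∨ κ = 4 ∨ κ = 8 := by
  have hκ2 : 2 ≤ κ := by
    by_contra hlt
    have hκ : κ = 0 ∨ κ = 1 := by omega
    rcases hκ with rfl | rfl
    · rw [zero_pow (by omega)] at h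
      norm_num at h
    · rw [one_pow] at h
      norm_num at h
  have hr6 : r ≤ 6 := by
    by_contra hlt
    have h1 : 2 ^ 7 ≤ 2 ^ r := Nat.pow_le_pow_right (by norm_num) (by omega)
    have h2 : 2 ^ r ≤ κ ^ r := Nat.pow_le_pow_left hκ2 r
    rw [h] at h2
    norm_num at h1 h2
    omega
  have hκ8 : κ ≤ 8 := by
    have h1 : κ ^ 2 ≤ κ ^ r := Nat.pow_le_pow_right (by omega) hr
    rw [h] at h1
    nlinarith
  interval_cases r <;> interval_cases κ <;> simp_all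

/-- FO-6: the design for `q = 8` -/
theorem good_eight (C : Hyp F 8) (hF : Fintype.card F = 8 ^ 2)
    (hsub : ∀ ν : F, (∀ κ r : ℕ, 2 ≤ r → κ ^ r = 8 ^ 2 → ν ^ κ ≠ ν) → Irr ν) : Good C hF := by
  have h2 := two_eq_zero hF
  obtain ⟨ω, hω⟩ := exists_omega hF
  obtain ⟨τ, hτ⟩ := exists_tau hF
  have hω8 : ω ^ 8 = ω + 1 := by
    linear_combination (1 - ω ^ 2 + ω ^ 3 - ω ^ 5 + ω ^ 6) * hω + (-1 - ω) * h2
  have hτ8 : τ ^ 8 = τ := by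
    linear_combination (2 + τ - τ ^ 2 - τ ^ 3 + τ ^ 5) * hτ + (-1 - 2 * τ) * h2
  obtain ⟨b, hb⟩ : ∃ b : F, b = 1 + ω + τ := ⟨_, rfl⟩
  obtain ⟨c, hc⟩ : ∃ c : F, c = τ ^ 2 * ω := ⟨_, rfl⟩
  obtain ⟨d, hd⟩ : ∃ d : F, d = τ * ω + τ ^ 2 + τ ^ 2 * ω := ⟨_, rfl⟩
  obtain ⟨lam, hlam⟩ : ∃ lam : F, lam = ω + τ ^ 2 := ⟨_, rfl⟩
  obtain ⟨l, hl⟩ : ∃ l : F, l = ω + τ * ω + τ ^ 2 := ⟨_, rfl⟩
  have hb2 : b ^ 2 = ω + τ ^ 2 := by
    rw [hb]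
    linear_combination (1) * hω + (τ + τ * ω) * h2
  have hb4 : b ^ 4 = 1 + ω + τ + τ ^ 2 := by
    have e : b ^ 4 = (b ^ 2) ^ 2 := by ring
    rw [e, hb2]
    linear_combination (1) * hω + (τ) * hτ + (-1 - ω - τ - τ ^ 2 + τ ^ 2 * ω) * h2
  have hb8 : b ^ 8 = ω + τ := by
    have e : b ^ 8 = (b ^ 4) ^ 2 := by ring
    rw [e, hb4]
    linear_combination (1) * hω + (2 + τ) * hτ + (-1 - τ + τ * ω + τ ^ 2 + τ ^ 2 * ω) * h2
  have hc2 : c ^ 2 = τ + τ * ω + τ ^ 2 + τ ^ 2 * ω := by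
    rw [hc]
    linear_combination (τ ^ 4) * hω + (-τ - τ * ω) * hτ
  have hc4 : c ^ 4 = τ * ω := by
    have e : c ^ 4 = (c ^ 2) ^ 2 := by ring
    rw [e, hc2]
    linear_combination (τ ^ 2 + 2 * τ ^ 3 + τ ^ 4) * hω + (2 * ω + τ * ω) * hτ + (-ω - 2 * τ * ω) * h2
  have hc8 : c ^ 8 = τ ^ 2 + τ ^ 2 * ω := by
    have e : c ^ 8 = (c ^ 4) ^ 2 := by ring
    rw [e, hc4]
    linear_combination (τ ^ 2) * hω + (-τ ^ 2 - τ ^ 2 * ω) * h2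
  have hd2 : d ^ 2 = τ * ω + τ ^ 2 := by
    rw [hd]
    linear_combination (τ ^ 2 + 2 * τ ^ 3 + τ ^ 4) * hω + (-2 + τ * ω) * hτ + (1 + τ - τ * ω - τ ^ 2 - τ ^ 2 * ω) * h2
  have hd4 : d ^ 4 = τ + τ ^ 2 * ω := by
    have e : d ^ 4 = (d ^ 2) ^ 2 := by ring
    rw [e, hd2]
    linear_combination (τ ^ 2) * hω + (2 * ω + τ) * hτ + (-ω - τ - τ * ω - τ ^ 2 - τ ^ 2 * ω) * h2
  have hd8 : d ^ 8 = τ + τ * ω + τ ^ 2 * ω := by
    have e : d ^ 8 = (d ^ 4) ^ 2 := by ring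
    rw [e, hd4]
    linear_combination (τ ^ 4) * hω + (2 * ω - τ - τ * ω) * hτ + (-ω - τ * ω + τ ^ 2) * h2
  have hlam2 : lam ^ 2 = 1 + ω + τ + τ ^ 2 := by
    rw [hlam]
    linear_combination (1) * hω + (τ) * hτ + (-1 - ω - τ - τ ^ 2 + τ ^ 2 * ω) * h2
  have hlam4 : lam ^ 4 = ω + τ := by
    have e : lam ^ 4 = (lam ^ 2) ^ 2 := by ring
    rw [e, hlam2]
    linear_combination (1) * hω + (2 + τ) * hτ + (-1 - τ + τ * ω + τ ^ 2 + τ ^ 2 * ω) * h2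
  have hlam8 : lam ^ 8 = 1 + ω + τ ^ 2 := by
    have e : lam ^ 8 = (lam ^ 4) ^ 2 := by ring
    rw [e, hlam4]
    linear_combination (1) * hω + (-1 - ω + τ * ω) * h2
  have hl2 : l ^ 2 = 1 + ω + τ + τ ^ 2 * ω := by
    rw [hl]
    linear_combination (1 + 2 * τ + τ ^ 2) * hω + (2 * ω + τ) * hτ + (-1 - 2 * ω - 2 * τ - 2 * τ * ω - τ ^ 2) * h2
  have hl4 : l ^ 4 = ω + τ + τ * ω + τ ^ 2 * ω := by
    have e : l ^ 4 = (l ^ 2) ^ 2 := by ring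
    rw [e, hl2]
    linear_combination (1 + 2 * τ ^ 2 + τ ^ 4) * hω + (2 * ω - τ - τ * ω) * hτ + (-ω + τ) * h2
  have hl8 : l ^ 8 = 1 + ω + τ + τ * ω + τ ^ 2 := by
    have e : l ^ 8 = (l ^ 4) ^ 2 := by ring
    rw [e, hl4]
    linear_combination (1 + 2 * τ + 3 * τ ^ 2 + 2 * τ ^ 3 + τ ^ 4) * hω + (-2 - τ - τ * ω) * hτ + (-ω - τ ^ 2) * h2
  have hab : HP 8 (1 : F) b := by
    unfold HP
    linear_combination hb + hb8 + (ω + τ) * h2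
  have hcd : HP 8 c d := by
    unfold HP
    linear_combination hd + hd8 - c * hc8 - (τ ^ 2 + τ ^ 2 * ω) * hc + (-τ ^ 4) * hω + (τ) * hτ + (τ * ω + τ ^ 2 * ω) * h2
  have se1 : av (yF C hF c d) (vec C (1) (0) (0)) = vec C (1) (τ * ω + τ ^ 2 + τ ^ 2 * ω) (τ ^ 2 * ω) := by
    rw [av_yF_vec C hF hcd]
    apply vec_congr
    · rfl
    · linear_combination (-(1)) * hd + (-(0)) * hc8 + (-τ * ω - τ ^ 2 - τ ^ 2 * ω) * h2
    · linear_combination (1) * hc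
  have se2 : av (xE C hF 1 b) (vec C (1) (τ * ω + τ ^ 2 + τ ^ 2 * ω) (τ ^ 2 * ω)) = vec C (ω + τ * ω + τ ^ 2 * ω) (τ * ω + τ ^ 2 + τ ^ 2 * ω) (τ * ω + τ ^ 2) := by
    rw [av_xE_vec C hF hab]
    apply vec_congr
    · linear_combination (-(τ * ω + τ ^ 2 + τ ^ 2 * ω)) * hb + (-τ - τ ^ 2) * hω + (-1 - ω) * hτ + (1 + τ - 2 * τ ^ 2 * ω) * h2
    · rfl
    · linear_combination (τ ^ 2 * ω) * h2
  have se3 : av (xE C hF 1 b) (vec C (ω + τ * ω + τ ^ 2 * ω) (τ * ω + τ ^ 2 + τ ^ 2 * ω) (τ * ω + τ ^ 2)) = vec C (1 + τ * ω + τ ^ 2 + τ ^ 2 * ω) (τ * ω + τ ^ 2 + τ ^ 2 * ω) (τ ^ 2 * ω) := by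
    rw [av_xE_vec C hF hab]
    apply vec_congr
    · linear_combination (-(τ * ω + τ ^ 2 + τ ^ 2 * ω)) * hb + (-τ - τ ^ 2) * hω + (-1 - ω) * hτ + (ω + τ - τ ^ 2 - τ ^ 2 * ω) * h2
    · rfl
    · linear_combination (τ * ω + τ ^ 2) * h2
  have se4 : av (yF C hF c d) (vec C (1 + τ * ω + τ ^ 2 + τ ^ 2 * ω) (τ * ω + τ ^ 2 + τ ^ 2 * ω) (τ ^ 2 * ω)) = vec C (1 + τ * ω + τ ^ 2 + τ ^ 2 * ω) (τ + τ * ω) (1 + ω + τ * ω + τ ^ 2) := by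
    rw [av_yF_vec C hF hcd]
    apply vec_congr
    · rfl
    · linear_combination (-(1 + τ * ω + τ ^ 2 + τ ^ 2 * ω)) * hd + (-(τ ^ 2 * ω)) * hc8 + (-τ ^ 2 - 2 * τ ^ 3 - 2 * τ ^ 4) * hω + (2 + τ - τ * ω) * hτ + (-1 - 2 * τ + τ ^ 2 * ω) * h2
    · linear_combination (1 + τ * ω + τ ^ 2 + τ ^ 2 * ω) * hc + (τ ^ 3 + τ ^ 4) * hω + (-1 - ω - τ) * hτ + (τ + τ ^ 2 * ω) * h2
  have se5 : av (xE C hF 1 b) (vec C (1 + τ * ω + τ ^ 2 + τ ^ 2 * ω) (τ + τ * ω) (1 + ω + τ * ω + τ ^ 2)) = vec C (ω + τ * ω + τ ^ 2) (τ + τ * ω) (1 + ω + τ + τ ^ 2) := by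
    rw [av_xE_vec C hF hab]
    apply vec_congr
    · linear_combination (-(τ + τ * ω)) * hb + (-τ) * hω + (-ω - τ * ω - τ ^ 2) * h2
    · rfl
    · linear_combination (τ * ω) * h2
  have se6 : av (yF C hF c d) (vec C (ω + τ * ω + τ ^ 2) (τ + τ * ω) (1 + ω + τ + τ ^ 2)) = vec C (ω + τ * ω + τ ^ 2) (0) (0) := by
    rw [av_yF_vec C hF hcd]
    apply vec_congr
    · rfl
    · linear_combination (-(ω + τ * ω + τ ^ 2)) * hd + (-(1 + ω + τ + τ ^ 2)) * hc8 + (-τ - 3 * τ ^ 2 - τ ^ 3) * hω + (-2 * ω - 2 * τ - 2 * τ * ω) * hτ + (ω + 2 * τ + 3 * τ * ω + 2 * τ ^ 2 + τ ^ 2 * ω) * h2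
    · linear_combination (ω + τ * ω + τ ^ 2) * hc + (τ ^ 2 + τ ^ 3) * hω + (-1 - ω + τ * ω) * hτ + (1 + ω + τ - τ ^ 2 * ω) * h2
  have sw1 : av (yF C hF c d) (vec C (0) (0) (1)) = vec C (0) (τ ^ 2 + τ ^ 2 * ω) (1) := by
    rw [av_yF_vec C hF hcd]
    apply vec_congr
    · rfl
    · linear_combination (-(0)) * hd + (-(1)) * hc8 + (-τ ^ 2 - τ ^ 2 * ω) * h2
    · linear_combination (0) * hc
  have sw2 : av (xE C hF 1 b) (vec C (0) (τ ^ 2 + τ ^ 2 * ω) (1)) = vec C (ω + τ + τ * ω + τ ^ 2 * ω) (τ ^ 2 + τ ^ 2 * ω) (1 + τ ^ 2 + τ ^ 2 * ω) := by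
    rw [av_xE_vec C hF hab]
    apply vec_congr
    · linear_combination (-(τ ^ 2 + τ ^ 2 * ω)) * hb + (-τ ^ 2) * hω + (-1 - ω) * hτ + (-τ ^ 2 * ω) * h2
    · rfl
    · ring
  have sw3 : av (xE C hF 1 b) (vec C (ω + τ + τ * ω + τ ^ 2 * ω) (τ ^ 2 + τ ^ 2 * ω) (1 + τ ^ 2 + τ ^ 2 * ω)) = vec C (τ ^ 2 + τ ^ 2 * ω) (τ ^ 2 + τ ^ 2 * ω) (1) := by
    rw [av_xE_vec C hF hab]
    apply vec_congr
    · linear_combination (-(τ ^ 2 + τ ^ 2 * ω)) * hb + (-τ ^ 2) * hω + (-1 - ω) * hτ + (ω + τ + τ * ω - τ ^ 2 - τ ^ 2 * ω) * h2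
    · rfl
    · linear_combination (τ ^ 2 + τ ^ 2 * ω) * h2
  have sw4 : av (yF C hF c d) (vec C (τ ^ 2 + τ ^ 2 * ω) (τ ^ 2 + τ ^ 2 * ω) (1)) = vec C (τ ^ 2 + τ ^ 2 * ω) (1 + τ + τ * ω + τ ^ 2 * ω) (1 + τ + τ ^ 2) := by
    rw [av_yF_vec C hF hcd]
    apply vec_congr
    · rfl
    · linear_combination (-(τ ^ 2 + τ ^ 2 * ω)) * hd + (-(1)) * hc8 + (-τ ^ 3 - τ ^ 4) * hω + (1 - τ * ω) * hτ + (-1 - τ) * h2
    · linear_combination (τ ^ 2 + τ ^ 2 * ω) * hc + (τ ^ 4) * hω + (-τ) * hτ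
  have sw5 : av (xE C hF 1 b) (vec C (τ ^ 2 + τ ^ 2 * ω) (1 + τ + τ * ω + τ ^ 2 * ω) (1 + τ + τ ^ 2)) = vec C (0) (1 + τ + τ * ω + τ ^ 2 * ω) (τ * ω + τ ^ 2 + τ ^ 2 * ω) := by
    rw [av_xE_vec C hF hab]
    apply vec_congr
    · linear_combination (-(1 + τ + τ * ω + τ ^ 2 * ω)) * hb + (-τ - τ ^ 2) * hω + (-ω) * hτ + (-1 - τ) * h2
    · rfl
    · linear_combination (1 + τ) * h2
  have sw6 : av (yF C hF c d) (vec C (0) (1 + τ + τ * ω + τ ^ 2 * ω) (τ * ω + τ ^ 2 + τ ^ 2 * ω)) = vec C (0) (0) (τ * ω + τ ^ 2 + τ ^ 2 * ω) := by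
    rw [av_yF_vec C hF hcd]
    apply vec_congr
    · rfl
    · linear_combination (-(0)) * hd + (-(τ * ω + τ ^ 2 + τ ^ 2 * ω)) * hc8 + (-τ ^ 3 - τ ^ 4) * hω + (1 - τ * ω) * hτ + (τ * ω + τ ^ 2 * ω) * h2
    · linear_combination (0) * hc
  -- the action of `W`
  have hWe : av (yF C hF c d * xE C hF 1 b * yF C hF c d * xE C hF 1 b * xE C hF 1 b *
      yF C hF c d) (e3 C) = l • e3 C := by
    conv_lhs => rw [vec_e C]
    rw [av_mul, av_mul, av_mul, av_mul, av_mul, se1, se2, se3, se4, se5, se6, hl]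
    exact vec_eq_smul_e C _
  have hWw : av (yF C hF c d * xE C hF 1 b * yF C hF c d * xE C hF 1 b * xE C hF 1 b *
      yF C hF c d) (wv F 2) = d • wv F 2 + (0 : F) • e3 C := by
    conv_lhs => rw [vec_w C]
    rw [av_mul, av_mul, av_mul, av_mul, av_mul, sw1, sw2, sw3, sw4, sw5, sw6, hd]
    exact vec_eq_w_e C _ _
  -- the multiplier
  obtain ⟨ν, hν⟩ : ∃ ν : F, ν = τ * ω := ⟨_, rfl⟩
  have hνl : l ^ 8 * d = ν := by
    rw [hl8, hd, hν]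
    linear_combination (τ + 2 * τ ^ 2 + τ ^ 3) * hω + (2 * ω + τ + τ * ω) * hτ + (-ω - τ - 2 * τ * ω - τ ^ 2) * h2
  have hν2 : ν ^ 2 = τ ^ 2 + τ ^ 2 * ω := by
    rw [hν]
    linear_combination (τ ^ 2) * hω + (-τ ^ 2 - τ ^ 2 * ω) * h2
  have hν4 : ν ^ 4 = τ * ω + τ ^ 2 * ω := by
    have e : ν ^ 4 = (ν ^ 2) ^ 2 := by ring
    rw [e, hν2]
    linear_combination (τ ^ 4) * hω + (τ * ω) * hτ + (-τ * ω - τ ^ 2 * ω) * h2
  have hν8 : ν ^ 8 = τ + τ * ω := by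
    have e : ν ^ 8 = (ν ^ 4) ^ 2 := by ring
    rw [e, hν4]
    linear_combination (τ ^ 2 + 2 * τ ^ 3 + τ ^ 4) * hω + (-2 - 2 * ω - τ - τ * ω) * hτ + (1 + ω + τ + τ * ω) * h2
  have hne2 : ν ^ 2 ≠ ν := by
    intro h
    have key : (ν ^ 2 - ν) * (τ + τ * ω + τ ^ 2 * ω) = 1 := by
      linear_combination (τ + τ * ω + τ ^ 2 * ω) * hν2 - (τ + τ * ω + τ ^ 2 * ω) * hν + (-τ ^ 2 + τ ^ 4) * hω + (1 + 2 * ω - τ) * hτ + (-1 - ω - τ * ω + τ ^ 2) * h2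
    rw [h, sub_self, zero_mul] at key
    exact zero_ne_one key
  have hne4 : ν ^ 4 ≠ ν := by
    intro h
    have key : (ν ^ 4 - ν) * (1 + ω + τ + τ * ω + τ ^ 2 + τ ^ 2 * ω) = 1 := by
      linear_combination (1 + ω + τ + τ * ω + τ ^ 2 + τ ^ 2 * ω) * hν4 - (1 + ω + τ + τ * ω + τ ^ 2 + τ ^ 2 * ω) * hν + (τ ^ 2 + τ ^ 3 + τ ^ 4) * hω + (-1 - τ) * hτ + (τ) * h2
    rw [h, sub_self, zero_mul] at key
    exact zero_ne_one key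
  have hne8 : ν ^ 8 ≠ ν := by
    intro h
    have key : (ν ^ 8 - ν) * (1 + τ ^ 2) = 1 := by
      linear_combination (1 + τ ^ 2) * hν8 - (1 + τ ^ 2) * hν + (1) * hτ + (-1) * h2
    rw [h, sub_self, zero_mul] at key
    exact zero_ne_one key
  have hc0 : c ≠ 0 := by
    intro h
    have key : c * (1 + ω + τ + τ * ω + τ ^ 2 + τ ^ 2 * ω) = 1 := by
      rw [hc]
      linear_combination (τ ^ 2 + τ ^ 3 + τ ^ 4) * hω + (-1 - τ) * hτ + (τ) * h2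
    rw [h, zero_mul] at key
    exact zero_ne_one key
  have hlam0 : lam ≠ 0 := by
    intro h
    have key : lam * (1 + τ + τ * ω + τ ^ 2 * ω) = 1 := by
      rw [hlam]
      linear_combination (τ + τ ^ 2) * hω + (1 + ω + τ * ω) * hτ + (-1 - τ - τ * ω - τ ^ 2 * ω) * h2
    rw [h, zero_mul] at key
    exact zero_ne_one key
  refine ⟨1, b, c, d, lam, l, d, 0,
    yF C hF c d * xE C hF 1 b * yF C hF c d * xE C hF 1 b * xE C hF 1 b * yF C hF c d,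
    hab, one_ne_zero, hcd, hc0, hlam0, ?_, ?_, hWe, hWw, ?_⟩
  · rw [hlam8, hlam, hc]
    linear_combination (τ ^ 2 + τ ^ 2 * ω + 2 * τ ^ 4) * hω + (-ω - 2 * τ - τ * ω + τ ^ 3 * ω) * hτ + (ω + τ + τ * ω + τ ^ 2) * h2
  · have hyL : yF C hF c d ∈ Subgroup.closure
        ({yF C hF c d, xE C hF 1 b} : Set ↥(Cfsg.SU (2 + 1) F 8)) :=
      Subgroup.subset_closure (by simp)
    have hxL : xE C hF 1 b ∈ Subgroup.closure
        ({yF C hF c d, xE C hF 1 b} : Set ↥(Cfsg.SU (2 + 1) F 8)) :=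
      Subgroup.subset_closure (by simp)
    exact Subgroup.mul_mem _ (Subgroup.mul_mem _ (Subgroup.mul_mem _ (Subgroup.mul_mem _
      (Subgroup.mul_mem _ hyL hxL) hyL) hxL) hxL) hyL
  · rw [hνl]
    apply hsub
    intro κ r hr hκ
    rcases kappa_cases κ r hr hκ with rfl | rfl | rfl
    · exact hne2
    · exact hne4
    · exact hne8

end Cfsg.Agent.Lib.Helper6.S2283FO6
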