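import Mathlib
import Cfsg.Agent.Lib.Helper19.S3313Defs
import Cfsg.Agent.Lib.Helper19.S3313F
import Cfsg.Agent.Lib.Helper6.S3313A5

/-!
# S3313 farm-out (architect helper19): FO-T, the count in `C(t) = V × B`

`#{(u,v) : u ~ z, v ~ t, t ∈ ⟨uv⟩} = 195`: the pairs are `(u, t b)` with `u, b ∈ B ≅ A₅`,
`o(u) = 2`, `b² = 1`, `o(ub)` odd.
-/

set_option autoImplicit false

namespace Cfsg.Agent.Lib.Helper6.S3313T

open Cfsg Cfsg.Agent.Lib.Helper19.S3313 Cfsg.Agent.Lib.Helper6.S3313A5

variable {G : Type*} [Group G] {z t : G} {Q K V B : Subgroup G}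

theorem orderOf_conj'' (c x : G) : orderOf (c * x * c⁻¹) = orderOf x := by
  have := MulEquiv.orderOf_eq (MulAut.conj c) x
  rwa [MulAut.conj_apply] at this

theorem orderOf_of_isConj' {x y : G} (h : IsConj x y) : orderOf x = orderOf y := by
  obtain ⟨c, hc⟩ := isConj_iff.mp h
  rw [← hc, orderOf_conj'']

/-- two involutions invert every element of `⟨uv⟩` -/
theorem inv_of_mem_zpowers (u v w : G) (hu : u * u = 1) (hv : v * v = 1)
    (hw : w ∈ Subgroup.zpowers (u * v)) : u * w * u⁻¹ = w⁻¹ ∧ v * w * v⁻¹ = w⁻¹ := by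
  obtain ⟨k, rfl⟩ := Subgroup.mem_zpowers_iff.mp hw
  have hui : u⁻¹ = u := inv_eq_of_mul_eq_one_right hu
  have hvi : v⁻¹ = v := inv_eq_of_mul_eq_one_right hv
  have h1 : u * (u * v) * u⁻¹ = (u * v)⁻¹ := by
    rw [mul_inv_rev, hui, hvi, ← mul_assoc, hu, one_mul]
  have h2 : v * (u * v) * v⁻¹ = (u * v)⁻¹ := by
    rw [mul_inv_rev, hui, hvi, mul_assoc, mul_assoc, hv, mul_one]
  refine ⟨?_, ?_⟩
  · rw [← conj_zpow, h1, inv_zpow]
  · rw [← conj_zpow, h2, inv_zpow]

section
variable (h : HJ z t Q K V B)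
include h

theorem t_sq : t * t = 1 := by
  have := pow_orderOf_eq_one t
  rw [h.ht, pow_two] at this
  exact this

theorem t_ne : t ≠ 1 := by
  intro h1
  have := h.ht
  rw [h1, orderOf_one] at this
  omega

theorem comm_VB {a b : G} (ha : a ∈ V) (hb : b ∈ B) : a * b = b * a := h.hVB.2.2.1 a ha b hb

theorem eq_one_of_mem_VB {a : G} (ha : a ∈ V) (hb : a ∈ B) : a = 1 := by
  have : a ∈ V ⊓ B := ⟨ha, hb⟩
  rw [h.hVB.2.2.2.1, Subgroup.mem_bot] at this
  exact this

theorem t_not_mem_B : t ∉ B := fun hB => t_ne h (eq_one_of_mem_VB h h.htV hB)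

theorem exists_decomp (x : G) (hx : x * t = t * x) : ∃ a ∈ V, ∃ b ∈ B, x = a * b := by
  have hxC : x ∈ Subgroup.centralizer ({t} : Set G) := (mem_centralizer_singleton_iff' t x).mpr hx
  rw [← h.hVB.2.2.2.2] at hxC
  have hr := MonoidHom.noncommCoprod_range V.subtype B.subtype
    (fun m n => comm_VB h m.2 n.2)
  rw [Subgroup.range_subtype, Subgroup.range_subtype] at hr
  rw [← hr] at hxC
  obtain ⟨⟨a, b⟩, hab⟩ := hxC
  refine ⟨a, a.2, b, b.2, ?_⟩
  rw [← hab]
  rfl

theorem decomp_unique {a a' b b' : G} (ha : a ∈ V) (ha' : a' ∈ V) (hb : b ∈ B) (hb' : b' ∈ B)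
    (heq : a * b = a' * b') : a = a' ∧ b = b' := by
  have h1 : a'⁻¹ * a = b' * b⁻¹ := by
    have : a'⁻¹ * (a * b) * b⁻¹ = a'⁻¹ * (a' * b') * b⁻¹ := by rw [heq]
    rw [← mul_assoc, mul_assoc, mul_inv_cancel, mul_one, ← mul_assoc, inv_mul_cancel, one_mul]
      at this
    exact this
  have h2 : a'⁻¹ * a = 1 :=
    eq_one_of_mem_VB h (V.mul_mem (V.inv_mem ha') ha) (h1 ▸ B.mul_mem hb' (B.inv_mem hb))
  have h3 : a = a' := by
    have := congrArg (fun x => a' * x) h2
    simpa using this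
  refine ⟨h3, ?_⟩
  rw [h3] at heq
  exact mul_left_cancel heq

end

/-- an element with `a² = 1`: its integer powers -/
theorem zpow_of_sq {a : G} (ha : a * a = 1) (k : ℤ) : (Even k ∧ a ^ k = 1) ∨ (Odd k ∧ a ^ k = a) := by
  rcases Int.even_or_odd k with hk | hk
  · left
    refine ⟨hk, ?_⟩
    obtain ⟨j, rfl⟩ := hk
    rw [zpow_add, ← (Commute.refl a).mul_zpow, ha, one_zpow]
  · right
    refine ⟨hk, ?_⟩
    obtain ⟨j, rfl⟩ := hk
    rw [zpow_add, zpow_one, two_mul, zpow_add, ← (Commute.refl a).mul_zpow, ha, one_zpow, one_mul]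

/-- FO-T -/
theorem count_t (h : HJ z t Q K V B) :
    Nat.card {p : G × G // IsConj z p.1 ∧ IsConj t p.2 ∧ t ∈ Subgroup.zpowers (p.1 * p.2)} = 195 := by
  obtain ⟨e⟩ := h.BA5
  rw [← a5_card_pairs e]
  symm
  have htt := t_sq h
  have hA5 := a5_involutions e
  -- the forward map is well defined
  have hfwd : ∀ p : B × B, orderOf p.1 = 2 ∧ p.2 ^ 2 = 1 ∧ (p.1 * p.2) ^ 15 = 1 →
      IsConj z (p.1 : G) ∧ IsConj t (t * (p.2 : G)) ∧
        t ∈ Subgroup.zpowers ((p.1 : G) * (t * (p.2 : G))) := by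
    rintro ⟨⟨u, hu⟩, ⟨b, hb⟩⟩ ⟨h1, h2, h3⟩
    have hou : orderOf u = 2 := by
      rw [← h1]
      exact Subgroup.orderOf_coe (⟨u, hu⟩ : B)
    have hb2 : b ^ 2 = 1 := by
      have := congrArg Subtype.val h2
      simpa using this
    have hub : (u * b) ^ 15 = 1 := by
      have := congrArg Subtype.val h3
      simpa using this
    have htb : t * b = b * t := comm_VB h h.htV hb
    have htu : t * u = u * t := comm_VB h h.htV hu
    refine ⟨(h.hBz u hu hou).symm, ?_, ?_⟩
    · have hx1 : t * b ≠ 1 := by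
        intro h0
        have : t = b⁻¹ := eq_inv_of_mul_eq_one_left h0
        exact t_not_mem_B h (this ▸ B.inv_mem hb)
      have hx2 : (t * b) ^ 2 = 1 := by
        rw [(show Commute t b from htb).mul_pow, hb2, mul_one, pow_two, htt]
      have hxB : t * b ∉ B := by
        intro hB
        have : t = (t * b) * b⁻¹ := by rw [mul_inv_cancel_right]
        exact t_not_mem_B h (this ▸ B.mul_mem hB (B.inv_mem hb))
      have hxC : t * b ∈ Subgroup.centralizer ({t} : Set G) := by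
        rw [mem_centralizer_singleton_iff']
        rw [mul_assoc, ← htb]
      exact (h.hCt (t * b) hxC (orderOf_eq_prime hx2 hx1) hxB).symm
    · have heq : u * (t * b) = t * (u * b) := by
        rw [← mul_assoc, ← htu, mul_assoc]
      have hcomm : Commute t (u * b) := by
        show t * (u * b) = (u * b) * t
        exact comm_VB h h.htV (B.mul_mem hu hb)
      have ht15 : t ^ 15 = t := by
        have : t ^ 15 = (t * t) ^ 7 * t := by
          rw [← pow_two, ← pow_mul, ← pow_succ]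
        rw [this, htt, one_pow, one_mul]
      have : (u * (t * b)) ^ 15 = t := by
        rw [heq, hcomm.mul_pow, hub, mul_one, ht15]
      have hm : (u * (t * b)) ^ 15 ∈ Subgroup.zpowers (u * (t * b)) :=
        Subgroup.pow_mem _ (Subgroup.mem_zpowers _) 15
      rw [this] at hm
      exact hm
  refine Nat.card_congr (Equiv.ofBijective
    (fun p => ⟨((p.1.1 : G), t * (p.1.2 : G)), hfwd p.1 p.2⟩) ⟨?_, ?_⟩)
  · rintro ⟨⟨u, b⟩, hp⟩ ⟨⟨u', b'⟩, hp'⟩ heq
    have h1 := congrArg (fun q => q.1.1) heq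
    have h2 := congrArg (fun q => q.1.2) heq
    simp only at h1 h2
    have h3 : (b : G) = b' := mul_left_cancel h2
    apply Subtype.ext
    exact Prod.ext (Subtype.ext h1) (Subtype.ext h3)
  · rintro ⟨⟨u', v'⟩, hu', hv', ht'⟩
    simp only at hu' hv' ht'
    have hou : orderOf u' = 2 := by rw [← orderOf_of_isConj' hu', h.hz]
    have hov : orderOf v' = 2 := by rw [← orderOf_of_isConj' hv', h.ht]
    have hu2 : u' * u' = 1 := by
      have := pow_orderOf_eq_one u'
      rwa [hou, pow_two] at this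
    have hv2 : v' * v' = 1 := by
      have := pow_orderOf_eq_one v'
      rwa [hov, pow_two] at this
    have hti : t⁻¹ = t := inv_eq_of_mul_eq_one_right htt
    obtain ⟨hinv1, hinv2⟩ := inv_of_mem_zpowers u' v' t hu2 hv2 ht'
    rw [hti] at hinv1 hinv2
    have hut : u' * t = t * u' := by
      have := congrArg (fun x => x * u') hinv1
      simpa using this
    have hvt : v' * t = t * v' := by
      have := congrArg (fun x => x * v') hinv2
      simpa using this
    have huB : u' ∈ B := (mem_B_iff h u' hou hut).mpr hu'.symm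
    have hvB : v' ∉ B := (not_mem_B_iff h v' hov hvt).mpr hv'.symm
    obtain ⟨a, ha, b, hb, hab⟩ := exists_decomp h v' hvt
    have ha2 : a * a = 1 := by
      have := h.hV2 a ha
      rwa [pow_two] at this
    have hcab : Commute a b := comm_VB h ha hb
    have hb2 : b ^ 2 = 1 := by
      have : (a * b) ^ 2 = 1 := by rw [← hab, pow_two, hv2]
      rw [hcab.mul_pow, pow_two a, ha2, one_mul] at this
      exact this
    -- the power
    obtain ⟨k, hk⟩ := Subgroup.mem_zpowers_iff.mp ht'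
    have heq : u' * v' = a * (u' * b) := by
      rw [hab, ← mul_assoc, ← comm_VB h ha huB, mul_assoc]
    have hcomm : Commute a (u' * b) := comm_VB h ha (B.mul_mem huB hb)
    rw [heq, hcomm.mul_zpow] at hk
    have hdec := decomp_unique h (V.zpow_mem ha k) h.htV (B.zpow_mem (B.mul_mem huB hb) k) B.one_mem
      (by rw [hk, mul_one])
    obtain ⟨hak, hwk⟩ := hdec
    have hkodd : Odd k ∧ a = t := by
      rcases zpow_of_sq ha2 k with ⟨_, h1⟩ | ⟨hodd, h1⟩
      · exfalso
        rw [h1] at hak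
        exact t_ne h hak.symm
      · rw [h1] at hak
        exact ⟨hodd, hak⟩
    obtain ⟨hkodd, hat⟩ := hkodd
    -- odd order
    have hw15 : ((⟨u', huB⟩ : B) * ⟨b, hb⟩) ^ 15 = 1 := by
      rw [← hA5.2.2.2.2]
      have hwk' : ((⟨u', huB⟩ : B) * ⟨b, hb⟩) ^ k = 1 := by
        apply Subtype.ext
        simpa using hwk
      have hdvd : (orderOf ((⟨u', huB⟩ : B) * ⟨b, hb⟩) : ℤ) ∣ k :=
        orderOf_dvd_iff_zpow_eq_one.mpr hwk'
      rw [Int.natCast_dvd] at hdvd
      exact Odd.of_dvd_nat (Int.natAbs_odd.mpr hkodd) hdvd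
    refine ⟨⟨(⟨u', huB⟩, ⟨b, hb⟩), ?_, ?_, hw15⟩, ?_⟩
    · show orderOf (⟨u', huB⟩ : B) = 2
      rw [← hou]
      exact Subgroup.orderOf_coe (⟨u', huB⟩ : B) |>.symm ▸ rfl
    · show (⟨b, hb⟩ : B) ^ 2 = 1
      apply Subtype.ext
      simpa using hb2
    · apply Subtype.ext
      show ((u', t * b) : G × G) = (u', v')
      rw [hab, hat]

end Cfsg.Agent.Lib.Helper6.S3313T
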