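import Mathlib

/-!
# S3439, part A: the field with 81 elements and the semilinear group `F20`

`K = GaloisField 3 4`; `P n = iterateFrobenius K 3 n` (`x ↦ x ^ 3 ^ n`); `SemiF` is the group of
additive automorphisms `x ↦ c * x ^ 3 ^ j` with `c ^ 5 = 1` (a Frobenius group of order 20).
-/

set_option autoImplicit false

namespace Cfsg.Agent.Lib.Helper6.S3439A

/-- The field with 81 elements. -/
abbrev K : Type := GaloisField 3 4

theorem natCard_K : Nat.card K = 81 := by
  have h := GaloisField.card 3 4 (by norm_num)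
  simpa using h

theorem pow81 (x : K) : x ^ 81 = x := by
  have : Fintype K := Fintype.ofFinite K
  have h := FiniteField.pow_card x
  have hc : Fintype.card K = 81 := by
    rw [← Nat.card_eq_fintype_card]; exact natCard_K
  rwa [hc] at h

theorem three_eq_zero : (3 : K) = 0 := by
  have := CharP.cast_eq_zero K 3
  exact_mod_cast this

/-- `x ↦ x ^ 3 ^ n` as a ring homomorphism. -/
noncomputable abbrev P (n : ℕ) : K →+* K := iterateFrobenius K 3 n

theorem P_def (n : ℕ) (x : K) : P n x = x ^ 3 ^ n := rfl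

theorem P_four (x : K) : P 4 x = x := by
  rw [P_def]; norm_num; exact pow81 x

theorem P_add (m n : ℕ) (x : K) : P m (P n x) = P (m + n) x :=
  (iterateFrobenius_add_apply K 3 m n x).symm

theorem P_zero (x : K) : P 0 x = x := iterateFrobenius_zero_apply K 3 x

theorem P_add_four (n : ℕ) (x : K) : P (n + 4) x = P n x := by
  rw [← P_add, P_four]

theorem P_mod (n : ℕ) (x : K) : P n x = P (n % 4) x := by
  induction n using Nat.strong_induction_on with
  | _ n ih =>
    by_cases h : n < 4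
    · rw [Nat.mod_eq_of_lt h]
    · push Not at h
      obtain ⟨k, rfl⟩ : ∃ k, n = k + 4 := ⟨n - 4, by omega⟩
      rw [P_add_four, ih k (by omega), Nat.add_mod_right]

theorem P11 (x : K) : P 1 (P 1 x) = P 2 x := P_add 1 1 x
theorem P12 (x : K) : P 1 (P 2 x) = P 3 x := P_add 1 2 x
theorem P13 (x : K) : P 1 (P 3 x) = x := by rw [P_add]; exact P_four x
theorem P21 (x : K) : P 2 (P 1 x) = P 3 x := P_add 2 1 x
theorem P22 (x : K) : P 2 (P 2 x) = x := by rw [P_add]; exact P_four x
theorem P23 (x : K) : P 2 (P 3 x) = P 1 x := by rw [P_add, P_mod]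
theorem P31 (x : K) : P 3 (P 1 x) = x := by rw [P_add]; exact P_four x
theorem P32 (x : K) : P 3 (P 2 x) = P 1 x := by rw [P_add, P_mod]
theorem P33 (x : K) : P 3 (P 3 x) = P 2 x := by rw [P_add, P_mod]

/-- A generator of the multiplicative group: an element of order 80. -/
theorem exists_gen : ∃ g : Kˣ, orderOf g = 80 := by
  have : Fintype K := Fintype.ofFinite K
  obtain ⟨g, hg⟩ := IsCyclic.exists_generator (α := Kˣ)
  refine ⟨g, ?_⟩
  have h1 : orderOf g = Nat.card Kˣ := orderOf_eq_card_of_forall_mem_zpowers hg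
  rw [h1, Nat.card_units, natCard_K]

/-- A primitive fifth root of unity. -/
theorem exists_zeta : ∃ z : K, z ^ 5 = 1 ∧ z ≠ 1 := by
  obtain ⟨g, hg⟩ := exists_gen
  refine ⟨((g ^ 16 : Kˣ) : K), ?_, ?_⟩
  · have : (g ^ 16) ^ 5 = (1 : Kˣ) := by
      rw [← pow_mul]; norm_num; rw [← hg]; exact pow_orderOf_eq_one g
    have h2 := congrArg (fun u : Kˣ => (u : K)) this
    simpa using h2
  · intro h
    have h1 : g ^ 16 = 1 := Units.ext (by simpa using h)
    have h2 := orderOf_dvd_of_pow_eq_one h1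
    rw [hg] at h2
    omega

/-- An element outside the subfield with nine elements. -/
theorem exists_theta : ∃ t : K, t ^ 9 ≠ t := by
  obtain ⟨g, hg⟩ := exists_gen
  refine ⟨(g : K), ?_⟩
  intro h
  have h1 : g ^ 8 = 1 := by
    apply Units.ext
    have hne : (g : K) ≠ 0 := g.ne_zero
    have : (g : K) ^ 8 * (g : K) = 1 * (g : K) := by rw [one_mul, ← pow_succ]; exact h
    have := mul_right_cancel₀ hne this
    simpa using this
  have h2 := orderOf_dvd_of_pow_eq_one h1
  rw [hg] at h2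
  omega

noncomputable def zeta : K := Classical.choose exists_zeta
theorem zeta_pow : zeta ^ 5 = 1 := (Classical.choose_spec exists_zeta).1
theorem zeta_ne : zeta ≠ 1 := (Classical.choose_spec exists_zeta).2
noncomputable def theta : K := Classical.choose exists_theta
theorem theta_ne : theta ^ 9 ≠ theta := Classical.choose_spec exists_theta

theorem ne_zero_of_pow5 {c : K} (hc : c ^ 5 = 1) : c ≠ 0 := by
  rintro rfl; norm_num at hc

theorem pow81_of_pow5 {c : K} (hc : c ^ 5 = 1) (n : ℕ) : P n c ^ 5 = 1 := by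
  rw [← map_pow, hc, map_one]

/-- The semilinear maps `x ↦ c * x ^ 3 ^ j`, `c ^ 5 = 1`. -/
def IsSemi (σ : Equiv.Perm K) : Prop := ∃ (c : K) (j : ℕ), c ^ 5 = 1 ∧ ∀ x, σ x = c * P j x

theorem isSemi_one : IsSemi 1 := ⟨1, 0, one_pow 5, fun x => by simp⟩

theorem isSemi_mul {σ τ : Equiv.Perm K} (hσ : IsSemi σ) (hτ : IsSemi τ) : IsSemi (σ * τ) := by
  obtain ⟨c, j, hc, h1⟩ := hσ
  obtain ⟨d, k, hd, h2⟩ := hτ
  refine ⟨c * P j d, j + k, ?_, fun x => ?_⟩
  · rw [mul_pow, hc, pow81_of_pow5 hd, one_mul]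
  · rw [Equiv.Perm.mul_apply, h2, h1, map_mul, P_add, mul_assoc]

theorem isSemi_inv {σ : Equiv.Perm K} (hσ : IsSemi σ) : IsSemi σ⁻¹ := by
  obtain ⟨c, j, hc, h1⟩ := hσ
  have hc0 := ne_zero_of_pow5 hc
  refine ⟨P (3 * j) c⁻¹, 3 * j, ?_, fun x => ?_⟩
  · rw [← map_pow, inv_pow, hc, inv_one, map_one]
  · have key : σ (P (3 * j) c⁻¹ * P (3 * j) x) = x := by
      rw [h1, map_mul, P_add, P_add]
      have e : j + 3 * j = 4 * j := by ring
      rw [e, P_mod (4 * j) c⁻¹, P_mod (4 * j) x, Nat.mul_mod_right, P_zero, P_zero,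
        ← mul_assoc, mul_inv_cancel₀ hc0, one_mul]
    exact Equiv.Perm.inv_eq_iff_eq.mpr key.symm

/-- The Frobenius group of order 20 acting on `K`. -/
def SemiF : Subgroup (Equiv.Perm K) where
  carrier := {σ | IsSemi σ}
  mul_mem' := isSemi_mul
  one_mem' := isSemi_one
  inv_mem' := isSemi_inv

theorem mem_SemiF {σ : Equiv.Perm K} : σ ∈ SemiF ↔ IsSemi σ := Iff.rfl

/-- Every element of `SemiF` is of one of four shapes. -/
theorem semi_cases (f : SemiF) : ∃ c : K, c ^ 5 = 1 ∧
    ((∀ x, (f : Equiv.Perm K) x = c * x) ∨ (∀ x, (f : Equiv.Perm K) x = c * P 1 x) ∨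
     (∀ x, (f : Equiv.Perm K) x = c * P 2 x) ∨ (∀ x, (f : Equiv.Perm K) x = c * P 3 x)) := by
  obtain ⟨c, j, hc, h⟩ := f.2
  refine ⟨c, hc, ?_⟩
  have hj : j % 4 < 4 := Nat.mod_lt _ (by norm_num)
  have h' : ∀ x, (f : Equiv.Perm K) x = c * P (j % 4) x := fun x => by rw [h, P_mod]
  interval_cases hjj : j % 4
  · left; intro x; rw [h', P_zero]
  · right; left; exact h'
  · right; right; left; exact h'
  · right; right; right; exact h'

end Cfsg.Agent.Lib.Helper6.S3439A
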