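import Mathlib
import Cfsg.Agent.Lib.Helper6.S3439A

/-!
# S3439, part B: the solvable group `GG = M ⋊ (E ⋊ F20)` of order `3^32 * 20`
-/

set_option autoImplicit false

namespace Cfsg.Agent.Lib.Helper6.S3439B

open Cfsg.Agent.Lib.Helper6.S3439A

abbrev M6 : Type := K × K × K × K × K × K
abbrev E2 : Type := K × K

/-- componentwise map -/
def mapM (g : K → K) (m : M6) : M6 :=
  (g m.1, g m.2.1, g m.2.2.1, g m.2.2.2.1, g m.2.2.2.2.1, g m.2.2.2.2.2)

def mapE (g : K → K) (e : E2) : E2 := (g e.1, g e.2)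

/-- The unipotent action of `E = K²` on `M = K⁶`. -/
noncomputable def rho (e : E2) (m : M6) : M6 :=
  (m.1,
   m.2.1 + P 3 e.1 * P 2 m.1,
   m.2.2.1 + P 2 e.1 * P 3 m.1,
   m.2.2.2.1 + P 2 e.2 * P 3 m.1,
   m.2.2.2.2.1 + P 3 e.2 * P 2 m.1,
   m.2.2.2.2.2 + P 3 e.2 * P 2 m.2.1 - P 1 e.2 * P 1 m.2.2.1 + P 1 e.1 * P 1 m.2.2.2.1
     - P 3 e.1 * P 2 m.2.2.2.2.1 + (P 1 e.1 * P 3 e.2 - P 3 e.1 * P 1 e.2) * m.1)

theorem rho_zero (m : M6) : rho 0 m = m := by
  simp [rho]

theorem rho_add_m (e : E2) (m m' : M6) : rho e (m + m') = rho e m + rho e m' := by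
  simp only [rho, Prod.fst_add, Prod.snd_add, map_add, Prod.mk_add_mk, Prod.mk.injEq]
  refine ⟨trivial, ?_, ?_, ?_, ?_, ?_⟩ <;> ring

theorem rho_rho (e e' : E2) (m : M6) : rho e (rho e' m) = rho (e + e') m := by
  simp only [rho, Prod.fst_add, Prod.snd_add, map_add, map_mul, Prod.mk.injEq,
    P12, P13, P22, P23]
  refine ⟨trivial, ?_, ?_, ?_, ?_, ?_⟩ <;> ring

theorem P_comm (m n : ℕ) (x : K) : P m (P n x) = P n (P m x) := by
  rw [P_add, P_add, Nat.add_comm]

theorem rho_P (j : ℕ) (e : E2) (m : M6) :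
    rho (mapE (P j) e) (mapM (P j) m) = mapM (P j) (rho e m) := by
  simp only [rho, mapM, mapE, map_add, map_mul, map_sub,
    P_comm j 3, P_comm j 2, P_comm j 1]

theorem rho_smul (c : K) (hc : c ^ 5 = 1) (e : E2) (m : M6) :
    rho (mapE (fun x => c * x) e) (mapM (fun x => c * x) m) = mapM (fun x => c * x) (rho e m) := by
  have h1 : P 1 c * P 1 c = c := by
    rw [P_def]; norm_num
    calc c ^ 3 * c ^ 3 = c ^ 5 * c := by ring
      _ = c := by rw [hc, one_mul]
  have h2 : P 3 c * P 2 c = c := by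
    rw [P_def, P_def]; norm_num
    calc c ^ 27 * c ^ 9 = (c ^ 5) ^ 7 * c := by ring
      _ = c := by rw [hc, one_pow, one_mul]
  have h3 : P 1 c * P 3 c * c = c := by
    rw [P_def, P_def]; norm_num
    calc c ^ 3 * c ^ 27 * c = (c ^ 5) ^ 6 * c := by ring
      _ = c := by rw [hc, one_pow, one_mul]
  simp only [rho, mapM, mapE, map_mul, Prod.mk.injEq]
  refine ⟨trivial, ?_, ?_, ?_, ?_, ?_⟩
  · linear_combination (P 3 e.1 * P 2 m.1) * h2
  · linear_combination (P 2 e.1 * P 3 m.1) * h2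
  · linear_combination (P 2 e.2 * P 3 m.1) * h2
  · linear_combination (P 3 e.2 * P 2 m.1) * h2
  · linear_combination (P 3 e.2 * P 2 m.2.1 - P 3 e.1 * P 2 m.2.2.2.2.1) * h2
      + (P 1 e.1 * P 1 m.2.2.2.1 - P 1 e.2 * P 1 m.2.2.1) * h1
      + ((P 1 e.1 * P 3 e.2 - P 3 e.1 * P 1 e.2) * m.1) * h3

/-- The action of `f ∈ SemiF` on `K`. -/
def actK (f : SemiF) (x : K) : K := (f : Equiv.Perm K) x

theorem actK_one (x : K) : actK 1 x = x := rfl

theorem actK_mul (f g : SemiF) (x : K) : actK (f * g) x = actK f (actK g x) := rfl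

theorem actK_add (f : SemiF) (x y : K) : actK f (x + y) = actK f x + actK f y := by
  obtain ⟨c, j, -, h⟩ := f.2
  simp only [actK, h, map_add, mul_add]

theorem actK_zero (f : SemiF) : actK f 0 = 0 := by
  obtain ⟨c, j, -, h⟩ := f.2
  simp only [actK, h, map_zero, mul_zero]

theorem actK_neg (f : SemiF) (x : K) : actK f (-x) = -actK f x := by
  obtain ⟨c, j, -, h⟩ := f.2
  simp only [actK, h, map_neg, mul_neg]

def actM (f : SemiF) (m : M6) : M6 := mapM (actK f) m
def actE (f : SemiF) (e : E2) : E2 := mapE (actK f) e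

theorem actM_one (m : M6) : actM 1 m = m := rfl
theorem actE_one (e : E2) : actE 1 e = e := rfl
theorem actM_mul (f g : SemiF) (m : M6) : actM (f * g) m = actM f (actM g m) := rfl
theorem actE_mul (f g : SemiF) (e : E2) : actE (f * g) e = actE f (actE g e) := rfl

theorem actM_add (f : SemiF) (m m' : M6) : actM f (m + m') = actM f m + actM f m' := by
  simp only [actM, mapM, Prod.fst_add, Prod.snd_add, actK_add, Prod.mk_add_mk]

theorem actE_add (f : SemiF) (e e' : E2) : actE f (e + e') = actE f e + actE f e' := by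
  simp only [actE, mapE, Prod.fst_add, Prod.snd_add, actK_add, Prod.mk_add_mk]

theorem actM_zero (f : SemiF) : actM f 0 = 0 := by
  simp only [actM, mapM, Prod.fst_zero, Prod.snd_zero, actK_zero]; rfl

theorem actE_zero (f : SemiF) : actE f 0 = 0 := by
  simp only [actE, mapE, Prod.fst_zero, Prod.snd_zero, actK_zero]; rfl

theorem actM_neg (f : SemiF) (m : M6) : actM f (-m) = -actM f m := by
  simp only [actM, mapM, Prod.fst_neg, Prod.snd_neg, actK_neg, Prod.neg_mk]

theorem actE_neg (f : SemiF) (e : E2) : actE f (-e) = -actE f e := by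
  simp only [actE, mapE, Prod.fst_neg, Prod.snd_neg, actK_neg, Prod.neg_mk]

theorem act_rho (f : SemiF) (e : E2) (m : M6) :
    actM f (rho e m) = rho (actE f e) (actM f m) := by
  obtain ⟨c, j, hc, h⟩ := f.2
  have hf : actK f = fun x => c * P j x := funext h
  have e1 : actM f = fun m => mapM (fun x => c * x) (mapM (P j) m) := by
    funext m; simp only [actM, hf, mapM]
  have e2 : actE f = fun e => mapE (fun x => c * x) (mapE (P j) e) := by
    funext e; simp only [actE, hf, mapE]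
  rw [e1, e2]
  simp only
  rw [rho_smul c hc, rho_P]

/-- The group. -/
@[ext]
structure GG where
  m : M6
  e : E2
  f : SemiF

noncomputable instance : Mul GG :=
  ⟨fun g h => ⟨g.m + rho g.e (actM g.f h.m), g.e + actE g.f h.e, g.f * h.f⟩⟩

noncomputable instance : One GG := ⟨⟨0, 0, 1⟩⟩

noncomputable instance : Inv GG :=
  ⟨fun g => ⟨-rho (-actE g.f⁻¹ g.e) (actM g.f⁻¹ g.m), -actE g.f⁻¹ g.e, g.f⁻¹⟩⟩

theorem mul_m (g h : GG) : (g * h).m = g.m + rho g.e (actM g.f h.m) := rfl
theorem mul_e (g h : GG) : (g * h).e = g.e + actE g.f h.e := rfl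
theorem mul_f (g h : GG) : (g * h).f = g.f * h.f := rfl
theorem one_m : (1 : GG).m = 0 := rfl
theorem one_e : (1 : GG).e = 0 := rfl
theorem one_f : (1 : GG).f = 1 := rfl

noncomputable instance : Group GG :=
  Group.ofLeftAxioms
    (by
      intro a b c
      ext1
      · simp only [mul_m, mul_e, mul_f, actM_add, rho_add_m, act_rho, rho_rho, actM_mul, add_assoc]
      · simp only [mul_e, mul_f, actE_add, actE_mul, add_assoc]
      · simp only [mul_f, mul_assoc])
    (by
      intro a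
      ext1
      · simp only [mul_m, one_m, one_e, one_f, rho_zero, actM_one, zero_add]
      · simp only [mul_e, one_e, one_f, actE_one, zero_add]
      · simp only [mul_f, one_f, one_mul])
    (by
      intro a
      ext1
      · change -rho (-actE a.f⁻¹ a.e) (actM a.f⁻¹ a.m) + rho (-actE a.f⁻¹ a.e) (actM a.f⁻¹ a.m) = 0
        exact neg_add_cancel _
      · change -actE a.f⁻¹ a.e + actE a.f⁻¹ a.e = 0
        exact neg_add_cancel _
      · change a.f⁻¹ * a.f = 1
        exact inv_mul_cancel _)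

end Cfsg.Agent.Lib.Helper6.S3439B
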