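import Mathlib
import Cfsg.Agent.Lib.Helper6.S3439B

/-!
# S3439, part C: every element of `GG` has order in `{1,2,3,4,5,6,9,12}`
-/

set_option autoImplicit false

namespace Cfsg.Agent.Lib.Helper6.S3439C

open Cfsg.Agent.Lib.Helper6.S3439A Cfsg.Agent.Lib.Helper6.S3439B

/-- projection to the top group -/
noncomputable def piF : GG →* SemiF where
  toFun g := g.f
  map_one' := rfl
  map_mul' _ _ := rfl

theorem pow_f (g : GG) (n : ℕ) : (g ^ n).f = g.f ^ n := map_pow piF g n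

/-- the cubic invariant -/
noncomputable def w3 (e : E2) : K := P 1 e.1 * P 3 e.2 - P 3 e.1 * P 1 e.2

theorem w3_zero : w3 0 = 0 := by simp [w3]

theorem eq_one_iff (g : GG) : g = 1 ↔ g.m = 0 ∧ g.e = 0 ∧ g.f = 1 := by
  constructor
  · rintro rfl; exact ⟨rfl, rfl, rfl⟩
  · rintro ⟨h1, h2, h3⟩; ext1 <;> assumption

theorem cube (g : GG) (hf : g.f = 1) :
    g ^ 3 = ⟨(0, 0, 0, 0, 0, -(w3 g.e * g.m.1)), 0, 1⟩ := by
  have h3 := three_eq_zero
  have e3 : g ^ 3 = g * g * g := by rw [pow_succ, pow_two]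
  rw [e3]
  ext1
  · simp only [mul_m, mul_e, mul_f, hf, mul_one, actM_one, actE_one]
    refine Prod.ext ?_ (Prod.ext ?_ (Prod.ext ?_ (Prod.ext ?_ (Prod.ext ?_ ?_))))
    · simp only [rho, Prod.fst_add, Prod.snd_add, map_add, w3]
      linear_combination g.m.1 * h3
    · simp only [rho, Prod.fst_add, Prod.snd_add, map_add, w3]
      linear_combination (g.m.2.1 + P 3 g.e.1 * P 2 g.m.1) * h3
    · simp only [rho, Prod.fst_add, Prod.snd_add, map_add, w3]
      linear_combination (g.m.2.2.1 + P 2 g.e.1 * P 3 g.m.1) * h3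
    · simp only [rho, Prod.fst_add, Prod.snd_add, map_add, w3]
      linear_combination (g.m.2.2.2.1 + P 2 g.e.2 * P 3 g.m.1) * h3
    · simp only [rho, Prod.fst_add, Prod.snd_add, map_add, w3]
      linear_combination (g.m.2.2.2.2.1 + P 3 g.e.2 * P 2 g.m.1) * h3
    · simp only [rho, Prod.fst_add, Prod.snd_add, map_add, w3]
      linear_combination (g.m.2.2.2.2.2 + P 3 g.e.2 * P 2 g.m.2.1 - P 1 g.e.2 * P 1 g.m.2.2.1
        + P 1 g.e.1 * P 1 g.m.2.2.2.1 - P 3 g.e.1 * P 2 g.m.2.2.2.2.1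
        + 2 * (P 1 g.e.1 * P 3 g.e.2 - P 3 g.e.1 * P 1 g.e.2) * g.m.1) * h3
  · simp only [mul_e, mul_f, hf, mul_one, actE_one]
    ext
    · simp only [Prod.fst_add, Prod.fst_zero]; linear_combination g.e.1 * h3
    · simp only [Prod.snd_add, Prod.snd_zero]; linear_combination g.e.2 * h3
  · simp only [mul_f, hf, mul_one]

theorem cube_eq_one (g : GG) (hf : g.f = 1) (hw : w3 g.e = 0) : g ^ 3 = 1 := by
  rw [cube g hf, hw, zero_mul, neg_zero]; rfl

theorem pow_nine (g : GG) (hf : g.f = 1) : g ^ 9 = 1 := by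
  have e : g ^ 9 = (g ^ 3) ^ 3 := by rw [← pow_mul]
  rw [e]
  apply cube_eq_one
  · rw [pow_f, hf, one_pow]
  · rw [cube g hf]; exact w3_zero

/-- If `g ^ n` lies in the kernel, its `E`-part is fixed by `g.f`. -/
theorem fixed_e (g : GG) (n : ℕ) (hn : (g ^ n).f = 1) : actE g.f (g ^ n).e = (g ^ n).e := by
  have hcomm : g * g ^ n = g ^ n * g := by rw [← pow_succ', ← pow_succ]
  have h := congrArg GG.e hcomm
  rw [mul_e, mul_e, hn, actE_one, add_comm] at h
  exact add_right_cancel h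

theorem fixed_m (g : GG) (n : ℕ) (hn : (g ^ n).f = 1) (he : (g ^ n).e = 0) :
    rho g.e (actM g.f (g ^ n).m) = (g ^ n).m := by
  have hcomm : g * g ^ n = g ^ n * g := by rw [← pow_succ', ← pow_succ]
  have h := congrArg GG.m hcomm
  rw [mul_m, mul_m, hn, he, actM_one, rho_zero, add_comm] at h
  exact add_right_cancel h

theorem w3_of_fixed (c : K) (hc : c ≠ 0) (e : E2) (h1 : c * P 2 e.1 = e.1) (h2 : c * P 2 e.2 = e.2) :
    w3 e = 0 := by
  have hw : c * (e.1 * P 2 e.2 - P 2 e.1 * e.2) = 0 := by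
    linear_combination e.1 * h2 - e.2 * h1
  have hw' : e.1 * P 2 e.2 - P 2 e.1 * e.2 = 0 := by
    rcases mul_eq_zero.mp hw with h | h
    · exact absurd h hc
    · exact h
  have := congrArg (P 1) hw'
  simp only [map_sub, map_mul, P12, map_zero] at this
  rw [w3]
  exact this


theorem f_pow_eq_one_of (f : SemiF) (n : ℕ) (h : ∀ x, ((f : Equiv.Perm K) ^ n) x = x) :
    f ^ n = 1 := by
  apply Subtype.ext
  rw [Subgroup.coe_pow, Subgroup.coe_one]
  exact Equiv.ext h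

theorem perm_pow2 (σ : Equiv.Perm K) (x : K) : (σ ^ 2) x = σ (σ x) := by
  rw [pow_two]; rfl

theorem perm_pow4 (σ : Equiv.Perm K) (x : K) : (σ ^ 4) x = σ (σ (σ (σ x))) := by
  have : σ ^ 4 = σ * σ * σ * σ := by rw [pow_succ, pow_succ, pow_succ, pow_one]
  rw [this]; rfl

theorem perm_pow5 (σ : Equiv.Perm K) (x : K) : (σ ^ 5) x = σ (σ (σ (σ (σ x)))) := by
  have : σ ^ 5 = σ * σ * σ * σ * σ := by rw [pow_succ, pow_succ, pow_succ, pow_succ, pow_one]
  rw [this]; rfl

theorem c_pow_facts {c : K} (hc : c ^ 5 = 1) :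
    P 1 c = c ^ 3 ∧ P 2 c = c ^ 9 ∧ P 3 c = c ^ 27 := by
  refine ⟨?_, ?_, ?_⟩ <;> (rw [P_def]; norm_num)

theorem eq_zero_of_mul_eq {c x : K} (hc : c ≠ 1) (h : c * x = x) : x = 0 := by
  have : (c - 1) * x = 0 := by linear_combination h
  rcases mul_eq_zero.mp this with h1 | h1
  · exact absurd (sub_eq_zero.mp h1) hc
  · exact h1

/-- the linear type -/
theorem case_lin (g : GG) (c : K) (hc : c ^ 5 = 1) (h : ∀ x, actK g.f x = c * x) :
    g ^ 9 = 1 ∨ g ^ 5 = 1 := by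
  by_cases hc1 : c = 1
  · left
    apply pow_nine
    apply Subtype.ext
    apply Equiv.ext
    intro x
    have := h x
    rw [hc1, one_mul] at this
    exact this
  · right
    have hf5 : g.f ^ 5 = 1 := by
      apply f_pow_eq_one_of
      intro x
      have h' : ∀ y, (g.f : Equiv.Perm K) y = c * y := h
      rw [perm_pow5]
      simp only [h']
      calc c * (c * (c * (c * (c * x)))) = c ^ 5 * x := by ring
        _ = x := by rw [hc, one_mul]
    have hn : (g ^ 5).f = 1 := by rw [pow_f, hf5]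
    have he := fixed_e g 5 hn
    have he0 : (g ^ 5).e = 0 := by
      have h1 := congrArg Prod.fst he
      have h2 := congrArg Prod.snd he
      simp only [actE, mapE, h] at h1 h2
      exact Prod.ext (eq_zero_of_mul_eq hc1 h1) (eq_zero_of_mul_eq hc1 h2)
    have hm := fixed_m g 5 hn he0
    have hm0 : (g ^ 5).m = 0 := by
      generalize (g ^ 5).m = m at hm
      obtain ⟨m0, a1, a2, b1, b2, m2⟩ := m
      simp only [rho, actM, mapM, h, Prod.mk.injEq] at hm
      obtain ⟨k0, k1, k2, k3, k4, k5⟩ := hm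
      have z0 := eq_zero_of_mul_eq hc1 k0
      subst z0
      simp only [mul_zero, map_zero, add_zero] at k1 k2 k3 k4 k5
      have z1 := eq_zero_of_mul_eq hc1 k1
      have z2 := eq_zero_of_mul_eq hc1 k2
      have z3 := eq_zero_of_mul_eq hc1 k3
      have z4 := eq_zero_of_mul_eq hc1 k4
      subst z1 z2 z3 z4
      simp only [mul_zero, map_zero, add_zero, sub_zero] at k5
      have z5 := eq_zero_of_mul_eq hc1 k5
      subst z5
      rfl
    exact (eq_one_iff _).mpr ⟨hm0, he0, hn⟩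

/-- the `x ↦ c x⁹` type -/
theorem case_two (g : GG) (c : K) (hc : c ^ 5 = 1) (h : ∀ x, actK g.f x = c * P 2 x) :
    g ^ 6 = 1 := by
  obtain ⟨-, hc2, -⟩ := c_pow_facts hc
  have hf2 : g.f ^ 2 = 1 := by
    apply f_pow_eq_one_of
    intro x
    have h' : ∀ y, (g.f : Equiv.Perm K) y = c * P 2 y := h
    rw [perm_pow2]
    simp only [h', map_mul, P22, hc2]
    calc c * (c ^ 9 * x) = (c ^ 5) ^ 2 * x := by ring
      _ = x := by rw [hc, one_pow, one_mul]
  have hn : (g ^ 2).f = 1 := by rw [pow_f, hf2]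
  have he := fixed_e g 2 hn
  have h1 := congrArg Prod.fst he
  have h2 := congrArg Prod.snd he
  simp only [actE, mapE, h] at h1 h2
  have hw := w3_of_fixed c (ne_zero_of_pow5 hc) _ h1 h2
  have e : g ^ 6 = (g ^ 2) ^ 3 := by rw [← pow_mul]
  rw [e]
  exact cube_eq_one _ hn hw

/-- the `x ↦ c x³` type -/
theorem case_one (g : GG) (c : K) (hc : c ^ 5 = 1) (h : ∀ x, actK g.f x = c * P 1 x) :
    g ^ 12 = 1 := by
  obtain ⟨hc1, hc2, hc3⟩ := c_pow_facts hc
  have hf4 : g.f ^ 4 = 1 := by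
    apply f_pow_eq_one_of
    intro x
    have h' : ∀ y, (g.f : Equiv.Perm K) y = c * P 1 y := h
    rw [perm_pow4]
    simp only [h', map_mul, map_pow, P11, P12, P13, hc1, hc2, hc3]
    calc _ = (c ^ 5) ^ 8 * x := by ring
      _ = x := by rw [hc, one_pow, one_mul]
  have hn : (g ^ 4).f = 1 := by rw [pow_f, hf4]
  have he := fixed_e g 4 hn
  have h1 := congrArg Prod.fst he
  have h2 := congrArg Prod.snd he
  simp only [actE, mapE, h] at h1 h2
  have hc0 := ne_zero_of_pow5 hc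
  have hc' : c * P 1 c ≠ 0 := mul_ne_zero hc0 (by rw [hc1]; exact pow_ne_zero _ hc0)
  have k1 : (c * P 1 c) * P 2 (g ^ 4).e.1 = (g ^ 4).e.1 := by
    calc (c * P 1 c) * P 2 (g ^ 4).e.1 = c * P 1 (c * P 1 (g ^ 4).e.1) := by
          rw [map_mul, P11]; ring
      _ = (g ^ 4).e.1 := by rw [h1, h1]
  have k2 : (c * P 1 c) * P 2 (g ^ 4).e.2 = (g ^ 4).e.2 := by
    calc (c * P 1 c) * P 2 (g ^ 4).e.2 = c * P 1 (c * P 1 (g ^ 4).e.2) := by
          rw [map_mul, P11]; ring
      _ = (g ^ 4).e.2 := by rw [h2, h2]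
  have hw := w3_of_fixed _ hc' _ k1 k2
  have e : g ^ 12 = (g ^ 4) ^ 3 := by rw [← pow_mul]
  rw [e]
  exact cube_eq_one _ hn hw

/-- the `x ↦ c x²⁷` type -/
theorem case_three (g : GG) (c : K) (hc : c ^ 5 = 1) (h : ∀ x, actK g.f x = c * P 3 x) :
    g ^ 12 = 1 := by
  obtain ⟨hc1, hc2, hc3⟩ := c_pow_facts hc
  have hf4 : g.f ^ 4 = 1 := by
    apply f_pow_eq_one_of
    intro x
    have h' : ∀ y, (g.f : Equiv.Perm K) y = c * P 3 y := h
    rw [perm_pow4]
    simp only [h', map_mul, map_pow, P31, P32, P33, P21, P22, P23, P11, P12, P13, hc1, hc2, hc3]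
    calc _ = (c ^ 5) ^ 4088 * x := by ring
      _ = x := by rw [hc, one_pow, one_mul]
  have hn : (g ^ 4).f = 1 := by rw [pow_f, hf4]
  have he := fixed_e g 4 hn
  have h1 := congrArg Prod.fst he
  have h2 := congrArg Prod.snd he
  simp only [actE, mapE, h] at h1 h2
  have hc0 := ne_zero_of_pow5 hc
  have hc' : c * P 3 c ≠ 0 := mul_ne_zero hc0 (by rw [hc3]; exact pow_ne_zero _ hc0)
  have k1 : (c * P 3 c) * P 2 (g ^ 4).e.1 = (g ^ 4).e.1 := by
    calc (c * P 3 c) * P 2 (g ^ 4).e.1 = c * P 3 (c * P 3 (g ^ 4).e.1) := by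
          rw [map_mul, P33]; ring
      _ = (g ^ 4).e.1 := by rw [h1, h1]
  have k2 : (c * P 3 c) * P 2 (g ^ 4).e.2 = (g ^ 4).e.2 := by
    calc (c * P 3 c) * P 2 (g ^ 4).e.2 = c * P 3 (c * P 3 (g ^ 4).e.2) := by
          rw [map_mul, P33]; ring
      _ = (g ^ 4).e.2 := by rw [h2, h2]
  have hw := w3_of_fixed _ hc' _ k1 k2
  have e : g ^ 12 = (g ^ 4) ^ 3 := by rw [← pow_mul]
  rw [e]
  exact cube_eq_one _ hn hw

theorem pow_cases (g : GG) : g ^ 9 = 1 ∨ g ^ 5 = 1 ∨ g ^ 6 = 1 ∨ g ^ 12 = 1 := by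
  obtain ⟨c, hc, h | h | h | h⟩ := semi_cases g.f
  · rcases case_lin g c hc h with h1 | h1
    · exact Or.inl h1
    · exact Or.inr (Or.inl h1)
  · exact Or.inr (Or.inr (Or.inr (case_one g c hc h)))
  · exact Or.inr (Or.inr (Or.inl (case_two g c hc h)))
  · exact Or.inr (Or.inr (Or.inr (case_three g c hc h)))

/-- The spectrum. -/
def SP : Set ℕ := {1, 2, 3, 4, 5, 6, 9, 12}

theorem mem_SP_of_dvd (o : ℕ) (h : o ∣ 9 ∨ o ∣ 5 ∨ o ∣ 6 ∨ o ∣ 12) : o ∈ SP := by
  unfold SP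
  rcases h with h | h | h | h
  · have hpos : 0 < o := Nat.pos_of_dvd_of_pos h (by norm_num)
    have hle : o ≤ 9 := Nat.le_of_dvd (by norm_num) h
    interval_cases o <;> first | (simp; done) | (exfalso; omega)
  · have hpos : 0 < o := Nat.pos_of_dvd_of_pos h (by norm_num)
    have hle : o ≤ 5 := Nat.le_of_dvd (by norm_num) h
    interval_cases o <;> first | (simp; done) | (exfalso; omega)
  · have hpos : 0 < o := Nat.pos_of_dvd_of_pos h (by norm_num)
    have hle : o ≤ 6 := Nat.le_of_dvd (by norm_num) h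
    interval_cases o <;> first | (simp; done) | (exfalso; omega)
  · have hpos : 0 < o := Nat.pos_of_dvd_of_pos h (by norm_num)
    have hle : o ≤ 12 := Nat.le_of_dvd (by norm_num) h
    interval_cases o <;> first | (simp; done) | (exfalso; omega)

theorem orderOf_mem_SP (g : GG) : orderOf g ∈ SP := by
  apply mem_SP_of_dvd
  rcases pow_cases g with h | h | h | h
  · exact Or.inl (orderOf_dvd_of_pow_eq_one h)
  · exact Or.inr (Or.inl (orderOf_dvd_of_pow_eq_one h))
  · exact Or.inr (Or.inr (Or.inl (orderOf_dvd_of_pow_eq_one h)))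
  · exact Or.inr (Or.inr (Or.inr (orderOf_dvd_of_pow_eq_one h)))

end Cfsg.Agent.Lib.Helper6.S3439C
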