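import Mathlib
import Cfsg.Agent.Lib.Helper6.S3439C

/-!
# S3439, part D: `GG` is finite, solvable and has spectrum exactly `{1,2,3,4,5,6,9,12}`
-/

set_option autoImplicit false

namespace Cfsg.Agent.Lib.Helper6.S3439D

open Cfsg.Agent.Lib.Helper6.S3439A Cfsg.Agent.Lib.Helper6.S3439B Cfsg.Agent.Lib.Helper6.S3439C
open scoped commutatorElement

/-! ### finiteness -/

instance : Finite GG :=
  Finite.of_injective (fun g : GG => (g.m, g.e, g.f)) (by
    intro g h hgh
    simp only [Prod.mk.injEq] at hgh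
    exact GG.ext hgh.1 hgh.2.1 hgh.2.2)

/-! ### special elements of `SemiF` -/

/-- multiplication by a nonzero constant -/
noncomputable def mulPerm (c : K) (hc : c ≠ 0) : Equiv.Perm K where
  toFun x := c * x
  invFun x := c⁻¹ * x
  left_inv x := by
    change c⁻¹ * (c * x) = x
    rw [← mul_assoc, inv_mul_cancel₀ hc, one_mul]
  right_inv x := by
    change c * (c⁻¹ * x) = x
    rw [← mul_assoc, mul_inv_cancel₀ hc, one_mul]

/-- multiplication by a fifth root of unity, in `SemiF` -/
noncomputable def mulF (c : K) (hc : c ^ 5 = 1) : SemiF :=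
  ⟨mulPerm c (ne_zero_of_pow5 hc), c, 0, hc, fun x => by rw [P_zero]; rfl⟩

theorem actK_mulF (c : K) (hc : c ^ 5 = 1) (x : K) : actK (mulF c hc) x = c * x := rfl

/-- the Frobenius `x ↦ x ^ 3` -/
noncomputable def frobPerm : Equiv.Perm K where
  toFun x := P 1 x
  invFun x := P 3 x
  left_inv x := P31 x
  right_inv x := P13 x

noncomputable def frobF : SemiF :=
  ⟨frobPerm, 1, 1, one_pow 5, fun x => by rw [one_mul]; rfl⟩

theorem actK_frobF (x : K) : actK frobF x = P 1 x := rfl

theorem semi_ext {f g : SemiF} (h : ∀ x, actK f x = actK g x) : f = g :=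
  Subtype.ext (Equiv.ext h)

theorem frobF_pow4 : frobF ^ 4 = 1 := by
  apply f_pow_eq_one_of
  intro x
  rw [perm_pow4]
  change P 1 (P 1 (P 1 (P 1 x))) = x
  rw [P11, P11, P22]

theorem frobF_sq_apply (x : K) : actK (frobF ^ 2) x = P 2 x := by
  change ((frobF : Equiv.Perm K) ^ 2) x = P 2 x
  rw [perm_pow2]
  change P 1 (P 1 x) = P 2 x
  rw [P11]

theorem frobF_sq_ne : frobF ^ 2 ≠ 1 := by
  intro h
  have := frobF_sq_apply theta
  rw [h, actK_one, P_def] at this
  exact theta_ne (by norm_num at this; exact this.symm)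

theorem orderOf_frobF : orderOf frobF = 4 := by
  have := orderOf_eq_prime_pow (x := frobF) (p := 2) (n := 1)
    (by norm_num; exact frobF_sq_ne) (by norm_num; exact frobF_pow4)
  simpa using this

theorem orderOf_frobF_sq : orderOf (frobF ^ 2) = 2 := by
  apply orderOf_eq_prime
  · rw [← pow_mul]; exact frobF_pow4
  · exact frobF_sq_ne

theorem orderOf_zetaF : orderOf (mulF zeta zeta_pow) = 5 := by
  haveI : Fact (Nat.Prime 5) := ⟨by norm_num⟩
  apply orderOf_eq_prime
  · apply f_pow_eq_one_of
    intro x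
    rw [perm_pow5]
    change zeta * (zeta * (zeta * (zeta * (zeta * x)))) = x
    calc zeta * (zeta * (zeta * (zeta * (zeta * x)))) = zeta ^ 5 * x := by ring
      _ = x := by rw [zeta_pow, one_mul]
  · intro h
    have := actK_mulF zeta zeta_pow 1
    rw [h, actK_one, mul_one] at this
    exact zeta_ne this.symm

/-! ### the embedding of `SemiF` -/

noncomputable def iota : SemiF →* GG where
  toFun f := ⟨0, 0, f⟩
  map_one' := rfl
  map_mul' f g := by
    ext1
    · simp only [mul_m, actM_zero, rho_zero, add_zero]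
    · simp only [mul_e, actE_zero, add_zero]
    · rfl

theorem iota_injective : Function.Injective iota := by
  intro f g h
  exact congrArg GG.f h

theorem orderOf_iota (f : SemiF) : orderOf (iota f) = orderOf f :=
  orderOf_injective iota iota_injective f

/-! ### elements of order 3 and 9 -/

noncomputable def uu : GG := ⟨(0, 0, 0, 0, 0, 1), 0, 1⟩

theorem orderOf_uu : orderOf uu = 3 := by
  apply orderOf_eq_prime
  · exact cube_eq_one uu rfl w3_zero
  · intro h
    have := congrArg (fun g : GG => g.m.2.2.2.2.2) h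
    simp only [uu, one_m] at this
    exact one_ne_zero this

noncomputable def vv : GG := ⟨(1, 0, 0, 0, 0, 0), (1, theta), 1⟩

theorem P1_injective : Function.Injective (P 1) := (P 1).injective

theorem orderOf_vv : orderOf vv = 9 := by
  have := orderOf_eq_prime_pow (x := vv) (p := 3) (n := 1) ?_ ?_
  · simpa using this
  · norm_num
    rw [cube vv rfl]
    intro h
    have h2 := congrArg (fun g : GG => g.m.2.2.2.2.2) h
    simp only [vv, one_m, w3, map_one, one_mul, mul_one] at h2
    have h3 : P 3 theta - P 1 theta = 0 := by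
      have : -(P 3 theta - P 1 theta) = 0 := h2
      exact neg_eq_zero.mp this
    have h4 : P 1 (P 2 theta) = P 1 theta := by rw [P12]; exact sub_eq_zero.mp h3
    have h5 := P1_injective h4
    rw [P_def] at h5
    exact theta_ne (by norm_num at h5; exact h5)
  · norm_num
    exact pow_nine vv rfl

/-! ### elements of order 6 and 12 -/

theorem commute_uu_iota (f : SemiF) (hf : actK f 1 = 1) : Commute uu (iota f) := by
  change uu * iota f = iota f * uu
  ext1
  · simp only [mul_m, iota, MonoidHom.coe_mk, OneHom.coe_mk, actM_zero, rho_zero, add_zero, zero_add]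
    simp only [uu, actM, mapM, actK_zero, hf, rho_zero, add_zero]
  · simp only [mul_e, iota, MonoidHom.coe_mk, OneHom.coe_mk, actE_zero, add_zero, zero_add]
    simp only [uu, actE_zero]
  · simp only [mul_f, iota, MonoidHom.coe_mk, OneHom.coe_mk]
    simp only [uu, one_mul, mul_one]

theorem orderOf_twelve : orderOf (uu * iota frobF) = 12 := by
  have hc : Commute uu (iota frobF) := commute_uu_iota frobF (by rw [actK_frobF, map_one])
  rw [hc.orderOf_mul_eq_mul_orderOf_of_coprime, orderOf_uu, orderOf_iota, orderOf_frobF]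
  rw [orderOf_uu, orderOf_iota, orderOf_frobF]; norm_num

theorem orderOf_six : orderOf (uu * iota (frobF ^ 2)) = 6 := by
  have hc : Commute uu (iota (frobF ^ 2)) :=
    commute_uu_iota (frobF ^ 2) (by rw [frobF_sq_apply, map_one])
  rw [hc.orderOf_mul_eq_mul_orderOf_of_coprime, orderOf_uu, orderOf_iota, orderOf_frobF_sq]
  rw [orderOf_uu, orderOf_iota, orderOf_frobF_sq]; norm_num

/-- The spectrum of `GG`. -/
theorem spectrum_GG : Set.range (orderOf : GG → ℕ) = SP := by
  apply Set.Subset.antisymm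
  · rintro _ ⟨g, rfl⟩
    exact orderOf_mem_SP g
  · intro n hn
    simp only [SP, Set.mem_insert_iff, Set.mem_singleton_iff] at hn
    rcases hn with rfl | rfl | rfl | rfl | rfl | rfl | rfl | rfl
    · exact ⟨1, orderOf_one⟩
    · exact ⟨iota (frobF ^ 2), by rw [orderOf_iota, orderOf_frobF_sq]⟩
    · exact ⟨uu, orderOf_uu⟩
    · exact ⟨iota frobF, by rw [orderOf_iota, orderOf_frobF]⟩
    · exact ⟨iota (mulF zeta zeta_pow), by rw [orderOf_iota, orderOf_zetaF]⟩
    · exact ⟨_, orderOf_six⟩
    · exact ⟨vv, orderOf_vv⟩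
    · exact ⟨_, orderOf_twelve⟩


/-! ### solvability -/

/-- the linear elements of `SemiF` -/
def LinF : Subgroup SemiF where
  carrier := {f | ∃ c : K, c ^ 5 = 1 ∧ ∀ x, actK f x = c * x}
  one_mem' := ⟨1, one_pow 5, fun x => by rw [actK_one, one_mul]⟩
  mul_mem' := by
    rintro f g ⟨c, hc, h1⟩ ⟨d, hd, h2⟩
    exact ⟨c * d, by rw [mul_pow, hc, hd, one_mul], fun x => by rw [actK_mul, h2, h1, mul_assoc]⟩
  inv_mem' := by
    rintro f ⟨c, hc, h1⟩
    have hc0 := ne_zero_of_pow5 hc
    refine ⟨c⁻¹, by rw [inv_pow, hc, inv_one], fun x => ?_⟩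
    have : actK f (c⁻¹ * x) = x := by rw [h1, ← mul_assoc, mul_inv_cancel₀ hc0, one_mul]
    have h2 : actK f⁻¹ (actK f (c⁻¹ * x)) = c⁻¹ * x := by
      rw [← actK_mul, inv_mul_cancel, actK_one]
    rw [this] at h2
    exact h2

theorem LinF_comm {f g : SemiF} (hf : f ∈ LinF) (hg : g ∈ LinF) : f * g = g * f := by
  obtain ⟨c, -, h1⟩ := hf
  obtain ⟨d, -, h2⟩ := hg
  apply semi_ext
  intro x
  rw [actK_mul, actK_mul, h1, h2, h1, h2]
  ring

theorem commutator_mem_LinF (a b : SemiF) : ⁅a, b⁆ ∈ LinF := by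
  obtain ⟨c, j, hc, h1⟩ := a.2
  obtain ⟨d, k, hd, h2⟩ := b.2
  have h1' : ∀ x, actK a x = c * P j x := h1
  have h2' : ∀ x, actK b x = d * P k x := h2
  have hc0 := ne_zero_of_pow5 hc
  have hd0 := ne_zero_of_pow5 hd
  have hPc : P k c ≠ 0 := by
    intro h; exact hc0 ((map_eq_zero (P k)).mp h)
  -- the constant
  set c0 : K := (c * P j d) * (d * P k c)⁻¹ with hc0def
  have hden : d * P k c ≠ 0 := mul_ne_zero hd0 hPc
  have hc05 : c0 ^ 5 = 1 := by
    rw [hc0def, mul_pow, mul_pow, inv_pow, mul_pow, hc, hd, pow81_of_pow5 hd, pow81_of_pow5 hc]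
    simp
  have key : a * b = mulF c0 hc05 * (b * a) := by
    apply semi_ext
    intro x
    rw [actK_mul, actK_mul, actK_mul, actK_mulF, h1', h2', h2', h1', map_mul, map_mul, P_add,
      P_add, Nat.add_comm k j, hc0def]
    field_simp
  have : ⁅a, b⁆ = mulF c0 hc05 := by
    rw [commutatorElement_def, key]
    group
  rw [this]
  exact ⟨c0, hc05, fun x => actK_mulF c0 hc05 x⟩

instance : Group.IsSolvable SemiF := by
  refine ⟨⟨2, ?_⟩⟩
  have h1 : derivedSeries SemiF 1 ≤ LinF := by
    rw [derivedSeries_succ, derivedSeries_zero, Subgroup.commutator_le]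
    intro a _ b _
    exact commutator_mem_LinF a b
  rw [derivedSeries_succ, eq_bot_iff]
  calc ⁅derivedSeries SemiF 1, derivedSeries SemiF 1⁆ ≤ ⁅LinF, LinF⁆ :=
        Subgroup.commutator_mono h1 h1
    _ ≤ ⊥ := by
        rw [Subgroup.commutator_le]
        intro a ha b hb
        rw [Subgroup.mem_bot, commutatorElement_eq_one_iff_mul_comm]
        exact LinF_comm ha hb

/-- the projection of the kernel of `piF` to `E` -/
noncomputable def piE : piF.ker →* Multiplicative E2 where
  toFun g := Multiplicative.ofAdd g.1.e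
  map_one' := rfl
  map_mul' g h := by
    have hg : g.1.f = 1 := g.2
    change Multiplicative.ofAdd (g.1 * h.1).e = _
    rw [mul_e, hg, actE_one]
    rfl

instance : Group.IsSolvable piE.ker := by
  apply Group.isSolvable_of_comm
  rintro ⟨⟨g, hg⟩, hge⟩ ⟨⟨h, hh⟩, hhe⟩
  apply Subtype.ext
  apply Subtype.ext
  change g * h = h * g
  have hgf : g.f = 1 := hg
  have hhf : h.f = 1 := hh
  have hge' : g.e = 0 := hge
  have hhe' : h.e = 0 := hhe
  ext1
  · rw [mul_m, mul_m, hgf, hhf, hge', hhe', rho_zero, rho_zero, actM_one, actM_one, add_comm]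
  · rw [mul_e, mul_e, hgf, hhf, hge', hhe']
  · rw [mul_f, mul_f, hgf, hhf]

instance : Group.IsSolvable piF.ker :=
  Group.isSolvable_of_ker_le_range piE.ker.subtype piE (by rw [Subgroup.range_subtype])

instance : Group.IsSolvable GG :=
  Group.isSolvable_of_ker_le_range piF.ker.subtype piF (by rw [Subgroup.range_subtype])


/-- The solvable side of S3439. -/
theorem solvable_side : ∃ (H : Type) (_ : Group H) (_ : Fintype H),
    Group.IsSolvable H ∧ Set.range (orderOf : H → ℕ) = SP :=
  ⟨GG, inferInstance, Fintype.ofFinite GG, inferInstance, spectrum_GG⟩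

end Cfsg.Agent.Lib.Helper6.S3439D
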