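import Cfsg.Agent.Lib.Helper6.S4427F0
import Cfsg.Agent.Lib.Helper26.S4427A

/-! S4427 piece [F]: reduction modulo the maximal ideal (wiring of the core `S4427F0` with
piece [A]). -/

set_option autoImplicit false

namespace Cfsg.Agent.Lib.Helper24.S4427

open Cfsg.Agent.Lib.Helper7 in
/-- [F] an idempotent of `ℂ[G]` with local coefficients and coefficient sum `1`: the sum of its
coefficients at the `p`-regular elements is `≡ 1` modulo the maximal ideal -/
theorem memLocalIdeal_sum_pRegular_sub_one {p : ℕ} [Fact p.Prime] {M : Ideal Cfsg.AlgInt}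
    (hM : Cfsg.IsPModular p M) {G : Type*} [Group G] [Fintype G] (ε : MonoidAlgebra ℂ G)
    (hε : IsIdempotentElem ε) (hloc : ∀ g, Cfsg.MemLocalRing M (ε.coeff g))
    (haug : ∑ g : G, ε.coeff g = 1) :
    Cfsg.MemLocalIdeal M
      (∑ g : G, (if p ∣ orderOf g then (0 : ℂ) else ε.coeff g) - 1) :=
  Helper6F.memLocalIdeal_of hM
    (fun e he ha => sum_coeff_pRegular_of_idem (F := ResF hM) p e he ha) ε hε hloc haug

end Cfsg.Agent.Lib.Helper24.S4427
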