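import Mathlib

/-!
# S4707 farm-out (architect helper11): FO-J `jordan_fpf`

In a primitive, not doubly transitive group of degree `2p` with `|N(P)| = 2p`, the Sylow
`p`-subgroup `P` has order `p` and the non-identity elements of its conjugates are fixed-point-free
(otherwise such an element is a `p`-cycle and Jordan's theorem makes `G` doubly transitive).
-/

set_option autoImplicit false

namespace Cfsg.Agent.Lib.Helper6.S4707FOJ

open Equiv MulAction

/-- **FO-J (Jordan)** -/
theorem jordan_fpf {α : Type*} [Fintype α] [DecidableEq α] {p : ℕ} [Fact p.Prime] (hp : 3 < p)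
    (hα : Fintype.card α = 2 * p) (G : Subgroup (Equiv.Perm α))
    (hprim : MulAction.IsPreprimitive G α) (hnot2 : ¬ MulAction.IsMultiplyPretransitive G α 2)
    (P : Sylow p G) (hN : Nat.card (Subgroup.normalizer ((P : Subgroup G) : Set G)) = 2 * p) :
    Nat.card (P : Subgroup G) = p ∧
    ∀ g : G, g ≠ 1 → (∃ k : G, k * g * k⁻¹ ∈ (P : Subgroup G)) → ∀ a : α, g • a ≠ a := by
  classical
  have hpp : p.Prime := Fact.out
  -- step 1 : |P| = p
  have hPle : (P : Subgroup G) ≤ Subgroup.normalizer ((P : Subgroup G) : Set G) :=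
    Subgroup.le_normalizer
  have hdvd1 : Nat.card (P : Subgroup G) ∣ 2 * p := by
    rw [← hN]; exact Subgroup.card_dvd_of_le hPle
  have hdvdG : 2 * p ∣ Nat.card G := by
    rw [← hN]; exact Subgroup.card_subgroup_dvd_card _
  have hcardP : Nat.card (P : Subgroup G) = p := by
    have h1 := P.card_eq_multiplicity
    have hpos : (Nat.card G).factorization p ≠ 0 := by
      intro h0
      have hpd : p ∣ Nat.card G := dvd_trans (dvd_mul_left p 2) hdvdG
      have hne : Nat.card G ≠ 0 := Nat.card_pos.ne'
      have := (hpp.dvd_iff_one_le_factorization hne).mp hpd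
      omega
    have hle : (Nat.card G).factorization p ≤ 1 := by
      by_contra hgt
      push Not at hgt
      have hp2 : p ^ 2 ∣ Nat.card (P : Subgroup G) := by
        rw [h1]; exact pow_dvd_pow p hgt
      have hp3 : p ^ 2 ∣ 2 * p := dvd_trans hp2 hdvd1
      rw [pow_two] at hp3
      have hp4 : p ∣ 2 := (Nat.mul_dvd_mul_iff_right hpp.pos).mp hp3
      have := Nat.le_of_dvd (by norm_num) hp4
      omega
    have : (Nat.card G).factorization p = 1 := by omega
    rw [h1, this, pow_one]
  refine ⟨hcardP, ?_⟩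
  -- step 2
  intro g hg1 hk a hga
  obtain ⟨k, hkP⟩ := hk
  obtain ⟨h, hh⟩ : ∃ h : G, h = k * g * k⁻¹ := ⟨_, rfl⟩
  rw [← hh] at hkP
  have hh1 : h ≠ 1 := by
    intro h1
    apply hg1
    have : g = k⁻¹ * h * k := by rw [hh]; group
    rw [this, h1]; group
  have hordh : orderOf h = p := by
    have h1 : orderOf (⟨h, hkP⟩ : (P : Subgroup G)) ∣ p := by
      have h0 := orderOf_dvd_natCard (⟨h, hkP⟩ : (P : Subgroup G))
      rw [hcardP] at h0
      exact h0
    have h2 : orderOf (⟨h, hkP⟩ : (P : Subgroup G)) = orderOf h := Subgroup.orderOf_mk h hkP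
    rw [h2] at h1
    rcases (Nat.dvd_prime hpp).mp h1 with h' | h'
    · exact absurd (orderOf_eq_one_iff.mp h') hh1
    · exact h'
  have hordh' : orderOf (h : Perm α) = p := by
    rw [Subgroup.orderOf_coe]; exact hordh
  -- `h` fixes `k a`
  have hfix : (h : Perm α) ((k : Perm α) a) = (k : Perm α) a := by
    have hga' : (g : Perm α) a = a := hga
    have : (h : Perm α) = (k : Perm α) * (g : Perm α) * (k : Perm α)⁻¹ := by
      rw [hh]; simp
    rw [this]
    simp [Perm.mul_apply, hga']
  -- the cycle type of `h`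
  obtain ⟨n, hn⟩ := Equiv.Perm.cycleType_prime_order (σ := (h : Perm α)) (by rw [hordh']; exact hpp)
  rw [hordh'] at hn
  have hsupp : (h : Perm α).support.card = (n + 1) * p := by
    rw [← Equiv.Perm.sum_cycleType, hn, Multiset.sum_replicate, smul_eq_mul]
  have hlt : (h : Perm α).support.card < 2 * p := by
    rw [← hα]
    apply Finset.card_lt_univ_of_notMem (x := (k : Perm α) a)
    rw [Equiv.Perm.mem_support, not_not]
    exact hfix
  have hn0 : n = 0 := by
    rw [hsupp] at hlt
    have : n + 1 < 2 := lt_of_mul_lt_mul_right hlt (Nat.zero_le p)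
    omega
  have hcyc : (h : Perm α).IsCycle := by
    rw [← Equiv.Perm.card_cycleType_eq_one, hn, hn0]
    simp
  have hsuppp : (h : Perm α).support.card = p := by rw [hsupp, hn0]; simp
  -- Jordan
  have htr := Equiv.Perm.isPretransitive_of_isCycle_mem (G := G) hcyc h.2
  apply hnot2
  have hsn : (((h : Perm α).support : Set α)ᶜ).ncard = (p - 1) + 1 := by
    rw [← Finset.coe_compl, Set.ncard_coe_finset, Finset.card_compl, hα, hsuppp]
    omega
  have hsn' : (p - 1) + 2 < Nat.card α := by
    rw [Nat.card_eq_fintype_card, hα]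
    omega
  exact hprim.is_two_pretransitive hsn hsn' htr

end Cfsg.Agent.Lib.Helper6.S4707FOJ
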