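import Mathlib

/-!
# S5663 U7, piece M4 (helper6): uniqueness of the Gram matrix fixed by a set of invertible matrices with scalar commutant

`gram_unique` of `notes/S5663U7Skel_helper22.lean.txt`, exact signature (Mathlib only).
-/

set_option autoImplicit false

namespace Cfsg.Agent.Lib.Helper6.S5663U7M4

open Matrix

variable {F : Type*} [Field F] {n m t : ℕ}

/-- **M4** uniqueness of the Gram matrix fixed by a set of invertible matrices with scalar commutant -/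
theorem gram_unique {κ : Type*} [Fintype κ] [DecidableEq κ] (σ : F →+* F) (S : Set (Matrix κ κ F))
    (hS : ∀ Z : Matrix κ κ F, (∀ s ∈ S, Z * s = s * Z) → ∃ c : F, Z = c • (1 : Matrix κ κ F))
    (hinv : ∀ s ∈ S, ∃ s' : Matrix κ κ F, s * s' = 1)
    (G G' : Matrix κ κ F) (hG : IsUnit G)
    (h1 : ∀ s ∈ S, sᵀ * G * s.map σ = G) (h2 : ∀ s ∈ S, sᵀ * G' * s.map σ = G') :
    ∃ c : F, G' = c • G := by
  have hdet := (Matrix.isUnit_iff_isUnit_det G).1 hG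
  have hGi1 : G⁻¹ * G = 1 := Matrix.nonsing_inv_mul G hdet
  have hGi2 : G * G⁻¹ = 1 := Matrix.mul_nonsing_inv G hdet
  have hcomm : ∀ s ∈ S, (G' * G⁻¹)ᵀ * s = s * (G' * G⁻¹)ᵀ := by
    intro s hs
    obtain ⟨s', hs'⟩ := hinv s hs
    have ht : s'ᵀ * sᵀ = 1 := by rw [← Matrix.transpose_mul, hs', Matrix.transpose_one]
    -- `σ s = G⁻¹ s'ᵀ G`
    have e1 : s.map σ = G⁻¹ * s'ᵀ * G := by
      have h3 : s'ᵀ * (sᵀ * G * s.map σ) = s'ᵀ * G := by rw [h1 s hs]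
      rw [← Matrix.mul_assoc, ← Matrix.mul_assoc, ht, Matrix.one_mul] at h3
      calc s.map σ = (G⁻¹ * G) * s.map σ := by rw [hGi1, Matrix.one_mul]
        _ = G⁻¹ * (G * s.map σ) := by rw [Matrix.mul_assoc]
        _ = G⁻¹ * s'ᵀ * G := by rw [h3, Matrix.mul_assoc]
    -- `sᵀ Z s'ᵀ = Z`
    have e2 : sᵀ * (G' * G⁻¹) * s'ᵀ = G' * G⁻¹ := by
      have h4 := h2 s hs
      rw [e1] at h4
      calc sᵀ * (G' * G⁻¹) * s'ᵀ = (sᵀ * G' * (G⁻¹ * s'ᵀ * G)) * G⁻¹ := by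
            simp only [Matrix.mul_assoc]
            rw [hGi2, Matrix.mul_one]
        _ = G' * G⁻¹ := by rw [h4]
    -- `sᵀ Z = Z sᵀ`
    have e3 : sᵀ * (G' * G⁻¹) = (G' * G⁻¹) * sᵀ := by
      calc sᵀ * (G' * G⁻¹) = sᵀ * (G' * G⁻¹) * (s'ᵀ * sᵀ) := by rw [ht, Matrix.mul_one]
        _ = (sᵀ * (G' * G⁻¹) * s'ᵀ) * sᵀ := by simp only [Matrix.mul_assoc]
        _ = (G' * G⁻¹) * sᵀ := by rw [e2]
    have e4 := congrArg Matrix.transpose e3
    rw [Matrix.transpose_mul sᵀ, Matrix.transpose_mul _ sᵀ, Matrix.transpose_transpose] at e4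
    exact e4
  obtain ⟨c, hc⟩ := hS _ hcomm
  refine ⟨c, ?_⟩
  have hZ : G' * G⁻¹ = c • (1 : Matrix κ κ F) := by
    have := congrArg Matrix.transpose hc
    rw [Matrix.transpose_transpose, Matrix.transpose_smul, Matrix.transpose_one] at this
    exact this
  calc G' = G' * (G⁻¹ * G) := by rw [hGi1, Matrix.mul_one]
    _ = (G' * G⁻¹) * G := by rw [Matrix.mul_assoc]
    _ = c • G := by rw [hZ, Matrix.smul_mul, Matrix.one_mul]

end Cfsg.Agent.Lib.Helper6.S5663U7M4
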