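import Mathlib
import Cfsg.Agent.Lib.Helper28.USpDefs
import Cfsg.Agent.Lib.Helper27.S5665FOSTRUCT

/-!
# S5665 FO-STRUCT (helper28's skeleton): the hypotheses of the statement give `UStrSp θ d`

Derived from `Helper27.S5665FOSTRUCT.exists_sustr` (same statement for helper27's `SUStr`);
the two structures have the same four fields up to `a ^ 2` versus `a * a`.
-/

set_option autoImplicit false
set_option linter.unusedSectionVars false
set_option linter.unusedVariables false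

namespace Cfsg.Agent.Lib.Helper6.S5665FOSTRUCT

open Matrix

universe u

theorem exists_ustrsp {F : Type u} [Field F] [Fintype F] (m : ℕ) (hodd : Odd (Fintype.card F))
    (K : Subalgebra F (Matrix (Fin m ⊕ Fin m) (Fin m ⊕ Fin m) F))
    (hK : Cfsg.Geo.IsFieldSubalgebra 2 K)
    (hac : Cfsg.Geo.IsAdjointClosedFor (Cfsg.sympForm m F) K)
    (hnsa : ¬ Cfsg.Geo.IsSelfAdjointFor (Cfsg.sympForm m F) K) :
    ∃ (θ : Matrix (Fin m ⊕ Fin m) (Fin m ⊕ Fin m) F) (d : F),
      Cfsg.Agent.Lib.Helper28.USp.UStrSp θ d ∧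
      ∀ k : Matrix (Fin m ⊕ Fin m) (Fin m ⊕ Fin m) F, k ∈ K ↔
        ∃ a b : F, k = a • (1 : Matrix (Fin m ⊕ Fin m) (Fin m ⊕ Fin m) F) + b • θ := by
  obtain ⟨θ, d, hS, hKK⟩ :=
    Cfsg.Agent.Lib.Helper27.S5665FOSTRUCT.exists_sustr m hodd K hK hac hnsa
  exact ⟨θ, d, ⟨hS.two, hS.sq, hS.adj, fun a h => hS.irr a (by rw [pow_two]; exact h)⟩, hKK⟩

end Cfsg.Agent.Lib.Helper6.S5665FOSTRUCT
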