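import Mathlib
import Cfsg.Agent.Lib.Helper13.TensSODefs
import Cfsg.Agent.Lib.Helper20.S5666ExitDefs
import Cfsg.Agent.Lib.Helper20.S5666ECLS0
import Cfsg.Agent.Lib.Helper23.S5670FOLEFT
import Cfsg.Agent.Lib.Helper6.S5666FOROOT

/-!
# S5666 EXIT, piece E-NK: Kronecker elements fixing `u₀^⊥ ⊗ W` pointwise (helper6)

`fix_kron` of `notes/S5666ExitASkel_helper20.lean.txt` (rev 2), exact signature.
-/

set_option autoImplicit false
set_option linter.unusedSectionVars false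
set_option linter.unusedVariables false

namespace Cfsg.Agent.Lib.Helper6.S5666ENK

open Matrix Module
open Cfsg.Agent.Lib.Helper16.Tens Cfsg.Agent.Lib.Helper10.TensFund Cfsg.Agent.Lib.Helper13.TensSO
open Cfsg.Agent.Lib.Helper28.TensU (ctrL ctrL_apply ctrL_pur hypL mem_hypL_iff ptL mem_ptL_iff pur_mem_ptL rootGLL
  rootGLL_val act_rootGLL rootGLL_mem_SL rootGLL_mem_kron)
open Cfsg.Agent.Lib.Helper3.SpT (bf SympG E E_mulVec E_mul_E uni uni_val uni_inv_val bf_add_left bf_add_right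
  bf_smul_left bf_smul_right bf_kron_pur bf_zero_left bf_zero_right bf_neg_left bf_neg_right bf_sub_left
  bf_sub_right pur_induction mat_ext_mulVec)
open Cfsg.Agent.Lib.Helper20.S5666Exit
open Cfsg.Agent.Lib.Helper20.S5666ECLS0 (pur_left_inj)
open Cfsg.Agent.Lib.Helper23.S5670LEFT (pur_eq_pur)
open Cfsg.Agent.Lib.Helper6.S5666FOROOT (exists_bf_eq_one)
open scoped Kronecker

variable {F : Type*} [Field F] {a b : ℕ}
variable {J1 : Matrix (Fin a) (Fin a) F} {J2 : Matrix (Fin b) (Fin b) F}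

local notation "K" => Cfsg.Geo.kroneckerSubgroup a b F
local notation "V" => (Fin a × Fin b → F)

/-- E-NK -/
theorem fix_kron (hJ1 : SympG J1) (hb : 1 ≤ b) (u₀ : Fin a → F) (hu0 : u₀ ≠ 0) (z : GL (Fin a × Fin b) F) (hzK : z ∈ K)
    (hfix : ∀ v ∈ hypL (b := b) (J1 *ᵥ u₀), act z v = v) :
    ∃ d : Fin a → F, ∀ v : V, act z v = v + pur d (ctrL (J1 *ᵥ u₀) v) := by
  obtain ⟨A, B, hAB⟩ := (mem_kron_iff _).1 hzK
  obtain ⟨u₁, hu₁⟩ := exists_bf_eq_one hJ1 u₀ hu0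
  have hact : ∀ (y : Fin a → F) (w : Fin b → F), act z (pur y w) =
      pur ((A : Matrix (Fin a) (Fin a) F) *ᵥ y) ((B : Matrix (Fin b) (Fin b) F) *ᵥ w) := by
    intro y w
    rw [act_apply, hAB, kron_mulVec_pur]
  have hfixp : ∀ (y : Fin a → F) (w : Fin b → F), bf J1 y u₀ = 0 →
      pur ((A : Matrix (Fin a) (Fin a) F) *ᵥ y) ((B : Matrix (Fin b) (Fin b) F) *ᵥ w) = pur y w := by
    intro y w hy
    rw [← hact]
    apply hfix
    rw [mem_hypL_iff, ctrL_J_pur, hy, zero_smul]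
  -- a non-zero vector of `W`
  set w₀ : Fin b → F := Pi.single ⟨0, by omega⟩ 1 with hw₀
  have hw₀0 : w₀ ≠ 0 := by
    intro h
    have h2 := congrFun h ⟨0, by omega⟩
    rw [hw₀, Pi.single_eq_same, Pi.zero_apply] at h2
    exact one_ne_zero h2
  -- `A u₀ = c u₀`
  obtain ⟨c, hc0, hAu, -⟩ := pur_eq_pur u₀ ((A : Matrix (Fin a) (Fin a) F) *ᵥ u₀) w₀
    ((B : Matrix (Fin b) (Fin b) F) *ᵥ w₀) (hfixp u₀ w₀ (hJ1.alt u₀)).symm hu0 hw₀0
  -- `B = c⁻¹`
  have hB : ∀ w : Fin b → F, (B : Matrix (Fin b) (Fin b) F) *ᵥ w = c⁻¹ • w := by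
    intro w
    have h1 := hfixp u₀ w (hJ1.alt u₀)
    rw [hAu, pur_smul_left, ← pur_smul_right] at h1
    have h2 := pur_left_inj hu0 h1
    conv_rhs => rw [← h2]
    rw [smul_smul, inv_mul_cancel₀ hc0, one_smul]
  -- `A y = c y` for `y ⟂ u₀`
  have hA : ∀ y : Fin a → F, bf J1 y u₀ = 0 → c⁻¹ • ((A : Matrix (Fin a) (Fin a) F) *ᵥ y) = y := by
    intro y hy
    have h1 := hfixp y w₀ hy
    rw [hB, pur_smul_right, ← pur_smul_left] at h1
    have h2 : pur (c⁻¹ • ((A : Matrix (Fin a) (Fin a) F) *ᵥ y) - y) w₀ = 0 := by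
      rw [sub_eq_add_neg, pur_add_left, pur_neg_left, h1, add_neg_cancel]
    rcases pur_eq_zero h2 with h3 | h3
    · exact sub_eq_zero.mp h3
    · exact absurd h3 hw₀0
  refine ⟨c⁻¹ • ((A : Matrix (Fin a) (Fin a) F) *ᵥ u₁) - u₁, ?_⟩
  intro v
  refine pur_induction (p := fun v => act z v = v + pur (c⁻¹ • ((A : Matrix (Fin a) (Fin a) F) *ᵥ u₁) - u₁)
    (ctrL (J1 *ᵥ u₀) v)) ?_ ?_ ?_ v
  · rw [map_zero, map_zero, pur_zero_right, add_zero]
  · intro x y hx hy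
    rw [map_add, hx, hy, map_add, pur_add_right]
    abel
  · intro y w
    have hy : y = (y - bf J1 y u₀ • u₁) + bf J1 y u₀ • u₁ := by abel
    have hy0 : bf J1 (y - bf J1 y u₀ • u₁) u₀ = 0 := by
      rw [bf_sub_left, bf_smul_left, hu₁, mul_one, sub_self]
    have h1 : c⁻¹ • ((A : Matrix (Fin a) (Fin a) F) *ᵥ y) =
        y + bf J1 y u₀ • (c⁻¹ • ((A : Matrix (Fin a) (Fin a) F) *ᵥ u₁) - u₁) := by
      conv_lhs => rw [hy]
      rw [Matrix.mulVec_add, Matrix.mulVec_smul, smul_add, hA _ hy0, smul_sub, smul_comm c⁻¹]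
      abel
    rw [hact, hB, pur_smul_right, ← pur_smul_left, h1, ctrL_J_pur, pur_add_left, pur_smul_left, pur_smul_right]

end Cfsg.Agent.Lib.Helper6.S5666ENK
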