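import Mathlib
import Cfsg.Agent.Lib.Helper15.FQuad
import Cfsg.Agent.Lib.Helper24.Heis3

/-!
# S5778 E4, concrete part: the data over `K25` and the boolean checks  (helper6)

`N(3^(1+2)) ∩ SU_3(5)` stabilises a set of `45` non-isotropic points (it lies in `3.M_10`).  Here: the list `L45` of
the `45` points (normalised), the `24` representatives `Q24` of `N ∩ SU` modulo the centraliser of `Z`, and the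
boolean checks, all evaluated by the kernel.
-/

set_option autoImplicit false

namespace Cfsg.Agent.Lib.Helper6.S5778E4

open Matrix Cfsg.Agent.Lib.Helper15.FQuad Cfsg.Agent.Lib.Helper24.Heis

/-- `3 × 3` matrices over `K25` -/
abbrev M3 := Matrix (Fin 3) (Fin 3) K25

/-- a primitive cube root of unity of `K25` -/
def om : K25 := ⟨2, 2⟩

/-- the cube roots of unity -/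
def C3 : List K25 := [1, om, om * om]

/-- the elements of `Fin 3` -/
def F3 : List (Fin 3) := [0, 1, 2]

theorem mem_F3 (j : Fin 3) : j ∈ F3 := by
  fin_cases j <;> simp [F3]

def L45 : List (Fin 3 → K25) := [![⟨0, 0⟩, ⟨1, 0⟩, ⟨4, 0⟩],
  ![⟨0, 0⟩, ⟨1, 0⟩, ⟨3, 2⟩],
  ![⟨0, 0⟩, ⟨1, 0⟩, ⟨3, 3⟩],
  ![⟨1, 0⟩, ⟨0, 0⟩, ⟨4, 0⟩],
  ![⟨1, 0⟩, ⟨0, 0⟩, ⟨3, 2⟩],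
  ![⟨1, 0⟩, ⟨0, 0⟩, ⟨3, 3⟩],
  ![⟨1, 0⟩, ⟨1, 0⟩, ⟨2, 0⟩],
  ![⟨1, 0⟩, ⟨1, 0⟩, ⟨4, 0⟩],
  ![⟨1, 0⟩, ⟨1, 0⟩, ⟨0, 2⟩],
  ![⟨1, 0⟩, ⟨1, 0⟩, ⟨0, 3⟩],
  ![⟨1, 0⟩, ⟨2, 0⟩, ⟨1, 0⟩],
  ![⟨1, 0⟩, ⟨3, 0⟩, ⟨3, 0⟩],
  ![⟨1, 0⟩, ⟨4, 0⟩, ⟨0, 0⟩],
  ![⟨1, 0⟩, ⟨4, 0⟩, ⟨1, 0⟩],
  ![⟨1, 0⟩, ⟨4, 0⟩, ⟨4, 0⟩],
  ![⟨1, 0⟩, ⟨0, 1⟩, ⟨0, 1⟩],
  ![⟨1, 0⟩, ⟨1, 1⟩, ⟨1, 4⟩],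
  ![⟨1, 0⟩, ⟨2, 1⟩, ⟨2, 3⟩],
  ![⟨1, 0⟩, ⟨3, 1⟩, ⟨2, 2⟩],
  ![⟨1, 0⟩, ⟨4, 1⟩, ⟨2, 2⟩],
  ![⟨1, 0⟩, ⟨0, 2⟩, ⟨1, 0⟩],
  ![⟨1, 0⟩, ⟨1, 2⟩, ⟨4, 2⟩],
  ![⟨1, 0⟩, ⟨2, 2⟩, ⟨3, 1⟩],
  ![⟨1, 0⟩, ⟨2, 2⟩, ⟨4, 1⟩],
  ![⟨1, 0⟩, ⟨2, 2⟩, ⟨3, 2⟩],
  ![⟨1, 0⟩, ⟨2, 2⟩, ⟨2, 4⟩],
  ![⟨1, 0⟩, ⟨3, 2⟩, ⟨0, 0⟩],
  ![⟨1, 0⟩, ⟨3, 2⟩, ⟨2, 2⟩],
  ![⟨1, 0⟩, ⟨3, 2⟩, ⟨3, 3⟩],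
  ![⟨1, 0⟩, ⟨4, 2⟩, ⟨1, 2⟩],
  ![⟨1, 0⟩, ⟨0, 3⟩, ⟨1, 0⟩],
  ![⟨1, 0⟩, ⟨1, 3⟩, ⟨4, 3⟩],
  ![⟨1, 0⟩, ⟨2, 3⟩, ⟨2, 1⟩],
  ![⟨1, 0⟩, ⟨2, 3⟩, ⟨3, 3⟩],
  ![⟨1, 0⟩, ⟨2, 3⟩, ⟨3, 4⟩],
  ![⟨1, 0⟩, ⟨2, 3⟩, ⟨4, 4⟩],
  ![⟨1, 0⟩, ⟨3, 3⟩, ⟨0, 0⟩],
  ![⟨1, 0⟩, ⟨3, 3⟩, ⟨3, 2⟩],
  ![⟨1, 0⟩, ⟨3, 3⟩, ⟨2, 3⟩],
  ![⟨1, 0⟩, ⟨4, 3⟩, ⟨1, 3⟩],
  ![⟨1, 0⟩, ⟨0, 4⟩, ⟨0, 4⟩],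
  ![⟨1, 0⟩, ⟨1, 4⟩, ⟨1, 1⟩],
  ![⟨1, 0⟩, ⟨2, 4⟩, ⟨2, 2⟩],
  ![⟨1, 0⟩, ⟨3, 4⟩, ⟨2, 3⟩],
  ![⟨1, 0⟩, ⟨4, 4⟩, ⟨2, 3⟩]]

def Q24 : List M3 := [!![⟨2, 1⟩, ⟨2, 1⟩, ⟨2, 1⟩; ⟨2, 1⟩, ⟨0, 3⟩, ⟨3, 1⟩; ⟨2, 1⟩, ⟨3, 1⟩, ⟨0, 3⟩],
  !![⟨3, 4⟩, ⟨3, 4⟩, ⟨3, 4⟩; ⟨3, 4⟩, ⟨2, 4⟩, ⟨0, 2⟩; ⟨3, 4⟩, ⟨0, 2⟩, ⟨2, 4⟩],
  !![⟨1, 0⟩, ⟨0, 0⟩, ⟨0, 0⟩; ⟨0, 0⟩, ⟨1, 0⟩, ⟨0, 0⟩; ⟨0, 0⟩, ⟨0, 0⟩, ⟨1, 0⟩],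
  !![⟨3, 1⟩, ⟨2, 1⟩, ⟨3, 1⟩; ⟨3, 1⟩, ⟨0, 3⟩, ⟨0, 3⟩; ⟨0, 3⟩, ⟨0, 3⟩, ⟨3, 1⟩],
  !![⟨2, 4⟩, ⟨3, 4⟩, ⟨3, 4⟩; ⟨3, 4⟩, ⟨3, 4⟩, ⟨2, 4⟩; ⟨2, 4⟩, ⟨0, 2⟩, ⟨2, 4⟩],
  !![⟨4, 0⟩, ⟨0, 0⟩, ⟨0, 0⟩; ⟨0, 0⟩, ⟨0, 0⟩, ⟨4, 0⟩; ⟨0, 0⟩, ⟨4, 0⟩, ⟨0, 0⟩],
  !![⟨2, 1⟩, ⟨0, 3⟩, ⟨0, 3⟩; ⟨2, 1⟩, ⟨3, 1⟩, ⟨2, 1⟩; ⟨0, 3⟩, ⟨0, 3⟩, ⟨2, 1⟩],
  !![⟨0, 2⟩, ⟨2, 4⟩, ⟨0, 2⟩; ⟨3, 4⟩, ⟨3, 4⟩, ⟨0, 2⟩; ⟨0, 2⟩, ⟨3, 4⟩, ⟨3, 4⟩],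
  !![⟨3, 1⟩, ⟨0, 3⟩, ⟨2, 1⟩; ⟨0, 3⟩, ⟨0, 3⟩, ⟨0, 3⟩; ⟨2, 1⟩, ⟨0, 3⟩, ⟨3, 1⟩],
  !![⟨3, 4⟩, ⟨0, 2⟩, ⟨2, 4⟩; ⟨0, 2⟩, ⟨0, 2⟩, ⟨0, 2⟩; ⟨2, 4⟩, ⟨0, 2⟩, ⟨3, 4⟩],
  !![⟨0, 0⟩, ⟨1, 0⟩, ⟨0, 0⟩; ⟨0, 0⟩, ⟨0, 0⟩, ⟨1, 0⟩; ⟨1, 0⟩, ⟨0, 0⟩, ⟨0, 0⟩],
  !![⟨3, 1⟩, ⟨2, 1⟩, ⟨3, 1⟩; ⟨0, 3⟩, ⟨2, 1⟩, ⟨2, 1⟩; ⟨3, 1⟩, ⟨3, 1⟩, ⟨2, 1⟩],
  !![⟨2, 4⟩, ⟨2, 4⟩, ⟨0, 2⟩; ⟨0, 2⟩, ⟨3, 4⟩, ⟨0, 2⟩; ⟨0, 2⟩, ⟨2, 4⟩, ⟨2, 4⟩],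
  !![⟨0, 0⟩, ⟨4, 0⟩, ⟨0, 0⟩; ⟨4, 0⟩, ⟨0, 0⟩, ⟨0, 0⟩; ⟨0, 0⟩, ⟨0, 0⟩, ⟨4, 0⟩],
  !![⟨2, 1⟩, ⟨0, 3⟩, ⟨0, 3⟩; ⟨3, 1⟩, ⟨0, 3⟩, ⟨3, 1⟩; ⟨3, 1⟩, ⟨3, 1⟩, ⟨0, 3⟩],
  !![⟨2, 4⟩, ⟨3, 4⟩, ⟨2, 4⟩; ⟨2, 4⟩, ⟨2, 4⟩, ⟨3, 4⟩; ⟨0, 2⟩, ⟨3, 4⟩, ⟨3, 4⟩],
  !![⟨2, 1⟩, ⟨0, 3⟩, ⟨3, 1⟩; ⟨0, 3⟩, ⟨2, 1⟩, ⟨3, 1⟩; ⟨3, 1⟩, ⟨3, 1⟩, ⟨3, 1⟩],
  !![⟨0, 2⟩, ⟨3, 4⟩, ⟨2, 4⟩; ⟨3, 4⟩, ⟨0, 2⟩, ⟨2, 4⟩; ⟨2, 4⟩, ⟨2, 4⟩, ⟨2, 4⟩],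
  !![⟨0, 0⟩, ⟨0, 0⟩, ⟨1, 0⟩; ⟨1, 0⟩, ⟨0, 0⟩, ⟨0, 0⟩; ⟨0, 0⟩, ⟨1, 0⟩, ⟨0, 0⟩],
  !![⟨2, 1⟩, ⟨0, 3⟩, ⟨2, 1⟩; ⟨0, 3⟩, ⟨2, 1⟩, ⟨2, 1⟩; ⟨0, 3⟩, ⟨0, 3⟩, ⟨3, 1⟩],
  !![⟨3, 4⟩, ⟨2, 4⟩, ⟨3, 4⟩; ⟨3, 4⟩, ⟨0, 2⟩, ⟨0, 2⟩; ⟨0, 2⟩, ⟨0, 2⟩, ⟨3, 4⟩],
  !![⟨0, 0⟩, ⟨0, 0⟩, ⟨4, 0⟩; ⟨0, 0⟩, ⟨4, 0⟩, ⟨0, 0⟩; ⟨4, 0⟩, ⟨0, 0⟩, ⟨0, 0⟩],
  !![⟨0, 3⟩, ⟨2, 1⟩, ⟨0, 3⟩; ⟨3, 1⟩, ⟨3, 1⟩, ⟨0, 3⟩; ⟨0, 3⟩, ⟨3, 1⟩, ⟨3, 1⟩],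
  !![⟨2, 4⟩, ⟨2, 4⟩, ⟨3, 4⟩; ⟨3, 4⟩, ⟨2, 4⟩, ⟨2, 4⟩; ⟨3, 4⟩, ⟨0, 2⟩, ⟨3, 4⟩]]

/-- the Heisenberg matrices over `K25` -/
def hmK (c : K25) (j k : Fin 3) : M3 := hm (chi3 om) c j k

/-- `Z = diag (1, ω, ω²)` -/
def Zk : M3 := hmK 1 1 0

/-- `X`, the cyclic shift -/
def Xk : M3 := hmK 1 0 1

/-- an element of `3.M_10` outside the normaliser -/
def w2k : M3 := !![⟨1, 0⟩, ⟨4, 0⟩, ⟨2, 0⟩; ⟨4, 0⟩, ⟨2, 0⟩, ⟨4, 0⟩; ⟨2, 0⟩, ⟨4, 0⟩, ⟨1, 0⟩]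

/-- an element of `SU_3(5)` outside `3.M_10` -/
def sk : M3 := !![⟨3, 0⟩, ⟨0, 2⟩, ⟨0, 0⟩; ⟨0, 2⟩, ⟨3, 0⟩, ⟨0, 0⟩; ⟨0, 0⟩, ⟨0, 0⟩, ⟨1, 0⟩]

/-- the point `(0, 1, 4)` -/
def p0 : Fin 3 → K25 := ![⟨0, 0⟩, ⟨1, 0⟩, ⟨4, 0⟩]

/-! ### explicit arithmetic -/

/-- matrix times vector, written out -/
def mv (m : M3) (v : Fin 3 → K25) : Fin 3 → K25 :=
  fun i => m i 0 * v 0 + m i 1 * v 1 + m i 2 * v 2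

theorem mv_eq (m : M3) (v : Fin 3 → K25) : mv m v = m *ᵥ v := by
  funext i
  simp [mv, Matrix.mulVec, dotProduct, Fin.sum_univ_three]

/-- matrix product, written out -/
def mm (a b : M3) : M3 :=
  fun i k => a i 0 * b 0 k + a i 1 * b 1 k + a i 2 * b 2 k

theorem mm_eq (a b : M3) : mm a b = a * b := by
  funext i k
  simp [mm, Matrix.mul_apply, Fin.sum_univ_three]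

/-- equality of matrices, entry by entry -/
def meqB (a b : M3) : Bool :=
  (a 0 0 == b 0 0) && (a 0 1 == b 0 1) && (a 0 2 == b 0 2) &&
  (a 1 0 == b 1 0) && (a 1 1 == b 1 1) && (a 1 2 == b 1 2) &&
  (a 2 0 == b 2 0) && (a 2 1 == b 2 1) && (a 2 2 == b 2 2)

theorem meqB_iff (a b : M3) : meqB a b = true ↔ a = b := by
  constructor
  · intro h
    simp only [meqB, Bool.and_eq_true, beq_iff_eq] at h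
    obtain ⟨⟨⟨⟨⟨⟨⟨⟨h1, h2⟩, h3⟩, h4⟩, h5⟩, h6⟩, h7⟩, h8⟩, h9⟩ := h
    funext i k
    fin_cases i <;> fin_cases k <;> assumption
  · rintro rfl
    simp [meqB]

/-- `m a = b m` -/
def conjB (m a b : M3) : Bool := meqB (mm m a) (mm b m)

theorem conjB_iff (m a b : M3) : conjB m a b = true ↔ m * a = b * m := by
  rw [conjB, meqB_iff, mm_eq, mm_eq]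

/-- the determinant, written out -/
def detK (m : M3) : K25 :=
  m 0 0 * m 1 1 * m 2 2 - m 0 0 * m 1 2 * m 2 1 - m 0 1 * m 1 0 * m 2 2 + m 0 1 * m 1 2 * m 2 0 +
    m 0 2 * m 1 0 * m 2 1 - m 0 2 * m 1 1 * m 2 0

theorem detK_eq (m : M3) : detK m = m.det := (Matrix.det_fin_three m).symm

/-- the conjugate transpose -/
def sharpK (m : M3) : M3 := fun i k => (m k i) ^ 5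

/-- `m` is unitary -/
def uniB (m : M3) : Bool := meqB (mm (sharpK m) m) 1

theorem uniB_sound (m : M3) (h : uniB m = true) : (m.map (· ^ 5))ᵀ * m = 1 := by
  rw [uniB, meqB_iff, mm_eq] at h
  rw [← h]
  rfl

/-- `u` is a non-zero multiple of `w` (certified through a non-zero coordinate of `u`) -/
def propB (u w : Fin 3 → K25) : Bool :=
  ((u 0 != 0) && (u 0 == u 0 * w 0) && (u 1 == u 0 * w 1) && (u 2 == u 0 * w 2)) ||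
  ((u 1 != 0) && (u 0 == u 1 * w 0) && (u 1 == u 1 * w 1) && (u 2 == u 1 * w 2)) ||
  ((u 2 != 0) && (u 0 == u 2 * w 0) && (u 1 == u 2 * w 1) && (u 2 == u 2 * w 2))

theorem propB_sound {u w : Fin 3 → K25} (h : propB u w = true) : ∃ c : K25, c ≠ 0 ∧ u = c • w := by
  simp only [propB, Bool.or_eq_true, Bool.and_eq_true, bne_iff_ne, ne_eq, beq_iff_eq] at h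
  rcases h with (⟨⟨⟨h0, h1⟩, h2⟩, h3⟩ | ⟨⟨⟨h0, h1⟩, h2⟩, h3⟩) | ⟨⟨⟨h0, h1⟩, h2⟩, h3⟩
  · refine ⟨u 0, h0, ?_⟩
    funext i
    fin_cases i
    · exact h1
    · exact h2
    · exact h3
  · refine ⟨u 1, h0, ?_⟩
    funext i
    fin_cases i
    · exact h1
    · exact h2
    · exact h3
  · refine ⟨u 2, h0, ?_⟩
    funext i
    fin_cases i
    · exact h1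
    · exact h2
    · exact h3

/-- a necessary condition for proportionality -/
def parB (u w : Fin 3 → K25) : Bool :=
  (u 0 * w 1 == u 1 * w 0) && (u 0 * w 2 == u 2 * w 0) && (u 1 * w 2 == u 2 * w 1)

theorem parB_of_smul (c : K25) (w : Fin 3 → K25) : parB (c • w) w = true := by
  simp only [parB, Bool.and_eq_true, beq_iff_eq, Pi.smul_apply, smul_eq_mul]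
  refine ⟨⟨?_, ?_⟩, ?_⟩ <;> ring

/-- `m` maps the `45` points to multiples of the `45` points -/
def chkB (m : M3) : Bool := L45.all fun p => L45.any fun p' => propB (mv m p) p'

theorem chkB_sound (m : M3) (h : chkB m = true) (p : Fin 3 → K25) (hp : p ∈ L45) :
    ∃ p' ∈ L45, ∃ c : K25, c ≠ 0 ∧ m *ᵥ p = c • p' := by
  rw [chkB, List.all_eq_true] at h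
  have h1 := h p hp
  rw [List.any_eq_true] at h1
  obtain ⟨p', hp', h2⟩ := h1
  obtain ⟨c, hc, he⟩ := propB_sound h2
  exact ⟨p', hp', c, hc, by rw [← mv_eq, he]⟩

/-! ### the checks -/

/-- `m` is a representative for `(c, j, k)`: `m Z m⁻¹ = c Z^j X^k`, `m ∈ SU`, `m X m⁻¹ ∈ 3^(1+2)`, `m` preserves the points -/
def goodB (c : K25) (j k : Fin 3) (m : M3) : Bool :=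
  conjB m Zk (hmK c j k) && (detK m == 1) && uniB m &&
  (C3.any fun c₁ => F3.any fun j₁ => F3.any fun k₁ => conjB m Xk (hmK c₁ j₁ k₁)) && chkB m

/-- every non-central `(c, j, k)` has a representative in `Q24` -/
def allB : Bool :=
  C3.all fun c => F3.all fun j => F3.all fun k => (j == 0 && k == 0) || Q24.any fun m => goodB c j k m

set_option maxRecDepth 100000 in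
theorem allB_true : allB = true := by decide +kernel

theorem om_cube : om ^ 3 = 1 := by decide +kernel

theorem om_ne_one : om ≠ 1 := by decide +kernel

theorem C3_cube : ∀ c ∈ C3, c ^ 3 = 1 := by decide +kernel

theorem detK_Zk : detK Zk = 1 := by decide +kernel

theorem detK_Xk : detK Xk = 1 := by decide +kernel

set_option maxRecDepth 100000 in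
theorem chkB_Zk : chkB Zk = true := by decide +kernel

set_option maxRecDepth 100000 in
theorem chkB_Xk : chkB Xk = true := by decide +kernel

theorem detK_w2k : detK w2k = 1 := by decide +kernel

theorem uniB_w2k : uniB w2k = true := by decide +kernel

set_option maxRecDepth 100000 in
theorem chkB_w2k : chkB w2k = true := by decide +kernel

/-- `w₂ Z w₂⁻¹` is not in `3^(1+2)` -/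
theorem w2k_not : (C3.all fun c => F3.all fun j => F3.all fun k => !conjB w2k Zk (hmK c j k)) = true := by
  decide +kernel

theorem detK_sk : detK sk = 1 := by decide +kernel

theorem uniB_sk : uniB sk = true := by decide +kernel

theorem p0_mem : p0 ∈ L45 := by
  simp [p0, L45]

set_option maxRecDepth 100000 in
/-- `s (0, 1, 4)` is not a multiple of one of the `45` points -/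
theorem sk_not : (L45.all fun p' => !parB (mv sk p0) p') = true := by decide +kernel

end Cfsg.Agent.Lib.Helper6.S5778E4
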