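import Mathlib
import Cfsg.Prelude.Def_GeometricClasses
import Cfsg.Prelude.Def_LieClassical
import Cfsg.Agent.Lib.Helper15.S5778Core
import Cfsg.Agent.Lib.Helper24.S5778NF3
import Cfsg.Agent.Lib.Helper6.S5778E4a

/-!
# S5778 E4, abstract part I: transport from `K25` to a field with `25` elements; the diagonal lemma  (helper6)
-/

set_option autoImplicit false
set_option linter.unusedSectionVars false

namespace Cfsg.Agent.Lib.Helper6.S5778E4

open Matrix Cfsg Cfsg.Geo
open Cfsg.Agent.Lib.Helper15.FQuad Cfsg.Agent.Lib.Helper15.S5778Core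
open Cfsg.Agent.Lib.Helper24.Heis Cfsg.Agent.Lib.Helper24.S5778NF3

variable {F : Type*} [Field F]

/-! ### products with Heisenberg matrices, entrywise -/

theorem mul_hm_apply (Y : Matrix (Fin 3) (Fin 3) F) (χ : Fin 3 → Fin 3 → F) (c : F) (j k s t : Fin 3) :
    (Y * hm χ c j k) s t = Y s (t + k) * (c * χ j t) := by
  rw [Matrix.mul_apply, Finset.sum_eq_single (t + k)]
  · rw [hm_apply, if_pos rfl]
  · intro u _ hu
    rw [hm_apply, if_neg hu, mul_zero]
  · intro hn
    exact absurd (Finset.mem_univ _) hn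

theorem hm_mul_apply (Y : Matrix (Fin 3) (Fin 3) F) (χ : Fin 3 → Fin 3 → F) (c : F) (j k s t : Fin 3) :
    (hm χ c j k * Y) s t = c * χ j (s - k) * Y (s - k) t := by
  rw [Matrix.mul_apply, Finset.sum_eq_single (s - k)]
  · rw [hm_apply, if_pos (by abel)]
  · intro u _ hu
    rw [hm_apply, if_neg (by intro h'; apply hu; rw [h']; abel), zero_mul]
  · intro hn
    exact absurd (Finset.mem_univ _) hn

/-! ### transport -/

section transport

variable (φ : K25 →+* F)

theorem omF_cube : (φ om) ^ 3 = 1 := by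
  rw [← map_pow, om_cube, map_one]

theorem omF_ne_one : φ om ≠ 1 := by
  intro h
  exact om_ne_one (φ.injective (h.trans (map_one φ).symm))

theorem map_hmK (c : K25) (j k : Fin 3) :
    (hmK c j k).map φ = hm (chi3 (φ om)) (φ c) j k := by
  funext x y
  simp only [Matrix.map_apply, hmK, hm_apply, chi3]
  split_ifs
  · rw [map_mul, map_pow]
  · rw [map_zero]

theorem conj_transport (m a b : M3) :
    m.map φ * a.map φ = b.map φ * m.map φ ↔ m * a = b * m := by
  rw [← Matrix.map_mul, ← Matrix.map_mul]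
  exact (Matrix.map_injective φ.injective).eq_iff

theorem det_of_detK {m : M3} (h : detK m = 1) : m.det = 1 := by
  rw [← detK_eq, h]

/-- the cube roots of unity of `F` come from `C3` -/
theorem exists_C3 (c : F) (hc : c ^ 3 = 1) : ∃ c' ∈ C3, φ c' = c := by
  rcases Cfsg.Agent.Lib.Helper6.Heis3.cube_root_cases (φ om) c
    (root_of_cube (omF_cube φ) (omF_ne_one φ)) hc with h | h | h
  · exact ⟨1, by simp [C3], by rw [map_one, h]⟩
  · exact ⟨om, by simp [C3], h.symm⟩
  · exact ⟨om * om, by simp [C3], by rw [map_mul, h, sq]⟩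

theorem C3_cubeF (c' : K25) (hc' : c' ∈ C3) : (φ c') ^ 3 = 1 := by
  rw [← map_pow, C3_cube c' hc', map_one]

end transport

end Cfsg.Agent.Lib.Helper6.S5778E4
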