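import Mathlib
import Cfsg.Prelude.Def_GeometricClasses
import Cfsg.Prelude.Def_LieClassical
import Cfsg.Agent.Lib.Helper6.S5778E4b
import Cfsg.Agent.Lib.Helper6.HeisU1

/-!
# S5778 E4, abstract part II: an element of `N(3^(1+2)) ∩ SU_3(5)` commuting with `Z` lies in `3^(1+2)`  (helper6)
-/

set_option autoImplicit false
set_option linter.unusedSectionVars false

namespace Cfsg.Agent.Lib.Helper6.S5778E4

open Matrix Cfsg Cfsg.Geo
open Cfsg.Agent.Lib.Helper15.FQuad Cfsg.Agent.Lib.Helper15.S5778Core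
open Cfsg.Agent.Lib.Helper24.Heis Cfsg.Agent.Lib.Helper24.S5778NF3
open Cfsg.Agent.Lib.Helper14.GUConj (sharp sharp_apply)
open Cfsg.Agent.Lib.Helper14.HSemi (sigQ sigQ_apply)

variable {F : Type*} [Field F] [Fintype F]

theorem pow_fin_ne {ω : F} (hω : ω ^ 3 = 1) (hω1 : ω ≠ 1) (s t : Fin 3) (hst : s ≠ t) :
    ω ^ (s : ℕ) ≠ ω ^ (t : ℕ) := by
  have hω0 : ω ≠ 0 := ne_zero_of_pow_three hω
  have h2 : ω ^ 2 ≠ 1 := by
    intro h
    apply hω1
    have : ω ^ 3 = ω ^ 2 * ω := by ring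
    rw [hω, h, one_mul] at this
    exact this.symm
  have h3 : ω ^ 2 ≠ ω := by
    intro h
    apply hω1
    have h' : ω * (ω - 1) = 0 := by linear_combination h
    rcases mul_eq_zero.mp h' with h'' | h''
    · exact absurd h'' hω0
    · exact sub_eq_zero.mp h''
  fin_cases s <;> fin_cases t <;> simp_all [eq_comm]

/-- the diagonal lemma -/
theorem mem_std27_of_comm (hF : Fintype.card F = 5 ^ 2) {ω : F} (hω : ω ^ 3 = 1) (hω1 : ω ≠ 1)
    (y : GL (Fin 3) F) (hyU : y ∈ GU 3 F 5) (hyD : (y : Matrix (Fin 3) (Fin 3) F).det = 1)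
    (hZ : (y : Matrix (Fin 3) (Fin 3) F) * hm (chi3 ω) 1 1 0 = hm (chi3 ω) 1 1 0 * (y : Matrix (Fin 3) (Fin 3) F))
    (c : F) (hc : c ^ 3 = 1) (j k : Fin 3)
    (hX : (y : Matrix (Fin 3) (Fin 3) F) * hm (chi3 ω) 1 0 1 = hm (chi3 ω) c j k * (y : Matrix (Fin 3) (Fin 3) F)) :
    y ∈ std27 hω := by
  set Y := (y : Matrix (Fin 3) (Fin 3) F) with hY
  have hω0 : ω ≠ 0 := ne_zero_of_pow_three hω
  -- `Y` is diagonal
  have hoff : ∀ s t : Fin 3, s ≠ t → Y s t = 0 := by
    intro s t hst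
    have h1 := congrFun (congrFun hZ s) t
    rw [mul_hm_apply, hm_mul_apply, add_zero, sub_zero, one_mul, one_mul] at h1
    simp only [chi3, one_mul] at h1
    have h2 : Y s t * (ω ^ (t : ℕ) - ω ^ (s : ℕ)) = 0 := by linear_combination h1
    rcases mul_eq_zero.mp h2 with h3 | h3
    · exact h3
    · exact absurd (sub_eq_zero.mp h3).symm (pow_fin_ne hω hω1 s t hst)
  have hdet : Y 0 0 * Y 1 1 * Y 2 2 = 1 := by
    rw [← hyD, Matrix.det_fin_three, hoff 0 1 (by decide), hoff 0 2 (by decide), hoff 1 0 (by decide),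
      hoff 1 2 (by decide), hoff 2 0 (by decide), hoff 2 1 (by decide)]
    ring
  have hx0 : Y 0 0 ≠ 0 := by
    intro h
    rw [h] at hdet
    simp at hdet
  have hx1 : Y 1 1 ≠ 0 := by
    intro h
    rw [h] at hdet
    simp at hdet
  have hx2 : Y 2 2 ≠ 0 := by
    intro h
    rw [h] at hdet
    simp at hdet
  -- the shift relation
  have hsh : ∀ s t : Fin 3, Y s (t + 1) = c * chi3 ω j (s - k) * Y (s - k) t := by
    intro s t
    have h1 := congrFun (congrFun hX s) t
    rw [mul_hm_apply, hm_mul_apply, one_mul] at h1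
    simp only [chi3, zero_mul, Fin.val_zero, pow_zero, mul_one] at h1
    exact h1
  have hk : k = 1 := by
    by_contra hk1
    have h1 := hsh 1 0
    rw [zero_add] at h1
    rw [hoff (1 - k) 0 (by revert hk1; fin_cases k <;> decide), mul_zero] at h1
    exact hx1 h1
  subst hk
  have h10 : Y 1 1 = c * Y 0 0 := by
    have h := hsh 1 0
    have e1 : (0 + 1 : Fin 3) = 1 := by decide
    have e2 : (1 - 1 : Fin 3) = 0 := by decide
    rw [e1, e2] at h
    simp only [chi3, mul_zero, Fin.val_zero, pow_zero, mul_one] at h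
    exact h
  have h21 : Y 2 2 = c * ω ^ (j : ℕ) * Y 1 1 := by
    have h := hsh 2 1
    have e1 : (1 + 1 : Fin 3) = 2 := by decide
    have e2 : (2 - 1 : Fin 3) = 1 := by decide
    rw [e1, e2] at h
    simp only [chi3, mul_one] at h
    exact h
  -- unitarity
  have hU := (Cfsg.Agent.Lib.Helper6.HeisU.mem_GU_iff hF y).mp hyU
  rw [← hY] at hU
  have hnorm : ∀ t : Fin 3, Y t t ^ 6 = 1 := by
    intro t
    have h1 := congrFun (congrFun hU t) t
    rw [Matrix.mul_apply, Matrix.one_apply_eq, Finset.sum_eq_single t] at h1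
    · rw [sharp_apply, sigQ_apply] at h1
      rw [← h1]
      ring
    · intro u _ hu
      rw [hoff u t hu, mul_zero]
    · intro hn
      exact absurd (Finset.mem_univ _) hn
  have hn0 := hnorm 0
  -- `j = 0`
  have hprod : Y 0 0 ^ 3 * ω ^ (j : ℕ) = 1 := by
    rw [← hdet, h21, h10]
    linear_combination (-(Y 0 0 ^ 3 * ω ^ (j : ℕ))) * hc
  have hsq : (ω ^ (j : ℕ)) ^ 2 = 1 := by
    have h1 : (Y 0 0 ^ 3 * ω ^ (j : ℕ)) ^ 2 = 1 := by rw [hprod, one_pow]
    have h2 : (Y 0 0 ^ 3 * ω ^ (j : ℕ)) ^ 2 = Y 0 0 ^ 6 * (ω ^ (j : ℕ)) ^ 2 := by ring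
    rw [h2, hn0, one_mul] at h1
    exact h1
  have hj : j = 0 := by
    by_contra hj0
    have hj' : ω ^ (j : ℕ) = ω ∨ ω ^ (j : ℕ) = ω ^ 2 := by
      revert hj0
      fin_cases j
      · intro h; exact absurd rfl h
      · intro _; left; simp
      · intro _; right; simp
    rcases hj' with h | h
    · rw [h] at hsq
      exact pow_fin_ne hω hω1 2 0 (by decide) (by simpa using hsq)
    · rw [h] at hsq
      have : ω = 1 := by
        have h4 : (ω ^ 2) ^ 2 = ω ^ 3 * ω := by ring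
        rw [h4, hω, one_mul] at hsq
        exact hsq
      exact hω1 this
  subst hj
  simp only [Fin.val_zero, pow_zero, mul_one] at hprod h21
  rw [mem_std27, ← hY]
  have hω4 : ω ^ 4 = ω := by
    have : ω ^ 4 = ω ^ 3 * ω := by ring
    rw [this, hω, one_mul]
  have hfin : ∀ j' : Fin 3, c = ω ^ (j' : ℕ) → Y = hm (chi3 ω) (Y 0 0) j' 0 := by
    intro j' hcj
    funext s t
    rw [hm_apply, add_zero]
    by_cases hst : s = t
    · subst hst
      rw [if_pos rfl]
      fin_cases s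
      · simp [chi3]
      · simp only [chi3, Fin.mk_one, mul_one]
        rw [h10, hcj]
        ring
      · have e : ((j' * 2 : Fin 3) : ℕ) = (2 * (j' : ℕ)) % 3 := by
          fin_cases j' <;> rfl
        have e2 : ω ^ ((2 * (j' : ℕ)) % 3) = (ω ^ (j' : ℕ)) ^ 2 := by
          fin_cases j'
          · simp
          · simp
          · simp only [Nat.reduceMul, Nat.reduceMod, pow_one]
            rw [← pow_mul]
            exact hω4.symm
        simp only [chi3]
        show Y 2 2 = Y 0 0 * ω ^ ((j' * 2 : Fin 3) : ℕ)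
        rw [e, e2, h21, h10, hcj]
        ring
    · rw [if_neg hst, hoff s t hst]
  rcases Cfsg.Agent.Lib.Helper6.Heis3.cube_root_cases ω c (root_of_cube hω hω1) hc with hc1 | hc1 | hc1
  · exact ⟨Y 0 0, 0, 0, hprod, hfin 0 (by simpa using hc1)⟩
  · exact ⟨Y 0 0, 1, 0, hprod, hfin 1 (by simpa using hc1)⟩
  · exact ⟨Y 0 0, 2, 0, hprod, hfin 2 (by simpa using hc1)⟩

end Cfsg.Agent.Lib.Helper6.S5778E4
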