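import Mathlib
import Cfsg.Prelude.Def_GeometricClasses
import Cfsg.Prelude.Def_LieClassical
import Cfsg.Agent.Lib.Helper15.S5778Final
import Cfsg.Agent.Lib.Helper15.S5778Core
import Cfsg.Agent.Lib.Helper24.S5778NF3
import Cfsg.Agent.Lib.Helper6.S5778E4c
import Cfsg.Agent.Lib.Helper6.Heis3E

/-!
# S5778 E4: the normaliser of `3^(1+2)` is not maximal in `SU_3(5)`  (helper6)

`N(3^(1+2)) ∩ SU_3(5) = 3^(1+2).Q_8 < 3.M_10`: the normaliser stabilises a set of `45` non-isotropic points, which is also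
stabilised by `w₂ ∉ N` and not by `s ∈ SU_3(5)`.  Normal form by helper24 (`S5778NF3.exists_conj_normalizer`), frame by
helper15 (`S5778Core.not_maximal_of_stabSet`, `not_maximal_conj`).
-/

set_option autoImplicit false
set_option linter.unusedSectionVars false

namespace Cfsg.Agent.Lib.Helper6.S5778E4

open Matrix Cfsg Cfsg.Geo
open Cfsg.Agent.Lib.Helper15.FQuad Cfsg.Agent.Lib.Helper15.S5778Core
open Cfsg.Agent.Lib.Helper24.Heis Cfsg.Agent.Lib.Helper24.S5778NF3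

variable {F : Type*} [Field F] [Fintype F]

section main

variable (φ : K25 →+* F)

/-- the `45` points over `F` -/
def S45 : Set (Fin 3 → F) := {v | ∃ p ∈ L45, ∃ c : F, c ≠ 0 ∧ v = c • (φ ∘ p)}

theorem mem_stab_of_chk (m : M3) (hdet : m.det = 1) (h : chkB m = true) :
    mapGL φ m hdet ∈ stabSet (S45 φ) := by
  apply mem_stabSet_of_forall
  rintro v ⟨p, hp, c, hc, rfl⟩
  obtain ⟨p', hp', c', hc', he⟩ := chkB_sound m h p hp
  refine ⟨p', hp', c * φ c', mul_ne_zero hc ((map_ne_zero φ).mpr hc'), ?_⟩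
  rw [mapGL_coe, Matrix.mulVec_smul, map_mulVec, he]
  funext i
  simp [mul_assoc]

/-- `Z` over `F` -/
noncomputable def Zg : GL (Fin 3) F := mapGL φ Zk (det_of_detK detK_Zk)

/-- `X` over `F` -/
noncomputable def Xg : GL (Fin 3) F := mapGL φ Xk (det_of_detK detK_Xk)

theorem Zg_coe : ((Zg φ : GL (Fin 3) F) : Matrix (Fin 3) (Fin 3) F) = hm (chi3 (φ om)) 1 1 0 := by
  rw [Zg, mapGL_coe, Zk, map_hmK, map_one]

theorem Xg_coe : ((Xg φ : GL (Fin 3) F) : Matrix (Fin 3) (Fin 3) F) = hm (chi3 (φ om)) 1 0 1 := by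
  rw [Xg, mapGL_coe, Xk, map_hmK, map_one]

theorem Zg_mem : Zg φ ∈ std27 (omF_cube φ) :=
  (mem_std27 _ _).mpr ⟨1, 1, 0, one_pow 3, Zg_coe φ⟩

theorem Xg_mem : Xg φ ∈ std27 (omF_cube φ) :=
  (mem_std27 _ _).mpr ⟨1, 0, 1, one_pow 3, Xg_coe φ⟩

theorem Zg_Xg_ne : Zg φ * Xg φ ≠ Xg φ * Zg φ := by
  intro h
  have h1 := congrArg Units.val h
  rw [Units.val_mul, Units.val_mul, Zg, Xg, mapGL_coe, mapGL_coe, conj_transport] at h1
  have h2 : conjB Zk Xk Xk = false := by decide +kernel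
  rw [← conjB_iff, h2] at h1
  exact Bool.false_ne_true h1

theorem std27_eq_closure : std27 (omF_cube φ) = Subgroup.closure {Zg φ, Xg φ} := by
  symm
  apply Cfsg.Agent.Lib.Helper6.Heis3.eq_of_noncomm_le (std27 (omF_cube φ)) _
    (card_std27 (omF_cube φ) (omF_ne_one φ)) _ (Zg φ) (Xg φ)
    (Subgroup.subset_closure (by simp)) (Subgroup.subset_closure (by simp)) (Zg_Xg_ne φ)
  rw [Subgroup.closure_le]
  rintro x (rfl | rfl)
  · exact Zg_mem φ
  · exact Xg_mem φ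

theorem std27_le_stab : std27 (omF_cube φ) ≤ stabSet (S45 φ) := by
  rw [std27_eq_closure, Subgroup.closure_le]
  rintro x (rfl | rfl)
  · exact mem_stab_of_chk φ Zk _ chkB_Zk
  · exact mem_stab_of_chk φ Xk _ chkB_Xk

/-- conjugation identity from a matrix identity -/
theorem conj_coe (m a : GL (Fin 3) F) (H : Matrix (Fin 3) (Fin 3) F)
    (h : (m : Matrix (Fin 3) (Fin 3) F) * (a : Matrix (Fin 3) (Fin 3) F) = H * (m : Matrix (Fin 3) (Fin 3) F)) :
    ((m * a * m⁻¹ : GL (Fin 3) F) : Matrix (Fin 3) (Fin 3) F) = H := by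
  rw [Units.val_mul, Units.val_mul, h, mul_assoc, ← Units.val_mul, mul_inv_cancel, Units.val_one, mul_one]

/-- matrix identity from a conjugation identity -/
theorem coe_of_conj (m a : GL (Fin 3) F) (H : Matrix (Fin 3) (Fin 3) F)
    (h : ((m * a * m⁻¹ : GL (Fin 3) F) : Matrix (Fin 3) (Fin 3) F) = H) :
    (m : Matrix (Fin 3) (Fin 3) F) * (a : Matrix (Fin 3) (Fin 3) F) = H * (m : Matrix (Fin 3) (Fin 3) F) := by
  rw [← h, ← Units.val_mul, ← Units.val_mul, inv_mul_cancel_right]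

theorem reps (c : K25) (hc : c ∈ C3) (j k : Fin 3) (hjk : ¬ (j = 0 ∧ k = 0)) :
    ∃ m ∈ Q24, goodB c j k m = true := by
  have h := allB_true
  rw [allB, List.all_eq_true] at h
  have h1 := h c hc
  rw [List.all_eq_true] at h1
  have h2 := h1 j (mem_F3 j)
  rw [List.all_eq_true] at h2
  have h3 := h2 k (mem_F3 k)
  rw [Bool.or_eq_true] at h3
  rcases h3 with h4 | h4
  · exfalso
    apply hjk
    simpa using h4
  · rw [List.any_eq_true] at h4
    exact h4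

theorem goodB_unpack {c : K25} {j k : Fin 3} {m : M3} (h : goodB c j k m = true) :
    m * Zk = hmK c j k * m ∧ m.det = 1 ∧ ((m.map (· ^ 5))ᵀ * m = 1) ∧
      (∃ c₁ ∈ C3, ∃ j₁ k₁ : Fin 3, m * Xk = hmK c₁ j₁ k₁ * m) ∧ chkB m = true := by
  simp only [goodB, Bool.and_eq_true, beq_iff_eq, List.any_eq_true] at h
  obtain ⟨⟨⟨⟨h1, h2⟩, h3⟩, ⟨c₁, hc₁, j₁, -, k₁, -, h4⟩⟩, h5⟩ := h
  exact ⟨(conjB_iff _ _ _).mp h1, det_of_detK h2, uniB_sound m h3,
    ⟨c₁, hc₁, j₁, k₁, (conjB_iff _ _ _).mp h4⟩, h5⟩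

/-- **ST**: the normaliser of the standard `3^(1+2)` in `SU_3(5)` stabilises the `45` points -/
theorem normalizer_le_stab (hF : Fintype.card F = 5 ^ 2) :
    subgroupNormalizer (std27 (omF_cube φ)) ⊓ SUn 3 F 5 ≤ stabSet (S45 φ) := by
  intro n hn
  obtain ⟨hnN, hnSU⟩ := Subgroup.mem_inf.mp hn
  have hnN' := hnN
  unfold subgroupNormalizer at hnN'
  rw [Subgroup.mem_normalizer_iff] at hnN'
  have hU := (hnN' (Zg φ)).mp (Zg_mem φ)
  obtain ⟨c, j, k, hc3, hcoe⟩ := (mem_std27 _ _).mp hU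
  have hjk : ¬ (j = 0 ∧ k = 0) := by
    rintro ⟨rfl, rfl⟩
    have h1 := coe_of_conj n (Zg φ) _ hcoe
    rw [hm_scalar (isBichar_chi3 (omF_cube φ)), Matrix.smul_mul, Matrix.one_mul] at h1
    have h2 : ((Zg φ : GL (Fin 3) F) : Matrix (Fin 3) (Fin 3) F) = c • (1 : Matrix (Fin 3) (Fin 3) F) := by
      have h3 := congrArg (fun M => ((n⁻¹ : GL (Fin 3) F) : Matrix (Fin 3) (Fin 3) F) * M) h1
      simp only [← mul_assoc, ← Units.val_mul, inv_mul_cancel, Units.val_one, one_mul, Matrix.mul_smul] at h3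
      exact h3
    rw [Zg_coe] at h2
    have e00 := congrFun (congrFun h2 0) 0
    have e11 := congrFun (congrFun h2 1) 1
    simp [hm_apply, chi3] at e00 e11
    exact omF_ne_one φ (e11.trans e00.symm)
  obtain ⟨c', hc', rfl⟩ := exists_C3 φ c hc3
  obtain ⟨m', -, hgood⟩ := reps c' hc' j k hjk
  obtain ⟨g1, g2, g3, ⟨c₁, hc₁, j₁, k₁, g4⟩, g5⟩ := goodB_unpack hgood
  set m := mapGL φ m' g2 with hmdef
  have hmSU : m ∈ SUn 3 F 5 := mapGL_mem_SUn hF φ m' g2 g3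
  have hmS : m ∈ stabSet (S45 φ) := mem_stab_of_chk φ m' g2 g5
  have hmZ : ((m * Zg φ * m⁻¹ : GL (Fin 3) F) : Matrix (Fin 3) (Fin 3) F) = hm (chi3 (φ om)) (φ c') j k := by
    apply conj_coe
    rw [hmdef, mapGL_coe, Zg, mapGL_coe, ← map_hmK, conj_transport]
    exact g1
  have hmX : ((m * Xg φ * m⁻¹ : GL (Fin 3) F) : Matrix (Fin 3) (Fin 3) F) = hm (chi3 (φ om)) (φ c₁) j₁ k₁ := by
    apply conj_coe
    rw [hmdef, mapGL_coe, Xg, mapGL_coe, ← map_hmK, conj_transport]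
    exact g4
  have hfin : Finite (std27 (omF_cube φ)) :=
    Nat.finite_of_card_ne_zero (by rw [card_std27 (omF_cube φ) (omF_ne_one φ)]; norm_num)
  have hmN : m ∈ subgroupNormalizer (std27 (omF_cube φ)) := by
    unfold subgroupNormalizer
    rw [std27_eq_closure]
    apply Cfsg.Agent.Lib.Helper6.Heis3.mem_normalizer_of_closure
    · rw [← std27_eq_closure]
      exact hfin
    · rintro s (rfl | rfl)
      · rw [← std27_eq_closure]
        exact (mem_std27 _ _).mpr ⟨_, _, _, C3_cubeF φ c' hc', hmZ⟩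
      · rw [← std27_eq_closure]
        exact (mem_std27 _ _).mpr ⟨_, _, _, C3_cubeF φ c₁ hc₁, hmX⟩
  set y := m⁻¹ * n with hy
  have hyN : y ∈ subgroupNormalizer (std27 (omF_cube φ)) := mul_mem (inv_mem hmN) hnN
  have hySU : y ∈ SUn 3 F 5 := mul_mem (inv_mem hmSU) hnSU
  have hcomm : y * Zg φ = Zg φ * y := by
    have e : m * Zg φ * m⁻¹ = n * Zg φ * n⁻¹ := Units.ext (hmZ.trans hcoe.symm)
    rw [hy]
    calc m⁻¹ * n * Zg φ = m⁻¹ * (n * Zg φ * n⁻¹) * n := by group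
      _ = m⁻¹ * (m * Zg φ * m⁻¹) * n := by rw [e]
      _ = Zg φ * (m⁻¹ * n) := by group
  have hyN' := hyN
  unfold subgroupNormalizer at hyN'
  rw [Subgroup.mem_normalizer_iff] at hyN'
  have hyX := (hyN' (Xg φ)).mp (Xg_mem φ)
  obtain ⟨c₂, j₂, k₂, hc₂, hcoe₂⟩ := (mem_std27 _ _).mp hyX
  have hy27 : y ∈ std27 (omF_cube φ) := by
    apply mem_std27_of_comm hF (omF_cube φ) (omF_ne_one φ) y hySU.1
      ((Cfsg.Agent.Lib.Helper6.Heis3.mem_sl_iff y).mp hySU.2) ?_ c₂ hc₂ j₂ k₂ ?_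
    · have h1 : (y : Matrix (Fin 3) (Fin 3) F) * ((Zg φ : GL (Fin 3) F) : Matrix (Fin 3) (Fin 3) F) =
          ((Zg φ : GL (Fin 3) F) : Matrix (Fin 3) (Fin 3) F) * (y : Matrix (Fin 3) (Fin 3) F) := by
        rw [← Units.val_mul, ← Units.val_mul, hcomm]
      rw [Zg_coe] at h1
      exact h1
    · have h1 := coe_of_conj y (Xg φ) _ hcoe₂
      rw [Xg_coe] at h1
      exact h1
  have hnmy : n = m * y := by
    rw [hy]
    group
  rw [hnmy]
  exact mul_mem hmS (std27_le_stab φ hy27)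

/-- **PR**: `w₂` -/
noncomputable def w2g : GL (Fin 3) F := mapGL φ w2k (det_of_detK detK_w2k)

/-- **PR**: `s` -/
noncomputable def sg : GL (Fin 3) F := mapGL φ sk (det_of_detK detK_sk)

theorem w2g_mem_SU (hF : Fintype.card F = 5 ^ 2) : w2g φ ∈ SUn 3 F 5 :=
  mapGL_mem_SUn hF φ w2k _ (uniB_sound w2k uniB_w2k)

theorem w2g_mem_stab : w2g φ ∈ stabSet (S45 φ) :=
  mem_stab_of_chk φ w2k _ chkB_w2k

theorem w2g_not_mem : w2g φ ∉ subgroupNormalizer (std27 (omF_cube φ)) ⊓ SUn 3 F 5 := by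
  intro h
  have hN := (Subgroup.mem_inf.mp h).1
  unfold subgroupNormalizer at hN
  rw [Subgroup.mem_normalizer_iff] at hN
  have hU := (hN (Zg φ)).mp (Zg_mem φ)
  obtain ⟨c, j, k, hc3, hcoe⟩ := (mem_std27 _ _).mp hU
  obtain ⟨c', hc', rfl⟩ := exists_C3 φ c hc3
  have h1 := coe_of_conj (w2g φ) (Zg φ) _ hcoe
  rw [w2g, mapGL_coe, Zg, mapGL_coe, ← map_hmK, conj_transport, ← conjB_iff] at h1
  have h2 := w2k_not
  rw [List.all_eq_true] at h2
  have h3 := h2 c' hc'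
  rw [List.all_eq_true] at h3
  have h4 := h3 j (mem_F3 j)
  rw [List.all_eq_true] at h4
  have h5 := h4 k (mem_F3 k)
  rw [h1] at h5
  exact Bool.false_ne_true h5

theorem sg_mem_SU (hF : Fintype.card F = 5 ^ 2) : sg φ ∈ SUn 3 F 5 :=
  mapGL_mem_SUn hF φ sk _ (uniB_sound sk uniB_sk)

theorem sg_not_mem (hφ : Function.Bijective φ) : sg φ ∉ stabSet (S45 φ) := by
  intro h
  have h0 : (φ ∘ p0 : Fin 3 → F) ∈ S45 φ := ⟨p0, p0_mem, 1, one_ne_zero, by rw [one_smul]⟩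
  obtain ⟨p', hp', c, hc, he⟩ := (h (φ ∘ p0)).mp h0
  obtain ⟨c', rfl⟩ := hφ.2 c
  rw [sg, mapGL_coe, map_mulVec, ← mv_eq] at he
  have he' : mv sk p0 = c' • p' := by
    funext i
    apply hφ.1
    have := congrFun he i
    simpa using this
  have h1 := sk_not
  rw [List.all_eq_true] at h1
  have h2 := h1 p' hp'
  rw [he', parB_of_smul] at h2
  exact Bool.false_ne_true h2

/-- the normaliser of the standard `3^(1+2)` is not maximal in `SU_3(5)` -/
theorem std_not_maximal (hF : Fintype.card F = 5 ^ 2) (hφ : Function.Bijective φ) :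
    ¬ IsMaximalIn (SUn 3 F 5) (subgroupNormalizer (std27 (omF_cube φ)) ⊓ SUn 3 F 5) :=
  not_maximal_of_stabSet (S45 φ) (normalizer_le_stab φ hF) (w2g_mem_SU φ hF) (w2g_mem_stab φ)
    (w2g_not_mem φ) (sg_mem_SU φ hF) (sg_not_mem φ hφ)

end main

/-- **E4**: the normaliser of an absolutely irreducible `3^(1+2)` is not maximal in `SU_3(5)` -/
theorem e4 (hF : Fintype.card F = 5 ^ 2) : Cfsg.Agent.Lib.Helper15.S5778Final.E4 F := by
  intro R hR _ hsim hcard hZ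
  obtain ⟨_, φ, hφ⟩ := exists_equiv25 hF
  obtain ⟨g, hgU, -, hN, -⟩ := exists_conj_normalizer hF (by norm_num) R hR hsim hcard hZ (omF_cube φ)
    (omF_ne_one φ)
  rw [hN]
  exact not_maximal_conj g hgU _ (std_not_maximal φ hF hφ)

end Cfsg.Agent.Lib.Helper6.S5778E4
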