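import Cfsg.Agent.Lib.Helper6.SLBC3
import Cfsg.Agent.Lib.Helper9.SLBA
import Cfsg.Agent.Lib.Helper20.SLBB

/-! S4538 farm (architect helper24), piece [C] (helper6's version; the official claim is helper2's):
the Gelfand–Graev representation of `SL_n(F)` is multiplicity free. -/

set_option autoImplicit false
set_option linter.unusedSectionVars false

namespace Cfsg.Agent.Lib.Helper24.SLB

open Matrix

namespace Helper6

variable {n : ℕ} {F : Type*} [Field F]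

/-- an admissible monomial matrix is fixed by the anti-involution -/
theorem iota_mono (θ : AddChar F ℂ) (hθ : θ ≠ 1) (m : SpecialLinearGroup (Fin n) F)
    (σ : Equiv.Perm (Fin n)) (dd : Fin n → F) (hdd : ∀ j, dd j ≠ 0)
    (hm : ∀ i j, (m : Matrix (Fin n) (Fin n) F) i j = if i = σ j then dd j else 0)
    (hadm : ∀ u u' : Usl n F, (u : SpecialLinearGroup (Fin n) F) * m = m * u' →
      psiU θ u = psiU θ u') : iota m = m := by
  -- the permutation `τ = rev ∘ σ`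
  let τ : Equiv.Perm (Fin n) := σ.trans Fin.revPerm
  have hτ : ∀ j, τ j = Fin.rev (σ j) := fun j => rfl
  have hB := antidiag_perm n τ dd (by
    intro k hk hlt
    rw [hτ, hτ, Fin.rev_lt_rev] at hlt
    obtain ⟨h1, h2⟩ := mono_adm θ hθ m σ dd hdd hm hadm k hk hlt
    refine ⟨?_, h2.symm⟩
    rw [hτ, hτ, Fin.val_rev, Fin.val_rev, h1]
    have := (σ (fs k hk)).2
    omega)
  apply Subtype.ext
  ext i j
  show iotaM (m : Matrix (Fin n) (Fin n) F) i j = (m : Matrix (Fin n) (Fin n) F) i j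
  rw [iotaM_apply, hm, hm]
  by_cases hij : i = σ j
  · have h1 : Fin.rev i = τ j := by rw [hτ, hij]
    have h2 := (hB j).1
    rw [hτ (τ j)] at h2
    have h3 : σ (τ j) = Fin.rev j := by
      rw [← Fin.rev_rev (σ (τ j)), h2]
    rw [if_pos hij, if_pos (by rw [h1, h3]), h1, (hB j).2]
  · rw [if_neg hij, if_neg]
    intro e
    apply hij
    -- `τ (rev i) = j`
    have h1 : τ (Fin.rev i) = j := by rw [hτ, ← e, Fin.rev_rev]
    have h2 := (hB (Fin.rev i)).1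
    rw [h1, hτ] at h2
    exact (Fin.rev_injective h2).symm

end Helper6

variable {n : ℕ} {F : Type*} [Field F] [Fintype F]

namespace Helper6

/-- [C] (helper6's copy): the Gelfand–Graev representation of `SL_n(F)` is multiplicity free -/
theorem gg_SL_spare (θ : AddChar F ℂ) (hθ : θ ≠ 1) {d : ℕ}
    (ρ : Representation ℂ (SpecialLinearGroup (Fin n) F) (Fin d → ℂ)) (hρ : ρ.IsIrreducible)
    (v w : Fin d → ℂ) (hv0 : v ≠ 0)
    (hv : ∀ u ∈ Usl n F, ρ u v = θ (superSum (u : Matrix (Fin n) (Fin n) F)) • v)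
    (hw : ∀ u ∈ Usl n F, ρ u w = θ (superSum (u : Matrix (Fin n) (Fin n) F)) • w) :
    ∃ c : ℂ, w = c • v := by
  classical
  haveI : Fintype (SpecialLinearGroup (Fin n) F) := Fintype.ofFinite _
  refine gelfand_mult_one (Usl n F) (psiU θ) iota iota_mul iota_iota (fun u => iota_mem_Usl u.2)
    (fun u => psiU_iota θ u) ?_ ρ hρ v w hv0 (fun u => hv u.1 u.2) (fun u => hw u.1 u.2)
  intro g hg
  obtain ⟨u₁, u₂, m, σ, dd, hu₁, hu₂, hdd, hm, hgm⟩ := exists_bruhat_SL g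
  -- admissibility passes to `m`
  have hadm : ∀ u u' : Usl n F, (u : SpecialLinearGroup (Fin n) F) * m = m * u' →
      psiU θ u = psiU θ u' := by
    intro u u' huu'
    have h1 := hg (⟨u₁, hu₁⟩ * u * ⟨u₁, hu₁⟩⁻¹) (⟨u₂, hu₂⟩⁻¹ * u' * ⟨u₂, hu₂⟩) (by
      simp only [Subgroup.coe_mul, Subgroup.coe_inv]
      rw [hgm]
      calc u₁ * (u : SpecialLinearGroup (Fin n) F) * u₁⁻¹ * (u₁ * m * u₂)
          = u₁ * ((u : SpecialLinearGroup (Fin n) F) * m) * u₂ := by group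
        _ = u₁ * (m * u') * u₂ := by rw [huu']
        _ = u₁ * m * u₂ * (u₂⁻¹ * u' * u₂) := by group)
    rw [map_mul, map_mul, map_mul, map_mul, map_inv, map_inv] at h1
    -- `ℂˣ` is commutative
    have e1 : psiU θ ⟨u₁, hu₁⟩ * psiU θ u * (psiU θ ⟨u₁, hu₁⟩)⁻¹ = psiU θ u := by
      rw [mul_comm (psiU θ ⟨u₁, hu₁⟩), mul_inv_cancel_right]
    have e2 : (psiU θ ⟨u₂, hu₂⟩)⁻¹ * psiU θ u' * psiU θ ⟨u₂, hu₂⟩ = psiU θ u' := by
      rw [mul_comm (psiU θ ⟨u₂, hu₂⟩)⁻¹, inv_mul_cancel_right]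
    rw [e1, e2] at h1
    exact h1
  have hιm : iota m = m := iota_mono θ hθ m σ dd hdd hm hadm
  -- the two unitriangular factors
  refine ⟨⟨iota u₂, iota_mem_Usl hu₂⟩ * ⟨u₁, hu₁⟩⁻¹, ⟨u₂, hu₂⟩⁻¹ * ⟨iota u₁, iota_mem_Usl hu₁⟩, ?_, ?_⟩
  · simp only [Subgroup.coe_mul, Subgroup.coe_inv]
    rw [hgm, iota_mul, iota_mul, hιm]
    group
  · rw [map_mul, map_mul, map_inv, map_inv]
    have h1 := psiU_iota θ ⟨u₂, hu₂⟩
    have h2 := psiU_iota θ ⟨u₁, hu₁⟩
    rw [h1, h2]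
    rw [mul_comm (psiU θ ⟨u₂, hu₂⟩), mul_assoc, ← mul_assoc (psiU θ ⟨u₂, hu₂⟩), mul_inv_cancel,
      one_mul, inv_mul_cancel]

end Helper6

end Cfsg.Agent.Lib.Helper24.SLB
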