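import Cfsg.Agent.Lib.Helper24.SLB.Defs
import Cfsg.Agent.Lib.Helper15.Bruhat

/-! S4538 farm (architect helper24), piece [C], part 1: the anti-involution `ι g = w₀ gᵀ w₀` of
`SL_n(F)`, the character `ψ u = θ(superSum u)` of the unitriangular group, and the Bruhat
decomposition of `SL_n(F)` in the form `g = u₁ m u₂` with `m` monomial. -/

set_option autoImplicit false
set_option linter.unusedSectionVars false

namespace Cfsg.Agent.Lib.Helper24.SLB

open Matrix

namespace Helper6

variable {n : ℕ} {F : Type*} [Field F]

/-! ### the anti-involution -/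

/-- `A ↦ w₀ Aᵀ w₀`, entries `A (rev j) (rev i)` -/
def iotaM (A : Matrix (Fin n) (Fin n) F) : Matrix (Fin n) (Fin n) F :=
  fun i j => A (Fin.rev j) (Fin.rev i)

theorem iotaM_apply (A : Matrix (Fin n) (Fin n) F) (i j : Fin n) :
    iotaM A i j = A (Fin.rev j) (Fin.rev i) := rfl

theorem iotaM_eq (A : Matrix (Fin n) (Fin n) F) :
    iotaM A = (Aᵀ).submatrix (Fin.revPerm : Fin n ≃ Fin n) (Fin.revPerm : Fin n ≃ Fin n) := by
  ext i j
  rfl

theorem iotaM_mul (A B : Matrix (Fin n) (Fin n) F) : iotaM (A * B) = iotaM B * iotaM A := by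
  rw [iotaM_eq, iotaM_eq, iotaM_eq, Matrix.transpose_mul, Matrix.submatrix_mul_equiv]

theorem iotaM_iotaM (A : Matrix (Fin n) (Fin n) F) : iotaM (iotaM A) = A := by
  ext i j
  simp [iotaM]

theorem det_iotaM (A : Matrix (Fin n) (Fin n) F) : (iotaM A).det = A.det := by
  rw [iotaM_eq, Matrix.det_submatrix_equiv_self, Matrix.det_transpose]

/-- the anti-involution of `SL_n(F)` -/
def iota (g : SpecialLinearGroup (Fin n) F) : SpecialLinearGroup (Fin n) F :=
  ⟨iotaM (g : Matrix (Fin n) (Fin n) F), by rw [det_iotaM]; exact g.det_coe⟩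

theorem iota_coe (g : SpecialLinearGroup (Fin n) F) :
    ((iota g : SpecialLinearGroup (Fin n) F) : Matrix (Fin n) (Fin n) F) =
      iotaM (g : Matrix (Fin n) (Fin n) F) := rfl

theorem iota_mul (a b : SpecialLinearGroup (Fin n) F) : iota (a * b) = iota b * iota a := by
  apply Subtype.ext
  rw [iota_coe, Matrix.SpecialLinearGroup.coe_mul, Matrix.SpecialLinearGroup.coe_mul, iota_coe,
    iota_coe, iotaM_mul]

theorem iota_iota (g : SpecialLinearGroup (Fin n) F) : iota (iota g) = g := by
  apply Subtype.ext
  rw [iota_coe, iota_coe, iotaM_iotaM]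

theorem iota_mem_Usl {u : SpecialLinearGroup (Fin n) F} (hu : u ∈ Usl n F) : iota u ∈ Usl n F := by
  rw [mem_Usl] at hu ⊢
  refine ⟨fun i j hij => ?_, fun i => ?_⟩
  · rw [iota_coe, iotaM_apply]
    apply hu.1
    simp only [id] at hij ⊢
    exact Fin.rev_lt_rev.mpr hij
  · rw [iota_coe, iotaM_apply]
    exact hu.2 _

/-! ### the superdiagonal sum -/

theorem superSum_mul {A B : Matrix (Fin n) (Fin n) F} (hA : A.BlockTriangular id)
    (hA1 : ∀ i, A i i = 1) (hB : B.BlockTriangular id) (hB1 : ∀ i, B i i = 1) :
    superSum (A * B) = superSum A + superSum B := by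
  unfold superSum
  rw [← Finset.sum_add_distrib]
  apply Finset.sum_congr rfl
  intro i _
  by_cases h : i.val + 1 < n
  · rw [dif_pos h, dif_pos h, dif_pos h, Matrix.mul_apply]
    have hne : i ≠ (⟨i.val + 1, h⟩ : Fin n) := by
      intro e
      have := congrArg Fin.val e
      simp at this
    rw [Finset.sum_eq_add_of_mem i ⟨i.val + 1, h⟩ (Finset.mem_univ _) (Finset.mem_univ _) hne]
    · rw [hA1, hB1, one_mul, mul_one, add_comm]
    · intro k _ hk
      rcases lt_trichotomy k i with hlt | heq | hgt
      · have : A i k = 0 := hA hlt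
        rw [this, zero_mul]
      · exact absurd heq hk.1
      · have hk2 : (⟨i.val + 1, h⟩ : Fin n) < k := by
          rw [Fin.lt_def] at hgt ⊢
          have : k.val ≠ i.val + 1 := fun e => hk.2 (Fin.ext e)
          simp only
          omega
        have : B k ⟨i.val + 1, h⟩ = 0 := hB hk2
        rw [this, mul_zero]
  · rw [dif_neg h, dif_neg h, dif_neg h, add_zero]

theorem superSum_iotaM (A : Matrix (Fin n) (Fin n) F) : superSum (iotaM A) = superSum A := by
  unfold superSum
  -- reindex by `i ↦ rev ⟨i + 1⟩`
  rcases Nat.eq_zero_or_pos n with rfl | hn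
  · simp
  · -- sums over `Fin n` of dependent ifs: use the bijection `i ↦ n - 2 - i` on the indices with `i + 1 < n`
    have key : ∀ (f g : Fin n → F), (∀ i : Fin n, (h : i.val + 1 < n) →
        f i = g ⟨n - 2 - i.val, by omega⟩) →
        (∀ i : Fin n, ¬ i.val + 1 < n → f i = 0 ∧ g i = 0) → ∑ i, f i = ∑ i, g i := by
      intro f g h1 h2
      -- both sums restricted to the indices `< n - 1`
      have hf : ∑ i, f i = ∑ i ∈ Finset.univ.filter (fun i : Fin n => i.val + 1 < n), f i := by
        rw [Finset.sum_filter]
        apply Finset.sum_congr rfl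
        intro i _
        split_ifs with h
        · rfl
        · exact (h2 i h).1
      have hg : ∑ i, g i = ∑ i ∈ Finset.univ.filter (fun i : Fin n => i.val + 1 < n), g i := by
        rw [Finset.sum_filter]
        apply Finset.sum_congr rfl
        intro i _
        split_ifs with h
        · rfl
        · exact (h2 i h).2
      rw [hf, hg]
      refine Finset.sum_bij' (fun i hi => (⟨n - 2 - i.val, by
          have := (Finset.mem_filter.mp hi).2; omega⟩ : Fin n))
        (fun i hi => (⟨n - 2 - i.val, by
          have := (Finset.mem_filter.mp hi).2; omega⟩ : Fin n)) ?_ ?_ ?_ ?_ ?_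
      · intro i hi
        have := (Finset.mem_filter.mp hi).2
        simp only [Finset.mem_filter, Finset.mem_univ, true_and]
        omega
      · intro i hi
        have := (Finset.mem_filter.mp hi).2
        simp only [Finset.mem_filter, Finset.mem_univ, true_and]
        omega
      · intro i hi
        have := (Finset.mem_filter.mp hi).2
        apply Fin.ext
        simp only
        omega
      · intro i hi
        have := (Finset.mem_filter.mp hi).2
        apply Fin.ext
        simp only
        omega
      · intro i hi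
        exact h1 i (Finset.mem_filter.mp hi).2
    apply key
    · intro i h
      have h' : (⟨n - 2 - i.val, by omega⟩ : Fin n).val + 1 < n := by simp only; omega
      rw [dif_pos h, dif_pos h', iotaM_apply]
      congr 1
      · apply Fin.ext
        simp only [Fin.val_rev]
        omega
      · apply Fin.ext
        simp only [Fin.val_rev]
        omega
    · intro i h
      rw [dif_neg h, dif_neg h]
      exact ⟨rfl, rfl⟩

end Helper6

end Cfsg.Agent.Lib.Helper24.SLB
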