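import Cfsg.Agent.Lib.Helper6.SLBC1

/-! S4538 farm (architect helper24), piece [C], part 2: the character `ψ` of `Usl` and the Bruhat
decomposition of `SL_n(F)` in the form `g = u₁ m u₂` with `m` monomial. -/

set_option autoImplicit false
set_option linter.unusedSectionVars false

namespace Cfsg.Agent.Lib.Helper24.SLB

open Matrix

namespace Helper6

variable {n : ℕ} {F : Type*} [Field F]

theorem superSum_one : superSum (1 : Matrix (Fin n) (Fin n) F) = 0 := by
  unfold superSum
  apply Finset.sum_eq_zero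
  intro i _
  split_ifs with h
  · apply Matrix.one_apply_ne
    intro e
    have := congrArg Fin.val e
    simp at this
  · rfl

/-- the character `u ↦ θ(superSum u)` of the unitriangular group -/
noncomputable def psiU (θ : AddChar F ℂ) : Usl n F →* ℂˣ where
  toFun u := ⟨θ (superSum ((u : SpecialLinearGroup (Fin n) F) : Matrix (Fin n) (Fin n) F)),
    θ (-(superSum ((u : SpecialLinearGroup (Fin n) F) : Matrix (Fin n) (Fin n) F))),
    by rw [← AddChar.map_add_eq_mul, add_neg_cancel, AddChar.map_zero_eq_one],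
    by rw [← AddChar.map_add_eq_mul, neg_add_cancel, AddChar.map_zero_eq_one]⟩
  map_one' := by
    apply Units.ext
    show θ (superSum (((1 : Usl n F) : SpecialLinearGroup (Fin n) F) : Matrix (Fin n) (Fin n) F)) = 1
    rw [Subgroup.coe_one, Matrix.SpecialLinearGroup.coe_one, superSum_one, AddChar.map_zero_eq_one]
  map_mul' := by
    intro u u'
    apply Units.ext
    show θ (superSum (((u * u' : Usl n F) : SpecialLinearGroup (Fin n) F) :
      Matrix (Fin n) (Fin n) F)) = θ _ * θ _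
    rw [Subgroup.coe_mul, Matrix.SpecialLinearGroup.coe_mul,
      superSum_mul (mem_Usl.mp u.2).1 (mem_Usl.mp u.2).2 (mem_Usl.mp u'.2).1 (mem_Usl.mp u'.2).2,
      AddChar.map_add_eq_mul]

theorem psiU_coe (θ : AddChar F ℂ) (u : Usl n F) :
    ((psiU θ u : ℂˣ) : ℂ) =
      θ (superSum ((u : SpecialLinearGroup (Fin n) F) : Matrix (Fin n) (Fin n) F)) := rfl

theorem psiU_iota (θ : AddChar F ℂ) (u : Usl n F) :
    psiU θ ⟨iota (u : SpecialLinearGroup (Fin n) F), iota_mem_Usl u.2⟩ = psiU θ u := by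
  apply Units.ext
  rw [psiU_coe, psiU_coe]
  show θ (superSum (iotaM _)) = _
  rw [superSum_iotaM]

/-! ### Bruhat decomposition with unitriangular factors -/

theorem diag_ne_zero_of_upper {B : Matrix (Fin n) (Fin n) F} (hB : B.BlockTriangular id)
    (hdet : B.det ≠ 0) (i : Fin n) : B i i ≠ 0 := by
  rw [Matrix.det_of_upperTriangular hB] at hdet
  exact (Finset.prod_ne_zero_iff.mp hdet) i (Finset.mem_univ i)

theorem exists_bruhat_SL [Finite F] (g : SpecialLinearGroup (Fin n) F) :
    ∃ (u₁ u₂ m : SpecialLinearGroup (Fin n) F) (σ : Equiv.Perm (Fin n)) (dd : Fin n → F),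
      u₁ ∈ Usl n F ∧ u₂ ∈ Usl n F ∧ (∀ j, dd j ≠ 0) ∧
      (∀ i j, (m : Matrix (Fin n) (Fin n) F) i j = if i = σ j then dd j else 0) ∧
      g = u₁ * m * u₂ := by
  classical
  obtain ⟨b₁, hb₁, b₂, hb₂, π, hg⟩ := Cfsg.Agent.Lib.Helper15.Bru.bruhat
    (SpecialLinearGroup.toGL g)
  set B₁ : Matrix (Fin n) (Fin n) F := (b₁ : Matrix (Fin n) (Fin n) F) with hB₁
  set B₂ : Matrix (Fin n) (Fin n) F := (b₂ : Matrix (Fin n) (Fin n) F) with hB₂
  have hT₁ : B₁.BlockTriangular id := hb₁
  have hT₂ : B₂.BlockTriangular id := hb₂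
  have hd₁ : ∀ i, B₁ i i ≠ 0 := diag_ne_zero_of_upper hT₁ b₁.det_ne_zero
  have hd₂ : ∀ i, B₂ i i ≠ 0 := diag_ne_zero_of_upper hT₂ b₂.det_ne_zero
  -- the three factors
  let U₁ : Matrix (Fin n) (Fin n) F := fun i j => B₁ i j / B₁ j j
  let U₂ : Matrix (Fin n) (Fin n) F := fun i j => B₂ i j / B₂ i i
  let M : Matrix (Fin n) (Fin n) F := fun i j => if π i = j then B₁ i i * B₂ j j else 0
  have hU₁T : U₁.BlockTriangular id := by
    intro i j hij
    show B₁ i j / B₁ j j = 0
    rw [hT₁ hij, zero_div]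
  have hU₂T : U₂.BlockTriangular id := by
    intro i j hij
    show B₂ i j / B₂ i i = 0
    rw [hT₂ hij, zero_div]
  have hU₁1 : ∀ i, U₁ i i = 1 := fun i => div_self (hd₁ i)
  have hU₂1 : ∀ i, U₂ i i = 1 := fun i => div_self (hd₂ i)
  have hdetU₁ : U₁.det = 1 := by
    rw [Matrix.det_of_upperTriangular hU₁T]
    exact Finset.prod_eq_one (fun i _ => hU₁1 i)
  have hdetU₂ : U₂.det = 1 := by
    rw [Matrix.det_of_upperTriangular hU₂T]
    exact Finset.prod_eq_one (fun i _ => hU₂1 i)
  -- the product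
  have hprod : U₁ * M * U₂ = (g : Matrix (Fin n) (Fin n) F) := by
    have hgM : (g : Matrix (Fin n) (Fin n) F) =
        B₁ * ((Cfsg.Agent.Lib.Helper15.Bru.permGL π : GL (Fin n) F) : Matrix (Fin n) (Fin n) F)
          * B₂ := by
      have := congrArg (fun x : GL (Fin n) F => (x : Matrix (Fin n) (Fin n) F)) hg
      simpa using this
    rw [hgM]
    ext i l
    rw [Matrix.mul_apply, Matrix.mul_apply]
    apply Finset.sum_congr rfl
    intro k _
    rw [Matrix.mul_apply, Matrix.mul_apply, Finset.sum_mul, Finset.sum_mul]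
    apply Finset.sum_congr rfl
    intro j _
    rw [Cfsg.Agent.Lib.Helper15.Bru.permGL_apply]
    show B₁ i j / B₁ j j * (if π j = k then B₁ j j * B₂ k k else 0) * (B₂ k l / B₂ k k) = _
    by_cases hjk : π j = k
    · rw [if_pos hjk, if_pos hjk]
      have h1 := hd₁ j
      have h2 := hd₂ k
      field_simp
    · rw [if_neg hjk, if_neg hjk]
      simp
  have hdetM : M.det = 1 := by
    have := congrArg Matrix.det hprod
    rw [Matrix.det_mul, Matrix.det_mul, hdetU₁, hdetU₂, one_mul, mul_one, g.det_coe] at this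
    exact this
  refine ⟨⟨U₁, hdetU₁⟩, ⟨U₂, hdetU₂⟩, ⟨M, hdetM⟩, π.symm, fun j => B₁ (π.symm j) (π.symm j) * B₂ j j,
    ⟨hU₁T, hU₁1⟩, ⟨hU₂T, hU₂1⟩, fun j => mul_ne_zero (hd₁ _) (hd₂ _), ?_, ?_⟩
  · intro i j
    show (if π i = j then B₁ i i * B₂ j j else 0) = _
    by_cases h : π i = j
    · have h' : i = π.symm j := by rw [← h, Equiv.symm_apply_apply]
      rw [if_pos h, if_pos h']
      show _ = B₁ (π.symm j) (π.symm j) * B₂ j j
      rw [← h']
    · have h' : ¬ i = π.symm j := by
        intro e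
        apply h
        rw [e, Equiv.apply_symm_apply]
      rw [if_neg h, if_neg h']
  · exact Subtype.ext hprod.symm

end Helper6

end Cfsg.Agent.Lib.Helper24.SLB
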