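import Cfsg.Agent.Lib.Helper6.SLBC2

/-! S4538 farm (architect helper24), piece [C], part 3: admissible monomial matrices, and the
Gelfand–Graev representation of `SL_n(F)` is multiplicity free (modulo the pieces [A], [B]). -/

set_option autoImplicit false
set_option linter.unusedSectionVars false

namespace Cfsg.Agent.Lib.Helper24.SLB

open Matrix

namespace Helper6

variable {n : ℕ} {F : Type*} [Field F]

theorem superSum_add (A B : Matrix (Fin n) (Fin n) F) :
    superSum (A + B) = superSum A + superSum B := by
  unfold superSum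
  rw [← Finset.sum_add_distrib]
  apply Finset.sum_congr rfl
  intro i _
  split_ifs with h
  · rfl
  · rw [add_zero]

theorem superSum_single {a b : Fin n} (c : F) :
    superSum (Matrix.single a b c) = if b.val = a.val + 1 then c else 0 := by
  unfold superSum
  by_cases h : b.val = a.val + 1
  · rw [if_pos h]
    rw [Finset.sum_eq_single a]
    · have h' : a.val + 1 < n := by rw [← h]; exact b.2
      rw [dif_pos h']
      have e : (⟨a.val + 1, h'⟩ : Fin n) = b := Fin.ext h.symm
      rw [e, Matrix.single_apply_same]
    · intro i _ hia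
      split_ifs with h'
      · exact Matrix.single_apply_of_row_ne (Ne.symm hia) _ _ _
      · rfl
    · intro h0
      exact absurd (Finset.mem_univ a) h0
  · rw [if_neg h]
    apply Finset.sum_eq_zero
    intro i _
    split_ifs with h'
    · by_cases hia : a = i
      · subst hia
        apply Matrix.single_apply_of_col_ne
        intro e
        apply h
        rw [e]
      · exact Matrix.single_apply_of_row_ne hia _ _ _
    · rfl

open Cfsg.Agent.Lib.Helper25.SLCC in
theorem T_mem_Usl {a b : Fin n} (hab : a < b) (c : F) : T a b c ∈ Usl n F := by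
  rw [mem_Usl, T_coe hab.ne]
  refine ⟨fun i j hij => ?_, fun i => ?_⟩
  · simp only [id] at hij
    rw [Matrix.add_apply, Matrix.one_apply_ne hij.ne', zero_add]
    by_cases hia : a = i
    · subst hia
      apply Matrix.single_apply_of_col_ne
      intro e
      subst e
      exact absurd hab (not_lt.mpr hij.le)
    · exact Matrix.single_apply_of_row_ne hia _ _ _
  · rw [Matrix.add_apply, Matrix.one_apply_eq]
    have : Matrix.single a b c i i = 0 := by
      by_cases hia : a = i
      · subst hia
        exact Matrix.single_apply_of_col_ne _ _ hab.ne' _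
      · exact Matrix.single_apply_of_row_ne hia _ _ _
    rw [this, add_zero]

open Cfsg.Agent.Lib.Helper25.SLCC in
theorem superSum_T {a b : Fin n} (hab : a ≠ b) (c : F) :
    superSum ((T a b c : SpecialLinearGroup (Fin n) F) : Matrix (Fin n) (Fin n) F) =
      if b.val = a.val + 1 then c else 0 := by
  rw [T_coe hab, superSum_add, superSum_one, zero_add, superSum_single]

/-- a nontrivial additive character cannot be invariant under a nontrivial scaling -/
theorem scale_eq_one (θ : AddChar F ℂ) (hθ : θ ≠ 1) (c : F) (h : ∀ t : F, θ (t * c) = θ t) :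
    c = 1 := by
  by_contra hc
  apply hθ
  rw [AddChar.eq_one_iff]
  intro s
  have hc1 : c - 1 ≠ 0 := sub_ne_zero.mpr hc
  have h1 := h (s / (c - 1))
  have e : s / (c - 1) * c = s + s / (c - 1) := by
    field_simp
    ring
  rw [e, AddChar.map_add_eq_mul] at h1
  have hne : θ (s / (c - 1)) ≠ 0 := by
    intro h0
    have := AddChar.map_add_eq_mul θ (s / (c - 1)) (-(s / (c - 1)))
    rw [add_neg_cancel, AddChar.map_zero_eq_one, h0, zero_mul] at this
    exact one_ne_zero this
  exact mul_right_cancel₀ hne (h1.trans (one_mul _).symm)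

open Cfsg.Agent.Lib.Helper25.SLCC in
/-- admissible monomial matrices: ascents of `σ` at consecutive positions are ascents by one, with
equal coefficients -/
theorem mono_adm (θ : AddChar F ℂ) (hθ : θ ≠ 1) (m : SpecialLinearGroup (Fin n) F)
    (σ : Equiv.Perm (Fin n)) (dd : Fin n → F) (hdd : ∀ j, dd j ≠ 0)
    (hm : ∀ i j, (m : Matrix (Fin n) (Fin n) F) i j = if i = σ j then dd j else 0)
    (hadm : ∀ u u' : Usl n F, (u : SpecialLinearGroup (Fin n) F) * m = m * u' →
      psiU θ u = psiU θ u')
    (k : ℕ) (hk : k + 1 < n) (hlt : σ (fi k hk) < σ (fs k hk)) :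
    ((σ (fs k hk) : Fin n) : ℕ) = ((σ (fi k hk) : Fin n) : ℕ) + 1 ∧ dd (fi k hk) = dd (fs k hk) := by
  set a := σ (fi k hk) with ha
  set b := σ (fs k hk) with hb
  have hab : a ≠ b := hlt.ne
  have hfifs : fi k hk < fs k hk := by
    rw [Fin.lt_def]
    simp
  -- the relation `u m = m u'`
  have hrel : ∀ t : F, (T a b (t * (dd (fi k hk) / dd (fs k hk))) : SpecialLinearGroup (Fin n) F) * m
      = m * xs k hk t := by
    intro t
    apply Subtype.ext
    show ((T a b (t * (dd (fi k hk) / dd (fs k hk))) : SpecialLinearGroup (Fin n) F) :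
      Matrix (Fin n) (Fin n) F) * (m : Matrix (Fin n) (Fin n) F) =
      (m : Matrix (Fin n) (Fin n) F) * ((xs k hk t : SpecialLinearGroup (Fin n) F) :
        Matrix (Fin n) (Fin n) F)
    rw [T_coe hab, xs_coe, Matrix.add_mul, Matrix.mul_add, Matrix.one_mul, Matrix.mul_one]
    congr 1
    ext i l
    by_cases hia : i = a
    · subst hia
      rw [Matrix.single_mul_apply_same]
      by_cases hl : l = fs k hk
      · subst hl
        rw [Matrix.mul_single_apply_same, hm, hm, if_pos hb, if_pos ha]
        have := hdd (fs k hk)
        field_simp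
      · rw [Matrix.mul_single_apply_of_ne (hbj := hl), hm, if_neg, mul_zero]
        intro e
        apply hl
        exact σ.injective e.symm
    · rw [Matrix.single_mul_apply_of_ne (h := hia)]
      by_cases hl : l = fs k hk
      · subst hl
        rw [Matrix.mul_single_apply_same, hm, if_neg hia, zero_mul]
      · rw [Matrix.mul_single_apply_of_ne (hbj := hl)]
  -- consequences for the character
  have hpsi : ∀ t : F, θ (if b.val = a.val + 1 then t * (dd (fi k hk) / dd (fs k hk)) else 0) = θ t := by
    intro t
    have h1 := hadm ⟨T a b (t * (dd (fi k hk) / dd (fs k hk))), T_mem_Usl hlt _⟩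
      ⟨xs k hk t, T_mem_Usl hfifs t⟩ (hrel t)
    have h2 := congrArg (fun z : ℂˣ => (z : ℂ)) h1
    simp only [psiU_coe] at h2
    rw [superSum_T hab] at h2
    have h3 : superSum ((xs k hk t : SpecialLinearGroup (Fin n) F) : Matrix (Fin n) (Fin n) F) = t := by
      show superSum ((T (fi k hk) (fs k hk) t : SpecialLinearGroup (Fin n) F) :
        Matrix (Fin n) (Fin n) F) = t
      rw [superSum_T (fi_ne_fs k hk), if_pos rfl]
    rw [h3] at h2
    exact h2
  have hval : b.val = a.val + 1 := by
    by_contra hne
    apply hθ
    rw [AddChar.eq_one_iff]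
    intro t
    have := hpsi t
    rw [if_neg hne, AddChar.map_zero_eq_one] at this
    exact this.symm
  refine ⟨hval, ?_⟩
  have hc := scale_eq_one θ hθ (dd (fi k hk) / dd (fs k hk)) (fun t => by
    have := hpsi t
    rw [if_pos hval] at this
    exact this)
  exact (div_eq_one_iff_eq (hdd _)).mp hc

end Helper6

end Cfsg.Agent.Lib.Helper24.SLB
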