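import Mathlib
import Cfsg.Prelude.Def_Solvable
import Cfsg.Agent.H5.Cores
import Cfsg.Agent.Lib.Helper24.SLB.S4

set_option autoImplicit false

/-! # S2440-[S2] core (helper6): the `p`-regular classes of `N(P)` centralizing a Sylow `P` of
`SL_n(F)` correspond to the centre, given the conclusion of `[P1]` for `D = P`. -/

namespace Cfsg.Agent.Lib.Helper24.SLB

namespace Helper6

open Matrix

/-- `O_p(N_G(P)) = P` for a Sylow `p`-subgroup `P` of a finite group. -/
theorem pCore_normalizer_sylow {G : Type*} [Group G] [Finite G] (p : ℕ) [Fact p.Prime]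
    (P : Sylow p G) :
    (Cfsg.pCore p (Subgroup.normalizer ((P : Subgroup G) : Set G))).map
      (Subgroup.normalizer ((P : Subgroup G) : Set G)).subtype = (P : Subgroup G) := by
  set N : Subgroup G := Subgroup.normalizer ((P : Subgroup G) : Set G) with hN
  apply le_antisymm
  · set Q : Subgroup G := (Cfsg.pCore p N).map N.subtype with hQ
    have hQp : IsPGroup p Q := (Cfsg.H5.pCore_isPGroup p N).map _
    have hQN : Q ≤ N := Subgroup.map_subtype_le _
    have h : Q ⊓ N = Q ⊓ (P : Subgroup G) := hQp.inf_normalizer_sylow P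
    have h2 : Q ⊓ N = Q := inf_eq_left.mpr hQN
    rw [← h2, h]
    exact inf_le_right
  · have hPN : (P : Subgroup G) ≤ N := Subgroup.le_normalizer
    have hnorm : ((P : Subgroup G).subgroupOf N).Normal := Subgroup.normal_in_normalizer
    have hp : IsPGroup p ((P : Subgroup G).subgroupOf N) := by
      have := P.isPGroup'
      exact this.comap_subtype
    have hle := Cfsg.H5.le_pCore hnorm hp
    intro x hx
    exact ⟨⟨x, hPN hx⟩, hle (Subgroup.mem_subgroupOf.mpr hx), rfl⟩

/-- a central element of `SL_n(F)`, `char F = p`, has order prime to `p` -/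
theorem not_dvd_orderOf_of_mem_center {F : Type*} [Field F] [Fintype F] (n : ℕ) (hn : 1 ≤ n)
    (p : ℕ) [Fact p.Prime] [CharP F p] (z : SpecialLinearGroup (Fin n) F)
    (hz : z ∈ Subgroup.center (SpecialLinearGroup (Fin n) F)) : ¬ p ∣ orderOf z := by
  classical
  rintro ⟨m, hm⟩
  haveI : Nonempty (Fin n) := ⟨⟨0, by omega⟩⟩
  obtain ⟨c, -, hc⟩ := Matrix.SpecialLinearGroup.mem_center_iff.mp hz
  have hpow : ∀ k : ℕ, ((z ^ k : SpecialLinearGroup (Fin n) F) : Matrix (Fin n) (Fin n) F) =
      Matrix.scalar (Fin n) (c ^ k) := by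
    intro k
    rw [Matrix.SpecialLinearGroup.coe_pow, ← hc, ← map_pow]
  have h1 : z ^ (p * m) = 1 := by rw [← hm]; exact pow_orderOf_eq_one z
  have h2 : c ^ (p * m) = 1 := by
    have := hpow (p * m)
    rw [h1, Matrix.SpecialLinearGroup.coe_one] at this
    have h3 : Matrix.scalar (Fin n) (c ^ (p * m)) = Matrix.scalar (Fin n) (1 : F) := by
      rw [← this, map_one]
    exact Matrix.scalar_inj.mp h3
  have h3 : c ^ m = 1 := by
    haveI : ExpChar F p := ExpChar.prime Fact.out
    exact (ExpChar.pow_prime_pow_mul_eq_one_iff p 1 m c).mp (by rwa [pow_one])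
  have h4 : z ^ m = 1 := by
    apply Subtype.ext
    rw [hpow m, h3, map_one, Matrix.SpecialLinearGroup.coe_one]
  have h5 : orderOf z ∣ m := orderOf_dvd_of_pow_eq_one h4
  have hpos : 0 < orderOf z := orderOf_pos z
  have hm0 : 0 < m := by
    rcases Nat.eq_zero_or_pos m with h | h
    · rw [h, mul_zero] at hm; omega
    · exact h
  have hle := Nat.le_of_dvd hm0 h5
  have hp2 : 2 ≤ p := (Fact.out : p.Prime).two_le
  rw [hm] at hle
  nlinarith

/-- a conjugacy class of a subgroup `N ≥ Z(G)` that contains a central element of `G` is that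
element alone -/
theorem eq_of_mk_eq_mk_central {G : Type*} [Group G] (N : Subgroup G) (m : N) (z : G)
    (hz : z ∈ Subgroup.center G) (hzN : z ∈ N)
    (h : ConjClasses.mk m = ConjClasses.mk (⟨z, hzN⟩ : N)) : m = ⟨z, hzN⟩ := by
  rw [ConjClasses.mk_eq_mk_iff_isConj, isConj_iff] at h
  obtain ⟨c, hc⟩ := h
  have h1 : (c : G) * (m : G) * (c : G)⁻¹ = z := by
    have := congrArg (fun x : N => (x : G)) hc
    simpa using this
  apply Subtype.ext
  show (m : G) = z
  have h2 : (m : G) = (c : G)⁻¹ * z * (c : G) := by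
    rw [← h1]; group
  rw [h2, (Subgroup.mem_center_iff.mp hz) (c : G)⁻¹]
  group

/-- generic counting: classes of `N` all of whose members satisfy `Q` correspond to `Z(G)` when
`Q` holds on `Z(G) ≤ N` and forces centrality -/
theorem card_classes_eq_card_center_gen {G : Type*} [Group G] (N : Subgroup G)
    (hZN : Subgroup.center G ≤ N) (Q : N → Prop)
    (hQ1 : ∀ (z : G) (hz : z ∈ Subgroup.center G), Q ⟨z, hZN hz⟩)
    (hQ2 : ∀ m : N, Q m → (m : G) ∈ Subgroup.center G) :
    Nat.card {C : ConjClasses N // ∀ m : N, ConjClasses.mk m = C → Q m} =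
      Nat.card (Subgroup.center G) := by
  symm
  apply Nat.card_congr
  refine Equiv.ofBijective
    (fun z => ⟨ConjClasses.mk (⟨z.1, hZN z.2⟩ : N), ?_⟩) ⟨?_, ?_⟩
  · intro m hm
    have := eq_of_mk_eq_mk_central N m z.1 z.2 (hZN z.2) hm
    rw [this]
    exact hQ1 z.1 z.2
  · intro z z' h
    have h1 := congrArg Subtype.val h
    simp only at h1
    have := eq_of_mk_eq_mk_central N ⟨z.1, hZN z.2⟩ z'.1 z'.2 (hZN z'.2) h1
    apply Subtype.ext
    exact congrArg (fun x : N => (x : G)) this
  · rintro ⟨C, hC⟩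
    obtain ⟨m, rfl⟩ := ConjClasses.exists_rep C
    have hm := hQ2 m (hC m rfl)
    refine ⟨⟨(m : G), hm⟩, ?_⟩
    apply Subtype.ext
    rfl


/-- the counting statement, given the conclusion of `[P1]` for `D = P` -/
theorem card_classes_eq_card_center_core {F : Type*} [Field F] [Fintype F] (n : ℕ) (hn : 2 ≤ n)
    (p : ℕ) [Fact p.Prime] [CharP F p] (P : Sylow p (SpecialLinearGroup (Fin n) F))
    (hP1 : ∀ g ∈ Subgroup.centralizer
        ((P : Subgroup (SpecialLinearGroup (Fin n) F)) : Set (SpecialLinearGroup (Fin n) F)),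
      ¬ p ∣ orderOf g → g ∈ Subgroup.center (SpecialLinearGroup (Fin n) F)) :
    Nat.card {C : ConjClasses (Subgroup.normalizer
        ((P : Subgroup (SpecialLinearGroup (Fin n) F)) : Set (SpecialLinearGroup (Fin n) F))) //
      ∀ m : Subgroup.normalizer
        ((P : Subgroup (SpecialLinearGroup (Fin n) F)) : Set (SpecialLinearGroup (Fin n) F)),
        ConjClasses.mk m = C → ¬ p ∣ orderOf m ∧
          (m : SpecialLinearGroup (Fin n) F) ∈ Subgroup.centralizer
            ((P : Subgroup (SpecialLinearGroup (Fin n) F)) : Set (SpecialLinearGroup (Fin n) F))} =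
      Nat.card (Subgroup.center (SpecialLinearGroup (Fin n) F)) := by
  have hZN : Subgroup.center (SpecialLinearGroup (Fin n) F) ≤ Subgroup.normalizer
      ((P : Subgroup (SpecialLinearGroup (Fin n) F)) : Set (SpecialLinearGroup (Fin n) F)) :=
    Subgroup.center_le_normalizer _
  refine card_classes_eq_card_center_gen (Subgroup.normalizer
      ((P : Subgroup (SpecialLinearGroup (Fin n) F)) : Set (SpecialLinearGroup (Fin n) F))) hZN
    (fun m => ¬ p ∣ orderOf m ∧ (m : SpecialLinearGroup (Fin n) F) ∈ Subgroup.centralizer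
      ((P : Subgroup (SpecialLinearGroup (Fin n) F)) : Set (SpecialLinearGroup (Fin n) F)))
    ?_ ?_
  · intro z hz
    refine ⟨?_, Subgroup.center_le_centralizer _ hz⟩
    rw [Subgroup.orderOf_mk]
    exact not_dvd_orderOf_of_mem_center n (by omega) p z hz
  · intro m hm
    refine hP1 _ hm.2 ?_
    rw [Subgroup.orderOf_coe]
    exact hm.1

/-- a Sylow `p`-subgroup of `SL_n(F)`, `char F = p`, `n ≥ 2`, is nontrivial -/
theorem sylow_SL_ne_bot {F : Type*} [Field F] [Fintype F] (n : ℕ) (hn : 2 ≤ n)
    (p : ℕ) [Fact p.Prime] [CharP F p] (P : Sylow p (SpecialLinearGroup (Fin n) F)) :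
    (P : Subgroup (SpecialLinearGroup (Fin n) F)) ≠ ⊥ := by
  intro h
  have hcard := P.card_eq_multiplicity
  have hpos := factorization_card_SL_pos (F := F) n hn p
  have h1 : Nat.card (P : Subgroup (SpecialLinearGroup (Fin n) F)) = 1 := by
    rw [h]; exact Subgroup.card_bot
  have hp : 1 < p := (Fact.out : p.Prime).one_lt
  have h2 : p ^ (Nat.card (SpecialLinearGroup (Fin n) F)).factorization p = 1 := by
    rw [← hcard]; exact h1
  have h3 := (Nat.pow_eq_one.mp h2)
  omega

end Helper6

end Cfsg.Agent.Lib.Helper24.SLB
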