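import Cfsg.Agent.Lib.Helper6.SLCCA1

/-! S2086 farm (architect helper25), SPARE of piece [A2] (official: helper11): Milnor's construction
of lifts satisfying Steinberg's relations from `CommLift` and `Bal`. -/

set_option autoImplicit false

namespace Cfsg.Agent.Lib.Helper25.SLCC

open Matrix
open scoped commutatorElement

variable {n : ℕ} {K : Type*} [Field K] {E : Type*} [Group E]

namespace Helper6

theorem exists_ne_two (hn : 3 ≤ n) (a b : Fin n) : ∃ h : Fin n, h ≠ a ∧ h ≠ b := by
  classical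
  have hcard : ({a, b} : Finset (Fin n)).card < (Finset.univ : Finset (Fin n)).card := by
    rw [Finset.card_univ, Fintype.card_fin]
    calc ({a, b} : Finset (Fin n)).card ≤ 2 := Finset.card_le_two
      _ < n := by omega
  obtain ⟨h, -, hh⟩ := Finset.exists_mem_notMem_of_card_lt_card hcard
  simp only [Finset.mem_insert, Finset.mem_singleton, not_or] at hh
  exact ⟨h, hh.1, hh.2⟩

/-- spare of [A2] -/
theorem exists_lifts_of_commLift_bal_spare (hn : 3 ≤ n) (ψ : E →* SpecialLinearGroup (Fin n) K)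
    (hψ : Function.Surjective ψ) (hc : ψ.ker ≤ Subgroup.center E) (hCL : CommLift ψ) (hBal : Bal ψ) :
    ∃ y : Fin n → Fin n → K → E,
      (∀ i j : Fin n, i ≠ j → ∀ t : K, ψ (y i j t) = T i j t) ∧
      (∀ i j : Fin n, i ≠ j → ∀ t u : K, y i j t * y i j u = y i j (t + u)) ∧
      (∀ i j k l : Fin n, i ≠ j → k ≠ l → i ≠ l → j ≠ k → ∀ t u : K,
        y i j t * y k l u = y k l u * y i j t) ∧
      (∀ i j l : Fin n, i ≠ j → j ≠ l → i ≠ l → ∀ t u : K, ⁅y i j t, y j l u⁆ = y i l (t * u)) := by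
  classical
  let L : SpecialLinearGroup (Fin n) K → E := Function.surjInv hψ
  have hL : ∀ g, ψ (L g) = g := Function.surjInv_eq hψ
  -- the chosen third index
  let hh : Fin n → Fin n → Fin n := fun i j => Classical.choose (exists_ne_two hn i j)
  have hh1 : ∀ i j, hh i j ≠ i := fun i j => (Classical.choose_spec (exists_ne_two hn i j)).1
  have hh2 : ∀ i j, hh i j ≠ j := fun i j => (Classical.choose_spec (exists_ne_two hn i j)).2
  let y : Fin n → Fin n → K → E := fun i j t => ⁅L (T i (hh i j) 1), L (T (hh i j) j t)⁆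
  have hy : ∀ i j : Fin n, i ≠ j → ∀ t : K, ψ (y i j t) = T i j t := by
    intro i j hij t
    show ψ ⁅L (T i (hh i j) 1), L (T (hh i j) j t)⁆ = T i j t
    rw [map_commutatorElement, hL, hL, T_comm3 (Ne.symm (hh1 i j)) (hh2 i j) hij, one_mul]
  -- the key property
  have key : ∀ i j h' : Fin n, i ≠ j → h' ≠ i → h' ≠ j → ∀ (s t : K) (A B : E),
      ψ A = T i h' s → ψ B = T h' j t → ⁅A, B⁆ = y i j (s * t) := by
    intro i j h' hij h1 h2 s t A B hA hB
    exact hBal i h' (hh i j) j (Ne.symm h1) h2 hij (Ne.symm (hh1 i j)) (hh2 i j) s t A B _ _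
      hA hB (hL _) (hL _)
  refine ⟨y, hy, ?_, ?_, ?_⟩
  · -- additivity
    intro i j hij t u
    have h1 := hh1 i j
    have h2 := hh2 i j
    set h := hh i j with hdef
    set A' := L (T i h 1) with hA'
    set Bt := L (T h j t) with hBt
    set Bu := L (T h j u) with hBu
    have e1 : ⁅A', Bt * Bu⁆ = y i j (1 * (t + u)) := by
      apply key i j h hij h1 h2 1 (t + u) A' (Bt * Bu) (hL _)
      rw [map_mul, hL, hL, T_add h2]
    have e2 : ⁅A', Bt * Bu⁆ = ⁅A', Bt⁆ * (Bt * ⁅A', Bu⁆ * Bt⁻¹) := by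
      simp only [commutatorElement_def]
      group
    have e3 : Bt * ⁅A', Bu⁆ = ⁅A', Bu⁆ * Bt := by
      have hq : ψ ⁅A', Bu⁆ = T i j u := by
        rw [map_commutatorElement, hL, hL, T_comm3 (Ne.symm h1) h2 hij, one_mul]
      exact hCL h j i j h2 hij h2 (Ne.symm hij) t u Bt ⁅A', Bu⁆ (hL _) hq
    rw [one_mul] at e1
    rw [← e1, e2, e3, mul_inv_cancel_right]
  · -- commuting pairs
    intro i j k l hij hkl hil hjk t u
    exact hCL i j k l hij hkl hil hjk t u _ _ (hy i j hij t) (hy k l hkl u)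
  · -- the commutator relation
    intro i j l hij hjl hil t u
    exact key i l j hil (Ne.symm hij) hjl t u _ _ (hy i j hij t) (hy j l hjl u)

end Helper6

end Cfsg.Agent.Lib.Helper25.SLCC
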