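import Mathlib
import Cfsg.Agent.Lib.Helper6.SURoot4

/-!
# Rank one pairs of unitary transvection subgroups are images of `SL₂(q)`: the homomorphism
-/

set_option autoImplicit false
open Cfsg

namespace Cfsg.Agent.Lib.Helper6.SURoot

open Matrix Module Cfsg.Agent.Lib.Helper6 Cfsg.Agent.S0779 Cfsg.Agent.S0781
  Cfsg.Agent.Lib.Helper6.SUG Cfsg.Agent.H26

variable {F : Type*} [Field F] [Fintype F] {q n : ℕ}

local notation "hh" => hermForm n F q

theorem herm_eq_dot (p r : Fin n → F) : hh p r = (fun i => r i ^ q) ⬝ᵥ p := by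
  unfold hermForm dotProduct
  apply Finset.sum_congr rfl
  intro i _
  ring

/-- the point–hyperplane pair of an isotropic vector -/
def flagOf (p : Fin n → F) (hpp : hh p p = 0) : SLRoot.PH (Fin n) F where
  u := p
  φ := fun i => p i ^ q
  inc := by rw [← herm_eq_dot, hpp]

theorem tv_val (hF : Fintype.card F = q ^ 2) (p : Fin n → F) (hpp : hh p p = 0) (c : F)
    (hc : c ^ q = -c) :
    ((tv hF p c hpp hc : ↥(Cfsg.SU n F q)) : Matrix.SpecialLinearGroup (Fin n) F) =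
      SLRoot.tv (flagOf p hpp) c := by
  apply Subtype.ext
  rfl

/-- the homomorphism `SL₂(Lq) → SL_n(F)` attached to a hyperbolic pair and a trace-zero `μ` -/
noncomputable def psi (hF : Fintype.card F = q ^ 2) (p r : Fin n → F) (hpp : hh p p = 0)
    (hrr : hh r r = 0) (hpr : hh p r = 1) (hrp : hh r p = 1) (μ : F) (hμ0 : μ ≠ 0) :
    Matrix.SpecialLinearGroup (Fin 2) (Lq hF) →* Matrix.SpecialLinearGroup (Fin n) F :=
  (SLRoot.phi (flagOf p hpp) (flagOf r hrr) (by rw [← hpr, herm_eq_dot]; rfl)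
    (by rw [← hrp, herm_eq_dot]; rfl)).comp (kap hF μ hμ0)

theorem psi_uM (hF : Fintype.card F = q ^ 2) (p r : Fin n → F) (hpp : hh p p = 0)
    (hrr : hh r r = 0) (hpr : hh p r = 1) (hrp : hh r p = 1) (μ : F) (hμ0 : μ ≠ 0) (b : Lq hF) :
    psi hF p r hpp hrr hpr hrp μ hμ0 (uM b) = SLRoot.tv (flagOf p hpp) (μ * jL hF b) := by
  unfold psi
  rw [MonoidHom.comp_apply, kap_uM, SLRoot.phi_uM]

theorem psi_lM (hF : Fintype.card F = q ^ 2) (p r : Fin n → F) (hpp : hh p p = 0)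
    (hrr : hh r r = 0) (hpr : hh p r = 1) (hrp : hh r p = 1) (μ : F) (hμ0 : μ ≠ 0) (c : Lq hF) :
    psi hF p r hpp hrr hpr hrp μ hμ0 (lM c) = SLRoot.tv (flagOf r hrr) (μ⁻¹ * jL hF c) := by
  unfold psi
  rw [MonoidHom.comp_apply, kap_lM, SLRoot.phi_lM]

theorem tz_mul (hF : Fintype.card F = q ^ 2) (μ : F) (hμ : μ ^ q = -μ) (b : Lq hF) :
    (μ * jL hF b) ^ q = -(μ * jL hF b) := by
  rw [mul_pow, hμ, jL_fixed]
  ring

theorem tz_inv_mul (hF : Fintype.card F = q ^ 2) (μ : F) (hμ : μ ^ q = -μ) (c : Lq hF) :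
    (μ⁻¹ * jL hF c) ^ q = -(μ⁻¹ * jL hF c) := by
  rw [mul_pow, inv_pow, hμ, jL_fixed, inv_neg]
  ring

theorem psi_mem (hF : Fintype.card F = q ^ 2) (p r : Fin n → F) (hpp : hh p p = 0)
    (hrr : hh r r = 0) (hpr : hh p r = 1) (hrp : hh r p = 1) (μ : F) (hμ0 : μ ≠ 0)
    (hμ : μ ^ q = -μ) (M : Matrix.SpecialLinearGroup (Fin 2) (Lq hF)) :
    psi hF p r hpp hrr hpr hrp μ hμ0 M ∈ Cfsg.SU n F q := by
  have htop : (Cfsg.SU n F q).comap (psi hF p r hpp hrr hpr hrp μ hμ0) = ⊤ := by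
    rw [eq_top_iff, ← lower_sup_upper, sup_le_iff]
    constructor
    · intro g hg
      rw [Subgroup.mem_comap, eq_lM_of_mem hg, psi_lM,
        ← tv_val hF r hrr _ (tz_inv_mul hF μ hμ _)]
      exact (tv hF r _ hrr _).2
    · intro g hg
      rw [Subgroup.mem_comap, eq_uM_of_mem hg, psi_uM,
        ← tv_val hF p hpp _ (tz_mul hF μ hμ _)]
      exact (tv hF p _ hpp _).2
  have : M ∈ (Cfsg.SU n F q).comap (psi hF p r hpp hrr hpr hrp μ hμ0) := by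
    rw [htop]
    exact Subgroup.mem_top M
  exact this

/-- the homomorphism into `SU` -/
noncomputable def psiSU (hF : Fintype.card F = q ^ 2) (p r : Fin n → F) (hpp : hh p p = 0)
    (hrr : hh r r = 0) (hpr : hh p r = 1) (hrp : hh r p = 1) (μ : F) (hμ0 : μ ≠ 0)
    (hμ : μ ^ q = -μ) : Matrix.SpecialLinearGroup (Fin 2) (Lq hF) →* ↥(Cfsg.SU n F q) :=
  (psi hF p r hpp hrr hpr hrp μ hμ0).codRestrict (Cfsg.SU n F q)
    (psi_mem hF p r hpp hrr hpr hrp μ hμ0 hμ)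

theorem psiSU_uM (hF : Fintype.card F = q ^ 2) (p r : Fin n → F) (hpp : hh p p = 0)
    (hrr : hh r r = 0) (hpr : hh p r = 1) (hrp : hh r p = 1) (μ : F) (hμ0 : μ ≠ 0)
    (hμ : μ ^ q = -μ) (b : Lq hF) :
    psiSU hF p r hpp hrr hpr hrp μ hμ0 hμ (uM b) = tv hF p (μ * jL hF b) hpp (tz_mul hF μ hμ b) := by
  apply Subtype.ext
  rw [tv_val]
  exact psi_uM hF p r hpp hrr hpr hrp μ hμ0 b

theorem psiSU_lM (hF : Fintype.card F = q ^ 2) (p r : Fin n → F) (hpp : hh p p = 0)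
    (hrr : hh r r = 0) (hpr : hh p r = 1) (hrp : hh r p = 1) (μ : F) (hμ0 : μ ≠ 0)
    (hμ : μ ^ q = -μ) (c : Lq hF) :
    psiSU hF p r hpp hrr hpr hrp μ hμ0 hμ (lM c) =
      tv hF r (μ⁻¹ * jL hF c) hrr (tz_inv_mul hF μ hμ c) := by
  apply Subtype.ext
  rw [tv_val]
  exact psi_lM hF p r hpp hrr hpr hrp μ hμ0 c

theorem psiSU_ker (hF : Fintype.card F = q ^ 2) (p r : Fin n → F) (hpp : hh p p = 0)
    (hrr : hh r r = 0) (hpr : hh p r = 1) (hrp : hh r p = 1) (μ : F) (hμ0 : μ ≠ 0)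
    (hμ : μ ^ q = -μ) : (psiSU hF p r hpp hrr hpr hrp μ hμ0 hμ).ker = ⊥ := by
  rw [eq_bot_iff]
  intro M hM
  rw [MonoidHom.mem_ker] at hM
  have h1 : psi hF p r hpp hrr hpr hrp μ hμ0 M = 1 := congrArg Subtype.val hM
  unfold psi at h1
  rw [MonoidHom.comp_apply] at h1
  have h2 : kap hF μ hμ0 M ∈ (SLRoot.phi (flagOf p hpp) (flagOf r hrr)
      (by rw [← hpr, herm_eq_dot]; rfl) (by rw [← hrp, herm_eq_dot]; rfl)).ker := h1
  rw [SLRoot.phi_ker, Subgroup.mem_bot] at h2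
  have h3 : M ∈ (kap hF μ hμ0).ker := h2
  rw [kap_injective] at h3
  exact h3

theorem map_upper (hF : Fintype.card F = q ^ 2) (p r : Fin n → F) (hpp : hh p p = 0)
    (hrr : hh r r = 0) (hpr : hh p r = 1) (hrp : hh r p = 1) (μ : F) (hμ0 : μ ≠ 0)
    (hμ : μ ^ q = -μ) :
    (upperUnipotentSL2 (Lq hF)).map (psiSU hF p r hpp hrr hpr hrp μ hμ0 hμ) = Atv hF p := by
  ext x
  rw [Subgroup.mem_map, mem_Atv hF p hpp]
  constructor
  · rintro ⟨g, hg, rfl⟩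
    rw [eq_uM_of_mem hg, psiSU_uM]
    exact ⟨_, _, rfl⟩
  · rintro ⟨c, hc, rfl⟩
    have hfix : (c / μ) ^ q = c / μ := by rw [div_pow, hc, hμ, neg_div_neg_eq]
    obtain ⟨b, hb⟩ := jL_surj hF (c / μ) hfix
    refine ⟨uM b, uM_mem _, ?_⟩
    rw [psiSU_uM]
    apply tv_congr
    rw [hb]
    field_simp

theorem map_lower (hF : Fintype.card F = q ^ 2) (p r : Fin n → F) (hpp : hh p p = 0)
    (hrr : hh r r = 0) (hpr : hh p r = 1) (hrp : hh r p = 1) (μ : F) (hμ0 : μ ≠ 0)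
    (hμ : μ ^ q = -μ) :
    (lowerUnipotentSL2 (Lq hF)).map (psiSU hF p r hpp hrr hpr hrp μ hμ0 hμ) = Atv hF r := by
  ext x
  rw [Subgroup.mem_map, mem_Atv hF r hrr]
  constructor
  · rintro ⟨g, hg, rfl⟩
    rw [eq_lM_of_mem hg, psiSU_lM]
    exact ⟨_, _, rfl⟩
  · rintro ⟨c, hc, rfl⟩
    have hfix : (c * μ) ^ q = c * μ := by rw [mul_pow, hc, hμ]; ring
    obtain ⟨b, hb⟩ := jL_surj hF (c * μ) hfix
    refine ⟨lM b, lM_mem _, ?_⟩
    rw [psiSU_lM]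
    apply tv_congr
    rw [hb]
    field_simp

theorem psl2_of_hyp (hF : Fintype.card F = q ^ 2) (p r : Fin n → F) (hpp : hh p p = 0)
    (hrr : hh r r = 0) (hpr : hh p r = 1) :
    IsPSL2PairOver (Lq hF) (Atv hF p) (Atv hF r) := by
  have hrp : hh r p = 1 := by rw [← herm_conj hF, hpr, one_pow]
  obtain ⟨μ, hμ0, hμ⟩ := exists_trace_zero hF
  refine ⟨psiSU hF p r hpp hrr hpr hrp μ hμ0 hμ, ?_, ?_, map_upper hF p r hpp hrr hpr hrp μ hμ0 hμ,
    map_lower hF p r hpp hrr hpr hrp μ hμ0 hμ⟩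
  · rw [MonoidHom.range_eq_map, ← lower_sup_upper, Subgroup.map_sup, map_upper, map_lower, sup_comm]
  · rw [psiSU_ker]
    exact bot_le

theorem psl2 (hF : Fintype.card F = q ^ 2) (p r : Fin n → F) (hpp : hh p p = 0)
    (hrr : hh r r = 0) (h : hh p r ≠ 0) :
    IsPSL2PairOver (Lq hF) (Atv hF p) (Atv hF r) := by
  set lam : F := ((hh p r)⁻¹) ^ q with hlam
  have hlam0 : lam ≠ 0 := pow_ne_zero _ (inv_ne_zero h)
  have hrr' : hh (lam • r) (lam • r) = 0 := by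
    rw [herm_smul_left, herm_smul_right, hrr]; ring
  have h1 : hh p (lam • r) = 1 := by
    rw [herm_smul_right, hlam, pow_q_q hF, inv_mul_cancel₀ h]
  have := psl2_of_hyp hF p (lam • r) hpp hrr' h1
  rwa [Atv_smul hF lam hlam0 r hrr] at this

end Cfsg.Agent.Lib.Helper6.SURoot
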