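import Mathlib
import Cfsg.Agent.Lib.Helper6.SURoot5

/-!
# The unitary transvection subgroups form a degenerate class of abstract root subgroups
-/

set_option autoImplicit false
open Cfsg

namespace Cfsg.Agent.Lib.Helper6.SURoot

open Matrix Module Cfsg.Agent.Lib.Helper6 Cfsg.Agent.S0779 Cfsg.Agent.S0781
  Cfsg.Agent.Lib.Helper6.SUG Cfsg.Agent.H26 Cfsg.Agent.Lib.Helper6.RootTransport

variable {F : Type*} [Field F] [Fintype F] {q n : ℕ}

local notation "hh" => hermForm n F q

theorem inGen_SigU_rootSet (hF : Fintype.card F = q ^ 2) : IsRootSubgroupSet (inGen (SigU n F q)) :=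
  inGen_rootSet _ (SigU_comm hF) (SigU_ne_bot hF) (fun A hA g _ => SigU_conj_mem hF A hA g)
    (fun A hA B hB => SigU_pair hF A B hA hB)

instance finite_Lq (hF : Fintype.card F = q ^ 2) : Finite (Lq hF) :=
  Finite.of_equiv _ (eL hF).symm.toEquiv

theorem SigU_psl2 (hF : Fintype.card F = q ^ 2) (A B : Subgroup ↥(Cfsg.SU n F q))
    (hA : A ∈ SigU n F q) (hB : B ∈ SigU n F q) (h : IsRankOnePair A B) :
    IsPSL2PairOver (Lq hF) A B := by
  obtain ⟨p, hp, hpp, rfl⟩ := (mem_SigU hF A).mp hA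
  obtain ⟨r, hr, hrr, rfl⟩ := (mem_SigU hF B).mp hB
  exact psl2 hF p r hpp hrr (form_ne_zero_of_rankOne hF p r hp hpp hrr h)

theorem SU_all (hF : Fintype.card F = q ^ 2) (hn : 2 ≤ n) :
    IsRootSubgroupClass (inGen (SigU n F q)) ∧ IsDegenerateRootSet (inGen (SigU n F q)) ∧
    (∃ (L : Type) (_ : Field L) (_ : Fintype L), Fintype.card L = q ∧
      IsKRootSubgroupSet L (inGen (SigU n F q))) ∧
    IsConnectedFamily (FAdj (inGen (SigU n F q))) (inGen (SigU n F q)) := by
  refine ⟨⟨inGen_SigU_rootSet hF, ?_⟩, ?_, ?_, ?_⟩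
  · exact inGen_conjClass _ (SigU_nonempty hF hn) (fun A hA B hB => SigU_conj hF A B hA hB)
  · exact inGen_degenerate _ (fun A hA B hB hAB hc => SigU_no_comm_case hF A B hA hB hAB hc)
  · let inst : Fintype (Lq hF) := Fintype.ofFinite _
    refine ⟨Lq hF, inferInstance, inst, ?_, ?_⟩
    · rw [← Nat.card_eq_fintype_card, card_Lq]
    · exact inGen_kroot _ (inGen_SigU_rootSet hF) (fun A hA B hB h => SigU_psl2 hF A B hA hB h)
  · exact inGen_connected _ (SigU_connected hF)

end Cfsg.Agent.Lib.Helper6.SURoot
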