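import Mathlib
import Cfsg.Agent.Lib.Helper6.SgRoot5
import Cfsg.Agent.Lib.Helper6.RootTransport
import Cfsg.Agent.Lib.Helper15.OPlus4
import Cfsg.Agent.S0760

/-!
# Siegel transvection groups form a set of abstract root subgroups: assembly
-/

set_option autoImplicit false
open Cfsg Matrix QuadraticMap

namespace Cfsg.Agent.Lib.Helper6.SgRoot

open Cfsg.Agent.Lib.Helper6 Cfsg.Agent.H26 Cfsg.Agent.Lib.Helper6.RootTransport

section transport
variable {G : Type*} [Group G]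

theorem rootCommCase_subgroupOf (S : Set (Subgroup G)) {A B : Subgroup G} (hA : A ∈ S) (hB : B ∈ S)
    (h : RootCommutatorCase S A B) :
    RootCommutatorCase (inGen S) (A.subgroupOf (⨆ B ∈ S, B)) (B.subgroupOf (⨆ B ∈ S, B)) := by
  have hAle := le_gen hA
  have hBle := le_gen hB
  obtain ⟨h1, h2, h3, h4⟩ := h
  have hcomm := commutator_subgroupOf hAle hBle
  refine ⟨?_, ?_, ?_, ?_⟩
  · rw [hcomm]
    exact ⟨⁅A, B⁆, h1, rfl⟩
  · rw [hcomm]
    intro c hc x hx
    rw [← Subgroup.subgroupOf_sup hAle hBle] at hx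
    apply Subtype.ext
    exact h2 c.1 (Subgroup.mem_subgroupOf.mp hc) x.1 (Subgroup.mem_subgroupOf.mp hx)
  · intro a ha ha1
    have ha1' : (a : G) ≠ 1 := fun h0 => ha1 (Subtype.ext h0)
    apply Subgroup.map_injective (⨆ B ∈ S, B).subtype_injective
    rw [MonoidHom.map_closure, hcomm, Subgroup.map_subgroupOf_eq_of_le (commutator_le_of_le hAle hBle),
      ← h3 a.1 (Subgroup.mem_subgroupOf.mp ha) ha1']
    congr 1
    ext y
    constructor
    · rintro ⟨_, ⟨b, hb, rfl⟩, rfl⟩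
      exact ⟨b.1, Subgroup.mem_subgroupOf.mp hb, rfl⟩
    · rintro ⟨b, hb, rfl⟩
      exact ⟨_, ⟨⟨b, hBle hb⟩, Subgroup.mem_subgroupOf.mpr hb, rfl⟩, rfl⟩
  · intro b hb hb1
    have hb1' : (b : G) ≠ 1 := fun h0 => hb1 (Subtype.ext h0)
    apply Subgroup.map_injective (⨆ B ∈ S, B).subtype_injective
    rw [MonoidHom.map_closure, hcomm, Subgroup.map_subgroupOf_eq_of_le (commutator_le_of_le hAle hBle),
      ← h4 b.1 (Subgroup.mem_subgroupOf.mp hb) hb1']
    congr 1
    ext y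
    constructor
    · rintro ⟨_, ⟨a, ha, rfl⟩, rfl⟩
      exact ⟨a.1, Subgroup.mem_subgroupOf.mp ha, rfl⟩
    · rintro ⟨a, ha, rfl⟩
      exact ⟨_, ⟨⟨a, hAle ha⟩, Subgroup.mem_subgroupOf.mpr ha, rfl⟩, rfl⟩

/-- transport of the axioms of a set of abstract root subgroups (all three cases) -/
theorem inGen_rootSet' (S : Set (Subgroup G)) (hcomm : ∀ A ∈ S, IsMulCommutative A)
    (hne : ∀ A ∈ S, A ≠ ⊥) (hconj : ∀ A ∈ S, ∀ g ∈ ⨆ B ∈ S, B, conjBy A g ∈ S)
    (hpair : ∀ A ∈ S, ∀ B ∈ S, ⁅A, B⁆ = ⊥ ∨ IsRankOnePair A B ∨ RootCommutatorCase S A B) :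
    IsRootSubgroupSet (inGen S) where
  commutative := by
    rintro _ ⟨A, hA, rfl⟩
    have := hcomm A hA
    refine ⟨⟨fun a b => ?_⟩⟩
    apply Subtype.ext
    apply Subtype.ext
    exact commute_of_isMulCommutative this (Subgroup.mem_subgroupOf.mp a.2)
      (Subgroup.mem_subgroupOf.mp b.2)
  ne_bot := by
    rintro _ ⟨A, hA, rfl⟩ h0
    apply hne A hA
    apply subgroupOf_injOn (le_gen hA) bot_le
    rw [Subgroup.bot_subgroupOf]
    exact h0
  generates := inGen_generates S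
  conj_mem := by
    rintro _ ⟨A, hA, rfl⟩ g
    rw [conjBy_subgroupOf]
    exact ⟨_, hconj A hA g g.2, rfl⟩
  pair := by
    rintro _ ⟨A, hA, rfl⟩ _ ⟨B, hB, rfl⟩
    rcases hpair A hA B hB with h | h | h
    · left
      rw [commutator_subgroupOf (le_gen hA) (le_gen hB), h, Subgroup.bot_subgroupOf]
    · exact Or.inr (Or.inl (rankOnePair_subgroupOf (le_gen hA) (le_gen hB) h))
    · exact Or.inr (Or.inr (rootCommCase_subgroupOf S hA hB h))

end transport

variable {F : Type*} [Field F] {ι : Type} [Fintype ι] [DecidableEq ι]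
variable {Q : QuadraticForm F (ι → F)}

theorem Sig_rootSet (hQ : (polarBilin Q).Nondegenerate) : IsRootSubgroupSet (inGen (Sig Q)) := by
  apply inGen_rootSet'
  · rintro _ ⟨L, -, rfl⟩
    exact T_comm L
  · rintro _ ⟨L, hL, rfl⟩
    exact T_ne_bot hQ L hL
  · rintro _ ⟨L, hL, rfl⟩ g -
    rw [conjBy_T]
    exact T_mem_Sig _ (indep_map g L hL)
  · rintro _ ⟨L, hL, rfl⟩ _ ⟨M, hM, rfl⟩
    rcases pair_cases hQ L M hL hM with h | h | h
    · exact Or.inl h
    · exact Or.inr (Or.inl h.1)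
    · exact Or.inr (Or.inr h.1)

theorem Sig_psl2 (hQ : (polarBilin Q).Nondegenerate) :
    ∀ A ∈ Sig Q, ∀ B ∈ Sig Q, IsRankOnePair A B → IsPSL2PairOver F A B := by
  rintro _ ⟨L, hL, rfl⟩ _ ⟨M, hM, rfl⟩ hr
  rcases pair_cases hQ L M hL hM with h | h | h
  · exact absurd hr (not_rankOne_of_comm (T_ne_bot hQ L hL) h)
  · exact h.2
  · exact absurd hr h.2

theorem main (hQ : (polarBilin Q).Nondegenerate) (hext : HExt Q)
    (S : Set (Subgroup ↥(Cfsg.isometryGroup F ⇑Q))) (hS : S = Sig Q) :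
    IsKRootSubgroupSet F ((fun A : Subgroup ↥(Cfsg.isometryGroup F ⇑Q) => A.subgroupOf (⨆ B ∈ S, B)) '' S) ∧
      IsConnectedFamily (FAdj S) S := by
  subst hS
  exact ⟨inGen_kroot (Sig Q) (Sig_rootSet hQ) (Sig_psl2 hQ), Sig_connected hQ hext⟩

/-! ### the hyperbolic form -/

open Cfsg.Agent.Lib.Helper15 in
/-- the hyperbolic quadratic form, with the frozen function as underlying map -/
noncomputable def QP (n : ℕ) (F : Type*) [Field F] : QuadraticForm F (Fin n ⊕ Fin n → F) :=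
  (plusQF n F).copy (Cfsg.quadFormPlus n F) coe_plusQF.symm

theorem QP_eq (n : ℕ) : QP n F = Cfsg.Agent.Lib.Helper15.plusQF n F := QuadraticMap.copy_eq _ _ _

theorem coe_QP (n : ℕ) : ⇑(QP n F) = Cfsg.quadFormPlus n F := rfl

theorem QP_nondeg (n : ℕ) : (polarBilin (QP n F)).Nondegenerate := by
  rw [QP_eq]
  exact Cfsg.Agent.Lib.Helper15.nondegenerate_plusQF

open Cfsg.Agent.Lib.Helper15 in
theorem QP_hext (n : ℕ) (hn : 3 ≤ n) : HExt (QP n F) := by
  rw [QP_eq]
  intro p p' hp hp' hpp'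
  by_contra hcon
  push Not at hcon
  set S : Submodule F (Fin n ⊕ Fin n → F) := Submodule.span F {p, p'} with hS
  have hpS : p ∈ S := Submodule.subset_span (by simp)
  have hp'S : p' ∈ S := Submodule.subset_span (by simp)
  have hTS : ∀ w ∈ S, plusQF n F w = 0 := by
    intro w hw
    obtain ⟨a, b, rfl⟩ := Submodule.mem_span_pair.mp hw
    rw [Q_add, Q_smul, Q_smul, hp, hp', polar_smul_left, polar_smul_right, hpp']
    simp
  have hmax : ∀ W : Submodule F (Fin n ⊕ Fin n → F), S ≤ W → (∀ w ∈ W, plusQF n F w = 0) → W = S := by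
    intro W hSW hW
    by_contra hne
    have hlt : S < W := lt_of_le_of_ne hSW (Ne.symm hne)
    obtain ⟨a, haW, haS⟩ := SetLike.exists_of_lt hlt
    have hWts : TS (plusQF n F) W := hW
    exact hcon a haS (hW a haW) (hWts.polar (hSW hpS) haW) (hWts.polar (hSW hp'S) haW)
  have h1 := Cfsg.Agent.S0760.le_of_max (plusQF n F) nondegenerate_plusQF S (plusE n F) hTS ts_plusE hmax
  rw [finrank_plusE] at h1
  have h2 : Module.finrank F S ≤ 2 := by
    classical
    have := finrank_span_finset_le_card (R := F) ({p, p'} : Finset (Fin n ⊕ Fin n → F))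
    rw [Finset.coe_pair] at this
    exact le_trans this Finset.card_le_two
  omega

/-- the statement for the hyperbolic form, with the set of subgroups in any (definitionally equal) form -/
theorem main_plus (m : ℕ)
    (S : Set (Subgroup ↥(Cfsg.isometryGroup F ⇑(QP (m + 3) F)))) (hS : S = Sig (QP (m + 3) F)) :
    IsKRootSubgroupSet F ((fun A : Subgroup ↥(Cfsg.isometryGroup F ⇑(QP (m + 3) F)) =>
      A.subgroupOf (⨆ B ∈ S, B)) '' S) ∧ IsConnectedFamily (FAdj S) S :=
  main (QP_nondeg (m + 3)) (QP_hext (m + 3) (by omega)) S hS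

end Cfsg.Agent.Lib.Helper6.SgRoot
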