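import Mathlib

/-!
Sims' theorem on primitive groups with a suborbit of length three: local group theory.
`Syl3 X` is the set of `2`-subgroups of index three in `X`.
-/

set_option autoImplicit false
set_option linter.unusedSectionVars false
set_option linter.style.haveILetI false

namespace Cfsg.Agent.Lib.Helper6.Sims

open Subgroup Pointwise

variable {G : Type*} [Group G]

/-- conjugation of subgroups -/
theorem mem_cj {g x : G} {S : Subgroup G} : x ∈ MulAut.conj g • S ↔ g⁻¹ * x * g ∈ S := by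
  rw [Subgroup.mem_pointwise_smul_iff_inv_smul_mem, MulAut.smul_def, ← map_inv,
    MulAut.conj_apply, inv_inv]

theorem cj_mem {g x : G} {S : Subgroup G} (hx : x ∈ S) : g * x * g⁻¹ ∈ MulAut.conj g • S := by
  rw [mem_cj]
  have : g⁻¹ * (g * x * g⁻¹) * g = x := by group
  rw [this]
  exact hx

theorem cj_mul (g h : G) (S : Subgroup G) :
    MulAut.conj (g * h) • S = MulAut.conj g • (MulAut.conj h • S) := by
  rw [map_mul, mul_smul]

theorem cj_one (S : Subgroup G) : MulAut.conj (1 : G) • S = S := by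
  rw [map_one, one_smul]

theorem cj_inv_cj (g : G) (S : Subgroup G) : MulAut.conj g⁻¹ • (MulAut.conj g • S) = S := by
  rw [← cj_mul, inv_mul_cancel, cj_one]

theorem cj_cj_inv (g : G) (S : Subgroup G) : MulAut.conj g • (MulAut.conj g⁻¹ • S) = S := by
  rw [← cj_mul, mul_inv_cancel, cj_one]

theorem cj_le_cj {g : G} {S T : Subgroup G} : MulAut.conj g • S ≤ MulAut.conj g • T ↔ S ≤ T :=
  Subgroup.pointwise_smul_le_pointwise_smul_iff

theorem cj_eq_self_of_mem {g : G} {S : Subgroup G} (hg : g ∈ S) : MulAut.conj g • S = S := by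
  ext x
  rw [mem_cj]
  constructor
  · intro h
    have : x = g * (g⁻¹ * x * g) * g⁻¹ := by group
    rw [this]
    exact S.mul_mem (S.mul_mem hg h) (S.inv_mem hg)
  · intro h
    exact S.mul_mem (S.mul_mem (S.inv_mem hg) h) hg

theorem cj_inf (g : G) (S T : Subgroup G) :
    MulAut.conj g • (S ⊓ T) = MulAut.conj g • S ⊓ MulAut.conj g • T := by
  ext x
  simp only [mem_cj, mem_inf]

theorem cj_sup (g : G) (S T : Subgroup G) :
    MulAut.conj g • (S ⊔ T) = MulAut.conj g • S ⊔ MulAut.conj g • T := by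
  exact Subgroup.smul_sup _ _ _

theorem cj_isPGroup {p : ℕ} {g : G} {S : Subgroup G} (h : IsPGroup p S) :
    IsPGroup p (MulAut.conj g • S : Subgroup G) := by
  rw [Subgroup.pointwise_smul_def]
  exact h.map _

theorem cj_card (g : G) (S : Subgroup G) :
    Nat.card (MulAut.conj g • S : Subgroup G) = Nat.card S := by
  rw [Subgroup.pointwise_smul_def]
  exact (Nat.card_congr (S.equivMapOfInjective _ (MulAut.conj g).injective).toEquiv).symm

/-- the `2`-subgroups of index three -/
def Syl3 (X : Subgroup G) : Set (Subgroup G) :=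
  {S | S ≤ X ∧ IsPGroup 2 S ∧ S.relIndex X = 3}

theorem cj_mem_Syl3 {X S : Subgroup G} (g : G) (hS : S ∈ Syl3 X) :
    MulAut.conj g • S ∈ Syl3 (MulAut.conj g • X) :=
  ⟨cj_le_cj.mpr hS.1, cj_isPGroup hS.2.1, by rw [relIndex_pointwise_smul]; exact hS.2.2⟩

theorem cj_mem_Syl3_self {X S : Subgroup G} {g : G} (hg : g ∈ X) (hS : S ∈ Syl3 X) :
    MulAut.conj g • S ∈ Syl3 X := by
  have := cj_mem_Syl3 g hS
  rwa [cj_eq_self_of_mem hg] at this

/-- members of `Syl3 X` are maximal subgroups of `X` -/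
theorem Syl3_maximal {X S H : Subgroup G} (hS : S ∈ Syl3 X) (h1 : S ≤ H) (h2 : H ≤ X) :
    H = S ∨ H = X := by
  have h := relIndex_mul_relIndex S H X h1 h2
  rw [hS.2.2] at h
  have hp : Nat.Prime 3 := Nat.prime_three
  have hd : S.relIndex H ∣ 3 := Dvd.intro _ h
  rcases (Nat.dvd_prime hp).mp hd with h3 | h3
  · left
    exact le_antisymm (relIndex_eq_one.mp h3) h1
  · right
    rw [h3] at h
    have : H.relIndex X = 1 := by omega
    exact le_antisymm h2 (relIndex_eq_one.mp this)

theorem Syl3_eq_of_le {X S S' : Subgroup G} (hS : S ∈ Syl3 X) (hS' : S' ∈ Syl3 X) (h : S ≤ S') :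
    S = S' := by
  rcases Syl3_maximal hS h hS'.1 with h1 | h1
  · exact h1.symm
  · exfalso
    have := hS'.2.2
    rw [h1, relIndex_self] at this
    omega

theorem Syl3_ne_top {X S : Subgroup G} (hS : S ∈ Syl3 X) : S ≠ X := by
  intro h
  have := hS.2.2
  rw [h, relIndex_self] at this
  omega

theorem Syl3_sup {X S S' : Subgroup G} (hS : S ∈ Syl3 X) (hS' : S' ∈ Syl3 X) (hne : S ≠ S') :
    S ⊔ S' = X := by
  rcases Syl3_maximal hS le_sup_left (sup_le hS.1 hS'.1) with h | h
  · exfalso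
    apply hne
    exact (Syl3_eq_of_le hS' hS (by rw [← h]; exact le_sup_right)).symm
  · exact h

section fin
variable [Finite G]

theorem card_eq_of_Syl3 {X S : Subgroup G} (hS : S ∈ Syl3 X) : Nat.card X = 3 * Nat.card S := by
  have h1 := Subgroup.card_mul_index (S.subgroupOf X)
  have h2 : Nat.card (S.subgroupOf X) = Nat.card S :=
    Nat.card_congr (subgroupOfEquivOfLe hS.1).toEquiv
  have h3 : (S.subgroupOf X).index = 3 := hS.2.2
  rw [h2, h3] at h1
  omega

/-- Sylow conjugacy for `Syl3`. -/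
theorem Syl3_conj {X S S' : Subgroup G} (hS : S ∈ Syl3 X) (hS' : S' ∈ Syl3 X) :
    ∃ g ∈ X, MulAut.conj g • S = S' := by
  haveI : Fact (Nat.Prime 2) := ⟨Nat.prime_two⟩
  have hi : ∀ {R : Subgroup G}, R ∈ Syl3 X → ¬ 2 ∣ (R.subgroupOf X).index := by
    intro R hR
    have : (R.subgroupOf X).index = 3 := hR.2.2
    rw [this]
    omega
  have hp : ∀ {R : Subgroup G}, R ∈ Syl3 X → IsPGroup 2 (R.subgroupOf X) := by
    intro R hR
    exact hR.2.1.comap_subtype
  let P : Sylow 2 X := (hp hS).toSylow (hi hS)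
  let P' : Sylow 2 X := (hp hS').toSylow (hi hS')
  obtain ⟨g, hg⟩ := MulAction.exists_smul_eq X P P'
  refine ⟨g, g.2, ?_⟩
  have h1 : ((g • P : Sylow 2 X) : Subgroup X) = S'.subgroupOf X := by
    rw [hg]
    rfl
  rw [Sylow.coe_subgroup_smul] at h1
  have h0 : (P : Subgroup X) = S.subgroupOf X := rfl
  rw [h0] at h1
  ext x
  rw [mem_cj]
  constructor
  · intro hx
    have hxX : x ∈ X := by
      have := X.mul_mem (X.mul_mem g.2 (hS.1 hx)) (X.inv_mem g.2)
      have e : (g : G) * ((g : G)⁻¹ * x * g) * (g : G)⁻¹ = x := by group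
      rwa [e] at this
    have : (⟨x, hxX⟩ : X) ∈ S'.subgroupOf X := by
      rw [← h1, mem_cj]
      rw [mem_subgroupOf]
      simpa using hx
    exact this
  · intro hx
    have hxX : x ∈ X := hS'.1 hx
    have : (⟨x, hxX⟩ : X) ∈ MulAut.conj g • S.subgroupOf X := by
      rw [h1]
      exact hx
    rw [mem_cj, mem_subgroupOf] at this
    simpa using this

end fin

end Cfsg.Agent.Lib.Helper6.Sims
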