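import Mathlib
import Cfsg.Agent.Lib.Helper6.SimsA

/-!
Sims' theorem: the core `Qc X`, the groups `Zs S = Ω₁ Z(S)` and `Vc X = ⟨Zs S⟩`.
-/

set_option autoImplicit false
set_option linter.unusedSectionVars false
set_option linter.style.haveILetI false

namespace Cfsg.Agent.Lib.Helper6.Sims

open Subgroup Pointwise

variable {G : Type*} [Group G]

theorem mem_Syl3_cj_iff {X S : Subgroup G} {g : G} :
    S ∈ Syl3 (MulAut.conj g • X) ↔ MulAut.conj g⁻¹ • S ∈ Syl3 X := by
  constructor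
  · intro h
    have := cj_mem_Syl3 g⁻¹ h
    rwa [cj_inv_cj] at this
  · intro h
    have := cj_mem_Syl3 g h
    rwa [cj_cj_inv] at this

/-- the core of the index three `2`-subgroups -/
def Qc (X : Subgroup G) : Subgroup G := X ⊓ sInf (Syl3 X)

theorem mem_Qc {X : Subgroup G} {x : G} : x ∈ Qc X ↔ x ∈ X ∧ ∀ S ∈ Syl3 X, x ∈ S := by
  unfold Qc
  rw [mem_inf, mem_sInf]

theorem Qc_le {X S : Subgroup G} (hS : S ∈ Syl3 X) : Qc X ≤ S := fun _ hx => (mem_Qc.mp hx).2 S hS

theorem Qc_le_self (X : Subgroup G) : Qc X ≤ X := inf_le_left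

theorem cj_Qc (g : G) (X : Subgroup G) : MulAut.conj g • Qc X = Qc (MulAut.conj g • X) := by
  ext x
  rw [mem_cj, mem_Qc, mem_Qc, mem_cj]
  constructor
  · rintro ⟨h1, h2⟩
    refine ⟨h1, fun S hS => ?_⟩
    have := h2 _ (mem_Syl3_cj_iff.mp hS)
    rw [mem_cj] at this
    have e : g⁻¹⁻¹ * (g⁻¹ * x * g) * g⁻¹ = x := by group
    rwa [e] at this
  · rintro ⟨h1, h2⟩
    refine ⟨h1, fun S hS => ?_⟩
    have := h2 _ (cj_mem_Syl3 g hS)
    rwa [mem_cj] at this

theorem Qc_normal {X : Subgroup G} {g q : G} (hg : g ∈ X) (hq : q ∈ Qc X) : g * q * g⁻¹ ∈ Qc X := by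
  have h := cj_Qc g X
  rw [cj_eq_self_of_mem hg] at h
  rw [← h]
  exact cj_mem hq

/-- `X` has no normal member of `Syl3 X` -/
def NN (X : Subgroup G) : Prop := ∀ S ∈ Syl3 X, ∃ g ∈ X, MulAut.conj g • S ≠ S

theorem NN_cj {X : Subgroup G} (g : G) (h : NN X) : NN (MulAut.conj g • X) := by
  intro S hS
  obtain ⟨k, hk, hne⟩ := h _ (mem_Syl3_cj_iff.mp hS)
  refine ⟨g * k * g⁻¹, cj_mem hk, ?_⟩
  intro he
  apply hne
  have : MulAut.conj g⁻¹ • (MulAut.conj (g * k * g⁻¹) • S) = MulAut.conj g⁻¹ • S := by rw [he]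
  rw [← cj_mul] at this
  have e : g⁻¹ * (g * k * g⁻¹) = k * g⁻¹ := by group
  rw [e, cj_mul] at this
  exact this

theorem cj_eq_self_iff {g : G} {S : Subgroup G} :
    MulAut.conj g • S = S ↔ g ∈ normalizer (S : Set G) := by
  rw [mem_normalizer_iff]
  constructor
  · intro h x
    constructor
    · intro hx
      rw [← h]
      exact cj_mem hx
    · intro hx
      rw [← h, mem_cj] at hx
      have e : g⁻¹ * (g * x * g⁻¹) * g = x := by group
      rwa [e] at hx
  · intro h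
    ext x
    rw [mem_cj]
    rw [h (g⁻¹ * x * g)]
    have e : g * (g⁻¹ * x * g) * g⁻¹ = x := by group
    rw [e]

theorem Syl3_normalizer {X S : Subgroup G} (hnn : NN X) (hS : S ∈ Syl3 X) {g : G} (hg : g ∈ X)
    (h : MulAut.conj g • S = S) : g ∈ S := by
  have h1 : S ≤ X ⊓ normalizer (S : Set G) := le_inf hS.1 le_normalizer
  rcases Syl3_maximal hS h1 inf_le_left with h2 | h2
  · rw [← h2]
    exact ⟨hg, cj_eq_self_iff.mp h⟩
  · exfalso
    obtain ⟨k, hk, hne⟩ := hnn S hS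
    apply hne
    rw [cj_eq_self_iff]
    have : k ∈ X ⊓ normalizer (S : Set G) := by rw [h2]; exact hk
    exact this.2

theorem relIndex_two_conj {D S : Subgroup G} (hDS : D ≤ S) (h : D.relIndex S = 2) {s d : G}
    (hs : s ∈ S) (hd : d ∈ D) : s * d * s⁻¹ ∈ D := by
  have hn : (D.subgroupOf S).Normal := normal_of_index_eq_two h
  have := hn.conj_mem ⟨d, hDS hd⟩ (mem_subgroupOf.mpr hd) ⟨s, hs⟩
  rw [mem_subgroupOf] at this
  exact this

theorem relIndex_two_mul {D S : Subgroup G} (h : D.relIndex S = 2) {a b : G}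
    (ha : a ∈ S) (hb : b ∈ S) : a * b ∈ D ↔ (a ∈ D ↔ b ∈ D) := by
  have := Subgroup.mul_mem_iff_of_index_two (H := D.subgroupOf S) h (a := ⟨a, ha⟩) (b := ⟨b, hb⟩)
  simpa [mem_subgroupOf] using this

section fin
variable [Finite G]

theorem Syl3_inf_relIndex {X S S' : Subgroup G} (hS : S ∈ Syl3 X) (hS' : S' ∈ Syl3 X)
    (hne : S ≠ S') : (S ⊓ S').relIndex S = 2 := by
  haveI : Fact (Nat.Prime 2) := ⟨Nat.prime_two⟩
  have h1 := relIndex_mul_relIndex (S ⊓ S') S X inf_le_left hS.1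
  have h2 : (S ⊓ S').relIndex X ≤ S.relIndex X * S'.relIndex X := relIndex_inf_le
  rw [hS.2.2, hS'.2.2] at h2
  rw [hS.2.2] at h1
  have h3 : (S ⊓ S').relIndex S ≤ 3 := by omega
  obtain ⟨n, hn⟩ := IsPGroup.exists_card_eq hS.2.1
  have h4 : (S ⊓ S').relIndex S ∣ 2 ^ n := by
    rw [← hn]
    exact relIndex_dvd_card _ _
  obtain ⟨j, _, hj⟩ := (Nat.dvd_prime_pow Nat.prime_two).mp h4
  have hj1 : j ≤ 1 := by
    by_contra hc
    push Not at hc
    have : 2 ^ 2 ≤ 2 ^ j := Nat.pow_le_pow_right (by norm_num) hc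
    omega
  interval_cases j
  · exfalso
    apply hne
    have : S ≤ S ⊓ S' := relIndex_eq_one.mp (by rw [hj]; norm_num)
    exact Syl3_eq_of_le hS hS' (this.trans inf_le_right)
  · rw [hj]
    norm_num

theorem Syl3_inf_eq_Qc {X S S' : Subgroup G} (hS : S ∈ Syl3 X) (hS' : S' ∈ Syl3 X)
    (hne : S ≠ S') : S ⊓ S' = Qc X := by
  apply le_antisymm
  · have hi := Syl3_inf_relIndex hS hS' hne
    have hi' := Syl3_inf_relIndex hS' hS hne.symm
    rw [inf_comm] at hi'
    -- normalised by `X`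
    have hN : X ≤ normalizer ((S ⊓ S' : Subgroup G) : Set G) := by
      rw [← Syl3_sup hS hS' hne]
      apply sup_le
      · intro s hs
        rw [← cj_eq_self_iff]
        ext x
        rw [mem_cj]
        constructor
        · intro hx
          have := relIndex_two_conj inf_le_left hi hs hx
          have e : s * (s⁻¹ * x * s) * s⁻¹ = x := by group
          rwa [e] at this
        · intro hx
          have := relIndex_two_conj inf_le_left hi (S.inv_mem hs) hx
          rwa [inv_inv] at this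
      · intro s hs
        rw [← cj_eq_self_iff]
        ext x
        rw [mem_cj]
        constructor
        · intro hx
          have := relIndex_two_conj inf_le_right hi' hs hx
          have e : s * (s⁻¹ * x * s) * s⁻¹ = x := by group
          rwa [e] at this
        · intro hx
          have := relIndex_two_conj inf_le_right hi' (S'.inv_mem hs) hx
          rwa [inv_inv] at this
    intro x hx
    rw [mem_Qc]
    refine ⟨hS.1 hx.1, fun R hR => ?_⟩
    obtain ⟨g, hg, hgR⟩ := Syl3_conj hS hR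
    have h5 : MulAut.conj g • (S ⊓ S') = S ⊓ S' := cj_eq_self_iff.mpr (hN hg)
    rw [← hgR]
    have : x ∈ MulAut.conj g • (S ⊓ S') := by rw [h5]; exact hx
    rw [cj_inf] at this
    exact this.1
  · exact le_inf (Qc_le hS) (Qc_le hS')

theorem Qc_relIndex {X S : Subgroup G} (hnn : NN X) (hS : S ∈ Syl3 X) :
    (Qc X).relIndex S = 2 := by
  obtain ⟨g, hg, hne⟩ := hnn S hS
  have hS' := cj_mem_Syl3_self hg hS
  rw [← Syl3_inf_eq_Qc hS hS' (Ne.symm hne)]
  exact Syl3_inf_relIndex hS hS' (Ne.symm hne)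

/-- two elements of `S` outside `Qc X` have their product in `Qc X` -/
theorem mul_mem_Qc {X S : Subgroup G} (hnn : NN X) (hS : S ∈ Syl3 X) {a b : G} (ha : a ∈ S)
    (hb : b ∈ S) (ha' : a ∉ Qc X) (hb' : b ∉ Qc X) : a * b ∈ Qc X := by
  rw [relIndex_two_mul (Qc_relIndex hnn hS) ha hb]
  exact ⟨fun h => absurd h ha', fun h => absurd h hb'⟩

theorem exists_not_mem_Qc {X S : Subgroup G} (hnn : NN X) (hS : S ∈ Syl3 X) :
    ∃ t ∈ S, t ∉ Qc X := by
  by_contra hc
  push Not at hc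
  have : S ≤ Qc X := hc
  have h1 : (Qc X).relIndex S = 1 := relIndex_eq_one.mpr this
  rw [Qc_relIndex hnn hS] at h1
  omega

theorem not_mem_of_ne {X S S' : Subgroup G} (hS : S ∈ Syl3 X) (hS' : S' ∈ Syl3 X)
    (hne : S ≠ S') {t : G} (ht : t ∈ S) (ht' : t ∉ Qc X) : t ∉ S' := by
  intro h
  apply ht'
  rw [← Syl3_inf_eq_Qc hS hS' hne]
  exact ⟨ht, h⟩

/-- `X` is generated by a member of `Syl3 X` and an element of another one outside the core -/
theorem sup_zpowers_eq {X S S' : Subgroup G} (hS : S ∈ Syl3 X) (hS' : S' ∈ Syl3 X)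
    (hne : S ≠ S') {t : G} (ht : t ∈ S) (ht' : t ∉ Qc X) : S' ⊔ zpowers t = X := by
  have h1 : S' ⊔ zpowers t ≤ X := sup_le hS'.1 (by rw [zpowers_le]; exact hS.1 ht)
  rcases Syl3_maximal hS' le_sup_left h1 with h | h
  · exfalso
    apply not_mem_of_ne hS hS' hne ht ht'
    rw [← h]
    exact le_sup_right (a := S') (mem_zpowers t)
  · exact h

end fin

end Cfsg.Agent.Lib.Helper6.Sims
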