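import Mathlib
import Cfsg.Agent.Lib.Helper6.SimsB

/-!
Sims' theorem: `Zs S = Ω₁ Z(S)` and `Vc X = ⟨Zs S : S ∈ Syl3 X⟩` in the constrained case.
-/

set_option autoImplicit false
set_option linter.unusedSectionVars false
set_option linter.style.haveILetI false

namespace Cfsg.Agent.Lib.Helper6.Sims

open Subgroup Pointwise

variable {G : Type*} [Group G]

/-- `Ω₁ Z(S)` -/
def Zs (S : Subgroup G) : Subgroup G where
  carrier := {z | z ∈ S ∧ (∀ s ∈ S, s * z = z * s) ∧ z * z = 1}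
  mul_mem' := by
    rintro a b ⟨ha, hac, ha2⟩ ⟨hb, hbc, hb2⟩
    refine ⟨S.mul_mem ha hb, fun s hs => ?_, ?_⟩
    · rw [← mul_assoc, hac s hs, mul_assoc, hbc s hs, mul_assoc]
    · have : a * b * (a * b) = a * (b * a) * b := by group
      rw [this, ← hbc a ha, ← mul_assoc, ha2, one_mul, hb2]
  one_mem' := ⟨S.one_mem, fun s _ => by rw [mul_one, one_mul], by rw [mul_one]⟩
  inv_mem' := by
    rintro a ⟨ha, hac, ha2⟩
    have e : a⁻¹ = a := inv_eq_of_mul_eq_one_left ha2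
    rw [e]
    exact ⟨ha, hac, ha2⟩

theorem mem_Zs {S : Subgroup G} {z : G} :
    z ∈ Zs S ↔ z ∈ S ∧ (∀ s ∈ S, s * z = z * s) ∧ z * z = 1 := Iff.rfl

theorem Zs_le (S : Subgroup G) : Zs S ≤ S := fun _ h => h.1

theorem cj_Zs (g : G) (S : Subgroup G) : MulAut.conj g • Zs S = Zs (MulAut.conj g • S) := by
  ext x
  rw [mem_cj, mem_Zs, mem_Zs, mem_cj]
  constructor
  · rintro ⟨h1, h2, h3⟩
    refine ⟨h1, fun s hs => ?_, ?_⟩
    · rw [mem_cj] at hs
      have := h2 _ hs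
      have e1 : s * x = g * ((g⁻¹ * s * g) * (g⁻¹ * x * g)) * g⁻¹ := by group
      have e2 : x * s = g * ((g⁻¹ * x * g) * (g⁻¹ * s * g)) * g⁻¹ := by group
      rw [e1, e2, this]
    · have e : x * x = g * ((g⁻¹ * x * g) * (g⁻¹ * x * g)) * g⁻¹ := by group
      rw [e, h3]
      group
  · rintro ⟨h1, h2, h3⟩
    refine ⟨h1, fun s hs => ?_, ?_⟩
    · have := h2 (g * s * g⁻¹) (cj_mem hs)
      have e1 : s * (g⁻¹ * x * g) = g⁻¹ * ((g * s * g⁻¹) * x) * g := by group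
      have e2 : g⁻¹ * x * g * s = g⁻¹ * (x * (g * s * g⁻¹)) * g := by group
      rw [e1, e2, this]
    · have e : g⁻¹ * x * g * (g⁻¹ * x * g) = g⁻¹ * (x * x) * g := by group
      rw [e, h3]
      group

/-- the normal closure of `Zs` -/
def Vc (X : Subgroup G) : Subgroup G := ⨆ S ∈ Syl3 X, Zs S

theorem Zs_le_Vc {X S : Subgroup G} (hS : S ∈ Syl3 X) : Zs S ≤ Vc X :=
  le_iSup₂_of_le S hS le_rfl

theorem Vc_le_iff {X K : Subgroup G} : Vc X ≤ K ↔ ∀ S ∈ Syl3 X, Zs S ≤ K := iSup₂_le_iff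

theorem cj_Vc (g : G) (X : Subgroup G) : MulAut.conj g • Vc X = Vc (MulAut.conj g • X) := by
  apply le_antisymm
  · have : Vc X ≤ MulAut.conj g⁻¹ • Vc (MulAut.conj g • X) := by
      rw [Vc_le_iff]
      intro S hS
      have h1 := Zs_le_Vc (cj_mem_Syl3 g hS)
      rw [← cj_Zs] at h1
      have h2 := cj_le_cj (g := g⁻¹).mpr h1
      rwa [cj_inv_cj] at h2
    have h3 := cj_le_cj (g := g).mpr this
    rwa [cj_cj_inv] at h3
  · rw [Vc_le_iff]
    intro S hS
    have h1 := Zs_le_Vc (mem_Syl3_cj_iff.mp hS)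
    have h2 := cj_le_cj (g := g).mpr h1
    rwa [cj_Zs, cj_cj_inv] at h2

theorem Vc_normal {X : Subgroup G} {g v : G} (hg : g ∈ X) (hv : v ∈ Vc X) :
    g * v * g⁻¹ ∈ Vc X := by
  have h := cj_Vc g X
  rw [cj_eq_self_of_mem hg] at h
  rw [← h]
  exact cj_mem hv

/-- constrained: `C_X(Qc X) ≤ Qc X` -/
def CON (X : Subgroup G) : Prop := ∀ g ∈ X, (∀ q ∈ Qc X, g * q = q * g) → g ∈ Qc X

/-- `Zs S` is not central in `X` -/
def ZNC (X : Subgroup G) : Prop := ∀ S ∈ Syl3 X, ∃ g ∈ X, ∃ z ∈ Zs S, g * z ≠ z * g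

theorem CON_cj {X : Subgroup G} (g : G) (h : CON X) : CON (MulAut.conj g • X) := by
  intro k hk hc
  rw [← cj_Qc, mem_cj]
  rw [mem_cj] at hk
  apply h _ hk
  intro q hq
  have := hc (g * q * g⁻¹) (by rw [← cj_Qc]; exact cj_mem hq)
  have e1 : g⁻¹ * k * g * q = g⁻¹ * (k * (g * q * g⁻¹)) * g := by group
  have e2 : q * (g⁻¹ * k * g) = g⁻¹ * ((g * q * g⁻¹) * k) * g := by group
  rw [e1, e2, this]

theorem ZNC_cj {X : Subgroup G} (g : G) (h : ZNC X) : ZNC (MulAut.conj g • X) := by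
  intro S hS
  obtain ⟨k, hk, z, hz, hne⟩ := h _ (mem_Syl3_cj_iff.mp hS)
  refine ⟨g * k * g⁻¹, cj_mem hk, g * z * g⁻¹, ?_, ?_⟩
  · have := cj_mem (g := g) hz
    rwa [cj_Zs, cj_cj_inv] at this
  · intro he
    apply hne
    have e1 : k * z = g⁻¹ * ((g * k * g⁻¹) * (g * z * g⁻¹)) * g := by group
    have e2 : z * k = g⁻¹ * ((g * z * g⁻¹) * (g * k * g⁻¹)) * g := by group
    rw [e1, e2, he]

section con
variable {X : Subgroup G}

theorem Zs_le_Qc (hcon : CON X) {S : Subgroup G} (hS : S ∈ Syl3 X) : Zs S ≤ Qc X := by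
  intro z hz
  apply hcon z (hS.1 hz.1)
  intro q hq
  exact (hz.2.1 q (Qc_le hS hq)).symm

theorem Vc_le_Qc (hcon : CON X) : Vc X ≤ Qc X := Vc_le_iff.mpr fun _ hS => Zs_le_Qc hcon hS

theorem Vc_le_self (hcon : CON X) : Vc X ≤ X := (Vc_le_Qc hcon).trans (Qc_le_self X)

theorem Vc_comm_Qc {v q : G} (hv : v ∈ Vc X) (hq : q ∈ Qc X) : v * q = q * v := by
  have : Vc X ≤ centralizer (Qc X : Set G) := by
    rw [Vc_le_iff]
    intro S hS z hz
    rw [mem_centralizer_iff]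
    intro q hq
    exact hz.2.1 q (Qc_le hS hq)
  have h := mem_centralizer_iff.mp (this hv) q hq
  exact h.symm

theorem Vc_comm (hcon : CON X) {v w : G} (hv : v ∈ Vc X) (hw : w ∈ Vc X) : v * w = w * v :=
  Vc_comm_Qc hv (Vc_le_Qc hcon hw)

theorem Vc_sq (hcon : CON X) {v : G} (hv : v ∈ Vc X) : v * v = 1 := by
  let E : Subgroup G :=
    { carrier := {v | v ∈ Vc X ∧ v * v = 1}
      mul_mem' := by
        rintro a b ⟨ha, ha2⟩ ⟨hb, hb2⟩
        refine ⟨(Vc X).mul_mem ha hb, ?_⟩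
        have : a * b * (a * b) = a * (b * a) * b := by group
        rw [this, Vc_comm hcon hb ha, ← mul_assoc, ha2, one_mul, hb2]
      one_mem' := ⟨(Vc X).one_mem, by rw [mul_one]⟩
      inv_mem' := by
        rintro a ⟨ha, ha2⟩
        have e : a⁻¹ = a := inv_eq_of_mul_eq_one_left ha2
        rw [e]
        exact ⟨ha, ha2⟩ }
  have : Vc X ≤ E := by
    rw [Vc_le_iff]
    intro S hS z hz
    exact ⟨Zs_le_Vc hS hz, hz.2.2⟩
  exact (this hv).2

theorem Vc_inv (hcon : CON X) {v : G} (hv : v ∈ Vc X) : v⁻¹ = v :=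
  inv_eq_of_mul_eq_one_left (Vc_sq hcon hv)

/-- the centraliser of `Vc X` in `X` is `Qc X` -/
theorem mem_Qc_of_centralizes (hz : ZNC X) {g : G} (hg : g ∈ X)
    (hc : ∀ v ∈ Vc X, g * v = v * g) : g ∈ Qc X := by
  rw [mem_Qc]
  refine ⟨hg, fun S hS => ?_⟩
  by_contra hgS
  -- `S ⊔ ⟨g⟩ = X` centralises `Zs S`
  have h1 : S ⊔ zpowers g ≤ X := sup_le hS.1 (by rw [zpowers_le]; exact hg)
  rcases Syl3_maximal hS le_sup_left h1 with h | h
  · apply hgS
    rw [← h]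
    exact le_sup_right (a := S) (mem_zpowers g)
  · obtain ⟨k, hk, z, hzz, hne⟩ := hz S hS
    apply hne
    have : S ⊔ zpowers g ≤ centralizer (Zs S : Set G) := by
      apply sup_le
      · intro s hs
        rw [mem_centralizer_iff]
        intro z hz
        exact (hz.2.1 s hs).symm
      · rw [zpowers_le, mem_centralizer_iff]
        intro z hz
        exact (hc z (Zs_le_Vc hS hz)).symm
    rw [h] at this
    exact (mem_centralizer_iff.mp (this hk) z hzz).symm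

end con

section fin
variable [Finite G] {X : Subgroup G}

/-- an element of `Vc X` commuting with an element of `S` outside the core lies in `Zs S` -/
theorem mem_Zs_of_comm (hnn : NN X) (hcon : CON X) {S : Subgroup G} (hS : S ∈ Syl3 X) {t v : G}
    (ht : t ∈ S) (ht' : t ∉ Qc X) (hv : v ∈ Vc X) (hc : v * t = t * v) : v ∈ Zs S := by
  refine ⟨Qc_le hS (Vc_le_Qc hcon hv), fun s hs => ?_, Vc_sq hcon hv⟩
  by_cases hsq : s ∈ Qc X
  · exact (Vc_comm_Qc hv hsq).symm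
  · have h1 := mul_mem_Qc hnn hS hs ht hsq ht'
    have h2 := Vc_comm_Qc hv h1
    symm
    calc v * s = v * (s * t) * t⁻¹ := by group
      _ = s * t * v * t⁻¹ := by rw [h2]
      _ = s * (t * v) * t⁻¹ := by group
      _ = s * (v * t) * t⁻¹ := by rw [hc]
      _ = s * v := by group

theorem Zs_ne_of_ne (hz : ZNC X) {S S' : Subgroup G} (hS : S ∈ Syl3 X) (hS' : S' ∈ Syl3 X)
    (hne : S ≠ S') : ¬ Zs S' ≤ Zs S := by
  intro hle
  obtain ⟨k, hk, z, hzz, hne'⟩ := hz S' hS'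
  apply hne'
  have : S ⊔ S' ≤ centralizer (Zs S' : Set G) := by
    apply sup_le
    · intro s hs
      rw [mem_centralizer_iff]
      intro z hz
      exact ((hle hz).2.1 s hs).symm
    · intro s hs
      rw [mem_centralizer_iff]
      intro z hz
      exact (hz.2.1 s hs).symm
  rw [Syl3_sup hS hS' hne] at this
  exact (mem_centralizer_iff.mp (this hk) z hzz).symm

/-- `Zs S` is a proper subgroup of `Vc X` -/
theorem exists_not_mem_Zs (hnn : NN X) (hz : ZNC X) {S : Subgroup G} (hS : S ∈ Syl3 X) :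
    ∃ v ∈ Vc X, v ∉ Zs S := by
  obtain ⟨g, hg, hne⟩ := hnn S hS
  have hS' := cj_mem_Syl3_self hg hS
  by_contra hc
  push Not at hc
  apply Zs_ne_of_ne hz hS hS' (Ne.symm hne)
  intro z hzz
  exact hc z (Zs_le_Vc hS' hzz)

end fin

end Cfsg.Agent.Lib.Helper6.Sims
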