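import Mathlib
import Cfsg.Agent.Lib.Helper6.SimsC

/-!
Sims' theorem: the case `b = 1` of the amalgam analysis: if `Vc X ≰ Qc Y` then `|T| ≤ 16`.
-/

set_option autoImplicit false
set_option linter.unusedSectionVars false
set_option linter.style.haveILetI false

namespace Cfsg.Agent.Lib.Helper6.Sims

open Subgroup Pointwise

variable {G : Type*} [Group G]

/-- the subgroup generated by squares and commutators -/
def Phi' (H : Subgroup G) : Subgroup G :=
  closure ({x | ∃ a ∈ H, x = a * a} ∪ {x | ∃ a ∈ H, ∃ b ∈ H, x = a * b * a⁻¹ * b⁻¹})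

theorem Phi'_le (H : Subgroup G) : Phi' H ≤ H := by
  unfold Phi'
  rw [closure_le]
  rintro x (⟨a, ha, rfl⟩ | ⟨a, ha, b, hb, rfl⟩)
  · exact H.mul_mem ha ha
  · exact H.mul_mem (H.mul_mem (H.mul_mem ha hb) (H.inv_mem ha)) (H.inv_mem hb)

theorem cj_Phi'_le (g : G) (H : Subgroup G) :
    MulAut.conj g • Phi' H ≤ Phi' (MulAut.conj g • H) := by
  have : Phi' H ≤ MulAut.conj g⁻¹ • Phi' (MulAut.conj g • H) := by
    unfold Phi'
    rw [closure_le]
    rintro x (⟨a, ha, rfl⟩ | ⟨a, ha, b, hb, rfl⟩)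
    · rw [SetLike.mem_coe, mem_cj, inv_inv]
      apply Subgroup.subset_closure
      left
      exact ⟨g * a * g⁻¹, cj_mem ha, by group⟩
    · rw [SetLike.mem_coe, mem_cj, inv_inv]
      apply Subgroup.subset_closure
      right
      exact ⟨g * a * g⁻¹, cj_mem ha, g * b * g⁻¹, cj_mem hb, by group⟩
  have h3 := cj_le_cj (g := g).mpr this
  rwa [cj_cj_inv] at h3

theorem cj_Phi' (g : G) (H : Subgroup G) : MulAut.conj g • Phi' H = Phi' (MulAut.conj g • H) := by
  apply le_antisymm (cj_Phi'_le g H)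
  have := cj_Phi'_le g⁻¹ (MulAut.conj g • H)
  rw [cj_inv_cj] at this
  have h3 := cj_le_cj (g := g).mpr this
  rwa [cj_cj_inv] at h3

theorem Phi'_eq_bot {H : Subgroup G} (h : Phi' H = ⊥) :
    (∀ a ∈ H, a * a = 1) ∧ (∀ a ∈ H, ∀ b ∈ H, a * b = b * a) := by
  constructor
  · intro a ha
    have : a * a ∈ Phi' H := Subgroup.subset_closure (Or.inl ⟨a, ha, rfl⟩)
    rw [h, mem_bot] at this
    exact this
  · intro a ha b hb
    have : a * b * a⁻¹ * b⁻¹ ∈ Phi' H := Subgroup.subset_closure (Or.inr ⟨a, ha, b, hb, rfl⟩)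
    rw [h, mem_bot] at this
    have e : a * b = (a * b * a⁻¹ * b⁻¹) * (b * a) := by group
    rw [e, this, one_mul]

/-- if `H = D · C` with `C` consisting of central involutions of `H` then `Phi' H ≤ Phi' D` -/
theorem Phi'_le_of_central {H D : Subgroup G}
    (h : ∀ a ∈ H, ∃ d ∈ D, ∃ e ∈ H, (∀ q ∈ H, e * q = q * e) ∧ e * e = 1 ∧ a = d * e)
    (hDH : D ≤ H) : Phi' H ≤ Phi' D := by
  unfold Phi'
  rw [closure_le]
  rintro x (⟨a, ha, rfl⟩ | ⟨a, ha, b, hb, rfl⟩)
  · obtain ⟨d, hd, e, heH, hec, he2, rfl⟩ := h a ha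
    apply Subgroup.subset_closure
    left
    refine ⟨d, hd, ?_⟩
    calc d * e * (d * e) = d * (e * d) * e := by group
      _ = d * (d * e) * e := by rw [hec d (hDH hd)]
      _ = d * d * (e * e) := by group
      _ = d * d := by rw [he2, mul_one]
  · obtain ⟨d, hd, e, heH, hec, he2, rfl⟩ := h a ha
    obtain ⟨d', hd', e', heH', hec', he2', rfl⟩ := h b hb
    apply Subgroup.subset_closure
    right
    refine ⟨d, hd, d', hd', ?_⟩
    have einv : e⁻¹ = e := inv_eq_of_mul_eq_one_left he2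
    have einv' : e'⁻¹ = e' := inv_eq_of_mul_eq_one_left he2'
    have h1 : e * (d' * e') = (d' * e') * e := hec _ (H.mul_mem (hDH hd') heH')
    have h2 : e' * d⁻¹ = d⁻¹ * e' := hec' _ (H.inv_mem (hDH hd))
    calc d * e * (d' * e') * (d * e)⁻¹ * (d' * e')⁻¹
        = d * (e * (d' * e')) * e⁻¹ * d⁻¹ * e'⁻¹ * d'⁻¹ := by group
      _ = d * ((d' * e') * e) * e * d⁻¹ * e' * d'⁻¹ := by rw [h1, einv, einv']
      _ = d * d' * e' * (e * e) * d⁻¹ * e' * d'⁻¹ := by group
      _ = d * d' * (e' * d⁻¹) * e' * d'⁻¹ := by rw [he2]; group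
      _ = d * d' * (d⁻¹ * e') * e' * d'⁻¹ := by rw [h2]
      _ = d * d' * d⁻¹ * (e' * e') * d'⁻¹ := by group
      _ = d * d' * d⁻¹ * d'⁻¹ := by rw [he2', mul_one]

theorem Phi'_mono {H K : Subgroup G} (h : H ≤ K) : Phi' H ≤ Phi' K := by
  unfold Phi'
  apply Subgroup.closure_mono
  rintro x (⟨a, ha, rfl⟩ | ⟨a, ha, b, hb, rfl⟩)
  · exact Or.inl ⟨a, h ha, rfl⟩
  · exact Or.inr ⟨a, h ha, b, h hb, rfl⟩

/-- if all products `a b⁻¹` of elements of `H` outside `K` lie in `K` then `|H| ≤ 2 |K|` -/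
theorem card_le_two_mul [Finite G] {K H : Subgroup G}
    (h : ∀ a ∈ H, ∀ b ∈ H, a ∉ K → b ∉ K → a * b⁻¹ ∈ K) : Nat.card H ≤ 2 * Nat.card K := by
  classical
  by_cases hHK : H ≤ K
  · have := Subgroup.card_le_of_le hHK
    omega
  · obtain ⟨h0, hh0, hh0'⟩ := SetLike.not_le_iff_exists.mp hHK
    have : Nat.card H ≤ Nat.card (K × Fin 2) := by
      apply Nat.card_le_card_of_injective
        (fun a : H => if ha : (a : G) ∈ K then ((⟨a, ha⟩ : K), (0 : Fin 2))
          else ((⟨a * h0⁻¹, h a a.2 h0 hh0 ha hh0'⟩ : K), (1 : Fin 2)))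
      intro a b hab
      by_cases ha : (a : G) ∈ K <;> by_cases hb : (b : G) ∈ K
      · simp only [ha, hb, dif_pos, Prod.mk.injEq, Subtype.mk.injEq] at hab
        exact Subtype.ext hab.1
      · simp only [ha, hb, dif_pos, dif_neg, not_false_eq_true, Prod.mk.injEq] at hab
        exact absurd hab.2 (by decide)
      · simp only [ha, hb, dif_pos, dif_neg, not_false_eq_true, Prod.mk.injEq] at hab
        exact absurd hab.2 (by decide)
      · simp only [ha, hb, dif_neg, not_false_eq_true, Prod.mk.injEq, Subtype.mk.injEq] at hab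
        exact Subtype.ext (mul_right_cancel hab.1)
    rw [Nat.card_prod, Nat.card_fin] at this
    omega

/-- two subgroups with trivial intersection inside a group with commuting elements -/
theorem card_mul_le_of_disjoint [Finite G] {A B Z : Subgroup G} (hA : A ≤ Z) (hB : B ≤ Z)
    (hAB : A ⊓ B = ⊥) : Nat.card A * Nat.card B ≤ Nat.card Z := by
  rw [← Nat.card_prod]
  apply Nat.card_le_card_of_injective
    (fun p : A × B => (⟨p.1 * p.2, Z.mul_mem (hA p.1.2) (hB p.2.2)⟩ : Z))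
  rintro ⟨a, b⟩ ⟨a', b'⟩ hab
  simp only [Subtype.mk.injEq] at hab
  have h1 : (a' : G)⁻¹ * a = b' * (b : G)⁻¹ := by
    have : (a : G) = a' * b' * (b : G)⁻¹ := by rw [← hab]; group
    rw [this]
    group
  have h2 : (a' : G)⁻¹ * a ∈ A ⊓ B :=
    ⟨A.mul_mem (A.inv_mem a'.2) a.2, by rw [h1]; exact B.mul_mem b'.2 (B.inv_mem b.2)⟩
  rw [hAB, mem_bot] at h2
  have h3 : (a : G) = a' := by
    have := eq_inv_of_mul_eq_one_right h2
    rw [inv_inv] at this
    exact this
  have h4 : (b : G) = b' := by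
    rw [h3] at hab
    exact mul_left_cancel hab
  exact Prod.ext (Subtype.ext h3) (Subtype.ext h4)

/-- the amalgam hypotheses for a pair of subgroups with common member `T` of `Syl3` -/
structure Pair (X Y T : Subgroup G) : Prop where
  hTX : T ∈ Syl3 X
  hTY : T ∈ Syl3 Y
  nnX : NN X
  nnY : NN Y
  conX : CON X
  conY : CON Y
  zX : ZNC X
  zY : ZNC Y
  core : ∀ N : Subgroup G, N ≤ T → (∀ g ∈ X, MulAut.conj g • N = N) →
    (∀ g ∈ Y, MulAut.conj g • N = N) → N = ⊥

theorem Pair.symm {X Y T : Subgroup G} (h : Pair X Y T) : Pair Y X T :=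
  ⟨h.hTY, h.hTX, h.nnY, h.nnX, h.conY, h.conX, h.zY, h.zX, fun N h1 h2 h3 => h.core N h1 h3 h2⟩

section pair
variable [Finite G] {X Y T : Subgroup G}

theorem Pair.not_le_symm (h : Pair X Y T) (hb : ¬ Vc X ≤ Qc Y) : ¬ Vc Y ≤ Qc X := by
  intro hle
  apply hb
  intro u hu
  apply mem_Qc_of_centralizes h.zY (h.hTY.1 (Qc_le h.hTX (Vc_le_Qc h.conX hu)))
  intro v hv
  exact Vc_comm_Qc hu (hle hv)

/-- `Vc X ∩ Qc Y ≤ Zs T` -/
theorem Pair.mem_Zs (h : Pair X Y T) (hb : ¬ Vc X ≤ Qc Y) {u : G} (hu : u ∈ Vc X)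
    (huY : u ∈ Qc Y) : u ∈ Zs T := by
  obtain ⟨v0, hv0, hv0'⟩ := SetLike.not_le_iff_exists.mp (h.not_le_symm hb)
  have hv0T : v0 ∈ T := Qc_le h.hTY (Vc_le_Qc h.conY hv0)
  exact mem_Zs_of_comm h.nnX h.conX h.hTX hv0T hv0' hu (Vc_comm_Qc hv0 huY).symm

theorem Pair.decomp (h : Pair X Y T) {u0 : G} (hu0 : u0 ∈ Vc X) (hu0' : u0 ∉ Qc Y) {q : G}
    (hq : q ∈ Qc X) : ∃ d ∈ Qc X ⊓ Qc Y, ∃ e ∈ Qc X, (∀ r ∈ Qc X, e * r = r * e) ∧ e * e = 1 ∧
      q = d * e ∧ (e = 1 ∨ e = u0) := by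
  by_cases hqY : q ∈ Qc Y
  · exact ⟨q, ⟨hq, hqY⟩, 1, (Qc X).one_mem, fun r _ => by rw [one_mul, mul_one], by rw [mul_one],
      by rw [mul_one], Or.inl rfl⟩
  · have hu0Q : u0 ∈ Qc X := Vc_le_Qc h.conX hu0
    have h1 : q * u0 ∈ Qc Y :=
      mul_mem_Qc h.nnY h.hTY (Qc_le h.hTX hq) (Qc_le h.hTX hu0Q) hqY hu0'
    refine ⟨q * u0, ⟨(Qc X).mul_mem hq hu0Q, h1⟩, u0, hu0Q, fun r hr => Vc_comm_Qc hu0 hr,
      Vc_sq h.conX hu0, ?_, Or.inr rfl⟩
    rw [mul_assoc, Vc_sq h.conX hu0, mul_one]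

/-- `Qc X` is elementary abelian when `Vc X ≰ Qc Y` -/
theorem Pair.Qc_elem (h : Pair X Y T) (hb : ¬ Vc X ≤ Qc Y) :
    (∀ a ∈ Qc X, a * a = 1) ∧ (∀ a ∈ Qc X, ∀ b ∈ Qc X, a * b = b * a) := by
  obtain ⟨u0, hu0, hu0'⟩ := SetLike.not_le_iff_exists.mp hb
  obtain ⟨v0, hv0, hv0'⟩ := SetLike.not_le_iff_exists.mp (h.not_le_symm hb)
  have h1 : Phi' (Qc X) = Phi' (Qc X ⊓ Qc Y) := by
    apply le_antisymm _ (Phi'_mono inf_le_left)
    apply Phi'_le_of_central _ inf_le_left
    intro a ha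
    obtain ⟨d, hd, e, he, hec, he2, hae, _⟩ := h.decomp hu0 hu0' ha
    exact ⟨d, hd, e, he, hec, he2, hae⟩
  have h2 : Phi' (Qc Y) = Phi' (Qc X ⊓ Qc Y) := by
    apply le_antisymm _ (Phi'_mono inf_le_right)
    apply Phi'_le_of_central _ inf_le_right
    intro a ha
    obtain ⟨d, hd, e, he, hec, he2, hae, _⟩ := h.symm.decomp hv0 hv0' ha
    exact ⟨d, ⟨hd.2, hd.1⟩, e, he, hec, he2, hae⟩
  have h3 : Phi' (Qc X) = ⊥ := by
    apply h.core
    · exact (Phi'_le _).trans (Qc_le h.hTX)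
    · intro g hg
      rw [cj_Phi', cj_Qc, cj_eq_self_of_mem hg]
    · intro g hg
      rw [h1, ← h2, cj_Phi', cj_Qc, cj_eq_self_of_mem hg]
  exact Phi'_eq_bot h3

/-- the key commutator: conjugation by `v0` on `Qc X` -/
theorem Pair.conj_v0 (h : Pair X Y T) {u0 v0 : G} (hu0 : u0 ∈ Vc X) (hu0' : u0 ∉ Qc Y)
    (hv0 : v0 ∈ Vc Y) {q : G} (hq : q ∈ Qc X) :
    v0 * q * v0⁻¹ = q ∨ v0 * q * v0⁻¹ = q * (u0 * v0 * u0 * v0) := by
  obtain ⟨d, hd, e, he, hec, he2, hqe, he1⟩ := h.decomp hu0 hu0' hq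
  have hdv : v0 * d = d * v0 := Vc_comm_Qc hv0 hd.2
  rcases he1 with rfl | rfl
  · left
    rw [hqe, mul_one]
    rw [hdv]
    group
  · right
    rw [hqe]
    have hv2 : v0⁻¹ = v0 := Vc_inv h.conY hv0
    calc v0 * (d * e) * v0⁻¹ = (v0 * d) * e * v0⁻¹ := by group
      _ = d * v0 * e * v0 := by rw [hdv, hv2]
      _ = d * (e * e) * v0 * e * v0 := by rw [he2, mul_one]
      _ = d * e * (e * v0 * e * v0) := by group

/-- main counting statement in the case `b = 1` -/
theorem Pair.card_le (h : Pair X Y T) (hb : ¬ Vc X ≤ Qc Y) : Nat.card T ≤ 16 := by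
  obtain ⟨u0, hu0, hu0'⟩ := SetLike.not_le_iff_exists.mp hb
  obtain ⟨v0, hv0, hv0'⟩ := SetLike.not_le_iff_exists.mp (h.not_le_symm hb)
  obtain ⟨hsq, hab⟩ := h.Qc_elem hb
  obtain ⟨hsqY, habY⟩ := h.symm.Qc_elem (h.not_le_symm hb)
  have hu0X : u0 ∈ Qc X := Vc_le_Qc h.conX hu0
  have hv0Y : v0 ∈ Qc Y := Vc_le_Qc h.conY hv0
  have hu0T : u0 ∈ T := Qc_le h.hTX hu0X
  have hv0T : v0 ∈ T := Qc_le h.hTY hv0Y
  -- `|T| = 2 |Qc X|`
  have hT : Nat.card T = 2 * Nat.card (Qc X) := by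
    have h1 := Subgroup.card_mul_index ((Qc X).subgroupOf T)
    have h2 : Nat.card ((Qc X).subgroupOf T) = Nat.card (Qc X) :=
      Nat.card_congr (subgroupOfEquivOfLe (Qc_le h.hTX)).toEquiv
    have h3 : ((Qc X).subgroupOf T).index = 2 := Qc_relIndex h.nnX h.hTX
    rw [h2, h3] at h1
    omega
  -- general statement: for the pair `(X, Y)`
  have key : ∀ {X Y : Subgroup G} (h : Pair X Y T) {u0 v0 : G}, u0 ∈ Vc X → u0 ∉ Qc Y →
      v0 ∈ Vc Y → v0 ∉ Qc X → (∀ a ∈ Qc X, a * a = 1) →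
      (∀ a ∈ Qc X, ∀ b ∈ Qc X, a * b = b * a) →
      Nat.card (Qc X) ≤ 2 * Nat.card (Zs T) ∧
      Nat.card (Zs T) ≤ 2 * Nat.card (Zs T ⊓ centralizer (X : Set G) : Subgroup G) := by
    intro X Y h u0 v0 hu0 hu0' hv0 hv0' hsq hab
    have hv0T : v0 ∈ T := Qc_le h.hTY (Vc_le_Qc h.conY hv0)
    set w := u0 * v0 * u0 * v0 with hw
    have hwX : w ∈ Qc X := by
      have h1 : v0 * u0 * v0⁻¹ ∈ Vc X := Vc_normal (h.hTX.1 hv0T) hu0
      rw [Vc_inv h.conY hv0] at h1
      have : w = u0 * (v0 * u0 * v0) := by rw [hw]; group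
      rw [this]
      exact Vc_le_Qc h.conX ((Vc X).mul_mem hu0 h1)
    -- membership in `Zs T` for elements of `Qc X`
    have hZ : ∀ z ∈ Qc X, v0 * z = z * v0 → z ∈ Zs T := by
      intro z hz hc
      refine ⟨Qc_le h.hTX hz, fun s hs => ?_, hsq z hz⟩
      by_cases hsq' : s ∈ Qc X
      · exact hab s hsq' z hz
      · have h1 := mul_mem_Qc h.nnX h.hTX hs hv0T hsq' hv0'
        have h2 := hab z hz _ h1
        calc s * z = (s * v0) * (v0⁻¹ * z) := by group
          _ = (s * v0) * (z * v0⁻¹) := by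
              congr 1
              calc v0⁻¹ * z = v0⁻¹ * (z * v0) * v0⁻¹ := by group
                _ = v0⁻¹ * (v0 * z) * v0⁻¹ := by rw [hc]
                _ = z * v0⁻¹ := by group
          _ = ((s * v0) * z) * v0⁻¹ := by group
          _ = (z * (s * v0)) * v0⁻¹ := by rw [h2]
          _ = z * s := by group
    constructor
    · apply card_le_two_mul
      intro a ha b hb ha' hb'
      have ha1 : v0 * a * v0⁻¹ = a * w := by
        rcases h.conj_v0 hu0 hu0' hv0 ha with h1 | h1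
        · exfalso
          apply ha'
          apply hZ a ha
          calc v0 * a = v0 * a * v0⁻¹ * v0 := by group
            _ = a * v0 := by rw [h1]
        · exact h1
      have hb1 : v0 * b * v0⁻¹ = b * w := by
        rcases h.conj_v0 hu0 hu0' hv0 hb with h1 | h1
        · exfalso
          apply hb'
          apply hZ b hb
          calc v0 * b = v0 * b * v0⁻¹ * v0 := by group
            _ = b * v0 := by rw [h1]
        · exact h1
      apply hZ _ ((Qc X).mul_mem ha ((Qc X).inv_mem hb))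
      have e1 : v0 * (a * b⁻¹) = (v0 * a * v0⁻¹) * (v0 * b * v0⁻¹)⁻¹ * v0 := by group
      rw [e1, ha1, hb1]
      have e2 : a * w * (b * w)⁻¹ = a * b⁻¹ := by group
      rw [e2]
    · -- an element of `X` outside `T`
      obtain ⟨g, hg, hne⟩ := h.nnX T h.hTX
      have hS' := cj_mem_Syl3_self hg h.hTX
      set v1 := g * v0 * g⁻¹ with hv1
      have hv1S : v1 ∈ MulAut.conj g • T := cj_mem hv0T
      have hv1Q : v1 ∉ Qc X := by
        intro hc
        apply hv0'
        have := Qc_normal (X.inv_mem hg) hc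
        rw [inv_inv] at this
        have e : g⁻¹ * v1 * g = v0 := by rw [hv1]; group
        rwa [e] at this
      have hXgen : T ⊔ zpowers v1 = X := sup_zpowers_eq hS' h.hTX hne hv1S hv1Q
      have hconj : ∀ z ∈ Qc X, v1 * z * v1⁻¹ = z ∨ v1 * z * v1⁻¹ = z * (g * w * g⁻¹) := by
        intro z hz
        have hz' : g⁻¹ * z * g ∈ Qc X := by
          have := Qc_normal (X.inv_mem hg) hz
          rwa [inv_inv] at this
        rcases h.conj_v0 hu0 hu0' hv0 hz' with h1 | h1
        · left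
          calc v1 * z * v1⁻¹ = g * (v0 * (g⁻¹ * z * g) * v0⁻¹) * g⁻¹ := by rw [hv1]; group
            _ = z := by rw [h1]; group
        · right
          calc v1 * z * v1⁻¹ = g * (v0 * (g⁻¹ * z * g) * v0⁻¹) * g⁻¹ := by rw [hv1]; group
            _ = z * (g * w * g⁻¹) := by rw [h1, hw]; group
      have hw1 : g * w * g⁻¹ ∈ Qc X := Qc_normal hg hwX
      have hE : ∀ z ∈ Zs T, v1 * z = z * v1 → z ∈ Zs T ⊓ centralizer (X : Set G) := by
        intro z hz hc
        refine ⟨hz, ?_⟩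
        change z ∈ centralizer (X : Set G)
        rw [Subgroup.mem_centralizer_iff]
        have : X ≤ centralizer ({z} : Set G) := by
          rw [← hXgen]
          apply sup_le
          · intro s hs
            rw [mem_centralizer_iff]
            intro y hy
            rw [Set.mem_singleton_iff] at hy
            rw [hy]
            exact (hz.2.1 s hs).symm
          · rw [zpowers_le, mem_centralizer_iff]
            intro y hy
            rw [Set.mem_singleton_iff] at hy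
            rw [hy]
            exact hc.symm
        intro x hx
        have := mem_centralizer_iff.mp (this hx) z (Set.mem_singleton z)
        exact this.symm
      apply card_le_two_mul
      intro a ha b hb ha' hb'
      have haQ : a ∈ Qc X := Zs_le_Qc h.conX h.hTX ha
      have hbQ : b ∈ Qc X := Zs_le_Qc h.conX h.hTX hb
      have ha1 : v1 * a * v1⁻¹ = a * (g * w * g⁻¹) := by
        rcases hconj a haQ with h1 | h1
        · exfalso
          apply ha'
          apply hE a ha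
          calc v1 * a = v1 * a * v1⁻¹ * v1 := by group
            _ = a * v1 := by rw [h1]
        · exact h1
      have hb1 : v1 * b * v1⁻¹ = b * (g * w * g⁻¹) := by
        rcases hconj b hbQ with h1 | h1
        · exfalso
          apply hb'
          apply hE b hb
          calc v1 * b = v1 * b * v1⁻¹ * v1 := by group
            _ = b * v1 := by rw [h1]
        · exact h1
      apply hE _ ((Zs T).mul_mem ha ((Zs T).inv_mem hb))
      have e1 : v1 * (a * b⁻¹) = (v1 * a * v1⁻¹) * (v1 * b * v1⁻¹)⁻¹ * v1 := by group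
      rw [e1, ha1, hb1]
      have e2 : a * (g * w * g⁻¹) * (b * (g * w * g⁻¹))⁻¹ = a * b⁻¹ := by group
      rw [e2]
  obtain ⟨k1, k2⟩ := key h hu0 hu0' hv0 hv0' hsq hab
  obtain ⟨_, k3⟩ := key h.symm hv0 hv0' hu0 hu0' hsqY habY
  -- the two central parts meet trivially
  have hdisj : (Zs T ⊓ centralizer (X : Set G)) ⊓ (Zs T ⊓ centralizer (Y : Set G)) = ⊥ := by
    apply h.core
    · exact inf_le_left.trans (inf_le_left.trans (Zs_le T))
    · intro g hg
      ext x
      rw [mem_cj]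
      have hcomm : ∀ y ∈ (Zs T ⊓ centralizer (X : Set G)) ⊓ (Zs T ⊓ centralizer (Y : Set G)),
          g * y = y * g := fun y hy => mem_centralizer_iff.mp hy.1.2 g hg
      constructor
      · intro hx
        have := hcomm _ hx
        have e : x = g * (g⁻¹ * x * g) * g⁻¹ := by group
        rw [e, this]
        have e2 : g⁻¹ * x * g * g * g⁻¹ = g⁻¹ * x * g := by group
        rw [e2]
        exact hx
      · intro hx
        have := hcomm _ hx
        have e : g⁻¹ * x * g = g⁻¹ * (x * g) := by group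
        rw [e, ← this]
        have e2 : g⁻¹ * (g * x) = x := by group
        rw [e2]
        exact hx
    · intro g hg
      ext x
      rw [mem_cj]
      have hcomm : ∀ y ∈ (Zs T ⊓ centralizer (X : Set G)) ⊓ (Zs T ⊓ centralizer (Y : Set G)),
          g * y = y * g := fun y hy => mem_centralizer_iff.mp hy.2.2 g hg
      constructor
      · intro hx
        have := hcomm _ hx
        have e : x = g * (g⁻¹ * x * g) * g⁻¹ := by group
        rw [e, this]
        have e2 : g⁻¹ * x * g * g * g⁻¹ = g⁻¹ * x * g := by group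
        rw [e2]
        exact hx
      · intro hx
        have := hcomm _ hx
        have e : g⁻¹ * x * g = g⁻¹ * (x * g) := by group
        rw [e, ← this]
        have e2 : g⁻¹ * (g * x) = x := by group
        rw [e2]
        exact hx
  have k4 := card_mul_le_of_disjoint (A := Zs T ⊓ centralizer (X : Set G))
    (B := Zs T ⊓ centralizer (Y : Set G)) (Z := Zs T) inf_le_left inf_le_left hdisj
  have hpos : 0 < Nat.card (Zs T) := Nat.card_pos
  -- arithmetic
  have : Nat.card (Zs T) ≤ 4 := by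
    by_contra hc
    push Not at hc
    nlinarith
  omega

end pair

end Cfsg.Agent.Lib.Helper6.Sims
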