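import Mathlib
import Cfsg.Agent.Lib.Helper6.SimsD

/-!
Sims' theorem: the global framework (a transitive family of point stabilizers), the relation
of being joined by a suborbit of length three, walks, and the non constrained case.
-/

set_option autoImplicit false
set_option linter.unusedSectionVars false
set_option linter.style.haveILetI false

namespace Cfsg.Agent.Lib.Helper6.Sims

open Subgroup Pointwise

variable {G : Type*} [Group G]

theorem cj_eq_self_of_comm {k : G} {N : Subgroup G} (hc : ∀ y ∈ N, k * y = y * k) :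
    MulAut.conj k • N = N := by
  ext x
  rw [mem_cj]
  constructor
  · intro hx
    have := hc _ hx
    have e : x = k * (k⁻¹ * x * k) * k⁻¹ := by group
    rw [e, this]
    have e2 : k⁻¹ * x * k * k * k⁻¹ = k⁻¹ * x * k := by group
    rw [e2]
    exact hx
  · intro hx
    have := hc _ hx
    have e : k⁻¹ * x * k = k⁻¹ * (x * k) := by group
    rw [e, ← this]
    have e2 : k⁻¹ * (k * x) = x := by group
    rw [e2]
    exact hx

theorem comm_of_mem_zpowers {g r k : G} (h : g * r = r * g) (hk : k ∈ zpowers g) :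
    k * r = r * k := by
  obtain ⟨n, rfl⟩ := mem_zpowers_iff.mp hk
  exact ((show Commute g r from h).zpow_left n)

theorem comm_of_mem_zpowers' {g r k : G} (h : g * r = r * g) (hk : k ∈ zpowers r) :
    g * k = k * g := by
  obtain ⟨n, rfl⟩ := mem_zpowers_iff.mp hk
  exact ((show Commute g r from h).zpow_right n)

theorem mem_Syl3_of_card [Finite G] {X S : Subgroup G} (hle : S ≤ X) (hp : IsPGroup 2 S)
    (hc : Nat.card X = 3 * Nat.card S) : S ∈ Syl3 X := by
  refine ⟨hle, hp, ?_⟩
  have h1 := Subgroup.card_mul_index (S.subgroupOf X)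
  have h2 : Nat.card (S.subgroupOf X) = Nat.card S :=
    Nat.card_congr (subgroupOfEquivOfLe hle).toEquiv
  rw [h2, hc] at h1
  have hpos : 0 < Nat.card S := Nat.card_pos
  change (S.subgroupOf X).index = 3
  have h3 : Nat.card S * (S.subgroupOf X).index = Nat.card S * 3 := by rw [h1]; ring
  exact Nat.eq_of_mul_eq_mul_left hpos h3

/-- the non constrained case -/
theorem card_le_four_of_not_CON [Finite G] {X Y T : Subgroup G} (hTX : T ∈ Syl3 X)
    (hTY : T ∈ Syl3 Y) (nnX : NN X) (nnY : NN Y) (hX : ¬ CON X) (hY : ¬ CON Y)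
    (core : ∀ N : Subgroup G, N ≤ T → (∀ g ∈ X, MulAut.conj g • N = N) →
      (∀ g ∈ Y, MulAut.conj g • N = N) → N = ⊥) : Nat.card T ≤ 4 := by
  -- an element outside `T` centralizing `Qc`
  have key : ∀ {X : Subgroup G}, T ∈ Syl3 X → ¬ CON X →
      ∃ ρ ∈ X, (∀ q ∈ Qc X, ρ * q = q * ρ) ∧ T ⊔ zpowers ρ = X := by
    intro X hTX hX
    unfold CON at hX
    push Not at hX
    obtain ⟨c, hcX, hcc, hcQ⟩ := hX
    -- some conjugate of `c` is outside `T`
    have h1 : ∃ g ∈ X, g⁻¹ * c * g ∉ T := by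
      by_contra hcon
      push Not at hcon
      apply hcQ
      rw [mem_Qc]
      refine ⟨hcX, fun S hS => ?_⟩
      obtain ⟨g, hg, rfl⟩ := Syl3_conj hTX hS
      rw [mem_cj]
      exact hcon g hg
    obtain ⟨g, hg, hgT⟩ := h1
    refine ⟨g⁻¹ * c * g, X.mul_mem (X.mul_mem (X.inv_mem hg) hcX) hg, ?_, ?_⟩
    · intro q hq
      have hq' : g * q * g⁻¹ ∈ Qc X := Qc_normal hg hq
      have := hcc _ hq'
      calc g⁻¹ * c * g * q = g⁻¹ * (c * (g * q * g⁻¹)) * g := by group
        _ = g⁻¹ * ((g * q * g⁻¹) * c) * g := by rw [this]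
        _ = q * (g⁻¹ * c * g) := by group
    · rcases Syl3_maximal hTX (le_sup_left : T ≤ T ⊔ zpowers (g⁻¹ * c * g))
        (sup_le hTX.1 (by
          rw [zpowers_le]
          exact X.mul_mem (X.mul_mem (X.inv_mem hg) hcX) hg)) with h2 | h2
      · exfalso
        apply hgT
        rw [← h2]
        exact (le_sup_right : zpowers (g⁻¹ * c * g) ≤ _) (mem_zpowers _)
      · exact h2
  obtain ⟨ρ, hρX, hρc, hρT⟩ := key hTX hX
  obtain ⟨σ, hσY, hσc, hσT⟩ := key hTY hY
  have hTnorm : ∀ g ∈ T, MulAut.conj g • (Qc X ⊓ Qc Y) = Qc X ⊓ Qc Y := by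
    intro g hg
    rw [cj_inf, cj_Qc, cj_Qc, cj_eq_self_of_mem (hTX.1 hg), cj_eq_self_of_mem (hTY.1 hg)]
  have hD : Qc X ⊓ Qc Y = ⊥ := by
    apply core
    · exact inf_le_left.trans (Qc_le hTX)
    · intro g hg
      rw [cj_eq_self_iff]
      have : T ⊔ zpowers ρ ≤ normalizer ((Qc X ⊓ Qc Y : Subgroup G) : Set G) := by
        apply sup_le
        · intro k hk
          exact cj_eq_self_iff.mp (hTnorm k hk)
        · rw [zpowers_le]
          apply cj_eq_self_iff.mp
          apply cj_eq_self_of_comm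
          intro y hy
          exact hρc y hy.1
      rw [hρT] at this
      exact this hg
    · intro g hg
      rw [cj_eq_self_iff]
      have : T ⊔ zpowers σ ≤ normalizer ((Qc X ⊓ Qc Y : Subgroup G) : Set G) := by
        apply sup_le
        · intro k hk
          exact cj_eq_self_iff.mp (hTnorm k hk)
        · rw [zpowers_le]
          apply cj_eq_self_iff.mp
          apply cj_eq_self_of_comm
          intro y hy
          exact hσc y hy.2
      rw [hσT] at this
      exact this hg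
  have h1 := card_mul_le_of_disjoint (Qc_le hTX) (Qc_le hTY) hD
  have h2 : ∀ {X : Subgroup G}, T ∈ Syl3 X → NN X → Nat.card T = 2 * Nat.card (Qc X) := by
    intro X hTX nnX
    have h1 := Subgroup.card_mul_index ((Qc X).subgroupOf T)
    have h2 : Nat.card ((Qc X).subgroupOf T) = Nat.card (Qc X) :=
      Nat.card_congr (subgroupOfEquivOfLe (Qc_le hTX)).toEquiv
    have h3 : ((Qc X).subgroupOf T).index = 2 := Qc_relIndex nnX hTX
    rw [h2, h3] at h1
    omega
  have h3 := h2 hTX nnX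
  have h4 := h2 hTY nnY
  have hpos : 0 < Nat.card (Qc X) := Nat.card_pos
  have : Nat.card (Qc X) = Nat.card (Qc Y) := by omega
  rw [← this] at h1
  have : Nat.card (Qc X) ≤ 2 := by
    by_contra hc
    push Not at hc
    nlinarith
  omega

/-! ### The global framework -/

section action

variable {Ω : Type*} [MulAction G Ω]

/-- the point stabilizer -/
abbrev St (G : Type*) [Group G] {Ω : Type*} [MulAction G Ω] (x : Ω) : Subgroup G :=
  MulAction.stabilizer G x

theorem mem_St {g : G} {x : Ω} : g ∈ St G x ↔ g • x = x := MulAction.mem_stabilizer_iff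

theorem St_smul (g : G) (x : Ω) : St G (g • x) = MulAut.conj g • St G x := by
  ext k
  rw [mem_cj, mem_St, mem_St]
  constructor
  · intro h
    rw [mul_smul, mul_smul, h, inv_smul_smul]
  · intro h
    have : k • g • x = g • ((g⁻¹ * k * g) • x) := by
      rw [mul_smul, mul_smul, smul_inv_smul]
    rw [this, h]

/-- the hypotheses on the family of point stabilizers -/
structure Sys (G : Type*) [Group G] (Ω : Type*) [MulAction G Ω] : Prop where
  trans : ∀ x y : Ω, ∃ g : G, g • x = y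
  coatom : ∀ x : Ω, IsCoatom (St G x)
  inj : ∀ x y : Ω, St G x = St G y → x = y
  core : ∀ (N : Subgroup G) (x : Ω), N ≤ St G x → (∀ g : G, MulAut.conj g • N = N) → N = ⊥
  syl : ∀ x : Ω, ∃ S, S ∈ Syl3 (St G x)
  nn : ∀ x : Ω, NN (St G x)
  con : ∀ x : Ω, CON (St G x)
  znc : ∀ x : Ω, ZNC (St G x)

theorem Sys.sup_eq_top (h : Sys G Ω) {x : Ω} {K : Subgroup G} (hK : ¬ K ≤ St G x) :
    St G x ⊔ K = ⊤ := by
  apply (h.coatom x).2
  apply lt_of_le_of_ne le_sup_left
  intro he
  apply hK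
  rw [he]
  exact le_sup_right

theorem Sys.le_imp_eq (h : Sys G Ω) {x y : Ω} (hle : St G x ≤ St G y) : x = y := by
  apply h.inj
  by_contra hne
  have := (h.coatom x).2 _ (lt_of_le_of_ne hle hne)
  exact (h.coatom y).1 this

theorem Sys.core_of_normalizer (h : Sys G Ω) {N : Subgroup G} {x : Ω} (hN : N ≤ St G x)
    {K : Subgroup G} (hK : ¬ K ≤ St G x) (h1 : ∀ g ∈ St G x, MulAut.conj g • N = N)
    (h2 : ∀ g ∈ K, MulAut.conj g • N = N) : N = ⊥ := by
  apply h.core N x hN
  intro g
  rw [cj_eq_self_iff]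
  have : St G x ⊔ K ≤ normalizer (N : Set G) :=
    sup_le (fun g hg => cj_eq_self_iff.mp (h1 g hg)) (fun g hg => cj_eq_self_iff.mp (h2 g hg))
  rw [h.sup_eq_top hK] at this
  exact this (mem_top g)

theorem Sys.core_of_two (h : Sys G Ω) {N : Subgroup G} {x y : Ω} (hne : x ≠ y)
    (hN : N ≤ St G x) (h1 : ∀ g ∈ St G x, MulAut.conj g • N = N)
    (h2 : ∀ g ∈ St G y, MulAut.conj g • N = N) : N = ⊥ := by
  apply h.core_of_normalizer hN _ h1 h2
  intro hle
  exact hne (h.le_imp_eq hle).symm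

/-- the centralizer of a nonidentity central element of a point stabilizer -/
theorem Sys.mem_of_comm (h : Sys G Ω) {x : Ω} {r : G} (hr : r ≠ 1) (hrx : r ∈ St G x)
    (hc : ∀ g ∈ St G x, g * r = r * g) {g : G} (hg : g * r = r * g) : g ∈ St G x := by
  by_contra hgx
  have hK : ¬ zpowers g ≤ St G x := fun hle => hgx (hle (mem_zpowers g))
  have h0 : zpowers r = ⊥ := by
    apply h.core_of_normalizer (x := x) (K := zpowers g) _ hK
    · intro k hk
      apply cj_eq_self_of_comm
      intro y hy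
      exact comm_of_mem_zpowers' (hc k hk) hy
    · intro k hk
      apply cj_eq_self_of_comm
      intro y hy
      exact comm_of_mem_zpowers' (comm_of_mem_zpowers hg hk) hy
    · rw [zpowers_le]
      exact hrx
  apply hr
  have : r ∈ zpowers r := mem_zpowers r
  rw [h0, mem_bot] at this
  exact this

theorem Sys.eq_of_central (h : Sys G Ω) {x y : Ω} {r : G} (hr : r ≠ 1) (hrx : r ∈ St G x)
    (hc : ∀ g ∈ St G x, g * r = r * g) (hc' : ∀ g ∈ St G y, g * r = r * g) : y = x := by
  apply h.le_imp_eq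
  intro g hg
  exact h.mem_of_comm hr hrx hc (hc' g hg)

theorem Sys.card_St [Finite G] (h : Sys G Ω) (x y : Ω) :
    Nat.card (St G x) = Nat.card (St G y) := by
  obtain ⟨g, rfl⟩ := h.trans x y
  rw [St_smul, cj_card]

theorem Sys.conj_pair [Finite G] (h : Sys G Ω) {x y : Ω} {S S' : Subgroup G}
    (hS : S ∈ Syl3 (St G x)) (hS' : S' ∈ Syl3 (St G y)) :
    ∃ g : G, g • x = y ∧ MulAut.conj g • S = S' := by
  obtain ⟨g0, hg0⟩ := h.trans x y
  have h1 : MulAut.conj g0 • S ∈ Syl3 (St G y) := by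
    have := cj_mem_Syl3 g0 hS
    rwa [← St_smul, hg0] at this
  obtain ⟨k, hk, hk'⟩ := Syl3_conj h1 hS'
  refine ⟨k * g0, ?_, ?_⟩
  · rw [mul_smul, hg0]
    exact mem_St.mp hk
  · rw [cj_mul]
    exact hk'

/-- the relation: joined by a suborbit of length three -/
def Rel (G : Type*) [Group G] {Ω : Type*} [MulAction G Ω] (x y : Ω) : Prop :=
  x ≠ y ∧ St G x ⊓ St G y ∈ Syl3 (St G x) ∧ St G x ⊓ St G y ∈ Syl3 (St G y)

theorem Rel.symm {x y : Ω} (h : Rel G x y) : Rel G y x := by
  refine ⟨h.1.symm, ?_, ?_⟩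
  · rw [inf_comm]
    exact h.2.2
  · rw [inf_comm]
    exact h.2.1

theorem Rel.smul {x y : Ω} (h : Rel G x y) (g : G) : Rel G (g • x) (g • y) := by
  refine ⟨fun he => h.1 (smul_left_cancel g he), ?_, ?_⟩
  · rw [St_smul, St_smul, ← cj_inf]
    exact cj_mem_Syl3 g h.2.1
  · rw [St_smul, St_smul, ← cj_inf]
    exact cj_mem_Syl3 g h.2.2

theorem Sys.rel_of_le [Finite G] (h : Sys G Ω) {x y : Ω} {S : Subgroup G} (hne : x ≠ y)
    (hS : S ∈ Syl3 (St G x)) (hy : S ≤ St G y) : Rel G x y ∧ St G x ⊓ St G y = S := by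
  have h1 : St G x ⊓ St G y = S := by
    rcases Syl3_maximal hS (le_inf hS.1 hy) inf_le_left with h2 | h2
    · exact h2
    · exfalso
      apply hne
      apply h.le_imp_eq
      rw [← h2]
      exact inf_le_right
  refine ⟨⟨hne, ?_, ?_⟩, h1⟩
  · rw [h1]
    exact hS
  · rw [h1]
    apply mem_Syl3_of_card hy hS.2.1
    rw [← h.card_St x y]
    exact card_eq_of_Syl3 hS

/-- transitivity of the normalizer on the fixed points of a Sylow subgroup -/
theorem Sys.fix_trans [Finite G] (h : Sys G Ω) {x y : Ω} {S : Subgroup G}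
    (hS : S ∈ Syl3 (St G x)) (hy : S ≤ St G y) :
    ∃ n : G, n • x = y ∧ MulAut.conj n • S = S := by
  by_cases hne : x = y
  · subst hne
    exact ⟨1, one_smul _ _, cj_one S⟩
  · obtain ⟨hrel, he⟩ := h.rel_of_le hne hS hy
    have : S ∈ Syl3 (St G y) := by
      rw [← he]
      exact hrel.2.2
    exact h.conj_pair hS this

/-! ### Walks -/

/-- walks of given length for a relation -/
inductive Wk (R : Ω → Ω → Prop) : ℕ → Ω → Ω → Prop
  | nil (x : Ω) : Wk R 0 x x
  | cons {k : ℕ} {x y z : Ω} : R x y → Wk R k y z → Wk R (k + 1) x z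

theorem Wk.one {R : Ω → Ω → Prop} {x y : Ω} (h : R x y) : Wk R 1 x y :=
  Wk.cons h (Wk.nil y)

theorem Wk.snoc {R : Ω → Ω → Prop} {k : ℕ} {x y z : Ω} (h : Wk R k x y) (hr : R y z) :
    Wk R (k + 1) x z := by
  induction h with
  | nil x => exact Wk.one hr
  | cons h1 _ ih => exact Wk.cons h1 (ih hr)

theorem Wk.symm {R : Ω → Ω → Prop} (hR : ∀ x y, R x y → R y x) {k : ℕ} {x y : Ω}
    (h : Wk R k x y) : Wk R k y x := by
  induction h with
  | nil x => exact Wk.nil x
  | cons h1 _ ih => exact ih.snoc (hR _ _ h1)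

theorem Wk.zero_eq {R : Ω → Ω → Prop} {x y : Ω} (h : Wk R 0 x y) : x = y := by
  cases h
  rfl

theorem Wk.succ_first {R : Ω → Ω → Prop} {k : ℕ} {x z : Ω} (h : Wk R (k + 1) x z) :
    ∃ y, R x y ∧ Wk R k y z := by
  cases h with
  | cons h1 h2 => exact ⟨_, h1, h2⟩

theorem Wk.succ_last {R : Ω → Ω → Prop} {k : ℕ} {x z : Ω} (h : Wk R (k + 1) x z) :
    ∃ y, Wk R k x y ∧ R y z := by
  induction k generalizing x with
  | zero =>
    obtain ⟨y, h1, h2⟩ := h.succ_first
    have := h2.zero_eq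
    subst this
    exact ⟨x, Wk.nil x, h1⟩
  | succ k ih =>
    obtain ⟨y, h1, h2⟩ := h.succ_first
    obtain ⟨y', h3, h4⟩ := ih h2
    exact ⟨y', Wk.cons h1 h3, h4⟩

theorem Wk.smul {k : ℕ} {x y : Ω} (h : Wk (Rel G) k x y) (g : G) :
    Wk (Rel G) k (g • x) (g • y) := by
  induction h with
  | nil x => exact Wk.nil _
  | cons h1 _ ih => exact Wk.cons (h1.smul g) ih

end action

end Cfsg.Agent.Lib.Helper6.Sims
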