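import Mathlib
import Cfsg.Agent.Lib.Helper6.SimsE

/-!
Sims' theorem: critical walks of minimal length; basic properties.
-/

set_option autoImplicit false
set_option linter.unusedSectionVars false
set_option linter.style.haveILetI false

namespace Cfsg.Agent.Lib.Helper6.Sims

open Subgroup Pointwise

variable {G : Type*} [Group G] {Ω : Type*} [MulAction G Ω]

/-- `Vc` of the point stabilizer -/
abbrev Vx (G : Type*) [Group G] {Ω : Type*} [MulAction G Ω] (x : Ω) : Subgroup G := Vc (St G x)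

/-- `Qc` of the point stabilizer -/
abbrev Qx (G : Type*) [Group G] {Ω : Type*} [MulAction G Ω] (x : Ω) : Subgroup G := Qc (St G x)

theorem Vx_smul (g : G) (x : Ω) : Vx G (g • x) = MulAut.conj g • Vx G x := by
  change Vc (St G (g • x)) = MulAut.conj g • Vc (St G x)
  rw [St_smul, cj_Vc]

theorem Qx_smul (g : G) (x : Ω) : Qx G (g • x) = MulAut.conj g • Qx G x := by
  change Qc (St G (g • x)) = MulAut.conj g • Qc (St G x)
  rw [St_smul, cj_Qc]

theorem Rel.Q_le_left {x y : Ω} (h : Rel G x y) : Qx G x ≤ St G x ⊓ St G y := Qc_le h.2.1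

theorem Rel.Q_le_right {x y : Ω} (h : Rel G x y) : Qx G y ≤ St G x ⊓ St G y := Qc_le h.2.2

/-- an element of `Zs` of two different members of `Syl3 X` is central in `X` -/
theorem comm_of_Zs_two {X S S' : Subgroup G} (hS : S ∈ Syl3 X) (hS' : S' ∈ Syl3 X)
    (hne : S ≠ S') {r : G} (h1 : r ∈ Zs S) (h2 : r ∈ Zs S') : ∀ g ∈ X, g * r = r * g := by
  intro g hg
  have : S ⊔ S' ≤ centralizer ({r} : Set G) := by
    apply sup_le
    · intro s hs
      rw [mem_centralizer_iff]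
      intro y hy
      rw [Set.mem_singleton_iff] at hy
      rw [hy]
      exact ((mem_Zs.mp h1).2.1 s hs).symm
    · intro s hs
      rw [mem_centralizer_iff]
      intro y hy
      rw [Set.mem_singleton_iff] at hy
      rw [hy]
      exact ((mem_Zs.mp h2).2.1 s hs).symm
  rw [Syl3_sup hS hS' hne] at this
  exact (mem_centralizer_iff.mp (this hg) r (Set.mem_singleton r)).symm

/-- a critical walk of minimal length `b' + 2` -/
structure Crit (G : Type*) [Group G] {Ω : Type*} [MulAction G Ω] (b' : ℕ) (x x' y' y : Ω) :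
    Prop where
  hmin : ∀ k < b' + 2, ∀ p q : Ω, Wk (Rel G) k p q → Vx G p ≤ Qx G q
  r1 : Rel G x x'
  wk : Wk (Rel G) b' x' y'
  r2 : Rel G y' y
  hc : ¬ Vx G x ≤ Qx G y

namespace Crit

variable {b' : ℕ} {x x' y' y : Ω}

theorem V_le_Qy' (c : Crit G b' x x' y' y) : Vx G x ≤ Qx G y' :=
  c.hmin (b' + 1) (by omega) _ _ (Wk.cons c.r1 c.wk)

theorem V_le_Qx' (c : Crit G b' x x' y' y) : Vx G x ≤ Qx G x' :=
  c.hmin 1 (by omega) _ _ (Wk.one c.r1)

theorem Vx'_le_Qy (c : Crit G b' x x' y' y) : Vx G x' ≤ Qx G y :=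
  c.hmin (b' + 1) (by omega) _ _ (c.wk.snoc c.r2)

theorem smul (c : Crit G b' x x' y' y) (g : G) : Crit G b' (g • x) (g • x') (g • y') (g • y) :=
  ⟨c.hmin, c.r1.smul g, c.wk.smul g, c.r2.smul g, by
    rw [Vx_smul, Qx_smul, cj_le_cj]
    exact c.hc⟩

theorem V_le_St (c : Crit G b' x x' y' y) : Vx G x ≤ St G y' ⊓ St G y :=
  c.V_le_Qy'.trans c.r2.Q_le_left

variable [Finite G]

theorem not_le_symm (h : Sys G Ω) (c : Crit G b' x x' y' y) : ¬ Vx G y ≤ Qx G x := by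
  intro hle
  apply c.hc
  intro u hu
  apply mem_Qc_of_centralizes (h.znc y) (c.V_le_St hu).2
  intro v hv
  exact Vc_comm_Qc hu (hle hv)

theorem symm (h : Sys G Ω) (c : Crit G b' x x' y' y) : Crit G b' y y' x' x :=
  ⟨c.hmin, c.r2.symm, c.wk.symm (fun _ _ => Rel.symm), c.r1.symm, c.not_le_symm h⟩

theorem Vy_le_St (h : Sys G Ω) (c : Crit G b' x x' y' y) : Vx G y ≤ St G x ⊓ St G x' := by
  have := (c.symm h).V_le_St
  rwa [inf_comm] at this

/-- the commutator of two witnesses -/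
theorem comm_mem (h : Sys G Ω) (c : Crit G b' x x' y' y) {u t : G} (hu : u ∈ Vx G x)
    (hu' : u ∉ Qx G y) (ht : t ∈ Vx G y) (ht' : t ∉ Qx G x) :
    u * t * u⁻¹ * t⁻¹ ≠ 1 ∧ u * t * u⁻¹ * t⁻¹ ∈ Zs (St G x ⊓ St G x') ∧
      u * t * u⁻¹ * t⁻¹ ∈ Zs (St G y' ⊓ St G y) ∧ u * t * u⁻¹ * t⁻¹ ∈ Vx G x ∧
      u * t * u⁻¹ * t⁻¹ ∈ Vx G y := by
  have htS : t ∈ St G x ⊓ St G x' := c.Vy_le_St h ht
  have huS : u ∈ St G y' ⊓ St G y := c.V_le_St hu
  have hrVx : u * t * u⁻¹ * t⁻¹ ∈ Vx G x := by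
    have e : u * t * u⁻¹ * t⁻¹ = u * (t * u⁻¹ * t⁻¹) := by group
    rw [e]
    exact (Vx G x).mul_mem hu (Vc_normal htS.1 ((Vx G x).inv_mem hu))
  have hrVy : u * t * u⁻¹ * t⁻¹ ∈ Vx G y :=
    (Vx G y).mul_mem (Vc_normal huS.2 ht) ((Vx G y).inv_mem ht)
  refine ⟨?_, ?_, ?_, hrVx, hrVy⟩
  · intro h1
    apply hu'
    have h2 : u * t = t * u := by
      have e : u * t = (u * t * u⁻¹ * t⁻¹) * (t * u) := by group
      rw [e, h1, one_mul]
    have h3 : u ∈ Zs (St G x ⊓ St G x') :=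
      mem_Zs_of_comm (h.nn x) (h.con x) c.r1.2.1 htS ht' hu h2
    exact c.Vx'_le_Qy (Zs_le_Vc c.r1.2.2 h3)
  · exact mem_Zs_of_comm (h.nn x) (h.con x) c.r1.2.1 htS ht' hrVx (Vc_comm (h.con y) hrVy ht)
  · exact mem_Zs_of_comm (h.nn y) (h.con y) c.r2.2.2 huS hu' hrVy (Vc_comm (h.con x) hrVx hu)

theorem mem_Q_iff (h : Sys G Ω) (c : Crit G b' x x' y' y) {v : G} (hv : v ∈ Vx G x) :
    v ∈ Qx G y ↔ v ∈ Zs (St G x ⊓ St G x') := by
  constructor
  · intro hvQ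
    obtain ⟨t, ht, ht'⟩ := SetLike.not_le_iff_exists.mp (c.not_le_symm h)
    exact mem_Zs_of_comm (h.nn x) (h.con x) c.r1.2.1 (c.Vy_le_St h ht) ht' hv
      (Vc_comm_Qc ht hvQ).symm
  · intro hvZ
    exact c.Vx'_le_Qy (Zs_le_Vc c.r1.2.2 hvZ)

/-- any subgroup between `Vx G x` and `Qx G y'` is normalized by `Vx G y` -/
theorem conj_t (h : Sys G Ω) (c : Crit G b' x x' y' y) {F : Subgroup G} (hVF : Vx G x ≤ F)
    (hF : F ≤ Qx G y') {t : G} (ht : t ∈ Vx G y) : MulAut.conj t • F = F := by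
  obtain ⟨u, hu, hu'⟩ := SetLike.not_le_iff_exists.mp c.hc
  have key : ∀ t ∈ Vx G y, ∀ f ∈ F, t * f * t⁻¹ ∈ F := by
    intro t ht f hf
    by_cases hfQ : f ∈ Qx G y
    · have : t * f = f * t := Vc_comm_Qc ht hfQ
      rw [this]
      have e : f * t * t⁻¹ = f := by group
      rw [e]
      exact hf
    · have hfS : f ∈ St G y' ⊓ St G y := c.r2.Q_le_left (hF hf)
      have h1 : f * u ∈ Qx G y := mul_mem_Qc (h.nn y) c.r2.2.2 hfS (c.V_le_St hu) hfQ hu'
      have h2 : t * (f * u) = (f * u) * t := Vc_comm_Qc ht h1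
      have e : t * f * t⁻¹ = (t * (f * u)) * u⁻¹ * t⁻¹ := by group
      rw [e, h2]
      have e2 : f * u * t * u⁻¹ * t⁻¹ = (f * u) * (t * u⁻¹ * t⁻¹) := by group
      rw [e2]
      apply F.mul_mem (F.mul_mem hf (hVF hu))
      exact hVF (Vc_normal (c.Vy_le_St h ht).1 ((Vx G x).inv_mem hu))
  ext g
  rw [mem_cj]
  constructor
  · intro hg
    have := key t ht _ hg
    have e : t * (t⁻¹ * g * t) * t⁻¹ = g := by group
    rwa [e] at this
  · intro hg
    have := key t⁻¹ ((Vx G y).inv_mem ht) _ hg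
    rwa [inv_inv] at this

end Crit

end Cfsg.Agent.Lib.Helper6.Sims
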