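import Mathlib
import Cfsg.Agent.Lib.Helper6.SimsF

/-!
Sims' theorem: a critical walk of minimal length has length one.
-/

set_option autoImplicit false
set_option linter.unusedSectionVars false
set_option linter.style.haveILetI false

namespace Cfsg.Agent.Lib.Helper6.Sims

open Subgroup Pointwise

variable {G : Type*} [Group G] {Ω : Type*} [MulAction G Ω]

/-- the subgroup generated by the `Vx G μ` for the fixed points `μ` of `R` -/
def AR (G : Type*) [Group G] (Ω : Type*) [MulAction G Ω] (R : Subgroup G) : Subgroup G :=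
  ⨆ μ ∈ {μ : Ω | R ≤ St G μ}, Vx G μ

theorem cj_AR_le (g : G) (R : Subgroup G) :
    MulAut.conj g • AR G Ω R ≤ AR G Ω (MulAut.conj g • R) := by
  rw [← cj_le_cj (g := g⁻¹), cj_inv_cj]
  unfold AR
  apply iSup₂_le
  intro μ hμ
  rw [← cj_le_cj (g := g), cj_cj_inv, ← Vx_smul]
  have hmem : g • μ ∈ {μ : Ω | MulAut.conj g • R ≤ St G μ} := by
    change MulAut.conj g • R ≤ St G (g • μ)
    rw [St_smul, cj_le_cj]
    exact hμ
  exact le_iSup₂_of_le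
    (f := fun μ (_ : μ ∈ {μ : Ω | MulAut.conj g • R ≤ St G μ}) => Vx G μ) (g • μ) hmem le_rfl

theorem cj_AR (g : G) (R : Subgroup G) :
    MulAut.conj g • AR G Ω R = AR G Ω (MulAut.conj g • R) := by
  apply le_antisymm (cj_AR_le g R)
  have := cj_AR_le (Ω := Ω) g⁻¹ (MulAut.conj g • R)
  rw [cj_inv_cj] at this
  have h3 := cj_le_cj (g := g).mpr this
  rwa [cj_cj_inv] at h3

theorem invol_comm_sq {a d : G} (ha : a * a = 1) (hd : d * d = 1) :
    a * (d * a * d⁻¹) * a⁻¹ * (d * a * d⁻¹)⁻¹ = (a * d * a⁻¹ * d⁻¹) * (a * d * a⁻¹ * d⁻¹) := by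
  have ha' : a⁻¹ = a := inv_eq_of_mul_eq_one_left ha
  have hd' : d⁻¹ = d := inv_eq_of_mul_eq_one_left hd
  have e : (d * a * d⁻¹)⁻¹ = d * a * d⁻¹ := by
    calc (d * a * d⁻¹)⁻¹ = d * a⁻¹ * d⁻¹ := by group
      _ = d * a * d⁻¹ := by rw [ha']
  rw [e, ha', hd']
  simp only [mul_assoc]

namespace Crit

variable {b' : ℕ} {x x' y' y : Ω} [Finite G]

/-- some extension of the walk at its origin is critical -/
theorem ext_exists (h : Sys G Ω) (c : Crit G b' x x' y' y) :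
    ∃ μ : Ω, Rel G μ x ∧ St G x ⊓ St G μ ≠ St G x ⊓ St G x' ∧ ¬ Vx G μ ≤ Qx G y' := by
  by_contra hcon
  push Not at hcon
  obtain ⟨t, ht, ht'⟩ := SetLike.not_le_iff_exists.mp (c.not_le_symm h)
  have htS := c.Vy_le_St h ht
  have hS1x : St G x ⊓ St G x' ∈ Syl3 (St G x) := c.r1.2.1
  obtain ⟨g0, hg0, hne0⟩ := h.nn x _ hS1x
  have hS'x : MulAut.conj g0 • (St G x ⊓ St G x') ∈ Syl3 (St G x) := cj_mem_Syl3_self hg0 hS1x
  have hA_le : ∀ R ∈ Syl3 (St G x), R ≠ St G x ⊓ St G x' → AR G Ω R ≤ Qx G y' := by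
    intro R hR hne
    unfold AR
    apply iSup₂_le
    intro μ hμ
    by_cases hμx : μ = x
    · rw [hμx]
      exact c.V_le_Qy'
    · obtain ⟨hrel, he⟩ := h.rel_of_le (Ne.symm hμx) hR hμ
      exact hcon μ hrel.symm (by rw [he]; exact hne)
  have hV_le : ∀ R ∈ Syl3 (St G x), Vx G x ≤ AR G Ω R :=
    fun R hR => le_iSup₂_of_le (f := fun μ (_ : μ ∈ {μ : Ω | R ≤ St G μ}) => Vx G μ) x hR.1 le_rfl
  have h4 : ∀ g ∈ St G x, MulAut.conj g • AR G Ω (MulAut.conj g0 • (St G x ⊓ St G x')) =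
      AR G Ω (MulAut.conj g0 • (St G x ⊓ St G x')) := by
    have : MulAut.conj g0 • (St G x ⊓ St G x') ⊔ zpowers t ≤
        normalizer ((AR G Ω (MulAut.conj g0 • (St G x ⊓ St G x')) : Subgroup G) : Set G) := by
      apply sup_le
      · intro g hg
        apply cj_eq_self_iff.mp
        rw [cj_AR, cj_eq_self_of_mem hg]
      · rw [zpowers_le]
        apply cj_eq_self_iff.mp
        exact c.conj_t h (hV_le _ hS'x) (hA_le _ hS'x hne0) ht
    rw [sup_zpowers_eq hS1x hS'x (Ne.symm hne0) htS ht'] at this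
    intro g hg
    exact cj_eq_self_iff.mpr (this hg)
  have h5 : AR G Ω (St G x ⊓ St G x') = AR G Ω (MulAut.conj g0 • (St G x ⊓ St G x')) := by
    have e : MulAut.conj g0⁻¹ • (MulAut.conj g0 • (St G x ⊓ St G x')) = St G x ⊓ St G x' :=
      cj_inv_cj _ _
    rw [← h4 _ ((St G x).inv_mem hg0), cj_AR, e]
  obtain ⟨n, hn, hnS⟩ := h.fix_trans hS1x (inf_le_right : St G x ⊓ St G x' ≤ St G x')
  have hnx : n ∉ St G x := by
    rw [mem_St, hn]
    exact c.r1.1.symm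
  have h6 : MulAut.conj n • AR G Ω (MulAut.conj g0 • (St G x ⊓ St G x')) =
      AR G Ω (MulAut.conj g0 • (St G x ⊓ St G x')) := by
    rw [← h5, cj_AR, hnS]
  have hbot : AR G Ω (MulAut.conj g0 • (St G x ⊓ St G x')) = ⊥ := by
    apply h.core _ y' ((hA_le _ hS'x hne0).trans (Qc_le_self _))
    intro g
    rw [cj_eq_self_iff]
    have : St G x ⊔ zpowers n ≤
        normalizer ((AR G Ω (MulAut.conj g0 • (St G x ⊓ St G x')) : Subgroup G) : Set G) :=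
      sup_le (fun g hg => cj_eq_self_iff.mp (h4 g hg))
        (by rw [zpowers_le]; exact cj_eq_self_iff.mp h6)
    rw [h.sup_eq_top (K := zpowers n) (fun hle => hnx (hle (mem_zpowers n)))] at this
    exact this (mem_top g)
  apply c.hc
  have : Vx G x ≤ AR G Ω (MulAut.conj g0 • (St G x ⊓ St G x')) := hV_le _ hS'x
  rw [hbot] at this
  exact this.trans bot_le

/-- a nonidentity commutator which is central in the stabilizer of the origin -/
theorem exists_central (h : Sys G Ω) (c : Crit G b' x x' y' y) :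
    ∃ (y'' : Ω) (v s : G), Wk (Rel G) b' x y'' ∧ Rel G y'' y' ∧ v ∈ Vx G y' ∧ s ∈ Qx G x ∧
      v * s * v⁻¹ * s⁻¹ ≠ 1 ∧ v * s * v⁻¹ * s⁻¹ ∈ St G x ∧
      (∀ g ∈ St G x, g * (v * s * v⁻¹ * s⁻¹) = (v * s * v⁻¹ * s⁻¹) * g) ∧
      v * s * v⁻¹ * s⁻¹ ∈ Zs (St G y' ⊓ St G y'') := by
  obtain ⟨μ, hμ, hμS, hμc⟩ := c.ext_exists h
  obtain ⟨y'', hw, hr⟩ := (Wk.cons c.r1 c.wk).succ_last
  have c2 : Crit G b' μ x y'' y' := ⟨c.hmin, hμ, hw, hr, hμc⟩
  have c2s := c2.symm h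
  obtain ⟨t, ht, ht'⟩ := SetLike.not_le_iff_exists.mp (c.not_le_symm h)
  have htS := c.Vy_le_St h ht
  have htQ : t ∈ Qx G y' := (c.symm h).V_le_Qx' ht
  obtain ⟨v, hv, hv'⟩ := SetLike.not_le_iff_exists.mp c2s.hc
  obtain ⟨s, hs, hs'⟩ := SetLike.not_le_iff_exists.mp c2.hc
  obtain ⟨hne, hZ1, hZ2, hV1, hV2⟩ := c2s.comm_mem h hv hv' hs hs'
  have hrt : t * (v * s * v⁻¹ * s⁻¹) * t⁻¹ = v * s * v⁻¹ * s⁻¹ := by
    have : (v * s * v⁻¹ * s⁻¹) * t = t * (v * s * v⁻¹ * s⁻¹) := Vc_comm_Qc hV1 htQ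
    rw [← this]
    group
  have hZ3 : v * s * v⁻¹ * s⁻¹ ∈ Zs (St G x ⊓ St G (t • μ)) := by
    have h1 : t * (v * s * v⁻¹ * s⁻¹) * t⁻¹ ∈ MulAut.conj t • Zs (St G x ⊓ St G μ) := cj_mem hZ2
    rw [cj_Zs, cj_inf, ← St_smul, ← St_smul, mem_St.mp htS.1, hrt] at h1
    exact h1
  have hSμ : St G x ⊓ St G μ ∈ Syl3 (St G x) := hμ.symm.2.1
  have htμ : t ∉ St G x ⊓ St G μ := not_mem_of_ne c.r1.2.1 hSμ (Ne.symm hμS) htS ht'
  have hSμ' : St G x ⊓ St G (t • μ) ∈ Syl3 (St G x) := by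
    have := cj_mem_Syl3_self htS.1 hSμ
    rwa [cj_inf, ← St_smul, ← St_smul, mem_St.mp htS.1] at this
  have hne2 : St G x ⊓ St G μ ≠ St G x ⊓ St G (t • μ) := by
    intro he
    apply htμ
    apply Syl3_normalizer (h.nn x) hSμ htS.1
    rw [cj_inf, ← St_smul, ← St_smul, mem_St.mp htS.1]
    exact he.symm
  have hcen := comm_of_Zs_two hSμ hSμ' hne2 hZ2 hZ3
  exact ⟨y'', v, s, hw, hr, hv, c2.V_le_Qx' hs, hne, (Zs_le _ hZ2).1, hcen, hZ1⟩

theorem b_eq_zero (h : Sys G Ω) (c : Crit G b' x x' y' y) : b' = 0 := by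
  obtain ⟨y'', v, s, hw, hr, hv, hs, hne, hrx, hcen, hZ⟩ := c.exists_central h
  by_contra hb
  have hxy' : x ≠ y' := by
    intro he
    apply c.hc
    have : Rel G x y := by
      rw [he]
      exact c.r2
    exact c.hmin 1 (by omega) _ _ (Wk.one this)
  have hle : St G y' ⊓ St G y'' ≤ St G x := by
    intro g hg
    apply h.mem_of_comm hne hrx hcen
    exact (mem_Zs.mp hZ).2.1 g hg
  obtain ⟨hrel, _⟩ := h.rel_of_le (Ne.symm hxy') hr.symm.2.1 hle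
  apply c.hc
  exact c.hmin 2 (by omega) _ _ (Wk.cons hrel.symm (Wk.one c.r2))

theorem central (h : Sys G Ω) (c : Crit G 0 x x' y' y) {r : G}
    (h1 : r ∈ Zs (St G x ⊓ St G x')) (h2 : r ∈ Zs (St G y' ⊓ St G y)) :
    ∀ g ∈ St G x', g * r = r * g := by
  have he : x' = y' := c.wk.zero_eq
  subst he
  apply comm_of_Zs_two c.r1.2.2 c.r2.2.1 _ h1 h2
  intro he2
  have hxy : x ≠ y := by
    intro e
    apply c.hc
    rw [← e]
    exact Vc_le_Qc (h.con x)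
  have hle : St G x ⊓ St G x' ≤ St G y := by
    rw [he2]
    exact inf_le_right
  obtain ⟨hrel, _⟩ := h.rel_of_le hxy c.r1.2.1 hle
  exact c.hc (c.hmin 1 (by omega) _ _ (Wk.one hrel))

/-- nonidentity commutators of `Vx G x` with the first Sylow subgroup are all equal -/
theorem comm_unique (h : Sys G Ω) (c : Crit G b' x x' y' y) {v v' s s' : G} (hv : v ∈ Vx G x)
    (hv' : v' ∈ Vx G x) (hs : s ∈ St G x ⊓ St G x') (hs' : s' ∈ St G x ⊓ St G x')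
    (h1 : v * s * v⁻¹ * s⁻¹ ≠ 1) (h2 : v' * s' * v'⁻¹ * s'⁻¹ ≠ 1) :
    v * s * v⁻¹ * s⁻¹ = v' * s' * v'⁻¹ * s'⁻¹ := by
  have hS1 := c.r1.2.1
  have hsQ : ∀ {v s : G}, v ∈ Vx G x → v * s * v⁻¹ * s⁻¹ ≠ 1 → s ∉ Qx G x := by
    intro v s hv h1 hq
    apply h1
    have : v * s = s * v := Vc_comm_Qc hv hq
    rw [this]
    group
  have hvZ : ∀ {v s : G}, s ∈ St G x ⊓ St G x' → v * s * v⁻¹ * s⁻¹ ≠ 1 →
      v ∉ Zs (St G x ⊓ St G x') := by
    intro v s hs h1 hz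
    apply h1
    have : s * v = v * s := (mem_Zs.mp hz).2.1 s hs
    rw [← this]
    group
  have hq : s⁻¹ * s' ∈ Qx G x := by
    apply mul_mem_Qc (h.nn x) hS1 (Subgroup.inv_mem _ hs) hs' _ (hsQ hv' h2)
    intro hc
    apply hsQ hv h1
    have := (Qx G x).inv_mem hc
    rwa [inv_inv] at this
  have hvQ : v ∉ Qx G y := fun hc => hvZ hs h1 ((c.mem_Q_iff h hv).mp hc)
  have hvQ' : v' ∉ Qx G y := fun hc => hvZ hs' h2 ((c.mem_Q_iff h hv').mp hc)
  have hz : v⁻¹ * v' ∈ Zs (St G x ⊓ St G x') := by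
    apply (c.mem_Q_iff h ((Vx G x).mul_mem ((Vx G x).inv_mem hv) hv')).mp
    apply mul_mem_Qc (h.nn y) c.r2.2.2 (Subgroup.inv_mem _ (c.V_le_St hv)) (c.V_le_St hv') _ hvQ'
    intro hc
    apply hvQ
    have := (Qx G y).inv_mem hc
    rwa [inv_inv] at this
  obtain ⟨q, hq_def⟩ : ∃ q, q = s⁻¹ * s' := ⟨_, rfl⟩
  obtain ⟨z, hz_def⟩ : ∃ z, z = v⁻¹ * v' := ⟨_, rfl⟩
  rw [← hq_def] at hq
  rw [← hz_def] at hz
  have es : s' = s * q := by rw [hq_def]; group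
  have ev : v' = v * z := by rw [hz_def]; group
  have hzsq : (s * q) * z = z * (s * q) := (mem_Zs.mp hz).2.1 _ (by rw [← es]; exact hs')
  have hqv : v⁻¹ * q = q * v⁻¹ := Vc_comm_Qc ((Vx G x).inv_mem hv) hq
  rw [es, ev]
  calc v * s * v⁻¹ * s⁻¹ = v * s * (q * v⁻¹) * q⁻¹ * s⁻¹ := by rw [← hqv]; group
    _ = v * (z * (s * q) * z⁻¹) * v⁻¹ * (s * q)⁻¹ := by rw [← hzsq]; group
    _ = v * z * (s * q) * (v * z)⁻¹ * (s * q)⁻¹ := by group

/-- the first edge of a critical walk of length two is reversed by some element -/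
theorem swap (h : Sys G Ω) (c : Crit G 0 x x' y' y) : ∃ n : G, n • x = x' ∧ n • x' = x := by
  have he : x' = y' := c.wk.zero_eq
  subst he
  obtain ⟨y'', v, s, hw, hr, hv, hs, hne, hrx, hcen, hZ⟩ := c.exists_central h
  have : x = y'' := hw.zero_eq
  subst this
  obtain ⟨u, hu, hu'⟩ := SetLike.not_le_iff_exists.mp c.hc
  obtain ⟨t, ht, ht'⟩ := SetLike.not_le_iff_exists.mp (c.not_le_symm h)
  obtain ⟨hr1, hrZ1, hrZ2, hrV, _⟩ := c.comm_mem h hu hu' ht ht'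
  have hrc := c.central h hrZ1 hrZ2
  obtain ⟨g, hg, hgS⟩ := h.conj_pair c.r1.2.2 c.r1.2.1
  have hv2 : g * v * g⁻¹ ∈ Vx G x := by
    rw [← hg, Vx_smul]
    exact cj_mem hv
  have hs2 : g * s * g⁻¹ ∈ St G x ⊓ St G x' := by
    have : g * s * g⁻¹ ∈ MulAut.conj g • (St G x ⊓ St G x') := cj_mem (c.r1.Q_le_left hs)
    rwa [hgS] at this
  have e1 : (g * v * g⁻¹) * (g * s * g⁻¹) * (g * v * g⁻¹)⁻¹ * (g * s * g⁻¹)⁻¹ =
      g * (v * s * v⁻¹ * s⁻¹) * g⁻¹ := by group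
  have hne2 : (g * v * g⁻¹) * (g * s * g⁻¹) * (g * v * g⁻¹)⁻¹ * (g * s * g⁻¹)⁻¹ ≠ 1 := by
    rw [e1]
    intro h0
    apply hne
    have : v * s * v⁻¹ * s⁻¹ = g⁻¹ * (g * (v * s * v⁻¹ * s⁻¹) * g⁻¹) * g := by group
    rw [this, h0]
    group
  have huniq := c.comm_unique h hu hv2 (c.Vy_le_St h ht) hs2 hr1 hne2
  have hcen2 : ∀ k ∈ St G (g • x), k * (u * t * u⁻¹ * t⁻¹) = (u * t * u⁻¹ * t⁻¹) * k := by
    intro k hk
    rw [St_smul, mem_cj] at hk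
    have := hcen _ hk
    rw [huniq, e1]
    calc k * (g * (v * s * v⁻¹ * s⁻¹) * g⁻¹)
        = g * ((g⁻¹ * k * g) * (v * s * v⁻¹ * s⁻¹)) * g⁻¹ := by group
      _ = g * ((v * s * v⁻¹ * s⁻¹) * (g⁻¹ * k * g)) * g⁻¹ := by rw [this]
      _ = g * (v * s * v⁻¹ * s⁻¹) * g⁻¹ * k := by group
  have hrSt : u * t * u⁻¹ * t⁻¹ ∈ St G x' := ((Zs_le _ hrZ1)).2
  have := h.eq_of_central hr1 hrSt hrc hcen2
  exact ⟨g, this, hg⟩

/-- the other extensions of the first edge by the stabilizer of the origin are critical -/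
theorem ext (h : Sys G Ω) (c : Crit G 0 x x' y' y) {k : G} (hk : k ∈ St G x)
    (hne : k • x' ≠ x') : ¬ Vx G (k • x') ≤ Qx G x' := by
  intro hle
  have he : x' = y' := c.wk.zero_eq
  subst he
  obtain ⟨n, hn1, hn2⟩ := c.swap h
  obtain ⟨t, ht, ht'⟩ := SetLike.not_le_iff_exists.mp (c.not_le_symm h)
  have htS := c.Vy_le_St h ht
  have hFle : Vx G x ⊔ Vx G (k • x') ≤ Qx G x' := sup_le c.V_le_Qx' hle
  have h1 : MulAut.conj t • (Vx G x ⊔ Vx G (k • x')) = Vx G x ⊔ Vx G (k • x') :=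
    c.conj_t h le_sup_left hFle ht
  have hS1 := c.r1.2.1
  have hSμ : St G x ⊓ St G (k • x') = MulAut.conj k • (St G x ⊓ St G x') := by
    rw [cj_inf, ← St_smul, ← St_smul, mem_St.mp hk]
  have hSμ3 : St G x ⊓ St G (k • x') ∈ Syl3 (St G x) := by
    rw [hSμ]
    exact cj_mem_Syl3_self hk hS1
  have hneS : St G x ⊓ St G x' ≠ St G x ⊓ St G (k • x') := by
    intro e
    apply hne
    have : k ∈ St G x ⊓ St G x' := Syl3_normalizer (h.nn x) hS1 hk (by rw [← hSμ]; exact e.symm)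
    exact mem_St.mp this.2
  have h2 : ∀ g ∈ St G x ⊓ St G (k • x'),
      MulAut.conj g • (Vx G x ⊔ Vx G (k • x')) = Vx G x ⊔ Vx G (k • x') := by
    intro g hg
    rw [cj_sup, ← Vx_smul, ← Vx_smul, mem_St.mp hg.1, mem_St.mp hg.2]
  have h3 : ∀ g ∈ St G x,
      MulAut.conj g • (Vx G x ⊔ Vx G (k • x')) = Vx G x ⊔ Vx G (k • x') := by
    have : (St G x ⊓ St G (k • x')) ⊔ zpowers t ≤
        normalizer (((Vx G x ⊔ Vx G (k • x')) : Subgroup G) : Set G) :=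
      sup_le (fun g hg => cj_eq_self_iff.mp (h2 g hg))
        (by rw [zpowers_le]; exact cj_eq_self_iff.mp h1)
    rw [sup_zpowers_eq hS1 hSμ3 hneS htS ht'] at this
    intro g hg
    exact cj_eq_self_iff.mpr (this hg)
  have h4 : Vx G x ⊔ Vx G (k • x') = Vx G x ⊔ Vx G x' := by
    have := h3 k⁻¹ ((St G x).inv_mem hk)
    rw [cj_sup, ← Vx_smul, ← Vx_smul, mem_St.mp ((St G x).inv_mem hk), inv_smul_smul] at this
    exact this.symm
  have h5 : MulAut.conj n • (Vx G x ⊔ Vx G (k • x')) = Vx G x ⊔ Vx G (k • x') := by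
    rw [h4, cj_sup, ← Vx_smul, ← Vx_smul, hn1, hn2, sup_comm]
  have hnx : n ∉ St G x := by
    rw [mem_St, hn1]
    exact c.r1.1.symm
  have hbot : Vx G x ⊔ Vx G (k • x') = ⊥ := by
    apply h.core _ x' (hFle.trans (Qc_le_self _))
    intro g
    rw [cj_eq_self_iff]
    have : St G x ⊔ zpowers n ≤
        normalizer (((Vx G x ⊔ Vx G (k • x')) : Subgroup G) : Set G) :=
      sup_le (fun g hg => cj_eq_self_iff.mp (h3 g hg))
        (by rw [zpowers_le]; exact cj_eq_self_iff.mp h5)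
    rw [h.sup_eq_top (K := zpowers n) (fun hle => hnx (hle (mem_zpowers n)))] at this
    exact this (mem_top g)
  apply c.hc
  have : Vx G x ≤ Vx G x ⊔ Vx G (k • x') := le_sup_left
  rw [hbot] at this
  exact this.trans bot_le

end Crit

end Cfsg.Agent.Lib.Helper6.Sims
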