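import Mathlib
import Cfsg.Agent.Lib.Helper6.SimsG

/-!
Sims' theorem: there is no critical walk of minimal length at least two; the bound in the
constrained case.
-/

set_option autoImplicit false
set_option linter.unusedSectionVars false
set_option linter.style.haveILetI false

namespace Cfsg.Agent.Lib.Helper6.Sims

open Subgroup Pointwise

variable {G : Type*} [Group G] {Ω : Type*} [MulAction G Ω] [Finite G]

namespace Crit

variable {b' : ℕ} {x x' y' y : Ω}

/-- the commutator of `d` with its conjugate by `a` is central in the stabilizer of `x'` -/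
theorem central_aux (h : Sys G Ω) (hmin : ∀ k < 0 + 2, ∀ p q : Ω, Wk (Rel G) k p q →
    Vx G p ≤ Qx G q) {u4 x' : Ω} (hrel4 : Rel G u4 x') {a d : G} (hax : a ∈ St G x')
    (ha2 : a * a = 1) (hd1 : d ∈ Vx G u4) :
    ∀ g ∈ St G x', g * (d * (a * d * a⁻¹) * d⁻¹ * (a * d * a⁻¹)⁻¹) =
      (d * (a * d * a⁻¹) * d⁻¹ * (a * d * a⁻¹)⁻¹) * g := by
  have ha_inv : a⁻¹ = a := inv_eq_of_mul_eq_one_left ha2
  have hd'' : a * d * a⁻¹ ∈ Vx G (a • u4) := by
    rw [Vx_smul]
    exact cj_mem hd1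
  have htriv : d * (a * d * a⁻¹) = (a * d * a⁻¹) * d →
      ∀ g ∈ St G x', g * (d * (a * d * a⁻¹) * d⁻¹ * (a * d * a⁻¹)⁻¹) =
      (d * (a * d * a⁻¹) * d⁻¹ * (a * d * a⁻¹)⁻¹) * g := by
    intro hcomm g _
    have : d * (a * d * a⁻¹) * d⁻¹ * (a * d * a⁻¹)⁻¹ = 1 := by
      rw [hcomm]
      group
    rw [this, mul_one, one_mul]
  by_cases hdQ : d ∈ Qx G (a • u4)
  · exact htriv (Vc_comm_Qc hd'' hdQ).symm
  · have hcase : ¬ Vx G u4 ≤ Qx G (a • u4) := fun hle => hdQ (hle hd1)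
    have hrel4' : Rel G x' (a • u4) := by
      have := hrel4.symm.smul a
      rwa [mem_St.mp hax] at this
    have cd : Crit G 0 u4 x' x' (a • u4) := ⟨hmin, hrel4, Wk.nil x', hrel4', hcase⟩
    have hd''Q : a * d * a⁻¹ ∉ Qx G u4 := by
      intro hc
      apply hdQ
      have h1 : a⁻¹ * (a * d * a⁻¹) * a⁻¹⁻¹ ∈ MulAut.conj a⁻¹ • Qx G u4 := cj_mem hc
      rw [← Qx_smul, ha_inv] at h1
      have e : a * (a * d * a) * a⁻¹ = (a * a) * d * (a * a⁻¹) := by group
      rw [e, ha2, mul_inv_cancel, one_mul, mul_one] at h1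
      exact h1
    obtain ⟨_, hZ1, hZ2, _, _⟩ := cd.comm_mem h hd1 hdQ hd'' hd''Q
    exact cd.central h hZ1 hZ2

/-- there is no critical walk of minimal length at least two -/
theorem false (h : Sys G Ω) (c : Crit G b' x x' y' y) : False := by
  have hb := c.b_eq_zero h
  subst hb
  have he : x' = y' := c.wk.zero_eq
  subst he
  obtain ⟨n, hn1, hn2⟩ := c.swap h
  have hS1 := c.r1.2.1
  have hS1' := c.r1.2.2
  -- a fourth vertex
  obtain ⟨k', hk', hk'S⟩ := h.nn x' _ hS1'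
  have hk'x : k' • x ≠ x := by
    intro e
    apply hk'S
    apply cj_eq_self_of_mem
    exact ⟨mem_St.mpr e, hk'⟩
  have c' : Crit G 0 x' x x (n • y) := by
    have := c.smul n
    rwa [hn1, hn2] at this
  have hd := c'.ext h hk' hk'x
  obtain ⟨d, hd1, hd2⟩ := SetLike.not_le_iff_exists.mp hd
  have hrel4 : Rel G (k' • x) x' := by
    have := c.r1.smul k'
    rwa [mem_St.mp hk'] at this
  have hdQ : d ∈ Qx G x' := c.hmin 1 (by omega) _ _ (Wk.one hrel4) hd1
  have hdS : d ∈ St G x ⊓ St G x' := c.r1.Q_le_right hdQ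
  have hd_sq : d * d = 1 := Vc_sq (h.con (k' • x)) hd1
  have hd_inv : d⁻¹ = d := Vc_inv (h.con (k' • x)) hd1
  -- a first vertex
  obtain ⟨k, hk, hkS⟩ := h.nn x _ hS1
  have hkx' : k • x' ≠ x' := by
    intro e
    apply hkS
    apply cj_eq_self_of_mem
    exact ⟨hk, mem_St.mpr e⟩
  have hSu1 : St G x ⊓ St G (k • x') = MulAut.conj k • (St G x ⊓ St G x') := by
    rw [cj_inf, ← St_smul, ← St_smul, mem_St.mp hk]
  have hzu1 : d • k • x' ≠ k • x' := by
    intro e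
    have hdu1 : d ∈ St G x ⊓ St G (k • x') := ⟨hdS.1, mem_St.mpr e⟩
    rw [hSu1] at hdu1
    exact not_mem_of_ne hS1 (cj_mem_Syl3_self hk hS1) (Ne.symm hkS) hdS hd2 hdu1
  have cz : Crit G 0 x (d • k • x') (d • k • x') ((d * k) • y) := by
    have := c.smul (d * k)
    rwa [mul_smul, mul_smul, mem_St.mp hk, mem_St.mp hdS.1] at this
  have hdz : d • d • k • x' = k • x' := by
    rw [smul_smul, hd_sq, one_smul]
  have ha := cz.ext h hdS.1 (by rw [hdz]; exact hzu1.symm)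
  rw [hdz] at ha
  obtain ⟨a, ha1, ha2⟩ := SetLike.not_le_iff_exists.mp ha
  have hrel1 : Rel G (k • x') x := by
    have := c.r1.symm.smul k
    rwa [mem_St.mp hk] at this
  have hrelz : Rel G x (d • k • x') := by
    have := hrel1.symm.smul d
    rwa [mem_St.mp hdS.1] at this
  have ca : Crit G 0 (k • x') x x (d • k • x') := ⟨c.hmin, hrel1, Wk.nil x, hrelz, ha⟩
  have ha_sq : a * a = 1 := Vc_sq (h.con (k • x')) ha1
  have ha_inv : a⁻¹ = a := Vc_inv (h.con (k • x')) ha1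
  have ha'1 : d * a * d⁻¹ ∈ Vx G (d • k • x') := by
    rw [Vx_smul]
    exact cj_mem ha1
  have ha'2 : d * a * d⁻¹ ∉ Qx G (k • x') := by
    intro hc
    apply ha2
    have h1 : d * (d * a * d⁻¹) * d⁻¹ ∈ MulAut.conj d • Qx G (k • x') := cj_mem hc
    rw [← Qx_smul] at h1
    have e : d * (d * a * d⁻¹) * d⁻¹ = (d * d) * a * (d⁻¹ * d⁻¹) := by group
    rw [e, hd_inv, hd_sq, one_mul, mul_one] at h1
    exact h1
  obtain ⟨hra_ne, hraZ1, hraZ2, _, _⟩ := ca.comm_mem h ha1 ha2 ha'1 ha'2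
  have hra_cen := ca.central h hraZ1 hraZ2
  have hra_St : a * (d * a * d⁻¹) * a⁻¹ * (d * a * d⁻¹)⁻¹ ∈ St G x := (Zs_le _ hraZ2).1
  -- the other side
  have haQ : a ∈ Qx G x := c.hmin 1 (by omega) _ _ (Wk.one hrel1) ha1
  have hax' : a ∈ St G x' := (c.r1.Q_le_left haQ).2
  have hρ := central_aux h c.hmin hrel4 hax' ha_sq hd1
  -- the two squares
  have e1 := invol_comm_sq ha_sq hd_sq
  have e2 := invol_comm_sq hd_sq ha_sq
  have e3 : d * a * d⁻¹ * a⁻¹ = (a * d * a⁻¹ * d⁻¹)⁻¹ := by group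
  rw [e3] at e2
  rw [e1] at hra_ne hra_cen hra_St
  rw [e2] at hρ
  have hρ' : ∀ g ∈ St G x', g * ((a * d * a⁻¹ * d⁻¹) * (a * d * a⁻¹ * d⁻¹)) =
      ((a * d * a⁻¹ * d⁻¹) * (a * d * a⁻¹ * d⁻¹)) * g := by
    intro g hg
    have := hρ g hg
    have e4 : (a * d * a⁻¹ * d⁻¹)⁻¹ * (a * d * a⁻¹ * d⁻¹)⁻¹ =
        ((a * d * a⁻¹ * d⁻¹) * (a * d * a⁻¹ * d⁻¹))⁻¹ := by group
    rw [e4] at this
    exact (Commute.inv_right_iff (a := g)).mp this
  exact c.r1.1 (h.eq_of_central hra_ne hra_St hra_cen hρ').symm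

end Crit

/-- existence of a critical pair of adjacent points -/
theorem Sys.exists_crit_pair (h : Sys G Ω) {a b : Ω} (hab : Rel G a b) :
    ∃ x y : Ω, Rel G x y ∧ ¬ Vx G x ≤ Qx G y := by
  classical
  -- some walk is critical
  have hex : ∃ k : ℕ, ∃ x y : Ω, Wk (Rel G) k x y ∧ ¬ Vx G x ≤ Qx G y := by
    by_contra hcon
    push Not at hcon
    -- the intersection of the stabilizers of the points reachable from `a`
    have hN : ∀ g : G, (∀ y : Ω, (∃ k, Wk (Rel G) k a y) → g • y = y) ↔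
        g ∈ ⨅ y ∈ {y : Ω | ∃ k, Wk (Rel G) k a y}, St G y := by
      intro g
      simp only [mem_iInf, Set.mem_ofPred_eq, mem_St]
    have hinv : ∀ g : G, (g ∈ St G a ∨ g ∈ St G b) → ∀ y : Ω, (∃ k, Wk (Rel G) k a y) →
        ∃ k, Wk (Rel G) k a (g • y) := by
      intro g hg y hy
      obtain ⟨k, hk⟩ := hy
      rcases hg with hg | hg
      · have := hk.smul g
        rw [mem_St.mp hg] at this
        exact ⟨k, this⟩
      · have := (Wk.cons hab.symm hk).smul g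
        rw [mem_St.mp hg] at this
        exact ⟨k + 1 + 1, Wk.cons hab this⟩
    have hnorm : ∀ g : G, (g ∈ St G a ∨ g ∈ St G b) →
        MulAut.conj g • (⨅ y ∈ {y : Ω | ∃ k, Wk (Rel G) k a y}, St G y) =
          ⨅ y ∈ {y : Ω | ∃ k, Wk (Rel G) k a y}, St G y := by
      intro g hg
      have hg' : g⁻¹ ∈ St G a ∨ g⁻¹ ∈ St G b := by
        rcases hg with hg | hg
        · exact Or.inl ((St G a).inv_mem hg)
        · exact Or.inr ((St G b).inv_mem hg)
      ext z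
      rw [mem_cj, ← hN, ← hN]
      constructor
      · intro hz y hy
        have := hz _ (hinv _ hg' y hy)
        rw [mul_smul, mul_smul, smul_inv_smul] at this
        exact smul_left_cancel _ this
      · intro hz y hy
        rw [mul_smul, mul_smul, hz _ (hinv _ hg y hy), inv_smul_smul]
    have hbot : (⨅ y ∈ {y : Ω | ∃ k, Wk (Rel G) k a y}, St G y) = ⊥ := by
      apply h.core_of_two hab.1 _ (fun g hg => hnorm g (Or.inl hg))
        (fun g hg => hnorm g (Or.inr hg))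
      intro g hg
      rw [← hN] at hg
      exact mem_St.mpr (hg a ⟨0, Wk.nil a⟩)
    have hV : Vx G a ≤ ⨅ y ∈ {y : Ω | ∃ k, Wk (Rel G) k a y}, St G y := by
      intro v hv
      rw [← hN]
      intro y hy
      obtain ⟨k, hk⟩ := hy
      exact mem_St.mp (Qc_le_self _ (hcon k a y hk hv))
    rw [hbot] at hV
    obtain ⟨S, hS⟩ := h.syl a
    obtain ⟨g, _, z, hz, hgz⟩ := h.znc a S hS
    have : z = 1 := by
      have := hV (Zs_le_Vc hS hz)
      rwa [mem_bot] at this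
    apply hgz
    rw [this, mul_one, one_mul]
  obtain ⟨b, ⟨x, y, hw, hc⟩, hmin⟩ : ∃ b, (∃ x y : Ω, Wk (Rel G) b x y ∧ ¬ Vx G x ≤ Qx G y) ∧
      ∀ k < b, ¬ (∃ x y : Ω, Wk (Rel G) k x y ∧ ¬ Vx G x ≤ Qx G y) :=
    ⟨Nat.find hex, Nat.find_spec hex, fun k hk => Nat.find_min hex hk⟩
  have hmin' : ∀ k < b, ∀ p q : Ω, Wk (Rel G) k p q → Vx G p ≤ Qx G q := by
    intro k hk p q hpq
    by_contra hcon
    exact hmin k hk ⟨p, q, hpq, hcon⟩
  match b, hw, hmin' with
  | 0, hw, _ =>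
    exfalso
    apply hc
    rw [← hw.zero_eq]
    exact Vc_le_Qc (h.con x)
  | 1, hw, _ =>
    obtain ⟨y1, h1, h2⟩ := hw.succ_first
    have := h2.zero_eq
    subst this
    exact ⟨x, y1, h1, hc⟩
  | (b' + 2), hw, hmin' =>
    exfalso
    obtain ⟨x1, h1, h2⟩ := hw.succ_first
    obtain ⟨y1, h3, h4⟩ := h2.succ_last
    exact Crit.false h ⟨hmin', h1, h3, h4, hc⟩

/-- the bound on the order of the intersection of two adjacent stabilizers -/
theorem Sys.card_le (h : Sys G Ω) {a b : Ω} (hab : Rel G a b) :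
    Nat.card (St G a ⊓ St G b : Subgroup G) ≤ 16 := by
  obtain ⟨x, y, hxy, hc⟩ := h.exists_crit_pair hab
  have hp : Pair (St G x) (St G y) (St G x ⊓ St G y) :=
    ⟨hxy.2.1, hxy.2.2, h.nn x, h.nn y, h.con x, h.con y, h.znc x, h.znc y,
      fun N hN h1 h2 => h.core_of_two hxy.1 (hN.trans inf_le_left) h1 h2⟩
  have h1 := hp.card_le hc
  have h2 := card_eq_of_Syl3 hxy.2.1
  have h3 := card_eq_of_Syl3 hab.2.1
  have h4 := h.card_St a x
  omega

end Cfsg.Agent.Lib.Helper6.Sims
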