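import Mathlib
import Cfsg.Agent.Lib.Helper6.SimsH

/-!
Sims' theorem: from a primitive group with a suborbit of length three to the local analysis.
-/

set_option autoImplicit false
set_option linter.unusedSectionVars false
set_option linter.style.haveILetI false

namespace Cfsg.Agent.Lib.Helper6.Sims

open Subgroup Pointwise

/-- elements of odd order of a subgroup of index three lie in its core -/
theorem odd_conj_mem {X : Type*} [Group X] [Finite X] (H : Subgroup X) (h3 : H.index = 3)
    {x : X} (hx : x ∈ H) (hodd : Odd (orderOf x)) (g : X) : g * x * g⁻¹ ∈ H := by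
  have hKH : H.normalCore ≤ H := Subgroup.normalCore_le H
  have hidx : H.normalCore.index ∣ 6 := by
    rw [Subgroup.normalCore_eq_ker, Subgroup.index_ker]
    have h1 := Subgroup.card_subgroup_dvd_card (MulAction.toPermHom X (X ⧸ H)).range
    rw [Nat.card_perm, ← Subgroup.index_eq_card, h3] at h1
    exact h1
  have hrel : H.normalCore.relIndex H ∣ 2 := by
    have h1 := Subgroup.relIndex_mul_index hKH
    rw [h3] at h1
    have : H.normalCore.relIndex H * 3 ∣ 2 * 3 := by
      rw [h1]
      exact hidx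
    exact Nat.dvd_of_mul_dvd_mul_right (by norm_num) this
  have hx2 : x ^ 2 ∈ H.normalCore := by
    have h1 := Subgroup.pow_index_mem (H.normalCore.subgroupOf H) (⟨x, hx⟩ : H)
    rw [Subgroup.mem_subgroupOf] at h1
    obtain ⟨c, hc⟩ := hrel
    have : x ^ 2 = (x ^ (H.normalCore.relIndex H)) ^ c := by rw [← pow_mul, ← hc]
    rw [this]
    apply Subgroup.pow_mem
    have h1' : x ^ (H.normalCore.subgroupOf H).index ∈ H.normalCore := by simpa using h1
    exact h1'
  obtain ⟨j, hj⟩ := hodd
  have hxK : x ∈ H.normalCore := by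
    have : x = (x ^ 2) ^ (j + 1) := by
      rw [← pow_mul, show 2 * (j + 1) = orderOf x + 1 by omega, pow_succ, pow_orderOf_eq_one,
        one_mul]
    rw [this]
    exact Subgroup.pow_mem _ hx2 _
  exact hKH ((Subgroup.normalCore_normal H).conj_mem x hxK g)

variable {G : Type*} [Group G]

theorem isPGroup_two_of_odd_trivial [Finite G] {T : Subgroup G}
    (h : ∀ x ∈ T, Odd (orderOf x) → x = 1) : IsPGroup 2 T := by
  rintro ⟨x, hx⟩
  have hpos : 0 < orderOf x := orderOf_pos x
  obtain ⟨k, m, hm, hkm⟩ := Nat.exists_eq_two_pow_mul_odd hpos.ne'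
  refine ⟨k, ?_⟩
  have h1 : orderOf (x ^ 2 ^ k) = m := by
    rw [orderOf_pow_of_dvd (pow_ne_zero _ (by norm_num)) (by rw [hkm]; exact Dvd.intro _ rfl),
      hkm, Nat.mul_div_cancel_left _ (pow_pos (by norm_num) k)]
  have h2 : x ^ 2 ^ k = 1 := h _ (T.pow_mem hx _) (by rw [h1]; exact hm)
  ext
  simpa using h2

theorem isPGroup_two_inf [Finite G] {M L : Subgroup G} (hM : (M ⊓ L).relIndex M = 3)
    (hL : (M ⊓ L).relIndex L = 3)
    (hcore : ∀ N : Subgroup G, N ≤ M ⊓ L → (∀ g ∈ M, MulAut.conj g • N = N) →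
      (∀ g ∈ L, MulAut.conj g • N = N) → N = ⊥) : IsPGroup 2 (M ⊓ L : Subgroup G) := by
  have hOT : closure {x | x ∈ M ⊓ L ∧ Odd (orderOf x)} ≤ M ⊓ L := by
    rw [closure_le]
    intro x hx
    exact hx.1
  have key : ∀ {X : Subgroup G}, M ⊓ L ≤ X → (M ⊓ L).relIndex X = 3 → ∀ g ∈ X,
      MulAut.conj g • closure {x | x ∈ M ⊓ L ∧ Odd (orderOf x)} =
        closure {x | x ∈ M ⊓ L ∧ Odd (orderOf x)} := by
    intro X hle h3
    have step : ∀ g ∈ X, MulAut.conj g • closure {x | x ∈ M ⊓ L ∧ Odd (orderOf x)} ≤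
        closure {x | x ∈ M ⊓ L ∧ Odd (orderOf x)} := by
      intro g hg
      rw [← cj_le_cj (g := g⁻¹), cj_inv_cj, closure_le]
      intro x hx
      rw [SetLike.mem_coe, mem_cj, inv_inv]
      apply Subgroup.subset_closure
      have h1 := odd_conj_mem ((M ⊓ L).subgroupOf X) h3 (x := ⟨x, hle hx.1⟩)
        (by rw [mem_subgroupOf]; exact hx.1) (by rw [Subgroup.orderOf_mk]; exact hx.2) ⟨g, hg⟩
      rw [mem_subgroupOf] at h1
      refine ⟨by simpa using h1, ?_⟩
      have := (MulAut.conj g).orderOf_eq x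
      rw [MulAut.conj_apply] at this
      rw [this]
      exact hx.2
    intro g hg
    apply le_antisymm (step g hg)
    have := step g⁻¹ (X.inv_mem hg)
    rw [← cj_le_cj (g := g), cj_cj_inv] at this
    exact this
  have hbot := hcore _ hOT (key inf_le_left hM) (key inf_le_right hL)
  apply isPGroup_two_of_odd_trivial
  intro x hx hodd
  have : x ∈ closure {x | x ∈ M ⊓ L ∧ Odd (orderOf x)} := Subgroup.subset_closure ⟨hx, hodd⟩
  rw [hbot, mem_bot] at this
  exact this

theorem card_eq_relIndex_mul [Finite G] {S X : Subgroup G} (h : S ≤ X) :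
    Nat.card X = S.relIndex X * Nat.card S := by
  have h1 := Subgroup.card_mul_index (S.subgroupOf X)
  have h2 : Nat.card (S.subgroupOf X) = Nat.card S :=
    Nat.card_congr (subgroupOfEquivOfLe h).toEquiv
  rw [h2] at h1
  rw [← h1, mul_comm]
  rfl

section action

variable {Ω : Type*} [MulAction G Ω]

theorem stabilizer_subgroup_eq' (H : Subgroup G) (b : Ω) :
    MulAction.stabilizer ↥H b = (MulAction.stabilizer G b).subgroupOf H := by
  ext x
  simp [MulAction.mem_stabilizer_iff, mem_subgroupOf, Subgroup.smul_def]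

theorem relIndex_stabilizer_eq' (H : Subgroup G) (b : Ω) :
    (H ⊓ MulAction.stabilizer G b).relIndex H = Nat.card (MulAction.orbit ↥H b) := by
  rw [inf_relIndex_left]
  unfold relIndex
  rw [← stabilizer_subgroup_eq', MulAction.index_stabilizer, Nat.card_coe_set_eq]

/-- the global facts for a primitive group with a suborbit of length three -/
structure Glob (G : Type*) [Group G] {Ω : Type*} [MulAction G Ω] (a b : Ω) : Prop where
  hab : a ≠ b
  trans : ∀ x y : Ω, ∃ g : G, g • x = y
  coatom : ∀ x : Ω, IsCoatom (St G x)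
  inj : ∀ x y : Ω, St G x = St G y → x = y
  core : ∀ (N : Subgroup G) (x : Ω), N ≤ St G x → (∀ g : G, MulAut.conj g • N = N) → N = ⊥
  hTa : St G a ⊓ St G b ∈ Syl3 (St G a)
  hTb : St G a ⊓ St G b ∈ Syl3 (St G b)

theorem glob_of_prim [Finite G] [FaithfulSMul G Ω] (hprim : MulAction.IsPreprimitive G Ω)
    (a b : Ω) (h3 : Nat.card (MulAction.orbit (MulAction.stabilizer G a) b) = 3) :
    Glob G a b := by
  haveI := hprim
  have hrelM : (St G a ⊓ St G b).relIndex (St G a) = 3 := by
    rw [relIndex_stabilizer_eq', h3]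
  have hab : a ≠ b := by
    intro he
    rw [he, inf_idem, relIndex_self] at hrelM
    omega
  haveI : Nontrivial Ω := ⟨⟨a, b, hab⟩⟩
  have htrans : ∀ x y : Ω, ∃ g : G, g • x = y := fun x y => MulAction.exists_smul_eq G x y
  have hcoatom : ∀ x : Ω, IsCoatom (St G x) :=
    fun x => (MulAction.isCoatom_stabilizer_iff_preprimitive G x).mpr hprim
  have hcore : ∀ (N : Subgroup G) (x : Ω), N ≤ St G x → (∀ g : G, MulAut.conj g • N = N) →
      N = ⊥ := by
    intro N x hN hnorm
    rw [eq_bot_iff]
    intro n hn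
    rw [mem_bot]
    apply FaithfulSMul.eq_of_smul_eq_smul (α := Ω)
    intro y
    rw [one_smul]
    obtain ⟨g, rfl⟩ := htrans x y
    have h1 : n ∈ MulAut.conj g • N := by
      rw [hnorm g]
      exact hn
    have h2 : n ∈ St G (g • x) := by
      rw [St_smul]
      exact cj_le_cj.mpr hN h1
    exact mem_St.mp h2
  have hinj : ∀ x y : Ω, St G x = St G y → x = y := by
    intro x y he
    by_contra hne
    obtain ⟨g, hg⟩ := htrans x y
    have hgx : g ∉ St G x := by
      rw [mem_St, hg]
      exact fun e => hne e.symm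
    have h1 : MulAut.conj g • St G x = St G x := by
      rw [← St_smul, hg, he]
    have h2 : St G x ⊔ zpowers g = ⊤ := by
      apply (hcoatom x).2
      apply lt_of_le_of_ne le_sup_left
      intro e
      apply hgx
      rw [e]
      exact (le_sup_right : zpowers g ≤ _) (mem_zpowers g)
    have h3' : St G x = ⊥ := by
      apply hcore _ x le_rfl
      intro k
      rw [cj_eq_self_iff]
      have : St G x ⊔ zpowers g ≤ normalizer ((St G x : Subgroup G) : Set G) :=
        sup_le le_normalizer (by rw [zpowers_le]; exact cj_eq_self_iff.mp h1)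
      rw [h2] at this
      exact this (mem_top k)
    obtain ⟨k, hk⟩ := htrans x a
    have h4 : St G a = ⊥ := by
      rw [← hk, St_smul, h3']
      ext z
      rw [mem_cj, mem_bot, mem_bot]
      constructor
      · intro hz
        have : z = k * (k⁻¹ * z * k) * k⁻¹ := by group
        rw [this, hz]
        group
      · intro hz
        rw [hz]
        group
    rw [h4, bot_inf_eq, relIndex_self] at hrelM
    omega
  have hcard : Nat.card (St G a) = Nat.card (St G b) := by
    obtain ⟨g, rfl⟩ := htrans a b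
    rw [St_smul, cj_card]
  have hrelL : (St G a ⊓ St G b).relIndex (St G b) = 3 := by
    have h1 := card_eq_relIndex_mul (inf_le_left : St G a ⊓ St G b ≤ St G a)
    have h2 := card_eq_relIndex_mul (inf_le_right : St G a ⊓ St G b ≤ St G b)
    rw [hrelM] at h1
    rw [← hcard, h1] at h2
    have hpos : 0 < Nat.card (St G a ⊓ St G b : Subgroup G) := Nat.card_pos
    exact (Nat.eq_of_mul_eq_mul_right hpos h2).symm
  have hsup : St G a ⊔ St G b = ⊤ := by
    apply (hcoatom a).2
    apply lt_of_le_of_ne le_sup_left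
    intro e
    apply hab
    apply hinj
    have hle : St G b ≤ St G a := by
      rw [e]
      exact le_sup_right
    by_contra hne
    exact (hcoatom a).1 ((hcoatom b).2 _ (lt_of_le_of_ne hle (fun e' => hne e'.symm)))
  have hp : IsPGroup 2 (St G a ⊓ St G b : Subgroup G) := by
    apply isPGroup_two_inf hrelM hrelL
    intro N hN h1 h2
    apply hcore N a (hN.trans inf_le_left)
    intro g
    rw [cj_eq_self_iff]
    have : St G a ⊔ St G b ≤ normalizer (N : Set G) :=
      sup_le (fun g hg => cj_eq_self_iff.mp (h1 g hg)) (fun g hg => cj_eq_self_iff.mp (h2 g hg))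
    rw [hsup] at this
    exact this (mem_top g)
  exact ⟨hab, htrans, hcoatom, hinj, hcore, ⟨inf_le_left, hp, hrelM⟩, ⟨inf_le_right, hp, hrelL⟩⟩

end action

end Cfsg.Agent.Lib.Helper6.Sims
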