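import Mathlib
import Cfsg.Agent.Lib.Helper6.SimsI

/-!
Sims' theorem: the case analysis and the bound on the order of the point stabilizer.
-/

set_option autoImplicit false
set_option linter.unusedSectionVars false
set_option linter.style.haveILetI false

namespace Cfsg.Agent.Lib.Helper6.Sims

open Subgroup Pointwise

variable {G : Type*} [Group G]

theorem Zs_ne_bot [Finite G] {T : Subgroup G} (hp : IsPGroup 2 T) (hT : T ≠ ⊥) : Zs T ≠ ⊥ := by
  haveI : Fact (Nat.Prime 2) := ⟨Nat.prime_two⟩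
  haveI : Nontrivial T := (Subgroup.nontrivial_iff_ne_bot T).mpr hT
  haveI := hp.center_nontrivial
  have hpc : IsPGroup 2 (center T) := hp.to_subgroup _
  have h2 : 2 ∣ Nat.card (center T) := by
    rcases hpc.card_eq_or_dvd with h1 | h1
    · exfalso
      have := Finite.one_lt_card_iff_nontrivial.mpr (inferInstance : Nontrivial (center T))
      omega
    · exact h1
  obtain ⟨z, hz⟩ := exists_prime_orderOf_dvd_card' 2 h2
  intro hbot
  have hzmem : ((z : T) : G) ∈ Zs T := by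
    rw [mem_Zs]
    refine ⟨(z : T).2, ?_, ?_⟩
    · intro s hs
      have := Subgroup.mem_center_iff.mp z.2 ⟨s, hs⟩
      exact congrArg Subtype.val this
    · have h1 : z ^ 2 = 1 := by
        rw [← hz]
        exact pow_orderOf_eq_one z
      have h2 : ((z : T) : G) ^ 2 = 1 := by
        have := congrArg (fun w : center T => ((w : T) : G)) h1
        simpa using this
      rw [← pow_two]
      exact h2
  rw [hbot, mem_bot] at hzmem
  have hz1 : z = 1 := by
    ext
    simpa using hzmem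
  rw [hz1, orderOf_one] at hz
  omega

theorem normal_of_not_NN [Finite G] {X T : Subgroup G} (hT : T ∈ Syl3 X) (h : ¬ NN X) :
    ∀ g ∈ X, MulAut.conj g • T = T := by
  unfold NN at h
  push Not at h
  obtain ⟨S, hS, hSn⟩ := h
  obtain ⟨k, hk, rfl⟩ := Syl3_conj hS hT
  rw [hSn k hk]
  exact hSn

theorem Zs_central_of_not_ZNC [Finite G] {X T : Subgroup G} (hT : T ∈ Syl3 X) (h : ¬ ZNC X) :
    ∀ g ∈ X, ∀ z ∈ Zs T, g * z = z * g := by
  unfold ZNC at h
  push Not at h
  obtain ⟨S, hS, hSc⟩ := h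
  obtain ⟨k, hk, rfl⟩ := Syl3_conj hS hT
  intro g hg z hz
  rw [← cj_Zs, mem_cj] at hz
  have h1 := hSc (k⁻¹ * g * k) (X.mul_mem (X.mul_mem (X.inv_mem hk) hg) hk) _ hz
  calc g * z = k * ((k⁻¹ * g * k) * (k⁻¹ * z * k)) * k⁻¹ := by group
    _ = k * ((k⁻¹ * z * k) * (k⁻¹ * g * k)) * k⁻¹ := by rw [h1]
    _ = z * g := by group

section action

variable {Ω : Type*} [MulAction G Ω] {a b : Ω}

namespace Glob

theorem rel (gl : Glob G a b) : Rel G a b := ⟨gl.hab, gl.hTa, gl.hTb⟩

theorem sup_eq_top (gl : Glob G a b) : St G a ⊔ St G b = ⊤ := by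
  apply (gl.coatom a).2
  apply lt_of_le_of_ne le_sup_left
  intro e
  apply gl.hab
  apply gl.inj
  have hle : St G b ≤ St G a := by
    rw [e]
    exact le_sup_right
  by_contra hne
  exact (gl.coatom a).1 ((gl.coatom b).2 _ (lt_of_le_of_ne hle (fun e' => hne e'.symm)))

theorem core_two (gl : Glob G a b) {N : Subgroup G} (hN : N ≤ St G a ⊓ St G b)
    (h1 : ∀ g ∈ St G a, MulAut.conj g • N = N) (h2 : ∀ g ∈ St G b, MulAut.conj g • N = N) :
    N = ⊥ := by
  apply gl.core N a (hN.trans inf_le_left)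
  intro g
  rw [cj_eq_self_iff]
  have : St G a ⊔ St G b ≤ normalizer (N : Set G) :=
    sup_le (fun g hg => cj_eq_self_iff.mp (h1 g hg)) (fun g hg => cj_eq_self_iff.mp (h2 g hg))
  rw [gl.sup_eq_top] at this
  exact this (mem_top g)

theorem conj_a (gl : Glob G a b) (x : Ω) : ∃ g : G, St G x = MulAut.conj g • St G a := by
  obtain ⟨g, rfl⟩ := gl.trans a x
  exact ⟨g, St_smul g a⟩

theorem NN_iff (gl : Glob G a b) (x : Ω) : NN (St G x) ↔ NN (St G a) := by
  obtain ⟨g, hg⟩ := gl.conj_a x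
  rw [hg]
  constructor
  · intro h
    have := NN_cj g⁻¹ h
    rwa [cj_inv_cj] at this
  · exact NN_cj g

theorem CON_iff (gl : Glob G a b) (x : Ω) : CON (St G x) ↔ CON (St G a) := by
  obtain ⟨g, hg⟩ := gl.conj_a x
  rw [hg]
  constructor
  · intro h
    have := CON_cj g⁻¹ h
    rwa [cj_inv_cj] at this
  · exact CON_cj g

theorem ZNC_iff (gl : Glob G a b) (x : Ω) : ZNC (St G x) ↔ ZNC (St G a) := by
  obtain ⟨g, hg⟩ := gl.conj_a x
  rw [hg]
  constructor
  · intro h
    have := ZNC_cj g⁻¹ h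
    rwa [cj_inv_cj] at this
  · exact ZNC_cj g

variable [Finite G]

theorem inf_eq_bot_of_not_NN (gl : Glob G a b) (h : ¬ NN (St G a)) : St G a ⊓ St G b = ⊥ := by
  apply gl.core_two le_rfl (normal_of_not_NN gl.hTa h)
  apply normal_of_not_NN gl.hTb
  rw [gl.NN_iff b]
  exact h

theorem card_le_four (gl : Glob G a b) (hnn : NN (St G a)) (h : ¬ CON (St G a)) :
    Nat.card (St G a ⊓ St G b : Subgroup G) ≤ 4 := by
  apply card_le_four_of_not_CON gl.hTa gl.hTb hnn ((gl.NN_iff b).mpr hnn) h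
    (fun hc => h ((gl.CON_iff b).mp hc))
  intro N hN h1 h2
  exact gl.core_two hN h1 h2

theorem inf_ne_bot (gl : Glob G a b) (hnn : NN (St G a)) : St G a ⊓ St G b ≠ ⊥ := by
  intro he
  obtain ⟨g, _, hg⟩ := hnn _ gl.hTa
  apply hg
  rw [he]
  ext z
  rw [mem_cj, mem_bot, mem_bot]
  constructor
  · intro hz
    have : z = g * (g⁻¹ * z * g) * g⁻¹ := by group
    rw [this, hz]
    group
  · intro hz
    rw [hz]
    group

theorem znc (gl : Glob G a b) (hnn : NN (St G a)) : ZNC (St G a) := by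
  by_contra h
  have h1 := Zs_central_of_not_ZNC gl.hTa h
  have h2 := Zs_central_of_not_ZNC gl.hTb (fun hc => h ((gl.ZNC_iff b).mp hc))
  have : Zs (St G a ⊓ St G b) = ⊥ := by
    apply gl.core_two (Zs_le _)
    · intro g hg
      exact cj_eq_self_of_comm (fun y hy => h1 g hg y hy)
    · intro g hg
      exact cj_eq_self_of_comm (fun y hy => h2 g hg y hy)
  exact Zs_ne_bot gl.hTa.2.1 (gl.inf_ne_bot hnn) this

theorem sys (gl : Glob G a b) (hnn : NN (St G a)) (hcon : CON (St G a)) : Sys G Ω where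
  trans := gl.trans
  coatom := gl.coatom
  inj := gl.inj
  core := gl.core
  syl := by
    intro x
    obtain ⟨g, hg⟩ := gl.conj_a x
    rw [hg]
    exact ⟨_, cj_mem_Syl3 g gl.hTa⟩
  nn := fun x => (gl.NN_iff x).mpr hnn
  con := fun x => (gl.CON_iff x).mpr hcon
  znc := fun x => (gl.ZNC_iff x).mpr (gl.znc hnn)

/-- the bound `|T| ≤ 16` -/
theorem card_inf_le (gl : Glob G a b) : Nat.card (St G a ⊓ St G b : Subgroup G) ≤ 16 := by
  by_cases hnn : NN (St G a)
  · by_cases hcon : CON (St G a)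
    · exact (gl.sys hnn hcon).card_le gl.rel
    · have := gl.card_le_four hnn hcon
      omega
  · rw [gl.inf_eq_bot_of_not_NN hnn, Subgroup.card_bot]
    omega

/-- Sims' theorem for suborbits of length three -/
theorem card_stab (gl : Glob G a b) : ∃ k : ℕ, k ≤ 4 ∧ Nat.card (St G a) = 2 ^ k * 3 := by
  haveI : Fact (Nat.Prime 2) := ⟨Nat.prime_two⟩
  obtain ⟨k, hk⟩ := IsPGroup.iff_card.mp gl.hTa.2.1
  have h1 := gl.card_inf_le
  have h2 := card_eq_of_Syl3 gl.hTa
  refine ⟨k, ?_, ?_⟩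
  · by_contra hc
    push Not at hc
    have : 2 ^ 5 ≤ 2 ^ k := Nat.pow_le_pow_right (by norm_num) hc
    omega
  · rw [h2, hk, mul_comm]

end Glob

end action

end Cfsg.Agent.Lib.Helper6.Sims
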