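import Mathlib
import Cfsg.Agent.Lib.Helper2.DihedralIso

/-!
Sims' theorem: general recognition lemmas for the groups of order `3`, `6`, `12`, `48`.
-/

set_option autoImplicit false
set_option linter.unusedSectionVars false
set_option linter.style.haveILetI false

namespace Cfsg.Agent.Lib.Helper6.Sims

open Subgroup

theorem z3_of_card_three {M : Type*} [Group M] (h : Nat.card M = 3) :
    Nonempty (M ≃* Multiplicative (ZMod 3)) := by
  haveI : Fact (Nat.Prime 3) := ⟨Nat.prime_three⟩
  have hc : IsCyclic M := isCyclic_of_prime_card h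
  have e := zmodCyclicMulEquiv hc
  rw [h] at e
  exact ⟨e.symm⟩

theorem z2_of_card_two {M : Type*} [Group M] (h : Nat.card M = 2) :
    Nonempty (M ≃* Multiplicative (ZMod 2)) := by
  haveI : Fact (Nat.Prime 2) := ⟨Nat.prime_two⟩
  have hc : IsCyclic M := isCyclic_of_prime_card h
  have e := zmodCyclicMulEquiv hc
  rw [h] at e
  exact ⟨e.symm⟩

/-- a group of order six with a non normal subgroup of order two -/
theorem s3_of_card_six {M : Type*} [Group M] (h : Nat.card M = 6) (H : Subgroup M)
    (hH : Nat.card H = 2) (hn : ¬ H.Normal) : Nonempty (M ≃* Equiv.Perm (Fin 3)) := by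
  haveI : Finite M := Nat.finite_of_card_ne_zero (by rw [h]; norm_num)
  haveI : Fact (Nat.Prime 2) := ⟨Nat.prime_two⟩
  have hidx : H.index = 3 := by
    have := Subgroup.card_mul_index H
    rw [hH, h] at this
    omega
  have hcore : H.normalCore = ⊥ := by
    haveI : Fact (Nat.card H).Prime := ⟨by rw [hH]; exact Nat.prime_two⟩
    have h1 : (H.normalCore.subgroupOf H) = ⊥ ∨ (H.normalCore.subgroupOf H) = ⊤ :=
      Subgroup.eq_bot_or_eq_top_of_prime_card _
    rcases h1 with h1 | h1
    · rw [Subgroup.subgroupOf_eq_bot] at h1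
      rw [disjoint_iff, inf_eq_left.mpr (Subgroup.normalCore_le H)] at h1
      exact h1
    · exfalso
      apply hn
      rw [Subgroup.subgroupOf_eq_top] at h1
      have : H.normalCore = H := le_antisymm (Subgroup.normalCore_le H) h1
      rw [← this]
      infer_instance
  have hinj : Function.Injective (MulAction.toPermHom M (M ⧸ H)) := by
    rw [← MonoidHom.ker_eq_bot_iff, ← Subgroup.normalCore_eq_ker, hcore]
  have hcard : Nat.card (Equiv.Perm (M ⧸ H)) = 6 := by
    rw [Nat.card_perm, ← Subgroup.index_eq_card, hidx]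
    rfl
  have hbij : Function.Bijective (MulAction.toPermHom M (M ⧸ H)) := by
    haveI : Finite (M ⧸ H) := Nat.finite_of_card_ne_zero (by
      rw [← Subgroup.index_eq_card, hidx]; norm_num)
    apply hinj.bijective_of_nat_card_le
    rw [hcard, h]
  have e1 : M ≃* Equiv.Perm (M ⧸ H) := MulEquiv.ofBijective _ hbij
  have hc3 : Nat.card (M ⧸ H) = 3 := by rw [← Subgroup.index_eq_card, hidx]
  haveI : Finite (M ⧸ H) := Nat.finite_of_card_ne_zero (by rw [hc3]; norm_num)
  have e2 : (M ⧸ H) ≃ Fin 3 := Finite.equivFinOfCardEq hc3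
  exact ⟨e1.trans e2.permCongrHom⟩

/-- three distinct elements -/
theorem card_ge_three {G : Type*} [Group G] [Finite G] {H : Subgroup G} {a b : G} (ha : a ∈ H)
    (hb : b ∈ H) (h1 : a ≠ 1) (h2 : b ≠ 1) (h3 : a ≠ b) : 3 ≤ Nat.card H := by
  have : Nat.card (Fin 3) ≤ Nat.card H := by
    apply Nat.card_le_card_of_injective
      (fun i : Fin 3 => if i = 0 then (1 : H) else if i = 1 then ⟨a, ha⟩ else ⟨b, hb⟩)
    intro i j hij
    fin_cases i <;> fin_cases j <;> simp_all [Subtype.ext_iff]
  rwa [Nat.card_fin] at this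

/-- a central involution outside an index two subgroup of a Sylow subgroup of odd index is
outside some subgroup of index two -/
theorem exists_index_two_of_transfer {X : Type*} [Group X] [Finite X] (T T0 : Subgroup X)
    (h2 : T0.relIndex T = 2) (hodd : Odd T.index) {e : X}
    (he2 : e * e = 1) (hc : ∀ g : X, g * e = e * g) (he0 : e ∉ T0) :
    ∃ K : Subgroup X, K.index = 2 ∧ e ∉ K := by
  haveI : Fact (Nat.Prime 2) := ⟨Nat.prime_two⟩
  haveI hN : (T0.subgroupOf T).Normal := Subgroup.normal_of_index_eq_two h2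
  have hcardA : Nat.card (T ⧸ T0.subgroupOf T) = 2 := by
    rw [← Subgroup.index_eq_card]
    exact h2
  haveI : IsCyclic (T ⧸ T0.subgroupOf T) := isCyclic_of_prime_card hcardA
  letI : CommGroup (T ⧸ T0.subgroupOf T) := IsCyclic.commGroup
  let ϕ : T →* T ⧸ T0.subgroupOf T := QuotientGroup.mk' (T0.subgroupOf T)
  have key : ∀ (k : ℕ) (g₀ : X), g₀⁻¹ * e ^ k * g₀ ∈ T → g₀⁻¹ * e ^ k * g₀ = e ^ k := by
    intro k g₀ _
    have : g₀ * e ^ k = e ^ k * g₀ := ((show Commute g₀ e from hc g₀).pow_right k)
    calc g₀⁻¹ * e ^ k * g₀ = g₀⁻¹ * (e ^ k * g₀) := by group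
      _ = g₀⁻¹ * (g₀ * e ^ k) := by rw [this]
      _ = e ^ k := by group
  have htr := MonoidHom.transfer_eq_pow ϕ e key
  have hpow : e ^ T.index = e := by
    obtain ⟨j, hj⟩ := hodd
    rw [hj, pow_succ, pow_mul, pow_two, he2, one_pow, one_mul]
  have hne : MonoidHom.transfer ϕ e ≠ 1 := by
    rw [htr]
    intro h1
    have h3 : (⟨e ^ T.index, MonoidHom.transfer_eq_pow_aux e key⟩ : T) ∈ T0.subgroupOf T :=
      (QuotientGroup.eq_one_iff _).mp h1
    rw [Subgroup.mem_subgroupOf] at h3
    apply he0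
    have h4 : e ^ T.index ∈ T0 := h3
    rwa [hpow] at h4
  refine ⟨(MonoidHom.transfer ϕ).ker, ?_, ?_⟩
  · rw [Subgroup.index_ker]
    have h1 : Nat.card (MonoidHom.transfer ϕ).range ∣ 2 := by
      rw [← hcardA]
      exact Subgroup.card_subgroup_dvd_card _
    have h3 : Nat.card (MonoidHom.transfer ϕ).range ≠ 1 := by
      intro h4
      apply hne
      have h5 : (MonoidHom.transfer ϕ).range = ⊥ := Subgroup.card_eq_one.mp h4
      have h6 : MonoidHom.transfer ϕ e ∈ (MonoidHom.transfer ϕ).range := ⟨e, rfl⟩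
      rw [h5, Subgroup.mem_bot] at h6
      exact h6
    rcases (Nat.dvd_prime Nat.prime_two).mp h1 with h4 | h4
    · exact absurd h4 h3
    · exact h4
  · intro h1
    exact hne (MonoidHom.mem_ker.mp h1)

/-- a central involution outside a subgroup of index two is a direct factor -/
theorem prod_of_index_two {X : Type*} [Group X] [Finite X] (K : Subgroup X) (hK : K.index = 2)
    {e : X} (he2 : e * e = 1) (hc : ∀ g : X, g * e = e * g) (he0 : e ∉ K) :
    Nonempty (X ≃* K × Multiplicative (ZMod 2)) := by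
  have he1 : e ≠ 1 := fun h => he0 (h ▸ K.one_mem)
  have hord : orderOf e = 2 := orderOf_eq_prime (by rw [pow_two]; exact he2) he1
  have hcardZ : Nat.card (zpowers e) = 2 := by rw [Nat.card_zpowers, hord]
  have hcomm : ∀ (k : K) (z : zpowers e), Commute (K.subtype k) ((zpowers e).subtype z) := by
    intro k z
    obtain ⟨n, hn⟩ := mem_zpowers_iff.mp z.2
    change (k : X) * (z : X) = (z : X) * (k : X)
    rw [← hn]
    exact ((show Commute (k : X) e from hc k).zpow_right n)
  let ν : K × zpowers e →* X := MonoidHom.noncommCoprod K.subtype (zpowers e).subtype hcomm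
  have hmem : ∀ z : zpowers e, (z : X) = 1 ∨ (z : X) = e := by
    intro z
    obtain ⟨n, hn⟩ := mem_zpowers_iff.mp z.2
    rw [← hn]
    rcases Int.even_or_odd' n with ⟨m, hm | hm⟩
    · left
      rw [hm, zpow_mul, zpow_two, he2, one_zpow]
    · right
      rw [hm, zpow_add, zpow_mul, zpow_two, he2, one_zpow, one_mul, zpow_one]
  have hinj : Function.Injective ν := by
    rw [injective_iff_map_eq_one]
    rintro ⟨k, z⟩ hkz
    have h1 : (k : X) * (z : X) = 1 := hkz
    rcases hmem z with hz | hz
    · rw [hz, mul_one] at h1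
      ext
      · exact h1
      · exact hz
    · exfalso
      apply he0
      rw [hz] at h1
      have h2 : e = (k : X)⁻¹ := eq_inv_of_mul_eq_one_right h1
      rw [h2]
      exact K.inv_mem k.2
  have hbij : Function.Bijective ν := by
    apply hinj.bijective_of_nat_card_le
    rw [Nat.card_prod, hcardZ]
    have := Subgroup.card_mul_index K
    rw [hK] at this
    omega
  obtain ⟨e2⟩ := z2_of_card_two hcardZ
  exact ⟨(MulEquiv.ofBijective ν hbij).symm.trans (MulEquiv.prodCongr (MulEquiv.refl K) e2)⟩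

/-- two involutions generating a group -/
theorem dihedral_of_two_inv {G : Type*} [Group G] {X : Subgroup G} {t t' : G} (ht : t * t = 1)
    (ht' : t' * t' = 1) (ht1 : t ≠ 1) (ht'1 : t' ≠ 1) (hX : closure ({t, t'} : Set G) = X) :
    Nonempty (X ≃* DihedralGroup (orderOf (t * t'))) := by
  obtain ⟨e⟩ := Cfsg.Agent.Lib.Helper2.TwoInv.nonempty_mulEquiv_dihedral ht ht' ht1 ht'1
  exact ⟨(MulEquiv.subgroupCongr hX.symm).trans e⟩

end Cfsg.Agent.Lib.Helper6.Sims
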