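import Mathlib
import Cfsg.Agent.Lib.Helper6.SimsJ
import Cfsg.Agent.Lib.Helper6.SimsK

/-!
Sims' theorem: local structure lemmas for the identification of the point stabilizer.
-/

set_option autoImplicit false
set_option linter.unusedSectionVars false
set_option linter.style.haveILetI false

namespace Cfsg.Agent.Lib.Helper6.Sims

open Subgroup Pointwise

variable {G : Type*} [Group G] [Finite G]

/-- every involution of `X` lies in a member of `Syl3 X` -/
theorem inv_mem_Syl3 {X T : Subgroup G} (hT : T ∈ Syl3 X) {h : G} (hX : h ∈ X)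
    (h2 : h * h = 1) : ∃ S ∈ Syl3 X, h ∈ S := by
  haveI : Fact (Nat.Prime 2) := ⟨Nat.prime_two⟩
  have hi : ¬ 2 ∣ (T.subgroupOf X).index := by
    have : (T.subgroupOf X).index = 3 := hT.2.2
    rw [this]
    omega
  let P' : Sylow 2 X := (hT.2.1.comap_subtype).toSylow hi
  have hH : IsPGroup 2 (zpowers (⟨h, hX⟩ : X)) := by
    rintro ⟨z, hz⟩
    refine ⟨1, ?_⟩
    obtain ⟨n, rfl⟩ := mem_zpowers_iff.mp hz
    have h3 : (⟨h, hX⟩ : X) ^ 2 = 1 := by
      rw [pow_two]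
      ext
      exact h2
    apply Subtype.ext
    change ((⟨h, hX⟩ : X) ^ n) ^ 2 ^ 1 = 1
    rw [pow_one, ← zpow_natCast, ← zpow_mul, mul_comm, zpow_mul, zpow_natCast, h3, one_zpow]
  obtain ⟨P, hP⟩ := hH.exists_le_sylow
  obtain ⟨k, hk⟩ := MulAction.exists_smul_eq X P' P
  refine ⟨MulAut.conj (k : G) • T, cj_mem_Syl3_self k.2 hT, ?_⟩
  have h1 : (⟨h, hX⟩ : X) ∈ (P : Subgroup X) := hP (mem_zpowers _)
  rw [← hk, Sylow.coe_subgroup_smul, mem_cj] at h1
  rw [mem_cj]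
  exact h1

theorem eq_one_of_two_three {S : Subgroup G} (hp : IsPGroup 2 S) {c : G} (hc : c ∈ S)
    (h3 : c ^ 3 = 1) : c = 1 := by
  obtain ⟨n, hn⟩ := hp ⟨c, hc⟩
  have hn' : c ^ 2 ^ n = 1 := by
    have := congrArg (fun z : S => (z : G)) hn
    simpa using this
  have h1 : orderOf c ∣ 3 := orderOf_dvd_of_pow_eq_one h3
  have h2 : orderOf c ∣ 2 ^ n := orderOf_dvd_of_pow_eq_one hn'
  have hco : Nat.Coprime 3 (2 ^ n) := Nat.Coprime.pow_right n (by norm_num)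
  have := Nat.Coprime.eq_one_of_dvd (Nat.Coprime.coprime_dvd_left h1 hco) h2
  exact orderOf_eq_one_iff.mp this

theorem Qc_central_of_card_le_two {X : Subgroup G} (hq : Nat.card (Qc X) ≤ 2) :
    ∀ g ∈ X, ∀ q ∈ Qc X, g * q = q * g := by
  intro g hg q hq'
  by_contra hne
  have h1 : g * q * g⁻¹ ∈ Qc X := Qc_normal hg hq'
  have hq1 : q ≠ 1 := by
    rintro rfl
    apply hne
    rw [mul_one, one_mul]
  have h2 : g * q * g⁻¹ ≠ 1 := by
    intro h0
    apply hq1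
    have : q = g⁻¹ * (g * q * g⁻¹) * g := by group
    rw [this, h0]
    group
  have h3 : q ≠ g * q * g⁻¹ := by
    intro h0
    apply hne
    have : g * q = (g * q * g⁻¹) * g := by group
    rw [this, ← h0]
  have := card_ge_three hq' h1 hq1 h2 h3
  omega

theorem card_Qc_ge_four_of_CON {X T : Subgroup G} (hT : T ∈ Syl3 X) (hnn : NN X)
    (hcon : CON X) : 4 ≤ Nat.card (Qc X) := by
  haveI : Fact (Nat.Prime 2) := ⟨Nat.prime_two⟩
  by_contra hlt
  push Not at hlt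
  have hp : IsPGroup 2 (Qc X) := hT.2.1.to_le (Qc_le hT)
  obtain ⟨j, hj⟩ := IsPGroup.iff_card.mp hp
  have hj1 : j ≤ 1 := by
    by_contra hc
    push Not at hc
    have : 2 ^ 2 ≤ 2 ^ j := Nat.pow_le_pow_right (by norm_num) hc
    omega
  have hle : Nat.card (Qc X) ≤ 2 := by
    rw [hj]
    calc 2 ^ j ≤ 2 ^ 1 := Nat.pow_le_pow_right (by norm_num) hj1
      _ = 2 := by norm_num
  have hcen := Qc_central_of_card_le_two hle
  obtain ⟨t, ht, ht'⟩ := exists_not_mem_Qc hnn hT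
  exact ht' (hcon t (hT.1 ht) (fun q hq => hcen t (hT.1 ht) q hq))

/-- an element of order three cannot act trivially on `Qc X` modulo a centralized subgroup -/
theorem not_three {X T : Subgroup G} (hT : T ∈ Syl3 X) (hcon : CON X) {ρ : G} (hρX : ρ ∈ X)
    (hρ3 : ρ ^ 3 = 1) (hρ1 : ρ ≠ 1) {C : Subgroup G} (hCρ : ∀ c ∈ C, ρ * c = c * ρ)
    (hC : ∀ q ∈ Qc X, q⁻¹ * (ρ * q * ρ⁻¹) ∈ C) (hCQ : C ≤ Qc X) : False := by
  have hcen : ∀ q ∈ Qc X, ρ * q = q * ρ := by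
    intro q hq
    have hc := hC q hq
    obtain ⟨c, hc_def⟩ : ∃ c, c = q⁻¹ * (ρ * q * ρ⁻¹) := ⟨_, rfl⟩
    rw [← hc_def] at hc
    have e1 : ρ * q * ρ⁻¹ = q * c := by rw [hc_def]; group
    have hcρ : ρ * c * ρ⁻¹ = c := by
      rw [hCρ c hc]
      group
    have hρ3' : ρ * ρ * ρ = 1 := by
      rw [← hρ3, pow_succ, pow_two]
    have e2 : (ρ * ρ * ρ) * q * (ρ * ρ * ρ)⁻¹ = q * (c * c * c) := by
      calc (ρ * ρ * ρ) * q * (ρ * ρ * ρ)⁻¹ = ρ * (ρ * (ρ * q * ρ⁻¹) * ρ⁻¹) * ρ⁻¹ := by group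
        _ = ρ * (ρ * (q * c) * ρ⁻¹) * ρ⁻¹ := by rw [e1]
        _ = ρ * ((ρ * q * ρ⁻¹) * (ρ * c * ρ⁻¹)) * ρ⁻¹ := by group
        _ = ρ * (q * c * c) * ρ⁻¹ := by rw [e1, hcρ]
        _ = (ρ * q * ρ⁻¹) * (ρ * c * ρ⁻¹) * (ρ * c * ρ⁻¹) := by group
        _ = q * c * c * c := by rw [e1, hcρ]
        _ = q * (c * c * c) := by group
    rw [hρ3', one_mul, inv_one, mul_one] at e2
    have hc3 : c ^ 3 = 1 := by
      have : q * (c * c * c) = q * 1 := by rw [mul_one]; exact e2.symm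
      rw [pow_succ, pow_two]
      exact mul_left_cancel this
    have hc1 : c = 1 := eq_one_of_two_three hT.2.1 (Qc_le hT (hCQ hc)) hc3
    rw [hc1, mul_one] at e1
    calc ρ * q = (ρ * q * ρ⁻¹) * ρ := by group
      _ = q * ρ := by rw [e1]
  have hρQ : ρ ∈ Qc X := hcon ρ hρX hcen
  exact hρ1 (eq_one_of_two_three hT.2.1 (Qc_le hT hρQ) hρ3)

/-- an involution commuting with an element of order three lies in `Qc X` -/
theorem mem_Qc_of_comm_three {X T : Subgroup G} (hT : T ∈ Syl3 X) (hnn : NN X) {ρ h : G}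
    (hρX : ρ ∈ X) (hρ3 : ρ ^ 3 = 1) (hρ1 : ρ ≠ 1) (hhX : h ∈ X) (hh2 : h * h = 1)
    (hcomm : ρ * h = h * ρ) : h ∈ Qc X := by
  obtain ⟨S, hS, hhS⟩ := inv_mem_Syl3 hT hhX hh2
  have hρS : ρ ∉ S := fun hc => hρ1 (eq_one_of_two_three hS.2.1 hc hρ3)
  have hne : S ≠ MulAut.conj ρ • S := by
    intro he
    exact hρS (Syl3_normalizer hnn hS hρX he.symm)
  have h1 : h ∈ MulAut.conj ρ • S := by
    have := cj_mem (g := ρ) hhS
    have e : ρ * h * ρ⁻¹ = h := by
      rw [hcomm]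
      group
    rwa [e] at this
  have h2 : h ∈ S ⊓ MulAut.conj ρ • S := ⟨hhS, h1⟩
  rwa [Syl3_inf_eq_Qc hS (cj_mem_Syl3_self hρX hS) hne] at h2

/-- the centralizer in `Qc X` of an element of order three has index at least four -/
theorem not_card_le {X T : Subgroup G} (hT : T ∈ Syl3 X) (hcon : CON X) {ρ : G}
    (hρX : ρ ∈ X) (hρ3 : ρ ^ 3 = 1) (hρ1 : ρ ≠ 1)
    (hcard : Nat.card (Qc X) ≤ 2 * Nat.card (Qc X ⊓ centralizer {ρ} : Subgroup G)) : False := by
  have hCQ : Qc X ⊓ centralizer {ρ} ≤ Qc X := inf_le_left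
  have hmemC : ∀ q ∈ Qc X, q ∈ Qc X ⊓ centralizer {ρ} ↔ ρ * q = q * ρ := by
    intro q hq
    rw [mem_inf, mem_centralizer_iff]
    constructor
    · intro h
      exact h.2 ρ rfl
    · intro h
      refine ⟨hq, fun y hy => ?_⟩
      rw [Set.mem_singleton_iff] at hy
      rw [hy]
      exact h
  have h1 := card_eq_relIndex_mul hCQ
  have hpos : 0 < Nat.card (Qc X ⊓ centralizer {ρ} : Subgroup G) := Nat.card_pos
  have hrel : (Qc X ⊓ centralizer {ρ}).relIndex (Qc X) ≤ 2 := by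
    by_contra hc
    push Not at hc
    have : 3 * Nat.card (Qc X ⊓ centralizer {ρ} : Subgroup G) ≤
        (Qc X ⊓ centralizer {ρ}).relIndex (Qc X) * Nat.card (Qc X ⊓ centralizer {ρ} : Subgroup G) :=
      Nat.mul_le_mul_right _ hc
    omega
  apply not_three hT hcon hρX hρ3 hρ1 (C := Qc X ⊓ centralizer {ρ}) _ _ hCQ
  · intro c hc
    exact (hmemC c hc.1).mp hc
  · intro q hq
    have hq' : ρ * q * ρ⁻¹ ∈ Qc X := Qc_normal hρX hq
    by_cases hqC : q ∈ Qc X ⊓ centralizer {ρ}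
    · have := (hmemC q hq).mp hqC
      have e : q⁻¹ * (ρ * q * ρ⁻¹) = 1 := by
        rw [this]
        group
      rw [e]
      exact Subgroup.one_mem _
    · have hne1 : (Qc X ⊓ centralizer {ρ}).relIndex (Qc X) ≠ 1 := by
        intro h0
        rw [relIndex_eq_one] at h0
        exact hqC (h0 hq)
      have hne0 : (Qc X ⊓ centralizer {ρ}).relIndex (Qc X) ≠ 0 := by
        intro h0
        rw [h0, zero_mul] at h1
        have : 0 < Nat.card (Qc X) := Nat.card_pos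
        omega
      have h2 : (Qc X ⊓ centralizer {ρ}).relIndex (Qc X) = 2 := by omega
      rw [relIndex_two_mul h2 ((Qc X).inv_mem hq) hq']
      constructor
      · intro h
        exact absurd (by simpa using Subgroup.inv_mem _ h) hqC
      · intro h
        exfalso
        apply hqC
        rw [hmemC q hq]
        have := (hmemC _ hq').mp h
        calc ρ * q = ρ⁻¹ * (ρ * (ρ * q * ρ⁻¹)) * ρ := by group
          _ = ρ⁻¹ * ((ρ * q * ρ⁻¹) * ρ) * ρ := by rw [this]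
          _ = q * ρ := by group

/-! ### The counting lemmas of the case `b = 1` -/

section pair

variable {X Y T : Subgroup G}

theorem Pair.w_mem_Zs (h : Pair X Y T) {u v : G} (hu : u ∈ Vc X) (hv : v ∈ Vc Y)
    (hv' : v ∉ Qc X) : u * v * u * v ∈ Zs T := by
  have hvT : v ∈ T := Qc_le h.hTY (Vc_le_Qc h.conY hv)
  have huT : u ∈ T := Qc_le h.hTX (Vc_le_Qc h.conX hu)
  have hwX : u * v * u * v ∈ Vc X := by
    have h1 : v * u * v⁻¹ ∈ Vc X := Vc_normal (h.hTX.1 hvT) hu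
    rw [Vc_inv h.conY hv] at h1
    have : u * v * u * v = u * (v * u * v) := by group
    rw [this]
    exact (Vc X).mul_mem hu h1
  have hwY : u * v * u * v ∈ Vc Y := by
    have h1 : u * v * u⁻¹ ∈ Vc Y := Vc_normal (h.hTY.1 huT) hv
    rw [Vc_inv h.conX hu] at h1
    exact (Vc Y).mul_mem h1 hv
  exact mem_Zs_of_comm h.nnX h.conX h.hTX hvT hv' hwX (Vc_comm h.conY hwY hv)

theorem Pair.w_ne_one (h : Pair X Y T) {u v : G} (hu : u ∈ Vc X) (hu' : u ∉ Qc Y)
    (hv : v ∈ Vc Y) (hv' : v ∉ Qc X) : u * v * u * v ≠ 1 := by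
  intro h1
  apply hu'
  have hvT : v ∈ T := Qc_le h.hTY (Vc_le_Qc h.conY hv)
  have hcomm : u * v = v * u := by
    have e : u * v = (u * v * u * v) * (v⁻¹ * u⁻¹) := by group
    rw [e, h1, one_mul, Vc_inv h.conY hv, Vc_inv h.conX hu]
  exact Zs_le_Qc h.conY h.hTY (mem_Zs_of_comm h.nnX h.conX h.hTX hvT hv' hu hcomm)

/-- the commutator `u v u v` is not central in `X` -/
theorem Pair.w_not_central (h : Pair X Y T) {u v : G} (hu : u ∈ Vc X) (hu' : u ∉ Qc Y)
    (hv : v ∈ Vc Y) (hv' : v ∉ Qc X) :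
    ¬ ∀ g ∈ X, g * (u * v * u * v) = (u * v * u * v) * g := by
  intro hcen
  have hvT : v ∈ T := Qc_le h.hTY (Vc_le_Qc h.conY hv)
  have hwZ := h.w_mem_Zs hu hv hv'
  obtain ⟨g, hg, hne⟩ := h.nnX T h.hTX
  have hS' := cj_mem_Syl3_self hg h.hTX
  have hv1S : g * v * g⁻¹ ∈ MulAut.conj g • T := cj_mem hvT
  have hv1Q : g * v * g⁻¹ ∉ Qc X := by
    intro hc
    apply hv'
    have := Qc_normal (X.inv_mem hg) hc
    rw [inv_inv] at this
    have e : g⁻¹ * (g * v * g⁻¹) * g = v := by group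
    rwa [e] at this
  have hXgen : T ⊔ zpowers (g * v * g⁻¹) = X := sup_zpowers_eq hS' h.hTX hne hv1S hv1Q
  have hv1sq : (g * v * g⁻¹) * (g * v * g⁻¹) = 1 := by
    have e : (g * v * g⁻¹) * (g * v * g⁻¹) = g * (v * v) * g⁻¹ := by group
    rw [e, Vc_sq h.conY hv]
    group
  have hv1inv : (g * v * g⁻¹)⁻¹ = g * v * g⁻¹ := inv_eq_of_mul_eq_one_left hv1sq
  have hgw : g * (u * v * u * v) * g⁻¹ = u * v * u * v := by
    rw [hcen g hg]
    group
  have hconj : ∀ z ∈ Zs T, (g * v * g⁻¹) * z * (g * v * g⁻¹)⁻¹ ∈ Zs T := by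
    intro z hz
    have hzQ : z ∈ Qc X := Zs_le_Qc h.conX h.hTX hz
    have hz' : g⁻¹ * z * g ∈ Qc X := by
      have := Qc_normal (X.inv_mem hg) hzQ
      rwa [inv_inv] at this
    rcases h.conj_v0 hu hu' hv hz' with h1 | h1
    · have e : (g * v * g⁻¹) * z * (g * v * g⁻¹)⁻¹ = g * (v * (g⁻¹ * z * g) * v⁻¹) * g⁻¹ := by
        group
      rw [e, h1]
      have e2 : g * (g⁻¹ * z * g) * g⁻¹ = z := by group
      rw [e2]
      exact hz
    · have e : (g * v * g⁻¹) * z * (g * v * g⁻¹)⁻¹ = g * (v * (g⁻¹ * z * g) * v⁻¹) * g⁻¹ := by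
        group
      rw [e, h1]
      have e2 : g * (g⁻¹ * z * g * (u * v * u * v)) * g⁻¹ =
          z * (g * (u * v * u * v) * g⁻¹) := by group
      rw [e2, hgw]
      exact (Zs T).mul_mem hz hwZ
  have hnorm1 : MulAut.conj (g * v * g⁻¹) • Zs T = Zs T := by
    ext x
    rw [mem_cj]
    constructor
    · intro hx
      have := hconj _ hx
      have e : (g * v * g⁻¹) * ((g * v * g⁻¹)⁻¹ * x * (g * v * g⁻¹)) * (g * v * g⁻¹)⁻¹ = x := by
        group
      rwa [e] at this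
    · intro hx
      have := hconj _ hx
      rw [hv1inv] at this ⊢
      exact this
  have hnormT : ∀ s ∈ T, MulAut.conj s • Zs T = Zs T := by
    intro s hs
    rw [cj_Zs, cj_eq_self_of_mem hs]
  have hall : X ≤ normalizer ((Zs T : Subgroup G) : Set G) := by
    rw [← hXgen]
    apply sup_le
    · intro s hs
      exact cj_eq_self_iff.mp (hnormT s hs)
    · rw [zpowers_le]
      exact cj_eq_self_iff.mp hnorm1
  have h5 : MulAut.conj g • Zs T = Zs T := cj_eq_self_iff.mpr (hall hg)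
  rw [cj_Zs] at h5
  exact Zs_ne_of_ne h.zX h.hTX hS' (Ne.symm hne) (le_of_eq h5)

end pair

end Cfsg.Agent.Lib.Helper6.Sims
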