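import Mathlib
import Cfsg.Agent.Lib.Helper6.SimsL
import Cfsg.Agent.Lib.Helper16.S4Recog

/-!
Sims' theorem: identification of the point stabilizer in the five cases.
-/

set_option autoImplicit false
set_option linter.unusedSectionVars false
set_option linter.style.haveILetI false

namespace Cfsg.Agent.Lib.Helper6.Sims

open Subgroup Pointwise

variable {G : Type*} [Group G] [Finite G]

section pair

variable {X Y T : Subgroup G}

/-- the two counting inequalities of the case `b = 1` -/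
theorem Pair.key' (h : Pair X Y T) {u0 v0 : G} (hu0 : u0 ∈ Vc X) (hu0' : u0 ∉ Qc Y)
    (hv0 : v0 ∈ Vc Y) (hv0' : v0 ∉ Qc X) (hsq : ∀ a ∈ Qc X, a * a = 1)
    (hab : ∀ a ∈ Qc X, ∀ b ∈ Qc X, a * b = b * a) :
    Nat.card (Qc X) ≤ 2 * Nat.card (Zs T) ∧
    Nat.card (Zs T) ≤ 2 * Nat.card (Zs T ⊓ centralizer (X : Set G) : Subgroup G) := by
  have hv0T : v0 ∈ T := Qc_le h.hTY (Vc_le_Qc h.conY hv0)
  set w := u0 * v0 * u0 * v0 with hw
  have hwX : w ∈ Qc X := by
    have h1 : v0 * u0 * v0⁻¹ ∈ Vc X := Vc_normal (h.hTX.1 hv0T) hu0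
    rw [Vc_inv h.conY hv0] at h1
    have : w = u0 * (v0 * u0 * v0) := by rw [hw]; group
    rw [this]
    exact Vc_le_Qc h.conX ((Vc X).mul_mem hu0 h1)
  -- membership in `Zs T` for elements of `Qc X`
  have hZ : ∀ z ∈ Qc X, v0 * z = z * v0 → z ∈ Zs T := by
    intro z hz hc
    refine ⟨Qc_le h.hTX hz, fun s hs => ?_, hsq z hz⟩
    by_cases hsq' : s ∈ Qc X
    · exact hab s hsq' z hz
    · have h1 := mul_mem_Qc h.nnX h.hTX hs hv0T hsq' hv0'
      have h2 := hab z hz _ h1
      calc s * z = (s * v0) * (v0⁻¹ * z) := by group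
        _ = (s * v0) * (z * v0⁻¹) := by
            congr 1
            calc v0⁻¹ * z = v0⁻¹ * (z * v0) * v0⁻¹ := by group
              _ = v0⁻¹ * (v0 * z) * v0⁻¹ := by rw [hc]
              _ = z * v0⁻¹ := by group
        _ = ((s * v0) * z) * v0⁻¹ := by group
        _ = (z * (s * v0)) * v0⁻¹ := by rw [h2]
        _ = z * s := by group
  constructor
  · apply card_le_two_mul
    intro a ha b hb ha' hb'
    have ha1 : v0 * a * v0⁻¹ = a * w := by
      rcases h.conj_v0 hu0 hu0' hv0 ha with h1 | h1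
      · exfalso
        apply ha'
        apply hZ a ha
        calc v0 * a = v0 * a * v0⁻¹ * v0 := by group
          _ = a * v0 := by rw [h1]
      · exact h1
    have hb1 : v0 * b * v0⁻¹ = b * w := by
      rcases h.conj_v0 hu0 hu0' hv0 hb with h1 | h1
      · exfalso
        apply hb'
        apply hZ b hb
        calc v0 * b = v0 * b * v0⁻¹ * v0 := by group
          _ = b * v0 := by rw [h1]
      · exact h1
    apply hZ _ ((Qc X).mul_mem ha ((Qc X).inv_mem hb))
    have e1 : v0 * (a * b⁻¹) = (v0 * a * v0⁻¹) * (v0 * b * v0⁻¹)⁻¹ * v0 := by group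
    rw [e1, ha1, hb1]
    have e2 : a * w * (b * w)⁻¹ = a * b⁻¹ := by group
    rw [e2]
  · -- an element of `X` outside `T`
    obtain ⟨g, hg, hne⟩ := h.nnX T h.hTX
    have hS' := cj_mem_Syl3_self hg h.hTX
    set v1 := g * v0 * g⁻¹ with hv1
    have hv1S : v1 ∈ MulAut.conj g • T := cj_mem hv0T
    have hv1Q : v1 ∉ Qc X := by
      intro hc
      apply hv0'
      have := Qc_normal (X.inv_mem hg) hc
      rw [inv_inv] at this
      have e : g⁻¹ * v1 * g = v0 := by rw [hv1]; group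
      rwa [e] at this
    have hXgen : T ⊔ zpowers v1 = X := sup_zpowers_eq hS' h.hTX hne hv1S hv1Q
    have hconj : ∀ z ∈ Qc X, v1 * z * v1⁻¹ = z ∨ v1 * z * v1⁻¹ = z * (g * w * g⁻¹) := by
      intro z hz
      have hz' : g⁻¹ * z * g ∈ Qc X := by
        have := Qc_normal (X.inv_mem hg) hz
        rwa [inv_inv] at this
      rcases h.conj_v0 hu0 hu0' hv0 hz' with h1 | h1
      · left
        calc v1 * z * v1⁻¹ = g * (v0 * (g⁻¹ * z * g) * v0⁻¹) * g⁻¹ := by rw [hv1]; group
          _ = z := by rw [h1]; group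
      · right
        calc v1 * z * v1⁻¹ = g * (v0 * (g⁻¹ * z * g) * v0⁻¹) * g⁻¹ := by rw [hv1]; group
          _ = z * (g * w * g⁻¹) := by rw [h1, hw]; group
    have hw1 : g * w * g⁻¹ ∈ Qc X := Qc_normal hg hwX
    have hE : ∀ z ∈ Zs T, v1 * z = z * v1 → z ∈ Zs T ⊓ centralizer (X : Set G) := by
      intro z hz hc
      refine ⟨hz, ?_⟩
      change z ∈ centralizer (X : Set G)
      rw [Subgroup.mem_centralizer_iff]
      have : X ≤ centralizer ({z} : Set G) := by
        rw [← hXgen]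
        apply sup_le
        · intro s hs
          rw [mem_centralizer_iff]
          intro y hy
          rw [Set.mem_singleton_iff] at hy
          rw [hy]
          exact (hz.2.1 s hs).symm
        · rw [zpowers_le, mem_centralizer_iff]
          intro y hy
          rw [Set.mem_singleton_iff] at hy
          rw [hy]
          exact hc.symm
      intro x hx
      have := mem_centralizer_iff.mp (this hx) z (Set.mem_singleton z)
      exact this.symm
    apply card_le_two_mul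
    intro a ha b hb ha' hb'
    have haQ : a ∈ Qc X := Zs_le_Qc h.conX h.hTX ha
    have hbQ : b ∈ Qc X := Zs_le_Qc h.conX h.hTX hb
    have ha1 : v1 * a * v1⁻¹ = a * (g * w * g⁻¹) := by
      rcases hconj a haQ with h1 | h1
      · exfalso
        apply ha'
        apply hE a ha
        calc v1 * a = v1 * a * v1⁻¹ * v1 := by group
          _ = a * v1 := by rw [h1]
      · exact h1
    have hb1 : v1 * b * v1⁻¹ = b * (g * w * g⁻¹) := by
      rcases hconj b hbQ with h1 | h1
      · exfalso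
        apply hb'
        apply hE b hb
        calc v1 * b = v1 * b * v1⁻¹ * v1 := by group
          _ = b * v1 := by rw [h1]
      · exact h1
    apply hE _ ((Zs T).mul_mem ha ((Zs T).inv_mem hb))
    have e1 : v1 * (a * b⁻¹) = (v1 * a * v1⁻¹) * (v1 * b * v1⁻¹)⁻¹ * v1 := by group
    rw [e1, ha1, hb1]
    have e2 : a * (g * w * g⁻¹) * (b * (g * w * g⁻¹))⁻¹ = a * b⁻¹ := by group
    rw [e2]

/-- in the case `|T| = 16` there is a central involution of `X` in `Zs T` -/
theorem Pair.exists_central_inv (h : Pair X Y T) (hb : ¬ Vc X ≤ Qc Y)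
    (hcard : Nat.card T = 16) :
    Nat.card (Qc X) = 8 ∧ ∃ e ∈ Zs T, e ≠ 1 ∧ ∀ g ∈ X, g * e = e * g := by
  obtain ⟨u0, hu0, hu0'⟩ := SetLike.not_le_iff_exists.mp hb
  obtain ⟨v0, hv0, hv0'⟩ := SetLike.not_le_iff_exists.mp (h.not_le_symm hb)
  obtain ⟨hsq, hab⟩ := h.Qc_elem hb
  have hT := card_eq_relIndex_mul (Qc_le h.hTX)
  rw [Qc_relIndex h.nnX h.hTX, hcard] at hT
  have hQ8 : Nat.card (Qc X) = 8 := by omega
  obtain ⟨k1, k2⟩ := h.key' hu0 hu0' hv0 hv0' hsq hab
  refine ⟨hQ8, ?_⟩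
  have h2 : 2 ≤ Nat.card (Zs T ⊓ centralizer (X : Set G) : Subgroup G) := by omega
  have hne : (Zs T ⊓ centralizer (X : Set G) : Subgroup G) ≠ ⊥ := by
    intro h0
    rw [h0, Subgroup.card_bot] at h2
    omega
  obtain ⟨⟨e, he⟩, he1⟩ := (Subgroup.ne_bot_iff_exists_ne_one).mp hne
  refine ⟨e, he.1, fun h0 => he1 (Subtype.ext h0), fun g hg => ?_⟩
  exact mem_centralizer_iff.mp he.2 g hg

end pair

/-- the powers of an element of order six -/
theorem order_six_aux {X T : Subgroup G} (hT : T ∈ Syl3 X) (hnn : NN X) (hcon : CON X)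
    {g : G} (hgX : g ∈ X) (hg6 : orderOf g = 6) :
    g ^ 3 ∈ Qc X ∧ g ^ 3 ≠ 1 ∧ g ^ 3 ∈ centralizer {g ^ 2} ∧
      ¬ (Nat.card (Qc X) ≤ 2 * Nat.card (Qc X ⊓ centralizer {g ^ 2} : Subgroup G)) := by
  have h6 : g ^ 6 = 1 := by
    rw [← hg6]
    exact pow_orderOf_eq_one g
  have hρ3 : (g ^ 2) ^ 3 = 1 := by rw [← pow_mul]; exact h6
  have hρ1 : g ^ 2 ≠ 1 := by
    intro h0
    have := orderOf_dvd_of_pow_eq_one h0
    rw [hg6] at this
    omega
  have hh1 : g ^ 3 ≠ 1 := by
    intro h0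
    have := orderOf_dvd_of_pow_eq_one h0
    rw [hg6] at this
    omega
  have hh2 : g ^ 3 * g ^ 3 = 1 := by rw [← pow_add]; exact h6
  have hcomm : g ^ 2 * g ^ 3 = g ^ 3 * g ^ 2 := by rw [← pow_add, ← pow_add]
  have hρX : g ^ 2 ∈ X := X.pow_mem hgX 2
  have hhX : g ^ 3 ∈ X := X.pow_mem hgX 3
  refine ⟨mem_Qc_of_comm_three hT hnn hρX hρ3 hρ1 hhX hh2 hcomm, hh1, ?_, ?_⟩
  · rw [mem_centralizer_iff]
    intro y hy
    rw [Set.mem_singleton_iff] at hy
    rw [hy]
    exact hcomm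
  · intro hc
    exact not_card_le hT hcon hρX hρ3 hρ1 hc

/-- the symmetric group of degree four -/
theorem s4_of_card_eight {X T : Subgroup G} (hT : T ∈ Syl3 X) (hnn : NN X) (hcon : CON X)
    (hcard : Nat.card T = 8) : Nonempty (X ≃* Equiv.Perm (Fin 4)) := by
  have hX : Nat.card X = 24 := by rw [card_eq_of_Syl3 hT, hcard]
  have hQ := card_eq_relIndex_mul (Qc_le hT)
  rw [Qc_relIndex hnn hT, hcard] at hQ
  apply Cfsg.Agent.Lib.Helper16.s4_of_card_24 hX
  intro g hg6
  have hg6' : orderOf (g : G) = 6 := by rw [Subgroup.orderOf_coe]; exact hg6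
  obtain ⟨hhQ, hh1, hhc, hnot⟩ := order_six_aux hT hnn hcon g.2 hg6'
  apply hnot
  have hne : (Qc X ⊓ centralizer {(g : G) ^ 2} : Subgroup G) ≠ ⊥ := by
    intro h0
    have : (g : G) ^ 3 ∈ (Qc X ⊓ centralizer {(g : G) ^ 2} : Subgroup G) := ⟨hhQ, hhc⟩
    rw [h0, mem_bot] at this
    exact hh1 this
  have := (Subgroup.one_lt_card_iff_ne_bot _).mpr hne
  omega

/-- the symmetric group of degree three -/
theorem s3_of_card_two {X T : Subgroup G} (hT : T ∈ Syl3 X) (hnn : NN X)
    (hc : Nat.card T = 2) : Nonempty (X ≃* Equiv.Perm (Fin 3)) := by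
  have hX : Nat.card X = 6 := by rw [card_eq_of_Syl3 hT, hc]
  apply s3_of_card_six hX (T.subgroupOf X)
  · rw [Nat.card_congr (subgroupOfEquivOfLe hT.1).toEquiv]
    exact hc
  · intro hN
    obtain ⟨g, hg, hne⟩ := hnn T hT
    apply hne
    ext x
    rw [mem_cj]
    constructor
    · intro hx
      have hxX : g⁻¹ * x * g ∈ X := hT.1 hx
      have := hN.conj_mem ⟨g⁻¹ * x * g, hxX⟩ (mem_subgroupOf.mpr hx) ⟨g, hg⟩
      rw [mem_subgroupOf] at this
      have e : ((⟨g, hg⟩ * ⟨g⁻¹ * x * g, hxX⟩ * (⟨g, hg⟩ : X)⁻¹ : X) : G) = x := by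
        simp only [Subgroup.coe_mul, Subgroup.coe_inv]
        group
      rwa [e] at this
    · intro hx
      have hxX : x ∈ X := hT.1 hx
      have := hN.conj_mem ⟨x, hxX⟩ (mem_subgroupOf.mpr hx) (⟨g, hg⟩ : X)⁻¹
      rw [mem_subgroupOf] at this
      simpa using this

/-- the dihedral group of order twelve -/
theorem d12_of_card_four {X T : Subgroup G} (hT : T ∈ Syl3 X) (hnn : NN X)
    (hc : Nat.card T = 4) {t : G} (htT : t ∈ T) (htQ : t ∉ Qc X) (ht2 : t * t = 1) :
    Nonempty (X ≃* DihedralGroup 6) := by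
  have hX : Nat.card X = 12 := by rw [card_eq_of_Syl3 hT, hc]
  have hQ := card_eq_relIndex_mul (Qc_le hT)
  rw [Qc_relIndex hnn hT, hc] at hQ
  have hQ2 : Nat.card (Qc X) = 2 := by omega
  have hQne : Qc X ≠ ⊥ := by
    intro h0
    rw [h0, Subgroup.card_bot] at hQ2
    omega
  obtain ⟨⟨q, hq⟩, hq1'⟩ := (Subgroup.ne_bot_iff_exists_ne_one).mp hQne
  have hq1 : q ≠ 1 := fun h0 => hq1' (Subtype.ext h0)
  have hq2 : q * q = 1 := by
    have h1 : (⟨q, hq⟩ : Qc X) ^ Nat.card (Qc X) = 1 := pow_card_eq_one'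
    rw [hQ2] at h1
    have := congrArg (fun z : Qc X => (z : G)) h1
    simpa [pow_two] using this
  have hqc := Qc_central_of_card_le_two (le_of_eq hQ2)
  obtain ⟨g, hg, hne⟩ := hnn T hT
  have htX : t ∈ X := hT.1 htT
  have ht'S : g * t * g⁻¹ ∈ MulAut.conj g • T := cj_mem htT
  have ht'X : g * t * g⁻¹ ∈ X := X.mul_mem (X.mul_mem hg htX) (X.inv_mem hg)
  have ht'Q : g * t * g⁻¹ ∉ Qc X := by
    intro hcq
    apply htQ
    have := Qc_normal (X.inv_mem hg) hcq
    rw [inv_inv] at this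
    have e : g⁻¹ * (g * t * g⁻¹) * g = t := by group
    rwa [e] at this
  have ht'T : g * t * g⁻¹ ∉ T := not_mem_of_ne (cj_mem_Syl3_self hg hT) hT hne ht'S ht'Q
  have ht'2 : (g * t * g⁻¹) * (g * t * g⁻¹) = 1 := by
    have e : (g * t * g⁻¹) * (g * t * g⁻¹) = g * (t * t) * g⁻¹ := by group
    rw [e, ht2]
    group
  have ht1 : t ≠ 1 := by
    rintro rfl
    exact htQ (Subgroup.one_mem _)
  have ht'1 : g * t * g⁻¹ ≠ 1 := by
    intro h0
    apply ht'Q
    rw [h0]
    exact Subgroup.one_mem _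
  obtain ⟨t', ht'_def⟩ : ∃ t', t' = g * t * g⁻¹ := ⟨_, rfl⟩
  rw [← ht'_def] at ht'S ht'X ht'Q ht'T ht'2 ht'1
  have ht_inv : t⁻¹ = t := inv_eq_of_mul_eq_one_left ht2
  have ht'_inv : t'⁻¹ = t' := inv_eq_of_mul_eq_one_left ht'2
  -- two involutions with product of order six generate `X`
  have fin : ∀ s s' : G, s ∈ X → s' ∈ X → s * s = 1 → s' * s' = 1 → s ≠ 1 → s' ≠ 1 →
      orderOf (s * s') = 6 → Nonempty (X ≃* DihedralGroup 6) := by
    intro s s' hs hs' h2 h2' h1 h1' ho
    have hle : closure ({s, s'} : Set G) ≤ X := by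
      rw [closure_le]
      rintro x (rfl | hx)
      · exact hs
      · rw [Set.mem_singleton_iff] at hx
        rw [hx]
        exact hs'
    obtain ⟨φ⟩ := dihedral_of_two_inv h2 h2' h1 h1' (X := closure ({s, s'} : Set G)) rfl
    rw [ho] at φ
    have hcard : Nat.card (closure ({s, s'} : Set G)) = 12 := by
      rw [Nat.card_congr φ.toEquiv, DihedralGroup.nat_card]
    have heq : closure ({s, s'} : Set G) = X :=
      Subgroup.eq_of_le_of_card_ge hle (by rw [hcard, hX])
    exact ⟨(MulEquiv.subgroupCongr heq.symm).trans φ⟩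
  -- the order of `t * t'`
  have hle0 : closure ({t, t'} : Set G) ≤ X := by
    rw [closure_le]
    rintro x (rfl | hx)
    · exact htX
    · rw [Set.mem_singleton_iff] at hx
      rw [hx]
      exact ht'X
  obtain ⟨φ0⟩ := dihedral_of_two_inv ht2 ht'2 ht1 ht'1 (X := closure ({t, t'} : Set G)) rfl
  have hcard0 : Nat.card (closure ({t, t'} : Set G)) = 2 * orderOf (t * t') := by
    rw [Nat.card_congr φ0.toEquiv, DihedralGroup.nat_card]
  have hdvd : 2 * orderOf (t * t') ∣ 12 := by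
    rw [← hcard0, ← hX]
    exact Subgroup.card_dvd_of_le hle0
  have hpos : 0 < orderOf (t * t') := orderOf_pos _
  obtain ⟨o, ho⟩ : ∃ o, o = orderOf (t * t') := ⟨_, rfl⟩
  rw [← ho] at hdvd hpos
  have hle6 : o ≤ 6 := by
    have := Nat.le_of_dvd (by norm_num) hdvd
    omega
  have hcases : o = 1 ∨ o = 2 ∨ o = 3 ∨ o = 6 := by
    have hd6 : o ∣ 6 := Nat.dvd_of_mul_dvd_mul_left (by norm_num : 0 < 2) hdvd
    have hmem : o ∈ Nat.divisors 6 := Nat.mem_divisors.mpr ⟨hd6, by norm_num⟩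
    have hdiv : Nat.divisors 6 = {1, 2, 3, 6} := by decide
    rw [hdiv] at hmem
    simpa using hmem
  rcases hcases with h1 | h1 | h1 | h1
  · exfalso
    rw [h1] at ho
    have h3 : t * t' = 1 := orderOf_eq_one_iff.mp ho.symm
    apply ht'T
    have : t' = t⁻¹ := (eq_inv_of_mul_eq_one_right h3)
    rw [this]
    exact T.inv_mem htT
  · exfalso
    rw [h1] at ho
    have h3 : (t * t') ^ 2 = 1 := by
      rw [ho]
      exact pow_orderOf_eq_one _
    have hcomm : t' * t = t * t' := by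
      have e : t' * t = (t * t')⁻¹ := by rw [mul_inv_rev, ht_inv, ht'_inv]
      rw [e]
      rw [pow_two] at h3
      exact inv_eq_of_mul_eq_one_left h3
    apply ht'T
    apply Syl3_normalizer hnn hT ht'X
    apply cj_eq_self_of_comm
    intro x hx
    by_cases hxQ : x ∈ Qc X
    · exact hqc t' ht'X x hxQ
    · have hxt : x * t ∈ Qc X := mul_mem_Qc hnn hT hx htT hxQ htQ
      have h4 := hqc t' ht'X _ hxt
      calc t' * x = t' * (x * t) * t⁻¹ := by group
        _ = (x * t) * t' * t⁻¹ := by rw [h4]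
        _ = x * (t * t') * t⁻¹ := by group
        _ = x * (t' * t) * t⁻¹ := by rw [hcomm]
        _ = x * t' := by group
  · have hcq : Commute (t * t') q := by
      have := hqc (t * t') (X.mul_mem htX ht'X) q hq
      exact this
    have hoq : orderOf q = 2 := orderOf_eq_prime (by rw [pow_two]; exact hq2) hq1
    have h3 : orderOf (t * (t' * q)) = 6 := by
      rw [← mul_assoc, hcq.orderOf_mul_eq_mul_orderOf_of_coprime (by rw [← ho, h1, hoq]; norm_num),
        ← ho, h1, hoq]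
    have hs'2 : (t' * q) * (t' * q) = 1 := by
      have h4 : t' * q = q * t' := hqc t' ht'X q hq
      calc (t' * q) * (t' * q) = t' * (q * t') * q := by group
        _ = t' * (t' * q) * q := by rw [h4]
        _ = (t' * t') * (q * q) := by group
        _ = 1 := by rw [ht'2, hq2, one_mul]
    have hs'1 : t' * q ≠ 1 := by
      intro h0
      apply ht'Q
      have : t' = q⁻¹ := eq_inv_of_mul_eq_one_left h0
      rw [this]
      exact (Qc X).inv_mem hq
    exact fin t (t' * q) htX (X.mul_mem ht'X (Qc_le_self X hq)) ht2 hs'2 ht1 hs'1 h3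
  · exact fin t t' htX ht'X ht2 ht'2 ht1 ht'1 (by rw [← ho, h1])

end Cfsg.Agent.Lib.Helper6.Sims
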