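import Mathlib
import Cfsg.Agent.Lib.Helper6.SimsM

/-!
Sims' theorem: the case `|T| = 16`, and the final identification.
-/

set_option autoImplicit false
set_option linter.unusedSectionVars false
set_option linter.style.haveILetI false

namespace Cfsg.Agent.Lib.Helper6.Sims

open Subgroup Pointwise Cfsg.Agent.Lib.Helper2

variable {G : Type*} [Group G] [Finite G]

section pair

variable {X Y T : Subgroup G}

/-- the central involution is not contained in the dihedral group generated by `u` and `v` -/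
theorem Pair.not_mem_closure (h : Pair X Y T) {u v e : G} (hu : u ∈ Vc X) (hu' : u ∉ Qc Y)
    (hv : v ∈ Vc Y) (hv' : v ∉ Qc X) (heZ : e ∈ Zs T) (he1 : e ≠ 1)
    (hecen : ∀ g ∈ X, g * e = e * g) (ho : orderOf (u * v) = 4) :
    e ∉ closure ({u, v} : Set G) := by
  intro hmem
  have hu2 : u * u = 1 := Vc_sq h.conX hu
  have hv2 : v * v = 1 := Vc_sq h.conY hv
  have huT : u ∈ T := Qc_le h.hTX (Vc_le_Qc h.conX hu)
  have hwZ := h.w_mem_Zs hu hv hv'
  have hw2 : (u * v * u * v) * (u * v * u * v) = 1 := (_root_.Cfsg.Agent.Lib.Helper6.Sims.mem_Zs.mp hwZ).2.2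
  have heY : e ∈ Qc Y := Zs_le_Qc h.conY h.hTY heZ
  have hwY : u * v * u * v ∈ Qc Y := Zs_le_Qc h.conY h.hTY hwZ
  have hcu : u * e = e * u := hecen u (h.hTX.1 huT)
  have hpow2 : (u * v) ^ (2 : ℤ) = u * v * u * v := by
    rw [zpow_two]
    group
  have hk : ∀ k : ℤ, u * (u * v) ^ k * u⁻¹ = (u * v) ^ k →
      (u * v) ^ k = 1 ∨ (u * v) ^ k = u * v * u * v := by
    intro k hk
    rw [TwoInv.conj_zpow_left hu2 hv2] at hk
    have h2k : (u * v) ^ (2 * k) = 1 := by
      rw [two_mul, zpow_add]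
      nth_rewrite 1 [← hk]
      rw [← zpow_add, neg_add_cancel, zpow_zero]
    have hdvd : ((orderOf (u * v) : ℕ) : ℤ) ∣ 2 * k := orderOf_dvd_iff_zpow_eq_one.mpr h2k
    rw [ho] at hdvd
    have heven : (2 : ℤ) ∣ k := by
      obtain ⟨c, hc⟩ := hdvd
      exact ⟨c, by push_cast at hc; omega⟩
    obtain ⟨j, rfl⟩ := heven
    rw [zpow_mul, hpow2]
    rcases Int.even_or_odd' j with ⟨m, hm | hm⟩
    · left
      rw [hm, zpow_mul, zpow_two, hw2, one_zpow]
    · right
      rw [hm, zpow_add, zpow_mul, zpow_two, hw2, one_zpow, one_mul, zpow_one]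
  rcases (TwoInv.mem_closure_iff hu2 hv2 e).mp hmem with ⟨k, hk'⟩ | ⟨k, hk'⟩
  · have h3 : u * (u * v) ^ k * u⁻¹ = (u * v) ^ k := by
      rw [← hk', hcu]
      group
    rcases hk k h3 with h1 | h1
    · exact he1 (hk'.trans h1)
    · apply h.w_not_central hu hu' hv hv'
      intro g hg
      rw [← h1, ← hk']
      exact hecen g hg
  · have h3 : u * (u * v) ^ k * u⁻¹ = (u * v) ^ k := by
      have h4 : u * ((u * v) ^ k * u) = ((u * v) ^ k * u) * u := by
        rw [← hk']
        exact hcu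
      calc u * (u * v) ^ k * u⁻¹ = (u * ((u * v) ^ k * u)) * u⁻¹ * u⁻¹ := by group
        _ = ((u * v) ^ k * u * u) * u⁻¹ * u⁻¹ := by rw [h4]
        _ = (u * v) ^ k := by group
    have hmemY : (u * v) ^ k ∈ Qc Y := by
      rcases hk k h3 with h1 | h1
      · rw [h1]
        exact Subgroup.one_mem _
      · rw [h1]
        exact hwY
    apply hu'
    have : u = ((u * v) ^ k)⁻¹ * e := by
      rw [hk']
      group
    rw [this]
    exact (Qc Y).mul_mem ((Qc Y).inv_mem hmemY) heY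

/-- the direct product of the symmetric group of degree four and a group of order two -/
theorem Pair.s4z2_of_card_sixteen (h : Pair X Y T) (hb : ¬ Vc X ≤ Qc Y)
    (hcard : Nat.card T = 16) :
    Nonempty (X ≃* Equiv.Perm (Fin 4) × Multiplicative (ZMod 2)) := by
  obtain ⟨hQ8, e, heZ, he1, hecen⟩ := h.exists_central_inv hb hcard
  obtain ⟨u, hu, hu'⟩ := SetLike.not_le_iff_exists.mp hb
  obtain ⟨v, hv, hv'⟩ := SetLike.not_le_iff_exists.mp (h.not_le_symm hb)
  have hu2 : u * u = 1 := Vc_sq h.conX hu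
  have hv2 : v * v = 1 := Vc_sq h.conY hv
  have huT : u ∈ T := Qc_le h.hTX (Vc_le_Qc h.conX hu)
  have hvT : v ∈ T := Qc_le h.hTY (Vc_le_Qc h.conY hv)
  have hu1 : u ≠ 1 := by
    rintro rfl
    exact hu' (Subgroup.one_mem _)
  have hv1 : v ≠ 1 := by
    rintro rfl
    exact hv' (Subgroup.one_mem _)
  have hw1 := h.w_ne_one hu hu' hv hv'
  have hwZ := h.w_mem_Zs hu hv hv'
  have hw2 : (u * v * u * v) * (u * v * u * v) = 1 := (_root_.Cfsg.Agent.Lib.Helper6.Sims.mem_Zs.mp hwZ).2.2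
  have hpow2 : (u * v) ^ 2 = u * v * u * v := by
    rw [pow_two]
    group
  have ho : orderOf (u * v) = 4 := by
    have := orderOf_eq_prime_pow (p := 2) (n := 1) (x := u * v)
      (by rw [pow_one, hpow2]; exact hw1)
      (by rw [show 2 ^ (1 + 1) = 2 * 2 by norm_num, pow_mul, hpow2, pow_two]; exact hw2)
    simpa using this
  have hT0T : closure ({u, v} : Set G) ≤ T := by
    rw [closure_le]
    rintro x (rfl | hx)
    · exact huT
    · rw [Set.mem_singleton_iff] at hx
      rw [hx]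
      exact hvT
  have hcard0 : Nat.card (closure ({u, v} : Set G)) = 8 := by
    obtain ⟨φ⟩ := dihedral_of_two_inv hu2 hv2 hu1 hv1 (X := closure ({u, v} : Set G)) rfl
    rw [Nat.card_congr φ.toEquiv, DihedralGroup.nat_card, ho]
  have hrel : (closure ({u, v} : Set G)).relIndex T = 2 := by
    have := card_eq_relIndex_mul hT0T
    rw [hcard, hcard0] at this
    omega
  have he0 := h.not_mem_closure hu hu' hv hv' heZ he1 hecen ho
  -- the transfer
  have heX : e ∈ X := h.hTX.1 (Zs_le T heZ)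
  have h2' : ((closure ({u, v} : Set G)).subgroupOf X).relIndex (T.subgroupOf X) = 2 := by
    rw [relIndex_subgroupOf h.hTX.1]
    exact hrel
  have hodd : Odd (T.subgroupOf X).index := by
    have : (T.subgroupOf X).index = 3 := h.hTX.2.2
    rw [this]
    decide
  have he2' : (⟨e, heX⟩ : X) * ⟨e, heX⟩ = 1 := Subtype.ext (_root_.Cfsg.Agent.Lib.Helper6.Sims.mem_Zs.mp heZ).2.2
  have hc' : ∀ g : X, g * ⟨e, heX⟩ = ⟨e, heX⟩ * g := fun g => Subtype.ext (hecen g g.2)
  have he0' : (⟨e, heX⟩ : X) ∉ (closure ({u, v} : Set G)).subgroupOf X := by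
    rw [mem_subgroupOf]
    exact he0
  obtain ⟨K, hK2, heK⟩ := exists_index_two_of_transfer (T.subgroupOf X)
    ((closure ({u, v} : Set G)).subgroupOf X) h2' hodd he2' hc' he0'
  obtain ⟨φ1⟩ := prod_of_index_two K hK2 he2' hc' heK
  have hcardX : Nat.card X = 48 := by rw [card_eq_of_Syl3 h.hTX, hcard]
  have hcardK : Nat.card K = 24 := by
    have := Subgroup.card_mul_index K
    rw [hK2, hcardX] at this
    omega
  have hK4 : Nonempty (K ≃* Equiv.Perm (Fin 4)) := by
    apply Cfsg.Agent.Lib.Helper16.s4_of_card_24 hcardK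
    intro g hg6
    have hg6' : orderOf (((g : X)) : G) = 6 := by
      rw [Subgroup.orderOf_coe, Subgroup.orderOf_coe]
      exact hg6
    obtain ⟨hhQ, hh1, hhc, hnot⟩ := order_six_aux h.hTX h.nnX h.conX (g : X).2 hg6'
    apply hnot
    have heC : e ∈ (Qc X ⊓ centralizer {(((g : X)) : G) ^ 2} : Subgroup G) := by
      refine ⟨Zs_le_Qc h.conX h.hTX heZ, ?_⟩
      change e ∈ centralizer ({(((g : X)) : G) ^ 2} : Set G)
      rw [mem_centralizer_iff]
      intro y hy
      rw [Set.mem_singleton_iff] at hy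
      rw [hy]
      exact hecen _ (X.pow_mem (g : X).2 2)
    have hhC : (((g : X)) : G) ^ 3 ∈ (Qc X ⊓ centralizer {(((g : X)) : G) ^ 2} : Subgroup G) :=
      ⟨hhQ, hhc⟩
    have hne : (((g : X)) : G) ^ 3 ≠ e := by
      intro he
      apply heK
      have : (⟨e, heX⟩ : X) = ((g : X)) ^ 3 := by
        apply Subtype.ext
        rw [Subgroup.coe_pow]
        exact he.symm
      rw [this]
      exact K.pow_mem g.2 3
    have h3 := card_ge_three heC hhC he1 hh1 (Ne.symm hne)
    have hdvd : Nat.card (Qc X ⊓ centralizer {(((g : X)) : G) ^ 2} : Subgroup G) ∣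
        Nat.card (Qc X) := Subgroup.card_dvd_of_le inf_le_left
    rw [hQ8] at hdvd ⊢
    obtain ⟨c, hc⟩ : ∃ c, c = Nat.card (Qc X ⊓ centralizer {(((g : X)) : G) ^ 2} : Subgroup G) :=
      ⟨_, rfl⟩
    rw [← hc] at hdvd h3 ⊢
    have hmem : c ∈ Nat.divisors 8 := Nat.mem_divisors.mpr ⟨hdvd, by norm_num⟩
    have hdiv : Nat.divisors 8 = {1, 2, 4, 8} := by decide
    rw [hdiv] at hmem
    simp only [Finset.mem_insert, Finset.mem_singleton] at hmem
    omega
  obtain ⟨φ2⟩ := hK4
  exact ⟨φ1.trans (MulEquiv.prodCongr φ2 (MulEquiv.refl _))⟩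

end pair

end Cfsg.Agent.Lib.Helper6.Sims
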