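import Mathlib
import Cfsg.Agent.Lib.Helper6.SimsN

/-!
Sims' theorem: the isomorphism type of the point stabilizer.
-/

set_option autoImplicit false
set_option linter.unusedSectionVars false
set_option linter.style.haveILetI false

namespace Cfsg.Agent.Lib.Helper6.Sims

open Subgroup Pointwise

variable {G : Type*} [Group G] [Finite G] {Ω : Type*} [MulAction G Ω] {a b : Ω}

theorem Glob.iso_St (gl : Glob G a b) (x : Ω) : Nonempty (St G a ≃* St G x) := by
  obtain ⟨g, hg⟩ := gl.conj_a x
  exact ⟨(Subgroup.equivSMul (MulAut.conj g) (St G a)).trans (MulEquiv.subgroupCongr hg.symm)⟩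

/-- the isomorphism type of the point stabilizer -/
theorem Glob.iso_types (gl : Glob G a b) :
    Nonempty (St G a ≃* Multiplicative (ZMod 3)) ∨ Nonempty (St G a ≃* Equiv.Perm (Fin 3)) ∨
      Nonempty (St G a ≃* DihedralGroup 6) ∨ Nonempty (St G a ≃* Equiv.Perm (Fin 4)) ∨
      Nonempty (St G a ≃* Equiv.Perm (Fin 4) × Multiplicative (ZMod 2)) := by
  haveI : Fact (Nat.Prime 2) := ⟨Nat.prime_two⟩
  by_cases hnn : NN (St G a)
  · by_cases hcon : CON (St G a)
    · -- the constrained case
      have hs := gl.sys hnn hcon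
      obtain ⟨x, y, hxy, hc⟩ := hs.exists_crit_pair gl.rel
      have hp : Pair (St G x) (St G y) (St G x ⊓ St G y) :=
        ⟨hxy.2.1, hxy.2.2, hs.nn x, hs.nn y, hs.con x, hs.con y, hs.znc x, hs.znc y,
          fun N hN h1 h2 => hs.core_of_two hxy.1 (hN.trans inf_le_left) h1 h2⟩
      have h16 := hp.card_le hc
      have h4 := card_Qc_ge_four_of_CON hxy.2.1 (hs.nn x) (hs.con x)
      have hQ := card_eq_relIndex_mul (Qc_le hxy.2.1)
      rw [Qc_relIndex (hs.nn x) hxy.2.1] at hQ
      obtain ⟨k, hk⟩ := IsPGroup.iff_card.mp hxy.2.1.2.1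
      have hk4 : k ≤ 4 := by
        by_contra hc'
        push Not at hc'
        have : 2 ^ 5 ≤ 2 ^ k := Nat.pow_le_pow_right (by norm_num) hc'
        omega
      have hk3 : 3 ≤ k := by
        by_contra hc'
        push Not at hc'
        have : 2 ^ k ≤ 2 ^ 2 := Nat.pow_le_pow_right (by norm_num) (by omega)
        omega
      obtain ⟨φ⟩ := gl.iso_St x
      have hk34 : k = 3 ∨ k = 4 := by omega
      rcases hk34 with rfl | rfl
      · obtain ⟨ψ⟩ := s4_of_card_eight hxy.2.1 (hs.nn x) (hs.con x) (by rw [hk]; norm_num)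
        exact Or.inr (Or.inr (Or.inr (Or.inl ⟨φ.trans ψ⟩)))
      · obtain ⟨ψ⟩ := hp.s4z2_of_card_sixteen hc (by rw [hk]; norm_num)
        exact Or.inr (Or.inr (Or.inr (Or.inr ⟨φ.trans ψ⟩)))
    · -- the non constrained case
      have h4 := gl.card_le_four hnn hcon
      have hne := gl.inf_ne_bot hnn
      obtain ⟨k, hk⟩ := IsPGroup.iff_card.mp gl.hTa.2.1
      have hk0 : k ≠ 0 := by
        rintro rfl
        rw [pow_zero] at hk
        exact hne (Subgroup.card_eq_one.mp hk)
      have hk2 : k ≤ 2 := by
        by_contra hc'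
        push Not at hc'
        have : 2 ^ 3 ≤ 2 ^ k := Nat.pow_le_pow_right (by norm_num) hc'
        omega
      have hk12 : k = 1 ∨ k = 2 := by omega
      rcases hk12 with rfl | rfl
      · exact Or.inr (Or.inl (s3_of_card_two gl.hTa hnn (by rw [hk]; norm_num)))
      · have hcard : Nat.card (St G a ⊓ St G b : Subgroup G) = 4 := by rw [hk]; norm_num
        have hnnb : NN (St G b) := (gl.NN_iff b).mpr hnn
        have hQa := card_eq_relIndex_mul (Qc_le gl.hTa)
        rw [Qc_relIndex hnn gl.hTa, hcard] at hQa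
        have hQb := card_eq_relIndex_mul (Qc_le gl.hTb)
        rw [Qc_relIndex hnnb gl.hTb, hcard] at hQb
        have hneq : Qc (St G a) ≠ Qc (St G b) := by
          intro he
          have hbot : Qc (St G a) = ⊥ := by
            apply gl.core_two (Qc_le gl.hTa)
            · intro g hg
              rw [cj_Qc, cj_eq_self_of_mem hg]
            · intro g hg
              rw [he, cj_Qc, cj_eq_self_of_mem hg]
          rw [hbot, Subgroup.card_bot] at hQa
          omega
        have hnle : ¬ Qc (St G b) ≤ Qc (St G a) := by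
          intro hle
          apply hneq
          exact (Subgroup.eq_of_le_of_card_ge hle (by omega)).symm
        obtain ⟨t, htb, hta⟩ := SetLike.not_le_iff_exists.mp hnle
        have ht2 : t * t = 1 := by
          have h1 : (⟨t, htb⟩ : Qc (St G b)) ^ Nat.card (Qc (St G b)) = 1 := pow_card_eq_one'
          have h2 : Nat.card (Qc (St G b)) = 2 := by omega
          rw [h2] at h1
          have := congrArg (fun z : Qc (St G b) => (z : G)) h1
          simpa [pow_two] using this
        exact Or.inr (Or.inr (Or.inl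
          (d12_of_card_four gl.hTa hnn hcard (Qc_le gl.hTb htb) hta ht2)))
  · -- the stabilizer has order three
    left
    apply z3_of_card_three
    rw [card_eq_of_Syl3 gl.hTa, gl.inf_eq_bot_of_not_NN hnn, Subgroup.card_bot]

end Cfsg.Agent.Lib.Helper6.Sims
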