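import Mathlib
import Cfsg.Agent.Lib.Helper6.SimsJ

/-!
The Thompson subgroup argument for a group `M` with `M / O_2(M)` of order `2 q`, `q ≥ 5` prime:
a largest elementary abelian subgroup of a Sylow `2`-subgroup `S` lies in `O_2(M)` whenever
`Ω₁ Z(S)` is not central in `M`.
-/

set_option autoImplicit false
set_option linter.unusedSectionVars false
set_option linter.style.haveILetI false

namespace Cfsg.Agent.Lib.Helper6.Sims

open Subgroup Pointwise

variable {G : Type*} [Group G]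

/-- elementary abelian `2`-subgroups -/
def EA (A : Subgroup G) : Prop :=
  (∀ a ∈ A, ∀ b ∈ A, a * b = b * a) ∧ ∀ a ∈ A, a * a = 1

theorem EA_bot : EA (⊥ : Subgroup G) := by
  constructor
  · intro a ha b hb
    rw [mem_bot] at ha hb
    rw [ha, hb]
  · intro a ha
    rw [mem_bot] at ha
    rw [ha, mul_one]

theorem EA_mono {A B : Subgroup G} (h : EA B) (hAB : A ≤ B) : EA A :=
  ⟨fun a ha b hb => h.1 a (hAB ha) b (hAB hb), fun a ha => h.2 a (hAB ha)⟩

theorem EA_cj {g : G} {A : Subgroup G} (h : EA A) : EA (MulAut.conj g • A) := by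
  constructor
  · intro a ha b hb
    rw [mem_cj] at ha hb
    have := h.1 _ ha _ hb
    have e1 : a * b = g * ((g⁻¹ * a * g) * (g⁻¹ * b * g)) * g⁻¹ := by group
    have e2 : b * a = g * ((g⁻¹ * b * g) * (g⁻¹ * a * g)) * g⁻¹ := by group
    rw [e1, e2, this]
  · intro a ha
    rw [mem_cj] at ha
    have := h.2 _ ha
    have e1 : a * a = g * ((g⁻¹ * a * g) * (g⁻¹ * a * g)) * g⁻¹ := by group
    rw [e1, this]
    group

/-- the join of two commuting elementary abelian subgroups is elementary abelian -/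
theorem EA_sup {A V : Subgroup G} (hA : EA A) (hV : EA V)
    (hc : ∀ a ∈ A, ∀ v ∈ V, a * v = v * a) : EA (A ⊔ V) := by
  have h1 : A ⊔ V ≤ centralizer (A : Set G) := by
    apply sup_le
    · intro a ha
      rw [mem_centralizer_iff]
      intro b hb
      exact hA.1 b hb a ha
    · intro v hv
      rw [mem_centralizer_iff]
      intro b hb
      exact hc b hb v hv
  have h2 : A ⊔ V ≤ centralizer (V : Set G) := by
    apply sup_le
    · intro a ha
      rw [mem_centralizer_iff]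
      intro b hb
      exact (hc a ha b hb).symm
    · intro v hv
      rw [mem_centralizer_iff]
      intro b hb
      exact hV.1 b hb v hv
  have h3 : A ⊔ V ≤ centralizer ((A ⊔ V : Subgroup G) : Set G) := by
    apply sup_le
    · exact le_centralizer_iff.mp h1
    · exact le_centralizer_iff.mp h2
  have hcomm : ∀ a ∈ A ⊔ V, ∀ b ∈ A ⊔ V, a * b = b * a := by
    intro a ha b hb
    exact (mem_centralizer_iff.mp (h3 ha) b hb).symm
  refine ⟨hcomm, ?_⟩
  let E : Subgroup G :=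
    { carrier := {v | v ∈ A ⊔ V ∧ v * v = 1}
      mul_mem' := by
        rintro a b ⟨ha, ha2⟩ ⟨hb, hb2⟩
        refine ⟨(A ⊔ V).mul_mem ha hb, ?_⟩
        have : a * b * (a * b) = a * (b * a) * b := by group
        rw [this, hcomm b hb a ha, ← mul_assoc, ha2, one_mul, hb2]
      one_mem' := ⟨(A ⊔ V).one_mem, by rw [mul_one]⟩
      inv_mem' := by
        rintro a ⟨ha, ha2⟩
        have e : a⁻¹ = a := inv_eq_of_mul_eq_one_left ha2
        rw [e]
        exact ⟨ha, ha2⟩ }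
  have : A ⊔ V ≤ E := by
    apply sup_le
    · intro a ha
      exact ⟨le_sup_left (a := A) ha, hA.2 a ha⟩
    · intro a ha
      exact ⟨le_sup_right (b := V) ha, hV.2 a ha⟩
  intro a ha
  exact (this ha).2

/-- the elementary abelian subgroups of `X` of largest order -/
def AX (X : Subgroup G) : Set (Subgroup G) :=
  {A | A ≤ X ∧ EA A ∧ ∀ B : Subgroup G, B ≤ X → EA B → Nat.card B ≤ Nat.card A}

/-- the Thompson subgroup -/
def JX (X : Subgroup G) : Subgroup G := ⨆ A ∈ AX X, A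

theorem le_JX {X A : Subgroup G} (h : A ∈ AX X) : A ≤ JX X :=
  le_iSup₂_of_le (f := fun A (_ : A ∈ AX X) => A) A h le_rfl

theorem JX_le_iff {X K : Subgroup G} : JX X ≤ K ↔ ∀ A ∈ AX X, A ≤ K := iSup₂_le_iff

theorem JX_le (X : Subgroup G) : JX X ≤ X := JX_le_iff.mpr fun _ h => h.1

theorem cj_mem_AX {g : G} {X A : Subgroup G} (h : A ∈ AX X) :
    MulAut.conj g • A ∈ AX (MulAut.conj g • X) := by
  refine ⟨cj_le_cj.mpr h.1, EA_cj h.2.1, ?_⟩
  intro B hB hBe
  have h1 : MulAut.conj g⁻¹ • B ≤ X := by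
    have := cj_le_cj (g := g⁻¹).mpr hB
    rwa [cj_inv_cj] at this
  have h2 := h.2.2 _ h1 (EA_cj hBe)
  rw [cj_card] at h2
  rw [cj_card]
  exact h2

theorem cj_JX_le (g : G) (X : Subgroup G) :
    MulAut.conj g • JX X ≤ JX (MulAut.conj g • X) := by
  rw [← cj_le_cj (g := g⁻¹), cj_inv_cj, JX_le_iff]
  intro A hA
  rw [← cj_le_cj (g := g), cj_cj_inv]
  exact le_JX (cj_mem_AX hA)

theorem cj_JX (g : G) (X : Subgroup G) :
    MulAut.conj g • JX X = JX (MulAut.conj g • X) := by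
  apply le_antisymm (cj_JX_le g X)
  have := cj_JX_le g⁻¹ (MulAut.conj g • X)
  rw [cj_inv_cj] at this
  have h3 := cj_le_cj (g := g).mpr this
  rwa [cj_cj_inv] at h3

section fin
variable [Finite G]

theorem AX_nonempty (X : Subgroup G) : ∃ A, A ∈ AX X := by
  haveI : Nonempty {A : Subgroup G // A ≤ X ∧ EA A} := ⟨⟨⊥, bot_le, EA_bot⟩⟩
  obtain ⟨A, hA⟩ := Finite.exists_max
    (fun A : {A : Subgroup G // A ≤ X ∧ EA A} => Nat.card (A : Subgroup G))
  exact ⟨A.1, A.2.1, A.2.2, fun B hB hBe => hA ⟨B, hB, hBe⟩⟩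

theorem JX_ne_bot {X : Subgroup G} {z : G} (hz : z ∈ X) (hz1 : z ≠ 1) (hz2 : z * z = 1) :
    JX X ≠ ⊥ := by
  obtain ⟨A, hA⟩ := AX_nonempty X
  have hB : EA (zpowers z) := by
    constructor
    · intro a ha b hb
      obtain ⟨i, rfl⟩ := mem_zpowers_iff.mp ha
      obtain ⟨j, rfl⟩ := mem_zpowers_iff.mp hb
      rw [← zpow_add, ← zpow_add, add_comm]
    · intro a ha
      obtain ⟨i, rfl⟩ := mem_zpowers_iff.mp ha
      rw [← zpow_add, ← two_mul, zpow_mul, zpow_two, hz2, one_zpow]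
  have h1 := hA.2.2 (zpowers z) (by rw [zpowers_le]; exact hz) hB
  intro hbot
  have hAle : A ≤ ⊥ := by
    rw [← hbot]
    exact le_JX hA
  have hAbot : A = ⊥ := le_bot_iff.mp hAle
  rw [hAbot, Subgroup.card_bot] at h1
  have h2 : zpowers z = ⊥ := (Subgroup.card_le_one_iff_eq_bot _).mp h1
  exact hz1 (zpowers_eq_bot.mp h2)

theorem AX_eq_of_le {Q S : Subgroup G} (hQS : Q ≤ S) (h : ∀ A ∈ AX S, A ≤ Q) : AX S = AX Q := by
  ext A
  constructor
  · intro hA
    exact ⟨h A hA, hA.2.1, fun B hB hBe => hA.2.2 B (hB.trans hQS) hBe⟩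
  · intro hA
    obtain ⟨A', hA'⟩ := AX_nonempty S
    have h1 : Nat.card A' ≤ Nat.card A := hA.2.2 A' (h A' hA') hA'.2.1
    exact ⟨hA.1.trans hQS, hA.2.1, fun B hB hBe => (hA'.2.2 B hB hBe).trans h1⟩

theorem JX_eq_of_le {Q S : Subgroup G} (hQS : Q ≤ S) (h : ∀ A ∈ AX S, A ≤ Q) : JX S = JX Q := by
  unfold JX
  rw [AX_eq_of_le hQS h]

/-- a lower bound for the order of a subgroup containing `A` and `V` -/
theorem card_mul_relIndex_le {A V B : Subgroup G} (hA : A ≤ B) (hV : V ≤ B) :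
    Nat.card A * (A ⊓ V).relIndex V ≤ Nat.card B := by
  unfold relIndex index
  rw [← Nat.card_prod]
  apply Nat.card_le_card_of_injective
    (fun p : A × (V ⧸ (A ⊓ V).subgroupOf V) =>
      (⟨((Quotient.out p.2 : V) : G) * p.1, B.mul_mem (hV (Quotient.out p.2).2) (hA p.1.2)⟩ : B))
  rintro ⟨a, c⟩ ⟨a', c'⟩ hab
  simp only [Subtype.mk.injEq] at hab
  have h1 : ((Quotient.out c' : V) : G)⁻¹ * ((Quotient.out c : V) : G) = a' * (a : G)⁻¹ := by
    have : ((Quotient.out c : V) : G) = ((Quotient.out c' : V) : G) * a' * (a : G)⁻¹ := by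
      rw [← hab]
      group
    rw [this]
    group
  have h2 : (Quotient.out c' : V)⁻¹ * (Quotient.out c : V) ∈ (A ⊓ V).subgroupOf V := by
    rw [mem_subgroupOf]
    refine ⟨?_, ?_⟩
    · have : (((Quotient.out c' : V)⁻¹ * (Quotient.out c : V) : V) : G) = a' * (a : G)⁻¹ := by
        rw [← h1]
        simp
      rw [this]
      exact A.mul_mem a'.2 (A.inv_mem a.2)
    · exact ((Quotient.out c' : V)⁻¹ * (Quotient.out c : V)).2
  have h3 : c' = c := by
    rw [← QuotientGroup.out_eq' c, ← QuotientGroup.out_eq' c', QuotientGroup.eq]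
    exact h2
  subst h3
  have h4 : (a : G) = a' := mul_left_cancel hab
  exact Prod.ext (Subtype.ext h4) rfl

theorem eq_or_eq_of_relIndex_prime {S K M : Subgroup G} {q : ℕ} (hq : q.Prime)
    (h : S.relIndex M = q) (h1 : S ≤ K) (h2 : K ≤ M) : K = S ∨ K = M := by
  have h' := relIndex_mul_relIndex S K M h1 h2
  rw [h] at h'
  have hd : S.relIndex K ∣ q := Dvd.intro _ h'
  rcases (Nat.dvd_prime hq).mp hd with h3 | h3
  · left
    exact le_antisymm (relIndex_eq_one.mp h3) h1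
  · right
    rw [h3] at h'
    have : K.relIndex M = 1 := by
      have hpos : 0 < q := hq.pos
      have : q * K.relIndex M = q * 1 := by rw [h', mul_one]
      exact Nat.eq_of_mul_eq_mul_left hpos this
    exact le_antisymm h2 (relIndex_eq_one.mp this)

end fin

/-- the normal closure of `Zs S` under `M` -/
def Vn (M S : Subgroup G) : Subgroup G := ⨆ g ∈ M, MulAut.conj g • Zs S

theorem Vn_le_iff {M S K : Subgroup G} :
    Vn M S ≤ K ↔ ∀ g ∈ M, MulAut.conj g • Zs S ≤ K := iSup₂_le_iff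

theorem cjZs_le_Vn {M S : Subgroup G} {g : G} (hg : g ∈ M) : MulAut.conj g • Zs S ≤ Vn M S :=
  le_iSup₂_of_le (f := fun g (_ : g ∈ M) => MulAut.conj g • Zs S) g hg le_rfl

theorem Zs_le_Vn {M S : Subgroup G} : Zs S ≤ Vn M S := by
  have := cjZs_le_Vn (M := M) (S := S) M.one_mem
  rwa [cj_one] at this

theorem Vn_conj {M S : Subgroup G} {k : G} (hk : k ∈ M) :
    MulAut.conj k • Vn M S = Vn M S := by
  have key : ∀ k ∈ M, MulAut.conj k • Vn M S ≤ Vn M S := by
    intro k hk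
    rw [← cj_le_cj (g := k⁻¹), cj_inv_cj, Vn_le_iff]
    intro g hg
    rw [← cj_le_cj (g := k), cj_cj_inv, ← cj_mul]
    exact cjZs_le_Vn (M.mul_mem hk hg)
  apply le_antisymm (key k hk)
  have := key k⁻¹ (M.inv_mem hk)
  rw [← cj_le_cj (g := k), cj_cj_inv] at this
  exact this

theorem Vn_conj_mem {M S : Subgroup G} {k v : G} (hk : k ∈ M) (hv : v ∈ Vn M S) :
    k * v * k⁻¹ ∈ Vn M S := by
  rw [← Vn_conj hk]
  exact cj_mem hv

/-- the local hypotheses -/
structure Loc (M Q S : Subgroup G) (q : ℕ) : Prop where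
  hq : q.Prime
  hQS : Q ≤ S
  hSM : S ≤ M
  hQn : ∀ g ∈ M, MulAut.conj g • Q = Q
  hidx : S.relIndex M = q
  hSQ : Q.relIndex S = 2
  hcon : ∀ g ∈ M, (∀ x ∈ Q, g * x = x * g) → g ∈ Q

/-- elements of `Vn M S` centralising `T` -/
def Un (M S T : Subgroup G) : Subgroup G := Vn M S ⊓ centralizer (T : Set G)

namespace Loc

variable {M Q S : Subgroup G} {q : ℕ}

theorem Zs_le_Q (h : Loc M Q S q) : Zs S ≤ Q := by
  intro z hz
  apply h.hcon z (h.hSM hz.1)
  intro x hx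
  exact (hz.2.1 x (h.hQS hx)).symm

theorem Vn_le_Q (h : Loc M Q S q) : Vn M S ≤ Q := by
  rw [Vn_le_iff]
  intro g hg
  rw [← h.hQn g hg, cj_le_cj]
  exact h.Zs_le_Q

theorem Vn_comm_Q (h : Loc M Q S q) {v x : G} (hv : v ∈ Vn M S) (hx : x ∈ Q) :
    v * x = x * v := by
  have : Vn M S ≤ centralizer (Q : Set G) := by
    rw [Vn_le_iff]
    intro g hg v hv
    rw [mem_centralizer_iff]
    intro x hx
    rw [mem_cj] at hv
    have hx' : g⁻¹ * x * g ∈ Q := by
      have : x ∈ MulAut.conj g • Q := by rw [h.hQn g hg]; exact hx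
      exact mem_cj.mp this
    have hc := hv.2.1 _ (h.hQS hx')
    have e1 : x * v = g * ((g⁻¹ * x * g) * (g⁻¹ * v * g)) * g⁻¹ := by group
    have e2 : v * x = g * ((g⁻¹ * v * g) * (g⁻¹ * x * g)) * g⁻¹ := by group
    rw [e1, e2, hc]
  exact (mem_centralizer_iff.mp (this hv) x hx).symm

theorem Vn_comm (h : Loc M Q S q) {v w : G} (hv : v ∈ Vn M S) (hw : w ∈ Vn M S) :
    v * w = w * v := h.Vn_comm_Q hv (h.Vn_le_Q hw)

theorem Vn_sq (h : Loc M Q S q) {v : G} (hv : v ∈ Vn M S) : v * v = 1 := by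
  let E : Subgroup G :=
    { carrier := {v | v ∈ Vn M S ∧ v * v = 1}
      mul_mem' := by
        rintro a b ⟨ha, ha2⟩ ⟨hb, hb2⟩
        refine ⟨(Vn M S).mul_mem ha hb, ?_⟩
        have : a * b * (a * b) = a * (b * a) * b := by group
        rw [this, h.Vn_comm hb ha, ← mul_assoc, ha2, one_mul, hb2]
      one_mem' := ⟨(Vn M S).one_mem, by rw [mul_one]⟩
      inv_mem' := by
        rintro a ⟨ha, ha2⟩
        have e : a⁻¹ = a := inv_eq_of_mul_eq_one_left ha2
        rw [e]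
        exact ⟨ha, ha2⟩ }
  have : Vn M S ≤ E := by
    rw [Vn_le_iff]
    intro g hg z hz
    refine ⟨cjZs_le_Vn hg hz, ?_⟩
    rw [mem_cj] at hz
    have h2 := hz.2.2
    have e : z * z = g * ((g⁻¹ * z * g) * (g⁻¹ * z * g)) * g⁻¹ := by group
    rw [e, h2]
    group
  exact (this hv).2

theorem Vn_inv (h : Loc M Q S q) {v : G} (hv : v ∈ Vn M S) : v⁻¹ = v :=
  inv_eq_of_mul_eq_one_left (h.Vn_sq hv)

theorem EA_Vn (h : Loc M Q S q) : EA (Vn M S) :=
  ⟨fun _ ha _ hb => h.Vn_comm ha hb, fun _ ha => h.Vn_sq ha⟩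

theorem mul_mem_Q (h : Loc M Q S q) {s a : G} (hs : s ∈ S) (ha : a ∈ S) (hs' : s ∉ Q)
    (ha' : a ∉ Q) : s * a ∈ Q := by
  rw [relIndex_two_mul h.hSQ hs ha]
  exact ⟨fun h1 => absurd h1 hs', fun h1 => absurd h1 ha'⟩

theorem mem_Un_cj (_h : Loc M Q S q) {g x : G} (hg : g ∈ M) :
    x ∈ Un M S (MulAut.conj g • S) ↔ g⁻¹ * x * g ∈ Un M S S := by
  unfold Un
  rw [mem_inf, mem_inf]
  have h1 : x ∈ Vn M S ↔ g⁻¹ * x * g ∈ Vn M S := by
    rw [← mem_cj, Vn_conj hg]
  have h2 : x ∈ centralizer ((MulAut.conj g • S : Subgroup G) : Set G) ↔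
      g⁻¹ * x * g ∈ centralizer (S : Set G) := by
    rw [mem_centralizer_iff, mem_centralizer_iff]
    constructor
    · intro hx s hs
      have := hx (g * s * g⁻¹) (cj_mem hs)
      have e1 : s * (g⁻¹ * x * g) = g⁻¹ * ((g * s * g⁻¹) * x) * g := by group
      have e2 : g⁻¹ * x * g * s = g⁻¹ * (x * (g * s * g⁻¹)) * g := by group
      rw [e1, e2, this]
    · intro hx t ht
      have ht' : g⁻¹ * t * g ∈ S := mem_cj.mp ht
      have := hx _ ht'
      have e1 : t * x = g * ((g⁻¹ * t * g) * (g⁻¹ * x * g)) * g⁻¹ := by group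
      have e2 : x * t = g * ((g⁻¹ * x * g) * (g⁻¹ * t * g)) * g⁻¹ := by group
      rw [e1, e2, this]
  rw [h1, h2]

section fin
variable [Finite G]

/-- an offender acts as a transvection on `Vn M S` -/
theorem transv (h : Loc M Q S q) {A : Subgroup G} (hA : A ∈ AX S) (hAQ : ¬ A ≤ Q) {x y : G}
    (hx : x ∈ Vn M S) (hy : y ∈ Vn M S) (hxU : x ∉ Un M S S) (hyU : y ∉ Un M S S) :
    x * y ∈ Un M S S := by
  obtain ⟨a, haA, haQ⟩ := SetLike.not_le_iff_exists.mp hAQ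
  have haS : a ∈ S := hA.1 haA
  -- step 1
  have h1 : Nat.card A ≤ 2 * Nat.card (A ⊓ Q : Subgroup G) := by
    apply card_le_two_mul
    intro c hc b hb hc' hb'
    have hcQ : c ∉ Q := fun hh => hc' ⟨hc, hh⟩
    have hbQ : b⁻¹ ∉ Q := fun hh => hb' ⟨hb, by simpa using Q.inv_mem hh⟩
    exact ⟨A.mul_mem hc (A.inv_mem hb),
      h.mul_mem_Q (hA.1 hc) (S.inv_mem (hA.1 hb)) hcQ hbQ⟩
  -- step 2
  have hB : EA ((A ⊓ Q) ⊔ Vn M S : Subgroup G) := by
    apply EA_sup (EA_mono hA.2.1 inf_le_left) h.EA_Vn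
    intro c hc v hv
    exact (h.Vn_comm_Q hv hc.2).symm
  have hBS : (A ⊓ Q) ⊔ Vn M S ≤ S := sup_le (inf_le_left.trans hA.1) (h.Vn_le_Q.trans h.hQS)
  have h2 : Nat.card ((A ⊓ Q) ⊔ Vn M S : Subgroup G) ≤ Nat.card A := hA.2.2 _ hBS hB
  -- step 3
  have h3 := card_mul_relIndex_le (A := A ⊓ Q) (V := Vn M S) (B := (A ⊓ Q) ⊔ Vn M S)
    le_sup_left le_sup_right
  have hpos : 0 < Nat.card (A ⊓ Q : Subgroup G) := Nat.card_pos
  have h4 : ((A ⊓ Q) ⊓ Vn M S).relIndex (Vn M S) ≤ 2 := by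
    have : Nat.card (A ⊓ Q : Subgroup G) * ((A ⊓ Q) ⊓ Vn M S).relIndex (Vn M S) ≤
        Nat.card (A ⊓ Q : Subgroup G) * 2 := by
      calc _ ≤ Nat.card ((A ⊓ Q) ⊔ Vn M S : Subgroup G) := h3
        _ ≤ Nat.card A := h2
        _ ≤ 2 * Nat.card (A ⊓ Q : Subgroup G) := h1
        _ = Nat.card (A ⊓ Q : Subgroup G) * 2 := mul_comm _ _
    exact Nat.le_of_mul_le_mul_left this hpos
  -- step 4
  have h5 : (A ⊓ Q) ⊓ Vn M S ≤ Un M S S := by
    intro c hc
    refine ⟨hc.2, ?_⟩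
    change c ∈ centralizer (S : Set G)
    rw [mem_centralizer_iff]
    intro s hs
    by_cases hsQ : s ∈ Q
    · exact (h.Vn_comm_Q hc.2 hsQ).symm
    · have h6 := h.mul_mem_Q hs haS hsQ haQ
      have h7 := h.Vn_comm_Q hc.2 h6
      have h8 : c * a = a * c := hA.2.1.1 c hc.1.1 a haA
      calc s * c = s * a * (a⁻¹ * c * a) * a⁻¹ := by group
        _ = s * a * (a⁻¹ * (c * a)) * a⁻¹ := by group
        _ = s * a * c * a⁻¹ := by rw [h8]; group
        _ = c * (s * a) * a⁻¹ := by rw [h7]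
        _ = c * s := by group
  -- step 5
  have h6 : (Un M S S).relIndex (Vn M S) ∣ ((A ⊓ Q) ⊓ Vn M S).relIndex (Vn M S) :=
    relIndex_dvd_of_le_left _ h5
  have h7 : ((A ⊓ Q) ⊓ Vn M S).relIndex (Vn M S) ≠ 0 := index_ne_zero_of_finite
  have h8 : (Un M S S).relIndex (Vn M S) ≤ 2 :=
    (Nat.le_of_dvd (Nat.pos_of_ne_zero h7) h6).trans h4
  have h9 : (Un M S S).relIndex (Vn M S) ≠ 0 := index_ne_zero_of_finite
  have h10 : (Un M S S).relIndex (Vn M S) = 1 ∨ (Un M S S).relIndex (Vn M S) = 2 := by omega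
  rcases h10 with h10 | h10
  · exfalso
    exact hxU (relIndex_eq_one.mp h10 hx)
  · rw [relIndex_two_mul h10 hx hy]
    exact ⟨fun hh => absurd hh hxU, fun hh => absurd hh hyU⟩

theorem transv_cj (h : Loc M Q S q) {A : Subgroup G} (hA : A ∈ AX S) (hAQ : ¬ A ≤ Q) {g x y : G}
    (hg : g ∈ M) (hx : x ∈ Vn M S) (hy : y ∈ Vn M S)
    (hxU : x ∉ Un M S (MulAut.conj g • S)) (hyU : y ∉ Un M S (MulAut.conj g • S)) :
    x * y ∈ Un M S (MulAut.conj g • S) := by
  rw [h.mem_Un_cj hg] at hxU hyU ⊢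
  have hgi : g⁻¹ ∈ M := M.inv_mem hg
  have hx' : g⁻¹ * x * g ∈ Vn M S := by
    have := Vn_conj_mem hgi hx
    rwa [inv_inv] at this
  have hy' : g⁻¹ * y * g ∈ Vn M S := by
    have := Vn_conj_mem hgi hy
    rwa [inv_inv] at this
  have := h.transv hA hAQ hx' hy' hxU hyU
  have e : g⁻¹ * (x * y) * g = g⁻¹ * x * g * (g⁻¹ * y * g) := by group
  rw [e]
  exact this

end fin

end Loc

end Cfsg.Agent.Lib.Helper6.Sims
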