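import Mathlib
import Cfsg.Agent.Lib.Helper6.SimsP

/-!
The Thompson subgroup argument, continued: no offenders when `q ≥ 5`.
-/

set_option autoImplicit false
set_option linter.unusedSectionVars false
set_option linter.style.haveILetI false

namespace Cfsg.Agent.Lib.Helper6.Sims

open Subgroup Pointwise

variable {G : Type*} [Group G]

theorem conj_pow_eq {σ v w : G} (h1 : σ * v * σ⁻¹ = v * w) (h2 : σ * w = w * σ) (n : ℕ) :
    σ ^ n * v * (σ ^ n)⁻¹ = v * w ^ n := by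
  induction n with
  | zero => simp
  | succ n ih =>
    have hw : σ * w ^ n * σ⁻¹ = w ^ n := by
      have hc : Commute σ w := h2
      have : σ * w ^ n = w ^ n * σ := (hc.pow_right n).eq
      rw [this]
      group
    calc σ ^ (n + 1) * v * (σ ^ (n + 1))⁻¹ = σ * (σ ^ n * v * (σ ^ n)⁻¹) * σ⁻¹ := by
          rw [pow_succ', mul_inv_rev]
          simp only [mul_assoc]
      _ = σ * (v * w ^ n) * σ⁻¹ := by rw [ih]
      _ = (σ * v * σ⁻¹) * (σ * w ^ n * σ⁻¹) := by group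
      _ = v * w * w ^ n := by rw [h1, hw]
      _ = v * w ^ (n + 1) := by rw [pow_succ', mul_assoc]

namespace Loc

variable [Finite G] {M Q S : Subgroup G} {q : ℕ}

theorem rho_comm (h : Loc M Q S q) (h5 : 5 ≤ q) {A : Subgroup G} (hA : A ∈ AX S) (hAQ : ¬ A ≤ Q)
    {g : G} (hg : g ∈ M) (hsup : S ⊔ MulAut.conj g • S = M) {ρ : G} (hρM : ρ ∈ M)
    (hρ : orderOf ρ = q) {v : G} (hv : v ∈ Vn M S) : ρ * v = v * ρ := by
  classical
  -- central elements
  have hW : ∀ w ∈ Un M S S, w ∈ Un M S (MulAut.conj g • S) → ∀ m ∈ M, m * w = w * m := by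
    intro w hw hw' m hm
    have : S ⊔ MulAut.conj g • S ≤ centralizer ({w} : Set G) := by
      apply sup_le
      · intro s hs
        rw [mem_centralizer_iff]
        intro t ht
        rw [Set.mem_singleton_iff] at ht
        subst ht
        exact (mem_centralizer_iff.mp hw.2 s hs).symm
      · intro s hs
        rw [mem_centralizer_iff]
        intro t ht
        rw [Set.mem_singleton_iff] at ht
        subst ht
        exact (mem_centralizer_iff.mp hw'.2 s hs).symm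
    rw [hsup] at this
    have h1 := mem_centralizer_iff.mp (this hm) w rfl
    exact h1.symm
  -- the conjugates
  have hvi : ∀ i : ℕ, ρ ^ i * v * (ρ ^ i)⁻¹ ∈ Vn M S :=
    fun i => Vn_conj_mem (M.pow_mem hρM i) hv
  -- key lemma
  have key : ∀ i j : ℕ, i < j → j < 5 →
      (ρ ^ i * v * (ρ ^ i)⁻¹ ∈ Un M S S ↔ ρ ^ j * v * (ρ ^ j)⁻¹ ∈ Un M S S) →
      (ρ ^ i * v * (ρ ^ i)⁻¹ ∈ Un M S (MulAut.conj g • S) ↔
        ρ ^ j * v * (ρ ^ j)⁻¹ ∈ Un M S (MulAut.conj g • S)) → ρ * v = v * ρ := by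
    intro i j hij hj5 hu hu'
    obtain ⟨k, rfl⟩ : ∃ k, j = i + k := ⟨j - i, by omega⟩
    have hk1 : 1 ≤ k := by omega
    have hk4 : k ≤ 4 := by omega
    set vi := ρ ^ i * v * (ρ ^ i)⁻¹ with hvi_def
    set vj := ρ ^ (i + k) * v * (ρ ^ (i + k))⁻¹ with hvj_def
    have hviV : vi ∈ Vn M S := hvi i
    have hvjV : vj ∈ Vn M S := hvi (i + k)
    have hwU : vi * vj ∈ Un M S S := by
      by_cases hi : vi ∈ Un M S S
      · exact (Un M S S).mul_mem hi (hu.mp hi)
      · exact h.transv hA hAQ hviV hvjV hi (fun hh => hi (hu.mpr hh))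
    have hwU' : vi * vj ∈ Un M S (MulAut.conj g • S) := by
      by_cases hi : vi ∈ Un M S (MulAut.conj g • S)
      · exact (Un M S (MulAut.conj g • S)).mul_mem hi (hu'.mp hi)
      · exact h.transv_cj hA hAQ hg hviV hvjV hi (fun hh => hi (hu'.mpr hh))
    have hwc := hW (vi * vj) hwU hwU'
    have hwV : vi * vj ∈ Vn M S := (Vn M S).mul_mem hviV hvjV
    have e1 : vj = vi * (vi * vj) := by
      rw [← mul_assoc, h.Vn_sq hviV, one_mul]
    have hσM : ρ ^ k ∈ M := M.pow_mem hρM k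
    have e2 : ρ ^ k * v * (ρ ^ k)⁻¹ = v * (vi * vj) := by
      have hc : ρ ^ i * (vi * vj) = (vi * vj) * ρ ^ i := hwc _ (M.pow_mem hρM i)
      have e3 : ρ ^ i * (ρ ^ k * v * (ρ ^ k)⁻¹) * (ρ ^ i)⁻¹ = vj := by
        rw [hvj_def, pow_add, mul_inv_rev]
        simp only [mul_assoc]
      have e4 : ρ ^ i * (v * (vi * vj)) * (ρ ^ i)⁻¹ = vi * (vi * vj) := by
        have e5 : (vi * vj) * (ρ ^ i)⁻¹ = (ρ ^ i)⁻¹ * (vi * vj) := by
          calc (vi * vj) * (ρ ^ i)⁻¹ = (ρ ^ i)⁻¹ * (ρ ^ i * (vi * vj)) * (ρ ^ i)⁻¹ := by group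
            _ = (ρ ^ i)⁻¹ * ((vi * vj) * ρ ^ i) * (ρ ^ i)⁻¹ := by rw [hc]
            _ = (ρ ^ i)⁻¹ * (vi * vj) := by group
        calc ρ ^ i * (v * (vi * vj)) * (ρ ^ i)⁻¹ = ρ ^ i * v * ((vi * vj) * (ρ ^ i)⁻¹) := by
              simp only [mul_assoc]
          _ = ρ ^ i * v * ((ρ ^ i)⁻¹ * (vi * vj)) := by rw [e5]
          _ = vi * (vi * vj) := by rw [hvi_def]; simp only [mul_assoc]
      have e6 : ρ ^ i * (ρ ^ k * v * (ρ ^ k)⁻¹) * (ρ ^ i)⁻¹ =
          ρ ^ i * (v * (vi * vj)) * (ρ ^ i)⁻¹ := by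
        rw [e3, e4]
        exact e1
      exact mul_left_cancel (mul_right_cancel e6)
    have e5 := conj_pow_eq e2 (hwc _ hσM) q
    have hσq : (ρ ^ k) ^ q = 1 := by
      rw [← pow_mul, mul_comm, pow_mul, ← hρ, pow_orderOf_eq_one, one_pow]
    rw [hσq, one_mul, inv_one, mul_one] at e5
    have hwq : (vi * vj) ^ q = 1 := by
      have : v * 1 = v * (vi * vj) ^ q := by rw [mul_one]; exact e5
      exact (mul_left_cancel this).symm
    have hqodd : Odd q := h.hq.odd_of_ne_two (by omega)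
    obtain ⟨m, hm⟩ := hqodd
    have hw1 : vi * vj = 1 := by
      have h2 : (vi * vj) ^ 2 = 1 := by rw [pow_two]; exact h.Vn_sq hwV
      rw [hm, pow_succ, pow_mul, h2, one_pow, one_mul] at hwq
      exact hwq
    rw [hw1, mul_one] at e2
    have hσv : ρ ^ k * v = v * ρ ^ k := by
      calc ρ ^ k * v = ρ ^ k * v * (ρ ^ k)⁻¹ * ρ ^ k := by group
        _ = v * ρ ^ k := by rw [e2]
    have hcop : Nat.Coprime k q := by
      apply Nat.Coprime.symm
      rw [Nat.Prime.coprime_iff_not_dvd h.hq]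
      intro hd
      have := Nat.le_of_dvd (by omega) hd
      omega
    obtain ⟨m', -, hm'⟩ := Nat.exists_mul_mod_eq_one_of_coprime hcop (by omega : 1 < q)
    have hρσ : (ρ ^ k) ^ m' = ρ := by
      rw [← pow_mul, ← pow_mod_orderOf, hρ, hm', pow_one]
    have hcomm : Commute (ρ ^ k) v := hσv
    have := (hcomm.pow_left m').eq
    rw [hρσ] at this
    exact this
  -- pigeonhole
  let f : Fin 5 → Bool × Bool := fun i =>
    (decide (ρ ^ (i : ℕ) * v * (ρ ^ (i : ℕ))⁻¹ ∈ Un M S S),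
      decide (ρ ^ (i : ℕ) * v * (ρ ^ (i : ℕ))⁻¹ ∈ Un M S (MulAut.conj g • S)))
  obtain ⟨i, j, hij, hf⟩ := Fintype.exists_ne_map_eq_of_card_lt f (by simp)
  have hf1 : (ρ ^ (i : ℕ) * v * (ρ ^ (i : ℕ))⁻¹ ∈ Un M S S ↔
      ρ ^ (j : ℕ) * v * (ρ ^ (j : ℕ))⁻¹ ∈ Un M S S) := by
    have := congrArg Prod.fst hf
    simpa [f] using this
  have hf2 : (ρ ^ (i : ℕ) * v * (ρ ^ (i : ℕ))⁻¹ ∈ Un M S (MulAut.conj g • S) ↔
      ρ ^ (j : ℕ) * v * (ρ ^ (j : ℕ))⁻¹ ∈ Un M S (MulAut.conj g • S)) := by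
    have := congrArg Prod.snd hf
    simpa [f] using this
  have hne : (i : ℕ) ≠ j := fun e => hij (Fin.ext e)
  rcases lt_or_gt_of_ne hne with hlt | hlt
  · exact key i j hlt j.2 hf1 hf2
  · exact key j i hlt i.2 hf1.symm hf2.symm

/-- with `q ≥ 5` there are no offenders -/
theorem offender_false (h : Loc M Q S q) (h5 : 5 ≤ q) (hS2 : IsPGroup 2 S)
    (hnc : ∃ g ∈ M, ∃ z ∈ Zs S, g * z ≠ z * g) (hnn : ∃ g ∈ M, MulAut.conj g • S ≠ S)
    {A : Subgroup G} (hA : A ∈ AX S) (hAQ : ¬ A ≤ Q) : False := by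
  obtain ⟨g, hg, hgS⟩ := hnn
  have hgSM : MulAut.conj g • S ≤ M := by
    have := cj_le_cj (g := g).mpr h.hSM
    rwa [cj_eq_self_of_mem hg] at this
  have hsup : S ⊔ MulAut.conj g • S = M := by
    rcases eq_or_eq_of_relIndex_prime h.hq h.hidx le_sup_left (sup_le h.hSM hgSM) with h1 | h1
    · exfalso
      apply hgS
      have hle : MulAut.conj g • S ≤ S :=
        calc MulAut.conj g • S ≤ S ⊔ MulAut.conj g • S := le_sup_right
          _ = S := h1
      have hc : Nat.card S ≤ Nat.card (MulAut.conj g • S : Subgroup G) := by rw [cj_card]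
      exact Subgroup.eq_of_le_of_card_ge hle hc
    · exact h1
  haveI : Fact q.Prime := ⟨h.hq⟩
  have hdvd : q ∣ Nat.card M := by
    rw [card_eq_relIndex_mul h.hSM, h.hidx]
    exact Dvd.intro _ rfl
  obtain ⟨ρ', hρ'⟩ := exists_prime_orderOf_dvd_card' q hdvd
  have hρ : orderOf (ρ' : G) = q := by
    rw [Subgroup.orderOf_coe]
    exact hρ'
  have hρS : (ρ' : G) ∉ S := by
    intro hρS
    obtain ⟨k, hk⟩ := hS2 ⟨ρ', hρS⟩
    have h1 : ((ρ' : G)) ^ 2 ^ k = 1 := by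
      have := congrArg Subtype.val hk
      simpa using this
    have h2 : q ∣ 2 ^ k := by
      rw [← hρ]
      exact orderOf_dvd_of_pow_eq_one h1
    have h3 : q ∣ 2 := h.hq.dvd_of_dvd_pow h2
    have := Nat.le_of_dvd (by norm_num) h3
    omega
  have hsup2 : S ⊔ zpowers (ρ' : G) = M := by
    rcases eq_or_eq_of_relIndex_prime h.hq h.hidx le_sup_left
      (sup_le h.hSM (by rw [zpowers_le]; exact ρ'.2)) with h1 | h1
    · exfalso
      apply hρS
      rw [← h1]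
      exact le_sup_right (a := S) (mem_zpowers _)
    · exact h1
  obtain ⟨k, hk, z, hz, hne⟩ := hnc
  apply hne
  have : S ⊔ zpowers (ρ' : G) ≤ centralizer (Zs S : Set G) := by
    apply sup_le
    · intro s hs
      rw [mem_centralizer_iff]
      intro z hz
      exact (hz.2.1 s hs).symm
    · rw [zpowers_le, mem_centralizer_iff]
      intro z hz
      exact (h.rho_comm h5 hA hAQ hg hsup ρ'.2 hρ (Zs_le_Vn hz)).symm
  rw [hsup2] at this
  exact (mem_centralizer_iff.mp (this hk) z hz).symm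

end Loc

end Cfsg.Agent.Lib.Helper6.Sims
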