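import Mathlib
import Cfsg.Prelude.Def_PLocal
import Cfsg.Agent.Lib.Helper16.PCore
import Cfsg.Agent.Lib.Helper6.SimsO
import Cfsg.Agent.Lib.Helper6.SimsQ

/-!
Sims' theorem in local form: a maximal subgroup `G` of a simple group with `C_G(O_2(G)) ≤ O_2(G)`,
`|G / O_2(G)| = 2 q` and `N(S) ≰ G` is `S_4` or `S_4 × Z_2`.
-/

set_option autoImplicit false
set_option linter.unusedSectionVars false
set_option linter.style.haveILetI false

namespace Cfsg.Agent.Lib.Helper6.Sims

open Subgroup Pointwise

theorem mem_map_subtype {H : Type*} [Group H] {G : Subgroup H} {K : Subgroup G} {x : H} :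
    x ∈ K.map G.subtype ↔ ∃ hx : x ∈ G, (⟨x, hx⟩ : G) ∈ K := by
  constructor
  · rintro ⟨k, hk, rfl⟩
    exact ⟨k.2, hk⟩
  · rintro ⟨hx, hk⟩
    exact ⟨⟨x, hx⟩, hk, rfl⟩

theorem normal_card_two_le_center {X : Type*} [Group X] (N : Subgroup X) [hN : N.Normal]
    (h : Nat.card N = 2) : N ≤ center X := by
  intro x hx
  rw [mem_center_iff]
  intro g
  by_cases hx1 : x = 1
  · rw [hx1, mul_one, one_mul]
  · obtain ⟨y, hy, huniq⟩ := (Nat.card_eq_two_iff' (1 : N)).mp h
    have h1 : (⟨x, hx⟩ : N) = y := huniq _ (fun e => hx1 (by simpa using congrArg Subtype.val e))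
    have hgx : g * x * g⁻¹ ∈ N := hN.conj_mem x hx g
    have h2 : (⟨g * x * g⁻¹, hgx⟩ : N) = y := by
      apply huniq
      intro e
      apply hx1
      have e1 : g * x * g⁻¹ = 1 := by simpa using congrArg Subtype.val e
      have : x = g⁻¹ * (g * x * g⁻¹) * g := by group
      rw [this, e1]
      group
    have h3 : g * x * g⁻¹ = x := congrArg Subtype.val (h2.trans h1.symm)
    calc g * x = g * x * g⁻¹ * g := by group
      _ = x * g := by rw [h3]

theorem sims_local {H : Type*} [Group H] [Finite H] [IsSimpleGroup H]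
    (G : Subgroup H) (hG : IsCoatom G)
    (hchar : centralizer (Cfsg.pCore 2 ↥G : Set ↥G) ≤ Cfsg.pCore 2 ↥G) (S : Sylow 2 ↥G)
    (hN : ¬ normalizer (((S : Subgroup ↥G).map G.subtype : Subgroup H) : Set H) ≤ G)
    (q : ℕ) (hq : q.Prime) (hcard : Nat.card (↥G ⧸ Cfsg.pCore 2 ↥G) = 2 * q) :
    Nonempty (↥G ≃* Equiv.Perm (Fin 4)) ∨
      Nonempty (↥G ≃* Equiv.Perm (Fin 4) × Multiplicative (ZMod 2)) := by
  classical
  haveI : Fact (Nat.Prime 2) := ⟨Nat.prime_two⟩
  obtain ⟨Q, hQdef⟩ : ∃ Q : Subgroup ↥G, Q = Cfsg.pCore 2 ↥G := ⟨_, rfl⟩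
  haveI hQnormal : Q.Normal := by rw [hQdef]; infer_instance
  obtain ⟨QH, hQH⟩ : ∃ QH : Subgroup H, QH = Q.map G.subtype := ⟨_, rfl⟩
  obtain ⟨SH, hSH⟩ : ∃ SH : Subgroup H, SH = (S : Subgroup ↥G).map G.subtype := ⟨_, rfl⟩
  rw [← hSH] at hN
  have hcard' : Nat.card (↥G ⧸ Q) = 2 * q := by
    subst hQdef
    exact hcard
  have hchar' : centralizer (Q : Set ↥G) ≤ Q := by
    subst hQdef
    exact hchar
  have hQ2 : IsPGroup 2 Q := by
    rw [hQdef]
    exact Cfsg.Agent.Lib.Helper16.pCore_isPGroup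
  have hQS : Q ≤ S := by
    rw [hQdef]
    exact Cfsg.Agent.Lib.Helper16.pCore_le_sylow S
  obtain ⟨k, hk⟩ := hQ2.exists_card_eq
  have hGcard : Nat.card G = 2 ^ k * (2 * q) := by
    rw [Subgroup.card_eq_card_quotient_mul_card_subgroup Q, hcard', hk, mul_comm]
  have hpowpos : 0 < 2 ^ k := by positivity
  -- q ≠ 2
  have hq2 : q ≠ 2 := by
    intro e
    have h1 : Nat.card G = 2 ^ (k + 2) := by
      rw [hGcard, e]
      ring
    have h2 : IsPGroup 2 ↥G := IsPGroup.of_card h1
    have h3 : (⊤ : Subgroup ↥G) ≤ Q := by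
      rw [hQdef]
      exact Cfsg.Agent.Lib.Helper16.le_pCore ⊤ inferInstance (h2.to_subgroup ⊤)
    have h4 : Q = ⊤ := top_le_iff.mp h3
    have h5 : Nat.card Q = Nat.card G := by rw [h4, Subgroup.card_top]
    rw [hk, h1] at h5
    have : 2 ^ k < 2 ^ (k + 2) := Nat.pow_lt_pow_right (by norm_num) (by omega)
    omega
  have hq3 : 3 ≤ q := by
    have := hq.two_le
    omega
  -- Sylow order
  have hScard : Nat.card (S : Subgroup ↥G) = 2 ^ (k + 1) := by
    obtain ⟨m, hm⟩ := S.isPGroup'.exists_card_eq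
    have hidx : ¬ 2 ∣ (S : Subgroup ↥G).index := S.not_dvd_index
    have hmul := Subgroup.card_mul_index (S : Subgroup ↥G)
    rw [hm, hGcard] at hmul
    have hcop1 : Nat.Coprime (2 ^ m) q :=
      Nat.Coprime.pow_left m ((Nat.coprime_primes Nat.prime_two hq).mpr (Ne.symm hq2))
    have hcop2 : Nat.Coprime (2 ^ (k + 1)) (S : Subgroup ↥G).index :=
      Nat.Coprime.pow_left _ ((Nat.Prime.coprime_iff_not_dvd Nat.prime_two).mpr hidx)
    have e : 2 ^ m * (S : Subgroup ↥G).index = 2 ^ (k + 1) * q := by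
      rw [hmul]
      ring
    have d1 : 2 ^ m ∣ 2 ^ (k + 1) := hcop1.dvd_of_dvd_mul_right (Dvd.intro _ e)
    have d2 : 2 ^ (k + 1) ∣ 2 ^ m := hcop2.dvd_of_dvd_mul_right (Dvd.intro _ e.symm)
    rw [hm]
    exact Nat.dvd_antisymm d1 d2
  -- orders in H
  have hQHcard : Nat.card QH = 2 ^ k := by rw [hQH, Subgroup.card_subtype, hk]
  have hSHcard : Nat.card SH = 2 ^ (k + 1) := by rw [hSH, Subgroup.card_subtype, hScard]
  have hQHSH : QH ≤ SH := by
    rw [hQH, hSH]
    exact Subgroup.map_mono hQS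
  have hSHG : SH ≤ G := by
    rw [hSH]
    exact Subgroup.map_subtype_le _
  have hrel1 : QH.relIndex SH = 2 := by
    have h1 := card_eq_relIndex_mul hQHSH
    rw [hQHcard, hSHcard, pow_succ] at h1
    have h2 : 2 * 2 ^ k = QH.relIndex SH * 2 ^ k := by rw [← h1, mul_comm]
    exact (Nat.eq_of_mul_eq_mul_right hpowpos h2).symm
  have hrel2 : SH.relIndex G = q := by
    have h1 := card_eq_relIndex_mul hSHG
    rw [hGcard, hSHcard] at h1
    have hpos : 0 < 2 ^ (k + 1) := by positivity
    have h2 : q * 2 ^ (k + 1) = SH.relIndex G * 2 ^ (k + 1) := by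
      rw [← h1]
      ring
    exact (Nat.eq_of_mul_eq_mul_right hpos h2).symm
  -- the element y
  obtain ⟨y, hyN, hyG⟩ := SetLike.not_le_iff_exists.mp hN
  have hycj : MulAut.conj y • SH = SH := cj_eq_self_iff.mpr hyN
  have hsupG : ∀ g : H, g ∉ G → G ⊔ zpowers g = ⊤ := by
    intro g hg
    apply hG.2
    apply lt_of_le_of_ne le_sup_left
    intro e
    apply hg
    rw [e]
    exact le_sup_right (a := G) (mem_zpowers g)
  have hnormal : ∀ N : Subgroup H, (∀ g ∈ G, MulAut.conj g • N = N) →
      MulAut.conj y • N = N → N = ⊥ ∨ N = ⊤ := by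
    intro N h1 h2
    have hle : G ⊔ zpowers y ≤ normalizer (N : Set H) :=
      sup_le (fun g hg => cj_eq_self_iff.mp (h1 g hg))
        (by rw [zpowers_le]; exact cj_eq_self_iff.mp h2)
    rw [hsupG y hyG] at hle
    have hn : N.Normal := normalizer_eq_top_iff.mp (top_le_iff.mp hle)
    exact hn.eq_bot_or_eq_top
  have hGtop : G ≠ ⊤ := hG.1
  have hcardG6 : 6 ≤ Nat.card G := by
    rw [hGcard]
    nlinarith
  have hselfnorm : ∀ g : H, MulAut.conj g • G = G → g ∈ G := by
    intro g hg
    by_contra hgG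
    have hle : G ⊔ zpowers g ≤ normalizer (G : Set H) :=
      sup_le le_normalizer (by rw [zpowers_le]; exact cj_eq_self_iff.mp hg)
    rw [hsupG g hgG] at hle
    have hn : G.Normal := normalizer_eq_top_iff.mp (top_le_iff.mp hle)
    rcases hn.eq_bot_or_eq_top with h2 | h2
    · have : Nat.card G = 1 := by rw [h2, Subgroup.card_bot]
      omega
    · exact hGtop h2
  by_cases hq3' : q = 3
  · -- the case `q = 3`
    subst hq3'
    have hstab : MulAction.stabilizer H ((1 : H) : H ⧸ G) = G := MulAction.stabilizer_quotient G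
    haveI : Nontrivial (H ⧸ G) := by
      have h1 : G.index ≠ 1 := fun e => hGtop (Subgroup.index_eq_one.mp e)
      have h0 : G.index ≠ 0 := Subgroup.index_ne_zero_of_finite
      rw [← Finite.one_lt_card_iff_nontrivial]
      change 1 < G.index
      omega
    have hprim : MulAction.IsPreprimitive H (H ⧸ G) := by
      rw [← MulAction.isCoatom_stabilizer_iff_preprimitive H ((1 : H) : H ⧸ G), hstab]
      exact hG
    have hker : (MulAction.toPermHom H (H ⧸ G)).ker = ⊥ := by
      rw [← Subgroup.normalCore_eq_ker]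
      rcases (Subgroup.normalCore_normal G).eq_bot_or_eq_top with h | h
      · exact h
      · exfalso
        apply hGtop
        rw [eq_top_iff, ← h]
        exact Subgroup.normalCore_le G
    haveI : FaithfulSMul H (H ⧸ G) := by
      constructor
      intro m1 m2 hm
      have : MulAction.toPermHom H (H ⧸ G) m1 = MulAction.toPermHom H (H ⧸ G) m2 :=
        Equiv.ext hm
      exact (MonoidHom.ker_eq_bot_iff _).mp hker this
    have hStb : St H (y • ((1 : H) : H ⧸ G)) = MulAut.conj y • G := by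
      rw [St_smul]
      rw [show St H ((1 : H) : H ⧸ G) = G from hstab]
    have hT : G ⊓ MulAut.conj y • G = SH := by
      have hle : SH ≤ G ⊓ MulAut.conj y • G := by
        apply le_inf hSHG
        rw [← hycj]
        exact cj_le_cj.mpr hSHG
      rcases eq_or_eq_of_relIndex_prime Nat.prime_three hrel2 hle inf_le_left with h | h
      · exact h
      · exfalso
        have h1 : G ≤ MulAut.conj y • G :=
          calc G = G ⊓ MulAut.conj y • G := h.symm
            _ ≤ MulAut.conj y • G := inf_le_right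
        have hc : Nat.card (MulAut.conj y • G : Subgroup H) ≤ Nat.card G := by rw [cj_card]
        have h2 : G = MulAut.conj y • G := Subgroup.eq_of_le_of_card_ge h1 hc
        exact hyG (hselfnorm y h2.symm)
    have h3 : Nat.card (MulAction.orbit (MulAction.stabilizer H ((1 : H) : H ⧸ G))
        (y • ((1 : H) : H ⧸ G))) = 3 := by
      have h := relIndex_stabilizer_eq' (MulAction.stabilizer H ((1 : H) : H ⧸ G))
        (y • ((1 : H) : H ⧸ G))
      have h' : (MulAction.stabilizer H ((1 : H) : H ⧸ G) ⊓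
          MulAction.stabilizer H (y • ((1 : H) : H ⧸ G))).relIndex
          (MulAction.stabilizer H ((1 : H) : H ⧸ G)) = 3 := by
        rw [show MulAction.stabilizer H (y • ((1 : H) : H ⧸ G)) = MulAut.conj y • G from hStb,
          hstab, hT]
        exact hrel2
      exact h.symm.trans h'
    have gl := glob_of_prim hprim ((1 : H) : H ⧸ G) (y • ((1 : H) : H ⧸ G)) h3
    have iso := gl.iso_types
    have e : ↥(St H ((1 : H) : H ⧸ G)) ≃* ↥G := MulEquiv.subgroupCongr hstab
    -- the central case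
    have hcentral : ¬ Q ≤ center ↥G := by
      intro hc
      have h1 : (⊤ : Subgroup ↥G) ≤ Q := by
        intro g _
        apply hchar'
        rw [mem_centralizer_iff]
        intro x hx
        exact (mem_center_iff.mp (hc hx) g).symm
      have h2 := Subgroup.card_le_of_le h1
      rw [Subgroup.card_top, hk, hGcard] at h2
      nlinarith
    rcases iso with ⟨⟨f⟩⟩ | ⟨⟨f⟩⟩ | ⟨⟨f⟩⟩ | ⟨⟨f⟩⟩ | ⟨⟨f⟩⟩
    · exfalso
      have h1 : Nat.card G = 3 := by
        rw [Nat.card_congr (e.symm.trans f).toEquiv]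
        simp [Nat.card_eq_fintype_card]
      rw [hGcard] at h1
      omega
    · exfalso
      have h1 : Nat.card G = 6 := by
        rw [Nat.card_congr (e.symm.trans f).toEquiv, Nat.card_eq_fintype_card, Fintype.card_perm]
        rfl
      rw [hGcard] at h1
      have hk1 : 2 ^ k = 1 := by omega
      apply hcentral
      have hQbot : Q = ⊥ := (Subgroup.card_le_one_iff_eq_bot Q).mp (by rw [hk, hk1])
      rw [hQbot]
      exact bot_le
    · exfalso
      have h1 : Nat.card G = 12 := by
        rw [Nat.card_congr (e.symm.trans f).toEquiv, DihedralGroup.nat_card]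
      rw [hGcard] at h1
      have hk1 : 2 ^ k = 2 := by omega
      apply hcentral
      exact normal_card_two_le_center Q (by rw [hk, hk1])
    · left
      exact ⟨e.symm.trans f⟩
    · right
      exact ⟨e.symm.trans f⟩
  · -- the case `q ≥ 5`
    exfalso
    have h5 : 5 ≤ q := by
      by_contra hlt
      have h4 : q = 4 := by omega
      rw [h4] at hq
      exact absurd hq (by norm_num)
    have hQn : ∀ g ∈ G, MulAut.conj g • QH = QH := by
      have key : ∀ g ∈ G, MulAut.conj g • QH ≤ QH := by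
        intro g hg x hx
        rw [mem_cj, hQH, mem_map_subtype] at hx
        obtain ⟨hx1, hx2⟩ := hx
        have h1 := hQnormal.conj_mem _ hx2 ⟨g, hg⟩
        have hxG : x ∈ G := by
          have h2 := G.mul_mem (G.mul_mem hg hx1) (G.inv_mem hg)
          have e : g * (g⁻¹ * x * g) * g⁻¹ = x := by group
          rwa [e] at h2
        rw [hQH, mem_map_subtype]
        refine ⟨hxG, ?_⟩
        have e2 : (⟨x, hxG⟩ : G) = ⟨g, hg⟩ * ⟨g⁻¹ * x * g, hx1⟩ * (⟨g, hg⟩ : G)⁻¹ := by
          ext
          simp only [Subgroup.coe_mul, Subgroup.coe_inv]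
          group
        rw [e2]
        exact h1
      intro g hg
      apply le_antisymm (key g hg)
      have h1 := key g⁻¹ (G.inv_mem hg)
      rw [← cj_le_cj (g := g), cj_cj_inv] at h1
      exact h1
    have hcon : ∀ g ∈ G, (∀ x ∈ QH, g * x = x * g) → g ∈ QH := by
      intro g hg hc
      rw [hQH, mem_map_subtype]
      refine ⟨hg, ?_⟩
      apply hchar'
      rw [mem_centralizer_iff]
      intro x hx
      have hxH : (x : H) ∈ QH := by
        rw [hQH, mem_map_subtype]
        exact ⟨x.2, hx⟩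
      have h1 := hc (x : H) hxH
      ext
      simp only [Subgroup.coe_mul]
      exact h1.symm
    have hS2 : IsPGroup 2 SH := by
      rw [hSH]
      exact S.isPGroup'.map G.subtype
    have hnn : ∃ g ∈ G, MulAut.conj g • SH ≠ SH := by
      by_contra hall
      push Not at hall
      have hSn : (S : Subgroup ↥G).Normal := by
        constructor
        intro n hn g
        have h0 : (n : H) ∈ SH := by
          rw [hSH, mem_map_subtype]
          exact ⟨n.2, hn⟩
        have h1 : (g : H) * (n : H) * (g : H)⁻¹ ∈ MulAut.conj (g : H) • SH := cj_mem h0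
        rw [hall g g.2, hSH, mem_map_subtype] at h1
        obtain ⟨_, h2⟩ := h1
        exact h2
      have h1 := Cfsg.Agent.Lib.Helper16.le_pCore (S : Subgroup ↥G) hSn S.isPGroup'
      rw [← hQdef] at h1
      have hle := Subgroup.card_le_of_le h1
      rw [hScard, hk] at hle
      have : 2 ^ k < 2 ^ (k + 1) := Nat.pow_lt_pow_right (by norm_num) (by omega)
      omega
    have hSHbot : SH ≠ ⊥ := by
      intro e
      rw [e, Subgroup.card_bot] at hSHcard
      have : 2 ≤ 2 ^ (k + 1) := by
        rw [pow_succ]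
        omega
      omega
    have hZbot := Zs_ne_bot hS2 hSHbot
    have hZcj : MulAut.conj y • Zs SH = Zs SH := by rw [cj_Zs, hycj]
    have hZle : Zs SH ≤ G := (Zs_le SH).trans hSHG
    have hnc : ∃ g ∈ G, ∃ z ∈ Zs SH, g * z ≠ z * g := by
      by_contra hall
      push Not at hall
      have h1 : ∀ g ∈ G, MulAut.conj g • Zs SH = Zs SH :=
        fun g hg => cj_eq_self_of_comm (hall g hg)
      rcases hnormal _ h1 hZcj with h2 | h2
      · exact hZbot h2
      · apply hGtop
        rw [eq_top_iff, ← h2]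
        exact hZle
    have hloc : Loc G QH SH q := ⟨hq, hQHSH, hSHG, hQn, hrel2, hrel1, hcon⟩
    have hall : ∀ A ∈ AX SH, A ≤ QH := fun A hA => by
      by_contra hAQ
      exact hloc.offender_false h5 hS2 hnc hnn hA hAQ
    have hJ : JX SH = JX QH := JX_eq_of_le hQHSH hall
    have hJ1 : ∀ g ∈ G, MulAut.conj g • JX SH = JX SH := by
      intro g hg
      rw [hJ, cj_JX, hQn g hg]
    have hJ2 : MulAut.conj y • JX SH = JX SH := by rw [cj_JX, hycj]
    obtain ⟨z, hz, hz1⟩ : ∃ z ∈ Zs SH, z ≠ 1 := by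
      by_contra hh
      push Not at hh
      exact hZbot ((Subgroup.eq_bot_iff_forall _).mpr hh)
    have hJbot : JX SH ≠ ⊥ := JX_ne_bot (Zs_le SH hz) hz1 hz.2.2
    rcases hnormal _ hJ1 hJ2 with h2 | h2
    · exact hJbot h2
    · apply hGtop
      rw [eq_top_iff, ← h2]
      exact (JX_le SH).trans hSHG

end Cfsg.Agent.Lib.Helper6.Sims
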