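import Mathlib
import Cfsg.Prelude.Def_GeometricClasses
import Cfsg.Agent.Lib.Helper6.SpCorTensPlus

/-!
# Sp corollary family (S5823): `Sp_2 ⊗ O_4^+` is not maximal in `Sp_8`, in the `¬ IsMaximalIn` shape (helper6)

Same statement as `SpCorTensPlus.tensor_plus_not_maximal`, in the shape announced by helper25 (msg 3638).
-/

set_option autoImplicit false

namespace Cfsg.Agent.Lib.Helper6.SpCorTensPlus

open Cfsg Cfsg.Geo

theorem tensor24_plus_not_maximal {F : Type*} [Field F] [Fintype F] (hodd : Odd (Fintype.card F))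
    (e : (Fin 4 ⊕ Fin 4) ≃ Fin 2 × Fin 4) (P : Matrix.GeneralLinearGroup (Fin 4 ⊕ Fin 4) F)
    (f₁ : (Fin 2 → F) → (Fin 2 → F) → F) (f₂ : (Fin 4 → F) → (Fin 4 → F) → F)
    (hf₁ : IsSymplecticForm f₁) (hf₂ : IsSymmetricForm f₂)
    (hplus : IsPlusTypeOn (fun v : Fin 4 → F => f₂ v v) ⊤)
    (hT : IsTensorFormStructure id (Cfsg.sympForm 4 F) f₁ f₂ e P) :
    ¬ IsMaximalIn (Cfsg.spGL 4 F) (tensorProductSubgroup 2 4 e P ⊓ Cfsg.spGL 4 F) := by
  intro hmax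
  obtain ⟨K, h1, h2⟩ := tensor_plus_not_maximal hodd e P f₁ f₂ hf₁ hf₂ hplus hT
  rcases hmax.2 K h1.le h2.le with h | h
  · exact absurd h (ne_of_gt h1)
  · exact absurd h (ne_of_lt h2)

end Cfsg.Agent.Lib.Helper6.SpCorTensPlus
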