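import Mathlib
import Cfsg.Agent.Lib.Helper15.SympOrder
import Cfsg.Agent.Lib.Helper6.Spinor

/-!
# Elements of `Sp_{2m}(q)`, `q` odd, with square `±1`: adapted symplectic bases and conjugacy
-/

set_option autoImplicit false
open Cfsg Matrix

namespace Cfsg.Agent.Lib.Helper6.SpInvol

open Cfsg.Agent.Lib.Helper6 Cfsg.Agent.Lib.Helper15

variable {m : ℕ} {F : Type*} [Field F]

/-- the space -/
abbrev VV (m : ℕ) (F : Type*) := Fin m ⊕ Fin m → F

theorem pres (A : Matrix.symplecticGroup (Fin m) F) (u v : VV m F) :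
    Cfsg.sympForm m F (A.1 *ᵥ u) (A.1 *ᵥ v) = Cfsg.sympForm m F u v :=
  (mem_symplecticGroup_iff_preserves A.1).mp A.2 u v

theorem matrix_ext_single {n : Type*} [Fintype n] [DecidableEq n] {X Y : Matrix n n F}
    (h : ∀ c, X *ᵥ Pi.single c 1 = Y *ᵥ Pi.single c 1) : X = Y := by
  ext r c
  have := congrFun (h c) r
  rwa [mulVec_single_one, mulVec_single_one] at this

/-- the matrix of a full symplectic family as an element of `Sp` -/
def famSp {e f : Fin m → VV m F} (h : IsSympFam (stdSymp m F) e f) : Matrix.symplecticGroup (Fin m) F :=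
  ⟨matOfFam e f, matOfFam_mem h⟩

theorem famSp_inr {e f : Fin m → VV m F} (h : IsSympFam (stdSymp m F) e f) (i : Fin m) :
    (famSp h).1 *ᵥ Pi.single (Sum.inr i) 1 = e i := matOfFam_mulVec_inr e f i

theorem famSp_inl {e f : Fin m → VV m F} (h : IsSympFam (stdSymp m F) e f) (i : Fin m) :
    (famSp h).1 *ᵥ Pi.single (Sum.inl i) 1 = f i := matOfFam_mulVec_inl e f i

theorem sp_inv_mulVec (M : Matrix.symplecticGroup (Fin m) F) (x : VV m F) :
    (M⁻¹).1 *ᵥ (M.1 *ᵥ x) = x := by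
  rw [mulVec_mulVec]
  have : (M⁻¹).1 * M.1 = 1 := by
    have h := inv_mul_cancel M
    exact congrArg Subtype.val h
  rw [this, one_mulVec]

/-- two matrices agreeing on a full symplectic family are equal -/
theorem ext_of_fam {e f : Fin m → VV m F} (h : IsSympFam (stdSymp m F) e f)
    {X Y : Matrix (Fin m ⊕ Fin m) (Fin m ⊕ Fin m) F}
    (he : ∀ i, X *ᵥ e i = Y *ᵥ e i) (hf : ∀ i, X *ᵥ f i = Y *ᵥ f i) : X = Y := by
  have h1 : X * (famSp h).1 = Y * (famSp h).1 := by
    apply matrix_ext_single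
    intro c
    rw [← mulVec_mulVec, ← mulVec_mulVec]
    rcases c with i | i
    · rw [famSp_inl, hf]
    · rw [famSp_inr, he]
  have h2 : (famSp h).1 * ((famSp h)⁻¹).1 = 1 := congrArg Subtype.val (mul_inv_cancel (famSp h))
  calc X = X * ((famSp h).1 * ((famSp h)⁻¹).1) := by rw [h2, Matrix.mul_one]
    _ = Y * ((famSp h).1 * ((famSp h)⁻¹).1) := by rw [← Matrix.mul_assoc, h1, Matrix.mul_assoc]
    _ = Y := by rw [h2, Matrix.mul_one]

/-- the symplectic transformation between two full symplectic families -/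
theorem exists_sp_map {e f e' f' : Fin m → VV m F} (h : IsSympFam (stdSymp m F) e f)
    (h' : IsSympFam (stdSymp m F) e' f') :
    ∃ s : Matrix.symplecticGroup (Fin m) F, (∀ i, s.1 *ᵥ e i = e' i) ∧ ∀ i, s.1 *ᵥ f i = f' i := by
  refine ⟨famSp h' * (famSp h)⁻¹, ?_, ?_⟩
  · intro i
    change ((famSp h').1 * ((famSp h)⁻¹).1) *ᵥ e i = e' i
    rw [← mulVec_mulVec, ← famSp_inr h i, sp_inv_mulVec, famSp_inr]
  · intro i
    change ((famSp h').1 * ((famSp h)⁻¹).1) *ᵥ f i = f' i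
    rw [← mulVec_mulVec, ← famSp_inl h i, sp_inv_mulVec, famSp_inl]

/-- conjugacy from intertwining on a basis -/
theorem conj_of_intertwine (A A' s : Matrix.symplecticGroup (Fin m) F)
    (h : s.1 * A.1 = A'.1 * s.1) : s * A * s⁻¹ = A' := by
  have h1 : s * A = A' * s := Subtype.ext h
  rw [h1, mul_inv_cancel_right]

theorem stdSymp_halt : ∀ x : VV m F, stdSymp m F x x = 0 := stdSymp_alt

theorem finrank_VV : Module.finrank F (VV m F) = 2 * m := by
  rw [Module.finrank_fintype_fun_eq_card, Fintype.card_sum, Fintype.card_fin]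
  ring

/-- a non-zero vector in the perp of a short family -/
theorem exists_ne_zero_perp {k : ℕ} (hk : k < m) {e f : Fin k → VV m F}
    (h : IsSympFam (stdSymp m F) e f) : ∃ w ∈ sympPerp (stdSymp m F) e f, w ≠ 0 := by
  have h1 := finrank_sympPerp (stdSymp m F) stdSymp_halt h
  rw [finrank_VV] at h1
  have h2 : 0 < Module.finrank F (sympPerp (stdSymp m F) e f) := by omega
  have h3 : sympPerp (stdSymp m F) e f ≠ ⊥ := by
    intro h0
    rw [h0, finrank_bot] at h2
    exact lt_irrefl _ h2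
  exact Submodule.exists_mem_ne_zero_of_ne_bot h3

/-! ### square `-1` -/

section neg
variable [Fintype F]

theorem step_neg (h2 : (2 : F) ≠ 0) (A : Matrix.symplecticGroup (Fin m) F) (hA : A.1 * A.1 = -1)
    {k : ℕ} (hk : k < m) (e f : Fin k → VV m F) (h : IsSympFam (stdSymp m F) e f)
    (had : ∀ i, A.1 *ᵥ e i = f i) :
    ∃ u, u ∈ sympPerp (stdSymp m F) e f ∧ A.1 *ᵥ u ∈ sympPerp (stdSymp m F) e f ∧
      Cfsg.sympForm m F u (A.1 *ᵥ u) = 1 := by
  have hAA : ∀ x : VV m F, A.1 *ᵥ (A.1 *ᵥ x) = -x := by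
    intro x
    rw [mulVec_mulVec, hA, neg_mulVec, one_mulVec]
  have hAf : ∀ i, A.1 *ᵥ f i = - e i := by
    intro i
    rw [← had, hAA]
  have hinv : ∀ x, x ∈ sympPerp (stdSymp m F) e f → A.1 *ᵥ x ∈ sympPerp (stdSymp m F) e f := by
    intro x hx
    rw [mem_sympPerp] at hx ⊢
    intro i
    constructor
    · have : e i = A.1 *ᵥ (- f i) := by rw [mulVec_neg, hAf, neg_neg]
      rw [stdSymp_apply, this, pres, sympForm_neg_right, ← stdSymp_apply, (hx i).2, neg_zero]
    · rw [stdSymp_apply, ← had, pres, ← stdSymp_apply, (hx i).1]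
  -- the symmetric form `S x y = B x (A y)`
  have hsym : ∀ x y : VV m F, Cfsg.sympForm m F y (A.1 *ᵥ x) = Cfsg.sympForm m F x (A.1 *ᵥ y) := by
    intro x y
    rw [← pres A y, hAA, sympForm_neg_right, sympForm_swap, neg_neg]
  have hex : ∃ x ∈ sympPerp (stdSymp m F) e f, Cfsg.sympForm m F x (A.1 *ᵥ x) ≠ 0 := by
    by_contra hcon
    push Not at hcon
    have hzero : ∀ x ∈ sympPerp (stdSymp m F) e f, ∀ y ∈ sympPerp (stdSymp m F) e f,
        Cfsg.sympForm m F x (A.1 *ᵥ y) = 0 := by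
      intro x hx y hy
      have h1 := hcon (x + y) (Submodule.add_mem _ hx hy)
      rw [mulVec_add, sympForm_add_left, sympForm_add_right, sympForm_add_right, hcon x hx, hcon y hy,
        hsym x y] at h1
      have h3 : (2 : F) * Cfsg.sympForm m F x (A.1 *ᵥ y) = 0 := by linear_combination h1
      rcases mul_eq_zero.mp h3 with h0 | h0
      · exact absurd h0 h2
      · exact h0
    obtain ⟨w, hw, hw0⟩ := exists_ne_zero_perp hk h
    apply hw0
    apply sympPerp_nondeg (stdSymp m F) stdSymp_halt h stdSymp_nondeg w hw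
    intro y hy
    have h4 := hzero w hw (-(A.1 *ᵥ y)) (Submodule.neg_mem _ (hinv y hy))
    rw [mulVec_neg, hAA, neg_neg] at h4
    exact h4
  obtain ⟨x, hx, hc⟩ := hex
  set c := Cfsg.sympForm m F x (A.1 *ᵥ x) with hcdef
  classical
  obtain ⟨a, b, hab⟩ := exists_binary_value h2 1 1 c⁻¹ one_ne_zero one_ne_zero
  refine ⟨a • x + b • (A.1 *ᵥ x), ?_, ?_, ?_⟩
  · exact Submodule.add_mem _ (Submodule.smul_mem _ _ hx) (Submodule.smul_mem _ _ (hinv x hx))
  · apply hinv
    exact Submodule.add_mem _ (Submodule.smul_mem _ _ hx) (Submodule.smul_mem _ _ (hinv x hx))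
  · rw [mulVec_add, mulVec_smul, mulVec_smul, hAA]
    simp only [sympForm_add_left, sympForm_add_right, sympForm_smul_left, sympForm_smul_right,
      sympForm_neg_right, sympForm_self, ← hcdef]
    have h5 : Cfsg.sympForm m F (A.1 *ᵥ x) x = -c := by rw [sympForm_swap]
    rw [h5]
    have h6 : (a ^ 2 + b ^ 2) * c = 1 := by
      have : a ^ 2 + b ^ 2 = c⁻¹ := by linear_combination hab
      rw [this, inv_mul_cancel₀ hc]
    linear_combination h6

theorem exists_fam_neg (h2 : (2 : F) ≠ 0) (A : Matrix.symplecticGroup (Fin m) F) (hA : A.1 * A.1 = -1) :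
    ∃ e f : Fin m → VV m F, IsSympFam (stdSymp m F) e f ∧ ∀ i, A.1 *ᵥ e i = f i := by
  have key : ∀ k : ℕ, k ≤ m → ∃ e f : Fin k → VV m F, IsSympFam (stdSymp m F) e f ∧
      ∀ i, A.1 *ᵥ e i = f i := by
    intro k
    induction k with
    | zero =>
      intro _
      exact ⟨Fin.elim0, Fin.elim0, ⟨fun i => i.elim0, fun i => i.elim0, fun i => i.elim0⟩,
        fun i => i.elim0⟩
    | succ k ih =>
      intro hk
      obtain ⟨e, f, h, had⟩ := ih (by omega)
      obtain ⟨u, hu, hAu, huv⟩ := step_neg h2 A hA (by omega) e f h had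
      refine ⟨Fin.snoc e u, Fin.snoc f (A.1 *ᵥ u),
        isSympFam_snoc (stdSymp m F) stdSymp_halt h u (A.1 *ᵥ u) hu hAu huv, ?_⟩
      intro i
      induction i using Fin.lastCases with
      | last => simp only [Fin.snoc_last]
      | cast j => simp only [Fin.snoc_castSucc]; exact had j
  exact key m le_rfl

theorem conj_of_neg (h2 : (2 : F) ≠ 0) (A A' : Matrix.symplecticGroup (Fin m) F)
    (hA : A.1 * A.1 = -1) (hA' : A'.1 * A'.1 = -1) :
    ∃ s : Matrix.symplecticGroup (Fin m) F, s * A * s⁻¹ = A' := by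
  obtain ⟨e, f, h, had⟩ := exists_fam_neg h2 A hA
  obtain ⟨e', f', h', had'⟩ := exists_fam_neg h2 A' hA'
  obtain ⟨s, hse, hsf⟩ := exists_sp_map h h'
  refine ⟨s, conj_of_intertwine A A' s ?_⟩
  have hAf : ∀ i, A.1 *ᵥ f i = - e i := by
    intro i
    rw [← had, mulVec_mulVec, hA, neg_mulVec, one_mulVec]
  have hAf' : ∀ i, A'.1 *ᵥ f' i = - e' i := by
    intro i
    rw [← had', mulVec_mulVec, hA', neg_mulVec, one_mulVec]
  apply ext_of_fam h
  · intro i
    rw [← mulVec_mulVec, ← mulVec_mulVec, had, hsf, hse, had']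
  · intro i
    rw [← mulVec_mulVec, ← mulVec_mulVec, hAf, mulVec_neg, hse, hsf, hAf']

end neg

/-! ### square `1` -/

section pos

theorem step_pos (h2 : (2 : F) ≠ 0) (A : Matrix.symplecticGroup (Fin m) F) (hA : A.1 * A.1 = 1)
    {k : ℕ} (hk : k < m) (e f : Fin k → VV m F) (σ : Fin k → F) (h : IsSympFam (stdSymp m F) e f)
    (hσ : ∀ i, σ i = 1 ∨ σ i = -1)
    (had : ∀ i, A.1 *ᵥ e i = σ i • e i ∧ A.1 *ᵥ f i = σ i • f i) :
    ∃ u v : VV m F, ∃ τ : F, (τ = 1 ∨ τ = -1) ∧ u ∈ sympPerp (stdSymp m F) e f ∧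
      v ∈ sympPerp (stdSymp m F) e f ∧ Cfsg.sympForm m F u v = 1 ∧ A.1 *ᵥ u = τ • u ∧
      A.1 *ᵥ v = τ • v := by
  have hAA : ∀ x : VV m F, A.1 *ᵥ (A.1 *ᵥ x) = x := by
    intro x
    rw [mulVec_mulVec, hA, one_mulVec]
  have hσ2 : ∀ i, σ i * σ i = 1 := by
    intro i
    rcases hσ i with h0 | h0 <;> rw [h0] <;> ring
  have hinv : ∀ x, x ∈ sympPerp (stdSymp m F) e f → A.1 *ᵥ x ∈ sympPerp (stdSymp m F) e f := by
    intro x hx
    rw [mem_sympPerp] at hx ⊢
    intro i
    constructor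
    · have : e i = A.1 *ᵥ (σ i • e i) := by rw [mulVec_smul, (had i).1, smul_smul, hσ2, one_smul]
      rw [stdSymp_apply, this, pres, sympForm_smul_right, ← stdSymp_apply, (hx i).1, mul_zero]
    · have : f i = A.1 *ᵥ (σ i • f i) := by rw [mulVec_smul, (had i).2, smul_smul, hσ2, one_smul]
      rw [stdSymp_apply, this, pres, sympForm_smul_right, ← stdSymp_apply, (hx i).2, mul_zero]
  obtain ⟨w, hw, hw0⟩ := exists_ne_zero_perp hk h
  -- an eigenvector in the perp
  obtain ⟨u, τ, hτ, hu, hu0, hAu⟩ : ∃ u : VV m F, ∃ τ : F, (τ = 1 ∨ τ = -1) ∧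
      u ∈ sympPerp (stdSymp m F) e f ∧ u ≠ 0 ∧ A.1 *ᵥ u = τ • u := by
    by_cases hcase : w + A.1 *ᵥ w = 0
    · refine ⟨w, -1, Or.inr rfl, hw, hw0, ?_⟩
      rw [neg_one_smul]
      exact eq_neg_of_add_eq_zero_right hcase
    · refine ⟨w + A.1 *ᵥ w, 1, Or.inl rfl, Submodule.add_mem _ hw (hinv w hw), hcase, ?_⟩
      rw [mulVec_add, hAA, one_smul, add_comm]
  have hτ2 : τ * τ = 1 := by
    rcases hτ with h0 | h0 <;> rw [h0] <;> ring
  -- a partner
  obtain ⟨y, hy, huy⟩ : ∃ y ∈ sympPerp (stdSymp m F) e f, Cfsg.sympForm m F u y ≠ 0 := by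
    by_contra hcon
    push Not at hcon
    exact hu0 (sympPerp_nondeg (stdSymp m F) stdSymp_halt h stdSymp_nondeg u hu hcon)
  obtain ⟨v₀, hv₀mem, huv₀⟩ : ∃ v₀ ∈ sympPerp (stdSymp m F) e f, Cfsg.sympForm m F u v₀ = 1 := by
    refine ⟨(Cfsg.sympForm m F u y)⁻¹ • y, Submodule.smul_mem _ _ hy, ?_⟩
    rw [sympForm_smul_right, inv_mul_cancel₀ huy]
  have huAv₀ : Cfsg.sympForm m F u (A.1 *ᵥ v₀) = τ := by
    have : u = A.1 *ᵥ (τ • u) := by rw [mulVec_smul, hAu, smul_smul, hτ2, one_smul]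
    rw [this, pres, sympForm_smul_left, huv₀, mul_one]
  refine ⟨u, (2 : F)⁻¹ • (v₀ + τ • (A.1 *ᵥ v₀)), τ, hτ, hu, ?_, ?_, hAu, ?_⟩
  · exact Submodule.smul_mem _ _ (Submodule.add_mem _ hv₀mem (Submodule.smul_mem _ _ (hinv v₀ hv₀mem)))
  · rw [sympForm_smul_right, sympForm_add_right, sympForm_smul_right, huv₀, huAv₀, hτ2]
    field_simp
    norm_num
  · rw [mulVec_smul, mulVec_add, mulVec_smul, hAA]
    rcases hτ with h0 | h0
    · rw [h0]; module
    · rw [h0]; module

theorem exists_fam_pos (h2 : (2 : F) ≠ 0) (A : Matrix.symplecticGroup (Fin m) F) (hA : A.1 * A.1 = 1) :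
    ∃ (e f : Fin m → VV m F) (σ : Fin m → F), IsSympFam (stdSymp m F) e f ∧ (∀ i, σ i = 1 ∨ σ i = -1) ∧
      ∀ i, A.1 *ᵥ e i = σ i • e i ∧ A.1 *ᵥ f i = σ i • f i := by
  have key : ∀ k : ℕ, k ≤ m → ∃ (e f : Fin k → VV m F) (σ : Fin k → F), IsSympFam (stdSymp m F) e f ∧
      (∀ i, σ i = 1 ∨ σ i = -1) ∧ ∀ i, A.1 *ᵥ e i = σ i • e i ∧ A.1 *ᵥ f i = σ i • f i := by
    intro k
    induction k with
    | zero =>
      intro _
      exact ⟨Fin.elim0, Fin.elim0, Fin.elim0, ⟨fun i => i.elim0, fun i => i.elim0, fun i => i.elim0⟩,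
        fun i => i.elim0, fun i => i.elim0⟩
    | succ k ih =>
      intro hk
      obtain ⟨e, f, σ, h, hσ, had⟩ := ih (by omega)
      obtain ⟨u, v, τ, hτ, hu, hv, huv, hAu, hAv⟩ := step_pos h2 A hA (by omega) e f σ h hσ had
      refine ⟨Fin.snoc e u, Fin.snoc f v, Fin.snoc σ τ,
        isSympFam_snoc (stdSymp m F) stdSymp_halt h u v hu hv huv, ?_, ?_⟩
      · intro i
        induction i using Fin.lastCases with
        | last => simp only [Fin.snoc_last]; exact hτ
        | cast j => simp only [Fin.snoc_castSucc]; exact hσ j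
      · intro i
        induction i using Fin.lastCases with
        | last => simp only [Fin.snoc_last]; exact ⟨hAu, hAv⟩
        | cast j => simp only [Fin.snoc_castSucc]; exact had j
  exact key m le_rfl

theorem famSp_det_isUnit {e f : Fin m → VV m F} (h : IsSympFam (stdSymp m F) e f) :
    IsUnit (famSp h).1.det := by
  have h2 : (famSp h).1 * ((famSp h)⁻¹).1 = 1 := congrArg Subtype.val (mul_inv_cancel (famSp h))
  have := congrArg Matrix.det h2
  rw [det_mul, det_one] at this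
  exact IsUnit.of_mul_eq_one _ this

/-- the rank of `A - c` in terms of the signs -/
theorem rank_sub_smul [DecidableEq F] (A : Matrix (Fin m ⊕ Fin m) (Fin m ⊕ Fin m) F) (c : F)
    {e f : Fin m → VV m F} (σ : Fin m → F) (h : IsSympFam (stdSymp m F) e f)
    (had : ∀ i, A *ᵥ e i = σ i • e i ∧ A *ᵥ f i = σ i • f i) :
    (A - c • (1 : Matrix (Fin m ⊕ Fin m) (Fin m ⊕ Fin m) F)).rank =
      2 * Fintype.card {i : Fin m // σ i ≠ c} := by
  set D : Matrix (Fin m ⊕ Fin m) (Fin m ⊕ Fin m) F :=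
    Matrix.diagonal (Sum.elim (fun i => σ i - c) (fun i => σ i - c)) with hD
  have h1 : (A - c • (1 : Matrix (Fin m ⊕ Fin m) (Fin m ⊕ Fin m) F)) * (famSp h).1 = (famSp h).1 * D := by
    apply matrix_ext_single
    intro x
    rw [← mulVec_mulVec, ← mulVec_mulVec, hD, diagonal_mulVec_single, mul_one, sub_mulVec, smul_mulVec,
      one_mulVec]
    rcases x with i | i
    · rw [famSp_inl, (had i).2]
      have : (Pi.single (Sum.inl i) (Sum.elim (fun i => σ i - c) (fun i => σ i - c) (Sum.inl i)) :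
          Fin m ⊕ Fin m → F) = (σ i - c) • Pi.single (Sum.inl i) 1 := by
        rw [← Pi.single_smul, smul_eq_mul, mul_one]; rfl
      rw [this, mulVec_smul, famSp_inl, sub_smul]
    · rw [famSp_inr, (had i).1]
      have : (Pi.single (Sum.inr i) (Sum.elim (fun i => σ i - c) (fun i => σ i - c) (Sum.inr i)) :
          Fin m ⊕ Fin m → F) = (σ i - c) • Pi.single (Sum.inr i) 1 := by
        rw [← Pi.single_smul, smul_eq_mul, mul_one]; rfl
      rw [this, mulVec_smul, famSp_inr, sub_smul]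
  have h3 := Matrix.rank_mul_eq_left_of_isUnit_det (famSp h).1
    (A - c • (1 : Matrix (Fin m ⊕ Fin m) (Fin m ⊕ Fin m) F)) (famSp_det_isUnit h)
  have h4 := Matrix.rank_mul_eq_right_of_isUnit_det (famSp h).1 D (famSp_det_isUnit h)
  rw [← h3, h1, h4, hD, Matrix.rank_diagonal]
  have e1 : {x : Fin m ⊕ Fin m // Sum.elim (fun i => σ i - c) (fun i => σ i - c) x ≠ 0} ≃
      {i : Fin m // σ i ≠ c} ⊕ {i : Fin m // σ i ≠ c} :=
    (Equiv.subtypeSum).trans (Equiv.sumCongr
      (Equiv.subtypeEquivRight (fun i => by simp [sub_ne_zero]))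
      (Equiv.subtypeEquivRight (fun i => by simp [sub_ne_zero])))
  rw [Fintype.card_congr e1, Fintype.card_sum]
  ring

end pos

end Cfsg.Agent.Lib.Helper6.SpInvol
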