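import Mathlib
import Cfsg.Agent.Lib.Helper6.SpInvol1
import Cfsg.Agent.Lib.Helper2.SympCenter

/-!
# Involutions of `PSp_{2m}(q)`, `q` odd: at most `⌊m/2⌋ + 1` classes
-/

set_option autoImplicit false
open Cfsg Matrix

namespace Cfsg.Agent.Lib.Helper6.SpInvol

open Cfsg.Agent.Lib.Helper6 Cfsg.Agent.Lib.Helper15 Cfsg.Agent.Lib.Helper2

variable {m : ℕ} {F : Type*} [Field F]

theorem isSympFam_reindex {e f : Fin m → VV m F} (h : IsSympFam (stdSymp m F) e f)
    (π : Equiv.Perm (Fin m)) : IsSympFam (stdSymp m F) (e ∘ π) (f ∘ π) :=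
  ⟨fun i j => h.ee _ _, fun i j => h.ff _ _, fun i j => by
    simp only [Function.comp]
    rw [h.ef]
    simp only [EmbeddingLike.apply_eq_iff_eq]⟩

theorem one_ne_neg_one (h2 : (2 : F) ≠ 0) : (1 : F) ≠ -1 := by
  intro h
  apply h2
  linear_combination h

theorem rank_neg' {n : Type*} [Fintype n] [DecidableEq n] (X : Matrix n n F) :
    (-X).rank = X.rank := by
  have h : -X = X * (-1) := by rw [Matrix.mul_neg, Matrix.mul_one]
  rw [h]
  apply Matrix.rank_mul_eq_left_of_isUnit_det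
  rw [Matrix.det_neg, Matrix.det_one, mul_one]
  exact (isUnit_one.neg).pow _

theorem one_ne_neg_one_mat (h2 : (2 : F) ≠ 0) (hm : 1 ≤ m) :
    (1 : Matrix (Fin m ⊕ Fin m) (Fin m ⊕ Fin m) F) ≠ -1 := by
  intro h
  have := congrFun (congrFun h (Sum.inl ⟨0, hm⟩)) (Sum.inl ⟨0, hm⟩)
  rw [Matrix.neg_apply, Matrix.one_apply_eq] at this
  exact one_ne_neg_one h2 this

section dec
variable [DecidableEq F]

theorem conj_of_pos_aux (A A' : Matrix.symplecticGroup (Fin m) F)
    {e f e' f' : Fin m → VV m F} {σ σ' : Fin m → F}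
    (h : IsSympFam (stdSymp m F) e f) (h' : IsSympFam (stdSymp m F) e' f')
    (hσ : ∀ i, σ i = 1 ∨ σ i = -1) (hσ' : ∀ i, σ' i = 1 ∨ σ' i = -1)
    (had : ∀ i, A.1 *ᵥ e i = σ i • e i ∧ A.1 *ᵥ f i = σ i • f i)
    (had' : ∀ i, A'.1 *ᵥ e' i = σ' i • e' i ∧ A'.1 *ᵥ f' i = σ' i • f' i)
    (hcard : Fintype.card {i // σ i ≠ 1} = Fintype.card {i // σ' i ≠ 1}) :
    ∃ s : Matrix.symplecticGroup (Fin m) F, s * A * s⁻¹ = A' := by
  set π : Equiv.Perm (Fin m) := (Fintype.equivOfCardEq hcard).extendSubtype with hπdef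
  have hπ : ∀ i, σ' (π i) = σ i := by
    intro i
    by_cases hi : σ i ≠ 1
    · have h1 : σ' (π i) ≠ 1 :=
        Equiv.extendSubtype_mem (p := fun i => σ i ≠ 1) (q := fun i => σ' i ≠ 1)
          (Fintype.equivOfCardEq hcard) i hi
      rcases hσ i with h0 | h0
      · exact absurd h0 hi
      · rcases hσ' (π i) with h0' | h0'
        · exact absurd h0' h1
        · rw [h0, h0']
    · have h1 : ¬ (σ' (π i) ≠ 1) :=
        Equiv.extendSubtype_not_mem (p := fun i => σ i ≠ 1) (q := fun i => σ' i ≠ 1)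
          (Fintype.equivOfCardEq hcard) i hi
      push Not at hi h1
      rw [hi, h1]
  obtain ⟨s, hse, hsf⟩ := exists_sp_map h (isSympFam_reindex h' π)
  refine ⟨s, conj_of_intertwine A A' s ?_⟩
  apply ext_of_fam h
  · intro i
    rw [← mulVec_mulVec, ← mulVec_mulVec, (had i).1, mulVec_smul, hse]
    simp only [Function.comp]
    rw [(had' (π i)).1, hπ]
  · intro i
    rw [← mulVec_mulVec, ← mulVec_mulVec, (had i).2, mulVec_smul, hsf]
    simp only [Function.comp]
    rw [(had' (π i)).2, hπ]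

theorem conj_of_pos (h2 : (2 : F) ≠ 0) (A A' : Matrix.symplecticGroup (Fin m) F)
    (hA : A.1 * A.1 = 1) (hA' : A'.1 * A'.1 = 1) (hr : (A.1 - 1).rank = (A'.1 - 1).rank) :
    ∃ s : Matrix.symplecticGroup (Fin m) F, s * A * s⁻¹ = A' := by
  obtain ⟨e, f, σ, h, hσ, had⟩ := exists_fam_pos h2 A hA
  obtain ⟨e', f', σ', h', hσ', had'⟩ := exists_fam_pos h2 A' hA'
  have r1 := rank_sub_smul A.1 1 σ h had
  have r2 := rank_sub_smul A'.1 1 σ' h' had'
  rw [one_smul] at r1 r2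
  rw [r1, r2] at hr
  exact conj_of_pos_aux A A' h h' hσ hσ' had had' (by omega)

theorem rank_facts (h2 : (2 : F) ≠ 0) (A : Matrix.symplecticGroup (Fin m) F) (hA : A.1 * A.1 = 1) :
    ∃ a b : ℕ, a + b = m ∧ (A.1 - 1).rank = 2 * a ∧ (A.1 + 1).rank = 2 * b ∧
      (a = 0 → A.1 = 1) ∧ (b = 0 → A.1 = -1) := by
  obtain ⟨e, f, σ, h, hσ, had⟩ := exists_fam_pos h2 A hA
  have r1 := rank_sub_smul A.1 1 σ h had
  have r2 := rank_sub_smul A.1 (-1) σ h had
  rw [one_smul] at r1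
  rw [neg_smul, one_smul, sub_neg_eq_add] at r2
  refine ⟨Fintype.card {i // σ i ≠ 1}, Fintype.card {i // σ i ≠ -1}, ?_, r1, r2, ?_, ?_⟩
  · rw [Fintype.card_subtype, Fintype.card_subtype]
    have h3 := Finset.card_filter_add_card_filter_not (s := (Finset.univ : Finset (Fin m)))
      (fun i : Fin m => σ i ≠ 1)
    rw [Finset.card_univ, Fintype.card_fin] at h3
    have h4 : Finset.filter (fun i : Fin m => σ i ≠ -1) Finset.univ =
        Finset.filter (fun i : Fin m => ¬ (σ i ≠ 1)) Finset.univ := by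
      apply Finset.filter_congr
      intro i _
      constructor
      · intro hi
        rcases hσ i with h0 | h0
        · exact not_not.mpr h0
        · exact absurd h0 hi
      · intro hi
        rw [not_not] at hi
        rw [hi]
        exact one_ne_neg_one h2
    rw [h4]
    exact h3
  · intro h0
    rw [Fintype.card_eq_zero_iff] at h0
    have hall : ∀ i, σ i = 1 := by
      intro i
      by_contra hi
      exact h0.false ⟨i, hi⟩
    apply ext_of_fam h
    · intro i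
      rw [(had i).1, hall, one_smul, one_mulVec]
    · intro i
      rw [(had i).2, hall, one_smul, one_mulVec]
  · intro h0
    rw [Fintype.card_eq_zero_iff] at h0
    have hall : ∀ i, σ i = -1 := by
      intro i
      by_contra hi
      exact h0.false ⟨i, hi⟩
    apply ext_of_fam h
    · intro i
      rw [(had i).1, hall, neg_one_smul, neg_mulVec, one_mulVec]
    · intro i
      rw [(had i).2, hall, neg_one_smul, neg_mulVec, one_mulVec]

/-- the label of an element -/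
noncomputable def lab (A : Matrix.symplecticGroup (Fin m) F) : ℕ :=
  if A.1 * A.1 = -1 then 0 else min (A.1 - 1).rank (A.1 + 1).rank / 2

theorem lab_neg (A : Matrix.symplecticGroup (Fin m) F) (hA : A.1 * A.1 = -1) : lab A = 0 := by
  unfold lab
  rw [if_pos hA]

theorem lab_pos (h2 : (2 : F) ≠ 0) (hm : 1 ≤ m) (A : Matrix.symplecticGroup (Fin m) F)
    (hA : A.1 * A.1 = 1) (hA1 : A.1 ≠ 1) (hA2 : A.1 ≠ -1) :
    ∃ a b : ℕ, a + b = m ∧ (A.1 - 1).rank = 2 * a ∧ (A.1 + 1).rank = 2 * b ∧ 1 ≤ a ∧ 1 ≤ b ∧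
      lab A = min a b := by
  obtain ⟨a, b, hab, r1, r2, ha, hb⟩ := rank_facts h2 A hA
  refine ⟨a, b, hab, r1, r2, ?_, ?_, ?_⟩
  · by_contra h0
    exact hA1 (ha (by omega))
  · by_contra h0
    exact hA2 (hb (by omega))
  · unfold lab
    rw [if_neg, r1, r2]
    · omega
    · rw [hA]
      exact one_ne_neg_one_mat h2 hm

theorem lab_lt (h2 : (2 : F) ≠ 0) (hm : 1 ≤ m) (A : Matrix.symplecticGroup (Fin m) F)
    (hA : A.1 * A.1 = 1 ∨ A.1 * A.1 = -1) (hA1 : A.1 ≠ 1) (hA2 : A.1 ≠ -1) :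
    lab A < m / 2 + 1 := by
  rcases hA with hA | hA
  · obtain ⟨a, b, hab, -, -, ha, hb, hl⟩ := lab_pos h2 hm A hA hA1 hA2
    rw [hl]
    omega
  · rw [lab_neg A hA]
    omega

end dec

theorem sympNegOne_coe : (sympNegOne m F).1 = -1 := rfl


section fin
variable [Fintype F] [DecidableEq F]

theorem conj_of_lab (h2 : (2 : F) ≠ 0) (hm : 1 ≤ m) (A A' : Matrix.symplecticGroup (Fin m) F)
    (hA : A.1 * A.1 = 1 ∨ A.1 * A.1 = -1) (hA1 : A.1 ≠ 1) (hA2 : A.1 ≠ -1)
    (hA' : A'.1 * A'.1 = 1 ∨ A'.1 * A'.1 = -1) (hA1' : A'.1 ≠ 1) (hA2' : A'.1 ≠ -1)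
    (hl : lab A = lab A') :
    ∃ s : Matrix.symplecticGroup (Fin m) F, s * A * s⁻¹ = A' ∨ s * A * s⁻¹ = A' * sympNegOne m F := by
  rcases hA with hA | hA
  · obtain ⟨a, b, hab, r1, r2, ha, hb, hla⟩ := lab_pos h2 hm A hA hA1 hA2
    rcases hA' with hA' | hA'
    · obtain ⟨a', b', hab', r1', r2', ha', hb', hla'⟩ := lab_pos h2 hm A' hA' hA1' hA2'
      rw [hla, hla'] at hl
      have hcases : a = a' ∨ a = b' := by omega
      rcases hcases with hc | hc
      · obtain ⟨s, hs⟩ := conj_of_pos h2 A A' hA hA' (by rw [r1, r1', hc])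
        exact ⟨s, Or.inl hs⟩
      · have hcoe : (A' * sympNegOne m F).1 = -A'.1 := by
          change A'.1 * (sympNegOne m F).1 = -A'.1
          rw [sympNegOne_coe, Matrix.mul_neg, Matrix.mul_one]
        have hsq : (A' * sympNegOne m F).1 * (A' * sympNegOne m F).1 = 1 := by
          rw [hcoe, Matrix.neg_mul, Matrix.mul_neg, neg_neg, hA']
        have hrk : ((A' * sympNegOne m F).1 - 1).rank = 2 * b' := by
          rw [hcoe, ← r2']
          have : -A'.1 - 1 = -(A'.1 + 1) := by abel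
          rw [this, rank_neg']
        obtain ⟨s, hs⟩ := conj_of_pos h2 A (A' * sympNegOne m F) hA hsq (by rw [r1, hrk, hc])
        exact ⟨s, Or.inr hs⟩
    · rw [hla, lab_neg A' hA'] at hl
      omega
  · rcases hA' with hA' | hA'
    · obtain ⟨a', b', hab', r1', r2', ha', hb', hla'⟩ := lab_pos h2 hm A' hA' hA1' hA2'
      rw [hla', lab_neg A hA] at hl
      omega
    · obtain ⟨s, hs⟩ := conj_of_neg h2 A A' hA hA'
      exact ⟨s, Or.inl hs⟩

/-- among `m ≥ 3` involutions of `PSp_{2m}(q)` two are conjugate -/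
theorem psp_pigeonhole (h2 : (2 : F) ≠ 0) (hm : 3 ≤ m) (x : Fin m → Cfsg.PSp m F)
    (hx1 : ∀ k, x k ≠ 1) (hx2 : ∀ k, x k * x k = 1) :
    ∃ j k, j ≠ k ∧ ∃ g : Cfsg.PSp m F, g * x j * g⁻¹ = x k := by
  have hlift : ∀ k, ∃ A : Matrix.symplecticGroup (Fin m) F,
      (QuotientGroup.mk A : Cfsg.PSp m F) = x k := fun k => QuotientGroup.mk_surjective (x k)
  choose A hA using hlift
  have hm1 : 1 ≤ m := by omega
  have hnc : ∀ k, A k ∉ Subgroup.center (Matrix.symplecticGroup (Fin m) F) := by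
    intro k hk
    apply hx1 k
    rw [← hA k]
    exact (QuotientGroup.eq_one_iff _).mpr hk
  have hp1 : ∀ k, (A k).1 ≠ 1 := by
    intro k hk
    apply hnc k
    have : A k = 1 := Subtype.ext hk
    rw [this]
    exact one_mem _
  have hp2 : ∀ k, (A k).1 ≠ -1 := by
    intro k hk
    apply hnc k
    have : A k = sympNegOne m F := Subtype.ext hk
    rw [this]
    exact sympNegOne_mem_center
  have hp3 : ∀ k, (A k).1 * (A k).1 = 1 ∨ (A k).1 * (A k).1 = -1 := by
    intro k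
    have h1 : A k * A k ∈ Subgroup.center (Matrix.symplecticGroup (Fin m) F) := by
      rw [← QuotientGroup.eq_one_iff, QuotientGroup.mk_mul, hA k]
      exact hx2 k
    exact symp_center_coe hm1 (A k * A k) h1
  obtain ⟨j, k, hjk, hl⟩ : ∃ j k, j ≠ k ∧ lab (A j) = lab (A k) := by
    let φ : Fin m → Fin (m / 2 + 1) := fun k => ⟨lab (A k), lab_lt h2 hm1 (A k) (hp3 k) (hp1 k) (hp2 k)⟩
    obtain ⟨j, k, hjk, h⟩ := Fintype.exists_ne_map_eq_of_card_lt φ (by
      simp only [Fintype.card_fin]; omega)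
    exact ⟨j, k, hjk, congrArg Fin.val h⟩
  obtain ⟨s, hs⟩ := conj_of_lab h2 hm1 (A j) (A k) (hp3 j) (hp1 j) (hp2 j) (hp3 k) (hp1 k) (hp2 k) hl
  refine ⟨j, k, hjk, QuotientGroup.mk s, ?_⟩
  rw [← hA j, ← hA k]
  rcases hs with hs | hs
  · rw [← hs]
    rfl
  · have : (QuotientGroup.mk (A k * sympNegOne m F) : Cfsg.PSp m F) = QuotientGroup.mk (A k) := by
      rw [QuotientGroup.mk_mul, (QuotientGroup.eq_one_iff _).mpr sympNegOne_mem_center, mul_one]
    rw [← this, ← hs]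
    rfl

end fin

end Cfsg.Agent.Lib.Helper6.SpInvol
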