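import Mathlib
import Cfsg.Agent.Lib.Helper6.SpecSL2A
import Cfsg.Agent.S2426
import Cfsg.Agent.S5016
import Cfsg.Agent.H26.RankOneGroup

set_option autoImplicit false

namespace Cfsg.Agent.Helper6.SpecSL2

open Cfsg Cfsg.Agent.H26

variable {G : Type*} [Group G] {p : ℕ} [Fact p.Prime]

/-- The images of the Steinberg generators. -/
def fgen (p : ℕ) (a b : G) : Bool × ZMod p → G := fun x => if x.1 = true then pw p a x.2 else pw p b x.2

omit [Fact p.Prime] in
lemma fgen_true (a b : G) (t : ZMod p) : fgen p a b (true, t) = pw p a t := by simp [fgen]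

omit [Fact p.Prime] in
lemma fgen_false (a b : G) (t : ZMod p) : fgen p a b (false, t) = pw p b t := by simp [fgen]

lemma rels_hold {A B : Subgroup G} (hs : SAUS A B) {a b : G} (h : Match A B a b) (hap : a ^ p = 1) :
    ∀ r ∈ ({g : FreeGroup (Bool × ZMod p) | ∃ (c : Bool) (t u : ZMod p),
          g = FreeGroup.of (c, t) * FreeGroup.of (c, u) * (FreeGroup.of (c, t + u))⁻¹} ∪
        {g | ∃ (c : Bool) (t u : ZMod p), t ≠ 0 ∧
          g = (FreeGroup.of (c, t) * FreeGroup.of (!c, -t⁻¹) * FreeGroup.of (c, t)) * FreeGroup.of (c, u) *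
              (FreeGroup.of (c, t) * FreeGroup.of (!c, -t⁻¹) * FreeGroup.of (c, t))⁻¹ *
                (FreeGroup.of (!c, -(t⁻¹ ^ 2 * u)))⁻¹}),
      FreeGroup.lift (fgen p a b) r = 1 := by
  have hbp : b ^ p = 1 := (h.pow_eq_one_iff hs p).mp hap
  intro r hr
  rcases hr with ⟨c, t, u, rfl⟩ | ⟨c, t, u, ht, rfl⟩
  · simp only [map_mul, map_inv, FreeGroup.lift_apply_of]
    cases c
    · rw [fgen_false, fgen_false, fgen_false, pw_add hbp, mul_inv_cancel]
    · rw [fgen_true, fgen_true, fgen_true, pw_add hap, mul_inv_cancel]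
  · simp only [map_mul, map_inv, FreeGroup.lift_apply_of]
    cases c
    · simp only [Bool.not_false, fgen_false, fgen_true]
      exact steinberg_rel hs.symm h.symm hbp t u ht
    · simp only [Bool.not_true, fgen_false, fgen_true]
      exact steinberg_rel hs h hap t u ht

/-- Main construction: the homomorphism from `SL₂(p)`. -/
theorem exists_hom {A B : Subgroup G} (hs : SAUS A B) {a b : G} (h : Match A B a b) (hap : a ^ p = 1) :
    ∃ φ : Matrix.SpecialLinearGroup (Fin 2) (ZMod p) →* G,
      φ.range = Subgroup.closure ({a, b} : Set G) ∧ φ.ker ≤ Subgroup.center _ := by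
  obtain ⟨e, he1, he2⟩ := Cfsg.Agent.S2426.result (K := ZMod p)
  set φ0 := PresentedGroup.toGroup (rels_hold hs h hap) with hφ0
  set φ : Matrix.SpecialLinearGroup (Fin 2) (ZMod p) →* G := φ0.comp e.symm.toMonoidHom with hφ
  have hφx : ∀ t : ZMod p, φ (e (PresentedGroup.of (true, t))) = pw p a t := by
    intro t
    simp only [hφ, MonoidHom.comp_apply, MulEquiv.coe_toMonoidHom, MulEquiv.symm_apply_apply]
    rw [hφ0, PresentedGroup.toGroup.of, fgen_true]
  have hφy : ∀ t : ZMod p, φ (e (PresentedGroup.of (false, t))) = pw p b t := by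
    intro t
    simp only [hφ, MonoidHom.comp_apply, MulEquiv.coe_toMonoidHom, MulEquiv.symm_apply_apply]
    rw [hφ0, PresentedGroup.toGroup.of, fgen_false]
  have hrange0 : φ0.range ≤ Subgroup.closure ({a, b} : Set G) := by
    rw [MonoidHom.range_eq_map, ← PresentedGroup.closure_range_of, MonoidHom.map_closure,
      Subgroup.closure_le]
    rintro _ ⟨_, ⟨⟨c, t⟩, rfl⟩, rfl⟩
    rw [hφ0, PresentedGroup.toGroup.of]
    cases c
    · rw [fgen_false]
      exact pw_mem (Subgroup.subset_closure (by simp)) t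
    · rw [fgen_true]
      exact pw_mem (Subgroup.subset_closure (by simp)) t
  have hrange : φ.range = Subgroup.closure ({a, b} : Set G) := by
    apply le_antisymm
    · rintro _ ⟨g, rfl⟩
      exact hrange0 ⟨e.symm g, rfl⟩
    · rw [Subgroup.closure_le]
      intro x hx
      rcases hx with rfl | rfl
      · exact ⟨e (PresentedGroup.of (true, 1)), by rw [hφx, pw_one]⟩
      · exact ⟨e (PresentedGroup.of (false, 1)), by rw [hφy, pw_one]⟩
  refine ⟨φ, hrange, ?_⟩
  have hR := (Cfsg.Agent.S5016.result (ZMod p)).1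
  rcases RankOneGroup.normal_dichotomy hR φ.ker (MonoidHom.normal_ker φ) with hcase | hcase
  · exfalso
    -- the image of the lower unitriangular group lies in `B`
    have hlow : (Cfsg.lowerUnipotentSL2 (ZMod p)).map φ ≤ B := by
      unfold Cfsg.lowerUnipotentSL2
      rw [MonoidHom.map_closure, Subgroup.closure_le]
      rintro _ ⟨g, ⟨h01, h00, h11⟩, rfl⟩
      have hg : g = e (PresentedGroup.of (false, (g : Matrix (Fin 2) (Fin 2) (ZMod p)) 1 0)) := by
        apply Subtype.ext
        rw [he2]
        ext i j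
        fin_cases i <;> fin_cases j <;> simp [h01, h00, h11]
      rw [hg, SetLike.mem_coe, hφy]
      exact pw_mem h.2.2.1 _
    have hle : φ.range ≤ B := by
      rw [MonoidHom.range_eq_map, ← hcase, Subgroup.map_sup]
      apply sup_le _ hlow
      rw [(Subgroup.map_eq_bot_iff _).mpr le_rfl]
      exact bot_le
    have haB : a ∈ B := by
      apply hle
      rw [hrange]
      exact Subgroup.subset_closure (by simp)
    exact h.2.1 (eq_one_of_cj_eq' hs.pair h.1 (cj_of_mem haB))
  · exact hcase

end Cfsg.Agent.Helper6.SpecSL2
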