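import Mathlib
import Cfsg.Agent.Lib.Helper6.SpecSL2B
import Cfsg.Agent.Lib.Helper6.SpecSL2C
import Cfsg.Agent.Lib.Helper10.Transport
import Cfsg.Agent.S5017

set_option autoImplicit false

namespace Cfsg.Agent.Helper6.SpecSL2

open Cfsg Cfsg.Agent.H26

variable {G : Type*} [Group G] {A B : Subgroup G}

section center

variable {p : ℕ} [Fact p.Prime]

lemma center_cases {z : Matrix.SpecialLinearGroup (Fin 2) (ZMod p)}
    (hz : z ∈ Subgroup.center (Matrix.SpecialLinearGroup (Fin 2) (ZMod p))) :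
    z = 1 ∨ (z : Matrix (Fin 2) (Fin 2) (ZMod p)) = -1 := by
  rw [Matrix.SpecialLinearGroup.mem_center_iff] at hz
  obtain ⟨r, hr, hrz⟩ := hz
  rw [Fintype.card_fin, sq_eq_one_iff] at hr
  rcases hr with rfl | rfl
  · left
    apply Subtype.ext
    rw [← hrz]
    simp
  · right
    rw [← hrz]
    ext i j
    fin_cases i <;> fin_cases j <;> simp

/-- The image of a homomorphism from `SL₂(p)` with central kernel. -/
lemma range_equiv (φ : Matrix.SpecialLinearGroup (Fin 2) (ZMod p) →* G)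
    (hker : φ.ker ≤ Subgroup.center (Matrix.SpecialLinearGroup (Fin 2) (ZMod p))) :
    (φ.ker = ⊥ ∧ Nonempty (↥φ.range ≃* Matrix.SpecialLinearGroup (Fin 2) (ZMod p))) ∨
    (φ.ker ≠ ⊥ ∧ Nonempty (↥φ.range ≃* Matrix.ProjectiveSpecialLinearGroup (Fin 2) (ZMod p))) := by
  by_cases hk : φ.ker = ⊥
  · left
    have hinj : Function.Injective φ := (MonoidHom.ker_eq_bot_iff φ).mp hk
    exact ⟨hk, ⟨(MonoidHom.ofInjective hinj).symm⟩⟩
  · right
    have hkc : φ.ker = Subgroup.center (Matrix.SpecialLinearGroup (Fin 2) (ZMod p)) := by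
      apply le_antisymm hker
      obtain ⟨⟨g, hg⟩, hg1⟩ := (Subgroup.ne_bot_iff_exists_ne_one).mp hk
      have hg1' : g ≠ 1 := fun hh => hg1 (Subtype.ext hh)
      have hgm : (g : Matrix (Fin 2) (Fin 2) (ZMod p)) = -1 := by
        rcases center_cases (hker hg) with h1 | h1
        · exact absurd h1 hg1'
        · exact h1
      intro z hz
      rcases center_cases hz with h1 | h1
      · rw [h1]; exact one_mem _
      · have : z = g := Subtype.ext (h1.trans hgm.symm)
        rw [this]; exact hg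
    have e1 : Matrix.ProjectiveSpecialLinearGroup (Fin 2) (ZMod p) ≃*
        (Matrix.SpecialLinearGroup (Fin 2) (ZMod p) ⧸ φ.ker) :=
      QuotientGroup.quotientMulEquivOfEq hkc.symm
    exact ⟨hk, ⟨(e1.trans (QuotientGroup.quotientKerEquivRange φ)).symm⟩⟩

lemma center_two : Subgroup.center (Matrix.SpecialLinearGroup (Fin 2) (ZMod 2)) = ⊥ := by
  have : Fact (Nat.Prime 2) := ⟨Nat.prime_two⟩
  rw [eq_bot_iff]
  intro z hz
  rw [Subgroup.mem_bot]
  rcases center_cases hz with h1 | h1
  · exact h1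
  · apply Subtype.ext
    rw [h1]
    ext i j
    fin_cases i <;> fin_cases j <;> simp

/-- If every element of `A` is a power of `a`, then `a` and `b` generate. -/
lemma closure_eq_top (hs : SAUS A B) (htop : A ⊔ B = ⊤) {a b : G} (h : Match A B a b)
    (hap : a ^ p = 1) (hA : ∀ x ∈ A, ∃ t : ZMod p, x = pw p a t) :
    Subgroup.closure ({a, b} : Set G) = ⊤ := by
  have hbp : b ^ p = 1 := (h.pow_eq_one_iff hs p).mp hap
  rw [eq_top_iff, ← htop, sup_le_iff]
  have ha' : a ∈ Subgroup.closure ({a, b} : Set G) := Subgroup.subset_closure (by simp)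
  have hb' : b ∈ Subgroup.closure ({a, b} : Set G) := Subgroup.subset_closure (by simp)
  constructor
  · intro x hx
    obtain ⟨t, rfl⟩ := hA x hx
    exact pw_mem ha' t
  · intro y hy
    by_cases hy1 : y = 1
    · rw [hy1]; exact one_mem _
    · obtain ⟨x, hxy⟩ := exists_match_right hs.pair hy hy1
      obtain ⟨t, ht⟩ := hA x hxy.1
      have ht0 : t ≠ 0 := by
        rintro rfl
        rw [pw_zero] at ht
        exact hxy.2.1 ht
      have hm := match_pw hs h hap ht0
      rw [← ht] at hm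
      have : y = pw p b t⁻¹ := Match.unique_right hs.pair hxy hm
      rw [this]
      exact pw_mem hb' _

end center

lemma exists_ne_one (hp : IsRankOnePair A B) : ∃ a ∈ A, a ≠ 1 := by
  by_contra hcon
  push Not at hcon
  by_cases hB : ∃ b ∈ B, b ≠ 1
  · obtain ⟨b, hb, hb1⟩ := hB
    obtain ⟨a, ha, ha1, -⟩ := hp.cond_right b hb hb1
    exact ha1 (hcon a ha)
  · push Not at hB
    apply hp.ne
    ext x
    constructor
    · intro hx; rw [hcon x hx]; exact one_mem _
    · intro hx; rw [hB x hx]; exact one_mem _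

/-- The large case: with three distinct non-identity elements `X` is perfect etc. -/
theorem large_case (h : IsRankOneGroup G A B) (hs : SAUS A B) {a u w : G} (ha : a ∈ A)
    (ha1 : a ≠ 1) (hu : u ∈ A) (hu1 : u ≠ 1) (hw : w ∈ A) (hw1 : w ≠ 1) (hau : a ≠ u)
    (haw : a ≠ w) (huw : u ≠ w) :
    commutator G ⊔ A = ⊤ ∧ Cfsg.IsQuasisimple (commutator G) ∧
      3 < ENat.card ↥(⁅A, Cfsg.rankOneDiagonal A B⁆ : Subgroup G) := by
  -- A ≤ [A, H]
  have hAle : ∀ {A B : Subgroup G}, SAUS A B → ∀ {a u w : G}, a ∈ A → a ≠ 1 → u ∈ A → u ≠ 1 →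
      w ∈ A → w ≠ 1 → a ≠ u → a ≠ w → u ≠ w → A ≤ ⁅A, Cfsg.rankOneDiagonal A B⁆ := by
    intro A B hs a u w ha ha1 hu hu1 hw hw1 hau haw huw x hx
    by_cases hx1 : x = 1
    · rw [hx1]; exact one_mem _
    by_cases hxa : x = a
    · rw [hxa]; exact mem_comm_of_three hs ha ha1 hu hu1 hw hw1 hau haw huw
    by_cases hxu : x = u
    · rw [hxu]; exact mem_comm_of_three hs hu hu1 ha ha1 hw hw1 hau.symm huw haw
    by_cases hxw : x = w
    · rw [hxw]; exact mem_comm_of_three hs hw hw1 ha ha1 hu hu1 haw.symm huw.symm hau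
    exact mem_comm_of_three hs hx hx1 ha ha1 hu hu1 hxa hxu hau
  have hA0 := hAle hs ha ha1 hu hu1 hw hw1 hau haw huw
  -- the same for B
  obtain ⟨ba, hba⟩ := exists_match_left hs.pair ha ha1
  obtain ⟨bu, hbu⟩ := exists_match_left hs.pair hu hu1
  obtain ⟨bw, hbw⟩ := exists_match_left hs.pair hw hw1
  have hB0 : B ≤ ⁅B, Cfsg.rankOneDiagonal B A⁆ := by
    apply hAle hs.symm hba.2.2.1 hba.2.2.2.1 hbu.2.2.1 hbu.2.2.2.1 hbw.2.2.1 hbw.2.2.2.1
    · intro hh; rw [hh] at hba; exact hau (Match.unique_left hs.pair hba hbu)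
    · intro hh; rw [hh] at hba; exact haw (Match.unique_left hs.pair hba hbw)
    · intro hh; rw [hh] at hbu; exact huw (Match.unique_left hs.pair hbu hbw)
  have hcomm : commutator G = ⊤ := by
    rw [eq_top_iff, ← h.1, sup_le_iff, commutator_def]
    exact ⟨hA0.trans (Subgroup.commutator_mono le_top le_top),
      hB0.trans (Subgroup.commutator_mono le_top le_top)⟩
  have hperf : Group.IsPerfect G := Group.isPerfect_def.mpr hcomm
  have hq : Cfsg.IsQuasisimple G := (Cfsg.Agent.S5017.result h).2 hperf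
  refine ⟨by rw [hcomm, top_sup_eq], ?_, ?_⟩
  · have e : G ≃* ↥(commutator G) :=
      (Subgroup.topEquiv.symm).trans (MulEquiv.subgroupCongr hcomm.symm)
    exact Cfsg.Agent.Lib.Helper10.isQuasisimple_of_mulEquiv e hq
  · show 3 < ENat.card ↥((⁅A, Cfsg.rankOneDiagonal A B⁆ : Subgroup G) : Set G)
    rw [ENat.card_coe_set_eq]
    have hsub : ({1, a, u, w} : Set G) ⊆ ((⁅A, Cfsg.rankOneDiagonal A B⁆ : Subgroup G) : Set G) := by
      intro x hx
      rcases hx with rfl | rfl | rfl | rfl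
      · exact one_mem _
      · exact hA0 ha
      · exact hA0 hu
      · exact hA0 hw
    have hcard : ({1, a, u, w} : Set G).encard = 4 := by
      rw [Set.encard_insert_of_notMem, Set.encard_insert_of_notMem, Set.encard_pair huw]
      · norm_num
      · simp [hau, haw]
      · simp [ha1.symm, hu1.symm, hw1.symm]
    calc (3 : ℕ∞) < 4 := by norm_num
      _ = ({1, a, u, w} : Set G).encard := hcard.symm
      _ ≤ _ := Set.encard_le_encard hsub

end Cfsg.Agent.Helper6.SpecSL2
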