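import Mathlib
import Cfsg.Agent.Lib.Helper6.SpecSL2D

set_option autoImplicit false

namespace Cfsg.Agent.Helper6.SpecSL2

open Cfsg Cfsg.Agent.H26

variable {G : Type*} [Group G] {A B : Subgroup G}

/-- From a surjective homomorphism with central kernel. -/
lemma equiv_of_top {p : ℕ} [Fact p.Prime] (φ : Matrix.SpecialLinearGroup (Fin 2) (ZMod p) →* G)
    (hker : φ.ker ≤ Subgroup.center (Matrix.SpecialLinearGroup (Fin 2) (ZMod p)))
    (hrange : φ.range = ⊤) :
    (φ.ker = ⊥ ∧ Nonempty (G ≃* Matrix.SpecialLinearGroup (Fin 2) (ZMod p))) ∨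
    (φ.ker ≠ ⊥ ∧ Nonempty (G ≃* Matrix.ProjectiveSpecialLinearGroup (Fin 2) (ZMod p))) := by
  have e0 : G ≃* ↥φ.range := (Subgroup.topEquiv.symm).trans (MulEquiv.subgroupCongr hrange.symm)
  rcases range_equiv φ hker with ⟨h1, ⟨e⟩⟩ | ⟨h1, ⟨e⟩⟩
  · exact Or.inl ⟨h1, ⟨e0.trans e⟩⟩
  · exact Or.inr ⟨h1, ⟨e0.trans e⟩⟩

theorem small_case (h : IsRankOneGroup G A B) (hs : SAUS A B)
    (h3 : ¬ ∃ a u w : G, a ∈ A ∧ a ≠ 1 ∧ u ∈ A ∧ u ≠ 1 ∧ w ∈ A ∧ w ≠ 1 ∧ a ≠ u ∧ a ≠ w ∧ u ≠ w) :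
    ENat.card A ≤ 3 ∧ (Nonempty (G ≃* Matrix.SpecialLinearGroup (Fin 2) (ZMod 2)) ∨
        Nonempty (G ≃* Matrix.SpecialLinearGroup (Fin 2) (ZMod 3)) ∨
        Nonempty (G ≃* Matrix.ProjectiveSpecialLinearGroup (Fin 2) (ZMod 3))) := by
  obtain ⟨a, ha, ha1⟩ := exists_ne_one h.2
  have hai : a⁻¹ ∈ A := inv_mem ha
  have hai1 : a⁻¹ ≠ 1 := inv_ne_one.mpr ha1
  -- every element of A is 1, a or a⁻¹
  have hA3 : ∀ x ∈ A, x = 1 ∨ x = a ∨ x = a⁻¹ := by
    intro x hx
    by_contra hcon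
    push Not at hcon
    obtain ⟨hx1, hxa, hxi⟩ := hcon
    by_cases haa : a⁻¹ = a
    · apply h3
      refine ⟨a, x, a * x, ha, ha1, hx, hx1, mul_mem ha hx, ?_, Ne.symm hxa, ?_, ?_⟩
      · intro hh
        apply hxi
        rw [haa]
        have : x = a⁻¹ := by
          have := eq_inv_of_mul_eq_one_right hh
          exact this
        rw [this, haa]
      · intro hh
        apply hx1
        have : a * 1 = a * x := by rw [mul_one]; exact hh
        exact (mul_left_cancel this).symm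
      · intro hh
        apply ha1
        have : 1 * x = a * x := by rw [one_mul]; exact hh
        exact (mul_right_cancel this).symm
    · apply h3
      exact ⟨a, x, a⁻¹, ha, ha1, hx, hx1, hai, hai1, Ne.symm hxa, Ne.symm haa, hxi⟩
  have hcard : ENat.card A ≤ 3 := by
    show ENat.card ↥((A : Subgroup G) : Set G) ≤ 3
    rw [ENat.card_coe_set_eq]
    have hsub : ((A : Subgroup G) : Set G) ⊆ ({1, a, a⁻¹} : Set G) := by
      intro x hx
      rcases hA3 x hx with rfl | rfl | rfl <;> simp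
    calc ((A : Subgroup G) : Set G).encard ≤ ({1, a, a⁻¹} : Set G).encard := Set.encard_le_encard hsub
      _ ≤ ({a, a⁻¹} : Set G).encard + 1 := Set.encard_insert_le _ _
      _ ≤ (({a⁻¹} : Set G).encard + 1) + 1 := by gcongr; exact Set.encard_insert_le _ _
      _ = 3 := by rw [Set.encard_singleton]; norm_num
  refine ⟨hcard, ?_⟩
  obtain ⟨b, hm⟩ := exists_match_left hs.pair ha ha1
  by_cases haa : a⁻¹ = a
  · -- p = 2
    left
    have : Fact (Nat.Prime 2) := ⟨Nat.prime_two⟩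
    have hap : a ^ 2 = 1 := by
      rw [pow_two]
      nth_rewrite 1 [← haa]
      exact inv_mul_cancel a
    have hA : ∀ x ∈ A, ∃ t : ZMod 2, x = pw 2 a t := by
      intro x hx
      rcases hA3 x hx with rfl | rfl | rfl
      · exact ⟨0, pw_zero.symm⟩
      · exact ⟨1, pw_one.symm⟩
      · exact ⟨1, by rw [pw_one, haa]⟩
    obtain ⟨φ, hrange, hker⟩ := exists_hom hs hm hap
    rw [closure_eq_top hs h.1 hm hap hA] at hrange
    rcases equiv_of_top φ hker hrange with ⟨-, he⟩ | ⟨hk, -⟩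
    · exact he
    · exfalso
      apply hk
      rw [eq_bot_iff, ← center_two]
      exact hker
  · -- p = 3
    right
    have : Fact (Nat.Prime 3) := ⟨Nat.prime_three⟩
    have ha2 : a ^ 2 = a⁻¹ := by
      rcases hA3 (a ^ 2) (pow_mem ha 2) with h1 | h1 | h1
      · exfalso; apply haa
        rw [pow_two] at h1
        exact (eq_inv_of_mul_eq_one_left h1).symm
      · exfalso; apply ha1
        rw [pow_two] at h1
        have : a * a = a * 1 := by rw [mul_one]; exact h1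
        exact mul_left_cancel this
      · exact h1
    have hap : a ^ 3 = 1 := by
      rw [pow_succ, ha2, inv_mul_cancel]
    have hA : ∀ x ∈ A, ∃ t : ZMod 3, x = pw 3 a t := by
      intro x hx
      rcases hA3 x hx with rfl | rfl | rfl
      · exact ⟨0, pw_zero.symm⟩
      · exact ⟨1, pw_one.symm⟩
      · refine ⟨2, ?_⟩
        rw [← ha2]
        rfl
    obtain ⟨φ, hrange, hker⟩ := exists_hom hs hm hap
    rw [closure_eq_top hs h.1 hm hap hA] at hrange
    rcases equiv_of_top φ hker hrange with ⟨-, he⟩ | ⟨-, he⟩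
    · exact Or.inl he
    · exact Or.inr he

end Cfsg.Agent.Helper6.SpecSL2
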