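import Cfsg.Agent.Lib.Helper26.StCCGen

/-! Steinberg's Theorem 10, Part A, piece [A6] (helper26's lane): lifts of two elements of the root
subgroup of `r` commute when `x_r(∗)` occurs in a commutator of root elements commuting with
`x_r` (the long roots of `B₂`). -/

set_option autoImplicit false

namespace Cfsg.Agent.Lib.Helper26.StCC

open Cfsg.Lie Cfsg.Agent.Lib.Helper8.Chev Cfsg.Agent.Lib.Helper14.StCC
open scoped commutatorElement

variable {D : ChevalleyDatum} {K : Type*} [Field K] {Γ : Type*} [Group Γ] {E : Type*} [Group E]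

namespace Helper6

/-- root elements of two roots whose commutator formula is empty commute -/
theorem x_comm_of_nil (S : StRep D K Γ) {r a : ℕ} (hr : r < D.nroots) (ha : a < D.nroots)
    (h1 : a ≠ r) (h2 : a ≠ D.neg r) (h0 : D.commTerms r a = []) (w s : K) :
    S.x r w * S.x a s = S.x a s * S.x r w := by
  have h := S.comm r hr a ha h1 h2 w s
  unfold ChevalleyDatum.commWord at h
  rw [h0, List.map_nil, wS_nil, mul_one] at h
  exact h.symm

theorem x_comm_self (S : StRep D K Γ) {r : ℕ} (hr : r < D.nroots) (t u : K) :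
    S.x r t * S.x r u = S.x r u * S.x r t := by
  rw [S.add r hr, S.add r hr, add_comm]

/-- spare copy of helper26's `lifts_commute_of_commData` (his own file is the official one) -/
theorem lifts_commute_of_commData_spare (S : StRep D K Γ) (hK3 : ∃ c : K, c ≠ 0 ∧ c ≠ 1)
    (ψ : E →* Γ) (hψ : Function.Surjective ψ) (hc : ψ.ker ≤ Subgroup.center E)
    {r : ℕ} (hr : r < D.nroots) (hd : CommData D r) :
    ∀ (A B : E) (t u : K), ψ A = S.x r t → ψ B = S.x r u → A * B = B * A := by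
  obtain ⟨a, b, q, ε, ε', ha, hb, hq, hba, hbna, hterms, hε', ⟨har, harn, hra⟩, ⟨hbr, hbrn, hrb⟩,
    ⟨hqr, hqrn, hrq⟩⟩ := hd
  obtain ⟨c, hc0, hc1⟩ := hK3
  intro A B t u hA hB
  -- lifts
  let L : Γ → E := Function.surjInv hψ
  have hL : ∀ y, ψ (L y) = y := Function.surjInv_eq hψ
  -- `A` commutes with the images
  have cAr : ∀ w, ψ A * S.x r w = S.x r w * ψ A := fun w => by
    rw [hA]; exact x_comm_self S hr t w
  have cAa : ∀ w, ψ A * S.x a w = S.x a w * ψ A := fun w => by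
    rw [hA]; exact x_comm_of_nil S hr ha har harn hra t w
  have cAb : ∀ w, ψ A * S.x b w = S.x b w * ψ A := fun w => by
    rw [hA]; exact x_comm_of_nil S hr hb hbr hbrn hrb t w
  have cAq : ∀ w, ψ A * S.x q w = S.x q w * ψ A := fun w => by
    rw [hA]; exact x_comm_of_nil S hr hq hqr hqrn hrq t w
  -- the two "characters"
  let kr : K → E := fun w => ⁅A, L (S.x r w)⁆
  let kq : K → E := fun w => ⁅A, L (S.x q w)⁆
  have kr_add : ∀ w w', kr (w + w') = kr w * kr w' := by
    intro w w'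
    show ⁅A, L (S.x r (w + w'))⁆ = ⁅A, L (S.x r w)⁆ * ⁅A, L (S.x r w')⁆
    rw [← comm_mul_right ψ hc (by rw [hL]; exact cAr w')]
    apply comm_eq_of_map_eq ψ hc rfl
    rw [hL, map_mul, hL, hL, S.add r hr]
  have kr_zero : kr 0 = 1 := by
    have h := kr_add 0 0
    rw [add_zero] at h
    exact mul_eq_left.mp h.symm
  have kr_neg : ∀ w, kr (-w) = (kr w)⁻¹ := by
    intro w
    have h := kr_add w (-w)
    rw [add_neg_cancel, kr_zero] at h
    exact eq_inv_of_mul_eq_one_right h.symm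
  -- the key relation
  have key : ∀ s t' : K, kq ((ε : K) * (-s) ^ 1 * t' ^ 1) * kr ((ε' : K) * (-s) ^ 2 * t' ^ 1) = 1 := by
    intro s t'
    -- the commutator formula for `(a, b)`
    have hcomm := S.comm a ha b hb hba hbna s t'
    unfold ChevalleyDatum.commWord at hcomm
    rw [hterms] at hcomm
    simp only [List.map_cons, List.map_nil, wS_cons, wS_nil, mul_one] at hcomm
    -- lifts `P`, `Q` of `x_b(t')⁻¹`, `x_a(s)⁻¹`
    let P := L (S.x b t')⁻¹
    let Q := L (S.x a s)⁻¹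
    have hPQ : ψ ⁅P, Q⁆ = S.x q ((ε : K) * (-s) ^ 1 * t' ^ 1) *
        S.x r ((ε' : K) * (-s) ^ 2 * t' ^ 1) := by
      rw [map_commutatorElement, hL, hL, commutatorElement_def, inv_inv, inv_inv]
      -- `x_b⁻¹ x_a⁻¹ x_b x_a = x_q x_r`
      rw [mul_assoc ((S.x b t')⁻¹ * (S.x a s)⁻¹), hcomm]
      group
    have h1 : A * ⁅P, Q⁆ = ⁅P, Q⁆ * A := by
      apply commute_comm_of_commute ψ hc
      · rw [hL]
        have := cAb t'
        calc ψ A * (S.x b t')⁻¹ = (S.x b t')⁻¹ * (S.x b t' * ψ A) * (S.x b t')⁻¹ := by group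
          _ = (S.x b t')⁻¹ * (ψ A * S.x b t') * (S.x b t')⁻¹ := by rw [this]
          _ = (S.x b t')⁻¹ * ψ A := by group
      · rw [hL]
        have := cAa s
        calc ψ A * (S.x a s)⁻¹ = (S.x a s)⁻¹ * (S.x a s * ψ A) * (S.x a s)⁻¹ := by group
          _ = (S.x a s)⁻¹ * (ψ A * S.x a s) * (S.x a s)⁻¹ := by rw [this]
          _ = (S.x a s)⁻¹ * ψ A := by group
    have h2 : ⁅A, ⁅P, Q⁆⁆ = 1 := by
      rw [commutatorElement_eq_one_iff_mul_comm]
      exact h1
    have h3 : ⁅A, ⁅P, Q⁆⁆ = ⁅A, L (S.x q ((ε : K) * (-s) ^ 1 * t' ^ 1)) *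
        L (S.x r ((ε' : K) * (-s) ^ 2 * t' ^ 1))⁆ := by
      apply comm_eq_of_map_eq ψ hc rfl
      rw [hPQ, map_mul, hL, hL]
    rw [h3, comm_mul_right ψ hc (by rw [hL]; exact cAr _)] at h2
    exact h2
  -- invariance of `kr` under `c`
  have hε0 : (ε' : K) ≠ 0 := by
    rcases hε' with h | h <;> rw [h] <;> simp
  have hc1' : c - 1 ≠ 0 := sub_ne_zero.mpr hc1
  have hinv : ∀ w : K, kr (c * w) = kr w := by
    intro w
    -- `t' = w / ε'`
    have k1 := key 1 (w / (ε' : K))
    have k2 := key c (w / (ε' : K) / c)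
    have e1 : (ε : K) * (-c) ^ 1 * (w / (ε' : K) / c) ^ 1 = (ε : K) * (-1) ^ 1 * (w / (ε' : K)) ^ 1 := by
      field_simp
    have e2 : (ε' : K) * (-c) ^ 2 * (w / (ε' : K) / c) ^ 1 = c * w := by
      field_simp
    have e3 : (ε' : K) * (-1) ^ 2 * (w / (ε' : K)) ^ 1 = w := by
      field_simp
    rw [e1, e2] at k2
    rw [e3] at k1
    -- `kq(..) * kr(c w) = 1 = kq(..) * kr(w)`
    exact mul_left_cancel (k2.trans k1.symm)
  have hone : ∀ w : K, kr w = 1 := by
    intro w
    have h := kr_add ((c - 1) * (w / (c - 1))) (w / (c - 1))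
    have e : (c - 1) * (w / (c - 1)) + w / (c - 1) = c * (w / (c - 1)) := by ring
    rw [e, hinv, mul_div_cancel₀ _ hc1'] at h
    exact mul_eq_right.mp h.symm
  -- conclusion
  have hAB : ⁅A, B⁆ = 1 := by
    rw [← hone u]
    apply comm_eq_of_map_eq ψ hc rfl
    rw [hL, hB]
  rw [commutatorElement_eq_one_iff_mul_comm] at hAB
  exact hAB

end Helper6

end Cfsg.Agent.Lib.Helper26.StCC
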