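import Cfsg.Agent.Lib.Helper14.StCC.Defs
import Cfsg.Agent.Lib.Helper11.StCCPairing
import Cfsg.Agent.Lib.Helper6.StCCAlg

/-! Steinberg's Theorem 10, Part A, step (P3): the lifts of two elements `x_r(t)`, `x_r(u)` of the
same root subgroup commute. -/

set_option autoImplicit false

namespace Cfsg.Agent.Lib.Helper14.StCC

open Cfsg.Lie Cfsg.Agent.Lib.Helper8.Chev Cfsg.Agent.Lib.Helper11.StCCPairing
open Cfsg.Agent.Lib.Helper6.StCCAlg

variable {D : ChevalleyDatum} {K : Type*} [Field K] {Γ : Type*} [Group Γ] {E : Type*} [Group E]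

namespace Helper6

/-- elements of the same root subgroup commute -/
theorem x_commute (S : StRep D K Γ) {r : ℕ} (hr : r < D.nroots) (t u : K) :
    Commute (S.x r t) (S.x r u) := by
  unfold Commute SemiconjBy
  rw [S.add r hr, S.add r hr, add_comm]

/-- invariance of the pairing of two root elements under a torus element -/
theorem pr_xx_scale (S : StRep D K Γ) (ψ : E →* Γ) (hψ : Function.Surjective ψ)
    (hc : ψ.ker ≤ Subgroup.center E) {r : ℕ} (hr : r < D.nroots) {g : Γ} {a : K}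
    (hg : ∀ u : K, g * S.x r u * g⁻¹ = S.x r (a * u)) (t u : K) :
    pr ψ hψ (S.x r (a * t)) (S.x r (a * u)) = pr ψ hψ (S.x r t) (S.x r u) := by
  obtain ⟨g', rfl⟩ := hψ g
  have h1 := conj_pr ψ hψ hc g' (S.x r t) (S.x r u)
  rw [hg, hg] at h1
  rw [← h1]
  have hz := pr_mem_center ψ hψ hc (x_commute S hr t u)
  rw [Subgroup.mem_center_iff.mp hz g', mul_inv_cancel_right]

end Helper6

/-- (P3), generic case: if some coweight takes the value `1` on the root `r`, the pairing of two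
elements of the root subgroup of `r` is trivial -/
theorem pr_xx_eq_one_of_wt (S : StRep D K Γ) (hK5 : ∃ s : Finset K, 4 < s.card)
    (ψ : E →* Γ) (hψ : Function.Surjective ψ) (hc : ψ.ker ≤ Subgroup.center E)
    {r : ℕ} (hr : r < D.nroots) (hm : ∃ m : ℕ → ℤ, wt D m r = 1) :
    ∀ t u : K, pr ψ hψ (S.x r t) (S.x r u) = 1 := by
  obtain ⟨m, hm⟩ := hm
  obtain ⟨a, ha0, ha1, ha⟩ := exists_good_scalar hK5
  have h1a : (1 : K) - a ≠ 0 := sub_ne_zero.mpr (Ne.symm ha1)
  obtain ⟨g, -, hg⟩ := exists_torus S m ha0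
  obtain ⟨g', -, hg'⟩ := exists_torus S m h1a
  have hg1 : ∀ u : K, g * S.x r u * g⁻¹ = S.x r (a * u) := by
    intro u
    rw [hg r hr u, hm, zpow_one]
  have hg1' : ∀ u : K, g' * S.x r u * g'⁻¹ = S.x r ((1 - a) * u) := by
    intro u
    rw [hg' r hr u, hm, zpow_one]
  refine biadd_eq_one_of_central (fun t u => pr ψ hψ (S.x r t) (S.x r u))
    (fun t u => pr_mem_center ψ hψ hc (Helper6.x_commute S hr t u)) ?_ ?_ a ha0 ha1 ha
    (Helper6.pr_xx_scale S ψ hψ hc hr hg1) (Helper6.pr_xx_scale S ψ hψ hc hr hg1')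
  · intro t t' u
    show pr ψ hψ (S.x r (t + t')) (S.x r u) = _
    rw [← S.add r hr, pr_mul_left ψ hψ hc (Helper6.x_commute S hr t' u)]
  · intro t u u'
    show pr ψ hψ (S.x r t) (S.x r (u + u')) = _
    rw [← S.add r hr, pr_mul_right ψ hψ hc (Helper6.x_commute S hr t u')]

end Cfsg.Agent.Lib.Helper14.StCC
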