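import Mathlib
import Cfsg.Agent.Lib.Helper6.TriL
import Cfsg.Agent.Lib.Helper6.AutOrt28
import Cfsg.Agent.Lib.Helper6.SingClass
import Cfsg.Agent.Lib.Helper6.OutGrpC
import Cfsg.Agent.S2723

/-!
# The outer automorphism group of `PΩ⁺_{2m}(q)`, `q` odd, `m ≥ 5`
-/

set_option autoImplicit false
set_option linter.unusedSectionVars false
set_option linter.unusedVariables false

open Cfsg Matrix QuadraticMap

namespace Cfsg.Agent.Lib.Helper6.Tri

open Cfsg.Agent.Lib.Helper6 Cfsg.Agent.Lib.Helper15 Cfsg.Agent.Lib.Helper6.AutOrt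
  Cfsg.Agent.Lib.Helper6.AutPSL Cfsg.Agent.Lib.Helper6.AutInduced
  Cfsg.Agent.Lib.Helper6.OmegaAut Cfsg.Agent.Lib.Helper6.SimAut

section generic
variable {F : Type*} [Field F] [Fintype F] {ι : Type} [Fintype ι] [DecidableEq ι]
variable {Q : QuadraticForm F (ι → F)} [hS : Std Q]

/-- the reflection as a similarity -/
noncomputable def reflSemi (a : ι → F) (ha : Q a ≠ 0) : SemiSimO Q where
  S x := Cfsg.reflectionMatrix ⇑Q a *ᵥ x
  σ := RingEquiv.refl F
  ν := 1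
  hν := one_ne_zero
  add x y := Matrix.mulVec_add _ x y
  smul c x := Matrix.mulVec_smul _ c x
  form x := Cfsg.Agent.Lib.Helper6.SingClass.Q_refl Q a ha x

theorem reflSemi_S (a : ι → F) (ha : Q a ≠ 0) (x : ι → F) :
    (reflSemi a ha).S x = Cfsg.reflectionMatrix ⇑Q a *ᵥ x := rfl

theorem reflSemi_gam_sq (a : ι → F) (ha : Q a ≠ 0) :
    (reflSemi (Q := Q) a ha).gam * (reflSemi a ha).gam = 1 := by
  rw [← SemiSimO.gam_comp]
  apply SemiSimO.gam_eq_one_of_smul _ 1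
  intro x
  rw [SemiSimO.comp_S, reflSemi_S, reflSemi_S, Matrix.mulVec_mulVec, refl_refl' Q a ha,
    Matrix.one_mulVec, one_smul]

/-- a semilinear isometry fixing `a` commutes with the reflection in `a` -/
theorem reflSemi_comm (Φ : SemiSimO Q) (hν : Φ.ν = 1) (a : ι → F) (ha : Q a ≠ 0)
    (hΦa : Φ.S a = a) : Φ.gam * (reflSemi a ha).gam = (reflSemi a ha).gam * Φ.gam := by
  rw [← SemiSimO.gam_comp, ← SemiSimO.gam_comp]
  apply SemiSimO.gam_eq_of_S_eq
  intro x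
  rw [SemiSimO.comp_S, SemiSimO.comp_S, reflSemi_S, reflSemi_S, reflectionMatrix_mulVec,
    reflectionMatrix_mulVec, Φ.S_sub, Φ.smul, hΦa]
  have h1 : Φ.σ (Q a) = Q a := by
    have := Φ.form a
    rw [hΦa, hν, one_mul] at this
    exact this.symm
  have h2 : Φ.σ (polar (⇑Q) a x) = polar (⇑Q) a (Φ.S x) := by
    have := Φ.polar_S a x
    rw [hΦa, hν, one_mul] at this
    exact this.symm
  rw [map_mul, map_inv₀, h1, h2]

/-- elements of the image of the similarity group come from linear similarities -/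
theorem exists_lin_of_mem_pgoAut (δ : MulAut (Cfsg.POmega F ⇑Q)) (hδ : δ ∈ Cfsg.pgoAut F ⇑Q) :
    ∃ Δ : SemiSimO Q, Δ.σ = RingEquiv.refl F ∧ Δ.gam = δ := by
  unfold Cfsg.pgoAut Cfsg.autSubgroupOf at hδ
  induction hδ using Subgroup.closure_induction with
  | mem x hx =>
    obtain ⟨g, ⟨c, hc⟩, h2⟩ := hx
    have h1 : Cfsg.IsSemisimilarityPair (⇑Q) g (RingEquiv.refl F) := ⟨c, fun v => hc v⟩
    exact ⟨SemiSimO.ofPair g _ h1, rfl, (SemiSimO.eq_gam_of_induced g _ h1 x h2).symm⟩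
  | one => exact ⟨SemiSimO.one Q, rfl, SemiSimO.gam_one⟩
  | mul x y hx hy ihx ihy =>
    obtain ⟨Φ, hΦ, rfl⟩ := ihx
    obtain ⟨Ψ, hΨ, rfl⟩ := ihy
    refine ⟨Φ.comp Ψ, ?_, SemiSimO.gam_comp Φ Ψ⟩
    rw [SemiSimO.comp_σ, hΦ, hΨ]
    ext x
    rfl
  | inv x hx ih =>
    obtain ⟨Φ, hΦ, rfl⟩ := ih
    refine ⟨Φ.symm, ?_, SemiSimO.gam_symm Φ⟩
    rw [SemiSimO.symm_σ, hΦ]
    ext x
    rfl

/-- elements of the image of the special orthogonal group come from linear isometries of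
determinant one -/
theorem exists_lin_of_mem_psoAut (δ : MulAut (Cfsg.POmega F ⇑Q)) (hδ : δ ∈ Cfsg.psoAut F ⇑Q) :
    ∃ Δ : SemiSimO Q, Δ.σ = RingEquiv.refl F ∧ Δ.ν = 1 ∧ Δ.dt = 1 ∧ Δ.gam = δ := by
  classical
  unfold Cfsg.psoAut Cfsg.autSubgroupOf at hδ
  induction hδ using Subgroup.closure_induction with
  | mem x hx =>
    obtain ⟨g, hg, h2⟩ := hx
    rw [mem_SOGL] at hg
    obtain ⟨hgO, hgdet⟩ := hg
    rw [OmegaAut.mem_isometryGroup_iff] at hgO
    have h1 : Cfsg.IsSemisimilarityPair (⇑Q) g (RingEquiv.refl F) := ⟨1, fun v => by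
      rw [Units.val_one, one_mul]
      exact hgO _⟩
    refine ⟨SemiSimO.ofPair g _ h1, rfl, ?_, ?_, (SemiSimO.eq_gam_of_induced g _ h1 x h2).symm⟩
    · obtain ⟨x, hx⟩ := SemiSimO.exists_Q_ne_zero (Q := Q)
      have h3 := (SemiSimO.ofPair g _ h1).form x
      rw [SemiSimO.ofPair_S] at h3
      have h4 : Q ((g : Matrix ι ι F) *ᵥ fun i => (RingEquiv.refl F) (x i)) = Q x := hgO x
      rw [h4] at h3
      change Q x = (SemiSimO.ofPair g _ h1).ν * Q x at h3
      have : ((SemiSimO.ofPair g _ h1).ν - 1) * Q x = 0 := by linear_combination -h3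
      rcases mul_eq_zero.mp this with h5 | h5
      · linear_combination h5
      · exact absurd h5 hx
    · unfold SemiSimO.dt
      rw [← SemiSimO.gl_val, SemiSimO.ofPair_gl]
      exact hgdet
  | one =>
    refine ⟨SemiSimO.one Q, rfl, ?_, ?_, SemiSimO.gam_one⟩
    · exact SemiSimO.ν_of_id _ rfl (fun x => rfl)
    · exact SemiSimO.dt_of_id _ rfl (fun x => rfl)
  | mul x y hx hy ihx ihy =>
    obtain ⟨Φ, hΦ, hΦν, hΦd, rfl⟩ := ihx
    obtain ⟨Ψ, hΨ, hΨν, hΨd, rfl⟩ := ihy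
    refine ⟨Φ.comp Ψ, ?_, ?_, ?_, SemiSimO.gam_comp Φ Ψ⟩
    · rw [SemiSimO.comp_σ, hΦ, hΨ]
      ext x
      rfl
    · rw [SemiSimO.comp_ν, hΦν, hΨν, map_one, mul_one]
    · rw [SemiSimO.dt_comp, hΦd, hΨd, map_one, mul_one]
  | inv x hx ih =>
    obtain ⟨Φ, hΦ, hΦν, hΦd, rfl⟩ := ih
    refine ⟨Φ.symm, ?_, ?_, ?_, SemiSimO.gam_symm Φ⟩
    · rw [SemiSimO.symm_σ, hΦ]
      ext x
      rfl
    · have := SemiSimO.ν_symm Φ
      rw [hΦν, one_mul, hΦ] at this
      exact this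
    · have := SemiSimO.dt_symm Φ
      rw [hΦd, one_mul, hΦ] at this
      exact this

variable (p : ℕ) [hp : Fact p.Prime] [hcp : CharP F p]
include hp hcp

/-- **criterion**: if a linear similarity induces an automorphism in the image of `SO`, its
multiplier is a square `c²` and its determinant is `cⁿ` -/
theorem of_gam_mem_psoAut (Ψ : SemiSimO Q) (hσ : Ψ.σ = RingEquiv.refl F)
    (h : Ψ.gam ∈ Cfsg.psoAut F ⇑Q) :
    ∃ c : F, Ψ.ν = c * c ∧ Ψ.dt = c ^ Fintype.card ι := by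
  obtain ⟨Δ, hΔσ, hΔν, hΔd, hΔ⟩ := exists_lin_of_mem_psoAut _ h
  have h1 : (Δ.symm.comp Ψ).gam = 1 := by
    rw [SemiSimO.gam_comp, SemiSimO.gam_symm, hΔ, inv_mul_cancel]
  obtain ⟨-, c, hc⟩ := scalar_of_gam_eq_one p _ h1
  have hσ' : (Δ.symm.comp Ψ).σ = RingEquiv.refl F := by
    rw [SemiSimO.comp_σ, SemiSimO.symm_σ, hσ, hΔσ]
    ext x
    rfl
  have hsν : Δ.symm.ν = 1 := by
    have := SemiSimO.ν_symm Δ
    rw [hΔν, one_mul, hΔσ] at this
    exact this
  have hsd : Δ.symm.dt = 1 := by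
    have := SemiSimO.dt_symm Δ
    rw [hΔd, one_mul, hΔσ] at this
    exact this
  have hsσ : Δ.symm.σ = RingEquiv.refl F := by
    rw [SemiSimO.symm_σ, hΔσ]
    ext x
    rfl
  refine ⟨c, ?_, ?_⟩
  · obtain ⟨x, hx⟩ := SemiSimO.exists_Q_ne_zero (Q := Q)
    have h3 := (Δ.symm.comp Ψ).form x
    rw [hc, Q_smul, hσ', SemiSimO.comp_ν, hsν, one_mul, hsσ] at h3
    change c * c * Q x = Ψ.ν * Q x at h3
    exact (mul_right_cancel₀ hx h3).symm
  · have hmat : (Δ.symm.comp Ψ).mat = c • (1 : Matrix ι ι F) := by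
      apply matrix_ext_mulVec
      intro x
      rw [SemiSimO.mat_mulVec_of_refl _ hσ', hc, smul_mulVec, one_mulVec]
    have h4 : (Δ.symm.comp Ψ).dt = c ^ Fintype.card ι := by
      unfold SemiSimO.dt
      rw [hmat, det_smul, det_one, mul_one]
    rw [SemiSimO.dt_comp, hsd, one_mul, hsσ] at h4
    exact h4

/-- in odd characteristic and even dimension the automorphism induced by a reflection is not in
the image of `SO` -/
theorem reflSemi_not_mem_psoAut (h2 : (2 : F) ≠ 0) (heven : Even (Fintype.card ι)) (a : ι → F)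
    (ha : Q a ≠ 0) : (reflSemi a ha).gam ∉ Cfsg.psoAut F ⇑Q := by
  intro h
  obtain ⟨c, hc1, hc2⟩ := of_gam_mem_psoAut p (reflSemi a ha) rfl h
  have hdt : (reflSemi a ha).dt = -1 := by
    unfold SemiSimO.dt
    have hmat : (reflSemi a ha).mat = Cfsg.reflectionMatrix ⇑Q a := by
      apply matrix_ext_mulVec
      intro x
      rw [SemiSimO.mat_mulVec_of_refl _ rfl, reflSemi_S]
    rw [hmat]
    exact det_reflectionMatrix Q h2 a ha
  obtain ⟨t, ht⟩ := heven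
  have hν : (reflSemi a ha).ν = 1 := rfl
  rw [hν] at hc1
  rw [hdt, ht, ← two_mul, pow_mul, pow_two, ← hc1, one_pow] at hc2
  apply h2
  linear_combination -hc2

end generic

end Cfsg.Agent.Lib.Helper6.Tri
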