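import Mathlib
import Cfsg.Agent.Lib.Helper6.TriO
import Cfsg.Agent.Lib.Helper6.TriN

/-!
# The outer automorphism group of `PΩ⁺_{2m}(q)`, `q` odd, `m ≥ 5`: the theorem
-/

set_option autoImplicit false
set_option linter.unusedSectionVars false
set_option linter.unusedVariables false

open Cfsg Matrix QuadraticMap

namespace Cfsg.Agent.Lib.Helper6.Tri

open Cfsg.Agent.Lib.Helper6 Cfsg.Agent.Lib.Helper15 Cfsg.Agent.Lib.Helper6.AutOrt
  Cfsg.Agent.Lib.Helper6.AutPSL Cfsg.Agent.Lib.Helper6.AutInduced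
  Cfsg.Agent.Lib.Helper6.OmegaAut Cfsg.Agent.Lib.Helper6.SimAut

section plus
variable {F : Type*} [Field F] [Fintype F] {m : ℕ}

/-- the vector `e₁ + f₁` -/
def ef1 (hm : 4 ≤ m) : Fin m ⊕ Fin m → F :=
  Pi.single (Sum.inl ⟨0, by omega⟩) 1 + Pi.single (Sum.inr ⟨0, by omega⟩) 1

theorem Q_ef1 (hm : 4 ≤ m) : QPlus F m (ef1 hm) = 1 := by
  rw [QPlus_apply]
  unfold Cfsg.quadFormPlus ef1
  rw [Finset.sum_eq_single (⟨0, by omega⟩ : Fin m)]
  · simp
  · intro b _ hb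
    simp [Pi.single_apply, hb]
  · intro h
    exact absurd (Finset.mem_univ _) h

theorem ef1_pow (hm : 4 ≤ m) (p : ℕ) (hp : p ≠ 0) (i : Fin m ⊕ Fin m) :
    (ef1 (F := F) hm i) ^ p = ef1 hm i := by
  unfold ef1
  rcases i with i | i
  · by_cases hi : i = ⟨0, by omega⟩
    · subst hi
      simp
    · simp [Pi.single_apply, hi, hp]
  · by_cases hi : i = ⟨0, by omega⟩
    · subst hi
      simp
    · simp [Pi.single_apply, hi, hp]

end plus

section main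
variable {F : Type*} [Field F] [Fintype F] {p f m : ℕ} [hp : Fact p.Prime]

set_option maxHeartbeats 3200000 in
/-- **`Out(PΩ⁺_{2m}(q))`**, `q` odd, `m ≥ 5` -/
theorem out_plus_odd (hf : 1 ≤ f) (hF : Fintype.card F = p ^ f) (hp2 : p ≠ 2) (hm : 5 ≤ m) :
    if p ^ f % 4 = 3 ∧ Odd m then
      Nonempty (Cfsg.Out (Cfsg.POmega F ⇑(QPlus F m)) ≃*
        Multiplicative (ZMod 2 × ZMod 2 × ZMod f))
    else Nonempty (Cfsg.Out (Cfsg.POmega F ⇑(QPlus F m)) ≃*
        DihedralGroup 4 × Multiplicative (ZMod f)) := by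
  classical
  have hm4 : 4 ≤ m := by omega
  have hfun : Cfsg.quadFormPlus m F = ⇑(QPlus F m) := (funext (QPlus_apply F m)).symm
  have hoddp : Odd p := hp.out.odd_of_ne_two hp2
  have hoddF : Odd (Fintype.card F) := by rw [hF]; exact hoddp.pow
  have hS2724 := Cfsg.Agent.S2724.result (F := F) hoddF hm4
  have hS2723 := Cfsg.Agent.S2723.result (F := F) hoddF hm4
  rw [hfun] at hS2724 hS2723
  haveI := std_QPlus (F := F) hm4
  haveI : CharP F p := charP_of_card_pow' hF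
  have hP : HP (QPlus F m) := by
    apply HP_of_nine
    rw [card_KK]; omega
  have h2 : (2 : F) ≠ 0 := two_ne_zero_of_oddp (p := p) hoddp
  have hnd := nondegenerate_QPlus F m
  have h5 : 5 ≤ Fintype.card (Fin m ⊕ Fin m) := by rw [card_KK]; omega
  have heven : Even (Fintype.card (Fin m ⊕ Fin m)) := by
    rw [card_KK]; exact ⟨m, by ring⟩
  have hI : Nat.card (Cfsg.Inn (Cfsg.POmega F ⇑(QPlus F m))) =
      Nat.card (Cfsg.POmega F ⇑(QPlus F m)) :=
    card_Inn_of_perfect_quot (Omega_perfect (QPlus F m) hnd h5)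
  have hAut := card_aut_eq p hP (fun σ => ⟨fieldPlus F m σ, rfl⟩)
  have hcardOut : Nat.card (Cfsg.Out (Cfsg.POmega F ⇑(QPlus F m))) =
      (if Odd m ∧ Fintype.card F % 4 = 3 then 4 else 8) * f := by
    have h3 := Subgroup.card_eq_card_quotient_mul_card_subgroup
      (Cfsg.Inn (Cfsg.POmega F ⇑(QPlus F m)))
    rw [hAut, card_pgoAut_plus_odd hoddF hm4, card_ringAut' hF hf, hI] at h3
    have hpos : 0 < Nat.card (Cfsg.POmega F ⇑(QPlus F m)) := by
      rw [← hI]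
      exact Nat.card_pos
    apply Nat.eq_of_mul_eq_mul_right hpos
    rw [← h3]
    ring
  haveI : Finite (Cfsg.Out (Cfsg.POmega F ⇑(QPlus F m))) := by
    apply Nat.finite_of_card_ne_zero
    rw [hcardOut]
    split_ifs <;> omega
  have hInn : Cfsg.Inn (Cfsg.POmega F ⇑(QPlus F m)) ≤ (psiO p hP).ker := by
    rw [psiO_ker]
    exact Inn_le_pgoAut _
  set Φ₀ : SemiSimO (QPlus F m) := fieldPlus F m (frobP p) with hΦ₀
  have hΦ₀σ : ∀ x, Φ₀.σ x = x ^ p := fun x => rfl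
  set ψb : Cfsg.Out (Cfsg.POmega F ⇑(QPlus F m)) →* RingAut F :=
    QuotientGroup.lift _ (psiO p hP) hInn with hψb
  set x : Cfsg.Out (Cfsg.POmega F ⇑(QPlus F m)) := QuotientGroup.mk Φ₀.gam with hx
  have hordx : orderOf (ψb x) = f := by
    rw [hψb, hx, QuotientGroup.lift_mk, psiO_gam]
    exact orderOf_frobP p hf hF
  have hxf : x ^ f = 1 := by
    have h1 : Φ₀.gam = fldPlus hm4 (frobP p) := rfl
    rw [hx, h1, ← QuotientGroup.mk_pow, ← map_pow]
    have h3 : (frobP p : RingAut F) ^ f = 1 := by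
      rw [← orderOf_frobP p hf hF]
      exact pow_orderOf_eq_one _
    rw [h3, map_one]
    rfl
  have hkerψ : ∀ δ : MulAut (Cfsg.POmega F ⇑(QPlus F m)),
      (QuotientGroup.mk δ : Cfsg.Out (Cfsg.POmega F ⇑(QPlus F m))) ∈ ψb.ker ↔
        δ ∈ Cfsg.pgoAut F ⇑(QPlus F m) := by
    intro δ
    rw [MonoidHom.mem_ker, hψb, QuotientGroup.lift_mk, ← MonoidHom.mem_ker, psiO_ker]
  have hmkmul : ∀ a b : MulAut (Cfsg.POmega F ⇑(QPlus F m)),
      (QuotientGroup.mk a : Cfsg.Out (Cfsg.POmega F ⇑(QPlus F m))) * QuotientGroup.mk b =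
        QuotientGroup.mk (a * b) := fun a b => rfl
  have hmkinv : ∀ a : MulAut (Cfsg.POmega F ⇑(QPlus F m)),
      (QuotientGroup.mk a : Cfsg.Out (Cfsg.POmega F ⇑(QPlus F m)))⁻¹ =
        QuotientGroup.mk a⁻¹ := fun a => rfl
  have hcond : (p ^ f % 4 = 3 ∧ Odd m) ↔ (Odd m ∧ Fintype.card F % 4 = 3) := by
    rw [hF]
    exact and_comm
  by_cases hc : p ^ f % 4 = 3 ∧ Odd m
  · rw [if_pos hc]
    have hc' := hcond.mp hc
    rw [if_pos hc'] at hcardOut
    obtain ⟨φ, hφ, hker⟩ := hS2724.1 hc'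
    obtain ⟨e⟩ := ker_lift_equiv (Cfsg.Inn (Cfsg.POmega F ⇑(QPlus F m)))
      (Cfsg.pgoAut F ⇑(QPlus F m)) (psiO p hP) (psiO_ker p hP) hInn φ hφ hker
    have hpso : Cfsg.psoAut F ⇑(QPlus F m) ≤ Cfsg.Inn (Cfsg.POmega F ⇑(QPlus F m)) :=
      Subgroup.relIndex_eq_one.mp (hS2723.1 hc')
    have hK : Nat.card ψb.ker = 4 := by
      rw [Nat.card_congr e.toEquiv, Nat.card_eq_fintype_card]
      rfl
    have hcent : ∀ k ∈ ψb.ker, x * k = k * x := by
      intro k hk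
      obtain ⟨δ, rfl⟩ := QuotientGroup.mk_surjective k
      rw [hkerψ] at hk
      obtain ⟨Δ, hΔσ, rfl⟩ := exists_lin_of_mem_pgoAut δ hk
      exact (comm_of_comm_mem _ _ _ (hpso (comm_mem_psoAut hoddp Φ₀ Δ hΦ₀σ hΔσ))).symm
    obtain ⟨e1⟩ := OutGrp.nonempty_mulEquiv_ker_prod hf hcardOut ψb x hordx hxf hK hcent
    have e2 : Multiplicative (ZMod 2 × ZMod 2) × Multiplicative (ZMod f) ≃*
        Multiplicative ((ZMod 2 × ZMod 2) × ZMod f) := prodMulEquiv _ _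
    have e3 : Multiplicative ((ZMod 2 × ZMod 2) × ZMod f) ≃*
        Multiplicative (ZMod 2 × ZMod 2 × ZMod f) :=
      AddEquiv.toMultiplicative AddEquiv.prodAssoc
    exact ⟨(e1.trans (MulEquiv.prodCongr e (MulEquiv.refl _))).trans (e2.trans e3)⟩
  · rw [if_neg hc]
    have hc' : ¬ (Odd m ∧ Fintype.card F % 4 = 3) := fun h => hc (hcond.mpr h)
    rw [if_neg hc'] at hcardOut
    obtain ⟨φ, hφ, hker⟩ := hS2724.2 hc'
    obtain ⟨e⟩ := ker_lift_equiv (Cfsg.Inn (Cfsg.POmega F ⇑(QPlus F m)))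
      (Cfsg.pgoAut F ⇑(QPlus F m)) (psiO p hP) (psiO_ker p hP) hInn φ hφ hker
    have hidx2 : (Cfsg.Inn (Cfsg.POmega F ⇑(QPlus F m))).relIndex
        (Cfsg.psoAut F ⇑(QPlus F m)) = 2 := hS2723.2 hc'
    have hIP : Cfsg.Inn (Cfsg.POmega F ⇑(QPlus F m)) ≤ Cfsg.psoAut F ⇑(QPlus F m) :=
      Inn_le_psoAut _
    have hPG : Cfsg.psoAut F ⇑(QPlus F m) ≤ Cfsg.pgoAut F ⇑(QPlus F m) := psoAut_le_pgoAut _
    -- an element of the image of `SO` that is not inner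
    obtain ⟨ζ, hζP, hζI⟩ : ∃ ζ ∈ Cfsg.psoAut F ⇑(QPlus F m),
        ζ ∉ Cfsg.Inn (Cfsg.POmega F ⇑(QPlus F m)) := by
      by_contra hcon
      push Not at hcon
      have h1 : Cfsg.psoAut F ⇑(QPlus F m) ≤ Cfsg.Inn (Cfsg.POmega F ⇑(QPlus F m)) := hcon
      rw [Subgroup.relIndex_eq_one.mpr h1] at hidx2
      omega
    have hi2 : ∀ a b : MulAut (Cfsg.POmega F ⇑(QPlus F m)),
        a ∈ Cfsg.psoAut F ⇑(QPlus F m) → b ∈ Cfsg.psoAut F ⇑(QPlus F m) →
        (a * b ∈ Cfsg.Inn (Cfsg.POmega F ⇑(QPlus F m)) ↔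
          (a ∈ Cfsg.Inn (Cfsg.POmega F ⇑(QPlus F m)) ↔
            b ∈ Cfsg.Inn (Cfsg.POmega F ⇑(QPlus F m)))) := by
      intro a b ha hb
      have h3 := Subgroup.mul_mem_iff_of_index_two (H := (Cfsg.Inn (Cfsg.POmega F
        ⇑(QPlus F m))).subgroupOf (Cfsg.psoAut F ⇑(QPlus F m))) hidx2 (a := ⟨a, ha⟩) (b := ⟨b, hb⟩)
      rw [Subgroup.mem_subgroupOf, Subgroup.mem_subgroupOf, Subgroup.mem_subgroupOf] at h3
      exact h3
    set z : Cfsg.Out (Cfsg.POmega F ⇑(QPlus F m)) := QuotientGroup.mk ζ with hz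
    have hzK : z ∈ ψb.ker := (hkerψ ζ).mpr (hPG hζP)
    have hz2 : z * z = 1 := by
      rw [hz, hmkmul, QuotientGroup.eq_one_iff]
      exact (hi2 ζ ζ hζP hζP).mpr Iff.rfl
    have hz1 : z ≠ 1 := by
      intro h
      rw [hz, QuotientGroup.eq_one_iff] at h
      exact hζI h
    -- the reflection
    have ha₁ : QPlus F m (ef1 hm4) ≠ 0 := by rw [Q_ef1]; exact one_ne_zero
    set R : SemiSimO (QPlus F m) := reflSemi (ef1 hm4) ha₁ with hR
    set u : Cfsg.Out (Cfsg.POmega F ⇑(QPlus F m)) := QuotientGroup.mk R.gam with hu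
    have huK : u ∈ ψb.ker := (hkerψ _).mpr (gam_mem_pgoAut R rfl)
    have hu2 : u * u = 1 := by
      rw [hu, hmkmul, reflSemi_gam_sq]
      rfl
    have hu1 : u ≠ 1 := by
      intro h
      rw [hu, QuotientGroup.eq_one_iff] at h
      exact gam_not_mem_Inn_odd p h2 heven R rfl (ef1 hm4) ha₁ (fun x => rfl) h
    have huz : u ≠ z := by
      intro h
      rw [hu, hz] at h
      have h1 := QuotientGroup.eq.mp h
      have h3 := Subgroup.mul_mem _ hζP (Subgroup.inv_mem _ (hIP h1))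
      rw [_root_.mul_inv_rev, inv_inv, mul_inv_cancel_left] at h3
      exact reflSemi_not_mem_psoAut p h2 heven (ef1 hm4) ha₁ h3
    have hxu : x * u = u * x := by
      rw [hx, hu, hmkmul, hmkmul]
      congr 1
      apply reflSemi_comm Φ₀ rfl
      funext i
      rw [hΦ₀, fieldPlus_S]
      exact ef1_pow hm4 p hp.out.ne_zero i
    have hxk : ∀ k ∈ ψb.ker, x * k * x⁻¹ * k⁻¹ = 1 ∨ x * k * x⁻¹ * k⁻¹ = z := by
      intro k hk
      obtain ⟨δ, rfl⟩ := QuotientGroup.mk_surjective k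
      rw [hkerψ] at hk
      obtain ⟨Δ, hΔσ, rfl⟩ := exists_lin_of_mem_pgoAut δ hk
      have hω := comm_mem_psoAut hoddp Φ₀ Δ hΦ₀σ hΔσ
      rw [hx, hmkinv, hmkinv, hmkmul, hmkmul, hmkmul]
      by_cases hωI : Φ₀.gam * Δ.gam * Φ₀.gam⁻¹ * Δ.gam⁻¹ ∈ Cfsg.Inn (Cfsg.POmega F ⇑(QPlus F m))
      · left
        exact (QuotientGroup.eq_one_iff _).mpr hωI
      · right
        rw [hz]
        symm
        rw [QuotientGroup.eq]
        apply (hi2 ζ⁻¹ _ (Subgroup.inv_mem _ hζP) hω).mpr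
        constructor
        · intro h
          exact absurd (by simpa using Subgroup.inv_mem _ h) hζI
        · intro h
          exact absurd h hωI
    exact OutGrp.nonempty_mulEquiv_D4_prod hf hcardOut ψb x u z hordx hxf e huK hzK hu2 hz2 hu1
      huz hz1 hxu hxk

end main

end Cfsg.Agent.Lib.Helper6.Tri
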